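import Cfsg.Statements.S4567
import Cfsg.Agent.Lib.Char.Clifford
import Cfsg.Agent.Lib.Char.Formulas
import Cfsg.Agent.Lib.Char.Linear

set_option autoImplicit false
open Cfsg
open scoped ComplexConjugate

namespace Cfsg.Agent.S4567

/-- Let N be a central subgroup of the finite group G and ψ a faithful irreducible (hence degree-one) character of N. Call a coset g N special when every x ∈ G whose commutator x⁻¹ g⁻¹ x g lies in N actually commutes with g (this depends only on the coset). Then the number of irreducible characters of G whose restriction to N contains ψ equals the number of conjugacy classes of G/N consisting of special cosets. -/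
theorem result {G : Type*} [Group G] [Fintype G] (N : Subgroup G) [N.Normal] [Fintype N] (hN : N ≤ Subgroup.center G) (ψ : Cfsg.IrrCharacter ↥N) (hfaith : ∀ n : ↥N, (ψ : ↥N → ℂ) n = (ψ : ↥N → ℂ) 1 → n = 1) : Nat.card {χ : Cfsg.IrrCharacter G // Cfsg.classInner (fun n : ↥N => (χ : G → ℂ) n) (ψ : ↥N → ℂ) ≠ 0} = Nat.card {C : ConjClasses (G ⧸ N) // ∃ g : G, ConjClasses.mk (g : G ⧸ N) = C ∧ ∀ x : G, x⁻¹ * g⁻¹ * x * g ∈ N → x * g = g * x} := by
  classical
  haveI := Fintype.ofFinite (G ⧸ N)
  haveI : Finite (ConjClasses (G ⧸ N)) := Quotient.finite _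
  haveI := Fintype.ofFinite (ConjClasses (G ⧸ N))
  have hN0 : (Nat.card N : ℂ) ≠ 0 := by exact_mod_cast Nat.card_pos.ne'
  have hG0 : (Nat.card G : ℂ) ≠ 0 := Cfsg.Lib.Char.card_cast_ne_zero
  have hcen : ∀ (n : G), n ∈ N → ∀ x : G, n * x = x * n := fun n hn x =>
    (Subgroup.mem_center_iff.1 (hN hn) x).symm
  obtain ⟨lam, hlam⟩ := Cfsg.Lib.Char.exists_hom_of_degree_one ψ.2.isCharacter
    (Cfsg.Lib.Char.degree_eq_one_of_comm (fun a b => Subtype.ext (hcen a a.2 b)) ψ.2)
  -- special elements
  let Sp : G → Prop := fun g => ∀ n : N, IsConj g ((n : G) * g) → n = 1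
  have hSp : ∀ g : G, (∀ x : G, x⁻¹ * g⁻¹ * x * g ∈ N → x * g = g * x) ↔ Sp g := by
    intro g
    constructor
    · intro h n hn
      obtain ⟨x, hx⟩ := isConj_iff.1 hn
      have h1 : x⁻¹ * g⁻¹ * x * g = (g * x)⁻¹ * (n : G) * (g * x) := by
        have : (n : G) = x * g * x⁻¹ * g⁻¹ := by rw [hx, mul_inv_cancel_right]
        rw [this]; group
      have h2 := h x (by rw [h1, mul_assoc, hcen n n.2, inv_mul_cancel_left]; exact n.2)
      apply Subtype.ext
      have h3 : (n : G) = x * g * x⁻¹ * g⁻¹ := by rw [hx, mul_inv_cancel_right]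
      rw [h3, h2]; simp
    · intro h x hx
      set n : G := x * g * x⁻¹ * g⁻¹ with hn
      have h1 : n = (g * x) * (x⁻¹ * g⁻¹ * x * g) * (g * x)⁻¹ := by rw [hn]; group
      have hnN : n ∈ N := h1 ▸ (inferInstance : N.Normal).conj_mem _ hx _
      have h2 : n = 1 := congrArg Subtype.val (h ⟨n, hnN⟩ (isConj_iff.2 ⟨x, by
        show x * g * x⁻¹ = n * g
        rw [hn]; group⟩))
      rw [hn, mul_inv_eq_one, mul_inv_eq_iff_eq_mul] at h2
      exact h2
  have hSpN : ∀ (g : G) (n : N), Sp g → Sp ((n : G) * g) := by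
    intro g n h m hm
    refine h m ?_
    obtain ⟨x, hx⟩ := isConj_iff.1 hm
    refine isConj_iff.2 ⟨x, ?_⟩
    have h1 : x * ((n : G) * g) * x⁻¹ = (n : G) * (x * g * x⁻¹) := by
      rw [← mul_assoc x, ← hcen n n.2 x]; group
    rw [h1] at hx
    have h2 : (n : G) * (x * g * x⁻¹) = (n : G) * ((m : G) * g) := by
      rw [hx, ← mul_assoc, ← mul_assoc (n : G), hcen n n.2 m]
    exact mul_left_cancel h2
  -- multiplicativity
  have hmul : ∀ (χ : Cfsg.IrrCharacter G) (n : N) (g : G),
      (χ : G → ℂ) ((n : G) * g) * (χ : G → ℂ) 1 = (χ : G → ℂ) n * (χ : G → ℂ) g := by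
    intro χ n g
    have h := Cfsg.Lib.Char.sum_char_mul_conj χ.2 g (n : G)
    rw [Finset.sum_congr rfl (g := fun _ => (χ : G → ℂ) ((n : G) * g)) fun x _ => by
      rw [← hcen n n.2 x, mul_inv_cancel_right, hcen n n.2 g], Finset.sum_const, Finset.card_univ,
      nsmul_eq_mul, ← Nat.card_eq_fintype_card, mul_div_assoc, mul_assoc] at h
    rw [mul_left_cancel₀ hG0 h]
    have := χ.2.apply_one_ne_zero
    field_simp
  -- the indicator of lying over `ψ`
  have hind : ∀ χ : Cfsg.IrrCharacter G,
      ((if Cfsg.classInner (fun n : N => (χ : G → ℂ) n) (ψ : N → ℂ) ≠ 0 then 1 else 0 : ℕ) : ℂ) =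
        Cfsg.classInner (fun n : N => (χ : G → ℂ) n) (ψ : N → ℂ) / (χ : G → ℂ) 1 := by
    intro χ
    split_ifs with h
    · rw [Nat.cast_one]
      have horb : Cfsg.Lib.Char.twistOrbit N (ψ : N → ℂ) = {(ψ : N → ℂ)} := by
        ext φ
        rw [Cfsg.Lib.Char.mem_twistOrbit, Finset.mem_singleton]
        have hinv : ∀ g, Cfsg.Lib.Char.conjTwist N (ψ : N → ℂ) g = ψ := fun g => funext fun n => by
          rw [Cfsg.Lib.Char.conjTwist_apply]
          refine congrArg (ψ : N → ℂ) (Subtype.ext ?_)
          show g * (n : G) * g⁻¹ = n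
          rw [← hcen n n.2 g, mul_inv_cancel_right]
        exact ⟨fun ⟨g, hg⟩ => hg ▸ hinv g, fun e => ⟨1, e ▸ hinv 1⟩⟩
      have h1 := Cfsg.Lib.Char.clifford_res N χ.2 ψ.2 h
      rw [horb, Finset.sum_singleton] at h1
      have e2 := congrFun h1 1
      simp only [Pi.smul_apply, smul_eq_mul, OneMemClass.coe_one] at e2
      rw [hlam] at e2
      simp only [map_one, Units.val_one, mul_one] at e2
      rw [hlam, e2, div_self (fun h0 => χ.2.apply_one_ne_zero (e2.trans h0))]
    · rw [not_not] at h
      rw [h, zero_div, Nat.cast_zero]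
  -- the count
  have hcount : (Nat.card {χ : Cfsg.IrrCharacter G //
      Cfsg.classInner (fun n : N => (χ : G → ℂ) n) (ψ : N → ℂ) ≠ 0} : ℂ) =
      (Nat.card N : ℂ)⁻¹ * (Nat.card G : ℂ)⁻¹ * ∑ g : G, ∑ n : N, conj ((ψ : N → ℂ) n) *
        (if IsConj ((n : G) * g) g then
          (Nat.card (Subgroup.centralizer ({(n : G) * g} : Set G)) : ℂ) else 0) := by
    rw [Nat.card_eq_fintype_card, Fintype.card_subtype, Finset.card_filter, Nat.cast_sum]
    simp only [hind, ← Cfsg.Lib.Char.column_orthogonality, Finset.mul_sum]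
    refine Eq.trans (Finset.sum_congr rfl fun χ _ => ?_)
      ((Finset.sum_congr rfl fun g _ => Finset.sum_comm).trans Finset.sum_comm).symm
    have h1 := Cfsg.Lib.Char.classInner_irr_self χ.2
    rw [Cfsg.classInner] at h1
    conv_lhs => rw [← mul_one (Cfsg.classInner _ _ / _), ← h1]
    rw [Cfsg.classInner, Finset.mul_sum, Finset.mul_sum, Finset.sum_div, Finset.mul_sum, Finset.sum_comm]
    refine (Finset.sum_congr rfl fun g _ => ?_).trans Finset.sum_comm
    rw [Finset.sum_mul]
    refine Finset.sum_congr rfl fun n _ => ?_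
    rw [eq_div_of_mul_eq χ.2.apply_one_ne_zero (hmul χ n g)]; ring
  -- each inner sum
  have hinner : ∀ g : G, ∑ n : N, conj ((ψ : N → ℂ) n) *
      (if IsConj ((n : G) * g) g then
          (Nat.card (Subgroup.centralizer ({(n : G) * g} : Set G)) : ℂ) else 0) =
      if Sp g then (Nat.card (Subgroup.centralizer ({g} : Set G)) : ℂ) else 0 := by
    intro g
    by_cases hg : Sp g
    · rw [if_pos hg, Finset.sum_eq_single (1 : N) (fun n _ hn => by
        rw [if_neg fun h => hn (hg n h.symm), mul_zero]) (fun h => absurd (Finset.mem_univ _) h),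
        hlam, OneMemClass.coe_one, one_mul, if_pos (IsConj.refl g)]
      simp
    · rw [if_neg hg]
      simp only [Sp, not_forall] at hg
      obtain ⟨m, hm, hm1⟩ := hg
      set T := ∑ n : N, conj ((ψ : N → ℂ) n) *
        (if IsConj ((n : G) * g) g then
          (Nat.card (Subgroup.centralizer ({(n : G) * g} : Set G)) : ℂ) else 0) with hT
      have hshift : ∀ n : N, IsConj ((n : G) * g) (((m * n : N) : G) * g) := by
        intro n
        obtain ⟨x, hx⟩ := isConj_iff.1 hm
        refine isConj_iff.2 ⟨x, ?_⟩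
        calc x * ((n : G) * g) * x⁻¹ = (x * (n : G)) * g * x⁻¹ := by group
          _ = (n : G) * (x * g * x⁻¹) := by rw [← hcen n n.2 x]; group
          _ = _ := by rw [hx, Subgroup.coe_mul, ← mul_assoc, hcen n n.2 (m : G)]
      have hT' : T = conj ((ψ : N → ℂ) m) * T := by
        conv_lhs => rw [hT, ← Equiv.sum_comp (Equiv.mulLeft m)]
        rw [hT, Finset.mul_sum]
        refine Finset.sum_congr rfl fun n _ => ?_
        simp only [Equiv.coe_mulLeft]
        rw [hlam]
        simp only [map_mul, Units.val_mul]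
        rw [mul_assoc]
        congr 2
        by_cases h : IsConj ((n : G) * g) g
        · rw [if_pos h]
          refine (if_pos ((hshift n).symm.trans h)).trans ?_
          obtain ⟨x, hx⟩ := isConj_iff.1 (hshift n)
          rw [← hx]
          norm_cast
          rw [show Subgroup.centralizer ({x * ((n : G) * g) * x⁻¹} : Set G) =
            (Subgroup.centralizer ({(n : G) * g} : Set G)).map (MulAut.conj x).toMonoidHom from ?_,
            Subgroup.card_map_of_injective (MulAut.conj x).injective]
          ext y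
          simp only [Subgroup.mem_centralizer_iff, Set.mem_singleton_iff, forall_eq, Subgroup.mem_map,
            MulEquiv.coe_toMonoidHom, MulAut.conj_apply]
          refine ⟨fun hy => ⟨x⁻¹ * y * x, ?_, by group⟩, fun ⟨z, hz, e⟩ => ?_⟩
          · calc (n : G) * g * (x⁻¹ * y * x) = x⁻¹ * (x * ((n : G) * g) * x⁻¹ * y) * x := by group
              _ = _ := by rw [hy]; group
          · rw [← e]
            calc x * ((n : G) * g) * x⁻¹ * (x * z * x⁻¹) = x * (((n : G) * g) * z) * x⁻¹ := by group
              _ = _ := by rw [hz]; group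
        · rw [if_neg h]
          exact if_neg fun h' => h ((hshift n).trans h')
      by_contra hne
      have h1 : conj ((ψ : N → ℂ) m) = 1 := (mul_left_eq_self₀.1 hT'.symm).resolve_right hne
      refine hm1 (hfaith m ?_)
      have h2 := congrArg conj h1
      rw [Complex.conj_conj, map_one] at h2
      rw [h2, hlam]
      simp
  -- classes of special cosets
  have hC : ∀ C : ConjClasses (G ⧸ N), (∃ g : G, ConjClasses.mk (g : G ⧸ N) = C ∧
      ∀ x : G, x⁻¹ * g⁻¹ * x * g ∈ N → x * g = g * x) ↔
        ∀ g : G, ConjClasses.mk (g : G ⧸ N) = C → Sp g := by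
    intro C
    constructor
    · rintro ⟨g₀, rfl, hg₀⟩ g hg
      obtain ⟨q, hq⟩ := isConj_iff.1 (ConjClasses.mk_eq_mk_iff_isConj.1 hg).symm
      induction q using QuotientGroup.induction_on with
      | H c =>
        rw [← QuotientGroup.mk_mul, ← QuotientGroup.mk_inv, ← QuotientGroup.mk_mul, QuotientGroup.eq] at hq
        have h' : Sp (c * g₀ * c⁻¹) := by
          intro n hn
          refine (hSp g₀).1 hg₀ n ?_
          obtain ⟨x, hx⟩ := isConj_iff.1 hn
          refine isConj_iff.2 ⟨c⁻¹ * x * c, ?_⟩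
          calc c⁻¹ * x * c * g₀ * (c⁻¹ * x * c)⁻¹ = c⁻¹ * (x * (c * g₀ * c⁻¹) * x⁻¹) * c := by group
            _ = c⁻¹ * ((n : G) * c) * g₀ := by rw [hx]; group
            _ = _ := by rw [hcen n n.2 c]; group
        have := hSpN _ ⟨_, hq⟩ h'
        rwa [show (c * g₀ * c⁻¹)⁻¹ * g * (c * g₀ * c⁻¹) = g from by
          rw [hcen _ hq]; group] at this
    · intro h
      obtain ⟨q, rfl⟩ := C.exists_rep
      induction q using QuotientGroup.induction_on with
      | H c => exact ⟨c, rfl, (hSp c).2 (h c rfl)⟩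
  have hfibre : ∀ g : G, Sp g → (Nat.card (Subgroup.centralizer ({g} : Set G))) =
      Nat.card N * Nat.card (Subgroup.centralizer ({(g : G ⧸ N)} : Set (G ⧸ N))) := by
    intro g hg
    have hcomap : Subgroup.centralizer ({g} : Set G) =
        (Subgroup.centralizer ({(g : G ⧸ N)} : Set (G ⧸ N))).comap (QuotientGroup.mk' N) := by
      ext x
      simp only [Subgroup.mem_comap, QuotientGroup.mk'_apply, Subgroup.mem_centralizer_iff,
        Set.mem_singleton_iff, forall_eq]
      refine ⟨fun h => by rw [← QuotientGroup.mk_mul, h, QuotientGroup.mk_mul], fun h => ?_⟩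
      rw [← QuotientGroup.mk_mul, ← QuotientGroup.mk_mul, QuotientGroup.eq] at h
      have h' := (hSp g).2 hg x (by
        rw [mul_inv_rev] at h
        simpa [mul_assoc] using h)
      exact h'.symm
    set D := Subgroup.centralizer ({(g : G ⧸ N)} : Set (G ⧸ N)) with hD
    rw [hcomap]
    apply Nat.eq_of_mul_eq_mul_right (Nat.pos_of_ne_zero (Subgroup.index_ne_zero_of_finite (H := D)))
    conv_lhs => rw [← Subgroup.index_comap_of_surjective (f := QuotientGroup.mk' N) D
      (QuotientGroup.mk'_surjective N), Subgroup.card_mul_index]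
    rw [mul_assoc, Subgroup.card_mul_index, mul_comm, ← Subgroup.card_eq_card_quotient_mul_card_subgroup]
  have hsum : ∑ g : G, (if Sp g then (Nat.card (Subgroup.centralizer ({g} : Set G)) : ℂ) else 0) =
      (Nat.card N : ℂ) * (Nat.card G : ℂ) *
        (Nat.card {C : ConjClasses (G ⧸ N) // ∀ g : G, ConjClasses.mk (g : G ⧸ N) = C → Sp g}) := by
    rw [Nat.card_eq_fintype_card (α := {C : ConjClasses (G ⧸ N) // _}), Fintype.card_subtype,
      Finset.card_filter, Nat.cast_sum, Finset.mul_sum,
      ← Finset.sum_fiberwise Finset.univ (fun g : G => ConjClasses.mk (g : G ⧸ N))]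
    refine Finset.sum_congr rfl fun C _ => ?_
    by_cases h : ∀ g : G, ConjClasses.mk (g : G ⧸ N) = C → Sp g
    · rw [if_pos h, Nat.cast_one, mul_one]
      obtain ⟨q, rfl⟩ := C.exists_rep
      rw [Finset.sum_congr rfl (g := fun _ => ((Nat.card N * Nat.card (Subgroup.centralizer ({q} : Set (G ⧸ N))) : ℕ) : ℂ))
        fun g hg => ?_, Finset.sum_const, nsmul_eq_mul]
      · norm_cast
        rw [show (Finset.univ.filter fun g : G => ConjClasses.mk (g : G ⧸ N) = ConjClasses.mk q).card =
          Nat.card N * (Subgroup.centralizer ({q} : Set (G ⧸ N))).index from ?_]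
        · have h1 := Subgroup.index_mul_card (Subgroup.centralizer ({q} : Set (G ⧸ N)))
          have h2 := Subgroup.card_eq_card_quotient_mul_card_subgroup N
          rw [h2, ← h1]; ring
        · rw [← Cfsg.Lib.Char.card_classFinset,
            Finset.card_eq_sum_card_fiberwise (t := Cfsg.Lib.Char.classFinset q)
            (f := fun g : G => (g : G ⧸ N)) fun g hg => Cfsg.Lib.Char.mem_classFinset.2
              (ConjClasses.mk_eq_mk_iff_isConj.1 (Finset.mem_filter.1 hg).2).symm,
            Finset.sum_congr rfl (g := fun _ => Nat.card N) fun r hr => ?_, Finset.sum_const, smul_eq_mul,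
            mul_comm]
          induction r using QuotientGroup.induction_on with
          | H c =>
            rw [← Nat.card_eq_finsetCard]
            refine Nat.card_congr
              { toFun := fun g => ⟨(g : G) * c⁻¹, by
                  have hg := (Finset.mem_filter.1 g.2).2
                  rw [← QuotientGroup.eq_one_iff, QuotientGroup.mk_mul, hg, QuotientGroup.mk_inv, mul_inv_cancel]⟩
                invFun := fun n => ⟨(n : G) * c, by
                  have e : (((n : G) * c : G) : G ⧸ N) = (c : G ⧸ N) := by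
                    rw [QuotientGroup.mk_mul, (QuotientGroup.eq_one_iff _).2 n.2, one_mul]
                  refine Finset.mem_filter.2 ⟨Finset.mem_filter.2 ⟨Finset.mem_univ _, ?_⟩, e⟩
                  rw [e]
                  exact ConjClasses.mk_eq_mk_iff_isConj.2 (Cfsg.Lib.Char.mem_classFinset.1 hr).symm⟩
                left_inv := fun g => Subtype.ext (inv_mul_cancel_right _ _)
                right_inv := fun n => Subtype.ext (mul_inv_cancel_right _ _) }
      · have hg' := (Finset.mem_filter.1 hg).2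
        rw [if_pos (h g hg'), hfibre g (h g hg')]
        congr 2
        obtain ⟨w, hw⟩ := isConj_iff.1 (ConjClasses.mk_eq_mk_iff_isConj.1 hg')
        have e1 := Cfsg.Lib.Char.card_classFinset (g : G ⧸ N)
        have e2 := Cfsg.Lib.Char.card_classFinset q
        have e3 : Cfsg.Lib.Char.classFinset (g : G ⧸ N) = Cfsg.Lib.Char.classFinset q := by
          ext z
          rw [Cfsg.Lib.Char.mem_classFinset, Cfsg.Lib.Char.mem_classFinset]
          exact ⟨fun hh => (ConjClasses.mk_eq_mk_iff_isConj.1 hg').symm.trans hh,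
            fun hh => (ConjClasses.mk_eq_mk_iff_isConj.1 hg').trans hh⟩
        rw [e3, e2] at e1
        have f1 := Subgroup.index_mul_card (Subgroup.centralizer ({(g : G ⧸ N)} : Set (G ⧸ N)))
        have f2 := Subgroup.index_mul_card (Subgroup.centralizer ({q} : Set (G ⧸ N)))
        rw [← e1, ← f2] at f1
        exact Nat.eq_of_mul_eq_mul_left (Nat.pos_of_ne_zero Subgroup.index_ne_zero_of_finite) f1
    · rw [if_neg h, Nat.cast_zero, mul_zero]
      refine Finset.sum_eq_zero fun g hg => if_neg fun hs => h ((hC C).1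
        ⟨g, (Finset.mem_filter.1 hg).2, (hSp g).2 hs⟩)
  rw [Nat.card_congr (Equiv.subtypeEquivRight hC)]
  rw [Finset.sum_congr rfl fun g _ => hinner g, hsum] at hcount
  field_simp at hcount
  exact_mod_cast hcount

end Cfsg.Agent.S4567
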