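import Cfsg.Statements.S4568
import Cfsg.Agent.Lib.Block.PrimeInertia.Main
-- import your own Cfsg.Agent.* helpers here

set_option autoImplicit false
open Cfsg

namespace Cfsg.Agent.S4568

/-- Let G be a finite group with a commutative Sylow 2-subgroup P, let e be the index of the centralizer of P in the normalizer of P, and let M be a maximal ideal of the algebraic integers containing 2. If e is a prime number, then the principal 2-block has 2-regular rank e (e irreducible Brauer characters), and if moreover G is not solvable it contains exactly as many irreducible characters as P has elements. -/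
theorem result {G : Type*} [Group G] [Finite G] (M : Ideal Cfsg.AlgInt) (hM : Cfsg.IsPModular 2 M) (P : Sylow 2 G) (hab : IsMulCommutative P) (he : ((Subgroup.centralizer ((P : Subgroup G) : Set G)).relIndex (Subgroup.normalizer ((P : Subgroup G) : Set G))).Prime) : Cfsg.blockRank 2 (Cfsg.principalBlock M G) = (Subgroup.centralizer ((P : Subgroup G) : Set G)).relIndex (Subgroup.normalizer ((P : Subgroup G) : Set G)) ∧ (¬ Group.IsSolvable G → Nat.card (Cfsg.principalBlock M G) = Nat.card P) := by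
  classical
  haveI : Fact (Nat.Prime 2) := ⟨Nat.prime_two⟩
  haveI := Fintype.ofFinite G
  set K := Cfsg.oddCore G with hK
  haveI := Fintype.ofFinite (G ⧸ K)
  have hKodd : Odd (Nat.card K) := Cfsg.Lib.AbTwo.odd_oddCore
  have hK2 : ¬ 2 ∣ Nat.card K := Cfsg.Lib.AbTwo.not_dvd_of_odd hKodd
  set f := QuotientGroup.mk' K with hf
  have hfs : Function.Surjective f := QuotientGroup.mk'_surjective K
  let P' : Sylow 2 (G ⧸ K) := P.mapSurjective hfs
  have hP' : (P' : Subgroup (G ⧸ K)) = (P : Subgroup G).map f := Sylow.coe_mapSurjective hfs P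
  have hab' : IsMulCommutative (P' : Subgroup (G ⧸ K)) := by
    refine ⟨⟨fun a b => Subtype.ext ?_⟩⟩
    obtain ⟨x, hx, hxa⟩ := hP'.le a.2
    obtain ⟨y, hy, hyb⟩ := hP'.le b.2
    show (a : G ⧸ K) * b = b * a
    rw [← hxa, ← hyb, ← map_mul, ← map_mul]
    exact congrArg f
      (congrArg Subtype.val (hab.is_comm.comm (⟨x, hx⟩ : (P : Subgroup G)) ⟨y, hy⟩))
  have he' := Cfsg.Lib.Block.PrimeInertia.relIndex_quotient P K hKodd P' hP'
  have hO : Cfsg.oddCore (G ⧸ K) = ⊥ := Cfsg.Lib.Core.pPrimeCore_quotient_eq_bot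
  obtain ⟨hk, hl⟩ := Cfsg.Lib.Block.PrimeInertia.principal_quotient hM K hK2
  have hcard : Nat.card (P' : Subgroup (G ⧸ K)) = Nat.card (P : Subgroup G) := by
    rw [hP']
    refine (Nat.card_congr (Equiv.ofBijective
      (fun x : (P : Subgroup G) => (⟨f x, Subgroup.mem_map_of_mem f x.2⟩ : (P : Subgroup G).map f))
      ⟨fun a b h => Subtype.ext ?_, fun y => ?_⟩)).symm
    · have h1 : (a : G)⁻¹ * b ∈ (P : Subgroup G) ⊓ K :=
        Subgroup.mem_inf.2 ⟨mul_mem (inv_mem a.2) b.2, QuotientGroup.eq.1 (congrArg Subtype.val h)⟩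
      have hbot : (P : Subgroup G) ⊓ K = ⊥ := by
        refine Subgroup.inf_eq_bot_of_coprime ?_
        obtain ⟨n, hn⟩ := P.2.exists_card_eq
        rw [hn]
        exact Nat.Coprime.pow_left n (Nat.coprime_two_left.2 hKodd)
      rwa [hbot, Subgroup.mem_bot, inv_mul_eq_one] at h1
    · obtain ⟨x, hx, e⟩ := y.2
      exact ⟨⟨x, hx⟩, Subtype.ext e⟩
  rw [← hk, ← hl, ← he']
  rw [← he'] at he
  by_cases hsol : Group.IsSolvable (G ⧸ K)
  · haveI : Group.IsSolvable K := Cfsg.Agent.S0205.result hKodd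
    haveI := hsol
    refine ⟨?_, fun hns => absurd (Group.isSolvable_of_ker_le_range K.subtype f (by simp [hf])) hns⟩
    obtain ⟨hn, hC⟩ := Cfsg.Lib.AbTwo.sylow_normal_of_core P' hab' hO
    haveI := hn
    refine Cfsg.Lib.Block.PrimeInertia.rank_of_normal hM P' hC ?_ he
    rw [Subgroup.normalizer_eq_top, Subgroup.relIndex_top_right]
    refine congrArg Subgroup.index (le_antisymm (fun x hx => ?_) hC)
    exact Subgroup.mem_centralizer_iff.2 fun y hy =>
      congrArg Subtype.val (hab'.is_comm.comm (⟨y, hy⟩ : (P' : Subgroup (G ⧸ K))) ⟨x, hx⟩)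
  · obtain ⟨h1, h2⟩ := Cfsg.Lib.Block.PrimeInertia.invariants_of_core hM P' hab' he hO hsol
    exact ⟨h1, fun _ => h2.trans hcard⟩

end Cfsg.Agent.S4568
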