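import Cfsg.Statements.S4573
import Cfsg.Agent.Lib.Char.WreathMonomial
import Cfsg.Agent.Lib.Solv.Schmidt

set_option autoImplicit false
universe u
open Cfsg

namespace Cfsg.Agent.S4573

open Cfsg.Lib.Char in
theorem exists_monomial_overgroup : ∀ (c : ℕ) (G : Type u) [Group G] [Finite G],
    Nat.card G = c → Group.IsSolvable G → ∃ (M : Type u) (_ : Group M) (_ : Fintype M),
      IsMonomialGroup M ∧ ∃ f : G →* M, Function.Injective f := by
  intro c
  induction c using Nat.strong_induction_on with
  | _ c ih =>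
  intro G _ _ hc hsolv
  classical
  haveI := hsolv
  haveI := Fintype.ofFinite G
  rcases subsingleton_or_nontrivial G with hG | hG
  · refine ⟨G, inferInstance, inferInstance, fun χ hχ => ⟨⊤, 1, ?_⟩,
      MonoidHom.id G, Function.injective_id⟩
    haveI := Fintype.ofFinite (⊤ : Subgroup G)
    have hχ1 : χ 1 = 1 := degree_eq_one_of_comm (fun a b => Subsingleton.elim _ _) hχ
    funext g
    rw [Subsingleton.elim g 1, indFun_apply_one, hχ1, Subgroup.index_top]
    simp
  obtain ⟨N, hN, hp⟩ := Cfsg.Lib.Schmidt.exists_normal_prime_index (G := G)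
  haveI := hN
  have hlt : Nat.card N < c := by
    rw [← hc, ← N.card_mul_index]
    exact lt_mul_right Nat.card_pos hp.one_lt
  obtain ⟨D, hDg, hDf, hD, f, hf⟩ := ih _ hlt N rfl inferInstance
  haveI := Fintype.ofFinite (G ⧸ N)
  haveI := Fintype.ofFinite (D ≀ᵣ (G ⧸ N))
  obtain ⟨e, he⟩ := Wreath.exists_embedding N
  exact ⟨D ≀ᵣ (G ⧸ N), inferInstance, inferInstance,
    isMonomialGroup_wreath (by rwa [← Subgroup.index_eq_card]) hD,
    (Wreath.mapLeft f).comp e, (Wreath.mapLeft_injective hf).comp he⟩

/-- Every finite solvable group is isomorphic to a subgroup of a finite M-group, a group each of whose irreducible characters is induced from a homomorphism of some subgroup into ℂˣ. -/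
theorem result {G : Type u} [Group G] [Finite G] (hsolv : Group.IsSolvable G) : ∃ (M : Type u) (_ : Group M) (_ : Fintype M), (∀ χ : M → ℂ, Cfsg.IsIrrCharacter M χ → (∃ (H : Subgroup M) (lam : ↥H →* ℂˣ), χ = Cfsg.indFun H (fun h => (lam h : ℂ)))) ∧ ∃ f : G →* M, Function.Injective f := by
  exact exists_monomial_overgroup (Nat.card G) G rfl hsolv

end Cfsg.Agent.S4573
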