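import Cfsg.Statements.S4574
import Cfsg.Agent.Lib.Block.CosetAverage
import Cfsg.Agent.Lib.Char.Orthogonality

set_option autoImplicit false
open Cfsg

namespace Cfsg.Agent.S4574

/-- Let χ be an irreducible character of the finite group G, of degree d, and let Z(χ) be the set of elements g with |χ g| = d (the centre of χ). Then χ vanishes on at least (d ^ 2 - 1) · |Z(χ)| elements of G, with equality when every value |χ g| is 0, 1 or d. -/
theorem result {G : Type*} [Group G] [Fintype G] [DecidableEq G] (χ : G → ℂ) (hχ : Cfsg.IsIrrCharacter G χ) : (Cfsg.charDegree χ ^ 2 - 1) * (Finset.univ.filter (fun g : G => ‖χ g‖ = (Cfsg.charDegree χ : ℝ))).card ≤ (Finset.univ.filter (fun g : G => χ g = 0)).card ∧ ((∀ g : G, ‖χ g‖ = 0 ∨ ‖χ g‖ = 1 ∨ ‖χ g‖ = (Cfsg.charDegree χ : ℝ)) → (Cfsg.charDegree χ ^ 2 - 1) * (Finset.univ.filter (fun g : G => ‖χ g‖ = (Cfsg.charDegree χ : ℝ))).card = (Finset.univ.filter (fun g : G => χ g = 0)).card) := by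
  classical
  obtain ⟨d, hd0, hd⟩ := hχ.exists_degree
  have hdeg : Cfsg.charDegree χ = d := by simp [Cfsg.charDegree, hd]
  rw [hdeg]
  have hψ := Cfsg.Lib.Block.isCharacter_normSq hχ.isCharacter
  obtain ⟨Z, hZ⟩ : ∃ Z : Finset G, Z = Finset.univ.filter (fun g : G => ‖χ g‖ = (d : ℝ)) := ⟨_, rfl⟩
  obtain ⟨O, hO⟩ : ∃ O : Finset G, O = Finset.univ.filter (fun g : G => χ g = 0) := ⟨_, rfl⟩
  obtain ⟨S, hS⟩ : ∃ S : Finset G, S = Finset.univ.filter
      (fun g : G => ¬ χ g = 0 ∧ ¬ ‖χ g‖ = (d : ℝ)) := ⟨_, rfl⟩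
  rw [← hZ, ← hO]
  have hcentral : ∀ g : G, ∀ k : ℕ, ‖χ g‖ = (d : ℝ) → ‖χ (g ^ k)‖ = (d : ℝ) := by
    intro g k hg
    obtain ⟨n, ρ, hρ, rfl⟩ := hχ
    have hn : n = d := by
      rw [Representation.char_one, Module.finrank_fin_fun] at hd
      exact_mod_cast hd
    subst hn
    have hc := (Cfsg.Lib.Char.norm_character_eq_iff ρ g).1 (by simpa using hg)
    obtain ⟨c, hc⟩ := hc
    have h := (Cfsg.Lib.Char.norm_character_eq_iff ρ (g ^ k)).2 ⟨c ^ k, by
      rw [map_pow, hc]
      exact smul_pow c LinearMap.id k |>.trans (by rw [← Module.End.one_eq_id, one_pow])⟩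
    simpa using h
  have hle : (S.card : ℝ) ≤ ∑ g ∈ S, ‖χ g‖ ^ 2 := by
    have h := Cfsg.Lib.Block.card_le_sum_of_nonneg hψ (fun g => by simp [← Complex.ofReal_pow])
      (fun g => by simp [← Complex.ofReal_pow]) S (fun g hg => by
        subst hS
        simp only [ne_eq, Complex.ofReal_eq_zero]
        exact pow_ne_zero _ (norm_ne_zero_iff.2 (Finset.mem_filter.1 hg).2.1)) (fun g hg k hk => by
        subst hS
        obtain ⟨-, hg0, hgd⟩ := Finset.mem_filter.1 hg
        refine Finset.mem_filter.2 ⟨Finset.mem_univ _, ?_, ?_⟩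
        · haveI : NeZero (Nat.card G) := ⟨Nat.card_pos.ne'⟩
          obtain ⟨σ, hσ⟩ := Cfsg.Lib.Char.exists_of_coprime hk
          rw [← Cfsg.Lib.Char.galois_charVal dvd_rfl hσ hχ.isCharacter g]
          intro h
          exact hg0 (congrArg Subtype.val (σ.toRingHom.injective (h.trans (map_zero σ).symm)))
        · intro h
          rcases Nat.lt_or_ge 1 (Nat.card G) with h1 | h1
          swap
          · haveI := Finite.card_le_one_iff_subsingleton.1 h1
            exact hgd (by rw [Subsingleton.elim g (g ^ k)]; exact h)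
          obtain ⟨j, -, hj⟩ := Nat.exists_mul_mod_eq_one_of_coprime hk h1
          apply hgd
          have hj' : k * j ≡ 1 [MOD Nat.card G] := by
            show k * j % Nat.card G = 1 % Nat.card G
            rw [Nat.one_mod_eq_one.2 h1.ne']
            exact hj
          have e : (g ^ k) ^ j = g := by
            rw [← pow_mul]
            have := pow_eq_pow_iff_modEq.2 (hj'.of_dvd (orderOf_dvd_natCard g))
            simpa using this
          rw [← e]
          exact hcentral _ _ h)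
    simpa [← Complex.ofReal_pow] using h
  have hsq : ∑ g : G, ‖χ g‖ ^ 2 = (Fintype.card G : ℝ) := by
    have h := Cfsg.Lib.Char.classInner_irr_self hχ
    rw [Cfsg.Lib.Char.classInner_self] at h
    have h' : (Nat.card G : ℝ)⁻¹ * ∑ g, ‖χ g‖ ^ 2 = 1 := by exact_mod_cast h
    rw [inv_mul_eq_iff_eq_mul₀ (Nat.cast_ne_zero.2 Nat.card_pos.ne'), mul_one,
      Nat.card_eq_fintype_card] at h'
    exact h'
  have hd' : (0 : ℝ) < d := by exact_mod_cast hd0
  have hpart : (∑ g ∈ Z, ‖χ g‖ ^ 2) + (∑ g ∈ O, ‖χ g‖ ^ 2) + (∑ g ∈ S, ‖χ g‖ ^ 2) =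
      ∑ g : G, ‖χ g‖ ^ 2 := by
    rw [hZ, hO, hS, Finset.sum_filter, Finset.sum_filter, Finset.sum_filter,
      ← Finset.sum_add_distrib, ← Finset.sum_add_distrib]
    refine Finset.sum_congr rfl fun g _ => ?_
    by_cases h0 : χ g = 0
    · simp [h0]
    · by_cases h1 : ‖χ g‖ = (d : ℝ) <;> simp [h0, h1]
  have hcard : (Z.card : ℝ) + O.card + S.card = (Fintype.card G : ℝ) := by
    rw [hZ, hO, hS, Finset.card_filter, Finset.card_filter, Finset.card_filter,
      ← Finset.card_univ, Finset.card_eq_sum_ones]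
    push_cast
    rw [← Finset.sum_add_distrib, ← Finset.sum_add_distrib]
    refine Finset.sum_congr rfl fun g _ => ?_
    by_cases h0 : χ g = 0
    · simp [h0, hd'.ne]
    · by_cases h1 : ‖χ g‖ = (d : ℝ) <;> simp [h0, h1]
  have hsZ : ∑ g ∈ Z, ‖χ g‖ ^ 2 = (Z.card : ℝ) * (d : ℝ) ^ 2 := by
    rw [Finset.sum_congr rfl (g := fun _ => (d : ℝ) ^ 2) fun g hg => by
      rw [hZ] at hg; rw [(Finset.mem_filter.1 hg).2], Finset.sum_const, nsmul_eq_mul]
  have hsO : ∑ g ∈ O, ‖χ g‖ ^ 2 = 0 :=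
    Finset.sum_eq_zero fun g hg => by
      rw [hO] at hg; rw [(Finset.mem_filter.1 hg).2]; simp
  have hd1 : 1 ≤ d ^ 2 := Nat.one_le_pow _ _ hd0
  constructor
  · have h : ((((d ^ 2 - 1) * Z.card : ℕ)) : ℝ) ≤ (O.card : ℝ) := by
      rw [Nat.cast_mul, Nat.cast_sub hd1]
      push_cast
      nlinarith
    exact_mod_cast h
  · intro hall
    have hS1 : ∑ g ∈ S, ‖χ g‖ ^ 2 = (S.card : ℝ) := by
      rw [Finset.sum_congr rfl (g := fun _ => (1 : ℝ)) fun g hg => by
        rw [hS] at hg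
        obtain ⟨-, h0, h1⟩ := Finset.mem_filter.1 hg
        rcases hall g with h | h | h
        · exact absurd (norm_eq_zero.1 h) h0
        · rw [h]; norm_num
        · exact absurd (hdeg ▸ h) h1, Finset.sum_const, nsmul_one]
    have h : ((((d ^ 2 - 1) * Z.card : ℕ)) : ℝ) = (O.card : ℝ) := by
      rw [Nat.cast_mul, Nat.cast_sub hd1]
      push_cast
      nlinarith
    exact_mod_cast h

end Cfsg.Agent.S4574
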