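import Cfsg.Statements.S4581
import Cfsg.Agent.Lib.Char.RealOddCondition
import Cfsg.Agent.Lib.PGroup.Basic
-- import your own Cfsg.Agent.* helpers here

set_option autoImplicit false
open Cfsg

namespace Cfsg.Agent.S4581

open Cfsg.Lib Cfsg.Lib.Char Cfsg.Lib.Char.RealOdd

attribute [local instance 100] Fintype.ofFinite

theorem commutator_eq_frattini_iff {S : Type*} [Group S] [Finite S] (hS : IsPGroup 2 S) :
    commutator S = frattini S ↔ ∀ μ : S →* ℂˣ, ∀ s, μ s * μ s = 1 := by
  haveI : Fact (Nat.Prime 2) := ⟨Nat.prime_two⟩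
  constructor
  · intro h μ s
    have h1 : s ^ 2 ∈ commutator S := h.symm ▸ Cfsg.Lib.PGroup.pow_mem_frattini hS s
    have h2 : μ (s ^ 2) = 1 := Abelianization.commutator_subset_ker μ h1
    rwa [map_pow, pow_two] at h2
  · intro h
    refine le_antisymm (Cfsg.Lib.PGroup.commutator_le_frattini hS)
      (Cfsg.Lib.PGroup.frattini_le_of_commutator_le_of_pow_mem (p := 2) le_rfl fun s => ?_)
    by_contra hs
    haveI : Finite (Abelianization S) := Quotient.finite _
    haveI : NeZero (Monoid.exponent (Abelianization S)) :=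
      ⟨Monoid.exponent_ne_zero_of_finite⟩
    obtain ⟨φ, hφ⟩ := CommGroup.exists_apply_ne_one_of_hasEnoughRootsOfUnity
      (Abelianization S) ℂ (a := Abelianization.of (s ^ 2)) (fun he => hs (by
        rwa [← MonoidHom.mem_ker, Abelianization.ker_of] at he))
    refine hφ ?_
    rw [pow_two, map_mul, map_mul]
    exact h (φ.comp Abelianization.of) s

/-- Let G be a finite solvable group, P a Sylow 2-subgroup and N its normalizer. Then G and N have the same number of real-valued irreducible characters of odd degree; and every odd-degree irreducible character of G is real-valued exactly when the derived subgroup of P equals the Frattini subgroup of P and P is its own normalizer in G. -/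
theorem result {G : Type*} [Group G] [Finite G] [Group.IsSolvable G] (P : Sylow 2 G) :
    Nat.card {χ : Cfsg.IrrCharacter G // (∀ g : G, ((χ : G → ℂ) g).im = 0) ∧ Odd (Cfsg.charDegree (χ : G → ℂ))} =
      Nat.card {ψ : Cfsg.IrrCharacter (Subgroup.normalizer ((P : Subgroup G) : Set G)) // (∀ g, ((ψ : Subgroup.normalizer ((P : Subgroup G) : Set G) → ℂ) g).im = 0) ∧ Odd (Cfsg.charDegree (ψ : Subgroup.normalizer ((P : Subgroup G) : Set G) → ℂ))} ∧
    ((∀ χ : Cfsg.IrrCharacter G, Odd (Cfsg.charDegree (χ : G → ℂ)) → ∀ g : G, ((χ : G → ℂ) g).im = 0) ↔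
      (commutator (P : Subgroup G) = frattini (P : Subgroup G) ∧ Subgroup.normalizer ((P : Subgroup G) : Set G) = (P : Subgroup G))) := by
  have hP := P.isPGroup'
  constructor
  · refine Eq.trans ?_ ((card_realOddChar_normalizer P).trans ?_)
    · exact Nat.card_congr (Equiv.subtypeEquivRight fun χ => and_congr isReal_iff_im.symm Iff.rfl)
    · exact Nat.card_congr (Equiv.subtypeEquivRight fun χ => and_congr isReal_iff_im Iff.rfl)
  · refine Iff.trans ?_ ((isReal_iff_cond (isSylowMap_subtype P)).trans ?_)
    · exact forall_congr' fun χ => imp_congr Iff.rfl isReal_iff_im.symm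
    refine and_congr ⟨fun h => ?_, fun h => ?_⟩ ⟨fun h => ?_, fun h => ?_⟩
    · exact (commutator_eq_frattini_iff hP).2 fun μ =>
        h μ (factors_of_injective Subtype.val_injective μ)
    · exact fun μ _ => (commutator_eq_frattini_iff hP).1 h μ
    · refine le_antisymm (fun n hn => ?_) Subgroup.le_normalizer
      have := h n fun s => ⟨⟨n * s * n⁻¹, (Subgroup.mem_normalizer_iff.1 hn _).1 s.2⟩, rfl⟩
      rwa [Subgroup.range_subtype] at this
    · intro n hn
      rw [Subgroup.range_subtype]
      exact h.le (mem_normalizer_of_conj _ n hn)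

end Cfsg.Agent.S4581
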