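import Cfsg.Statements.S4582
import Mathlib.GroupTheory.Transfer
import Mathlib.GroupTheory.Sylow
import Mathlib.GroupTheory.Abelianization.Defs

set_option autoImplicit false
open Cfsg
open scoped commutatorElement

namespace Cfsg.Agent.S4582

/-- Let N be a normal subgroup of the finite group G, P a Sylow 2-subgroup of G and Q = P ∩ N. Suppose that P/QP' and Q/Q' are elementary abelian (every square of an element of P lies in the subgroup generated by Q and the derived subgroup of P, and every square of an element of Q lies in the derived subgroup of Q), and that the commutator factor group N/N' has odd order. Then P/P' is elementary abelian. -/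
theorem result {G : Type*} [Group G] [Finite G] (N : Subgroup G) [N.Normal] (P : Sylow 2 G)
    (hP : ∀ x ∈ (P : Subgroup G), x ^ 2 ∈ ((P : Subgroup G) ⊓ N) ⊔ ⁅(P : Subgroup G), (P : Subgroup G)⁆)
    (hQ : ∀ x ∈ (P : Subgroup G) ⊓ N, x ^ 2 ∈ ⁅(P : Subgroup G) ⊓ N, (P : Subgroup G) ⊓ N⁆)
    (hodd : Odd (Nat.card (Abelianization N))) :
    ∀ x ∈ (P : Subgroup G), x ^ 2 ∈ ⁅(P : Subgroup G), (P : Subgroup G)⁆ := by
  classical
  intro x hx
  have hcle : ⁅(P : Subgroup G), (P : Subgroup G)⁆ ≤ (P : Subgroup G) :=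
    Subgroup.commutator_le.mpr fun a ha b hb =>
      mul_mem (mul_mem (mul_mem ha hb) (inv_mem ha)) (inv_mem hb)
  -- the abelianisation of the Sylow subgroup
  set φ : ↥(P : Subgroup G) →* Abelianization ↥(P : Subgroup G) := Abelianization.of with hφ
  have hmapc : (commutator ↥(P : Subgroup G)).map (P : Subgroup G).subtype
      = ⁅(P : Subgroup G), (P : Subgroup G)⁆ := Subgroup.map_subtype_commutator _
  have hker : ∀ a : ↥(P : Subgroup G), φ a = 1 ↔ (a : G) ∈ ⁅(P : Subgroup G), (P : Subgroup G)⁆ := by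
    intro a
    rw [← MonoidHom.mem_ker, hφ, Abelianization.ker_of, ← hmapc]
    exact (Subgroup.mem_map_iff_mem (P : Subgroup G).subtype_injective).symm
  have hsqQ : ∀ a : ↥(P : Subgroup G), (a : G) ∈ N → φ a ^ 2 = 1 := by
    intro a ha
    rw [← map_pow, hker, Subgroup.coe_pow]
    exact Subgroup.commutator_mono inf_le_left inf_le_left (hQ _ ⟨a.2, ha⟩)
  -- transfer from `N P` to the abelianisation of `P`
  set H : Subgroup G := N ⊔ (P : Subgroup G) with hH
  have hPH : (P : Subgroup G) ≤ H := le_sup_right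
  set P₁ : Subgroup H := (P : Subgroup G).subgroupOf H with hP₁
  set ϕ : P₁ →* Abelianization ↥(P : Subgroup G) :=
    φ.comp (Subgroup.subgroupOfEquivOfLe hPH).toMonoidHom with hϕ
  haveI : P₁.FiniteIndex := inferInstance
  set V : H →* Abelianization ↥(P : Subgroup G) := MonoidHom.transfer ϕ with hV
  have hVN : ∀ h : H, (h : G) ∈ N → V h = 1 := by
    intro h hh
    let W : Abelianization N →* Abelianization ↥(P : Subgroup G) :=
      Abelianization.lift (V.comp (Subgroup.inclusion (le_sup_left : N ≤ H)))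
    have hW : W (Abelianization.of ⟨h, hh⟩) = V h := rfl
    haveI : Finite (Abelianization ↥(P : Subgroup G)) :=
      Finite.of_surjective _ QuotientGroup.mk_surjective
    haveI : Finite (Abelianization N) := Finite.of_surjective _ QuotientGroup.mk_surjective
    have h1 : orderOf (V h) ∣ Nat.card (Abelianization N) := by
      rw [← hW]
      exact (orderOf_map_dvd W _).trans (orderOf_dvd_natCard _)
    obtain ⟨i, hi⟩ := (IsPGroup.iff_orderOf.mp
      (P.isPGroup'.to_quotient (commutator ↥(P : Subgroup G)))) (V h)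
    have hi0 : i = 0 := by
      by_contra h0
      have h2 : 2 ∣ Nat.card (Abelianization N) := (hi ▸ dvd_pow_self 2 h0 : 2 ∣ orderOf (V h)).trans h1
      exact (Nat.not_even_iff_odd.mpr hodd) (even_iff_two_dvd.mpr h2)
    rw [hi0, pow_zero] at hi
    exact orderOf_eq_one_iff.mp hi
  set x' : H := ⟨x, hPH hx⟩ with hx'
  set xP : ↥(P : Subgroup G) := ⟨x, hx⟩ with hxP
  haveI := P₁.fintypeQuotientOfFiniteIndex
  haveI : Fintype (Quotient (MulAction.orbitRel (Subgroup.zpowers x') (H ⧸ P₁))) :=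
    Fintype.ofFinite _
  -- the square of the transfer value
  have hterm : ∀ (k : ℕ) (t : H) (hm : t⁻¹ * x' ^ k * t ∈ P₁),
      ϕ ⟨t⁻¹ * x' ^ k * t, hm⟩ ^ 2 = (φ xP ^ 2) ^ k := by
    intro k t hm
    have htG : (t : G) ∈ N ⊔ (P : Subgroup G) := t.2
    rw [Subgroup.mem_sup_of_normal_left] at htG
    obtain ⟨n, hn, a, ha, hta⟩ := htG
    set y : ↥(P : Subgroup G) := ⟨((t⁻¹ * x' ^ k * t : H) : G), hm⟩ with hy
    set aP : ↥(P : Subgroup G) := ⟨a, ha⟩ with haP
    set q : ↥(P : Subgroup G) := (xP ^ k)⁻¹ * (aP * y * aP⁻¹) with hq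
    have hqN : (q : G) ∈ N := by
      have h1 : (q : G) = (x ^ k)⁻¹ * (n⁻¹ * x ^ k * n) := by
        simp only [hq, hy, haP, hxP, hx', Subgroup.coe_mul, Subgroup.coe_inv, Subgroup.coe_pow, ← hta]
        group
      rw [h1, show (x ^ k)⁻¹ * (n⁻¹ * x ^ k * n) = ((x ^ k)⁻¹ * n⁻¹ * x ^ k) * n by group]
      refine mul_mem ?_ hn
      simpa using ‹N.Normal›.conj_mem _ (inv_mem hn) (x ^ k)⁻¹
    have h2 : φ y = φ xP ^ k * φ q := by
      rw [hq, map_mul, map_mul, map_mul, map_inv, map_inv, map_pow, mul_inv_cancel_left,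
        mul_comm (φ aP), mul_inv_cancel_right]
    show φ y ^ 2 = _
    rw [h2, mul_pow, hsqQ q hqN, mul_one, ← pow_mul, ← pow_mul, mul_comm]
  have hVx : V x' ^ 2 = (φ xP ^ 2) ^ P₁.index := by
    rw [hV, MonoidHom.transfer_eq_prod_quotient_orbitRel_zpowers_quot, ← Finset.prod_pow,
      Finset.prod_congr rfl fun q _ => hterm _ _ _, Finset.prod_pow_eq_pow_sum,
      ← Subgroup.index_eq_sum_minimalPeriod]
  -- the square of the transfer value is trivial
  have hx2 : x ^ 2 ∈ N ⊔ ⁅(P : Subgroup G), (P : Subgroup G)⁆ :=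
    (sup_le_sup_right inf_le_right _ : ((P : Subgroup G) ⊓ N) ⊔ _ ≤ N ⊔ _) (hP x hx)
  rw [Subgroup.mem_sup_of_normal_left] at hx2
  obtain ⟨n, hn, c, hc, hnc⟩ := hx2
  have hVx0 : V x' ^ 2 = 1 := by
    have e : x' ^ 2 = (⟨n, (le_sup_left : N ≤ H) hn⟩ : H) * ⟨c, hPH (hcle hc)⟩ := Subtype.ext hnc.symm
    rw [← map_pow, e, map_mul, hVN _ hn, one_mul, ← MonoidHom.mem_ker]
    apply Abelianization.commutator_subset_ker V
    have h1 : ⁅(P : Subgroup G), (P : Subgroup G)⁆ ≤ ⁅H, H⁆ := Subgroup.commutator_mono hPH hPH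
    have h2 := h1 hc
    rw [← Subgroup.map_subtype_commutator H] at h2
    obtain ⟨z, hz, hzc⟩ := h2
    rwa [show (⟨c, hPH (hcle hc)⟩ : H) = z from Subtype.ext hzc.symm]
  have hidx : Odd P₁.index := by
    have h1 : P₁.index ∣ (P : Subgroup G).index :=
      Dvd.intro _ (Subgroup.relIndex_mul_index hPH)
    exact Odd.of_dvd_nat (Nat.odd_iff.mpr (Nat.mod_two_ne_zero.mp fun h =>
      P.not_dvd_index (Nat.dvd_of_mod_eq_zero h))) h1
  have h4 : (φ xP ^ 2) ^ 2 = 1 := by
    have hnP : n ∈ (P : Subgroup G) := by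
      have : n = x ^ 2 * c⁻¹ := by rw [← hnc, mul_inv_cancel_right]
      rw [this]
      exact mul_mem (pow_mem hx 2) (inv_mem (hcle hc))
    have e : xP ^ 2 = (⟨n, hnP⟩ : ↥(P : Subgroup G)) * ⟨c, hcle hc⟩ := Subtype.ext hnc.symm
    rw [← map_pow φ xP, e, map_mul, (hker ⟨c, hcle hc⟩).mpr hc, mul_one, hsqQ _ hn]
  rw [hVx] at hVx0
  obtain ⟨m, hm⟩ := hidx
  rw [hm, pow_succ, pow_mul, h4, one_pow, one_mul, ← map_pow, hker] at hVx0
  exact hVx0

end Cfsg.Agent.S4582
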