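import Cfsg.Statements.S4583
import Cfsg.Agent.Lib.Block.PrincipalDegree

set_option autoImplicit false
open Cfsg

set_option linter.style.haveILetI false

namespace Cfsg.Agent.S4583

/-- Let N be a normal subgroup of the finite group G, p a prime, M a maximal ideal of the algebraic integers containing p, and P a Sylow p-subgroup of G. Let θ be an irreducible character of N of degree prime to p lying in the principal p-block of N, and suppose θ extends to the subgroup NP (some irreducible character of NP restricts to θ). Then some irreducible character χ of G of degree prime to p in the principal p-block of G lies over θ (θ is a constituent of the restriction of χ to N). -/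
theorem result {G : Type*} [Group G] [Finite G] (N : Subgroup G) [N.Normal] (p : ℕ) [Fact p.Prime] (M : Ideal Cfsg.AlgInt) (hM : Cfsg.IsPModular p M) (P : Sylow p G)
    (θ : Cfsg.IrrCharacter N) (hθ : θ ∈ Cfsg.principalBlock M N) (hdeg : ¬ p ∣ Cfsg.charDegree (θ : N → ℂ))
    (hext : ∃ η : Cfsg.IrrCharacter ↥(N ⊔ (P : Subgroup G)), ∀ n : N, (η : ↥(N ⊔ (P : Subgroup G)) → ℂ) (Subgroup.inclusion le_sup_left n) = (θ : N → ℂ) n) :
    ∃ χ : Cfsg.IrrCharacter G, χ ∈ Cfsg.principalBlock M G ∧ ¬ p ∣ Cfsg.charDegree (χ : G → ℂ) ∧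
      haveI := Fintype.ofFinite N; Cfsg.classInner (fun n : N => (χ : G → ℂ) n) (θ : N → ℂ) ≠ 0 := by
  classical
  haveI := Fintype.ofFinite G
  haveI := Fintype.ofFinite N
  obtain ⟨η, hη⟩ := hext
  have hp : p.Prime := Fact.out
  let H : Subgroup G := N ⊔ (P : Subgroup G)
  haveI := Fintype.ofFinite H
  have hNH : N ≤ H := le_sup_left
  have hPH : (P : Subgroup G) ≤ H := le_sup_right
  haveI : (N.subgroupOf H).Normal := Subgroup.Normal.subgroupOf ‹N.Normal› H
  -- regular elements of `H` lie in `N`
  have hidx : ∃ a, (N.subgroupOf H).index = p ^ a := by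
    obtain ⟨b, hb⟩ := P.2.exists_card_eq
    have hrel : (N.subgroupOf H).index ∣ p ^ b := by
      show N.relIndex (N ⊔ (P : Subgroup G)) ∣ _
      rw [sup_comm, Subgroup.relIndex_sup_right, ← hb]
      exact Subgroup.relIndex_dvd_card _ _
    obtain ⟨a, -, ha⟩ := (Nat.dvd_prime_pow hp).mp hrel
    exact ⟨a, ha⟩
  have hreg : ∀ h : H, IsPRegular p h → (h : G) ∈ N := by
    intro h hh
    obtain ⟨a, ha⟩ := hidx
    have h1 : orderOf ((h : H) : H ⧸ N.subgroupOf H) ∣ p ^ a := by
      rw [← ha, Subgroup.index_eq_card]; exact orderOf_dvd_natCard _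
    have h2 : orderOf ((h : H) : H ⧸ N.subgroupOf H) ∣ orderOf h :=
      orderOf_map_dvd (QuotientGroup.mk' (N.subgroupOf H)) h
    have h3 : orderOf ((h : H) : H ⧸ N.subgroupOf H) = 1 :=
      Nat.eq_one_of_dvd_coprimes (Nat.Coprime.pow_left a (hp.coprime_iff_not_dvd.mpr hh)) h1 h2
    exact (QuotientGroup.eq_one_iff h).mp (orderOf_eq_one_iff.mp h3)
  have htot : Lib.Block.regTotal p (η : H → ℂ) = Lib.Block.regTotal p (θ : N → ℂ) := by
    unfold Lib.Block.regTotal
    refine (Finset.sum_bij_ne_zero (fun n _ _ => Subgroup.inclusion hNH n)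
      (fun n _ _ => Finset.mem_univ _) (fun a _ _ b _ _ hab => Subgroup.inclusion_injective hNH hab)
      (fun h _ hne => ?_) fun n _ _ => ?_).symm
    · have hh : IsPRegular p h := by_contra fun hh => hne (Lib.Block.pRegularPart_of_sing hh)
      have hn : IsPRegular p (⟨h, hreg h hh⟩ : N) := by
        simpa [IsPRegular, ← Subgroup.orderOf_coe] using hh
      refine ⟨⟨h, hreg h hh⟩, Finset.mem_univ _, ?_, rfl⟩
      rw [Lib.Block.pRegularPart_of_reg hn]
      rw [Lib.Block.pRegularPart_of_reg hh] at hne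
      exact fun h0 => hne ((hη ⟨h, hreg h hh⟩).trans h0)
    · by_cases hn : IsPRegular p n
      · have hh : IsPRegular p (Subgroup.inclusion hNH n) := by
          simpa [IsPRegular, ← Subgroup.orderOf_coe] using hn
        rw [Lib.Block.pRegularPart_of_reg hn, Lib.Block.pRegularPart_of_reg hh]
        exact (hη n).symm
      · have hh : ¬ IsPRegular p (Subgroup.inclusion hNH n) := by
          simpa [IsPRegular, ← Subgroup.orderOf_coe] using hn
        rw [Lib.Block.pRegularPart_of_sing hn, Lib.Block.pRegularPart_of_sing hh]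
  have hηmem : η ∈ principalBlock M H := by
    rw [Lib.Block.mem_principal_iff_regSum hM]
    intro h0
    exact (Lib.Block.mem_principal_iff_regSum hM θ).mp hθ (htot.symm.trans h0)
  have hηdeg : charDegree (η : H → ℂ) = charDegree (θ : N → ℂ) := by
    have h1 := hη 1
    rw [map_one, Lib.Block.apply_one_eq_charDegree, Lib.Block.apply_one_eq_charDegree] at h1
    exact_mod_cast h1
  have hH : ¬ p ∣ H.index := fun h => P.not_dvd_index (h.trans (Subgroup.index_dvd_of_le hPH))
  have hΨ : ¬ MemLocalIdeal M (Lib.Block.regTotal p (indFun H (η : H → ℂ))) := by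
    rw [Lib.Block.regTotal_indFun]
    intro h
    refine Lib.Block.regTotal_not_mem hM η hηmem (hηdeg ▸ hdeg) ?_
    have h1 := Lib.Block.memLocalIdeal_mul_left hM (Lib.Block.inv_natCast_mem_locRing hM hH) h
    rwa [inv_mul_cancel_left₀ (Nat.cast_ne_zero.mpr Subgroup.index_ne_zero_of_finite)] at h1
  obtain ⟨χ, hχ, hχd, hχc⟩ := Lib.Block.exists_principal_constituent hM
    (Lib.Char.isCharacter_indFun H η.2.isCharacter) hΨ
  refine ⟨χ, hχ, hχd, ?_⟩
  rw [Lib.Char.classInner_indFun H _ χ.2.isClassFunction, ← Lib.Char.classInner_conj_symm] at hχc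
  have hres : IsCharacter H (fun h : H => (χ : G → ℂ) h) := χ.2.isCharacter.comp H.subtype
  haveI := Fintype.ofFinite (N.subgroupOf H)
  let eN := Subgroup.subgroupOfEquivOfLe hNH
  have hθ' := Lib.Char.isIrrCharacter_comp_equiv eN θ.2
  have hle := Lib.Char.classInner_res_le_of_constituent (N.subgroupOf H) hres η.2
    (fun h0 => hχc (by rw [h0, map_zero])) hθ'.isCharacter
  rw [show (fun x : N.subgroupOf H => (η : H → ℂ) x) = fun x => (θ : N → ℂ) (eN x) from
    funext fun x => hη (eN x), Lib.Char.classInner_irr_self hθ', Complex.one_re] at hle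
  intro h0
  replace h0 : classInner (fun x : N.subgroupOf H => (χ : G → ℂ) (eN x : N))
      (fun x => (θ : N → ℂ) (eN x)) = 0 := by
    rw [Lib.Char.classInner_comp_equiv eN (fun n : N => (χ : G → ℂ) n)]
    convert h0
  rw [show classInner (fun x : N.subgroupOf H => (fun h : H => (χ : G → ℂ) h) x)
    (fun x => (θ : N → ℂ) (eN x)) = 0 from h0, Complex.zero_re] at hle
  exact absurd hle (not_le.mpr one_pos)

end Cfsg.Agent.S4583
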