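import Cfsg.Statements.S4584
import Mathlib.GroupTheory.PGroup
import Mathlib.GroupTheory.SpecificGroups.Cyclic
import Mathlib.GroupTheory.Abelianization.Defs

set_option autoImplicit false
open Cfsg
open scoped commutatorElement

namespace Cfsg.Agent.S4584

variable {P : Type*} [Group P]

/-- Let p be a prime and P a group of order p^4. Then the derived subgroup P' has order p if and only if the centre Z(P) has index p^2 in P. -/
theorem result {P : Type*} [Group P] [Finite P] (p : ℕ) [Fact p.Prime] (hP : Nat.card P = p ^ 4) :
    Nat.card (commutator P) = p ↔ (Subgroup.center P).index = p ^ 2 := by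
  have hp : p.Prime := Fact.out
  have hPG : IsPGroup p P := IsPGroup.of_card hP
  have hcom : ∀ a b : P, ⁅a, b⁆ ∈ commutator P := fun a b =>
    Subgroup.commutator_mem_commutator (Subgroup.mem_top a) (Subgroup.mem_top b)
  -- abelian if the index of the centre is at most `p`
  have hsmall : (Subgroup.center P).index ∣ p → ∀ a b : P, a * b = b * a := by
    intro h
    have : IsCyclic (P ⧸ Subgroup.center P) := by
      rcases (Nat.dvd_prime hp).mp h with h1 | h1
      · have : Subsingleton (P ⧸ Subgroup.center P) :=
          Finite.card_le_one_iff_subsingleton.mp (by rw [← Subgroup.index_eq_card, h1])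
        exact isCyclic_of_subsingleton
      · exact isCyclic_of_prime_card (p := p) (by rw [← Subgroup.index_eq_card, h1])
    obtain ⟨q, hq⟩ := IsCyclic.exists_generator (α := P ⧸ Subgroup.center P)
    obtain ⟨g, rfl⟩ := QuotientGroup.mk_surjective q
    have hdec : ∀ a : P, ∃ i : ℤ, ∃ z ∈ Subgroup.center P, a = g ^ i * z := by
      intro a
      obtain ⟨i, hi⟩ := Subgroup.mem_zpowers_iff.mp (hq (a : P ⧸ Subgroup.center P))
      refine ⟨i, (g ^ i)⁻¹ * a, ?_, by group⟩
      rw [← QuotientGroup.eq_one_iff]
      simp [hi]
    intro a b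
    obtain ⟨i, z, hz, rfl⟩ := hdec a
    obtain ⟨j, w, hw, rfl⟩ := hdec b
    rw [Subgroup.mem_center_iff] at hz hw
    calc g ^ i * z * (g ^ j * w) = g ^ i * (z * g ^ j) * w := by group
      _ = g ^ i * g ^ j * (z * w) := by rw [← hz (g ^ j)]; group
      _ = g ^ j * g ^ i * (w * z) := by rw [← zpow_add, ← zpow_add, add_comm, hz w]
      _ = g ^ j * (g ^ i * w) * z := by group
      _ = g ^ j * w * (g ^ i * z) := by rw [hw (g ^ i)]; group
  have hbot : (∀ a b : P, a * b = b * a) → Nat.card (commutator P) = 1 := by
    intro h
    have : commutator P = ⊥ := by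
      rw [eq_bot_iff, commutator_def, Subgroup.commutator_le]
      intro a _ b _
      rw [Subgroup.mem_bot, commutatorElement_eq_one_iff_mul_comm]
      exact h a b
    rw [this, Subgroup.card_bot]
  constructor
  · intro hD
    -- the derived subgroup is central
    have hcent : commutator P ≤ Subgroup.center P := by
      have hconjP : IsPGroup p (ConjAct P) := hPG.of_equiv ConjAct.toConjAct
      have h1 : (1 : commutator P) ∈ MulAction.fixedPoints (ConjAct P) (commutator P) := by
        intro g
        exact smul_one g
      obtain ⟨c, hc, hc1⟩ := hconjP.exists_fixed_point_of_prime_dvd_card_of_fixed_point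
        (commutator P) (by rw [hD]) h1
      have hcz : (c : P) ∈ Subgroup.center P := by
        rw [Subgroup.mem_center_iff]
        intro g
        have h3 := congrArg Subtype.val (hc (ConjAct.toConjAct g))
        change ConjAct.toConjAct g • (c : P) = c at h3
        rw [ConjAct.toConjAct_smul] at h3
        exact mul_inv_eq_iff_eq_mul.mp h3
      have h2 : Subgroup.zpowers (c : P) = commutator P := by
        apply Subgroup.eq_of_le_of_card_ge (Subgroup.zpowers_le.mpr c.2)
        rw [hD, Nat.card_zpowers]
        have h4 : orderOf (c : P) ∣ p := by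
          rw [Subgroup.orderOf_coe]
          exact hD ▸ orderOf_dvd_natCard c
        rcases (Nat.dvd_prime hp).mp h4 with h5 | h5
        · exact absurd (Subtype.ext (orderOf_eq_one_iff.mp h5)).symm hc1
        · exact h5.ge
      rw [← h2]
      exact Subgroup.zpowers_le.mpr hcz
    obtain ⟨k, hk4, hk⟩ := (Nat.dvd_prime_pow hp).mp
      (hP ▸ Subgroup.index_dvd_card (Subgroup.center P))
    have hk2 : 2 ≤ k := by
      by_contra hlt
      have h1 : (Subgroup.center P).index ∣ p := by
        rw [hk]
        interval_cases k <;> simp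
      rw [hbot (hsmall h1)] at hD
      exact hp.one_lt.ne hD
    have hk4' : k ≠ 4 := by
      intro h
      have hmul := Subgroup.card_mul_index (Subgroup.center P)
      rw [hk, hP, h] at hmul
      have h1 : Nat.card (Subgroup.center P) = 1 := by
        exact Nat.eq_of_mul_eq_mul_right (pow_pos hp.pos 4) (by rw [hmul, one_mul])
      have := Subgroup.card_le_of_le hcent
      rw [hD, h1] at this
      exact absurd hp.one_lt (by omega)
    by_contra hne
    have hk3 : k = 3 := by
      rcases lt_trichotomy k 2 with h | h | h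
      · omega
      · exact absurd (by rw [hk, h]) hne
      · omega
    have hZ : Nat.card (Subgroup.center P) = p := by
      have hmul := Subgroup.card_mul_index (Subgroup.center P)
      rw [hk, hP, hk3, pow_succ' p 3] at hmul
      exact Nat.eq_of_mul_eq_mul_right (pow_pos hp.pos 3) hmul
    obtain ⟨x, y, hxy⟩ : ∃ a b : P, a * b ≠ b * a := by
      by_contra hc
      push Not at hc
      rw [hbot hc] at hD
      exact hp.one_lt.ne hD
    -- centralisers of noncentral elements have index `p`
    let com : P → (P →* commutator P) := fun a =>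
      { toFun := fun b => ⟨⁅a, b⁆, hcom a b⟩
        map_one' := Subtype.ext (commutatorElement_one_right a)
        map_mul' := fun b c => Subtype.ext (by
          have hz := Subgroup.mem_center_iff.mp (hcent (hcom a c)) b
          change ⁅a, b * c⁆ = ⁅a, b⁆ * ⁅a, c⁆
          calc ⁅a, b * c⁆ = ⁅a, b⁆ * (b * ⁅a, c⁆ * b⁻¹) := by
                simp only [commutatorElement_def]; group
            _ = ⁅a, b⁆ * ⁅a, c⁆ := by rw [hz]; group) }
    have hker : ∀ a b : P, b ∈ (com a).ker ↔ a * b = b * a := fun a b => by
      rw [MonoidHom.mem_ker, ← commutatorElement_eq_one_iff_mul_comm]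
      exact Subtype.ext_iff
    have hidx : ∀ a : P, (com a).ker.index ∣ p := fun a => by
      rw [Subgroup.index_ker, ← hD]
      exact Subgroup.card_subgroup_dvd_card _
    set M := (com x).ker ⊓ (com y).ker with hMdef
    have hMx : M ≤ (com x).ker := inf_le_left
    have hMy : M ≤ (com y).ker := inf_le_right
    -- M has index at most p^2
    have hMidx : M.index ≤ p ^ 2 := by
      refine le_trans (Subgroup.index_inf_le) ?_
      rw [pow_two]
      exact Nat.mul_le_mul (Nat.le_of_dvd hp.pos (hidx x)) (Nat.le_of_dvd hp.pos (hidx y))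
    have hMcard : p ^ 2 ≤ Nat.card M := by
      have hmul := Subgroup.card_mul_index M
      rw [hP] at hmul
      by_contra hlt
      have : Nat.card M * M.index < p ^ 2 * p ^ 2 :=
        Nat.mul_lt_mul_of_lt_of_le (not_le.mp hlt) hMidx (pow_pos hp.pos 2)
      rw [hmul, ← pow_add] at this
      exact lt_irrefl _ this
    have hxM : x ∉ M := fun h => hxy ((hker y x).mp (hMy h)).symm
    have hyX : y ∉ (com x).ker := fun h => hxy ((hker x y).mp h)
    have hxX : x ∈ (com x).ker := (hker x x).mpr rfl
    have hXcard : Nat.card (com x).ker = p ^ 3 := by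
      have hmul := Subgroup.card_mul_index (com x).ker
      rcases (Nat.dvd_prime hp).mp (hidx x) with h | h
      · exact absurd ((Subgroup.index_eq_one.mp h).symm ▸ Subgroup.mem_top y) hyX
      · rw [h, hP, pow_succ p 3] at hmul
        exact Nat.eq_of_mul_eq_mul_right hp.pos hmul
    obtain ⟨w, hwM, hwZ⟩ : ∃ w ∈ M, w ∉ Subgroup.center P := by
      by_contra hc
      push Not at hc
      have := Subgroup.card_le_of_le (show M ≤ Subgroup.center P from hc)
      rw [hZ] at this
      have h2 : p < p ^ 2 := by rw [pow_two]; exact lt_mul_of_one_lt_left hp.pos hp.one_lt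
      omega
    -- M is abelian
    have hM2 : Nat.card M = p ^ 2 := by
      obtain ⟨j, hj, hjc⟩ := (Nat.dvd_prime_pow hp).mp (hXcard ▸ Subgroup.card_dvd_of_le hMx)
      have : j < 3 := by
        by_contra h
        have hj3 : j = 3 := by omega
        exact hxM ((Subgroup.eq_of_le_of_card_ge hMx (by rw [hjc, hj3, hXcard])).symm ▸ hxX)
      rw [hjc] at hMcard ⊢
      have := (Nat.pow_le_pow_iff_right hp.one_lt).mp hMcard
      congr 1
      omega
    have hMcomm : ∀ a ∈ M, ∀ b ∈ M, a * b = b * a := fun a ha b hb =>
      congrArg Subtype.val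
        (IsPGroup.commutative_of_card_eq_prime_sq hM2 ⟨a, ha⟩ ⟨b, hb⟩)
    refine hwZ ?_
    rw [Subgroup.mem_center_iff]
    have hW : M ⊔ Subgroup.zpowers x ⊔ Subgroup.zpowers y ≤ (com w).ker := by
      refine sup_le (sup_le ?_ ?_) ?_
      · exact fun a ha => (hker w a).mpr (hMcomm w hwM a ha)
      · exact Subgroup.zpowers_le.mpr ((hker w x).mpr ((hker x w).mp (hMx hwM)).symm)
      · exact Subgroup.zpowers_le.mpr ((hker w y).mpr ((hker y w).mp (hMy hwM)).symm)
    have hXle : (com x).ker ≤ M ⊔ Subgroup.zpowers x := by
      have hle : M ⊔ Subgroup.zpowers x ≤ (com x).ker := sup_le hMx (Subgroup.zpowers_le.mpr hxX)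
      obtain ⟨j, hj, hjc⟩ := (Nat.dvd_prime_pow hp).mp (hXcard ▸ Subgroup.card_dvd_of_le hle)
      have h2 : 2 < j := by
        by_contra h
        have : Nat.card ↥(M ⊔ Subgroup.zpowers x) ≤ Nat.card M := by
          rw [hjc, hM2]; exact Nat.pow_le_pow_right hp.pos (by omega)
        exact hxM ((Subgroup.eq_of_le_of_card_ge le_sup_left this).symm ▸
          Subgroup.mem_sup_right (Subgroup.mem_zpowers x))
      have hj3 : j = 3 := by omega
      exact (Subgroup.eq_of_le_of_card_ge hle (by rw [hjc, hj3, hXcard])).ge
    have htop : (com w).ker = ⊤ := by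
      have hle : (com x).ker ≤ (com w).ker := le_trans hXle (le_trans le_sup_left hW)
      rw [Subgroup.eq_top_iff' ]
      intro g
      obtain ⟨j, hj, hjc⟩ := (Nat.dvd_prime_pow hp).mp (hP ▸ Subgroup.card_subgroup_dvd_card (com w).ker)
      have hy' : y ∈ (com w).ker := hW (Subgroup.mem_sup_right (Subgroup.mem_zpowers y))
      have h3 : 3 < j := by
        by_contra h
        have : Nat.card (com w).ker ≤ Nat.card (com x).ker := by
          rw [hjc, hXcard]; exact Nat.pow_le_pow_right hp.pos (by omega)
        exact hyX ((Subgroup.eq_of_le_of_card_ge hle this).symm ▸ hy')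
      have hj4 : j = 4 := by omega
      rw [Subgroup.eq_top_of_card_eq (com w).ker (by rw [hjc, hj4, hP])]
      trivial
    intro g
    exact ((hker w g).mp (htop ▸ Subgroup.mem_top g)).symm
  · intro hZ
    have hna : ¬ ∀ a b : P, a * b = b * a := by
      intro h
      have hc : Subgroup.center P = ⊤ :=
        (Subgroup.eq_top_iff' _).mpr fun g => Subgroup.mem_center_iff.mpr fun a => h a g
      rw [hc, Subgroup.index_top] at hZ
      exact absurd hZ.symm (one_lt_pow₀ hp.one_lt two_ne_zero).ne'
    push Not at hna
    obtain ⟨x, y, hxy⟩ := hna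
    -- `P = ⟨x⟩ ⟨y⟩ Z`
    set Z := Subgroup.center P with hZdef
    have hgen : Z ⊔ Subgroup.zpowers x ⊔ Subgroup.zpowers y = ⊤ := by
      have hxZ : x ∉ Z := fun h => hxy (Subgroup.mem_center_iff.mp h y).symm
      have hyA : y ∉ Z ⊔ Subgroup.zpowers x := by
        intro h
        have : Z ⊔ Subgroup.zpowers x ≤ Subgroup.centralizer {x} := by
          refine sup_le (fun z hz => ?_) (Subgroup.zpowers_le.mpr ?_)
          · rw [Subgroup.mem_centralizer_singleton_iff]
            exact (Subgroup.mem_center_iff.mp hz x).symm
          · rw [Subgroup.mem_centralizer_singleton_iff]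
        have h2 := Subgroup.mem_centralizer_singleton_iff.mp (this h)
        exact hxy h2.symm
      have hmulZ := Subgroup.card_mul_index Z
      rw [hZ, hP] at hmulZ
      have hZc : Nat.card Z = p ^ 2 :=
        Nat.eq_of_mul_eq_mul_right (pow_pos hp.pos 2) (by rw [hmulZ]; ring)
      apply Subgroup.eq_top_of_card_eq
      obtain ⟨j, hj, hjc⟩ := (Nat.dvd_prime_pow hp).mp
        (hP ▸ Subgroup.card_subgroup_dvd_card (Z ⊔ Subgroup.zpowers x))
      obtain ⟨i, hi, hic⟩ := (Nat.dvd_prime_pow hp).mp
        (hP ▸ Subgroup.card_subgroup_dvd_card (Z ⊔ Subgroup.zpowers x ⊔ Subgroup.zpowers y))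
      have h2 : 2 < j := by
        by_contra h
        exact hxZ ((Subgroup.eq_of_le_of_card_ge le_sup_left
          (by rw [hjc, hZc]; exact Nat.pow_le_pow_right hp.pos (by omega))).symm ▸
          Subgroup.mem_sup_right (Subgroup.mem_zpowers x))
      have h3 : j < i := by
        by_contra h
        have heq : Z ⊔ Subgroup.zpowers x = Z ⊔ Subgroup.zpowers x ⊔ Subgroup.zpowers y :=
          Subgroup.eq_of_le_of_card_ge le_sup_left
            (by rw [hjc, hic]; exact Nat.pow_le_pow_right hp.pos (by omega))
        exact hyA (heq ▸ Subgroup.mem_sup_right (Subgroup.mem_zpowers y))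
      have hi4 : i = 4 := by omega
      rw [hic, hi4, hP]
    set c := ⁅x, y⁆ with hcdef
    have hc1 : c ≠ 1 := fun h => hxy (commutatorElement_eq_one_iff_mul_comm.mp h)
    -- x^p is central
    have hxp : x ^ p ∈ Z := by
      have hcard : Nat.card (P ⧸ Z) = p ^ 2 := by rw [← Subgroup.index_eq_card, hZ]
      obtain ⟨j, hj, hjc⟩ := (Nat.dvd_prime_pow hp).mp
        (hcard ▸ orderOf_dvd_natCard (x : P ⧸ Z))
      have hj2 : j ≠ 2 := by
        intro h
        have : IsCyclic (P ⧸ Z) := isCyclic_of_orderOf_eq_card _ (by rw [hjc, h, hcard])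
        obtain ⟨q, hq⟩ := IsCyclic.exists_generator (α := P ⧸ Z)
        obtain ⟨g, rfl⟩ := QuotientGroup.mk_surjective q
        have hA : Z ⊔ Subgroup.zpowers g ≤ Subgroup.centralizer {g} := by
          refine sup_le (fun z hz => ?_) (Subgroup.zpowers_le.mpr ?_)
          · rw [Subgroup.mem_centralizer_singleton_iff]
            exact (Subgroup.mem_center_iff.mp hz g).symm
          · rw [Subgroup.mem_centralizer_singleton_iff]
        have hg : g ∈ Z := by
          rw [hZdef, Subgroup.mem_center_iff]
          intro a
          obtain ⟨i, hi⟩ := Subgroup.mem_zpowers_iff.mp (hq (a : P ⧸ Z))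
          have : (g ^ i)⁻¹ * a ∈ Z := by
            rw [← QuotientGroup.eq_one_iff]
            simp [hi]
          have ha : a ∈ Z ⊔ Subgroup.zpowers g := by
            have h := Subgroup.mul_mem _ (Subgroup.mem_sup_right (S := Z)
              (zpow_mem (Subgroup.mem_zpowers g) i)) (Subgroup.mem_sup_left this)
            simpa using h
          exact Subgroup.mem_centralizer_singleton_iff.mp (hA ha)
        have h1 := hq (x : P ⧸ Z)
        rw [(QuotientGroup.eq_one_iff g).mpr hg, Subgroup.zpowers_one_eq_bot,
          Subgroup.mem_bot] at h1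
        rw [h1, orderOf_one, h] at hjc
        exact (one_lt_pow₀ hp.one_lt two_ne_zero).ne hjc
      rw [← QuotientGroup.eq_one_iff, QuotientGroup.mk_pow]
      apply orderOf_dvd_iff_pow_eq_one.mp
      rw [hjc]
      conv_rhs => rw [← pow_one p]
      exact pow_dvd_pow p (by omega)
    -- c is central
    have hcZ : c ∈ Z := by
      have hcard : Nat.card (P ⧸ Z) = p ^ 2 := by rw [← Subgroup.index_eq_card, hZ]
      rw [← QuotientGroup.eq_one_iff]
      change QuotientGroup.mk' Z ⁅x, y⁆ = 1
      rw [map_commutatorElement, commutatorElement_eq_one_iff_mul_comm]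
      exact IsPGroup.commutative_of_card_eq_prime_sq hcard _ _
    have hcp : c ^ p = 1 := by
      have hpow : ∀ n : ℕ, ⁅x ^ n, y⁆ = c ^ n := by
        intro n
        induction n with
        | zero => simp
        | succ n ih =>
          have hz := Subgroup.mem_center_iff.mp hcZ (x ^ n)
          calc ⁅x ^ (n + 1), y⁆ = x ^ n * ⁅x, y⁆ * (x ^ n)⁻¹ * ⁅x ^ n, y⁆ := by
                simp only [commutatorElement_def]; group
            _ = c ^ (n + 1) := by rw [← hcdef, hz, ih, pow_succ']; group
      rw [← hpow p, commutatorElement_eq_one_iff_mul_comm]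
      exact (Subgroup.mem_center_iff.mp hxp y).symm
    -- the derived subgroup is ⟨c⟩
    have hN : (Subgroup.zpowers c).Normal := ⟨fun d hd g => by
      have : d ∈ Z := Subgroup.zpowers_le.mpr hcZ hd
      rw [Subgroup.mem_center_iff.mp this g]
      simpa using hd⟩
    have hle : commutator P ≤ Subgroup.zpowers c := by
      rw [commutator_def, Subgroup.commutator_le]
      intro a _ b _
      rw [← QuotientGroup.eq_one_iff]
      change QuotientGroup.mk' _ ⁅a, b⁆ = 1
      rw [map_commutatorElement, commutatorElement_eq_one_iff_mul_comm]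
      set π := QuotientGroup.mk' (Subgroup.zpowers c)
      have hπ : π x * π y = π y * π x := by
        rw [← commutatorElement_eq_one_iff_mul_comm, ← map_commutatorElement,
          QuotientGroup.mk'_apply, QuotientGroup.eq_one_iff]
        exact Subgroup.mem_zpowers c
      have hcen : ∀ u : P, π u * π x = π x * π u → π u * π y = π y * π u →
          ∀ v : P, π u * π v = π v * π u := by
        intro u h1 h2 v
        have : (⊤ : Subgroup P) ≤ (Subgroup.centralizer {π u}).comap π := by
          rw [← hgen]
          refine sup_le (sup_le (fun z hz => ?_) (Subgroup.zpowers_le.mpr ?_))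
            (Subgroup.zpowers_le.mpr ?_)
          · rw [Subgroup.mem_comap, Subgroup.mem_centralizer_singleton_iff, ← map_mul,
              ← map_mul, Subgroup.mem_center_iff.mp hz u]
          · rw [Subgroup.mem_comap, Subgroup.mem_centralizer_singleton_iff]; exact h1.symm
          · rw [Subgroup.mem_comap, Subgroup.mem_centralizer_singleton_iff]; exact h2.symm
        have h3 := this (Subgroup.mem_top v)
        rw [Subgroup.mem_comap, Subgroup.mem_centralizer_singleton_iff] at h3
        exact h3.symm
      exact hcen a (hcen x rfl hπ a).symm (hcen y hπ.symm rfl a).symm b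
    have hco : orderOf c = p := orderOf_eq_prime hcp hc1
    have heq : commutator P = Subgroup.zpowers c :=
      le_antisymm hle (Subgroup.zpowers_le.mpr (hcom x y))
    rw [heq, Nat.card_zpowers, hco]

end Cfsg.Agent.S4584
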