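import Cfsg.Statements.S4585
import Cfsg.Agent.Lib.PGroup.MaximalClass
import Cfsg.Agent.Lib.PGroup.ClassTwo
-- import your own Cfsg.Agent.* helpers here

set_option autoImplicit false
open Cfsg
open scoped commutatorElement

namespace Cfsg.Agent.S4585

/-- Let p be a prime and P a group of order p^4. Then P' has index p^2 in P if and only if P has maximal nilpotency class, that is, nilpotency class exactly 3. -/
theorem result {P : Type*} [Group P] [Finite P] (p : ℕ) [Fact p.Prime] (hP : Nat.card P = p ^ 4) :
    (commutator P).index = p ^ 2 ↔ Group.nilpotencyClass P = 3 := by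
  have hpp := (Fact.out : p.Prime)
  have hP' : IsPGroup p P := IsPGroup.of_card hP
  haveI := hP'.isNilpotent
  constructor
  · intro hidx
    refine le_antisymm ?_ ?_
    · by_contra hbig
      have h3 : ¬ Subgroup.lowerCentralSeries (⊤ : Subgroup P) 3 = ⊥ := fun h =>
        hbig (Subgroup.lowerCentralSeries_eq_bot_iff_nilpotencyClass_le.1 h)
      have hL : ∀ k, k ≤ 3 → Nat.card ↥(Subgroup.lowerCentralSeries (⊤ : Subgroup P) (k + 1)) <
          Nat.card ↥(Subgroup.lowerCentralSeries (⊤ : Subgroup P) k) := by
        intro k hk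
        have hne : Subgroup.lowerCentralSeries (⊤ : Subgroup P) k ≠ ⊥ := fun hb =>
          h3 (le_bot_iff.1 ((Subgroup.lowerCentralSeries_antitone _ hk).trans hb.le))
        refine Cfsg.Lib.Fusion.card_lt_card_of_lt ?_
        rw [Subgroup.lowerCentralSeries_succ]
        exact Cfsg.Lib.PGroup.commutator_lt_of_isPGroup (hP'.to_subgroup _) (hP'.to_subgroup ⊤)
          (by rw [Subgroup.normalizer_eq_top_iff.2 inferInstance]) hne
      have h1 := hL 1 (by omega)
      have h2 := hL 2 (by omega)
      obtain ⟨a, ha⟩ := IsPGroup.iff_card.1 (hP'.to_subgroup (Subgroup.lowerCentralSeries (⊤ : Subgroup P) 1))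
      obtain ⟨b, hb⟩ := IsPGroup.iff_card.1 (hP'.to_subgroup (Subgroup.lowerCentralSeries (⊤ : Subgroup P) 2))
      obtain ⟨c, hc⟩ := IsPGroup.iff_card.1 (hP'.to_subgroup (Subgroup.lowerCentralSeries (⊤ : Subgroup P) 3))
      simp only [Nat.reduceAdd] at h1 h2
      rw [hb, ha] at h1
      rw [hc, hb] at h2
      have h1' := (Nat.pow_lt_pow_iff_right hpp.one_lt).1 h1
      have h2' := (Nat.pow_lt_pow_iff_right hpp.one_lt).1 h2
      have h4 := (commutator P).card_mul_index
      rw [← Subgroup.top_lowerCentralSeries_one, ha, Subgroup.top_lowerCentralSeries_one, hidx, hP, ← pow_add] at h4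
      have := Nat.pow_right_injective hpp.two_le h4
      have hc0 : c ≠ 0 := fun h0 => h3 (Subgroup.card_eq_one.1 (by rw [hc, h0, pow_zero]))
      omega
    · by_contra hsmall
      have h2 : Subgroup.lowerCentralSeries (⊤ : Subgroup P) 2 = ⊥ :=
        Subgroup.lowerCentralSeries_eq_bot_iff_nilpotencyClass_le.2 (by omega)
      have hcl := Cfsg.Lib.PGroup.commutator_le_center_of_lowerCentralSeries_two h2
      have hfr : frattini P ≤ Subgroup.center P := by
        refine le_trans (le_of_eq ?_) hcl
        refine (Subgroup.eq_of_le_of_card_ge (Cfsg.Lib.PGroup.commutator_le_frattini hP') ?_).symm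
        have h4 := (commutator P).card_mul_index
        rw [hidx, ← (frattini P).card_mul_index] at h4
        have h5 : p ^ 2 ≤ (frattini P).index := by
          obtain ⟨i, hi⟩ := hP'.index (frattini P)
          rw [hi]
          refine Nat.pow_le_pow_right hpp.pos ?_
          by_contra hlt
          have hnc : ¬ IsCyclic P := by
            intro hc
            have : commutator P = ⊥ := by
              rw [eq_bot_iff, commutator_def, Subgroup.commutator_le]
              intro a _ b _
              rw [Subgroup.mem_bot, commutatorElement_eq_one_iff_mul_comm]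
              exact IsCyclic.commGroup.mul_comm a b
            rw [this, Subgroup.index_bot, hP] at hidx
            have := Nat.pow_right_injective hpp.two_le hidx
            omega
          apply hnc
          obtain ⟨g, hg⟩ : ∃ g : P, Subgroup.zpowers g ⊔ frattini P = ⊤ := by
            rcases (show i = 0 ∨ i = 1 by omega) with rfl | rfl
            · exact ⟨1, by rw [Subgroup.index_eq_one.1 (hi.trans (pow_zero p)), sup_top_eq]⟩
            · rw [pow_one] at hi
              obtain ⟨g, hg⟩ : ∃ g : P, g ∉ frattini P := by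
                by_contra hall
                push Not at hall
                rw [show frattini P = ⊤ from eq_top_iff.2 fun x _ => hall x, Subgroup.index_top] at hi
                exact hpp.ne_one hi.symm
              exact ⟨g, by rw [sup_comm]; exact Cfsg.Lib.PGroup.sup_zpowers_eq_top_of_index (p := p) hi hg⟩
          exact (isCyclic_iff_exists_zpowers_eq_top).2 ⟨g, frattini_nongenerating hg⟩
        refine Nat.le_of_mul_le_mul_right ?_ (pow_pos hpp.pos 2)
        rw [h4]
        exact Nat.mul_le_mul le_rfl h5
      -- every commutator is killed by `p`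
      obtain ⟨i, hi⟩ := hP'.index (frattini P)
      have hpc : ∀ a b : P, ⁅a, b⁆ ^ p = 1 := fun a b => by
        rw [← Cfsg.Lib.PGroup.commutatorElement_pow_left hcl, commutatorElement_eq_one_iff_mul_comm]
        exact (Subgroup.mem_center_iff.1 (hfr (Cfsg.Lib.PGroup.pow_mem_frattini hP' a)) b).symm
      obtain ⟨T, hT, hTt⟩ := Cfsg.Lib.PGroup.MaxClass.exists_finset_closure hP' (j := 2) (by
        rw [← hidx]; exact Nat.le_of_dvd (Nat.pos_of_ne_zero Subgroup.index_ne_zero_of_finite)
          (Subgroup.index_dvd_of_le (Cfsg.Lib.PGroup.commutator_le_frattini hP')))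
      obtain ⟨x, y, hxy⟩ : ∃ x y : P, Subgroup.closure ({x, y} : Set P) = ⊤ := by
        classical
        rcases Nat.lt_or_ge T.card 2 with hlt | hge
        · obtain ⟨g, hg⟩ : ∃ g, T ⊆ {g} := Finset.card_le_one_iff_subset_singleton.1 (by omega)
          exact ⟨g, g, top_le_iff.1 (hTt.ge.trans (Subgroup.closure_mono (fun z hz => by
            have := hg hz; simp at this; simp [this])))⟩
        · obtain ⟨x, y, -, hxy⟩ := Finset.card_eq_two.1 (le_antisymm hT hge)
          exact ⟨x, y, by rw [← hTt, hxy]; simp⟩
      haveI : (Subgroup.zpowers ⁅x, y⁆).Normal := ⟨fun z hz g => by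
        have hzc := Subgroup.mem_center_iff.1 (hcl ((Subgroup.zpowers_le.2
          (Subgroup.commutator_mem_commutator (Subgroup.mem_top x) (Subgroup.mem_top y))) hz)) g
        rw [hzc, mul_inv_cancel_right]; exact hz⟩
      have hle : commutator P ≤ Subgroup.zpowers ⁅x, y⁆ :=
        Cfsg.Lib.PGroup.Regular.commutator_le_of_pair hxy (Subgroup.mem_zpowers _)
      have h6 := (Subgroup.card_le_of_le hle).trans (le_of_eq (Nat.card_zpowers _))
      have h7 := Nat.le_of_dvd hpp.pos (orderOf_dvd_of_pow_eq_one (hpc x y))
      have h8 := (commutator P).card_mul_index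
      rw [hidx, hP] at h8
      have h9 : Nat.card (commutator P) = p ^ 2 :=
        Nat.eq_of_mul_eq_mul_right (pow_pos hpp.pos 2) (h8.trans (pow_add p 2 2))
      have : p ^ 2 ≤ p ^ 1 := by rw [pow_one, ← h9]; exact h6.trans h7
      have := (Nat.pow_le_pow_iff_right hpp.one_lt).1 this
      omega
  · intro hc
    have h := Cfsg.Lib.PGroup.MaxClass.isMax_of_class (p := p) (n := 4) (by omega) hP hc
    have h2 := (commutator P).card_mul_index
    rw [← Subgroup.top_lowerCentralSeries_one, Cfsg.Lib.PGroup.MaxClass.card_gamma h 1 le_rfl (by omega), hP,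
      Subgroup.top_lowerCentralSeries_one, show p ^ 4 = p ^ (4 - 1 - 1) * p ^ 2 by rw [← pow_add]] at h2
    exact Nat.eq_of_mul_eq_mul_left (pow_pos hpp.pos _) h2

end Cfsg.Agent.S4585
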