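import Cfsg.Statements.S4586
import Mathlib.GroupTheory.PGroup
import Mathlib.GroupTheory.Abelianization.Defs
import Mathlib.GroupTheory.QuotientGroup.Basic
import Mathlib.Algebra.Group.Subgroup.Finite

set_option autoImplicit false
open Cfsg
open scoped commutatorElement

namespace Cfsg.Agent.S4586

/-- The key count: `[P : P′] · #N′ = p · c(x)` for every `x` outside `N`. -/
theorem index_mul_card {P : Type*} [Group P] [Finite P] (p : ℕ) [hp : Fact p.Prime]
    (N : Subgroup P) [N.Normal] (hN : N.index = p) (x : P) (hx : x ∉ N) :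
    (commutator P).index * Nat.card (commutator N)
      = p * Nat.card {n : N //
          x * n * x⁻¹ * (n : P)⁻¹ ∈ (commutator N).map N.subtype} := by
  have hnorm : N.Normal := inferInstance
  let c : N →* N := (MulAut.conjNormal (H := N) x).toMonoidHom
  have hc : ∀ n : N, ((c n : N) : P) = x * n * x⁻¹ := fun n => MulAut.conjNormal_apply x n
  let f : N →* Abelianization N := (Abelianization.of.comp c) / Abelianization.of
  have hf : ∀ n : N, f n = Abelianization.of (c n * n⁻¹) := fun n => by
    rw [map_mul, map_inv, ← div_eq_mul_inv]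
    rfl
  have hmem : ∀ n : N, n ∈ f.ker ↔
      x * n * x⁻¹ * (n : P)⁻¹ ∈ (commutator N).map N.subtype := by
    intro n
    rw [MonoidHom.mem_ker, hf, ← MonoidHom.mem_ker, Abelianization.ker_of, ← hc,
      ← InvMemClass.coe_inv, ← MulMemClass.coe_mul]
    exact (Subgroup.mem_map_iff_mem (f := N.subtype) N.subtype_injective).symm
  have hker : Nat.card {n : N // x * n * x⁻¹ * (n : P)⁻¹ ∈ (commutator N).map N.subtype}
      = Nat.card f.ker :=
    Nat.card_congr (Equiv.subtypeEquivRight fun n => (hmem n).symm)
  set L : Subgroup N := f.range.comap Abelianization.of with hL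
  set K : Subgroup P := L.map N.subtype with hK
  have hLN : commutator N ≤ L := by
    intro n hn
    rw [hL, Subgroup.mem_comap]
    have : Abelianization.of n = 1 := by
      rw [← MonoidHom.mem_ker, Abelianization.ker_of]
      exact hn
    rw [this]
    exact one_mem _
  have hxL : ∀ n ∈ L, c n ∈ L := by
    intro n hn
    obtain ⟨m, hm⟩ := (Subgroup.mem_comap.mp hn : Abelianization.of n ∈ f.range)
    -- `of n = f m`, so `of (c n) = f n * f m`
    refine Subgroup.mem_comap.mpr ⟨n * m, ?_⟩
    have h1 : f n * Abelianization.of n = Abelianization.of (c n) := by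
      rw [hf, ← map_mul, inv_mul_cancel_right]
    rw [map_mul, hm, h1]
  -- `P = N ⊔ ⟨x⟩`
  have htop : N ⊔ Subgroup.zpowers x = ⊤ := by
    rw [← Subgroup.index_eq_one]
    have hdvd : (N ⊔ Subgroup.zpowers x).index ∣ p := hN ▸ Subgroup.index_dvd_of_le le_sup_left
    rcases (Nat.dvd_prime hp.out).mp hdvd with h | h
    · exact h
    · exfalso
      have hmul1 := Subgroup.card_mul_index (N ⊔ Subgroup.zpowers x)
      have hmul2 := Subgroup.card_mul_index N
      rw [h] at hmul1
      rw [hN] at hmul2
      have hcard : Nat.card ↥(N ⊔ Subgroup.zpowers x) ≤ Nat.card N :=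
        (Nat.eq_of_mul_eq_mul_right hp.out.pos (hmul1.trans hmul2.symm)).le
      exact hx ((Subgroup.eq_of_le_of_card_ge le_sup_left hcard).symm ▸
        Subgroup.mem_sup_right (Subgroup.mem_zpowers x))
  have hKn : K.Normal := by
    have hle : N ⊔ Subgroup.zpowers x ≤ Subgroup.normalizer (K : Set P) := by
      refine sup_le ?_ (Subgroup.zpowers_le.mpr ?_)
      · intro g hg
        refine Subgroup.mem_normalizer_fintype ?_
        intro k hk
        obtain ⟨l, hl, rfl⟩ := hk
        refine ⟨⟨g, hg⟩ * l * ⟨g, hg⟩⁻¹, ?_, rfl⟩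
        rw [SetLike.mem_coe, hL, Subgroup.mem_comap] at hl ⊢
        simpa [map_mul, mul_comm, mul_left_comm] using hl
      · refine Subgroup.mem_normalizer_fintype ?_
        intro k hk
        obtain ⟨l, hl, rfl⟩ := hk
        exact ⟨c l, hxL l hl, hc l⟩
    rw [htop] at hle
    exact Subgroup.normalizer_eq_top_iff.mp (top_le_iff.mp hle)
  have hD : commutator P = K := by
    refine le_antisymm ?_ ?_
    · rw [commutator_def, Subgroup.commutator_le]
      intro a _ b _
      rw [← QuotientGroup.eq_one_iff]
      change QuotientGroup.mk' K ⁅a, b⁆ = 1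
      rw [map_commutatorElement, commutatorElement_eq_one_iff_mul_comm]
      set π := QuotientGroup.mk' K with hπ
      have hNN : ∀ u ∈ N, ∀ v ∈ N, π u * π v = π v * π u := by
        intro u hu v hv
        rw [← commutatorElement_eq_one_iff_mul_comm, ← map_commutatorElement, hπ,
          QuotientGroup.mk'_apply, QuotientGroup.eq_one_iff]
        exact ⟨⁅(⟨u, hu⟩ : N), ⟨v, hv⟩⁆,
          hLN (Subgroup.commutator_mem_commutator (Subgroup.mem_top _) (Subgroup.mem_top _)), rfl⟩
      have hNx : ∀ u ∈ N, π x * π u = π u * π x := by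
        intro u hu
        rw [← commutatorElement_eq_one_iff_mul_comm, ← map_commutatorElement, hπ,
          QuotientGroup.mk'_apply, QuotientGroup.eq_one_iff]
        refine ⟨c ⟨u, hu⟩ * (⟨u, hu⟩ : N)⁻¹, Subgroup.mem_comap.mpr ⟨⟨u, hu⟩, hf _⟩, ?_⟩
        change ((c ⟨u, hu⟩ * (⟨u, hu⟩ : N)⁻¹ : N) : P) = ⁅x, u⁆
        rw [Subgroup.coe_mul, Subgroup.coe_inv, hc, commutatorElement_def]
      have hcen : ∀ w : P, (∀ u ∈ N, π w * π u = π u * π w) → π w * π x = π x * π w →
          ∀ v : P, π w * π v = π v * π w := by
        intro w h1 h2 v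
        have hle : N ⊔ Subgroup.zpowers x ≤ (Subgroup.centralizer {π w}).comap π := by
          refine sup_le (fun u hu => ?_) (Subgroup.zpowers_le.mpr ?_)
          · rw [Subgroup.mem_comap, Subgroup.mem_centralizer_singleton_iff]
            exact (h1 u hu).symm
          · rw [Subgroup.mem_comap, Subgroup.mem_centralizer_singleton_iff]
            exact h2.symm
        rw [htop] at hle
        have h3 := hle (Subgroup.mem_top v)
        rw [Subgroup.mem_comap, Subgroup.mem_centralizer_singleton_iff] at h3
        exact h3.symm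
      exact hcen a (fun u hu => (hcen u (hNN u hu) (hNx u hu).symm a).symm)
        (hcen x hNx rfl a).symm b
    · rintro k ⟨l, hl, rfl⟩
      obtain ⟨m, hm⟩ := (Subgroup.mem_comap.mp hl : Abelianization.of l ∈ f.range)
      rw [hf] at hm
      have h1 : (c m * m⁻¹)⁻¹ * l ∈ commutator N := by
        rw [← Abelianization.ker_of, MonoidHom.mem_ker, map_mul, map_inv, hm, inv_mul_cancel]
      have h2 : ((c m * m⁻¹ : N) : P) ∈ commutator P := by
        rw [Subgroup.coe_mul, Subgroup.coe_inv, hc]
        exact Subgroup.commutator_mem_commutator (Subgroup.mem_top x) (Subgroup.mem_top _)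
      have h3 : ((c m * m⁻¹)⁻¹ * l : N).1 ∈ commutator P := by
        have h4 : (commutator N).map N.subtype ≤ commutator P := by
          rw [commutator_def N, Subgroup.map_commutator, commutator_def P]
          exact Subgroup.commutator_mono le_top le_top
        exact h4 ⟨_, h1, rfl⟩
      have h5 := Subgroup.mul_mem _ h2 h3
      rw [← Subgroup.coe_mul, mul_inv_cancel_left] at h5
      exact h5
  -- counting
  have hPcard : Nat.card N * p = Nat.card P := hN ▸ Subgroup.card_mul_index N
  have hKcard : Nat.card K = Nat.card L :=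
    Nat.card_congr (L.equivMapOfInjective N.subtype N.subtype_injective).toEquiv.symm
  have hNcard : Nat.card N = Nat.card f.ker * Nat.card f.range := by
    rw [← Subgroup.index_ker f, Subgroup.card_mul_index]
  have hLcard : Nat.card L = Nat.card (commutator N) * Nat.card f.range := by
    let g : L →* f.range := ((Abelianization.of (G := N)).comp L.subtype).codRestrict f.range
      fun l => l.2
    have hg : Function.Surjective g := by
      rintro ⟨q, hq⟩
      obtain ⟨n, rfl⟩ := QuotientGroup.mk_surjective q
      exact ⟨⟨n, hq⟩, rfl⟩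
    have hmul := Subgroup.card_mul_index g.ker
    rw [Subgroup.index_ker, MonoidHom.range_eq_top.mpr hg, Subgroup.card_top] at hmul
    rw [← hmul]
    congr 1
    refine Nat.card_congr
      { toFun := fun l => ⟨l.1.1, by
          have h := congrArg Subtype.val (MonoidHom.mem_ker.mp l.2)
          change Abelianization.of (l.1 : N) = 1 at h
          rwa [← MonoidHom.mem_ker, Abelianization.ker_of] at h⟩
        invFun := fun n => ⟨⟨n.1, hLN n.2⟩, by
          rw [MonoidHom.mem_ker]
          apply Subtype.ext
          change Abelianization.of (n.1 : N) = 1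
          rw [← MonoidHom.mem_ker, Abelianization.ker_of]
          exact n.2⟩
        left_inv := fun l => rfl
        right_inv := fun n => rfl }
  have hmulK := Subgroup.card_mul_index K
  rw [hKcard, hLcard, ← hPcard, hNcard] at hmulK
  rw [hD, hker]
  have : Finite (Abelianization N) := Finite.of_surjective _ QuotientGroup.mk_surjective
  have hr : 0 < Nat.card f.range := Nat.card_pos
  apply Nat.eq_of_mul_eq_mul_right hr
  calc K.index * Nat.card (commutator N) * Nat.card f.range
      = Nat.card (commutator N) * Nat.card f.range * K.index := by ring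
    _ = Nat.card f.ker * Nat.card f.range * p := hmulK
    _ = p * Nat.card f.ker * Nat.card f.range := by ring

/-- Let p be a prime, P a finite p-group and N a normal subgroup of P of index p. For x ∈ P write c(x) for the number of elements n of N whose commutator x n x⁻¹ n⁻¹ lies in the derived subgroup N' (so c(x)/#N' is the order of the centralizer of x acting on N/N'). Then [P : P'] = p² if and only if c(x) = p·#N' for every x ∈ P outside N, and also if and only if c(x) = p·#N' for some x ∈ P outside N. -/
theorem result {P : Type*} [Group P] [Finite P] (p : ℕ) [Fact p.Prime] (hP : IsPGroup p P) (N : Subgroup P) [N.Normal] (hN : N.index = p) :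
    ((commutator P).index = p ^ 2 ↔ ∀ x : P, x ∉ N →
        Nat.card {n : N // x * n * x⁻¹ * (n : P)⁻¹ ∈ (commutator N).map N.subtype} = p * Nat.card (commutator N)) ∧
    ((commutator P).index = p ^ 2 ↔ ∃ x : P, x ∉ N ∧
        Nat.card {n : N // x * n * x⁻¹ * (n : P)⁻¹ ∈ (commutator N).map N.subtype} = p * Nat.card (commutator N)) := by
  have hp : p.Prime := Fact.out
  obtain ⟨y, hy⟩ : ∃ y : P, y ∉ N := by
    by_contra h
    push Not at h
    rw [(Subgroup.eq_top_iff' N).mpr h, Subgroup.index_top] at hN
    exact hp.one_lt.ne hN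
  have key : ∀ x : P, x ∉ N → ((commutator P).index = p ^ 2 ↔
      Nat.card {n : N // x * n * x⁻¹ * (n : P)⁻¹ ∈ (commutator N).map N.subtype}
        = p * Nat.card (commutator N)) := by
    intro x hx
    have h := index_mul_card p N hN x hx
    constructor
    · intro h2
      rw [h2, pow_two, mul_assoc] at h
      exact (Nat.eq_of_mul_eq_mul_left hp.pos h).symm
    · intro h2
      rw [h2, ← mul_assoc, ← pow_two] at h
      exact Nat.eq_of_mul_eq_mul_right Nat.card_pos h
  refine ⟨⟨fun h x hx => (key x hx).mp h, fun h => (key y hy).mpr (h y hy)⟩,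
    ⟨fun h => ⟨y, hy, (key y hy).mp h⟩, fun ⟨x, hx, h⟩ => (key x hx).mpr h⟩⟩

end Cfsg.Agent.S4586
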