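import Cfsg.Statements.S4587
import Cfsg.Agent.Lib.Group.AbelianIndexTrace
-- import your own Cfsg.Agent.* helpers here

set_option autoImplicit false
open Cfsg

namespace Cfsg.Agent.S4587

/-- Let G be a finite group, p a prime and P a Sylow p-subgroup of order at least p². Assume that G has no nontrivial normal subgroup of order prime to p, that the derived subgroup P' of P contains no nontrivial normal subgroup of G, and that G is not almost simple (there is no non-abelian simple normal subgroup of G with trivial centralizer). Then [P : P'] = p² if and only if some p-element x of G has centralizer whose order has p-part exactly p². -/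
theorem result {G : Type*} [Group G] [Finite G] (p : ℕ) [Fact p.Prime] (P : Sylow p G) (hbig : p ^ 2 ∣ Nat.card G) (hcore : Cfsg.pPrimeCore p G = ⊥)
    (hcore' : (⁅(P : Subgroup G), (P : Subgroup G)⁆).normalCore = ⊥) (hnas : ¬ ∃ S : Subgroup G, S.Normal ∧ IsSimpleGroup S ∧ ¬ IsMulCommutative S ∧ Subgroup.centralizer (S : Set G) = ⊥) :
    (⁅(P : Subgroup G), (P : Subgroup G)⁆).relIndex (P : Subgroup G) = p ^ 2 ↔
      ∃ x : G, (∃ k : ℕ, orderOf x = p ^ k) ∧ (Nat.card (Subgroup.centralizer ({x} : Set G))).factorization p = 2 := by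
  have hp := (Fact.out : p.Prime)
  have hrel : (⁅(P : Subgroup G), (P : Subgroup G)⁆).relIndex (P : Subgroup G) =
      (commutator ↥(P : Subgroup G)).index := by
    rw [← Subgroup.map_subtype_commutator, Subgroup.relIndex, Subgroup.subgroupOf,
      Subgroup.comap_map_eq_self_of_injective (P : Subgroup G).subtype_injective]
  rw [hrel]
  have hPbig : p ^ 2 ≤ Nat.card ↥(P : Subgroup G) := by
    refine Nat.le_of_dvd Nat.card_pos ?_
    rw [P.card_eq_multiplicity]
    exact pow_dvd_pow p ((hp.pow_dvd_iff_le_factorization Nat.card_pos.ne').1 hbig)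
  -- comparing the `p`-part of a centralizer with centralizers inside conjugates of `P`
  have hup : ∀ x : G, (∃ k : ℕ, orderOf x = p ^ k) → ∃ g : G, ∃ hg : g * x * g⁻¹ ∈ (P : Subgroup G),
      p ^ ((Nat.card (Subgroup.centralizer ({x} : Set G))).factorization p) ≤
        Nat.card (Subgroup.centralizer ({⟨g * x * g⁻¹, hg⟩} : Set ↥(P : Subgroup G))) := by
    intro x ⟨k, hk⟩
    set C := Subgroup.centralizer ({x} : Set G)
    obtain ⟨R⟩ : Nonempty (Sylow p ↥C) := inferInstance
    have hxC : x ∈ C := Subgroup.mem_centralizer_singleton_iff.2 rfl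
    have hxz : IsPGroup p (Subgroup.zpowers (⟨x, hxC⟩ : ↥C)) :=
      IsPGroup.of_card (n := k) (by rw [Nat.card_zpowers, Subgroup.orderOf_mk, hk])
    have hxR : (⟨x, hxC⟩ : ↥C) ∈ (R : Subgroup ↥C) := by
      have hsup : IsPGroup p ((R : Subgroup ↥C) ⊔ Subgroup.zpowers ⟨x, hxC⟩ : Subgroup ↥C) := by
        haveI : (Subgroup.zpowers (⟨x, hxC⟩ : ↥C)).Normal := ⟨fun z hz y => by
          obtain ⟨i, rfl⟩ := Subgroup.mem_zpowers_iff.1 hz
          have hc : Commute y (⟨x, hxC⟩ : ↥C) := Subtype.ext (Subgroup.mem_centralizer_singleton_iff.1 y.2)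
          rw [(hc.zpow_right i).eq, mul_inv_cancel_right]
          exact Subgroup.zpow_mem _ (Subgroup.mem_zpowers _) i⟩
        exact R.2.to_sup_of_normal_right hxz
      rw [← R.3 hsup le_sup_left]
      exact Subgroup.mem_sup_right (Subgroup.mem_zpowers _)
    obtain ⟨Q, hQ⟩ := (R.2.map C.subtype).exists_le_sylow
    obtain ⟨g, hg⟩ := MulAction.exists_smul_eq G Q P
    have hmem : ∀ y ∈ (R : Subgroup ↥C).map C.subtype, g * y * g⁻¹ ∈ (P : Subgroup G) := by
      intro y hy
      rw [← hg, Sylow.coe_subgroup_smul, Subgroup.mem_pointwise_smul_iff_inv_smul_mem]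
      simpa [MulAut.smul_def, mul_assoc] using hQ hy
    refine ⟨g, hmem x ⟨⟨x, hxC⟩, hxR, rfl⟩, ?_⟩
    rw [← R.card_eq_multiplicity]
    refine Nat.card_le_card_of_injective (fun r =>
      ⟨⟨g * ((r : ↥C) : G) * g⁻¹, hmem _ ⟨r, r.2, rfl⟩⟩,
        Subgroup.mem_centralizer_singleton_iff.2 (Subtype.ext ?_)⟩) fun r r' h => ?_
    · have h1 : ((r : ↥C) : G) * x = x * (r : ↥C) := Subgroup.mem_centralizer_singleton_iff.1 (r : ↥C).2
      show g * ((r : ↥C) : G) * g⁻¹ * (g * x * g⁻¹) = g * x * g⁻¹ * (g * ((r : ↥C) : G) * g⁻¹)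
      calc g * ((r : ↥C) : G) * g⁻¹ * (g * x * g⁻¹) = g * (((r : ↥C) : G) * x) * g⁻¹ := by group
        _ = g * (x * ((r : ↥C) : G)) * g⁻¹ := by rw [h1]
        _ = _ := by group
    · refine Subtype.ext (Subtype.ext ?_)
      simpa using congrArg (fun z : Subgroup.centralizer _ => ((z : ↥(P : Subgroup G)) : G)) h
  constructor
  · intro hab
    by_cases hne : commutator ↥(P : Subgroup G) = ⊥
    · refine ⟨1, ⟨0, by simp⟩, ?_⟩
      rw [hne, Subgroup.index_bot, P.card_eq_multiplicity] at hab
      have htop : Subgroup.centralizer ({(1 : G)} : Set G) = ⊤ :=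
        eq_top_iff.2 fun z _ => Subgroup.mem_centralizer_singleton_iff.2 (by simp)
      rw [htop, Subgroup.card_top]
      exact Nat.pow_right_injective hp.two_le hab
    · obtain ⟨N, hNn, hidx, hNc⟩ := Cfsg.Lib.Group.AbelianIndexTrace.exists_normal_trace
        hcore P hcore' hnas hab hne
      haveI := hNn
      obtain ⟨w, hw⟩ : ∃ w, w ∉ N.subgroupOf (P : Subgroup G) := by
        by_contra hcon
        push Not at hcon
        rw [show N.subgroupOf (P : Subgroup G) = ⊤ from eq_top_iff.2 fun z _ => hcon z,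
          Subgroup.index_top] at hidx
        exact hp.ne_one hidx.symm
      have hord : ∃ k : ℕ, orderOf (w : G) = p ^ k := by
        obtain ⟨k, hk⟩ := IsPGroup.iff_orderOf.1 P.2 w
        exact ⟨k, by rw [Subgroup.orderOf_coe, hk]⟩
      refine ⟨(w : G), hord, le_antisymm ?_ ?_⟩
      · obtain ⟨g, hg, hle⟩ := hup _ hord
        have hout : (⟨g * (w : G) * g⁻¹, hg⟩ : ↥(P : Subgroup G)) ∉ N.subgroupOf (P : Subgroup G) := by
          intro hmem
          apply hw
          have h1 := hNn.conj_mem _ (Subgroup.mem_subgroupOf.1 hmem) g⁻¹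
          exact Subgroup.mem_subgroupOf.2 (by simpa [mul_assoc] using h1)
        rw [Cfsg.Lib.PGroup.CentralizerSq.card_centralizer P.2 hab hidx hNc hout] at hle
        exact (Nat.pow_le_pow_iff_right hp.one_lt).1 hle
      · refine (hp.pow_dvd_iff_le_factorization Nat.card_pos.ne').1 ?_
        rw [← Cfsg.Lib.PGroup.CentralizerSq.card_centralizer P.2 hab hidx hNc hw,
          ← Subgroup.card_map_of_injective (P : Subgroup G).subtype_injective]
        refine Subgroup.card_dvd_of_le ?_
        rintro _ ⟨z, hz, rfl⟩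
        exact Subgroup.mem_centralizer_singleton_iff.2
          (congrArg Subtype.val (Subgroup.mem_centralizer_singleton_iff.1 hz))
  · rintro ⟨x, hord, hfac⟩
    obtain ⟨g, hg, hle⟩ := hup x hord
    rw [hfac] at hle
    set x' : ↥(P : Subgroup G) := ⟨g * x * g⁻¹, hg⟩
    refine Cfsg.Lib.PGroup.CentralizerSq.index_commutator_of_centralizer P.2 (x := x') ?_ hPbig
    obtain ⟨j, hj⟩ := IsPGroup.iff_card.1 (P.2.to_subgroup (Subgroup.centralizer ({x'} : Set ↥(P : Subgroup G))))
    rw [hj]
    refine Nat.pow_le_pow_right hp.pos ?_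
    rw [← hfac]
    refine (hp.pow_dvd_iff_le_factorization Nat.card_pos.ne').1 ?_
    rw [← hj]
    have hm : ∀ z : Subgroup.centralizer ({x'} : Set ↥(P : Subgroup G)),
        g⁻¹ * ((z : ↥(P : Subgroup G)) : G) * g ∈ Subgroup.centralizer ({x} : Set G) := by
      intro z
      rw [Subgroup.mem_centralizer_singleton_iff]
      have h1 : ((z : ↥(P : Subgroup G)) : G) * (g * x * g⁻¹) = (g * x * g⁻¹) * (z : ↥(P : Subgroup G)) :=
        congrArg Subtype.val (Subgroup.mem_centralizer_singleton_iff.1 z.2)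
      calc g⁻¹ * ((z : ↥(P : Subgroup G)) : G) * g * x
          = g⁻¹ * (((z : ↥(P : Subgroup G)) : G) * (g * x * g⁻¹)) * g := by group
        _ = g⁻¹ * ((g * x * g⁻¹) * ((z : ↥(P : Subgroup G)) : G)) * g := by rw [h1]
        _ = _ := by group
    exact Subgroup.card_dvd_of_injective
      (MonoidHom.mk' (fun z => (⟨g⁻¹ * ((z : ↥(P : Subgroup G)) : G) * g, hm z⟩ :
        Subgroup.centralizer ({x} : Set G))) fun a b => Subtype.ext (by simp [mul_assoc]))
      fun a b h => Subtype.ext (Subtype.ext (by simpa using congrArg Subtype.val h))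

end Cfsg.Agent.S4587
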