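import Cfsg.Statements.S4588
import Cfsg.Agent.Lib.Block.CyclicQuotientBound
import Cfsg.Agent.Lib.Block.CyclicPrimeApps
import Cfsg.Agent.Lib.Block.ThirdMain

set_option autoImplicit false
open Cfsg

namespace Cfsg.Agent.S4588

/-- Let G be a finite group, p a prime and M a maximal ideal of the algebraic integers containing p. If some p-element x of G (possibly x = 1) has centralizer whose order has p-part at most p², then the principal p-block of G contains at most p² irreducible characters of degree prime to p. -/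
theorem result {G : Type*} [Group G] [Finite G] (p : ℕ) [Fact p.Prime] (M : Ideal Cfsg.AlgInt) (hM : Cfsg.IsPModular p M)
    (hx : ∃ x : G, (∃ k : ℕ, orderOf x = p ^ k) ∧ (Nat.card (Subgroup.centralizer ({x} : Set G))).factorization p ≤ 2) :
    Nat.card {χ : Cfsg.IrrCharacter G // χ ∈ Cfsg.principalBlock M G ∧ ¬ p ∣ Cfsg.charDegree (χ : G → ℂ)} ≤ p ^ 2 := by
  classical
  haveI := Fintype.ofFinite G
  have hp := (Fact.out : p.Prime)
  obtain ⟨x, ⟨k, hk⟩, hC, hx1⟩ : ∃ x : G, (∃ k : ℕ, orderOf x = p ^ k) ∧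
      (Nat.card (Subgroup.centralizer ({x} : Set G))).factorization p ≤ 2 ∧
      (x = 1 → ¬ p ∣ Nat.card G) := by
    obtain ⟨x, hx, hC⟩ := hx
    by_cases h : x = 1 ∧ p ∣ Nat.card G
    · obtain ⟨z, hz⟩ := exists_prime_orderOf_dvd_card' p h.2
      refine ⟨z, ⟨1, by rw [hz, pow_one]⟩, ?_, fun e => absurd hz ?_⟩
      · rw [h.1] at hC
        have htop : Subgroup.centralizer ({(1 : G)} : Set G) = ⊤ := by
          rw [eq_top_iff]; intro g _
          exact Subgroup.mem_centralizer_iff.2 fun w hw => by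
            rw [Set.mem_singleton_iff] at hw; rw [hw, one_mul, mul_one]
        rw [htop, Subgroup.card_top] at hC
        exact ((Nat.factorization_le_iff_dvd Nat.card_pos.ne' Nat.card_pos.ne').2
          (Subgroup.card_subgroup_dvd_card _) p).trans hC
      · rw [e, orderOf_one]; exact hp.ne_one.symm
    · exact ⟨x, hx, hC, fun e => fun hd => h ⟨e, hd⟩⟩
  set H := Subgroup.centralizer ({x} : Set G) with hH
  haveI := Fintype.ofFinite H
  have hxH : x ∈ H := Subgroup.mem_centralizer_iff.2 fun w hw => by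
    rw [Set.mem_singleton_iff] at hw; rw [hw]
  have hHu : ∀ h : H, Commute x (h : G) := fun h =>
    Subgroup.mem_centralizer_iff.1 h.2 x (Set.mem_singleton x)
  have hind : Cfsg.IsInducedBlock M H (Cfsg.principalBlock M H) (Cfsg.principalBlock M G) :=
    (Cfsg.Lib.Block.isInducedBlock_principal_iff hM
      (Cfsg.Lib.Block.exists_isInducedBlock_of_centralizer hM ⟨k, hk⟩ hHu le_rfl
        Cfsg.Lib.Block.isPBlock_principal)).2 rfl
  -- a Sylow subgroup containing the element
  have hxp : IsPGroup p (Subgroup.zpowers (⟨x, hxH⟩ : H)) :=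
    IsPGroup.of_card (n := k) (by rw [Nat.card_zpowers, Subgroup.orderOf_mk, hk])
  obtain ⟨S, hS⟩ := hxp.exists_le_sylow
  have hSc : Nat.card S ≤ p ^ 2 := by
    rw [S.card_eq_multiplicity]
    exact Nat.pow_le_pow_right hp.pos hC
  have hxS : (⟨x, hxH⟩ : H) ∈ (S : Subgroup H) := hS (Subgroup.mem_zpowers _)
  have hgen : ∃ y : H, (S : Subgroup H) ≤
      Subgroup.zpowers (⟨x, hxH⟩ : H) ⊔ Subgroup.zpowers y := by
    by_cases hle : (S : Subgroup H) ≤ Subgroup.zpowers (⟨x, hxH⟩ : H)
    · exact ⟨1, hle.trans le_sup_left⟩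
    obtain ⟨y, hyS, hy⟩ := SetLike.not_le_iff_exists.1 hle
    refine ⟨y, ?_⟩
    set T := Subgroup.zpowers (⟨x, hxH⟩ : H) ⊔ Subgroup.zpowers y with hT
    have hTS : T ≤ (S : Subgroup H) := sup_le hS (Subgroup.zpowers_le.2 hyS)
    refine (Subgroup.eq_of_le_of_card_ge hTS ?_).ge
    refine hSc.trans ?_
    rcases eq_or_ne x 1 with e | e
    · exfalso
      refine hy ?_
      have hS1 : Nat.card S = 1 := by
        rw [S.card_eq_multiplicity, Nat.factorization_eq_zero_of_not_dvd, pow_zero]
        exact fun h => hx1 e (h.trans H.card_subgroup_dvd_card)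
      rw [show y = 1 from congrArg Subtype.val
        ((Nat.card_eq_one_iff_unique.1 hS1).1.elim (⟨y, hyS⟩ : S) 1)]
      exact Subgroup.one_mem _
    · obtain ⟨n, hn⟩ := (S.isPGroup'.to_le hTS).exists_card_eq
      have h1 : p ≤ Nat.card (Subgroup.zpowers (⟨x, hxH⟩ : H)) := by
        rw [Nat.card_zpowers, Subgroup.orderOf_mk, hk]
        refine Nat.le_self_pow (fun h0 => e ?_) p
        rw [← orderOf_eq_one_iff, hk, h0, pow_zero]
      have h2 : Nat.card (Subgroup.zpowers (⟨x, hxH⟩ : H)) < Nat.card T := by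
        refine lt_of_le_of_ne (Subgroup.card_le_of_le le_sup_left) fun h => hy ?_
        rw [Subgroup.eq_of_le_of_card_ge le_sup_left h.ge]
        exact Subgroup.mem_sup_right (Subgroup.mem_zpowers y)
      rw [hn] at h2 ⊢
      refine Nat.pow_le_pow_right hp.pos ?_
      by_contra hlt
      have h3 : p ^ n ≤ p ^ 1 := Nat.pow_le_pow_right hp.pos (by omega)
      rw [pow_one] at h3
      omega
  obtain ⟨y, hy⟩ := hgen
  have h := Cfsg.Lib.Block.card_height_zero_le_of_cyclic_quotient hM hk hHu le_rfl hind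
    (Cfsg.Lib.Block.isDefectGroup_principal_sylow hM S) hxH hxS hy
  refine le_trans (le_of_eq ?_) (h.trans hSc)
  have h0 : Cfsg.Lib.Block.minVal p (Cfsg.principalBlock M G) = 0 := by
    have h1 := Cfsg.Lib.Block.minVal_le (p := p) (Cfsg.Lib.Block.trivChar_mem_principal hM (G := G))
    rw [Cfsg.Lib.Block.charDegree_eq_of_apply_one
      (χ := ((Cfsg.Lib.Block.trivChar G : Cfsg.IrrCharacter G) : G → ℂ)) (n := 1)
      (by rw [Cfsg.Lib.Block.trivChar_coe, Nat.cast_one]), Nat.factorization_one] at h1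
    simpa using h1
  refine Nat.card_congr (Equiv.subtypeEquivRight fun χ => and_congr_right fun hχ => ?_)
  rw [Cfsg.Lib.Block.blockHeight_eq_zero_iff hχ, h0, ← not_ne_iff (a := (Cfsg.charDegree _).factorization p),
    not_iff_not, ← Nat.pos_iff_ne_zero]
  exact ⟨fun hd => hp.factorization_pos_of_dvd (Cfsg.Lib.Block.charDegree_pos χ).ne' hd, fun h => Nat.dvd_of_factorization_pos h.ne'⟩

end Cfsg.Agent.S4588
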