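import Cfsg.Statements.S4601
import Cfsg.Agent.Lib.Coprime.Action
import Cfsg.Agent.Lib.Core.PSolvable
import Cfsg.Agent.Lib.Fusion.Basic
import Cfsg.Agent.Lib.Sig.SectionControl
-- import your own Cfsg.Agent.* helpers here

set_option autoImplicit false
open Cfsg

namespace Cfsg.Agent.S4601

open Subgroup

universe u

theorem index_centralizer_quotient {G : Type u} [Group G] [Finite G] (N : Subgroup G) [N.Normal]
    {p q : ℕ} [Fact q.Prime]
    (h : ∀ y : G, (∃ k : ℕ, orderOf y = q ^ k) → ¬ p ∣ (centralizer ({y} : Set G)).index)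
    (y : G ⧸ N) (hy : ∃ k : ℕ, orderOf y = q ^ k) : ¬ p ∣ (centralizer ({y} : Set (G ⧸ N))).index := by
  obtain ⟨k, hk⟩ := hy
  obtain ⟨x, rfl⟩ := QuotientGroup.mk'_surjective N y
  obtain ⟨a, m, hm, he⟩ := Nat.exists_eq_pow_mul_and_not_dvd (orderOf_pos x).ne' q
    (Fact.out : q.Prime).ne_one
  have hm0 : m ≠ 0 := fun h0 => hm (h0 ▸ dvd_zero q)
  have hord : orderOf (x ^ m) = q ^ a := by
    rw [orderOf_pow_of_dvd hm0 (he ▸ dvd_mul_left _ _), he, Nat.mul_div_cancel _ (Nat.pos_of_ne_zero hm0)]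
  obtain ⟨j, hj⟩ := exists_pow_eq_self_of_coprime (x := QuotientGroup.mk' N x)
    (show m.Coprime (orderOf (QuotientGroup.mk' N x)) by
      rw [hk]; exact (((Fact.out : q.Prime).coprime_iff_not_dvd.2 hm).symm).pow_right k)
  have hle : (centralizer ({x ^ m} : Set G)).map (QuotientGroup.mk' N) ≤
      centralizer ({QuotientGroup.mk' N x} : Set (G ⧸ N)) := by
    rintro _ ⟨c, hc, rfl⟩
    refine mem_centralizer_singleton_iff.2 ?_
    rw [← hj, ← map_pow, ← map_pow, ← map_mul, ← map_mul,
      ((show Commute c (x ^ m) from mem_centralizer_singleton_iff.1 hc).pow_right j).eq]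
  exact fun hd => h (x ^ m) ⟨a, hord⟩ ((hd.trans (index_dvd_of_le hle)).trans
    (index_map_dvd _ (QuotientGroup.mk'_surjective N)))

theorem exists_sylow_normalizes {G : Type u} [Group G] [Finite G] {p q : ℕ} [Fact p.Prime] [Fact q.Prime]
    (P : Sylow p G) (M : Subgroup G) (hPM : (P : Subgroup G) ≤ normalizer (M : Set G))
    (hM : ¬ q ∣ M.index) (R : Sylow q ↥M)
    (hR : ¬ p ∣ (normalizer ((R : Subgroup ↥M) : Set ↥M)).index) :
    ∃ Q : Sylow q G, (P : Subgroup G) ≤ normalizer ((Q : Subgroup G) : Set G) := by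
  classical
  have hcard : ¬ p ∣ Nat.card (Sylow q ↥M) := by
    rw [R.card_eq_index_normalizer]; exact hR
  let act : ↥(P : Subgroup G) → ↥M ≃* ↥M := fun g =>
    { toFun := fun m => ⟨(g : G) * m * (g : G)⁻¹, (mem_normalizer_iff.1 (hPM g.2) m).1 m.2⟩
      invFun := fun m => ⟨(g : G)⁻¹ * m * (g : G), by
        have := (mem_normalizer_iff.1 (inv_mem (hPM g.2)) m).1 m.2
        rwa [inv_inv] at this⟩
      left_inv := fun m => Subtype.ext (by simp [mul_assoc])
      right_inv := fun m => Subtype.ext (by simp [mul_assoc])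
      map_mul' := fun a b => Subtype.ext (by simp [mul_assoc]) }
  let φ : ↥(P : Subgroup G) →* MulAut ↥M :=
    { toFun := act
      map_one' := MulEquiv.ext fun m => Subtype.ext (by simp [act])
      map_mul' := fun a b => MulEquiv.ext fun m => Subtype.ext (by simp [act, mul_assoc]) }
  letI : MulAction ↥(P : Subgroup G) (Sylow q ↥M) := MulAction.compHom _ φ
  obtain ⟨R', hR'⟩ := P.2.nonempty_fixed_point_of_prime_not_dvd_card (Sylow q ↥M) hcard
  set Q₀ := (R' : Subgroup ↥M).map M.subtype with hQ₀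
  have hQi : ¬ q ∣ Q₀.index := by
    rw [← relIndex_mul_index (map_subtype_le _ : Q₀ ≤ M), (Fact.out : q.Prime).dvd_mul]
    rintro (hd | hd)
    · refine R'.not_dvd_index ?_
      rwa [relIndex, subgroupOf, comap_map_eq_self_of_injective M.subtype_injective] at hd
    · exact hM hd
  refine ⟨(R'.2.map M.subtype).toSylow hQi, fun g hg => ?_⟩
  show g ∈ normalizer (Q₀ : Set G)
  rw [mem_normalizer_iff_map_conj_eq]
  have h1 : (φ ⟨g, hg⟩) • R' = R' := hR' ⟨g, hg⟩
  have h2 : (R' : Subgroup ↥M).map (φ ⟨g, hg⟩).toMonoidHom = (R' : Subgroup ↥M) :=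
    congrArg (fun S : Sylow q ↥M => (S : Subgroup ↥M)) h1
  show Q₀.map (MulAut.conj g).toMonoidHom = Q₀
  conv_rhs => rw [hQ₀, ← h2]
  rw [hQ₀, Subgroup.map_map, Subgroup.map_map]
  rfl

theorem main : ∀ (n : ℕ) (G : Type u) [Group G] [Finite G], Nat.card G ≤ n →
    ∀ (p q : ℕ) [Fact p.Prime] [Fact q.Prime], p ≠ q →
      (Cfsg.IsPSolvable p G ∨ Cfsg.IsPSolvable q G) →
      (∀ y : G, (∃ k : ℕ, orderOf y = q ^ k) → ¬ p ∣ (centralizer ({y} : Set G)).index) →
      ∃ (P : Sylow p G) (Q : Sylow q G), (P : Subgroup G) ≤ normalizer ((Q : Subgroup G) : Set G) := by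
  intro n
  induction n with
  | zero => intro G _ _ h; have : 0 < Nat.card G := Nat.card_pos; omega
  | succ n ih =>
    intro G _ _ hn p q _ _ hpq hsolv h
    rcases subsingleton_or_nontrivial G with hG | hG
    · obtain ⟨P⟩ : Nonempty (Sylow p G) := inferInstance
      obtain ⟨Q⟩ : Nonempty (Sylow q G) := inferInstance
      exact ⟨P, Q, fun g _ => by rw [Subsingleton.elim g 1]; exact one_mem _⟩
    obtain ⟨N, hN⟩ := Cfsg.Lib.Core.exists_isMinNormal_univ (G := G)
    haveI := hN.1
    have hpp : p.Prime := Fact.out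
    have hqp : q.Prime := Fact.out
    have hcases : (Nat.card N).Coprime p ∨ (Nat.card N).Coprime q := by
      rcases hsolv with hs | hs
      · rcases Cfsg.Lib.Core.minimal_normal_of_isPSolvable hs hN with hc | hc
        · obtain ⟨k, hk⟩ := IsPGroup.iff_card.1 hc
          right; rw [hk]
          exact Nat.Coprime.pow_left k ((Nat.coprime_primes hpp hqp).2 hpq)
        · exact Or.inl hc
      · rcases Cfsg.Lib.Core.minimal_normal_of_isPSolvable hs hN with hc | hc
        · obtain ⟨k, hk⟩ := IsPGroup.iff_card.1 hc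
          left; rw [hk]
          exact Nat.Coprime.pow_left k ((Nat.coprime_primes hqp hpp).2 (Ne.symm hpq))
        · exact Or.inr hc
    have hlt : Nat.card (G ⧸ N) < Nat.card G := Cfsg.Lib.Core.card_quotient_lt hN.2.1
    obtain ⟨Pb, Qb, hPQ⟩ := ih (G ⧸ N) (by omega) p q hpq
      (hsolv.imp (fun hs => Cfsg.Lib.Core.isPSolvable_quotient hs N)
        (fun hs => Cfsg.Lib.Core.isPSolvable_quotient hs N))
      (index_centralizer_quotient N h)
    set f := QuotientGroup.mk' N with hf
    have hfs : Function.Surjective f := QuotientGroup.mk'_surjective N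
    obtain ⟨P, rfl⟩ := Sylow.mapSurjective_surjective hfs p Pb
    set M := (Qb : Subgroup (G ⧸ N)).comap f with hM
    have hPM : (P : Subgroup G) ≤ normalizer (M : Set G) := by
      rw [hM, ← comap_normalizer_eq_of_surjective _ hfs, ← map_le_iff_le_comap]
      exact hPQ
    have hMi : ¬ q ∣ M.index := by rw [hM, index_comap_of_surjective _ hfs]; exact Qb.not_dvd_index
    have hcardM : Nat.card M = Nat.card N * Nat.card (Qb : Subgroup (G ⧸ N)) := by
      rw [hM, Cfsg.Lib.Core.card_comap_eq f hfs, hf, QuotientGroup.ker_mk']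
    obtain ⟨j, hj⟩ := IsPGroup.iff_card.1 Qb.2
    obtain ⟨R⟩ : Nonempty (Sylow q ↥M) := inferInstance
    suffices hR : ¬ p ∣ (normalizer ((R : Subgroup ↥M) : Set ↥M)).index by
      obtain ⟨Q, hQ⟩ := exists_sylow_normalizes P M hPM hMi R hR
      exact ⟨P, Q, hQ⟩
    rcases hcases with hc | hc
    · intro hd
      have h1 : p ∣ Nat.card M := hd.trans (index_dvd_card _)
      rw [hcardM, hpp.dvd_mul, hj] at h1
      rcases h1 with h1 | h1
      · exact (hpp.coprime_iff_not_dvd.1 hc.symm) h1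
      · exact hpq ((Nat.prime_dvd_prime_iff_eq hpp hqp).1 (hpp.dvd_of_dvd_pow h1))
    -- `q` does not divide `|N|`: the Sylow `q`-subgroup centralizes a Sylow `p`-subgroup of `N`
    set R₀ := (R : Subgroup ↥M).map M.subtype with hR₀
    obtain ⟨i, hi⟩ := IsPGroup.iff_card.1 (R.2.map M.subtype)
    have hcop : (Nat.card R₀).Coprime (Nat.card N) := by
      rw [hR₀, hi]; exact hc.symm.pow_left i
    have hRN : R₀ ≤ normalizer (N : Set G) := by rw [normalizer_eq_top]; exact le_top
    have hsolR : Group.IsSolvable R₀ ∨ Group.IsSolvable N := Or.inl (by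
      have := (R.2.map M.subtype).isNilpotent
      infer_instance)
    obtain ⟨P₀, hP₀⟩ := Cfsg.Lib.Coprime.exists_invariant_sylow hRN hcop hsolR p
    set S₀ := (P₀ : Subgroup N).map N.subtype with hS₀
    have hcent : ∀ x ∈ R₀, ∀ s ∈ S₀, s * x = x * s := by
      intro x hx s hs
      obtain ⟨k, hk⟩ := IsPGroup.iff_orderOf.1 (R.2.map M.subtype) ⟨x, hx⟩
      rw [← Subgroup.orderOf_coe] at hk
      obtain ⟨S⟩ : Nonempty (Sylow p ↥(centralizer ({x} : Set G))) := inferInstance
      set S₁ := (S : Subgroup ↥(centralizer ({x} : Set G))).map (centralizer ({x} : Set G)).subtype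
      have hS₁ : ¬ p ∣ S₁.index := by
        rw [← relIndex_mul_index (map_subtype_le _ : S₁ ≤ centralizer ({x} : Set G)), hpp.dvd_mul]
        rintro (hd | hd)
        · refine S.not_dvd_index ?_
          rwa [relIndex, subgroupOf, comap_map_eq_self_of_injective
            (centralizer ({x} : Set G)).subtype_injective] at hd
        · exact h x ⟨k, hk⟩ hd
      let SG : Sylow p G := (S.2.map _).toSylow hS₁
      have hS₁x : S₁ ≤ centralizer ({x} : Set G) := map_subtype_le _
      have hT : ¬ p ∣ (S₁ ⊓ N).relIndex N :=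
        Cfsg.Lib.Sig.not_dvd_relIndex_inf (le_top : S₁ ≤ ⊤) SG.2
          (by rw [relIndex_top_right]; exact hS₁) le_top
          fun g _ y hy => hN.1.conj_mem y hy g
      have hTp : IsPGroup p (S₁ ⊓ N : Subgroup G) := (S.2.map _).to_le inf_le_left
      let P₁ : Sylow p N :=
        (hTp.of_equiv (subgroupOfEquivOfLe (inf_le_right : S₁ ⊓ N ≤ N)).symm).toSylow hT
      have hP₁ : (P₁ : Subgroup N).map N.subtype = S₁ ⊓ N := map_subgroupOf_eq_of_le inf_le_right
      have hxR : zpowers x ≤ R₀ := zpowers_le.2 hx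
      obtain ⟨c, hc, hcS⟩ := Cfsg.Lib.Coprime.exists_centralizer_conj_sylow (hxR.trans hRN)
        (hcop.coprime_dvd_left (card_dvd_of_le hxR)) (Or.inl inferInstance) P₁ P₀
        (by
          rw [hP₁]
          refine le_trans (zpowers_le.2 ?_) (centralizer_le_normalizer _)
          exact mem_centralizer_iff.2 fun y hy => mem_centralizer_singleton_iff.1 (hS₁x hy.1))
        (hxR.trans hP₀)
      rw [hP₁] at hcS
      rw [hS₀, hcS] at hs
      obtain ⟨y, hy, rfl⟩ := hs
      have h1 : y * x = x * y := mem_centralizer_singleton_iff.1 (hS₁x hy.1)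
      have h2 : x * c = c * x := mem_centralizer_iff.1 hc.2 x (mem_zpowers x)
      show c * y * c⁻¹ * x = x * (c * y * c⁻¹)
      calc c * y * c⁻¹ * x = c * y * (c⁻¹ * (x * c)) * c⁻¹ := by group
        _ = c * (y * x) * c⁻¹ := by rw [h2]; group
        _ = (c * x) * y * c⁻¹ := by rw [h1]; group
        _ = _ := by rw [← h2]; group
    have hS₀M : S₀ ≤ M := (map_subtype_le _).trans (by
      rw [hM]; exact le_trans (by rw [hf, QuotientGroup.ker_mk']) (ker_le_comap f _))
    have hS₀N : S₀.subgroupOf M ≤ normalizer ((R : Subgroup ↥M) : Set ↥M) := fun s hs =>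
      centralizer_le_normalizer _ (mem_centralizer_iff.2 fun r hr =>
        Subtype.ext (hcent r (mem_map_of_mem M.subtype hr) s (mem_subgroupOf.1 hs)).symm)
    intro hd
    have h1 : p ∣ (S₀.subgroupOf M).index := hd.trans (index_dvd_of_le hS₀N)
    have h2 := (S₀.subgroupOf M).card_mul_index
    rw [Nat.card_congr (subgroupOfEquivOfLe hS₀M).toEquiv, hcardM, hS₀,
      card_map_of_injective N.subtype_injective, hj, ← (P₀ : Subgroup N).card_mul_index, mul_assoc] at h2
    have h3 := Nat.eq_of_mul_eq_mul_left Nat.card_pos h2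
    rw [h3, hpp.dvd_mul] at h1
    rcases h1 with h1 | h1
    · exact P₀.not_dvd_index h1
    · exact hpq ((Nat.prime_dvd_prime_iff_eq hpp hqp).1 (hpp.dvd_of_dvd_pow h1))

/-- Let p and q be primes and G a finite group that is p-solvable or q-solvable, in which no q-element has conjugacy class size divisible by p. Then some Sylow p-subgroup of G normalizes some Sylow q-subgroup of G. -/
theorem result {G : Type*} [Group G] [Finite G] (p q : ℕ) [Fact p.Prime] [Fact q.Prime] (hsolv : Cfsg.IsPSolvable p G ∨ Cfsg.IsPSolvable q G)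
    (h : ∀ y : G, (∃ k : ℕ, orderOf y = q ^ k) → ¬ p ∣ (Subgroup.centralizer ({y} : Set G)).index) :
    ∃ (P : Sylow p G) (Q : Sylow q G), (P : Subgroup G) ≤ Subgroup.normalizer ((Q : Subgroup G) : Set G) := by
  rcases eq_or_ne p q with rfl | hpq
  · obtain ⟨P⟩ : Nonempty (Sylow p G) := inferInstance
    exact ⟨P, P, le_normalizer⟩
  · exact main _ G le_rfl p q hpq hsolv h

end Cfsg.Agent.S4601
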