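import Cfsg.Statements.S4602
import Cfsg.Agent.Lib.Core.PSolvable

set_option autoImplicit false
open Cfsg

namespace Cfsg.Agent.S4602

/-- Let G be a finite p-solvable group and q a prime different from p. Some Sylow p-subgroup of G normalizes some Sylow q-subgroup of G if and only if q does not divide the order of G/O_{p'}(G), the quotient by the largest normal subgroup of order prime to p. -/
theorem result {G : Type*} [Group G] [Finite G] (p q : ℕ) [Fact p.Prime] [Fact q.Prime] (hpq : p ≠ q) (hsolv : Cfsg.IsPSolvable p G) :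
    (∃ (P : Sylow p G) (Q : Sylow q G), (P : Subgroup G) ≤ Subgroup.normalizer ((Q : Subgroup G) : Set G)) ↔ ¬ q ∣ (Cfsg.pPrimeCore p G).index := by
  classical
  set O := Cfsg.pPrimeCore p G with hO
  have hOp : ¬ p ∣ Nat.card O := Cfsg.Lib.Core.pPrimeCore_not_dvd p G
  constructor
  · rintro ⟨P, Q, hPQ⟩ hdvd
    set π := QuotientGroup.mk' O with hπ
    set P' := P.mapSurjective (QuotientGroup.mk'_surjective O) with hP'
    set Q' := Q.mapSurjective (QuotientGroup.mk'_surjective O) with hQ'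
    set R := Cfsg.pCore p (G ⧸ O) with hR
    have hnorm : (R : Subgroup (G ⧸ O)) ≤ Subgroup.normalizer ((Q' : Subgroup (G ⧸ O)) : Set (G ⧸ O)) := by
      refine (Cfsg.Lib.Core.pCore_le_sylow P').trans ?_
      rw [hP', hQ', Sylow.coe_mapSurjective, Sylow.coe_mapSurjective]
      exact (Subgroup.map_mono hPQ).trans (Subgroup.le_normalizer_map _)
    have hdisj : R ⊓ (Q' : Subgroup (G ⧸ O)) = ⊥ := by
      obtain ⟨a, ha⟩ := IsPGroup.iff_card.1 (Cfsg.Lib.Core.pCore_isPGroup p (G ⧸ O))
      obtain ⟨b, hb⟩ := IsPGroup.iff_card.1 Q'.isPGroup'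
      exact Subgroup.inf_eq_bot_of_coprime (by
        rw [hR, ha, hb]
        exact Nat.coprime_pow_primes _ _ (Fact.out : p.Prime) (Fact.out : q.Prime) hpq)
    have hle : (Q' : Subgroup (G ⧸ O)) ≤ R := by
      refine le_trans ?_ (Cfsg.Lib.Core.centralizer_pCore_le_of_isPSolvable
        (Cfsg.Lib.Core.isPSolvable_quotient hsolv O) Cfsg.Lib.Core.pPrimeCore_quotient_eq_bot)
      intro y hy
      refine Subgroup.mem_centralizer_iff.2 fun x hx => ?_
      have h1 : x * y * x⁻¹ * y⁻¹ ∈ R ⊓ (Q' : Subgroup (G ⧸ O)) := by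
        refine ⟨?_, (Q' : Subgroup (G ⧸ O)).mul_mem ((Subgroup.mem_normalizer_iff.1 (hnorm hx) y).1 hy) ((Q' : Subgroup (G ⧸ O)).inv_mem hy)⟩
        rw [show x * y * x⁻¹ * y⁻¹ = x * (y * x⁻¹ * y⁻¹) by group]
        exact mul_mem hx ((inferInstance : (Cfsg.pCore p (G ⧸ O)).Normal).conj_mem _ (inv_mem hx) y)
      rw [hdisj, Subgroup.mem_bot, mul_inv_eq_one, mul_inv_eq_iff_eq_mul] at h1
      exact h1
    refine Q'.not_dvd_index ?_
    have hbot : (Q' : Subgroup (G ⧸ O)) = ⊥ :=
      eq_bot_iff.2 (hdisj ▸ (le_inf hle le_rfl : (Q' : Subgroup (G ⧸ O)) ≤ R ⊓ Q'))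
    rw [hbot, Subgroup.index_bot, ← Subgroup.index_eq_card]
    exact hdvd
  · intro hq
    obtain ⟨Q⟩ : Nonempty (Sylow q G) := inferInstance
    have hQO : (Q : Subgroup G) ≤ O := by
      intro x hx
      rw [← QuotientGroup.eq_one_iff, ← orderOf_eq_one_iff]
      obtain ⟨j, hj⟩ := IsPGroup.iff_orderOf.1 Q.isPGroup' ⟨x, hx⟩
      rw [Subgroup.orderOf_mk] at hj
      refine Nat.eq_one_of_dvd_coprimes
        (Nat.Coprime.pow_left j ((Fact.out : q.Prime).coprime_iff_not_dvd.2 hq))
        (hj ▸ orderOf_map_dvd (QuotientGroup.mk' O) x) ?_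
      rw [Subgroup.index_eq_card]
      exact orderOf_dvd_natCard _
    have hsup := Sylow.normalizer_sup_eq_top (Q.subtype hQO)
    rw [Sylow.coe_subtype, Subgroup.map_subgroupOf_eq_of_le hQO] at hsup
    set N := Subgroup.normalizer ((Q : Subgroup G) : Set G) with hN
    obtain ⟨S⟩ : Nonempty (Sylow p N) := inferInstance
    have hidx : ¬ p ∣ N.index := by
      intro h
      have h1 : O.index = O.relIndex N := by
        rw [← Subgroup.relIndex_top_right, ← hsup, Subgroup.relIndex_sup_right]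
      refine hOp (h.trans ⟨Nat.card (O.subgroupOf N), ?_⟩)
      have h2 := Subgroup.card_mul_index (O.subgroupOf N)
      have h3 := (Subgroup.card_mul_index O).trans (Subgroup.card_mul_index N).symm
      have h4 : O.relIndex N = (O.subgroupOf N).index := rfl
      have h5 : 0 < O.index := Nat.pos_of_ne_zero Subgroup.index_ne_zero_of_finite
      apply Nat.eq_of_mul_eq_mul_right h5
      rw [h3, ← h2, ← h4, ← h1]
      ring
    have hS : IsPGroup p ((S : Subgroup N).map N.subtype) := S.isPGroup'.map _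
    have hSi : ¬ p ∣ ((S : Subgroup N).map N.subtype).index := by
      rw [Subgroup.index_map_subtype, (Fact.out : p.Prime).dvd_mul]
      exact not_or.2 ⟨S.not_dvd_index, hidx⟩
    exact ⟨hS.toSylow hSi, Q, Subgroup.map_subtype_le _⟩

end Cfsg.Agent.S4602
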