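import Cfsg.Statements.S4604
import Cfsg.Agent.Lib.Block.RegInt
import Cfsg.Agent.Lib.Char.Galois
import Mathlib.Algebra.CharP.Lemmas

set_option autoImplicit false
open Cfsg

namespace Cfsg.Agent.S4604

/-- Let G be a finite group, p a prime and p^a the p-part of the order of G. Let x, y ∈ G and let x′, y′ be their p-regular parts: x′ has order prime to p, commutes with x·x′⁻¹, and x·x′⁻¹ has p-power order (likewise for y). Then x′ and y′ are conjugate in G if and only if for every irreducible character χ of G the algebraic integer χ(x)^(p^a) − χ(y)^(p^a) is p times an algebraic integer. -/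
theorem result {G : Type*} [Group G] [Finite G] (p : ℕ) [Fact p.Prime] (x y x' y' : G)
    (hx : (∃ k : ℕ, orderOf (x * x'⁻¹) = p ^ k) ∧ Commute (x * x'⁻¹) x' ∧ ¬ p ∣ orderOf x')
    (hy : (∃ k : ℕ, orderOf (y * y'⁻¹) = p ^ k) ∧ Commute (y * y'⁻¹) y' ∧ ¬ p ∣ orderOf y') :
    IsConj x' y' ↔ ∀ χ : Cfsg.IrrCharacter G, ∃ γ : Cfsg.AlgInt,
      (χ : G → ℂ) x ^ (p ^ (Nat.card G).factorization p) - (χ : G → ℂ) y ^ (p ^ (Nat.card G).factorization p) = (p : ℂ) * (γ : ℂ) := by
  classical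
  haveI := Fintype.ofFinite G
  have hp : p.Prime := Fact.out
  set a := (Nat.card G).factorization p with ha
  set k := p ^ a with hk
  -- the `p ^ a`-th power of an element only depends on its regular part
  have hpow : ∀ w w' : G, ((∃ j : ℕ, orderOf (w * w'⁻¹) = p ^ j) ∧ Commute (w * w'⁻¹) w' ∧
      ¬ p ∣ orderOf w') → w ^ k = w' ^ k := by
    rintro w w' ⟨⟨j, hj⟩, hc, -⟩
    have h1 : (w * w'⁻¹) ^ k = 1 := by
      rw [← orderOf_dvd_iff_pow_eq_one, hj, hk]
      refine Nat.pow_dvd_pow p ?_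
      exact (hp.pow_dvd_iff_le_factorization Nat.card_pos.ne').1 (hj ▸ orderOf_dvd_natCard _)
    conv_lhs => rw [show w = w * w'⁻¹ * w' by group]
    rw [hc.mul_pow, h1, one_mul]
  -- Frobenius congruence
  have hfrob : ∀ (χ : Cfsg.IrrCharacter G) (w : G), ∃ γ : Cfsg.AlgInt,
      (χ : G → ℂ) w ^ k = (χ : G → ℂ) (w ^ k) + (p : ℂ) * (γ : ℂ) := by
    intro χ w
    obtain ⟨n, μ, hμ, hval⟩ := Cfsg.Lib.Char.exists_sum_roots χ.2.isCharacter w
    have hint : ∀ i, IsIntegral ℤ (μ i) := fun i =>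
      IsIntegral.of_pow (orderOf_pos w) (by rw [hμ i]; exact isIntegral_one)
    let m : Fin n → Cfsg.AlgInt := fun i => ⟨μ i, hint i⟩
    have key : ∀ s : Finset (Fin n), ∃ γ : Cfsg.AlgInt,
        (∑ i ∈ s, m i) ^ k = (∑ i ∈ s, m i ^ k) + (p : Cfsg.AlgInt) * γ := by
      intro s
      induction s using Finset.induction_on with
      | empty => exact ⟨0, by simp [zero_pow (pow_pos hp.pos a).ne', hk]⟩
      | @insert i s hi ih =>
        obtain ⟨γ, hγ⟩ := ih
        obtain ⟨r, hr⟩ := exists_add_pow_prime_pow_eq hp (m i) (∑ j ∈ s, m j) a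
        rw [← hk] at hr
        refine ⟨γ + m i * (∑ j ∈ s, m j) * r, ?_⟩
        rw [Finset.sum_insert hi, Finset.sum_insert hi, hr, hγ]
        ring
    obtain ⟨γ, hγ⟩ := key Finset.univ
    refine ⟨γ, ?_⟩
    have h1 := congrArg (fun z : Cfsg.AlgInt => (z : ℂ)) hγ
    simp only [AddSubmonoidClass.coe_finsetSum, SubmonoidClass.coe_pow, AddMemClass.coe_add,
      MulMemClass.coe_mul, m] at h1
    rw [hval k, show (χ : G → ℂ) w = ∑ i, μ i by have := hval 1; simpa using this]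
    simpa using h1
  constructor
  · intro hconj χ
    obtain ⟨γ₁, h1⟩ := hfrob χ x
    obtain ⟨γ₂, h2⟩ := hfrob χ y
    refine ⟨γ₁ - γ₂, ?_⟩
    obtain ⟨c, hc⟩ := isConj_iff.1 hconj
    have e : (χ : G → ℂ) (x ^ k) = (χ : G → ℂ) (y ^ k) := by
      rw [hpow x x' hx, hpow y y' hy, ← hc, conj_pow]
      exact (χ.2.isClassFunction _ _).symm
    rw [h1, h2, e]
    push_cast
    ring
  · intro h
    obtain ⟨M, hM⟩ := Cfsg.Lib.Block.exists_isPModular hp
    have hco : Nat.Coprime k (orderOf x') :=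
      Nat.Coprime.pow_left _ (hp.coprime_iff_not_dvd.2 hx.2.2)
    have hreg : ∀ w : G, ¬ p ∣ orderOf w → Cfsg.Lib.Block.pReg p w = w := fun w hw => by
      have h1 : orderOf (1 : G) = p ^ 0 := by simp
      exact (Cfsg.Lib.Block.eq_pReg (one_mul w) (Commute.one_left w) h1 hw).symm
    have hrx : ¬ p ∣ orderOf (x' ^ k) := fun h => hx.2.2 (h.trans (orderOf_pow_dvd k))
    have hry : ¬ p ∣ orderOf (y' ^ k) := fun h => hy.2.2 (h.trans (orderOf_pow_dvd k))
    have hcongr : ∀ χ : Cfsg.IrrCharacter G,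
        Cfsg.MemLocalIdeal M ((χ : G → ℂ) (x' ^ k) - (χ : G → ℂ) (y' ^ k)) := fun χ => by
      obtain ⟨γ, hγ⟩ := h χ
      obtain ⟨γ₁, h1⟩ := hfrob χ x
      obtain ⟨γ₂, h2⟩ := hfrob χ y
      rw [← hpow x x' hx, ← hpow y y' hy]
      have e : (χ : G → ℂ) (x ^ k) - (χ : G → ℂ) (y ^ k) =
          (((p : Cfsg.AlgInt) * (γ - γ₁ + γ₂) : Cfsg.AlgInt) : ℂ) := by
        push_cast
        linear_combination hγ - h1 + h2
      rw [e, Cfsg.Lib.Block.memLocalIdeal_algInt_iff hM]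
      exact Ideal.mul_mem_right _ _ hM.2.2
    set F : G → ℂ := fun g => if IsConj (Cfsg.Lib.Block.pReg p g) (x' ^ k) then 1 else 0 with hF
    have hV := Cfsg.Lib.Block.vChar_section hM (x' ^ k) hrx
    have hdiff : Cfsg.MemLocalIdeal M (F (x' ^ k) - F (y' ^ k)) := by
      rw [show F = _ from Cfsg.Lib.Char.eq_sum_classInner hV.isClass]
      simp only [Finset.sum_apply, Pi.smul_apply, smul_eq_mul, ← Finset.sum_sub_distrib, ← mul_sub]
      exact Cfsg.Lib.Block.memLocalIdeal_sum hM _ _ fun χ _ =>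
        Cfsg.Lib.Block.memLocalIdeal_mul_left hM (hV.mem χ) (hcongr χ)
    have hconj : IsConj (y' ^ k) (x' ^ k) := by
      by_contra hne
      simp only [hF, hreg _ hrx, hreg _ hry, if_pos (IsConj.refl _), if_neg hne, sub_zero] at hdiff
      exact Cfsg.Lib.Block.not_memLocalIdeal_one hM hdiff
    obtain ⟨c, hc⟩ := isConj_iff.1 hconj
    have hco' : Nat.Coprime k (orderOf x' * orderOf y') :=
      Nat.Coprime.mul_right hco (Nat.Coprime.pow_left _ (hp.coprime_iff_not_dvd.2 hy.2.2))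
    set m := orderOf x' * orderOf y' with hm
    have hbez : (1 : ℤ) = (k : ℤ) * Nat.gcdA k m + (m : ℤ) * Nat.gcdB k m := by
      have := Nat.gcd_eq_gcd_ab k m
      rwa [hco'.gcd_eq_one, Nat.cast_one] at this
    have hrec : ∀ w : G, w ^ m = 1 → w = (w ^ k) ^ Nat.gcdA k m := fun w hw => by
      conv_lhs => rw [← zpow_one w, hbez, zpow_add, zpow_mul, zpow_mul, zpow_natCast,
        zpow_natCast, hw, one_zpow, mul_one]
    have h1 : x' ^ m = 1 := by rw [hm, pow_mul, pow_orderOf_eq_one, one_pow]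
    have h2 : (c * y' * c⁻¹) ^ m = 1 := by
      rw [conj_pow, hm, mul_comm, pow_mul, pow_orderOf_eq_one, one_pow, mul_one, mul_inv_cancel]
    refine IsConj.symm (isConj_iff.2 ⟨c, ?_⟩)
    rw [hrec _ h2, hrec _ h1, conj_pow, hc]

end Cfsg.Agent.S4604
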