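import Cfsg.Statements.S4607
import Cfsg.Agent.Lib.Block.TwoCharacters
import Cfsg.Agent.Lib.Block.CyclicStructureApps

set_option autoImplicit false
open Cfsg

namespace Cfsg.Agent.S4607

/-- Let G be a finite group, p a prime, M a maximal ideal of the algebraic integers containing p, and B a p-block of G with defect group D. Then B contains exactly two irreducible characters if and only if D has order 2. -/
theorem result {G : Type*} [Group G] [Finite G] (p : ℕ) [Fact p.Prime] (M : Ideal Cfsg.AlgInt) (hM : Cfsg.IsPModular p M) (B : Set (Cfsg.IrrCharacter G)) (hB : Cfsg.IsPBlock M B) (D : Subgroup G) (hD : Cfsg.IsDefectGroup p M B D) : Nat.card B = 2 ↔ Nat.card D = 2 := by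
  classical
  haveI := Fintype.ofFinite G
  have hcd := Cfsg.Lib.Block.card_defectGroup hM hB hD
  refine ⟨fun h => hcd.trans (Cfsg.Lib.Block.pow_defect_eq_two hM hB h), fun h2 => ?_⟩
  have hcyc : IsCyclic D := isCyclic_of_prime_card (p := 2) h2
  have hab := Cfsg.Lib.Block.comm_of_isCyclic hcyc
  obtain ⟨c, hmax⟩ := Cfsg.Lib.Block.exists_pair_at_defect hM hB hD
  have hc : IsInducedBlock M (Subgroup.centralizer (D : Set G)) c B :=
    Cfsg.Lib.Block.isInducedBlock_of_isBrauerPairOf hM
      (Cfsg.Lib.Block.le_centralizer_of_abelian hab le_rfl) hmax.1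
  have hne : D ≠ ⊥ := by
    intro h
    rw [h, Subgroup.card_bot] at h2
    omega
  have hp2 : p = 2 := by
    have h1 : p ∣ 2 := by
      rw [← h2, hcd]
      refine dvd_pow_self p fun h0 => ?_
      rw [h0, pow_zero, h2] at hcd
      omega
    exact (Nat.prime_dvd_prime_iff_eq (Fact.out : p.Prime) Nat.prime_two).1 h1
  let T : Subgroup G :=
    Subgroup.normalizer (D : Set G) ⊓ Cfsg.Lib.Block.invStab (Cfsg.Lib.Block.indVec c)
  have hT : ∀ y : G, y ∈ T ↔ y ∈ Subgroup.normalizer (D : Set G) ∧
      StabilizesBlock (Subgroup.centralizer (D : Set G)) c y := fun y => by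
    refine and_congr_right fun hy => ?_
    rw [Cfsg.Lib.Block.stabilizesBlock_iff_coeff (Cfsg.Lib.Block.mem_normalizer_centralizer hy),
      ← Cfsg.Lib.Block.extF_indVec]
    rfl
  have he : (Subgroup.centralizer (D : Set G)).relIndex T = 1 :=
    Nat.dvd_one.1 (by
      have := Cfsg.Lib.Block.inertial_dvd hM hB hD hcyc hc hT
      rwa [hp2] at this)
  obtain ⟨-, X, Y, -, -, hBXY, hdis, hX, hY, -⟩ :=
    Cfsg.Lib.Block.cyclic_structure hM hB hD hcyc hc hT hne
  rw [he] at hX hY
  rw [hBXY, Nat.card_coe_set_eq, Set.ncard_union_eq hdis, ← Nat.card_coe_set_eq,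
    ← Nat.card_coe_set_eq, hX, hY, h2]

end Cfsg.Agent.S4607
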