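import Cfsg.Statements.S4608
import Cfsg.Agent.Lib.Block.FiveChars.Corner
import Cfsg.Agent.Lib.Block.FiveChars.Abelian
import Cfsg.Agent.Lib.Block.CyclicStructureApps

set_option autoImplicit false
open Cfsg

namespace Cfsg.Agent.S4608

/-- Let G be a finite group, p a prime, M a maximal ideal of the algebraic integers containing p, and B a p-block of G with defect group D. If B has p-regular rank one and exactly five irreducible characters, then D is cyclic of order 5, or D has order 8 and is non-abelian (dihedral or quaternion). -/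
theorem result {G : Type*} [Group G] [Finite G] (p : ℕ) [Fact p.Prime] (M : Ideal Cfsg.AlgInt) (hM : Cfsg.IsPModular p M) (B : Set (Cfsg.IrrCharacter G)) (hB : Cfsg.IsPBlock M B) (D : Subgroup G) (hD : Cfsg.IsDefectGroup p M B D)
    (hl : Cfsg.blockRank p B = 1) (hk : Nat.card B = 5) :
    (Nat.card D = 5) ∨ (Nat.card D = 8 ∧ ¬ IsMulCommutative D) := by
  classical
  haveI := Fintype.ofFinite G
  obtain ⟨h5, h8⟩ := Cfsg.Lib.Block.pow_defect_mem_five_eight hM hB hk hl
  have hcard : Nat.card D = p ^ Cfsg.blockDefect p B := Cfsg.Lib.Block.card_defectGroup hM hB hD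
  rw [← hcard] at h5 h8
  have hp := (Fact.out : p.Prime)
  have hprime : ∀ q, q.Prime → q ∣ Nat.card D → q = p := fun q hq hd =>
    (Nat.prime_dvd_prime_iff_eq hq hp).1 (hq.dvd_of_dvd_pow (hcard ▸ hd))
  rcases (show Nat.card D = 5 ∨ Nat.card D = 6 ∨ Nat.card D = 7 ∨ Nat.card D = 8 by omega) with
    h | h | h | h
  · exact Or.inl h
  · have h2 := hprime 2 Nat.prime_two (by rw [h]; norm_num)
    have h3 := hprime 3 Nat.prime_three (by rw [h]; norm_num)
    omega
  · haveI : Fact (Nat.Prime 7) := ⟨by norm_num⟩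
    have hcyc : IsCyclic D := isCyclic_of_prime_card (p := 7) h
    have hab := Cfsg.Lib.Block.comm_of_isCyclic hcyc
    have hnil := (Cfsg.Lib.Block.cyclic_nilpotent_iff hM hB hD hcyc).2 hl
    have h7 := (Cfsg.Lib.Block.rank_one_of_nilpotent_abelian hM hnil hD hab).2
    omega
  · refine Or.inr ⟨h, fun hcomm => ?_⟩
    obtain rfl := hprime 2 Nat.prime_two (by rw [h]; norm_num)
    have hab : ∀ x ∈ D, ∀ y ∈ D, x * y = y * x := fun x hx y hy =>
      congrArg Subtype.val (hcomm.is_comm.comm (⟨x, hx⟩ : D) ⟨y, hy⟩)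
    have h4 := Cfsg.Lib.Block.Five.card_le_four_of_abelian_eight hM hB hD hab h hl
      (by rw [hk]; norm_num)
    omega

end Cfsg.Agent.S4608
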