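import Cfsg.Statements.S4611
import Cfsg.Agent.Lib.Block.InflateDefect
import Cfsg.Agent.Lib.Block.SubsectionApps
import Cfsg.Agent.Lib.Core.PSolvable

set_option autoImplicit false
open Cfsg

namespace Cfsg.Agent.S4611

/-- Let G be a finite solvable group and π a nonempty set of primes, each dividing the order of G; fix for each p in π a maximal ideal M p of the algebraic integers containing p. Then the only irreducible character lying in the principal p-block for every p in π is the principal character if and only if G is generated by the subgroups O_{p'}(G), p in π (the largest normal subgroups of order prime to p). -/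
theorem result {G : Type*} [Group G] [Finite G] [Group.IsSolvable G] (π : Set ℕ) (hπ : ∀ p ∈ π, p.Prime ∧ p ∣ Nat.card G) (hne : π.Nonempty) (M : ℕ → Ideal Cfsg.AlgInt) (hM : ∀ p ∈ π, Cfsg.IsPModular p (M p)) :
    (∀ χ : Cfsg.IrrCharacter G, (∀ p ∈ π, χ ∈ Cfsg.principalBlock (M p) G) → (χ : G → ℂ) = fun _ => 1) ↔
      ⨆ p ∈ π, Cfsg.pPrimeCore p G = ⊤ := by
  classical
  haveI := Fintype.ofFinite G
  set K := ⨆ p ∈ π, Cfsg.pPrimeCore p G with hK
  haveI hKn : K.Normal := inferInstance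
  have key : ∀ p ∈ π, ∀ χ : Cfsg.IrrCharacter G, χ ∈ Cfsg.principalBlock (M p) G ↔
      ∀ n ∈ Cfsg.pPrimeCore p G, (χ : G → ℂ) n = (χ : G → ℂ) 1 := by
    intro p hp χ
    haveI : Fact p.Prime := ⟨(hπ p hp).1⟩
    refine ⟨fun h => Cfsg.Lib.Block.principal_trivial_on (hM p hp) (Cfsg.Lib.Core.pPrimeCore_not_dvd p G) h,
      fun h => ?_⟩
    haveI := Fintype.ofFinite (G ⧸ Cfsg.pPrimeCore p G)
    obtain ⟨ψ, hψ, hψe⟩ := Cfsg.Lib.Char.exists_deflate_irr _ χ.2 h
    have h1 := Cfsg.Lib.Block.mem_principal_of_centralizer_le (hM p hp)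
      (Cfsg.Lib.Core.pCore_isPGroup p (G ⧸ Cfsg.pPrimeCore p G))
      (Cfsg.Lib.Core.centralizer_pCore_le_of_isPSolvable
        (Cfsg.Lib.Core.isPSolvable_quotient (Cfsg.Lib.Core.isPSolvable_of_isSolvable (p := p)) _)
        Cfsg.Lib.Core.pPrimeCore_quotient_eq_bot) ⟨ψ, hψ⟩
    have h2 := Cfsg.Lib.Block.sameBlock_symm (hM p hp)
      (Cfsg.Lib.Block.sameBlock_inflate (hM p hp) (Cfsg.pPrimeCore p G) h1)
    rw [show (ψ ∘ QuotientGroup.mk : G → ℂ) = (χ : G → ℂ) from funext hψe] at h2
    exact h2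
  constructor
  · intro h
    by_contra hne
    haveI := Fintype.ofFinite (G ⧸ K)
    obtain ⟨a, ha⟩ : ∃ a : G, a ∉ K := by
      by_contra hn
      push Not at hn
      exact hne (eq_top_iff.2 fun g _ => hn g)
    have htriv : ∀ φ : Cfsg.IrrCharacter (G ⧸ K), (φ : G ⧸ K → ℂ) = fun _ => 1 := by
      intro φ
      funext q
      induction q using QuotientGroup.induction_on with
      | H x =>
        refine congrFun (h (Cfsg.Lib.Block.infl K φ) fun p hp => (key p hp _).2 fun n hn => ?_) x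
        have hnK : n ∈ K := le_iSup₂ (f := fun p (_ : p ∈ π) => Cfsg.pPrimeCore p G) p hp hn
        rw [Cfsg.Lib.Block.infl_coe, Function.comp_apply, Function.comp_apply,
          (QuotientGroup.eq_one_iff n).2 hnK, QuotientGroup.mk_one]
    have h0 := Cfsg.Lib.Char.column_orthogonality (a : G ⧸ K) 1
    rw [if_neg (fun hc => ha ((QuotientGroup.eq_one_iff a).1 (isConj_one_left.1 hc)))] at h0
    simp only [htriv, map_one, mul_one, Finset.sum_const, Finset.card_univ, nsmul_eq_mul,
      Nat.cast_eq_zero, Fintype.card_eq_zero_iff] at h0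
    exact h0.elim (Cfsg.Lib.Block.trivChar (G ⧸ K))
  · intro hK' χ hχ
    have hker : K ≤ Cfsg.Lib.Char.charKer χ.2.isCharacter :=
      iSup₂_le fun p hp n hn => (Cfsg.Lib.Char.mem_charKer _).2 ((key p hp χ).1 (hχ p hp) n hn)
    have hval : ∀ g : G, (χ : G → ℂ) g = (χ : G → ℂ) 1 := fun g =>
      (Cfsg.Lib.Char.mem_charKer _).1 (hker (hK'.symm ▸ Subgroup.mem_top g))
    have h1 := Cfsg.Lib.Char.classInner_irr χ.2 (Cfsg.Lib.Char.isIrrCharacter_one (G := G))
    by_contra hne
    rw [if_neg hne, Cfsg.classInner, Finset.sum_congr rfl (g := fun _ => (χ : G → ℂ) 1) fun g _ => by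
      rw [hval g]; simp] at h1
    simp [χ.2.apply_one_ne_zero, Cfsg.Lib.Char.card_cast_ne_zero] at h1

end Cfsg.Agent.S4611
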