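import Cfsg.Statements.S4613
import Cfsg.Agent.Lib.DefChar.FixPolar
import Cfsg.Agent.Lib.DefChar.FixSL
import Cfsg.Agent.Lib.DefChar.FixTw
import Cfsg.Agent.Lib.DefChar.FixRankOne
import Cfsg.Agent.Lib.DefChar.ConnChev
import Cfsg.Agent.Lib.DefChar.Chev
import Cfsg.Agent.Lib.DefChar.Classical
import Cfsg.Agent.Lib.DefChar.TwTypes
import Cfsg.Agent.Lib.Linear.Steinberg.OrthInst
import Cfsg.Agent.Lib.Linear.Steinberg.Plus
import Cfsg.Agent.Lib.Linear.OrthForms
import Cfsg.Agent.Lib.Linear.SkewField.OrthRootFrame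

set_option autoImplicit false
open Cfsg

namespace Cfsg.Agent.S4613

open Cfsg.Lib.DefChar Cfsg.Lib.Linear.Steinberg

/-- Local characteristic `p` passes along isomorphisms. -/
theorem local_congr {A B : Type*} [Group A] [Group B] [Finite A] {p : ℕ} [Fact p.Prime] (e : A ≃* B)
    (h : Local p A) : Local p B := by
  have hk : e.toMonoidHom.ker = ⊥ := (MonoidHom.ker_eq_bot_iff _).2 e.injective
  exact LocalMod.map_surjective e.toMonoidHom e.surjective (by rw [hk]; exact bot_le) (by simp [hk])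
    (by rw [hk]; exact h)

/-- The quotient map by the centre, composed with an isomorphism, has the centre as kernel. -/
theorem ker_quot {A B : Type*} [Group A] [Group B] (e : B ≃* A ⧸ Subgroup.center A) :
    Function.Surjective ⇑(e.symm.toMonoidHom.comp (QuotientGroup.mk' (Subgroup.center A))) ∧
      (e.symm.toMonoidHom.comp (QuotientGroup.mk' (Subgroup.center A))).ker = Subgroup.center A :=
  ⟨e.symm.surjective.comp (QuotientGroup.mk'_surjective _), by
    ext x; simp [MonoidHom.mem_ker]⟩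

open Cfsg.Lib.Linear.Herm in
/-- A totally isotropic line of the unitary space of dimension at least four. -/
theorem herm_line {F : Type*} [Field F] [Fintype F] {n q : ℕ} (hF : Fintype.card F = q ^ 2) (hn : 4 ≤ n) :
    HasSingularLine (hermPolar hF n) := by
  obtain ⟨a, ha⟩ := exists_norm_eq hF (μ := (-1 : F)) (neg_ne_zero.2 one_ne_zero) (neg_one_pow_q hF)
  set u : Fin (n / 2) → (Fin n → F) := fun i => pvec i 1 a with hu
  have h1 : ∀ i j, Cfsg.hermForm n F q (u i) (u j) = 0 := fun i j => by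
    simp only [hu]
    rw [herm_pvec, pvec_apply0, pvec_apply1, one_mul]
    rcases eq_or_ne j i with rfl | h
    · rw [if_pos rfl, if_pos rfl, one_pow, ← pow_succ', ha, add_neg_cancel]
    · rw [if_neg h, if_neg h, zero_pow (show q ≠ 0 by have := two_le_q hF; omega), mul_zero, add_zero]
  refine ⟨u ⟨0, by omega⟩, u ⟨1, by omega⟩, fun h => one_ne_zero (α := F) ?_, h1 _ _, h1 _ _, h1 _ _, fun h => ?_⟩
  · have := congrFun h (pos0 ⟨0, by omega⟩)
    simpa [hu, pvec_apply0] using this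
  · obtain ⟨k, hk⟩ := Submodule.mem_span_singleton.1 h
    have := congrFun hk (pos0 ⟨1, by omega⟩)
    simp [hu, pvec_apply0] at this

/-- Let G be a finite simple group of Lie type in characteristic p and α an automorphism of G of order prime to p that fixes some Sylow p-subgroup of G elementwise. Then α is the identity. -/
theorem result {G : Type*} [Group G] [Finite G] [IsSimpleGroup G] (p : ℕ) [Fact p.Prime] (hG : Cfsg.IsLieTypeChar p G) (α : MulAut G) (hα : ¬ p ∣ orderOf α) (U : Sylow p G) (hfix : ∀ x ∈ (U : Subgroup G), α x = x) : α = 1 := by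
  classical
  rcases hG with h | h | h | h | h | h | h | h | ⟨rfl, h⟩ | ⟨rfl, h⟩ | ⟨rfl, h⟩
  · obtain ⟨F, _, _, _, n, hn, -, ⟨e⟩⟩ := h
    obtain ⟨hf, hker⟩ := ker_quot (A := Matrix.SpecialLinearGroup (Fin n) F) e
    rcases eq_or_lt_of_le hn with rfl | hn3
    · exact eq_one_psl_two _ hf hker hα U hfix
    · exact eq_one_psl p hn3 _ hf hker hα U hfix
  · obtain ⟨F, _, _, _, m, hm, -, ⟨e⟩⟩ := h
    obtain ⟨hf, hker⟩ := ker_quot (A := Matrix.symplecticGroup (Fin m) F) e
    exact (rich_symp (F := F) m hm).eq_one (p := p)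
      (Cfsg.Lib.DefChar.Setup.hasSingularLine (sympSetup m F) hm) _ hf hker hα U hfix
  · obtain ⟨F, _, _, _, n, q, hF, hn, hne, ⟨e⟩⟩ := h
    rcases eq_or_lt_of_le hn with rfl | hn4
    · exact eq_one_psu_three (hF := hF) (by have := Cfsg.Lib.Linear.Herm.two_le_q hF; omega) e.symm hα U hfix
    · obtain ⟨hf, hker⟩ := ker_quot (A := Cfsg.SU n F q) e
      exact (rich_herm p hF hn).eq_one (p := p) (herm_line hF hn4) _ hf hker hα U hfix
  · obtain ⟨F, _, _, _, m, hm, hodd, ⟨e⟩⟩ := h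
    have h2 : (2 : F) ≠ 0 := fun h2 => by
      have h2' : p = 2 := (Cfsg.Lib.Linear.Steinberg.char_two_iff p).1 h2
      subst h2'
      obtain ⟨k, -, hk⟩ := FiniteField.card F 2
      rw [hk] at hodd
      exact absurd hodd (Nat.not_odd_iff_even.2 (Nat.even_pow.2 ⟨even_two, k.pos.ne'⟩))
    obtain ⟨B, C⟩ := Cfsg.Lib.Linear.Orth.exists_space (Q := Cfsg.quadFormOdd m F)
      (Cfsg.Lib.Linear.Orth.isQuad_odd m h2)
    obtain ⟨hf, hker⟩ := ker_quot (A := Cfsg.Omega F (Cfsg.quadFormOdd m F)) e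
    exact (rich_orth C (by simp; omega)).eq_one (p := p)
      (Cfsg.Lib.DefChar.Setup.hasSingularLine (oddSetup C) (by omega)) _ hf hker hα U hfix
  · obtain ⟨F, _, _, _, m, hm, ⟨e⟩⟩ := h
    obtain ⟨B, C⟩ := Cfsg.Lib.Linear.Orth.exists_space_plus (F := F) m
    obtain ⟨hf, hker⟩ := ker_quot (A := Cfsg.Omega F (Cfsg.quadFormPlus m F)) e
    exact (rich_orth C (by simp; omega)).eq_one (p := p)
      (Cfsg.Lib.DefChar.Setup.hasSingularLine (plusSetup C) (by omega)) _ hf hker hα U hfix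
  · obtain ⟨F, _, _, _, m, a, b, hm, hab, ⟨e⟩⟩ := h
    obtain ⟨B, C⟩ := Cfsg.Lib.Linear.Orth.exists_space_minus (F := F) (m - 1) a b hab
    obtain ⟨hf, hker⟩ := ker_quot (A := Cfsg.Omega F (Cfsg.quadFormMinus (m - 1) F a b)) e
    exact (rich_orth C (by simp; omega)).eq_one (p := p)
      (Cfsg.Lib.DefChar.Setup.hasSingularLine (minusSetup C hab) (by omega)) _ hf hker hα U hfix
  · obtain ⟨F, _, _, _, h⟩ := h
    have key : ∀ D ∈ [Cfsg.Lie.chevG2, Cfsg.Lie.chevF4, Cfsg.Lie.chevE6, Cfsg.Lie.chevE7, Cfsg.Lie.chevE8],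
        ∀ e : G ≃* ↥(D.group F), α = 1 := by
      intro D hD e
      haveI : Finite ↥(D.group F) := Finite.of_equiv G e.toEquiv
      exact (local_congr e.symm (local_chev p D (by simp at hD ⊢; tauto))).eq_one_of_connGen
        ((connGen_exceptional p D hD).congr e.symm) hα U hfix
    rcases h with ⟨-, ⟨e⟩⟩ | ⟨⟨e⟩⟩ | ⟨⟨e⟩⟩ | ⟨⟨e⟩⟩ | ⟨⟨e⟩⟩
    exacts [key _ (by simp) e, key _ (by simp) e, key _ (by simp) e, key _ (by simp) e, key _ (by simp) e]
  · obtain ⟨K, _, _, _, q, hq, ⟨hK, ⟨e⟩⟩ | ⟨hK, ⟨e⟩⟩⟩ := h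
    · haveI : Finite ↥(Cfsg.Lie.twistedE6 K q) := Finite.of_equiv G e.toEquiv
      exact eq_one_twistedE6 hq hK (local_congr e.symm (local_twistedE6 p hq hK)) e.symm hα U hfix
    · haveI : Finite ↥(Cfsg.Lie.twistedD4 K q) := Finite.of_equiv G e.toEquiv
      exact eq_one_twistedD4 hq hK (local_congr e.symm (local_twistedD4 p hq hK)) e.symm hα U hfix
  · obtain ⟨F, _, _, m, hm, hF, ⟨e⟩⟩ := h
    exact eq_one_sz hm hF e.symm hα U hfix
  · obtain ⟨K, _, _, m, -, hK, ⟨e⟩⟩ := h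
    haveI := Cfsg.Lib.Chev.f4_charP (K := K) hK
    haveI : CharP K 2 := inferInstanceAs (CharP K Cfsg.Lib.Chev.esymF4.p)
    haveI : Finite ↥(Cfsg.Lie.twistedF4 K (2 ^ m)) := Finite.of_equiv G e.toEquiv
    exact eq_one_twistedF4 hK (local_congr e.symm (local_twistedF4 hK)) e.symm hα U hfix
  · obtain ⟨K, _, _, m, -, hK, ⟨e⟩⟩ := h
    haveI := Cfsg.Lib.Chev.g2_charP (K := K) hK
    exact eq_one_ree hK (e.trans (MulEquiv.subgroupCongr (Cfsg.Lib.Chev.twistedG2_eq hK))).symm hα U hfix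

end Cfsg.Agent.S4613
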