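import Cfsg.Statements.S4620
import Cfsg.Agent.Lib.Core.Cores
import Mathlib.GroupTheory.Sylow
import Mathlib.GroupTheory.Subgroup.Simple

set_option autoImplicit false
open Cfsg
open scoped Pointwise

namespace Cfsg.Agent.S4620

variable {X : Type*} [Group X] [Finite X] {p : ℕ} [hp : Fact p.Prime]

/-- Distinct Sylow subgroups meet trivially. -/
theorem inf_eq_bot_of_ne (P : Sylow p X)
    (hTI : ∀ g : X, g ∉ Subgroup.normalizer ((P : Subgroup X) : Set X) →
      (P : Subgroup X) ⊓ (MulAut.conj g • (P : Subgroup X)) = ⊥)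
    (P₁ P₂ : Sylow p X) (hne : P₁ ≠ P₂) : (P₁ : Subgroup X) ⊓ (P₂ : Subgroup X) = ⊥ := by
  obtain ⟨a, rfl⟩ := MulAction.exists_smul_eq X P P₁
  obtain ⟨b, rfl⟩ := MulAction.exists_smul_eq X P P₂
  have hn : a⁻¹ * b ∉ Subgroup.normalizer ((P : Subgroup X) : Set X) := by
    intro h
    apply hne
    have h2 := Sylow.smul_eq_iff_mem_normalizer.mpr h
    calc a • P = a • ((a⁻¹ * b) • P) := by rw [h2]
      _ = b • P := by rw [smul_smul, mul_inv_cancel_left]
  rw [Sylow.coe_subgroup_smul, Sylow.coe_subgroup_smul,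
    show MulAut.conj b • (P : Subgroup X)
      = MulAut.conj a • (MulAut.conj (a⁻¹ * b) • (P : Subgroup X)) by
        rw [smul_smul, ← map_mul, mul_inv_cancel_left],
    ← Subgroup.smul_inf, hTI _ hn, Subgroup.smul_bot]

/-- A trivial `p`-core and `p'`-core and a TI Sylow subgroup exclude disjoint normal subgroups. -/
theorem normal_inf_ne_bot (hOp : pCore p X = ⊥) (hOp' : pPrimeCore p X = ⊥) (P : Sylow p X)
    (hTI : ∀ g : X, g ∉ Subgroup.normalizer ((P : Subgroup X) : Set X) →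
      (P : Subgroup X) ⊓ (MulAut.conj g • (P : Subgroup X)) = ⊥)
    {A B : Subgroup X} (hA : A.Normal) (hB : B.Normal) (hA1 : A ≠ ⊥) (hB1 : B ≠ ⊥) :
    A ⊓ B ≠ ⊥ := by
  intro hAB
  have hdvd : ∀ K : Subgroup X, K.Normal → K ≠ ⊥ → p ∣ Nat.card K := by
    intro K hK hK1
    by_contra h
    apply hK1
    rw [eq_bot_iff, ← hOp']
    exact Lib.Core.le_pPrimeCore' hK ((hp.out.coprime_iff_not_dvd.mpr h).symm)
  obtain ⟨x₀, hx₀⟩ := exists_prime_orderOf_dvd_card' p (hdvd A hA hA1)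
  set x : X := (x₀ : X) with hxdef
  have hx : orderOf x = p := by rw [hxdef, Subgroup.orderOf_coe, hx₀]
  have hx1 : x ≠ 1 := fun h => hp.out.one_lt.ne (by rw [← hx, h, orderOf_one])
  obtain ⟨P₁, hP₁⟩ := (IsPGroup.of_card (n := 1) (by rw [Nat.card_zpowers, hx, pow_one]) :
    IsPGroup p (Subgroup.zpowers x)).exists_le_sylow
  have hxP : x ∈ (P₁ : Subgroup X) := hP₁ (Subgroup.mem_zpowers x)
  -- every `p`-element of `B` lies in `P₁`
  have hBP : ∀ b ∈ B, (∃ k : ℕ, orderOf b = p ^ k) → b ∈ (P₁ : Subgroup X) := by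
    intro b hb hbk
    have hcomm : b * x = x * b := by
      have h1 : b * x * b⁻¹ * x⁻¹ ∈ A ⊓ B :=
        ⟨A.mul_mem (hA.conj_mem x x₀.2 b) (A.inv_mem x₀.2), by
          have := B.mul_mem hb (hB.conj_mem b⁻¹ (B.inv_mem hb) x)
          simpa [mul_assoc] using this⟩
      rw [hAB, Subgroup.mem_bot, mul_inv_eq_one, mul_inv_eq_iff_eq_mul] at h1
      exact h1
    have hnorm : b • P₁ = P₁ := by
      by_contra hne
      have h2 : x ∈ ((b • P₁ : Sylow p X) : Subgroup X) ⊓ (P₁ : Subgroup X) := by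
        refine ⟨?_, hxP⟩
        rw [Sylow.coe_subgroup_smul]
        refine ⟨x, hxP, ?_⟩
        show b * x * b⁻¹ = x
        rw [hcomm, mul_inv_cancel_right]
      rw [inf_eq_bot_of_ne P hTI _ _ hne, Subgroup.mem_bot] at h2
      exact hx1 h2
    obtain ⟨k, hk⟩ := hbk
    have hbg : IsPGroup p (Subgroup.zpowers b) := IsPGroup.of_card (by rw [Nat.card_zpowers, hk])
    have hle : Subgroup.zpowers b ≤ Subgroup.normalizer ((P₁ : Subgroup X) : Set X) :=
      Subgroup.zpowers_le.mpr (Sylow.smul_eq_iff_mem_normalizer.mp hnorm)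
    have hsup := hbg.to_sup_of_normal_right' P₁.isPGroup' hle
    exact (P₁.is_maximal' hsup le_sup_right) ▸ Subgroup.mem_sup_left (Subgroup.mem_zpowers b)
  -- hence `B ∩ P₁` is normal
  have hN : (B ⊓ (P₁ : Subgroup X)).Normal := ⟨fun b hb g => by
    have h1 : g * b * g⁻¹ ∈ B := hB.conj_mem b hb.1 g
    refine ⟨h1, hBP _ h1 ?_⟩
    obtain ⟨k, hk⟩ := (IsPGroup.iff_orderOf.mp P₁.isPGroup') ⟨b, hb.2⟩
    rw [Subgroup.orderOf_mk] at hk
    exact ⟨k, by rw [← hk, show g * b * g⁻¹ = MulAut.conj g b from rfl, MulEquiv.orderOf_eq]⟩⟩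
  have hbot : B ⊓ (P₁ : Subgroup X) = ⊥ := by
    rw [eq_bot_iff, ← hOp]
    exact Lib.Core.le_pCore' hN (P₁.isPGroup'.to_le inf_le_right)
  obtain ⟨y₀, hy₀⟩ := exists_prime_orderOf_dvd_card' p (hdvd B hB hB1)
  have hy : orderOf (y₀ : X) = p := by rw [Subgroup.orderOf_coe, hy₀]
  have : (y₀ : X) ∈ B ⊓ (P₁ : Subgroup X) := ⟨y₀.2, hBP _ y₀.2 ⟨1, by rw [hy, pow_one]⟩⟩
  rw [hbot, Subgroup.mem_bot] at this
  rw [this, orderOf_one] at hy
  exact hp.out.one_lt.ne hy

/-- There is then a least nontrivial normal subgroup. -/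
theorem exists_least_normal (hOp : pCore p X = ⊥) (hOp' : pPrimeCore p X = ⊥) (P : Sylow p X)
    (hTI : ∀ g : X, g ∉ Subgroup.normalizer ((P : Subgroup X) : Set X) →
      (P : Subgroup X) ⊓ (MulAut.conj g • (P : Subgroup X)) = ⊥)
    (hX : (⊤ : Subgroup X) ≠ ⊥) :
    ∃ N : Subgroup X, N.Normal ∧ N ≠ ⊥ ∧ ∀ K : Subgroup X, K.Normal → K ≠ ⊥ → N ≤ K := by
  obtain ⟨N, ⟨hN, hN1⟩, hmin⟩ := (Set.toFinite {K : Subgroup X | K.Normal ∧ K ≠ ⊥}).exists_minimal
    ⟨⊤, inferInstance, hX⟩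
  refine ⟨N, hN, hN1, fun K hK hK1 => ?_⟩
  haveI := hN
  haveI := hK
  exact (hmin ⟨(inferInstance : (N ⊓ K).Normal), normal_inf_ne_bot hOp hOp' P hTI hN hK hN1 hK1⟩
    inf_le_left).trans inf_le_right

/-- Let H be a finite group with no nontrivial normal p-subgroup and no nontrivial normal subgroup of order prime to p, whose Sylow p-subgroup P is nontrivial and a trivial-intersection set (P meets its conjugates by elements outside N_H(P) trivially). Then H has a unique minimal normal subgroup N; N is non-abelian simple with trivial centralizer in H (so H embeds in Aut(N)), and a Sylow p-subgroup of N is again a nontrivial trivial-intersection set in N. -/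
theorem result {H : Type*} [Group H] [Finite H] (p : ℕ) [Fact p.Prime] (hOp : Cfsg.pCore p H = ⊥) (hOp' : Cfsg.pPrimeCore p H = ⊥) (P : Sylow p H) (hP1 : (P : Subgroup H) ≠ ⊥)
    (hTI : ∀ g : H, g ∉ Subgroup.normalizer ((P : Subgroup H) : Set H) → (P : Subgroup H) ⊓ (MulAut.conj g • (P : Subgroup H)) = ⊥) :
    ∃ N : Subgroup H, N.Normal ∧ N ≠ ⊥ ∧ (∀ K : Subgroup H, K.Normal → K ≠ ⊥ → N ≤ K) ∧
      IsSimpleGroup N ∧ ¬ IsMulCommutative N ∧ Subgroup.centralizer (N : Set H) = ⊥ ∧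
      ∀ Q : Sylow p N, (Q : Subgroup N) ≠ ⊥ ∧
        ∀ n : N, n ∉ Subgroup.normalizer ((Q : Subgroup N) : Set N) → (Q : Subgroup N) ⊓ (MulAut.conj n • (Q : Subgroup N)) = ⊥ := by
  have hp : p.Prime := Fact.out
  have htop : (⊤ : Subgroup H) ≠ ⊥ := fun h => hP1 (eq_bot_iff.mpr (le_top.trans h.le))
  obtain ⟨N, hN, hN1, hleast⟩ := exists_least_normal hOp hOp' P hTI htop
  haveI := hN
  have hpN : p ∣ Nat.card N := by
    by_contra h
    apply hN1
    rw [eq_bot_iff, ← hOp']
    exact Lib.Core.le_pPrimeCore' hN ((hp.coprime_iff_not_dvd.mpr h).symm)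
  have hNcore : pCore p N = ⊥ := by
    rw [← Subgroup.map_eq_bot_iff_of_injective _ N.subtype_injective, eq_bot_iff, ← hOp]
    exact Lib.Core.le_pCore' inferInstance ((Lib.Core.pCore_isPGroup p N).map N.subtype)
  have hNcore' : pPrimeCore p N = ⊥ := by
    rw [← Subgroup.map_eq_bot_iff_of_injective _ N.subtype_injective, eq_bot_iff, ← hOp']
    refine Lib.Core.le_pPrimeCore' inferInstance ?_
    rw [Nat.card_congr ((pPrimeCore p N).equivMapOfInjective _ N.subtype_injective).toEquiv.symm]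
    exact Lib.Core.pPrimeCore_coprime p N
  -- Sylow subgroups of `N`
  have hQ : ∀ Q : Sylow p N, (Q : Subgroup N) ≠ ⊥ ∧
      ∀ n : N, n ∉ Subgroup.normalizer ((Q : Subgroup N) : Set N) →
        (Q : Subgroup N) ⊓ (MulAut.conj n • (Q : Subgroup N)) = ⊥ := by
    intro Q
    refine ⟨fun h => ?_, fun n hn => ?_⟩
    · have := Q.dvd_card_of_dvd_card hpN
      rw [h, Subgroup.card_bot] at this
      exact hp.not_dvd_one this
    · obtain ⟨R, hR⟩ := (Q.isPGroup'.map N.subtype).exists_le_sylow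
      have hQR : (R : Subgroup H).subgroupOf N = (Q : Subgroup N) :=
        Q.is_maximal' (R.isPGroup'.comap_of_injective N.subtype N.subtype_injective)
          (fun q hq => hR ⟨q, hq, rfl⟩)
      have hne : (n : H) • R ≠ R := by
        intro h
        apply hn
        have h2 : (n : H) ∈ Subgroup.normalizer ((R : Subgroup H) : Set H) :=
          Sylow.smul_eq_iff_mem_normalizer.mp h
        rw [Subgroup.mem_normalizer_iff] at h2 ⊢
        intro q
        rw [← hQR, Subgroup.mem_subgroupOf, Subgroup.mem_subgroupOf]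
        exact h2 (q : H)
      rw [eq_bot_iff]
      rintro q ⟨hq1, q', hq', hqq⟩
      have hmem : (q : H) ∈ ((n : H) • R : Sylow p H).1 ⊓ (R : Subgroup H) := by
        refine ⟨?_, hR ⟨q, hq1, rfl⟩⟩
        show (q : H) ∈ (((n : H) • R : Sylow p H) : Subgroup H)
        rw [Sylow.coe_subgroup_smul]
        refine ⟨(q' : H), hR ⟨q', hq', rfl⟩, ?_⟩
        have := congrArg Subtype.val hqq
        exact this
      rw [inf_eq_bot_of_ne P hTI _ _ hne, Subgroup.mem_bot] at hmem
      exact Subtype.ext hmem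
  have hnab : ¬ IsMulCommutative N := by
    intro hc
    haveI := hc
    obtain ⟨Q⟩ := (inferInstance : Nonempty (Sylow p N))
    refine (hQ Q).1 (eq_bot_iff.mpr ?_)
    rw [← hNcore]
    exact Lib.Core.le_pCore' ⟨fun q hq g => by rwa [mul_comm' g q, mul_inv_cancel_right]⟩ Q.isPGroup'
  haveI : Nontrivial N := (Subgroup.nontrivial_iff_ne_bot N).mpr hN1
  refine ⟨N, hN, hN1, hleast, ?_, hnab, ?_, hQ⟩
  · obtain ⟨Q⟩ := (inferInstance : Nonempty (Sylow p N))
    obtain ⟨S, hS, hS1, hSleast⟩ := exists_least_normal hNcore hNcore' Q (hQ Q).2 top_ne_bot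
    have hSchar : S.Characteristic := by
      rw [Subgroup.characteristic_iff_le_map]
      intro e
      exact hSleast _ (hS.map _ e.surjective)
        (fun h => hS1 ((Subgroup.map_eq_bot_iff_of_injective _ e.injective).mp h))
    have hSN : S = ⊤ := by
      have h1 : N ≤ S.map N.subtype := hleast _ inferInstance
        (fun h => hS1 ((Subgroup.map_eq_bot_iff_of_injective _ N.subtype_injective).mp h))
      rw [Subgroup.eq_top_iff']
      intro x
      obtain ⟨y, hy, hyx⟩ := h1 x.2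
      exact (Subtype.ext hyx : y = x) ▸ hy
    exact ⟨fun K hK => (eq_or_ne K ⊥).imp_right fun h => top_le_iff.mp (hSN ▸ hSleast K hK h)⟩
  · by_contra hC
    refine hnab ⟨⟨fun a b => Subtype.ext ?_⟩⟩
    exact (Subgroup.mem_centralizer_iff.mp (hleast _ inferInstance hC a.2) b b.2).symm

end Cfsg.Agent.S4620
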