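import Cfsg.Statements.S4623
import Cfsg.Agent.Lib.FusionSys.AltSimpleTwo

set_option autoImplicit false
open Cfsg Equiv Cfsg.Lib.FusionSys.AltWreath

namespace Cfsg.Agent.S4623

theorem pow_mem_commutator {G : Type*} [Group G] (p : ℕ)
    (h : (⊤ : Subgroup G) ≤ Subgroup.closure {x : G | x ^ p = 1}) (x : G) : x ^ p ∈ commutator G := by
  rw [← QuotientGroup.eq_one_iff, QuotientGroup.mk_pow]
  induction h (Subgroup.mem_top x) using Subgroup.closure_induction with
  | mem y hy => rw [← QuotientGroup.mk_pow, hy, QuotientGroup.mk_one]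
  | one => simp
  | mul y z _ _ hy hz =>
    rw [QuotientGroup.mk_mul, Commute.mul_pow, hy, hz, mul_one]
    show Abelianization.of y * Abelianization.of z = Abelianization.of z * Abelianization.of y
    exact mul_comm _ _
  | inv y _ hy => rw [QuotientGroup.mk_inv, inv_pow, hy, inv_one]

theorem top_le_closure {G : Type*} [Group G] (p : ℕ) (H : Subgroup G)
    (h : H ≤ Subgroup.closure {x | x ∈ H ∧ x ^ p = 1}) :
    (⊤ : Subgroup H) ≤ Subgroup.closure {x : H | x ^ p = 1} := by
  intro x _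
  have h1 : (Subgroup.closure {x : H | x ^ p = 1}).map H.subtype = Subgroup.closure {x | x ∈ H ∧ x ^ p = 1} := by
    rw [MonoidHom.map_closure]
    congr 1
    ext y
    constructor
    · rintro ⟨z, hz, rfl⟩; exact ⟨z.2, by simpa using congrArg Subtype.val hz⟩
    · rintro ⟨hy, hp⟩; exact ⟨⟨y, hy⟩, Subtype.ext (by simpa using hp), rfl⟩
  obtain ⟨z, hz, hzx⟩ := h1.ge (h x.2)
  exact (Subtype.ext hzx : z = x) ▸ hz

variable {X : Type} [Fintype X] [DecidableEq X]

theorem sign_lift {B ι : Type} [Fintype B] [DecidableEq B] [Fintype ι] [DecidableEq ι] (σ : Perm B) :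
    Perm.sign (lift σ : Perm (Pt 2 B ι)) = 1 := by
  rw [lift, Perm.sign_sumCongr, Perm.sign_prodCongrRight, Perm.sign_refl, mul_one, Finset.prod_const,
    Finset.card_univ, ZMod.card, sq]
  exact Int.units_mul_self _

theorem even_part : ∀ W : Sylow 2 (Perm X),
    (W : Subgroup (Perm X)) ⊓ alternatingGroup X ≤
      Subgroup.closure {x | x ∈ (W : Subgroup (Perm X)) ⊓ alternatingGroup X ∧ x ^ 2 = 1} := by
  classical
  intro W
  set n := Fintype.card X
  by_cases hn : n < 2
  · intro g _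
    haveI : Subsingleton X := Fintype.card_le_one_iff_subsingleton.1 (by omega)
    rw [Subsingleton.elim g 1]
    exact one_mem _
  set B := Fin (n / 2)
  set J := Fin (n % 2)
  obtain ⟨P⟩ : Nonempty (Sylow 2 (Perm B)) := inferInstance
  haveI : Fact (Nat.Prime 2) := ⟨Nat.prime_two⟩
  obtain ⟨R, hR⟩ := exists_sylow_wr (p := 2) (ι := J) (by rw [Nat.card_fin]; exact Nat.mod_lt _ (by omega)) P
  obtain ⟨e⟩ : Nonempty (Pt 2 B J ≃ X) := by
    refine Fintype.card_eq.1 ?_
    simp only [Fintype.card_sum, Fintype.card_prod, ZMod.card, B, J, Fintype.card_fin]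
    exact Nat.div_add_mod n 2
  let ε : Perm (Pt 2 B J) ≃* Perm X := e.permCongrHom
  have hεs : Function.Surjective ε.toMonoidHom := ε.surjective
  obtain ⟨g, hg⟩ := MulAction.exists_smul_eq (Perm X) (R.mapSurjective (f := ε.toMonoidHom) hεs) W
  set Φ : Perm (Pt 2 B J) →* Perm X := (MulAut.conj g).toMonoidHom.comp ε.toMonoidHom with hΦ
  have hΦs : ∀ y, Perm.sign (Φ y) = Perm.sign y := fun y => by
    show Perm.sign (g * e.permCongr y * g⁻¹) = _
    rw [map_mul, map_mul, map_inv, Perm.sign_permCongr, mul_right_comm, mul_inv_cancel, one_mul]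
  rintro x ⟨hxW, hxA⟩
  rw [← hg, Sylow.coe_subgroup_smul, Sylow.coe_mapSurjective] at hxW
  obtain ⟨_, ⟨y, hy, rfl⟩, rfl⟩ := hxW
  have hW : ∀ z ∈ (R : Subgroup (Perm (Pt 2 B J))), Perm.sign z = 1 →
      Φ z ∈ (W : Subgroup (Perm X)) ⊓ alternatingGroup X := fun z hz hs => by
    refine ⟨?_, Perm.mem_alternatingGroup.2 ((hΦs z).trans hs)⟩
    rw [← hg, Sylow.coe_subgroup_smul, Sylow.coe_mapSurjective]
    exact ⟨_, Subgroup.mem_map_of_mem _ hz, rfl⟩
  rw [hR] at hy
  obtain ⟨f, σ, hσ, rfl⟩ := hy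
  have hys : Perm.sign (tr f : Perm (Pt 2 B J)) = 1 := by
    have h1 : Perm.sign (Φ (tr f * lift σ)) = 1 := Perm.mem_alternatingGroup.1 hxA
    rwa [hΦs, map_mul, sign_lift, mul_one] at h1
  show Φ (tr f * lift σ) ∈ _
  rw [map_mul]
  refine mul_mem (Subgroup.subset_closure ⟨hW _ (hR ▸ tr_mem_wr _ f) hys, by rw [← map_pow, tr_pow_p, map_one]⟩) ?_
  have hPgen := sylow_le_closure_order_p (p := 2) _ B (Nat.card_fin _) P
  have h1 := Subgroup.mem_map_of_mem (Φ.comp (liftHom (p := 2) (ι := J))) (hPgen hσ)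
  rw [MonoidHom.map_closure] at h1
  refine Subgroup.closure_mono ?_ h1
  rintro _ ⟨τ, ⟨hτ, hτp⟩, rfl⟩
  exact ⟨hW _ (hR ▸ lift_mem_wr hτ) (sign_lift τ), by rw [← map_pow, hτp, map_one]⟩

theorem main (p : ℕ) [Fact p.Prime] (n : ℕ) (P : Sylow p (Equiv.Perm (Fin n))) (Q : Sylow p (alternatingGroup (Fin n))) :
    (∀ x : (P : Subgroup (Equiv.Perm (Fin n))), x ^ p ∈ commutator (P : Subgroup (Equiv.Perm (Fin n)))) ∧
    (∀ x : (Q : Subgroup (alternatingGroup (Fin n))), x ^ p ∈ commutator (Q : Subgroup (alternatingGroup (Fin n)))) := by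
  have hS := fun W : Sylow p (Perm (Fin n)) => sylow_le_closure_order_p n (Fin n) (Nat.card_fin n) W
  refine ⟨pow_mem_commutator p (top_le_closure p _ (hS P)), pow_mem_commutator p (top_le_closure p _ ?_)⟩
  obtain ⟨W, hW⟩ := Sylow.exists_comap_subtype_eq Q
  have hmapQ : (Q : Subgroup (alternatingGroup (Fin n))).map (alternatingGroup (Fin n)).subtype =
      (W : Subgroup (Perm (Fin n))) ⊓ alternatingGroup (Fin n) := by
    rw [← hW, Subgroup.map_comap_eq, Subgroup.range_subtype, inf_comm]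
  have h2 : (W : Subgroup (Perm (Fin n))) ⊓ alternatingGroup (Fin n) ≤
      Subgroup.closure {x | x ∈ (W : Subgroup (Perm (Fin n))) ⊓ alternatingGroup (Fin n) ∧ x ^ p = 1} := by
    by_cases hp : p = 2
    · subst hp; exact even_part W
    · refine inf_le_left.trans ((hS W).trans (Subgroup.closure_mono ?_))
      rintro x ⟨hx, hxp⟩
      refine ⟨⟨hx, Perm.mem_alternatingGroup.2 ?_⟩, hxp⟩
      have h1 := congrArg Perm.sign hxp
      rw [map_pow, map_one] at h1
      have hodd : Odd p := (Fact.out : p.Prime).odd_of_ne_two hp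
      rcases Int.units_eq_one_or (Perm.sign x) with h | h
      · exact h
      · rw [h, hodd.neg_one_pow] at h1
        exact absurd h1 (by decide)
  intro x hx
  have h3 := h2 (hmapQ.le (Subgroup.mem_map_of_mem _ hx))
  rw [show {x | x ∈ (W : Subgroup (Perm (Fin n))) ⊓ alternatingGroup (Fin n) ∧ x ^ p = 1} =
    (alternatingGroup (Fin n)).subtype '' {x | x ∈ (Q : Subgroup (alternatingGroup (Fin n))) ∧ x ^ p = 1} by
      ext y
      constructor
      · rintro ⟨hy, hyp⟩
        obtain ⟨z, hz, rfl⟩ := hmapQ.ge hy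
        exact ⟨z, ⟨hz, Subtype.ext (by simpa using hyp)⟩, rfl⟩
      · rintro ⟨z, ⟨hz, hzp⟩, rfl⟩
        exact ⟨hmapQ.le (Subgroup.mem_map_of_mem _ hz), by rw [← map_pow, hzp, map_one]⟩,
    ← MonoidHom.map_closure] at h3
  obtain ⟨z, hz, hzx⟩ := h3
  exact (Subtype.ext hzx : z = x) ▸ hz

/-- For every prime p and every n, a Sylow p-subgroup P of the symmetric group on n letters has P/P' elementary abelian (the p-th power of every element of P lies in the derived subgroup of P), and the same holds for a Sylow p-subgroup of the alternating group on n letters. -/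
theorem result (p : ℕ) [Fact p.Prime] (n : ℕ) (P : Sylow p (Equiv.Perm (Fin n))) (Q : Sylow p (alternatingGroup (Fin n))) :
    (∀ x : (P : Subgroup (Equiv.Perm (Fin n))), x ^ p ∈ commutator (P : Subgroup (Equiv.Perm (Fin n)))) ∧
    (∀ x : (Q : Subgroup (alternatingGroup (Fin n))), x ^ p ∈ commutator (Q : Subgroup (alternatingGroup (Fin n)))) := by
  exact main p n P Q

end Cfsg.Agent.S4623
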