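import Cfsg.Statements.S4628
import Cfsg.Agent.Lib.H3.SylTwoSL

set_option linter.style.haveILetI false

set_option autoImplicit false
open Cfsg

namespace Cfsg.Agent.S4628


open Cfsg.Lib.H3.SylTwo
open scoped Matrix

variable {F : Type*} [Field F] {κ ι : Type*} [Fintype κ] [DecidableEq κ] [Fintype ι] [DecidableEq ι]

/-- An invertible matrix completed by the inverse of its determinant. -/
def completeHom (e : κ ⊕ Fin 1 ≃ ι) : GL κ F →* Matrix.SpecialLinearGroup ι F where
  toFun g := ⟨Matrix.reindexAlgEquiv F F e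
      (Matrix.fromBlocks g.val 0 0 (Matrix.diagonal fun _ : Fin 1 => (((Matrix.GeneralLinearGroup.det g)⁻¹ : Fˣ) : F))), by
    rw [Matrix.det_reindexAlgEquiv, Matrix.det_fromBlocks_zero₂₁, Matrix.det_diagonal, Fin.prod_univ_one]
    exact (Matrix.GeneralLinearGroup.det g).mul_inv⟩
  map_one' := Subtype.ext (by simp)
  map_mul' g h := Subtype.ext (by
    show Matrix.reindexAlgEquiv F F e _ = Matrix.reindexAlgEquiv F F e _ * Matrix.reindexAlgEquiv F F e _
    rw [← map_mul, Matrix.fromBlocks_multiply]
    simp [Matrix.diagonal_mul_diagonal, mul_comm])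

theorem completeHom_injective (e : κ ⊕ Fin 1 ≃ ι) : Function.Injective (completeHom (F := F) e) := fun g h he =>
  Units.ext (Matrix.fromBlocks_inj.1 ((Matrix.reindexAlgEquiv F F e).injective (congrArg Subtype.val he))).1
/-- Let F be a finite field of odd order q with 4 dividing q + 1, and m ≥ 1. Then a Sylow 2-subgroup P of SL_{2m+1}(F) has P/P' elementary abelian: the square of every element of P lies in the derived subgroup of P. -/
theorem result {F : Type*} [Field F] [Fintype F] (hF : Odd (Fintype.card F)) (hq : 4 ∣ Fintype.card F + 1) (m : ℕ) (hm : 1 ≤ m) (P : Sylow 2 (Matrix.SpecialLinearGroup (Fin (2 * m + 1)) F)) :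
    ∀ x : (P : Subgroup (Matrix.SpecialLinearGroup (Fin (2 * m + 1)) F)), x ^ 2 ∈ commutator (P : Subgroup (Matrix.SpecialLinearGroup (Fin (2 * m + 1)) F)) := by
  classical
  obtain ⟨Q, D, r, hD2, -, -, -, -, hDs, -, hDc, -, -, -⟩ := plane_full (F := F) hF
  set S := Subgroup.pi Set.univ fun _ : Fin m => D with hS
  obtain ⟨T, hT, hTc, hTs, -⟩ := wreath_good (blockGL (F := F) (k := m)) (permGL (F := F)) gl_conj_block
    (fun h h' σ σ' he => glBlockPerm_injective he) S (isPGroup_pi D hD2) (fun σ h hh i _ => hh (σ i) trivial)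
    (pi_squares D hDs)
  let e : (Fin 2 × Fin m) ⊕ Fin 1 ≃ Fin (2 * m + 1) :=
    Fintype.equivOfCardEq (by simp [Fintype.card_sum, Fintype.card_prod])
  have hq1 : 1 < Fintype.card F := Fintype.one_lt_card
  have ha : padicValNat 2 (Fintype.card F - 1) = 1 := val_of_mod_four (by
    have := Nat.odd_iff.1 hF
    omega)
  refine sylow_squares (v := m * (twoT (Fintype.card F) + 1) + padicValNat 2 (Nat.factorial m))
    (T.map (completeHom e)) (hT.map _) ?_ ?_ ?_ P
  · have h1 := val_card_SL (F := F) hF (n := 2 * m + 1) (by omega)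
    rw [val_glProd_odd hF hq1, ha] at h1
    rw [Nat.mul_add, mul_one]
    omega
  · rw [Subgroup.card_map_of_injective (completeHom_injective e)]
    refine le_trans ?_ hTc
    rw [pow_add, hS, card_pi, mul_comm m, pow_mul]
    exact Nat.mul_le_mul_right _ (Nat.pow_le_pow_left hDc m)
  · rintro _ ⟨y, hy, rfl⟩
    rw [← map_mul, ← Subgroup.map_commutator]
    exact Subgroup.mem_map_of_mem _ (hTs y hy)
end Cfsg.Agent.S4628
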