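import Cfsg.Statements.S4636

set_option autoImplicit false
open scoped Pointwise
open Cfsg

namespace Cfsg.Agent.S4636

/-- Let P be a nontrivial cyclic p-subgroup of the finite group G and Z its subgroup of order p. For every x outside N_G(Z), P meets its conjugate xPx⁻¹ trivially; consequently N_G(Q) ≤ N_G(Z) for every nontrivial subgroup Q of P. -/
theorem result {G : Type*} [Group G] [Finite G] (p : ℕ) [Fact p.Prime] (P : Subgroup G) (hP : IsPGroup p P) (hP1 : P ≠ ⊥) (hcyc : IsCyclic P) (Z : Subgroup G) (hZ : Z ≤ P) (hZcard : Nat.card Z = p) : (∀ x : G, x ∉ Subgroup.normalizer (Z : Set G) → P ⊓ MulAut.conj x • P = ⊥) ∧ ∀ Q : Subgroup G, Q ≤ P → Q ≠ ⊥ → Subgroup.normalizer (Q : Set G) ≤ Subgroup.normalizer (Z : Set G) := by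
  classical
  haveI := hcyc
  haveI := Fintype.ofFinite G
  have huniq : ∀ W : Subgroup G, W ≤ P → Nat.card W = p → W = Z := by
    intro W hW hWc
    haveI := Fintype.ofFinite P
    have hp0 : 0 < p := (Fact.out : p.Prime).pos
    have hroots : ∀ U : Subgroup G, U ≤ P → Nat.card U = p →
        (U.subgroupOf P : Set P).toFinset = Finset.univ.filter fun a : P => a ^ p = 1 := by
      intro U hU hUc
      have hcard : Nat.card (U.subgroupOf P) = p := by
        rw [Nat.card_congr (Subgroup.subgroupOfEquivOfLe hU).toEquiv, hUc]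
      refine Finset.eq_of_subset_of_card_le (fun a ha => ?_) ?_
      · refine Finset.mem_filter.2 ⟨Finset.mem_univ _, orderOf_dvd_iff_pow_eq_one.1 ?_⟩
        have h3 := orderOf_dvd_natCard (⟨a, Set.mem_toFinset.1 ha⟩ : U.subgroupOf P)
        rwa [hcard, Subgroup.orderOf_mk] at h3
      · refine (IsCyclic.card_pow_eq_one_le hp0).trans (le_of_eq ?_)
        rw [Set.toFinset_card, ← Nat.card_eq_fintype_card]
        exact hcard.symm
    have h1 : W.subgroupOf P = Z.subgroupOf P :=
      SetLike.coe_injective (Set.toFinset_inj.1 ((hroots W hW hWc).trans (hroots Z hZ hZcard).symm))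
    have h2 := congrArg (Subgroup.map P.subtype) h1
    rwa [Subgroup.map_subgroupOf_eq_of_le hW, Subgroup.map_subgroupOf_eq_of_le hZ] at h2
  have hsub : ∀ Q : Subgroup G, Q ≤ P → Q ≠ ⊥ → ∀ x : G, MulAut.conj x • Q ≤ P →
      x ∈ Subgroup.normalizer (Z : Set G) := by
    intro Q hQ hQ1 x hx
    have hdvd : p ∣ Nat.card Q := by
      obtain ⟨k, hk⟩ := IsPGroup.iff_card.1 (hP.to_le hQ)
      rw [hk]
      refine dvd_pow_self p fun h0 => hQ1 ?_
      rw [h0, pow_zero] at hk
      exact Subgroup.eq_bot_of_card_eq Q hk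
    obtain ⟨y, hy⟩ := exists_prime_orderOf_dvd_card' p hdvd
    rw [← Subgroup.orderOf_coe] at hy
    have hW := huniq (Subgroup.zpowers (y : G)) (Subgroup.zpowers_le.2 (hQ y.2))
      (by rw [Nat.card_zpowers, hy])
    have hW' := huniq (Subgroup.zpowers (MulAut.conj x • (y : G)))
      (Subgroup.zpowers_le.2 (hx (Subgroup.smul_mem_pointwise_smul _ _ _ y.2)))
      (by
        rw [Nat.card_zpowers, ← hy]
        exact (MulAut.conj x).orderOf_eq (y : G))
    have hmap : Z.map (MulAut.conj x).toMonoidHom = Z := by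
      conv_lhs => rw [← hW]
      rw [MonoidHom.map_zpowers]
      exact hW'
    rw [Subgroup.mem_normalizer_iff]
    intro n
    constructor
    · intro hn
      rw [← hmap]
      exact ⟨n, hn, rfl⟩
    · intro hn
      rw [← hmap] at hn
      obtain ⟨m, hm, hm'⟩ := hn
      rwa [← (MulAut.conj x).injective hm']
  refine ⟨fun x hx => ?_, fun Q hQ hQ1 x hx => ?_⟩
  · by_contra hne
    set R := (MulAut.conj x)⁻¹ • (P ⊓ MulAut.conj x • P) with hR
    refine hx (hsub R ?_ ?_ x ?_)
    · rw [hR, Subgroup.pointwise_smul_subset_iff, inv_inv]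
      exact inf_le_right
    · intro h0
      rw [hR, inv_smul_eq_iff, Subgroup.smul_bot] at h0
      exact hne h0
    · rw [hR, smul_inv_smul]
      exact inf_le_left
  · refine hsub Q hQ hQ1 x ?_
    intro y hy
    rw [Subgroup.mem_pointwise_smul_iff_inv_smul_mem] at hy
    have hy' : x⁻¹ * y * x ∈ Q := by simpa using hy
    have h2 := (Subgroup.mem_normalizer_iff.1 hx _).1 hy'
    exact hQ (by simpa [mul_assoc] using h2)

end Cfsg.Agent.S4636
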