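import Cfsg.Statements.S4642
import Cfsg.Agent.Lib.Block.FongStableBlock

set_option autoImplicit false
open Cfsg

namespace Cfsg.Agent.S4642

/-- Let G be a finite group, p a prime, M a maximal ideal of the algebraic integers containing p, K the largest normal subgroup of G of order prime to p, and L the preimage in G of the largest normal p-subgroup of G/K. Let Q be a Sylow p-subgroup of L and suppose C_G(Q) ≤ L. Let θ be an irreducible character of K invariant under conjugation by every element of G, and let B be the set of irreducible characters of G whose restriction to K contains θ. Then B is a block of G, every Sylow p-subgroup of G is a defect group of B, and B is of principal type: for every p-subgroup R of G exactly one block of C_G(R) induces B. -/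
theorem result {G : Type*} [Group G] [Fintype G] (p : ℕ) [Fact p.Prime] (M : Ideal Cfsg.AlgInt) (hM : Cfsg.IsPModular p M) (K : Subgroup G) (hK : K = Cfsg.pPrimeCore p G) [Fintype K] (L : Subgroup G) (hL : L = Cfsg.pPrimePCore p G) (Q : Subgroup G) (hQL : Q ≤ L) (hQp : IsPGroup p Q) (hQS : ¬ p ∣ Q.relIndex L) (hCQ : Subgroup.centralizer (Q : Set G) ≤ L) (θ : Cfsg.IrrCharacter K) (hθ : ∀ g : G, Cfsg.IsConjCharOf K g (θ : K → ℂ) (θ : K → ℂ)) (B : Set (Cfsg.IrrCharacter G)) (hBdef : ∀ χ : Cfsg.IrrCharacter G, χ ∈ B ↔ Cfsg.classInner (fun k : K => (χ : G → ℂ) k) (θ : K → ℂ) ≠ 0) : Cfsg.IsPBlock M B ∧ (∀ S : Sylow p G, Cfsg.IsDefectGroup p M B S) ∧ ∀ R : Subgroup G, IsPGroup p R → ∃! f : Set (Cfsg.IrrCharacter (Subgroup.centralizer (R : Set G))), Cfsg.IsInducedBlock M (Subgroup.centralizer (R : Set G)) f B := by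
  subst hK hL
  have hNp := Cfsg.Lib.Core.pPrimeCore_not_dvd p G
  set π := QuotientGroup.mk' (Cfsg.pPrimeCore p G) with hπ
  have hO := Cfsg.Lib.Core.pCore_isPGroup p (G ⧸ (Cfsg.pPrimeCore p G))
  have hQm : Q.map π = Cfsg.pCore p (G ⧸ (Cfsg.pPrimeCore p G)) := by
    have hle : Q.map π ≤ Cfsg.pCore p (G ⧸ (Cfsg.pPrimeCore p G)) := Subgroup.map_le_iff_le_comap.2 hQL
    refine le_antisymm hle (Subgroup.relIndex_eq_one.1 ?_)
    obtain ⟨k, hk⟩ := IsPGroup.iff_card.1 hO
    have h1 : (Q.map π).relIndex (Cfsg.pCore p (G ⧸ (Cfsg.pPrimeCore p G))) ∣ p ^ k := hk ▸ Subgroup.index_dvd_card _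
    have h2 : (Q.map π).relIndex (Cfsg.pCore p (G ⧸ (Cfsg.pPrimeCore p G))) ∣ Q.relIndex (Cfsg.pPrimePCore p G) := by
      have h := Subgroup.relIndex_comap (Q.map π) π (Cfsg.pPrimePCore p G)
      rw [show (Cfsg.pPrimePCore p G).map π = Cfsg.pCore p (G ⧸ (Cfsg.pPrimeCore p G)) from
        Subgroup.map_comap_eq_self_of_surjective (QuotientGroup.mk'_surjective _) _] at h
      exact h ▸ Subgroup.relIndex_dvd_of_le_left _ (Subgroup.le_comap_map π Q)
    exact Nat.eq_one_of_dvd_coprimes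
      (Nat.Coprime.pow_left k ((Fact.out : p.Prime).coprime_iff_not_dvd.2 hQS)) h1 h2
  have hOc : Subgroup.centralizer ((Cfsg.pCore p (G ⧸ (Cfsg.pPrimeCore p G)) : Subgroup (G ⧸ (Cfsg.pPrimeCore p G))) : Set (G ⧸ (Cfsg.pPrimeCore p G))) ≤
      Cfsg.pCore p (G ⧸ (Cfsg.pPrimeCore p G)) := by
    rw [← hQm, Cfsg.Lib.Sig.centralizer_map_mk' (Cfsg.pPrimeCore p G)
      (((Fact.out : p.Prime).coprime_iff_not_dvd.2 hNp).symm) hQp, hQm,
      Subgroup.map_le_iff_le_comap]
    exact hCQ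
  obtain ⟨hB, ⟨h1, -⟩, h3⟩ := Cfsg.Lib.Block.stable_block hM hNp (θ := θ)
    (fun g => Subtype.ext (funext fun n => hθ g n ⟨g * n * g⁻¹, Subgroup.Normal.conj_mem inferInstance _ n.2 g⟩ rfl)) hO hOc hBdef
  exact ⟨hB, h1, h3⟩

end Cfsg.Agent.S4642
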