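import Cfsg.Statements.S4645
import Cfsg.Agent.Lib.Block.AbelianNilpotent
import Cfsg.Agent.Lib.Block.CyclicInertial
-- import your own Cfsg.Agent.* helpers here

set_option autoImplicit false
open Cfsg

namespace Cfsg.Agent.S4645

open Cfsg.Lib Cfsg.Lib.Block in
/-- Let B be a block of the finite group G relative to a maximal ideal M of the algebraic integers containing the prime p, with a nontrivial cyclic defect group P; let c be a block of C_G(P) inducing B and T the stabilizer of c in N_G(P). Let Q be a nontrivial subgroup of P (so C_G(P) ≤ C_G(Q)), f the block of C_G(Q) induced by c inside C_G(Q), and T' the stabilizer of f in N_G(Q). Then T' = T·C_G(Q), the index of C_G(Q) in T' equals the index of C_G(P) in T, f has p-regular rank 1, and f is a nilpotent block of C_G(Q). -/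
theorem result {G : Type*} [Group G] [Finite G] (p : ℕ) [Fact p.Prime] (M : Ideal Cfsg.AlgInt) (hM : Cfsg.IsPModular p M) (B : Set (Cfsg.IrrCharacter G)) (hB : Cfsg.IsPBlock M B) (P : Subgroup G) (hPD : Cfsg.IsDefectGroup p M B P) (hP1 : P ≠ ⊥) (hcyc : IsCyclic P) (c : Set (Cfsg.IrrCharacter (Subgroup.centralizer (P : Set G)))) (hc : Cfsg.IsInducedBlock M (Subgroup.centralizer (P : Set G)) c B) (T : Subgroup G) (hT : ∀ g : G, g ∈ T ↔ (g ∈ Subgroup.normalizer (P : Set G) ∧ Cfsg.StabilizesBlock (Subgroup.centralizer (P : Set G)) c g)) (Q : Subgroup G) (hQP : Q ≤ P) (hQ1 : Q ≠ ⊥) (f : Set (Cfsg.IrrCharacter (Subgroup.centralizer (Q : Set G)))) (hf : Cfsg.IsInducedBlockIn M (Subgroup.centralizer (Q : Set G)) (Subgroup.centralizer (P : Set G)) c f) (T' : Subgroup G) (hT' : ∀ g : G, g ∈ T' ↔ (g ∈ Subgroup.normalizer (Q : Set G) ∧ Cfsg.StabilizesBlock (Subgroup.centralizer (Q : Set G)) f g)) : T' = T ⊔ Subgroup.centralizer (Q : Set G) ∧ (Subgroup.centralizer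 (Q : Set G)).relIndex T' = (Subgroup.centralizer (P : Set G)).relIndex T ∧ Cfsg.blockRank p f = 1 ∧ Cfsg.IsNilpotentBlock p M f := by
  classical
  haveI := Fintype.ofFinite G
  haveI : ∀ H : Subgroup G, Fintype H := fun H => Fintype.ofFinite H
  have hab := comm_of_isCyclic hcyc
  have hmax := maximal_of_root hM hB hPD hab hc
  have hle := (isInducedBlockIn_iff_le hM hmax.1.1 hab hQP f).1 hf
  have hfree : ∀ g ∈ T, ∀ x ∈ P, x ≠ 1 → g * x * g⁻¹ = x →
      g ∈ Subgroup.centralizer (P : Set G) :=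
    fun g hg x hx hx1 h => inertial_free hM hB hPD hcyc hc hT hg hx hx1 h
  obtain ⟨hnil, hl, -⟩ := local_rank_one hM hB hPD hab hc hT hfree hQ1 hle
  have hT'' : ∀ g : G, g ∈ T' ↔ conjIdx g ⟨Q, f⟩ = ⟨Q, f⟩ := fun g => by
    rw [hT', conjIdx_eq_self_iff]
  have hCP : Subgroup.centralizer (P : Set G) ≤ Subgroup.centralizer (Q : Set G) :=
    Subgroup.centralizer_le (SetLike.coe_subset_coe.2 hQP)
  have hPT : Subgroup.centralizer (P : Set G) ≤ T := centralizer_le_stab hT
  have hQT : Subgroup.centralizer (Q : Set G) ≤ T' := fun g hg =>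
    (hT'' g).2 (conjIdx_eq_self_of_mem hg f)
  have hTN : ∀ g ∈ T, Q.map (MulAut.conj g).toMonoidHom = Q := by
    intro g hg
    obtain ⟨x0, hx0⟩ := isCyclic_iff_exists_zpowers_eq_top.1 hcyc
    have hgN := ((hT g).1 hg).1
    obtain ⟨m, hm⟩ := (hx0 ▸ Subgroup.mem_top (⟨g * x0 * g⁻¹,
      (Subgroup.mem_normalizer_iff.1 hgN _).1 x0.2⟩ : P) : _ ∈ Subgroup.zpowers x0)
    have hm' : g * (x0 : G) * g⁻¹ = (x0 : G) ^ m := (congrArg Subtype.val hm).symm
    refine Subgroup.eq_of_le_of_card_ge ?_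
      (by rw [Subgroup.card_map_of_injective (MulAut.conj g).injective])
    rintro _ ⟨q, hq, rfl⟩
    obtain ⟨i, hi⟩ := (hx0 ▸ Subgroup.mem_top (⟨q, hQP hq⟩ : P) : _ ∈ Subgroup.zpowers x0)
    have hi' : (x0 : G) ^ i = q := congrArg Subtype.val hi
    show g * q * g⁻¹ ∈ Q
    rw [← hi', ← conj_zpow, hm', ← zpow_mul, mul_comm, zpow_mul, hi']
    exact Q.zpow_mem hq m
  have hTT' : T' = T ⊔ Subgroup.centralizer (Q : Set G) := by
    refine le_antisymm (fun g hg => ?_) (sup_le (fun g hg => ?_) hQT)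
    · obtain ⟨y, w, hy, hw, rfl⟩ := exists_conj_factor hM hmax hab hle hle ((hT'' g).1 hg)
      exact Subgroup.mul_mem_sup ((mem_stab_iff hT).2 hy) hw
    · refine (hT'' g).2 ?_
      rw [conjIdx_eq (hTN g hg)]
      refine Sigma.ext rfl (heq_of_eq (subpair_unique hM hmax.1.1 ?_ hle))
      have h := rel_conjIdx hM g (a := ⟨Q, f⟩) (b := ⟨P, c⟩) hle
      rw [(mem_stab_iff hT).1 hg, conjIdx_eq (hTN g hg)] at h
      exact h
  refine ⟨hTT', ?_, hl, hnil⟩
  have hTn : T ≤ Subgroup.normalizer (Subgroup.centralizer (Q : Set G) : Set G) := fun g hg =>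
    mem_normalizer_centralizer ((hT' g).1 (hTT' ▸ Subgroup.mem_sup_left hg)).1
  have hCQn : ((Subgroup.centralizer (Q : Set G)).subgroupOf
      (T ⊔ Subgroup.centralizer (Q : Set G))).Normal :=
    Subgroup.normal_subgroupOf_of_le_normalizer (sup_le hTn Subgroup.le_normalizer)
  have e1 : (Subgroup.centralizer (Q : Set G)).relIndex (T ⊔ Subgroup.centralizer (Q : Set G)) =
      (Subgroup.centralizer (Q : Set G)).relIndex T :=
    haveI : ((Subgroup.centralizer (Q : Set G)).subgroupOf T).Normal :=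
      Subgroup.normal_subgroupOf_of_le_normalizer hTn
    haveI := hCQn
    Nat.card_congr (QuotientGroup.quotientInfEquivProdNormalizerQuotient T
      (Subgroup.centralizer (Q : Set G)) hTn).toEquiv.symm
  rw [hTT', e1, ← Subgroup.inf_relIndex_right]
  congr 1
  refine le_antisymm (fun g hg => ?_) (le_inf hCP hPT)
  obtain ⟨x, hxQ, hx1⟩ := (Subgroup.ne_bot_iff_exists_ne_one.1 hQ1)  |>
    fun ⟨a, ha⟩ => (⟨(a : G), a.2, fun h => ha (Subtype.ext h)⟩ : ∃ x : G, x ∈ Q ∧ x ≠ 1)
  exact hfree g hg.2 x (hQP hxQ) hx1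
    (by rw [← Subgroup.mem_centralizer_iff.1 hg.1 x hxQ, mul_inv_cancel_right])

end Cfsg.Agent.S4645
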