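import Cfsg.Statements.S4648
import Cfsg.Agent.Lib.Block.SmallCenter
import Cfsg.Agent.Lib.Block.CyclicStructureApps
import Cfsg.Agent.Lib.Block.AbelianKlein
-- import your own Cfsg.Agent.* helpers here

set_option autoImplicit false
open Cfsg

namespace Cfsg.Agent.S4648

/-- Let B be a block of the finite group G relative to a maximal ideal M of the algebraic integers containing the prime p, with a nontrivial defect group D. If B has p-regular rank 1 and at most four irreducible characters, then B is nilpotent, D has exactly as many elements as B has irreducible characters, and p is 2 or 3. -/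
theorem result {G : Type*} [Group G] [Finite G] (p : ℕ) [Fact p.Prime] (M : Ideal Cfsg.AlgInt) (hM : Cfsg.IsPModular p M) (B : Set (Cfsg.IrrCharacter G)) (hB : Cfsg.IsPBlock M B) (D : Subgroup G) (hD : Cfsg.IsDefectGroup p M B D) (hD1 : D ≠ ⊥) (hl : Cfsg.blockRank p B = 1) (hk : Nat.card B ≤ 4) : Cfsg.IsNilpotentBlock p M B ∧ Nat.card D = Nat.card B ∧ (p = 2 ∨ p = 3) := by
  classical
  haveI := Fintype.ofFinite G
  have hcard := Cfsg.Lib.Block.pow_defect_eq_card hM hB hk hl
  have hDc : Nat.card D = p ^ blockDefect p B := Cfsg.Lib.Block.card_defectGroup hM hB hD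
  have hp := (Fact.out : p.Prime)
  have hd0 : blockDefect p B ≠ 0 := fun h => hD1 (Subgroup.card_eq_one.1 (by
    rw [hDc, h, pow_zero]))
  have hple : p ≤ 4 := (Nat.le_self_pow hd0 p).trans (hcard.trans_le hk)
  have hp23 : p = 2 ∨ p = 3 := by
    have h4 : p ≠ 4 := fun h => absurd hp (by subst h; decide)
    have := hp.two_le
    omega
  refine ⟨?_, hDc.trans hcard, hp23⟩
  by_cases hcyc : IsCyclic D
  · exact (Cfsg.Lib.Block.cyclic_nilpotent_iff hM hB hD hcyc).2 hl
  -- a Klein four group
  have hd2 : blockDefect p B = 2 := by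
    have h1 : blockDefect p B ≠ 1 := fun h => hcyc (isCyclic_of_prime_card (p := p) (by
      rw [hDc, h, pow_one]))
    by_contra h2
    have h3 : p ^ 3 ≤ p ^ blockDefect p B := Nat.pow_le_pow_right hp.pos (by omega)
    have h4 : 2 ^ 3 ≤ p ^ 3 := Nat.pow_le_pow_left hp.two_le 3
    omega
  obtain rfl : p = 2 := by
    rcases hp23 with h | h
    · exact h
    · exfalso
      rw [hd2, h] at hcard
      omega
  haveI : Fact (Nat.Prime 2) := ⟨Nat.prime_two⟩
  have hV : IsKleinFour D := ⟨by rw [hDc, hd2]; norm_num,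
    (not_isCyclic_iff_exponent_eq_prime Nat.prime_two (by rw [hDc, hd2])).1 hcyc⟩
  haveI := hV
  have hab : ∀ x ∈ D, ∀ y ∈ D, x * y = y * x := fun x hx y hy => by
    have := mul_comm_of_exponent_two (IsKleinFour.exponent_two (G := D)) ⟨x, hx⟩ ⟨y, hy⟩
    exact congrArg Subtype.val this
  obtain ⟨c, hmax⟩ := Cfsg.Lib.Block.exists_pair_at_defect hM hB hD
  have hc : IsInducedBlock M (Subgroup.centralizer (D : Set G)) c B :=
    Cfsg.Lib.Block.isInducedBlock_of_isBrauerPairOf hM
      (Cfsg.Lib.Block.le_centralizer_of_abelian hab le_rfl) hmax.1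
  refine (Cfsg.Lib.Block.nilpotent_iff_inertial hM hab hmax).2 fun x hxN hxS => ?_
  let T : Subgroup G := Subgroup.normalizer (D : Set G) ⊓
    Cfsg.Lib.Block.invStab (Cfsg.Lib.Block.indVec c)
  have hT : ∀ y : G, y ∈ T ↔ y ∈ Subgroup.normalizer (D : Set G) ∧
      StabilizesBlock (Subgroup.centralizer (D : Set G)) c y := fun y => by
    refine and_congr_right fun hy => ?_
    rw [Cfsg.Lib.Block.stabilizesBlock_iff_coeff (Cfsg.Lib.Block.mem_normalizer_centralizer hy),
      ← Cfsg.Lib.Block.extF_indVec]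
    rfl
  have h := (Cfsg.Lib.Block.klein_block_invariants hM hB hD hV hc hT).2.2
  rw [hl] at h
  exact (Subgroup.relIndex_eq_one.1 h.symm) ((hT x).2 ⟨hxN, hxS⟩)

end Cfsg.Agent.S4648
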