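import Cfsg.Statements.S4650
import Cfsg.Agent.Lib.Block.AbelianLocal

set_option autoImplicit false
open Cfsg

namespace Cfsg.Agent.S4650

/-- Let B be a block of the finite group G relative to a maximal ideal M of the algebraic integers containing the prime p, with a nontrivial commutative defect group P; let c be a block of C_G(P) inducing B and T the stabilizer of c in N_G(P). Then T/C_G(P) acts freely on the non-identity elements of P (an element of T fixing a non-identity element of P under conjugation lies in C_G(P)) if and only if, for every nontrivial subgroup Q of P, the block of C_G(Q) induced by c inside C_G(Q) is a nilpotent block of C_G(Q). -/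
theorem result {G : Type*} [Group G] [Finite G] (p : ℕ) [Fact p.Prime] (M : Ideal Cfsg.AlgInt) (hM : Cfsg.IsPModular p M) (B : Set (Cfsg.IrrCharacter G)) (hB : Cfsg.IsPBlock M B) (P : Subgroup G) (hPD : Cfsg.IsDefectGroup p M B P) (hPab : ∀ x ∈ P, ∀ y ∈ P, x * y = y * x) (hP1 : P ≠ ⊥) (c : Set (Cfsg.IrrCharacter (Subgroup.centralizer (P : Set G)))) (hc : Cfsg.IsInducedBlock M (Subgroup.centralizer (P : Set G)) c B) (T : Subgroup G) (hT : ∀ g : G, g ∈ T ↔ (g ∈ Subgroup.normalizer (P : Set G) ∧ Cfsg.StabilizesBlock (Subgroup.centralizer (P : Set G)) c g)) : (∀ g ∈ T, ∀ x ∈ P, x ≠ 1 → g * x * g⁻¹ = x → g ∈ Subgroup.centralizer (P : Set G)) ↔ ∀ Q : Subgroup G, Q ≤ P → Q ≠ ⊥ → ∀ f : Set (Cfsg.IrrCharacter (Subgroup.centralizer (Q : Set G))), Cfsg.IsInducedBlockIn M (Subgroup.centralizer (Q : Set G)) (Subgroup.centralizer (P : Set G)) c f → Cfsg.IsNilpotentBlock p M f := by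
  haveI := Fintype.ofFinite G
  have hmax := Cfsg.Lib.Block.maximal_of_root hM hB hPD hPab hc
  constructor
  · intro hfree Q hQP hQ1 f hf
    refine (Cfsg.Lib.Block.nilpotent_subpair_iff hM hmax hPab
      ((Cfsg.Lib.Block.isInducedBlockIn_iff_le hM hmax.1.1 hPab hQP f).1 hf)).2
      fun g hgQ hgN hgS => ?_
    obtain ⟨x, hx⟩ := Subgroup.ne_bot_iff_exists_ne_one.1 hQ1
    refine hfree g ((hT g).2 ⟨hgN, hgS⟩) x (hQP x.2) (fun h => hx (Subtype.ext h)) ?_
    rw [← Subgroup.mem_centralizer_iff.1 hgQ x x.2, mul_inv_cancel_right]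
  · intro hnil g hg x hx hx1 hfix
    obtain ⟨hgN, hgS⟩ := (hT g).1 hg
    have hQP : Subgroup.zpowers x ≤ P := Subgroup.zpowers_le.2 hx
    have hQ1 : Subgroup.zpowers x ≠ ⊥ := fun h => hx1 (Subgroup.zpowers_eq_bot.1 h)
    obtain ⟨f, -, hle⟩ := Cfsg.Lib.Block.exists_subpair hM hmax.1.1 hQP
    refine (Cfsg.Lib.Block.nilpotent_subpair_iff hM hmax hPab hle).1
      (hnil _ hQP hQ1 f ((Cfsg.Lib.Block.isInducedBlockIn_iff_le hM hmax.1.1 hPab hQP f).2 hle))
      g ?_ hgN hgS
    refine Subgroup.mem_centralizer_iff.2 fun y hy => ?_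
    obtain ⟨n, rfl⟩ := Subgroup.mem_zpowers_iff.1 hy
    exact (Commute.zpow_right (mul_inv_eq_iff_eq_mul.1 hfix : g * x = x * g) n).symm

end Cfsg.Agent.S4650
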