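import Cfsg.Statements.S4651
import Cfsg.Agent.Lib.Block.ChainSum

set_option autoImplicit false
open Cfsg

namespace Cfsg.Agent.S4651

/-- An alternating-sum identity over chains of p-subgroups (the character-count form behind the chain reformulation of Alperin's weight conjecture, which holds unconditionally for the difference k − l). Let b be a block of the finite group G relative to a maximal ideal M of the algebraic integers containing the prime p. Consider the nonempty chains s = {Q_0 < Q_1 < ⋯ < Q_m} of nontrivial p-subgroups of G in which every member is normal in the largest member; let N_G(s) be the intersection of the normalizers of the members (the stabilizer of the chain), and let b_s be the set of irreducible characters of N_G(s) lying in blocks of N_G(s) that induce b. Then #G · (k(b) − l(b)) equals the sum over all such chains s of (−1)^m · #N_G(s) · (k(b_s) − l(b_s)), where k counts irreducible characters and l is the p-regular rank; equivalently,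 k(b) − l(b) is the alternating sum of k(b_s) − l(b_s) over representatives of the conjugacy classes of such chains. -/
theorem result {G : Type*} [Group G] [Finite G] (p : ℕ) [Fact p.Prime] (M : Ideal Cfsg.AlgInt) (hM : Cfsg.IsPModular p M) (b : Set (Cfsg.IrrCharacter G)) (hb : Cfsg.IsPBlock M b) : (Nat.card G : ℤ) * ((Nat.card b : ℤ) - (Cfsg.blockRank p b : ℤ)) = ∑ᶠ s ∈ {s : Finset (Subgroup G) | s.Nonempty ∧ (∀ Q ∈ s, ∀ R ∈ s, Q ≤ R ∨ R ≤ Q) ∧ (∀ Q ∈ s, Q ≠ ⊥ ∧ IsPGroup p Q) ∧ ∃ T ∈ s, ∀ Q ∈ s, Q ≤ T ∧ T ≤ Subgroup.normalizer ((Q : Subgroup G) : Set G)}, (-1 : ℤ) ^ (s.card - 1) * (Nat.card (((⨅ Q ∈ s, Subgroup.normalizer ((Q : Subgroup G) : Set G) : Subgroup G))) : ℤ) * ((Nat.card {ψ : Cfsg.IrrCharacter (((⨅ Q ∈ s, Subgroup.normalizer ((Q : Subgroup G) : Set G) : Subgroup G))) | ∃ β : Set (Cfsg.IrrCharacter (((⨅ Q ∈ s, Subgroup.normalizer ((Q : Subgroup G) : Set G) : Subgroup G)))), ψ ∈ β ∧ Cfsg.IsInducedBlock M (((⨅ Q ∈ s, Subgroup.normalizer ((Q : Subgroup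 G) : Set G) : Subgroup G))) β b} : ℤ) - (Cfsg.blockRank p {ψ : Cfsg.IrrCharacter (((⨅ Q ∈ s, Subgroup.normalizer ((Q : Subgroup G) : Set G) : Subgroup G))) | ∃ β : Set (Cfsg.IrrCharacter (((⨅ Q ∈ s, Subgroup.normalizer ((Q : Subgroup G) : Set G) : Subgroup G)))), ψ ∈ β ∧ Cfsg.IsInducedBlock M (((⨅ Q ∈ s, Subgroup.normalizer ((Q : Subgroup G) : Set G) : Subgroup G))) β b} : ℤ)) := by
  classical
  have : Fintype G := Fintype.ofFinite G
  have : Fintype (Subgroup G) := Fintype.ofFinite _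
  have key := Cfsg.Lib.Block.sum_normal_chains hM hb
    ((Finset.univ : Finset (Finset (Subgroup G))).filter fun s => s.Nonempty ∧
      Cfsg.Lib.Block.IsPChain p s ∧ Cfsg.Lib.Block.IsNormalPChain s) (fun s => by simp)
  rw [key]
  have hset : ∀ H : Subgroup G,
      {ψ : Cfsg.IrrCharacter H | ∃ β : Set (Cfsg.IrrCharacter H), ψ ∈ β ∧
        Cfsg.IsInducedBlock M H β b} = Cfsg.Lib.Block.indSet M H b := by
    intro H
    ext ψ
    constructor
    · rintro ⟨β, hψ, hβ⟩
      show Cfsg.IsInducedBlock M H (Cfsg.blockOf M (ψ : H → ℂ)) b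
      rwa [← Cfsg.Lib.Block.eq_blockOf_of_mem hM hβ.1 hψ]
    · exact fun h => ⟨_, Cfsg.Lib.Block.self_mem_blockOf hM ψ, h⟩
  simp only [hset]
  rw [finsum_mem_eq_finite_toFinset_sum _ (Set.toFinite _)]
  refine Finset.sum_congr ?_ fun s _ => rfl
  ext s
  refine Iff.trans ?_ (Set.Finite.mem_toFinset _).symm
  refine Iff.trans (Iff.intro (fun h => (Finset.mem_filter.mp h).2)
    (fun h => Finset.mem_filter.mpr ⟨Finset.mem_univ _, h⟩)) ?_
  simp only [Set.mem_ofPred_eq, Cfsg.Lib.Block.IsPChain, Cfsg.Lib.Block.IsNormalPChain]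
  constructor
  · rintro ⟨h1, ⟨h2, h3⟩, h4⟩
    exact ⟨h1, h2, h3, _, Cfsg.Lib.Block.sup_mem_of_nonempty h2 h1,
      fun Q hQ => ⟨Finset.le_sup (f := id) hQ, h4 Q hQ⟩⟩
  · rintro ⟨h1, h2, h3, T, hT, h4⟩
    refine ⟨h1, ⟨h2, h3⟩, fun Q hQ => le_trans (Finset.sup_le fun R hR => (h4 R hR).1) (h4 Q hQ).2⟩

end Cfsg.Agent.S4651
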