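import Cfsg.Statements.S4652
import Cfsg.Agent.Lib.Block.Supp

set_option autoImplicit false
open Cfsg

namespace Cfsg.Agent.S4652

/-- Fix a prime p and a maximal ideal M of the algebraic integers containing p. The defect groups of the principal p-block of a finite group G are exactly the Sylow p-subgroups of G: a subgroup D is a defect group of the principal block if and only if D is a Sylow p-subgroup. -/
theorem result {G : Type*} [Group G] [Fintype G] (p : ℕ) [Fact p.Prime] (M : Ideal Cfsg.AlgInt) (hM : Cfsg.IsPModular p M) (D : Subgroup G) : Cfsg.IsDefectGroup p M (Cfsg.principalBlock M G) D ↔ ∃ S : Sylow p G, (S : Subgroup G) = D := by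
  classical
  have hB := Cfsg.Lib.Block.isPBlock_principal (M := M) (G := G)
  have hne : (Cfsg.principalBlock M G).Nonempty := ⟨_, Cfsg.Lib.Block.trivChar_mem_principal hM⟩
  have hdef : Cfsg.blockDefect p (Cfsg.principalBlock M G) = (Nat.card G).factorization p := by
    have h0 : sInf ((fun χ : Cfsg.IrrCharacter G => (Cfsg.charDegree (χ : G → ℂ)).factorization p) ''
        Cfsg.principalBlock M G) = 0 := Nat.sInf_eq_zero.2 (Or.inl
      ⟨Cfsg.Lib.Block.trivChar G, Cfsg.Lib.Block.trivChar_mem_principal hM, by
        simp [Cfsg.charDegree, Cfsg.Lib.Block.trivChar_coe]⟩)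
    rw [Cfsg.blockDefect, h0, Nat.sub_zero]
  constructor
  · intro hD
    exact ⟨Sylow.ofCard D (by rw [Cfsg.Lib.Block.card_defectGroup hM hB hD, hdef]), by simp⟩
  · rintro ⟨S, rfl⟩
    obtain ⟨D, hD⟩ := Cfsg.Lib.Block.exists_defectGroup hM (p := p) hB
    obtain ⟨x, hx⟩ := MulAction.exists_smul_eq G
      (Sylow.ofCard D (by rw [Cfsg.Lib.Block.card_defectGroup hM hB hD, hdef])) S
    have h := Cfsg.Lib.Block.isDefectGroup_conj hM hB hD x
    rw [← hx]
    convert h using 1
    rw [Sylow.coe_subgroup_smul, Subgroup.pointwise_smul_def]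
    rfl

end Cfsg.Agent.S4652
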