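import Cfsg.Statements.S4657
import Cfsg.Agent.Lib.Block.Induced

set_option autoImplicit false
open Cfsg

namespace Cfsg.Agent.S4657

/-- Fix a prime p and a maximal ideal M of the algebraic integers containing p. Every Brauer pair (P, e) of the finite group G is a Brauer pair of exactly one p-block B of G. -/
theorem result {G : Type*} [Group G] [Fintype G] (p : ℕ) [Fact p.Prime] (M : Ideal Cfsg.AlgInt) (hM : Cfsg.IsPModular p M) (P : Subgroup G) (e : Set (Cfsg.IrrCharacter (Subgroup.centralizer (P : Set G)))) (hPe : Cfsg.IsBrauerPair p M P e) : ∃! B : Set (Cfsg.IrrCharacter G), Cfsg.IsBrauerPairOf p M B P e := by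
  haveI := Fintype.ofFinite (Subgroup.centralizer (P : Set G))
  have hHN : Subgroup.centralizer (P : Set G) ≤ Subgroup.normalizer (P : Set G) :=
    Subgroup.centralizer_le_normalizer _
  obtain ⟨hP, he⟩ := hPe
  obtain ⟨ξ, hξ⟩ := Lib.Block.nonempty_of_isPBlock hM he
  obtain ⟨χ, hχ⟩ := Lib.Block.exists_char_brauer hM hP le_rfl hHN ξ
  refine ⟨blockOf M (χ : G → ℂ), ?_, ?_⟩
  · refine (Lib.Block.isBrauerPairOf_iff hM (Lib.Block.isPBlock_blockOf χ) P hP he).2 fun η hη => ?_
    exact (Lib.Block.brRel_iff_mem hM hP le_rfl hHN η (Lib.Block.isPBlock_blockOf χ)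
      (Lib.Block.self_mem_blockOf hM χ)).1
      (Lib.Block.brRel_congr_left hM hHN hχ (Lib.Block.sameBlock_of_mem hM he hξ hη))
  · intro B hB
    obtain ⟨ψ, hψ⟩ := Lib.Block.nonempty_of_isPBlock hM hB.2.1
    have h1 := (Lib.Block.brRel_iff_mem hM hP le_rfl hHN ξ hB.2.1 hψ).2
      ((Lib.Block.isBrauerPairOf_iff hM hB.2.1 P hP he).1 hB ξ hξ)
    rw [Lib.Block.eq_blockOf_of_mem hM hB.2.1 hψ]
    exact (Lib.Block.blockOf_eq_of_sameBlock hM (Lib.Block.brRel_unique hM hχ h1)).symm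

end Cfsg.Agent.S4657
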