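import Cfsg.Statements.S4662
import Cfsg.Agent.Lib.Block.DefectPairs

set_option autoImplicit false
open Cfsg

namespace Cfsg.Agent.S4662

/-- Fix a prime p and a maximal ideal M of the algebraic integers containing p. Let (P, e) be a maximal Brauer pair of the p-block B of the finite group G, Q ≤ P, and f the p-block of C_G(Q) with (Q, f) ≤ (P, e). Let T be the stabilizer of f in N_G(Q). Then the idempotent of f is a block idempotent of T, and N_P(Q) is contained in a defect group of that block of T; moreover for some x in G the conjugate pair (x Q x⁻¹, conjugate of f) again lies below (P, e) and, with T' the stabilizer of the conjugate of f in N_G(x Q x⁻¹), N_P(x Q x⁻¹) is a defect group of the block of T' whose idempotent is that of the conjugate of f. -/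
theorem result {G : Type*} [Group G] [Fintype G] (p : ℕ) [Fact p.Prime] (M : Ideal Cfsg.AlgInt) (hM : Cfsg.IsPModular p M) (B : Set (Cfsg.IrrCharacter G)) (P Q : Subgroup G) (e : Set (Cfsg.IrrCharacter (Subgroup.centralizer (P : Set G)))) (f : Set (Cfsg.IrrCharacter (Subgroup.centralizer (Q : Set G)))) (hmax : Cfsg.IsMaximalBrauerPair p M B P e) (hQP : Q ≤ P) (hf : Cfsg.IsPBlock M f) (hle : Cfsg.SubpairLE p M Q f P e) (T : Subgroup G) (hT : ∀ y : G, y ∈ T ↔ y ∈ Subgroup.normalizer (Q : Set G) ∧ Cfsg.StabilizesBlock (Subgroup.centralizer (Q : Set G)) f y) : (∃ F : Set (Cfsg.IrrCharacter T), Cfsg.IsPBlock M F ∧ (∀ t : T, Cfsg.blockCoeff F t = Cfsg.subgroupBlockCoeff (Subgroup.centralizer (Q : Set G)) f (t : G)) ∧ ∃ D : Subgroup T, Cfsg.IsDefectGroup p M F D ∧ (P ⊓ Subgroup.normalizer (Q : Set G)).subgroupOf T ≤ D) ∧ ∃ x : G, Cfsg.SubpairLE p M (Q.map (MulAut.conj x).toMonoidHom) (Cfsg.conjBlock Q x f) P e ∧ ∀ (T' : Subgroup G), (∀ y : G, y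 ∈ T' ↔ y ∈ Subgroup.normalizer ((Q.map (MulAut.conj x).toMonoidHom) : Set G) ∧ Cfsg.StabilizesBlock (Subgroup.centralizer ((Q.map (MulAut.conj x).toMonoidHom) : Set G)) (Cfsg.conjBlock Q x f) y) → ∃ F' : Set (Cfsg.IrrCharacter T'), Cfsg.IsPBlock M F' ∧ (∀ t : T', Cfsg.blockCoeff F' t = Cfsg.subgroupBlockCoeff (Subgroup.centralizer ((Q.map (MulAut.conj x).toMonoidHom) : Set G)) (Cfsg.conjBlock Q x f) (t : G)) ∧ Cfsg.IsDefectGroup p M F' ((P ⊓ Subgroup.normalizer ((Q.map (MulAut.conj x).toMonoidHom) : Set G)).subgroupOf T') := by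
  classical
  have hQp : IsPGroup p Q := hmax.1.1.1.to_le hQP
  obtain ⟨hQT, F, hloc, hcoeff⟩ := Cfsg.Lib.Block.exists_isLocalBlock hM hQp hf hT
  obtain ⟨D, hD, hDle⟩ := Cfsg.Lib.Block.le_defectGroup_of_subpair hM hloc hmax.1.1 hle
  refine ⟨⟨F, hloc.block, hcoeff, D, hD, le_trans (fun y hy => ?_) hDle⟩, ?_⟩
  · exact Subgroup.mem_subgroupOf.2 ⟨(Subgroup.mem_subgroupOf.1 hy).1, y.2⟩
  obtain ⟨x, hx, hrest⟩ := Cfsg.Lib.Block.exists_conj_local_defect hM hloc hmax hle
  refine ⟨x, hx, fun T' hT' => ?_⟩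
  have hmap := Cfsg.Lib.Block.conjMaps_centralizer
    (rfl : Q.map (MulAut.conj x).toMonoidHom = Q.map (MulAut.conj x).toMonoidHom)
  have hnorm : ∀ y : G, y ∈ Subgroup.normalizer (Q : Set G) ↔
      x * y * x⁻¹ ∈ Subgroup.normalizer ((Q.map (MulAut.conj x).toMonoidHom : Subgroup G) : Set G) := by
    intro y
    rw [← Subgroup.map_equiv_normalizer_eq]
    constructor
    · exact fun hy => ⟨y, hy, rfl⟩
    · rintro ⟨z, hz, he⟩
      rwa [(MulAut.conj x).injective (show MulAut.conj x z = MulAut.conj x y from he)] at hz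
  have hmaps : Cfsg.Lib.Block.ConjMaps x T T' := by
    intro y
    rw [hT, hT', ← hnorm]
    refine and_congr_right fun hy => ?_
    rw [Cfsg.Lib.Block.stabilizesBlock_iff_coeff (Cfsg.Lib.Block.mem_normalizer_centralizer hy),
      Cfsg.Lib.Block.stabilizesBlock_iff_coeff
        (Cfsg.Lib.Block.mem_normalizer_centralizer ((hnorm y).1 hy)), Cfsg.Lib.Block.conjBlock_eq]
    constructor
    · intro h g
      obtain ⟨k, rfl⟩ : ∃ k, x * k * x⁻¹ = g := ⟨x⁻¹ * g * x, by group⟩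
      rw [show x * y * x⁻¹ * (x * k * x⁻¹) * (x * y * x⁻¹)⁻¹ = x * (y * k * y⁻¹) * x⁻¹ by group,
        Cfsg.Lib.Block.subgroupBlockCoeff_conjSet, Cfsg.Lib.Block.subgroupBlockCoeff_conjSet, h]
    · intro h g
      have h2 := h (x * g * x⁻¹)
      rwa [show x * y * x⁻¹ * (x * g * x⁻¹) * (x * y * x⁻¹)⁻¹ = x * (y * g * y⁻¹) * x⁻¹ by group,
        Cfsg.Lib.Block.subgroupBlockCoeff_conjSet, Cfsg.Lib.Block.subgroupBlockCoeff_conjSet] at h2
  obtain ⟨hblk, hcoef, hdef⟩ := hrest T' hmaps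
  refine ⟨_, hblk, fun t => ?_, ?_⟩
  · rw [← hcoef]
    simp [Cfsg.subgroupBlockCoeff]
  · have he : (P ⊓ Subgroup.normalizer ((Q.map (MulAut.conj x).toMonoidHom : Subgroup G) : Set G)).subgroupOf T' =
        (P ⊓ T').subgroupOf T' := by
      ext y
      simp only [Subgroup.mem_subgroupOf, Subgroup.mem_inf]
      exact and_congr_right fun _ => iff_of_true ((hT' _).1 y.2).1 y.2
    rw [he]
    exact hdef

end Cfsg.Agent.S4662
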