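import Cfsg.Statements.S4665
import Cfsg.Agent.Lib.Block.Cartan

set_option autoImplicit false
open Cfsg

namespace Cfsg.Agent.S4665

/-- Fix a prime p, a maximal ideal M of the algebraic integers containing p, and a p-block B of the finite group G, and let p^a be the p-part of the order of G. Let χ be an integer combination of the irreducible characters in B. If the function that agrees with χ on p-regular elements and vanishes on p-singular elements is again an integer combination of the irreducible characters in B, then p^a divides χ(1). -/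
theorem result {G : Type*} [Group G] [Fintype G] (p : ℕ) [Fact p.Prime] (M : Ideal Cfsg.AlgInt) (hM : Cfsg.IsPModular p M) (B : Set (Cfsg.IrrCharacter G)) (hB : Cfsg.IsPBlock M B) (χ : G → ℂ) (hχ : (∃ n : Cfsg.IrrCharacter G → ℤ, ∀ g : G, χ g = ∑ᶠ ψ ∈ B, (n ψ : ℂ) * (ψ : G → ℂ) g)) (h0 : (∃ n : Cfsg.IrrCharacter G → ℤ, ∀ g : G, Cfsg.pRegularPart p χ g = ∑ᶠ ψ ∈ B, (n ψ : ℂ) * (ψ : G → ℂ) g)) : ∃ k : ℤ, χ 1 = (p ^ (Nat.card G).factorization p : ℂ) * k := by
  classical
  obtain ⟨n, hn⟩ := h0
  obtain ⟨S⟩ : Nonempty (Sylow p G) := inferInstance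
  haveI := Fintype.ofFinite (S : Subgroup G)
  choose mult hmult using fun ψ : Cfsg.IrrCharacter G =>
    (ψ.2.isCharacter.comp (S : Subgroup G).subtype).exists_nat_classInner
      (Cfsg.Lib.Char.isCharacter_one (G := (S : Subgroup G)))
  refine ⟨∑ ψ ∈ (Set.toFinite B).toFinset, n ψ * (mult ψ : ℤ), ?_⟩
  have hsing : ∀ s : (S : Subgroup G), s ≠ 1 → ¬ Cfsg.IsPRegular p (s : G) := by
    intro s hs h
    obtain ⟨k, hk⟩ := IsPGroup.iff_orderOf.1 S.isPGroup' s
    rw [← Subgroup.orderOf_coe] at hk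
    refine h ?_
    rw [hk]
    refine dvd_pow_self p fun h0 => hs ?_
    rw [h0, pow_zero, orderOf_eq_one_iff] at hk
    exact Subtype.ext hk
  have hreg : Cfsg.IsPRegular p (1 : G) := by
    rw [Cfsg.IsPRegular, orderOf_one]; exact (Fact.out : p.Prime).not_dvd_one
  have e : ∑ s : (S : Subgroup G), Cfsg.pRegularPart p χ (s : G) = χ 1 := by
    rw [Finset.sum_eq_single (1 : (S : Subgroup G))]
    · exact Cfsg.Lib.Block.pRegularPart_of_reg hreg
    · exact fun s _ hs => Cfsg.Lib.Block.pRegularPart_of_sing (hsing s hs)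
    · simp
  rw [← e]
  simp only [hn, finsum_mem_eq_finite_toFinset_sum _ (Set.toFinite B)]
  rw [Finset.sum_comm, Int.cast_sum, Finset.mul_sum]
  refine Finset.sum_congr rfl fun ψ _ => ?_
  rw [← Finset.mul_sum, Int.cast_mul, Int.cast_natCast, ← hmult ψ, Cfsg.classInner,
    S.card_eq_multiplicity, Nat.cast_pow]
  simp only [Pi.one_apply, map_one, mul_one, Function.comp_apply, Subgroup.coe_subtype]
  have hp0 : (p : ℂ) ≠ 0 := by exact_mod_cast (Fact.out : p.Prime).ne_zero
  field_simp

end Cfsg.Agent.S4665
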