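import Cfsg.Statements.S4666
import Cfsg.Agent.Lib.Block.RegApps

set_option autoImplicit false
open Cfsg

namespace Cfsg.Agent.S4666

/-- Fix a prime p and a maximal ideal M of the algebraic integers containing p, and a p-block B of the finite group G of defect d. For every integer combination χ of the irreducible characters in B, p^d times the function that agrees with χ on p-regular elements and vanishes elsewhere is again an integer combination of the irreducible characters in B. -/
theorem result {G : Type*} [Group G] [Fintype G] (p : ℕ) [Fact p.Prime] (M : Ideal Cfsg.AlgInt) (hM : Cfsg.IsPModular p M) (B : Set (Cfsg.IrrCharacter G)) (hB : Cfsg.IsPBlock M B) (χ : G → ℂ) (hχ : (∃ n : Cfsg.IrrCharacter G → ℤ, ∀ g : G, χ g = ∑ᶠ ψ ∈ B, (n ψ : ℂ) * (ψ : G → ℂ) g)) : (∃ n : Cfsg.IrrCharacter G → ℤ, ∀ g : G, (p ^ Cfsg.blockDefect p B : ℂ) * Cfsg.pRegularPart p χ g = ∑ᶠ ψ ∈ B, (n ψ : ℂ) * (ψ : G → ℂ) g) := by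
  classical
  obtain ⟨n, hn⟩ := hχ
  choose a ha h using fun φ : B => Lib.Block.regPart_int_expand hM hB φ.2
  refine ⟨fun ψ => ∑ φ : B, n φ * a φ ψ, fun g => ?_⟩
  have e : pRegularPart p χ g = ∑ φ : B, (n φ : ℂ) * pRegularPart p ((φ : IrrCharacter G) : G → ℂ) g := by
    by_cases hg : IsPRegular p g
    · rw [Lib.Block.pRegularPart_of_reg hg, hn g, finsum_mem_eq_toFinset_sum]
      rw [← Finset.sum_subtype B.toFinset (fun _ => Set.mem_toFinset)
        (fun φ : IrrCharacter G => (n φ : ℂ) * pRegularPart p (φ : G → ℂ) g)]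
      exact Finset.sum_congr rfl fun φ _ => by rw [Lib.Block.pRegularPart_of_reg hg]
    · rw [Lib.Block.pRegularPart_of_sing hg]
      simp [Lib.Block.pRegularPart_of_sing hg]
  rw [e, Finset.mul_sum, finsum_mem_eq_toFinset_sum]
  have h2 : ∀ φ : B, (p ^ blockDefect p B : ℂ) *
      ((n φ : ℂ) * pRegularPart p ((φ : IrrCharacter G) : G → ℂ) g) =
      ∑ ψ ∈ B.toFinset, ((n φ * a φ ψ : ℤ) : ℂ) * (ψ : G → ℂ) g := fun φ => by
    have h3 := h φ g
    rw [Nat.cast_pow] at h3
    rw [mul_left_comm, h3, Finset.mul_sum]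
    exact Finset.sum_congr rfl fun ψ _ => by push_cast; ring
  rw [Finset.sum_congr rfl fun φ _ => h2 φ, Finset.sum_comm]
  exact Finset.sum_congr rfl fun ψ _ => by push_cast; rw [Finset.sum_mul]

end Cfsg.Agent.S4666
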