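import Cfsg.Statements.S4674
import Cfsg.Agent.Lib.Block.HarrisKnorrApp

set_option autoImplicit false
open Cfsg

namespace Cfsg.Agent.S4674

/-- Fix a prime p and a maximal ideal M of the algebraic integers containing p. Let N be a normal subgroup of the finite group G, Q a p-subgroup of N, H = N_G(Q) and L = H ∩ N = N_N(Q). Let d be a p-block of N with defect group Q and e the p-block of L with defect group Q that induces d inside N (its Brauer correspondent). Then block induction from H to G is a bijection from the p-blocks of H covering e onto the p-blocks of G covering d: every block of H covering e induces exactly one block of G, and that block covers d; and every block of G covering d is induced by exactly one block of H covering e. -/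
theorem result {G : Type*} [Group G] [Fintype G] (p : ℕ) [Fact p.Prime] (M : Ideal Cfsg.AlgInt) (hM : Cfsg.IsPModular p M) (N : Subgroup G) [N.Normal] [Fintype N] (Q : Subgroup G) (hQ : IsPGroup p Q) (hQN : Q ≤ N) [Fintype ↥(Subgroup.normalizer (Q : Set G) ⊓ N)] (d : Set (Cfsg.IrrCharacter N)) (hd : Cfsg.IsPBlock M d) (hdQ : Cfsg.IsDefectGroup p M d (Q.subgroupOf N)) (e : Set (Cfsg.IrrCharacter ↥(Subgroup.normalizer (Q : Set G) ⊓ N))) (he : Cfsg.IsPBlock M e) (heQ : Cfsg.IsDefectGroup p M e (Q.subgroupOf (Subgroup.normalizer (Q : Set G) ⊓ N))) (hed : Cfsg.IsInducedBlockIn M N (Subgroup.normalizer (Q : Set G) ⊓ N) e d) : (∀ c : Set (Cfsg.IrrCharacter ↥(Subgroup.normalizer (Q : Set G))), Cfsg.IsPBlock M c → (∃ ψ ∈ c, ∃ ξ ∈ e, Cfsg.classInner (fun l : ↥(Subgroup.normalizer (Q : Set G) ⊓ N) => (ψ : ↥(Subgroup.normalizer (Q : Set G)) → ℂ) (Subgroup.inclusion inf_le_left l)) (ξ : ↥(Subgroup.normalizer (Q : Set G) ⊓ N)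 → ℂ) ≠ 0) → ∃! B : Set (Cfsg.IrrCharacter G), Cfsg.IsInducedBlock M (Subgroup.normalizer (Q : Set G)) c B ∧ (∃ χ ∈ B, ∃ θ ∈ d, Cfsg.classInner (fun n : N => (χ : G → ℂ) n) (θ : N → ℂ) ≠ 0)) ∧ (∀ B : Set (Cfsg.IrrCharacter G), Cfsg.IsPBlock M B → (∃ χ ∈ B, ∃ θ ∈ d, Cfsg.classInner (fun n : N => (χ : G → ℂ) n) (θ : N → ℂ) ≠ 0) → ∃! c : Set (Cfsg.IrrCharacter ↥(Subgroup.normalizer (Q : Set G))), (Cfsg.IsPBlock M c ∧ ∃ ψ ∈ c, ∃ ξ ∈ e, Cfsg.classInner (fun l : ↥(Subgroup.normalizer (Q : Set G) ⊓ N) => (ψ : ↥(Subgroup.normalizer (Q : Set G)) → ℂ) (Subgroup.inclusion inf_le_left l)) (ξ : ↥(Subgroup.normalizer (Q : Set G) ⊓ N) → ℂ) ≠ 0) ∧ Cfsg.IsInducedBlock M (Subgroup.normalizer (Q : Set G)) c B) := by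
  letI : Fintype ↥(Subgroup.normalizer (Q : Set G)) := Cfsg.Lib.Block.fintypeSubgroupHarris _
  letI : Fintype ↥(N.subgroupOf (Subgroup.normalizer (Q : Set G))) :=
    Cfsg.Lib.Block.fintypeSubgroupHarris _
  obtain rfl : ‹Fintype ↥N› = Cfsg.Lib.Block.fintypeSubgroupHarris N := Subsingleton.elim _ _
  set ι := Cfsg.Lib.Block.infIso (Subgroup.normalizer (Q : Set G)) N
  have heQ' : Cfsg.IsDefectGroup p M (Cfsg.Lib.Block.pullSet ι e)
      ((Q.subgroupOf (Subgroup.normalizer (Q : Set G))).subgroupOf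
        (N.subgroupOf (Subgroup.normalizer (Q : Set G)))) := by
    have h := Cfsg.Lib.Block.isDefectGroup_pullSet ι heQ
    convert h using 1
    ext y
    constructor
    · intro hy
      exact ⟨ι y, hy, ι.symm_apply_apply y⟩
    · rintro ⟨z, hz, rfl⟩
      exact hz
  have hed' : Cfsg.IsInducedBlock M (Subgroup.normalizer (Q.subgroupOf N : Set N))
      (Cfsg.Lib.Block.pullSet (Cfsg.Lib.Block.normalizerIso hQN)
        (Cfsg.Lib.Block.pullSet ι e)) d := by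
    obtain ⟨h1, h2, h3⟩ := hed
    refine ⟨Cfsg.Lib.Block.isPBlock_pullSet _ (Cfsg.Lib.Block.isPBlock_pullSet _ h1), h2,
      fun ξ hξ θ hθ n => ?_⟩
    rw [← Cfsg.Lib.Block.compIrr_compIrr_symm
      ((Cfsg.Lib.Block.normalizerIso hQN).trans ι) ξ,
      Cfsg.Lib.Block.inducedCentralChar_normalizerIso hQN]
    exact h3 _ hξ θ hθ n
  obtain ⟨h1, h2⟩ := Cfsg.Lib.Block.harris_knorr hM hQ hQN hd hdQ
    (Cfsg.Lib.Block.isPBlock_pullSet ι he) heQ' hed'
  refine ⟨fun c hc hcov => h1 c hc ((Cfsg.Lib.Block.cov_infIso_iff c e).2 hcov), fun B hB hcov => ?_⟩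
  obtain ⟨c, ⟨⟨hc, hcc⟩, hci⟩, hu⟩ := h2 B hB hcov
  exact ⟨c, ⟨⟨hc, (Cfsg.Lib.Block.cov_infIso_iff c e).1 hcc⟩, hci⟩,
    fun c' hc' => hu c' ⟨⟨hc'.1.1, (Cfsg.Lib.Block.cov_infIso_iff c' e).2 hc'.1.2⟩, hc'.2⟩⟩

end Cfsg.Agent.S4674
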