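import Cfsg.Statements.S4675
import Cfsg.Agent.Lib.Block.RankOne

set_option autoImplicit false
open Cfsg

namespace Cfsg.Agent.S4675

/-- Fix a prime p and a maximal ideal M of the algebraic integers containing p. Let B be a p-block of the finite group G with defect group P and p-regular rank one (a single irreducible Brauer character). Then there are a function φ on G that is, on the p-regular elements, an integer combination of the members of B, and natural numbers d_χ (χ ∈ B), such that every χ ∈ B agrees with d_χ·φ on the p-regular elements and Σ_{χ ∈ B} d_χ² equals the order of P (the single Cartan invariant of B is the order of P). -/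
theorem result {G : Type*} [Group G] [Fintype G] (p : ℕ) [Fact p.Prime] (M : Ideal Cfsg.AlgInt) (hM : Cfsg.IsPModular p M) (B : Set (Cfsg.IrrCharacter G)) (hB : Cfsg.IsPBlock M B) (P : Subgroup G) (hP : Cfsg.IsDefectGroup p M B P) (hl : Cfsg.blockRank p B = 1) : ∃ φ : G → ℂ, ∃ d : Cfsg.IrrCharacter G → ℕ, (∃ n : Cfsg.IrrCharacter G → ℤ, ∀ x : G, Cfsg.IsPRegular p x → φ x = ∑ᶠ ψ ∈ B, (n ψ : ℂ) * (ψ : G → ℂ) x) ∧ (∀ χ ∈ B, ∀ x : G, Cfsg.IsPRegular p x → (χ : G → ℂ) x = (d χ : ℂ) * φ x) ∧ ∑ᶠ χ ∈ B, d χ ^ 2 = Nat.card P := by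
  classical
  have hp : p.Prime := Fact.out
  obtain ⟨ψ, hψ⟩ := Lib.Block.nonempty_of_isPBlock hM hB
  set g := B.toFinset.gcd fun χ : IrrCharacter G => charDegree (χ : G → ℂ) with hg
  obtain ⟨n, hn⟩ := Lib.Block.exists_sum_mul_eq_gcd B.toFinset
    (fun χ : IrrCharacter G => charDegree (χ : G → ℂ))
  have hg0 : g ≠ 0 := fun h => (Lib.Block.charDegree_pos ψ).ne'
    (Nat.eq_zero_of_zero_dvd (h ▸ Finset.gcd_dvd (Set.mem_toFinset.2 hψ)))
  refine ⟨fun x => ∑ᶠ η ∈ B, (n η : ℂ) * (η : G → ℂ) x, fun χ => charDegree (χ : G → ℂ) / g,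
    ⟨n, fun x _ => rfl⟩, fun χ hχ x hx => ?_, ?_⟩
  · have hprop : ∀ η ∈ B, (η : G → ℂ) x = (charDegree (η : G → ℂ) : ℂ) *
        ((ψ : G → ℂ) x / (ψ : G → ℂ) 1) := fun η hη => by
      have h := congrFun (Lib.Block.regPart_eq_of_rank_one hl hη hψ) x
      rw [Pi.smul_apply, smul_eq_mul, Lib.Block.pRegularPart_of_reg hx,
        Lib.Block.pRegularPart_of_reg hx] at h
      rw [h, ← Lib.Block.apply_one_eq_charDegree]
      ring
    simp only [finsum_mem_eq_toFinset_sum]
    rw [Finset.sum_congr rfl fun η hη => by rw [hprop η (Set.mem_toFinset.1 hη), ← mul_assoc],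
      ← Finset.sum_mul, hprop χ hχ, ← mul_assoc,
      Nat.cast_div (show g ∣ charDegree (χ : G → ℂ) from Finset.gcd_dvd (Set.mem_toFinset.2 hχ))
        (by exact_mod_cast hg0)]
    congr 1
    have hn' : ∑ η ∈ B.toFinset, (n η : ℂ) * (charDegree (η : G → ℂ) : ℂ) = (g : ℂ) := by
      exact_mod_cast hn
    rw [hn', div_mul_cancel₀ _ (by exact_mod_cast hg0)]
  · rw [finsum_mem_eq_toFinset_sum]
    obtain ⟨x, hx, S, rfl⟩ := hP
    have h2 := Lib.Block.factorization_cenCard_defectClass hM hB hx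
    rw [Lib.Block.cenCard] at h2
    rw [Subgroup.card_map_of_injective (Subgroup.subtype_injective _), S.card_eq_multiplicity, h2]
    refine Nat.eq_of_mul_eq_mul_right (Nat.pos_of_ne_zero (pow_ne_zero 2 hg0)) ?_
    rw [Finset.sum_mul, ← Lib.Block.sum_sq_rank_one hM hB hl]
    refine Finset.sum_congr rfl fun χ hχ => ?_
    show (charDegree (χ : G → ℂ) / g) ^ 2 * g ^ 2 = _
    rw [← mul_pow, Nat.div_mul_cancel (show g ∣ charDegree (χ : G → ℂ) from Finset.gcd_dvd hχ)]

end Cfsg.Agent.S4675
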