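import Cfsg.Statements.S4679
import Cfsg.Agent.Lib.Block.FullyNormal

set_option autoImplicit false
open Cfsg

namespace Cfsg.Agent.S4679

/-- Fix a prime p and a maximal ideal M of the algebraic integers containing p, a p-block B of the finite group G with maximal Brauer pair (P, e), its fusion system F on P, a Brauer pair (Q, f) ≤ (P, e), and let T be the stabilizer of f in N_G(Q). Then Q is fully normalized in F if and only if N_P(Q) is a defect group of the block of T whose idempotent is that of f. -/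
theorem result {G : Type*} [Group G] [Fintype G] (p : ℕ) [Fact p.Prime] (M : Ideal Cfsg.AlgInt) (hM : Cfsg.IsPModular p M) (B : Set (Cfsg.IrrCharacter G)) (P : Subgroup G) (e : Set (Cfsg.IrrCharacter (Subgroup.centralizer (P : Set G)))) (hmax : Cfsg.IsMaximalBrauerPair p M B P e) (F : Cfsg.FusionSystem P) (hF : Cfsg.IsBlockFusionSystemOn p M B P e F) (Q : Subgroup G) (f : Set (Cfsg.IrrCharacter (Subgroup.centralizer (Q : Set G)))) (hQP : Q ≤ P) (hf : Cfsg.IsPBlock M f) (hle : Cfsg.SubpairLE p M Q f P e) (T : Subgroup G) (hT : ∀ y : G, y ∈ T ↔ y ∈ Subgroup.normalizer (Q : Set G) ∧ Cfsg.StabilizesBlock (Subgroup.centralizer (Q : Set G)) f y) : F.IsFullyNormalized Q ↔ ∃ F' : Set (Cfsg.IrrCharacter T), Cfsg.IsPBlock M F' ∧ (∀ t : T, Cfsg.blockCoeff F' t = Cfsg.subgroupBlockCoeff (Subgroup.centralizer (Q : Set G)) f (t : G)) ∧ Cfsg.IsDefectGroup p M F' ((P ⊓ Subgroup.normalizer (Q : Set G)).subgroupOf T) := by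
  classical
  haveI := Fintype.ofFinite G
  have hQp : IsPGroup p Q := hmax.1.1.1.to_le hQP
  obtain ⟨hQT, F', hloc, hcoeff⟩ := Lib.Block.exists_isLocalBlock hM hQp hf hT
  have hTN : ∀ {R : Subgroup G} {g : G} {c : Set (Cfsg.IrrCharacter (Subgroup.centralizer (R : Set G)))},
      Cfsg.SubpairLE p M R c P e → ∀ y ∈ P ⊓ Subgroup.normalizer (R : Set G),
        Cfsg.StabilizesBlock (Subgroup.centralizer (R : Set G)) c y :=
    fun h y hy => Lib.Block.inf_normalizer_le_stab hM hmax.1.1 h hy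
  have hQe : P ⊓ T = P ⊓ Subgroup.normalizer (Q : Set G) := by
    refine le_antisymm (inf_le_inf_left _ fun y hy => ((hT y).1 hy).1) fun y hy => ⟨hy.1, ?_⟩
    exact (hT y).2 ⟨hy.2, Lib.Block.inf_normalizer_le_stab hM hmax.1.1 hle hy⟩
  have hconj : ∀ g : G, Cfsg.SubpairLE p M (Q.map (MulAut.conj g).toMonoidHom) (Cfsg.conjBlock Q g f) P e →
      P ⊓ T.map (MulAut.conj g).toMonoidHom =
        P ⊓ Subgroup.normalizer ((Q.map (MulAut.conj g).toMonoidHom : Subgroup G) : Set G) := by
    intro g hg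
    refine le_antisymm (inf_le_inf_left _ ?_) fun y hy => ⟨hy.1, ?_⟩
    · rw [← Subgroup.map_equiv_normalizer_eq]
      exact Subgroup.map_mono fun y hy => ((hT y).1 hy).1
    · obtain ⟨k, rfl⟩ : ∃ k, g * k * g⁻¹ = y := ⟨g⁻¹ * y * g, by group⟩
      have hst := Lib.Block.inf_normalizer_le_stab hM hmax.1.1 hg hy
      have hkN : k ∈ Subgroup.normalizer (Q : Set G) := by
        have h2 := hy.2
        rw [← Subgroup.map_equiv_normalizer_eq] at h2
        obtain ⟨z, hz, he⟩ := h2
        rwa [(MulAut.conj g).injective (show MulAut.conj g z = MulAut.conj g k from he)] at hz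
      refine ⟨k, (hT k).2 ⟨hkN, ?_⟩, rfl⟩
      rw [Lib.Block.stabilizesBlock_iff_coeff (Lib.Block.mem_normalizer_centralizer hkN)]
      rw [Lib.Block.stabilizesBlock_iff_coeff (Lib.Block.mem_normalizer_centralizer hy.2),
        Lib.Block.conjBlock_eq] at hst
      intro a
      have h2 := hst (g * a * g⁻¹)
      rwa [show g * k * g⁻¹ * (g * a * g⁻¹) * (g * k * g⁻¹)⁻¹ = g * (k * a * k⁻¹) * g⁻¹ by group,
        Lib.Block.subgroupBlockCoeff_conjSet, Lib.Block.subgroupBlockCoeff_conjSet] at h2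
  have hkey : F.IsFullyNormalized Q ↔
      Cfsg.IsDefectGroup p M F' ((P ⊓ T).subgroupOf T) := by
    rw [Lib.Block.isDefectGroup_inf_iff hM hloc hmax.1.1 hle]
    constructor
    · rintro ⟨-, h⟩
      obtain ⟨x, hx, hcard⟩ := Lib.Block.exists_card_inf_eq_defect hM hloc hmax hle
      have h1 := h _ ((Lib.Block.blockFusion_isConj_iff hM hF hle _).2 ⟨x, rfl, hx⟩)
      rw [hconj x hx] at hcard
      rw [← hcard, hQe]
      exact h1
    · refine fun h => ⟨hQP, fun R hR => ?_⟩
      obtain ⟨g, rfl, hg⟩ := (Lib.Block.blockFusion_isConj_iff hM hF hle R).1 hR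
      have h1 := Lib.Block.card_inf_le_defect hM hloc hmax.1.1 hg
      rw [hconj g hg] at h1
      rw [hQe] at h
      exact h1.trans h
  have hsub : (P ⊓ Subgroup.normalizer (Q : Set G)).subgroupOf T = (P ⊓ T).subgroupOf T := by
    rw [hQe]
  rw [hkey]
  constructor
  · intro h
    exact ⟨F', hloc.block, hcoeff, hsub ▸ h⟩
  · rintro ⟨F'', hF'', hc'', hd⟩
    have : F'' = F' := Lib.Block.eq_of_blockCoeff_eq fun t => by
      rw [hc'', hcoeff]
    rw [← this, ← hsub]
    exact hd

end Cfsg.Agent.S4679
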