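import Cfsg.Statements.S4680
import Cfsg.Agent.Lib.Block.FullyNormal

set_option autoImplicit false
open Cfsg

namespace Cfsg.Agent.S4680

/-- Fix a prime p and a maximal ideal M of the algebraic integers containing p, a p-block B of the finite group G with maximal Brauer pair (P, e), its fusion system F on P, and a Brauer pair (Q, f) ≤ (P, e). Then Q is centric in F if and only if Z(Q) is a defect group of f as a block of C_G(Q). -/
theorem result {G : Type*} [Group G] [Fintype G] (p : ℕ) [Fact p.Prime] (M : Ideal Cfsg.AlgInt) (hM : Cfsg.IsPModular p M) (B : Set (Cfsg.IrrCharacter G)) (P : Subgroup G) (e : Set (Cfsg.IrrCharacter (Subgroup.centralizer (P : Set G)))) (hmax : Cfsg.IsMaximalBrauerPair p M B P e) (F : Cfsg.FusionSystem P) (hF : Cfsg.IsBlockFusionSystemOn p M B P e F) (Q : Subgroup G) (f : Set (Cfsg.IrrCharacter (Subgroup.centralizer (Q : Set G)))) (hQP : Q ≤ P) (hf : Cfsg.IsPBlock M f) (hle : Cfsg.SubpairLE p M Q f P e) : F.IsCentric Q ↔ Cfsg.IsDefectGroup p M f ((Q ⊓ Subgroup.centralizer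 (Q : Set G)).subgroupOf (Subgroup.centralizer (Q : Set G))) := by
  classical
  haveI := Fintype.ofFinite G
  have hloc := Lib.Block.isLocalBlock_centralizer (p := p) hM hf
  have hcardmap : ∀ g : G, Nat.card ↥((Q ⊓ Subgroup.centralizer (Q : Set G)).map (MulAut.conj g).toMonoidHom) =
      Nat.card ↥(Q ⊓ Subgroup.centralizer (Q : Set G)) := fun g =>
    Subgroup.card_map_of_injective (MulAut.conj g).injective
  constructor
  · rintro ⟨-, h⟩
    obtain ⟨x, hx, hcard⟩ := Lib.Block.exists_card_inf_eq_defect hM hloc hmax hle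
    have h1 := h _ ((Lib.Block.blockFusion_isConj_iff hM hF hle _).2 ⟨x, rfl, hx⟩)
    rw [Lib.Block.map_centralizer_conj] at hcard
    have h0 := h Q ((Lib.Block.blockFusion_isConj_iff hM hF hle Q).2 ⟨1, by ext; simp, by
      have he1 := Lib.Block.conjIdx_one ⟨Q, f⟩
      show Relation.ReflTransGen (Cfsg.NormalSubpairRel p M) (Lib.Block.conjIdx 1 ⟨Q, f⟩) ⟨P, e⟩
      rw [he1]
      exact hle⟩)
    have he : P ⊓ Subgroup.centralizer (Q : Set G) = Q ⊓ Subgroup.centralizer (Q : Set G) :=
      le_antisymm (le_inf h0 inf_le_right) (inf_le_inf_right _ hQP)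
    rw [← he, Lib.Block.isDefectGroup_inf_iff hM hloc hmax.1.1 hle, he, ← hcard, ← hcardmap x,
      Subgroup.map_inf _ _ _ (MulAut.conj x).injective, Lib.Block.map_centralizer_conj]
    exact Subgroup.card_le_of_le (le_inf h1 inf_le_right)
  · refine fun h => ⟨hQP, fun R hR => ?_⟩
    obtain ⟨g, rfl, hg⟩ := (Lib.Block.blockFusion_isConj_iff hM hF hle R).1 hR
    have h1 := Lib.Block.card_inf_le_defect hM hloc hmax.1.1 hg
    rw [Lib.Block.map_centralizer_conj, ← Lib.Block.card_defectGroup hM hf h,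
      Nat.card_congr (Subgroup.subgroupOfEquivOfLe
        (inf_le_right : Q ⊓ Subgroup.centralizer (Q : Set G) ≤ Subgroup.centralizer (Q : Set G))).toEquiv,
      ← hcardmap g, Subgroup.map_inf _ _ _ (MulAut.conj g).injective,
      Lib.Block.map_centralizer_conj] at h1
    have h2 := Subgroup.eq_of_le_of_card_ge (inf_le_inf_right _ (Lib.Block.le_of_rel hg)) h1
    exact fun y hy => (h2.ge hy).1

end Cfsg.Agent.S4680
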