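import Cfsg.Statements.S4681
import Cfsg.Agent.Lib.Block.PairApps

set_option autoImplicit false
open Cfsg

namespace Cfsg.Agent.S4681

/-- Fix a prime p and a maximal ideal M of the algebraic integers containing p. Let B₀ be the principal p-block of the finite group G, P a Sylow p-subgroup and e₀ the principal p-block of C_G(P). Then (P, e₀) is a maximal Brauer pair of B₀, and the fusion system of B₀ on (P, e₀) is the fusion system of G on P: its maps from each subgroup of P are exactly the conjugation maps into P by elements of G. -/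
theorem result {G : Type*} [Group G] [Fintype G] (p : ℕ) [Fact p.Prime] (M : Ideal Cfsg.AlgInt) (hM : Cfsg.IsPModular p M) (S : Sylow p G) : Cfsg.IsMaximalBrauerPair p M (Cfsg.principalBlock M G) (S : Subgroup G) (Cfsg.principalBlock M (Subgroup.centralizer ((S : Subgroup G) : Set G))) ∧ ∀ F : Cfsg.FusionSystem (S : Subgroup G), Cfsg.IsBlockFusionSystemOn p M (Cfsg.principalBlock M G) (S : Subgroup G) (Cfsg.principalBlock M (Subgroup.centralizer ((S : Subgroup G) : Set G))) F → ∀ Q : Subgroup G, F.Hom Q = (Cfsg.groupFusionSystem (S : Subgroup G)).Hom Q := by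
  classical
  haveI : Fintype (Subgroup.centralizer ((S : Subgroup G) : Set G)) := Fintype.ofFinite _
  have hB := Cfsg.Lib.Block.isPBlock_principal (M := M) (G := G)
  have h0 : Cfsg.IsBrauerPairOf p M (Cfsg.principalBlock M G) (S : Subgroup G)
      (Cfsg.principalBlock M (Subgroup.centralizer ((S : Subgroup G) : Set G))) :=
    (Cfsg.Lib.Block.isBrauerPairOf_principal_iff hM S.2 (Cfsg.Lib.Block.isPBlock_principal)).2 rfl
  refine ⟨⟨h0, fun R g hg hle => ?_⟩, fun F hF Q => ?_⟩
  · exact S.3 hg.1.1 (Cfsg.Lib.Block.subpairLE_le hle)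
  · ext φ
    rw [hF.2 Q φ]
    constructor
    · rintro ⟨hQ, g, hg, hmap, -⟩
      exact ⟨hQ, fun x => by rw [hg]; exact hmap ⟨x, x.2, rfl⟩, g, hg⟩
    · rintro ⟨hQ, hval, g, hg⟩
      have hmap : Q.map (MulAut.conj g).toMonoidHom ≤ (S : Subgroup G) := by
        rintro _ ⟨x, hx, rfl⟩
        have := hval ⟨x, hx⟩
        rwa [hg] at this
      obtain ⟨f, hf, hle⟩ := Cfsg.Lib.Block.exists_subpair hM h0.1 hQ
      obtain ⟨f', hf', hle'⟩ := Cfsg.Lib.Block.exists_subpair hM h0.1 hmap
      have hfB := (Cfsg.Lib.Block.isBrauerPairOf_iff_of_le hM hle _).1 h0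
      have hfB' := (Cfsg.Lib.Block.isBrauerPairOf_iff_of_le hM hle' _).1 h0
      have hconj : Cfsg.IsBrauerPairOf p M (Cfsg.principalBlock M G) _ (Cfsg.conjBlock Q g f) :=
        Cfsg.Lib.Block.isBrauerPairOf_conjIdx hM g (a := ⟨Q, f⟩) hfB
      have e : Cfsg.conjBlock Q g f = f' :=
        (Cfsg.Lib.Block.eq_principal_of_pair hM hconj).trans
          (Cfsg.Lib.Block.eq_principal_of_pair hM hfB').symm
      exact ⟨hQ, g, hg, hmap, f, hle, e ▸ hle'⟩

end Cfsg.Agent.S4681
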