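import Cfsg.Statements.S4682
import Cfsg.Agent.Lib.Block.NilpotentPairs

set_option autoImplicit false
open Cfsg

namespace Cfsg.Agent.S4682

/-- Fix a prime p and a maximal ideal M of the algebraic integers containing p, a p-block B of the finite group G with maximal Brauer pair (P, e), P abelian, and a Brauer pair (Q, f) ≤ (P, e). Let T_Q be the stabilizer of f in N_G(Q) and T_P the stabilizer of e in N_G(P). Then every element of T_Q is a product of an element of T_P and an element of C_G(Q); and the index of C_G(Q) in T_Q equals the index of T_P ∩ C_G(Q) in T_P ∩ N_G(Q). -/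
theorem result {G : Type*} [Group G] [Fintype G] (p : ℕ) [Fact p.Prime] (M : Ideal Cfsg.AlgInt) (hM : Cfsg.IsPModular p M) (B : Set (Cfsg.IrrCharacter G)) (P : Subgroup G) (e : Set (Cfsg.IrrCharacter (Subgroup.centralizer (P : Set G)))) (hmax : Cfsg.IsMaximalBrauerPair p M B P e) (hab : ∀ x ∈ P, ∀ y ∈ P, x * y = y * x) (Q : Subgroup G) (f : Set (Cfsg.IrrCharacter (Subgroup.centralizer (Q : Set G)))) (hQP : Q ≤ P) (hf : Cfsg.IsPBlock M f) (hle : Cfsg.SubpairLE p M Q f P e) (TQ : Subgroup G) (hTQ : ∀ y : G, y ∈ TQ ↔ y ∈ Subgroup.normalizer (Q : Set G) ∧ Cfsg.StabilizesBlock (Subgroup.centralizer (Q : Set G)) f y) (TP : Subgroup G) (hTP : ∀ y : G, y ∈ TP ↔ y ∈ Subgroup.normalizer (P : Set G) ∧ Cfsg.StabilizesBlock (Subgroup.centralizer (P : Set G)) e y) : (∀ x ∈ TQ, ∃ y ∈ TP, ∃ c ∈ Subgroup.centralizer (Q : Set G), x = y * c) ∧ ((Subgroup.centralizer (Q : Set G)).subgroupOf TQ).index = ((TP ⊓ Subgroup.centralizer (Q : Set G)).subgroupOf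 (TP ⊓ Subgroup.normalizer (Q : Set G))).index := by
  classical
  have hfac : ∀ x ∈ TQ, ∃ y ∈ TP, ∃ c ∈ Subgroup.centralizer (Q : Set G), x = y * c := by
    intro x hx
    obtain ⟨y, c, hy, hc, h⟩ := Cfsg.Lib.Block.exists_factor_abelian hM hab hmax hle
      ((Cfsg.Lib.Block.conjIdx_eq_self_iff f x).2 ((hTQ x).1 hx))
    exact ⟨y, (hTP y).2 ((Cfsg.Lib.Block.conjIdx_eq_self_iff e y).1 hy), c, hc, h⟩
  refine ⟨hfac, ?_⟩
  have hle' : TP ⊓ Subgroup.normalizer (Q : Set G) ≤ TQ := by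
    intro y hy
    refine (hTQ y).2 ((Cfsg.Lib.Block.conjIdx_eq_self_iff f y).1 ?_)
    have h1 := Cfsg.Lib.Block.rel_conjIdx hM y (a := ⟨Q, f⟩) (b := ⟨P, e⟩) hle
    rw [(Cfsg.Lib.Block.conjIdx_eq_self_iff e y).2 ((hTP y).1 hy.1),
      Cfsg.Lib.Block.conjIdx_eq (Cfsg.Lib.Block.map_conj_eq_self hy.2)] at h1
    rw [Cfsg.Lib.Block.conjIdx_eq (Cfsg.Lib.Block.map_conj_eq_self hy.2)]
    exact Sigma.ext rfl
      (heq_of_eq (Cfsg.Lib.Block.subpair_unique hM hmax.1.1 h1 hle))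
  have hCTQ : Subgroup.centralizer (Q : Set G) ≤ TQ := by
    intro y hy
    refine (hTQ y).2 ⟨Subgroup.centralizer_le_normalizer _ hy, ?_⟩
    rw [Cfsg.Lib.Block.stabilizesBlock_iff (Cfsg.Lib.Block.mem_normalizer_centralizer
      (Subgroup.centralizer_le_normalizer _ hy))]
    exact Cfsg.Lib.Block.conjSet_of_mem _ hy f
  have heq : TQ = (TP ⊓ Subgroup.normalizer (Q : Set G)) ⊔ Subgroup.centralizer (Q : Set G) := by
    refine le_antisymm (fun x hx => ?_) (sup_le hle' hCTQ)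
    obtain ⟨y, hy, c, hc, rfl⟩ := hfac x hx
    have hyN : y ∈ Subgroup.normalizer (Q : Set G) := by
      simpa using mul_mem ((hTQ _).1 hx).1 (inv_mem (Subgroup.centralizer_le_normalizer _ hc))
    exact mul_mem (Subgroup.mem_sup_left ⟨hy, hyN⟩) (Subgroup.mem_sup_right hc)
  show (Subgroup.centralizer (Q : Set G)).relIndex TQ =
    (TP ⊓ Subgroup.centralizer (Q : Set G)).relIndex (TP ⊓ Subgroup.normalizer (Q : Set G))
  rw [heq, sup_comm, Cfsg.Lib.Transit.relIndex_sup_normalized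
    (show TP ⊓ Subgroup.normalizer (Q : Set G) ≤
        Subgroup.normalizer (Subgroup.centralizer (Q : Set G) : Set G) from
      fun y hy => Cfsg.Lib.Block.mem_normalizer_centralizer hy.2),
    ← Subgroup.inf_relIndex_right (TP ⊓ Subgroup.centralizer (Q : Set G)),
    ← Subgroup.inf_relIndex_right (Subgroup.centralizer (Q : Set G))]
  congr 1
  ext y
  simp only [Subgroup.mem_inf]
  constructor
  · rintro ⟨h1, h2, h3⟩
    exact ⟨⟨h2, h1⟩, h2, h3⟩
  · rintro ⟨⟨h1, h2⟩, h3⟩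
    exact ⟨h2, h3⟩

end Cfsg.Agent.S4682
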