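import Cfsg.Statements.S4683
import Cfsg.Agent.Lib.Block.SubsectionApps

set_option autoImplicit false
open Cfsg

namespace Cfsg.Agent.S4683

/-- Fix a prime p and a maximal ideal M of the algebraic integers containing p, a p-block B of the finite group G, a p-element u and a p-block e of C = C_G(u) such that (⟨u⟩, e) is a Brauer pair of B (a Brauer element of B). For χ ∈ B let χ_u be the e-part of the class function c ↦ χ(u c) on C and χ_u' the e-part of c ↦ χ(u⁻¹ c). Then the sum over χ ∈ B and over the p-regular elements s of C of χ_u(s)·χ_u'(s⁻¹) equals the order of C times the p-regular rank of e (the number of irreducible Brauer characters of e). -/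
theorem result {G : Type*} [Group G] [Fintype G] (p : ℕ) [Fact p.Prime] (M : Ideal Cfsg.AlgInt) (hM : Cfsg.IsPModular p M) (B : Set (Cfsg.IrrCharacter G)) (u : G) (hu : ∃ k : ℕ, orderOf u = p ^ k) (e : Set (Cfsg.IrrCharacter (Subgroup.centralizer (Subgroup.zpowers u : Set G)))) (hBe : Cfsg.IsBrauerPairOf p M B (Subgroup.zpowers u) e) : ∑ᶠ χ ∈ B, ∑ᶠ s : Subgroup.centralizer (Subgroup.zpowers u : Set G), Cfsg.pRegularPart p (Cfsg.blockPart e (fun c : Subgroup.centralizer (Subgroup.zpowers u : Set G) => (χ : G → ℂ) (u * c))) s * Cfsg.blockPart e (fun c : Subgroup.centralizer (Subgroup.zpowers u : Set G) => (χ : G → ℂ) (u⁻¹ * c)) s⁻¹ = (Nat.card (Subgroup.centralizer (Subgroup.zpowers u : Set G)) : ℂ) * (Cfsg.blockRank p e : ℂ) := by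
  classical
  set C := Subgroup.centralizer (Subgroup.zpowers u : Set G) with hC
  have huC : ∀ h : C, Commute u (h : G) := fun h =>
    Subgroup.mem_centralizer_iff.1 h.2 u (Subgroup.mem_zpowers u)
  have hCH : Subgroup.centralizer ({u} : Set G) ≤ C := fun x hx => by
    refine Subgroup.mem_centralizer_iff.2 ?_
    rintro _ ⟨n, rfl⟩
    exact (Commute.zpow_left (Subgroup.mem_centralizer_iff.1 hx u rfl) n).eq
  have hPC : Subgroup.zpowers u ≤ C := Subgroup.zpowers_le.2 (hCH
    (Subgroup.mem_centralizer_iff.2 fun z hz => by rw [Set.mem_singleton_iff] at hz; rw [hz]))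
  have hind := Cfsg.Lib.Block.isInducedBlock_of_isBrauerPairOf hM hPC hBe
  rw [← Cfsg.Lib.Block.sum_reg_regKer hM (Cfsg.Lib.Block.vInt_indVec hM hind.1),
    finsum_mem_eq_toFinset_sum, finsum_eq_sum_of_fintype]
  simp only [finsum_eq_sum_of_fintype]
  rw [Finset.sum_comm]
  refine Finset.sum_congr rfl fun s _ => ?_
  by_cases hs : Cfsg.IsPRegular p s
  · rw [Cfsg.Lib.Block.pRegularPart_of_reg hs,
      ← Cfsg.Lib.Block.sum_blockPart_mul_conj_block hM hu huC hCH hind hs hs]
    refine Finset.sum_congr rfl fun χ _ => ?_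
    rw [Cfsg.Lib.Block.pRegularPart_of_reg hs]
    congr 1
    simp only [Cfsg.Lib.Block.blockPart_eq_regKer_sum, map_mul, map_inv₀, map_natCast, map_sum]
    congr 1
    refine Fintype.sum_equiv (Equiv.inv C) _ _ fun g => ?_
    simp only [Equiv.inv_apply, Cfsg.Lib.Block.secFn, InvMemClass.coe_inv]
    rw [show u * (g : G)⁻¹ = (u⁻¹ * (g : G))⁻¹ by
      rw [mul_inv_rev, inv_inv]; exact ((huC g).inv_right).eq,
      (χ : Cfsg.IrrCharacter G).2.isCharacter.apply_inv, Complex.conj_conj]
    congr 1
    simp only [Cfsg.Lib.Block.regKer, map_sum, map_mul, Complex.conj_conj]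
    refine Finset.sum_congr rfl fun η _ => ?_
    rw [η.2.isCharacter.apply_inv s, η.2.isCharacter.apply_inv g]
  · rw [Cfsg.Lib.Block.pRegularPart_of_sing hs]
    refine Finset.sum_eq_zero fun χ _ => ?_
    rw [Cfsg.Lib.Block.pRegularPart_of_sing hs, zero_mul]

end Cfsg.Agent.S4683
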