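import Cfsg.Statements.S4684
import Cfsg.Agent.Lib.Block.StarCount

set_option autoImplicit false
open Cfsg

namespace Cfsg.Agent.S4684

/-- Fix a prime p and a maximal ideal M of the algebraic integers containing p, a p-block B of the finite group G with maximal Brauer pair (P, e) and fusion system F on P. Then the number of irreducible characters of height zero in B is divisible by the index in P of the focal subgroup of F. -/
theorem result {G : Type*} [Group G] [Fintype G] (p : ℕ) [Fact p.Prime] (M : Ideal Cfsg.AlgInt) (hM : Cfsg.IsPModular p M) (B : Set (Cfsg.IrrCharacter G)) (P : Subgroup G) (e : Set (Cfsg.IrrCharacter (Subgroup.centralizer (P : Set G)))) (hmax : Cfsg.IsMaximalBrauerPair p M B P e) (F : Cfsg.FusionSystem P) (hF : Cfsg.IsBlockFusionSystemOn p M B P e F) : (F.focalSubgroup.subgroupOf P).index ∣ Nat.card {χ : Cfsg.IrrCharacter G // χ ∈ B ∧ Cfsg.blockHeight p B (χ : G → ℂ) = 0} := by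
  classical
  have hNle : commutator P ≤ F.focalSubgroup.subgroupOf P :=
    Cfsg.Lib.Block.commutator_le_focal hF
  haveI : (F.focalSubgroup.subgroupOf P).Normal := Subgroup.Normal.of_commutator_le _ hNle
  letI : CommGroup (P ⧸ F.focalSubgroup.subgroupOf P) :=
    { (inferInstance : Group (P ⧸ F.focalSubgroup.subgroupOf P)) with
      mul_comm := fun a b => ((Subgroup.Normal.quotient_commutative_iff_commutator_le).2 hNle).is_comm.comm a b }
  have hcard : (⊥ : Subgroup ((P ⧸ F.focalSubgroup.subgroupOf P) →* ℂˣ)).index =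
      (F.focalSubgroup.subgroupOf P).index := by
    rw [Subgroup.index_bot, Cfsg.Lib.Char.card_monoidHom_units, Subgroup.index]
  rw [← hcard]
  refine Cfsg.Lib.Block.index_dvd_card_height hM hF le_rfl 0 fun φ χ hχ hh hfix => ?_
  rw [Subgroup.mem_bot]
  refine MonoidHom.ext fun a => ?_
  obtain ⟨x, rfl⟩ := QuotientGroup.mk_surjective a
  have h1 := Cfsg.Lib.Block.fixed_height_zero hM hF.1
    (Cfsg.Lib.Block.isFocChar_lamOf hM hF le_rfl φ) hχ hfix hh x x.2
  rw [Cfsg.Lib.Block.lamOf_mem _ x.2] at h1
  exact Units.ext h1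

end Cfsg.Agent.S4684
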