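import Cfsg.Statements.S4685
import Cfsg.Agent.Lib.Block.StarCount

set_option autoImplicit false
open Cfsg

namespace Cfsg.Agent.S4685

/-- Fix a prime p and a maximal ideal M of the algebraic integers containing p, a p-block B of the finite group G with maximal Brauer pair (P, e) and fusion system F on P. Then for every h the number of irreducible characters of height h in B is divisible by the index of Z(P) ∩ foc(F) in Z(P), where foc(F) is the focal subgroup of F. -/
theorem result {G : Type*} [Group G] [Fintype G] (p : ℕ) [Fact p.Prime] (M : Ideal Cfsg.AlgInt) (hM : Cfsg.IsPModular p M) (B : Set (Cfsg.IrrCharacter G)) (P : Subgroup G) (e : Set (Cfsg.IrrCharacter (Subgroup.centralizer (P : Set G)))) (hmax : Cfsg.IsMaximalBrauerPair p M B P e) (F : Cfsg.FusionSystem P) (hF : Cfsg.IsBlockFusionSystemOn p M B P e F) (h : ℕ) : ((P ⊓ Subgroup.centralizer (P : Set G) ⊓ F.focalSubgroup).subgroupOf (P ⊓ Subgroup.centralizer (P : Set G))).index ∣ Nat.card {χ : Cfsg.IrrCharacter G // χ ∈ B ∧ Cfsg.blockHeight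 p B (χ : G → ℂ) = h} := by
  classical
  have hNle : commutator P ≤ F.focalSubgroup.subgroupOf P :=
    Cfsg.Lib.Block.commutator_le_focal hF
  haveI : (F.focalSubgroup.subgroupOf P).Normal := Subgroup.Normal.of_commutator_le _ hNle
  letI : CommGroup (P ⧸ F.focalSubgroup.subgroupOf P) :=
    { (inferInstance : Group (P ⧸ F.focalSubgroup.subgroupOf P)) with
      mul_comm := fun a b => ((Subgroup.Normal.quotient_commutative_iff_commutator_le).2 hNle).is_comm.comm a b }
  set Z : Subgroup G := P ⊓ Subgroup.centralizer (P : Set G) with hZ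
  have hZP : Z ≤ P := inf_le_left
  let Z' : Subgroup (P ⧸ F.focalSubgroup.subgroupOf P) :=
    (Z.subgroupOf P).map (QuotientGroup.mk' _)
  let K : Subgroup ((P ⧸ F.focalSubgroup.subgroupOf P) →* ℂˣ) :=
    { carrier := {φ | Z' ≤ φ.ker}
      one_mem' := fun z _ => by simp [MonoidHom.mem_ker]
      mul_mem' := fun {φ ψ} hφ hψ z hz => by
        have h1 : φ z = 1 := hφ hz
        have h2 : ψ z = 1 := hψ hz
        simp [MonoidHom.mem_ker, h1, h2]
      inv_mem' := fun {φ} hφ z hz => by
        have h1 : φ z = 1 := hφ hz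
        simp [MonoidHom.mem_ker, h1] }
  have hindex : ((P ⊓ Subgroup.centralizer (P : Set G) ⊓ F.focalSubgroup).subgroupOf
      (P ⊓ Subgroup.centralizer (P : Set G))).index = K.index := by
    rw [Cfsg.Lib.Block.index_annihilator Z' (fun φ => Iff.rfl), ← Subgroup.relIndex_ker,
      QuotientGroup.ker_mk', Subgroup.relIndex_subgroupOf hZP]
    exact Subgroup.inf_relIndex_left Z F.focalSubgroup
  rw [hindex]
  refine Cfsg.Lib.Block.index_dvd_card_height hM hF le_rfl h fun φ χ hχ _ hfix => ?_
  rintro _ ⟨z, hz, rfl⟩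
  have hz' : (z : G) ∈ Z := Subgroup.mem_subgroupOf.1 hz
  have h1 := Cfsg.Lib.Block.fixed_center hM hF.1
    (Cfsg.Lib.Block.isFocChar_lamOf hM hF le_rfl φ) hχ hfix z.2
    (fun d hd => Subgroup.mem_centralizer_iff.1 hz'.2 d hd)
  rw [Cfsg.Lib.Block.lamOf_mem _ z.2] at h1
  exact Units.ext h1

end Cfsg.Agent.S4685
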