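import Cfsg.Statements.S4693
import Cfsg.Agent.Lib.Block.FullyNormal
import Cfsg.Agent.Lib.Block.PairApps

set_option autoImplicit false
open Cfsg

namespace Cfsg.Agent.S4693

noncomputable local instance (priority := high) fintypeSubgroupS4693 {A : Type*} [Group A]
    [Finite A] (H : Subgroup A) : Fintype H := Fintype.ofFinite H

/-- Fix a prime p and a maximal ideal M of the algebraic integers containing p, a p-block B of the finite group G with maximal Brauer pair (P, e) and fusion system F on P, and a Brauer pair (Q, f) ≤ (P, e) with Q centric in F. Suppose every element of G normalizes Q and stabilizes f. Then the idempotent of B agrees with that of f modulo M at every element of G, and f is the idempotent of a nilpotent block of Q·C_G(Q): some p-block of Q·C_G(Q) has the idempotent coefficients of f and is nilpotent. -/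
theorem result {G : Type*} [Group G] [Fintype G] (p : ℕ) [Fact p.Prime] (M : Ideal Cfsg.AlgInt) (hM : Cfsg.IsPModular p M) (B : Set (Cfsg.IrrCharacter G)) (P : Subgroup G) (e : Set (Cfsg.IrrCharacter (Subgroup.centralizer (P : Set G)))) (hmax : Cfsg.IsMaximalBrauerPair p M B P e) (F : Cfsg.FusionSystem P) (hF : Cfsg.IsBlockFusionSystemOn p M B P e F) (Q : Subgroup G) (f : Set (Cfsg.IrrCharacter (Subgroup.centralizer (Q : Set G)))) (hQP : Q ≤ P) (hf : Cfsg.IsPBlock M f) (hle : Cfsg.SubpairLE p M Q f P e) (hcen : F.IsCentric Q) (hG : ∀ x : G, x ∈ Subgroup.normalizer (Q : Set G) ∧ Cfsg.StabilizesBlock (Subgroup.centralizer (Q : Set G)) f x) : (∀ g : G, Cfsg.MemLocalIdeal M (Cfsg.blockCoeff B g - Cfsg.subgroupBlockCoeff (Subgroup.centralizer (Q : Set G)) f g)) ∧ ∃ F' : Set (Cfsg.IrrCharacter ↥(Q ⊔ Subgroup.centralizer (Q : Set G))), Cfsg.IsPBlock M F' ∧ (∀ t : ↥(Q ⊔ Subgroup.centralizer (Q : Set G)), Cfsg.blockCoeff F' t = Cfsg.subgroupBlockCoeff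 (Subgroup.centralizer (Q : Set G)) f (t : G)) ∧ Cfsg.IsNilpotentBlock p M F' := by
  classical
  have hQn : Q.Normal := Subgroup.normalizer_eq_top_iff.1 (eq_top_iff.2 fun x _ => (hG x).1)
  have hPe := hmax.1.1
  have hQp : IsPGroup p Q := hPe.1.to_le hQP
  have hQB := (Cfsg.Lib.Block.isBrauerPairOf_iff_of_le hM hle B).1 hmax.1
  have horb : Cfsg.Lib.Block.orbitU Q f = f := by
    refine Set.Subset.antisymm ?_ (Cfsg.Lib.Block.subset_orbitU Q f)
    rintro η ⟨x, h, hη⟩
    have := (Cfsg.Lib.Block.stabilizesBlock_iff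
      (Cfsg.Lib.Block.mem_normalizer_centralizer (hG x).1)).1 (hG x).2
    rwa [← this]
  refine ⟨fun g => ?_, ?_⟩
  · rw [Cfsg.Lib.Block.blockCoeff_eq_orbitU hM hQB g, horb, Cfsg.Lib.Block.extF_indVec, sub_self]
    exact Cfsg.Lib.Block.memLocalIdeal_zero hM
  set L : Subgroup G := Q ⊔ Subgroup.centralizer (Q : Set G) with hL
  have hQL : Q ≤ L := le_sup_left
  have hCL : Subgroup.centralizer (Q : Set G) ≤ L := le_sup_right
  have hLN : L ≤ Subgroup.normalizer (Q : Set G) :=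
    Cfsg.Lib.Block.sup_centralizer_le_normalizer Q
  have hinv := Cfsg.Lib.Block.invOn_sup_centralizer Q (Cfsg.Lib.Block.indVec f)
  obtain ⟨F', hF', hco, hco'⟩ :=
    Cfsg.Lib.Block.exists_stabilizer_block hM hQp hQL hCL hLN hf hinv
  refine ⟨F', hF', hco, hF', fun R h hR x hxN _ hxreg => ?_⟩
  have hloc : Cfsg.Lib.Block.IsLocalBlock p M Q L f F' := ⟨hF', hLN, hCL, hco', hinv⟩
  have hPL : P ⊓ L = Q := by
    refine le_antisymm (fun y hy => ?_) (le_inf hQP hQL)
    obtain ⟨hyP, hyL⟩ := Subgroup.mem_inf.1 hy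
    obtain ⟨q, hq, c, hc, rfl⟩ := Subgroup.mem_sup_of_normal_left.1 hyL
    have hcP : c ∈ P := by simpa using mul_mem (inv_mem (hQP hq)) hyP
    have hself : F.IsConj Q Q := (Cfsg.Lib.Block.blockFusion_isConj_iff hM hF hle Q).2
      ⟨1, Cfsg.Lib.Block.map_conj_one Q, by
        have h1 : Cfsg.Lib.Block.conjIdx 1 ⟨Q, f⟩ = ⟨Q, f⟩ := Cfsg.Lib.Block.conjIdx_one _
        show Relation.ReflTransGen _ (Cfsg.Lib.Block.conjIdx 1 ⟨Q, f⟩) _
        rw [h1]
        exact hle⟩
    exact mul_mem hq ((hcen.2 Q hself) (Subgroup.mem_inf.2 ⟨hcP, hc⟩))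
  obtain ⟨D, hD, hQD⟩ := Cfsg.Lib.Block.le_defectGroup_of_subpair hM hloc hPe hle
  rw [hPL] at hQD
  obtain ⟨y, -, hy⟩ := Cfsg.Lib.Block.exists_conj_local_defect hM hloc hmax hle
  haveI : L.Normal := hL ▸ Subgroup.sup_normal Q (Subgroup.centralizer (Q : Set G))
  have hyL : Cfsg.Lib.Block.ConjMaps y L L := Cfsg.Lib.Block.conjMaps_normalizer
    (Subgroup.le_normalizer_of_normal (Subgroup.mem_top y))
  obtain ⟨hblk, -, hdef⟩ := hy L hyL
  have hDQ : D = Q.subgroupOf L := by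
    refine (Subgroup.eq_of_le_of_card_ge hQD (le_of_eq ?_)).symm
    have hd : Cfsg.blockDefect p (Cfsg.Lib.Block.conjSet hyL F') = Cfsg.blockDefect p F' :=
      Cfsg.Lib.Block.blockDefect_pullSet p _ F'
    rw [Cfsg.Lib.Block.card_defectGroup hM hF' hD, ← hd,
      ← Cfsg.Lib.Block.card_defectGroup hM hblk hdef, hPL]
  subst hDQ
  obtain ⟨z, hz⟩ := (Cfsg.Lib.Block.exists_pair_iff hM hF' hD hR.1.1).1 ⟨h, hR⟩
  have hxC : (x : G) ∈ Subgroup.centralizer (Q : Set G) := by
    obtain ⟨q, hq, c, hc, hqc⟩ := Subgroup.mem_sup_of_normal_left.1 x.2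
    obtain ⟨k, hk⟩ := IsPGroup.iff_orderOf.1 hQp ⟨q, hq⟩
    rw [Subgroup.orderOf_mk] at hk
    let qm := QuotientGroup.mk' (Subgroup.centralizer (Q : Set G))
    have h1 : qm (x : G) = qm q := by
      rw [← hqc, map_mul, show qm c = 1 from (QuotientGroup.eq_one_iff c).2 hc, mul_one]
    have h2 : orderOf (qm (x : G)) ∣ p ^ k := h1 ▸ hk ▸ orderOf_map_dvd qm q
    have h3 : orderOf (qm (x : G)) ∣ orderOf x := by
      rw [← Subgroup.orderOf_coe x]
      exact orderOf_map_dvd qm _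
    have hcop : Nat.Coprime (p ^ k) (orderOf x) :=
      Nat.Coprime.pow_left k ((Fact.out : p.Prime).coprime_iff_not_dvd.2 hxreg)
    exact (QuotientGroup.eq_one_iff _).1
      (orderOf_eq_one_iff.1 (Nat.eq_one_of_dvd_coprimes hcop h2 h3))
  refine Subgroup.mem_centralizer_iff.2 fun r hr => ?_
  have hzr : z * r * z⁻¹ ∈ Q.subgroupOf L := hz ⟨r, hr, rfl⟩
  have hrQ : (r : G) ∈ Q := by
    have := hQn.conj_mem _ (Subgroup.mem_subgroupOf.1 hzr) ((z : G)⁻¹)
    simpa [mul_assoc] using this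
  exact Subtype.ext (Subgroup.mem_centralizer_iff.1 hxC _ hrQ)

end Cfsg.Agent.S4693
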