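import Cfsg.Statements.S4694
import Cfsg.Agent.Lib.Block.WeightPairs

set_option autoImplicit false
open Cfsg

namespace Cfsg.Agent.S4694

/-- Fix a prime p and a maximal ideal M of the algebraic integers containing p, a p-block B of the finite group G and a Brauer pair (Q, e) of B. Let T be the stabilizer of e in N_G(Q) and suppose that (Q, e) carries a weight: the block of T whose idempotent is that of e contains an irreducible character χ that is constant on the cosets of Q and whose degree has p-part equal to the p-part of the index of Q in T. Then Z(Q) is a defect group of e as a block of C_G(Q), and Q is the largest normal p-subgroup of T: every p-subgroup of T normalized by T lies in Q. -/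
theorem result {G : Type*} [Group G] [Fintype G] (p : ℕ) [Fact p.Prime] (M : Ideal Cfsg.AlgInt) (hM : Cfsg.IsPModular p M) (B : Set (Cfsg.IrrCharacter G)) (Q : Subgroup G) (e : Set (Cfsg.IrrCharacter (Subgroup.centralizer (Q : Set G)))) (hQe : Cfsg.IsBrauerPairOf p M B Q e) (T : Subgroup G) (hT : ∀ y : G, y ∈ T ↔ y ∈ Subgroup.normalizer (Q : Set G) ∧ Cfsg.StabilizesBlock (Subgroup.centralizer (Q : Set G)) e y) (F' : Set (Cfsg.IrrCharacter T)) (hF' : Cfsg.IsPBlock M F') (hF'e : ∀ t : T, Cfsg.blockCoeff F' t = Cfsg.subgroupBlockCoeff (Subgroup.centralizer (Q : Set G)) e (t : G)) (χ : Cfsg.IrrCharacter T) (hχ : χ ∈ F') (hχQ : ∀ q : G, q ∈ Q → ∀ t : T, ∀ t' : T, (t' : G) = q * (t : G) → (χ : T → ℂ) t' = (χ : T → ℂ) t) (hdeg : (Cfsg.charDegree (χ : T → ℂ)).factorization p + (Nat.card Q).factorization p = (Nat.card T).factorization p) : Cfsg.IsDefectGroup p M e ((Q ⊓ Subgroup.centralizer (Q : Set G)).subgroupOf (Subgroup.centralizer (Q : Set G))) ∧ ∀ R : Subgroup G, R ≤ T → IsPGroup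 p R → (∀ t ∈ T, t ∈ Subgroup.normalizer (R : Set G)) → R ≤ Q := by
  obtain ⟨hQT, F, hloc, -⟩ := Cfsg.Lib.Block.exists_isLocalBlock hM hQe.1.1 hQe.1.2 hT
  have hχQ' : ∀ t : T, (t : G) ∈ Q → (χ : T → ℂ) t = (χ : T → ℂ) 1 := fun t ht =>
    hχQ (t : G) ht 1 t (by simp)
  have hTN : T ≤ Subgroup.normalizer (Q : Set G) := fun y hy => ((hT y).1 hy).1
  refine ⟨Cfsg.Lib.Block.defect_of_weight hM hQe.1 hQT hloc.cen hTN hF'e hχ hχQ' hdeg,
    fun R hRT hRp hRn => ?_⟩
  haveI : (Q.subgroupOf T).Normal := Subgroup.normal_subgroupOf_of_le_normalizer hTN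
  haveI : (R.subgroupOf T).Normal := Subgroup.normal_subgroupOf_of_le_normalizer hRn
  obtain ⟨φ, hφ, hφχ⟩ := Cfsg.Lib.Char.exists_deflate_irr (Q.subgroupOf T) χ.2
    fun n hn => hχQ' n (Subgroup.mem_subgroupOf.1 hn)
  haveI := Fintype.ofFinite T
  have hle : R.subgroupOf T ≤ Q.subgroupOf T := by
    refine Cfsg.Lib.Block.le_of_full hM (φ := ⟨φ, hφ⟩) hRp.comap_subtype ?_
    have hcT := congrArg (fun n => n.factorization p)
      (Subgroup.card_eq_card_quotient_mul_card_subgroup (Q.subgroupOf T))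
    simp only [Nat.card_congr (Subgroup.subgroupOfEquivOfLe hQT).toEquiv,
      Nat.factorization_mul Nat.card_pos.ne' Nat.card_pos.ne', Finsupp.add_apply] at hcT
    have hdχ : Cfsg.charDegree (χ : T → ℂ) = Cfsg.charDegree φ := by
      simp only [Cfsg.charDegree, ← hφχ]; rfl
    rw [hdχ] at hdeg
    show _ ≤ (Cfsg.charDegree φ).factorization p
    omega
  exact fun r hr => Subgroup.mem_subgroupOf.1 (hle (Subgroup.mem_subgroupOf.2
    (show ((⟨r, hRT hr⟩ : T) : G) ∈ R from hr)))

end Cfsg.Agent.S4694
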