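import Cfsg.Statements.S4697
import Cfsg.Agent.Lib.Block.CyclicQuotientBound

set_option autoImplicit false
open Cfsg

namespace Cfsg.Agent.S4697

theorem card_le_three {G : Type*} [Group G] [Finite G] {D : Subgroup G} {a b c : G} (ha : a ∈ D)
    (hb : b ∈ D) (hc : c ∈ D) (hab : ∀ x ∈ D, ∀ y ∈ D, x * y = y * x)
    (hgen : D ≤ Subgroup.zpowers a ⊔ (Subgroup.zpowers b ⊔ Subgroup.zpowers c)) :
    Nat.card D ≤ orderOf a * orderOf b * orderOf c := by
  classical
  let f : Subgroup.zpowers a × Subgroup.zpowers b × Subgroup.zpowers c →* G :=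
    { toFun := fun t => (t.1 : G) * ((t.2.1 : G) * (t.2.2 : G))
      map_one' := by simp
      map_mul' := fun s t => by
        have h1 : (s.1 : G) ∈ D := Subgroup.zpowers_le.2 ha s.1.2
        have h2 : (s.2.1 : G) ∈ D := Subgroup.zpowers_le.2 hb s.2.1.2
        have h3 : (s.2.2 : G) ∈ D := Subgroup.zpowers_le.2 hc s.2.2.2
        have h4 : (t.1 : G) ∈ D := Subgroup.zpowers_le.2 ha t.1.2
        have h5 : (t.2.1 : G) ∈ D := Subgroup.zpowers_le.2 hb t.2.1.2
        simp only [Prod.fst_mul, Prod.snd_mul, Subgroup.coe_mul]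
        have e1 : ((s.2.1 : G) * s.2.2) * t.1 = t.1 * ((s.2.1 : G) * s.2.2) :=
          hab _ (mul_mem h2 h3) _ h4
        calc (s.1 : G) * t.1 * ((s.2.1 : G) * t.2.1 * ((s.2.2 : G) * t.2.2))
            = (s.1 : G) * t.1 * ((s.2.1 : G) * ((t.2.1 : G) * s.2.2) * t.2.2) := by group
          _ = (s.1 : G) * t.1 * ((s.2.1 : G) * ((s.2.2 : G) * t.2.1) * t.2.2) := by
            rw [hab _ h5 _ h3]
          _ = (s.1 : G) * ((t.1 : G) * ((s.2.1 : G) * s.2.2)) * ((t.2.1 : G) * t.2.2) := by group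
          _ = (s.1 : G) * (((s.2.1 : G) * s.2.2) * t.1) * ((t.2.1 : G) * t.2.2) := by rw [e1]
          _ = _ := by group }
  have hle : D ≤ f.range := hgen.trans (sup_le (fun x hx => ⟨(⟨x, hx⟩, 1, 1), by simp [f]⟩)
    (sup_le (fun x hx => ⟨(1, ⟨x, hx⟩, 1), by simp [f]⟩) fun x hx => ⟨(1, 1, ⟨x, hx⟩), by simp [f]⟩))
  refine (Subgroup.card_le_of_le hle).trans ?_
  refine (Nat.le_of_dvd Nat.card_pos (Subgroup.card_range_dvd f)).trans ?_
  rw [Nat.card_prod, Nat.card_prod, Nat.card_zpowers, Nat.card_zpowers, Nat.card_zpowers, mul_assoc]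

/-- Let p be a prime, M a maximal ideal of the algebraic integers containing p, and B a p-block of the finite group G with an abelian defect group D of order p^d. If D has rank 2 (its least number of generators is 2) then B contains at most p^d irreducible characters; if D has rank 3 then the number k of irreducible characters in B satisfies k^3 ≤ p^(5d). -/
theorem result {G : Type*} [Group G] [Finite G] (p : ℕ) [Fact p.Prime] (M : Ideal Cfsg.AlgInt) (hM : Cfsg.IsPModular p M) (B : Set (Cfsg.IrrCharacter G)) (hB : Cfsg.IsPBlock M B) (D : Subgroup G) (hBD : Cfsg.IsDefectGroup p M B D) (hab : IsMulCommutative D) (d : ℕ) (hDd : Nat.card D = p ^ d) : (Group.rank D = 2 → Nat.card B ≤ p ^ d) ∧ (Group.rank D = 3 → Nat.card B ^ 3 ≤ p ^ (5 * d)) := by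
  classical
  haveI := Fintype.ofFinite G
  have hab' : ∀ x ∈ D, ∀ y ∈ D, x * y = y * x := fun x hx y hy =>
    congrArg Subtype.val (hab.is_comm.comm ⟨x, hx⟩ ⟨y, hy⟩)
  obtain ⟨S, hS, hcl⟩ := Group.rank_spec D
  constructor
  · intro h2
    obtain ⟨a, b, -, rfl⟩ := Finset.card_eq_two.1 (hS.trans h2)
    rw [← hDd]
    refine Cfsg.Lib.Block.card_le_of_two_gen hM hB hBD hab' a.2 b.2 fun x hx => ?_
    have h := (Subgroup.mem_map_of_mem D.subtype) (hcl.ge (Subgroup.mem_top (⟨x, hx⟩ : D)))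
    rw [Finset.coe_pair, ← Set.singleton_union, Subgroup.closure_union,
      ← Subgroup.zpowers_eq_closure, ← Subgroup.zpowers_eq_closure, Subgroup.map_sup,
      MonoidHom.map_zpowers, MonoidHom.map_zpowers] at h
    exact h
  · intro h3
    obtain ⟨a, b, c, -, -, -, rfl⟩ := Finset.card_eq_three.1 (hS.trans h3)
    have hgen : D ≤ Subgroup.zpowers (a : G) ⊔ (Subgroup.zpowers (b : G) ⊔ Subgroup.zpowers (c : G)) := by
      intro x hx
      have h := (Subgroup.mem_map_of_mem D.subtype) (hcl.ge (Subgroup.mem_top (⟨x, hx⟩ : D)))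
      rw [Finset.coe_insert, Finset.coe_pair, ← Set.singleton_union, Subgroup.closure_union,
        ← Set.singleton_union, Subgroup.closure_union,
        ← Subgroup.zpowers_eq_closure, ← Subgroup.zpowers_eq_closure, ← Subgroup.zpowers_eq_closure,
        Subgroup.map_sup, Subgroup.map_sup,
        MonoidHom.map_zpowers, MonoidHom.map_zpowers, MonoidHom.map_zpowers] at h
      exact h
    have hcard : Nat.card D ≤ orderOf (a : G) * orderOf (b : G) * orderOf (c : G) :=
      card_le_three a.2 b.2 c.2 hab' hgen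
    have key : ∀ u v w : G, u ∈ D → v ∈ D → w ∈ D →
        D ≤ Subgroup.zpowers u ⊔ (Subgroup.zpowers v ⊔ Subgroup.zpowers w) →
        Nat.card D ≤ orderOf u ^ 3 → Nat.card B ^ 3 ≤ p ^ (5 * d) := by
      intro u v w hu hv hw hg hle
      have h := Cfsg.Lib.Block.card_mul_order_le_of_three_gen hM hB hBD hab' hu hv hw hg
      rw [hDd] at h hle
      refine Nat.le_of_mul_le_mul_right ?_ (pow_pos (Fact.out : p.Prime).pos d)
      calc Nat.card B ^ 3 * p ^ d ≤ Nat.card B ^ 3 * orderOf u ^ 3 := Nat.mul_le_mul_left _ hle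
        _ = (Nat.card B * orderOf u) ^ 3 := (mul_pow _ _ _).symm
        _ ≤ (p ^ d * p ^ d) ^ 3 := Nat.pow_le_pow_left h 3
        _ = p ^ (5 * d) * p ^ d := by rw [← pow_add, ← pow_mul, ← pow_add]; congr 1; omega
    by_cases h1 : orderOf (b : G) ≤ orderOf (a : G) ∧ orderOf (c : G) ≤ orderOf (a : G)
    · refine key a b c a.2 b.2 c.2 hgen (hcard.trans ?_)
      rw [pow_three, ← mul_assoc]
      exact Nat.mul_le_mul (Nat.mul_le_mul le_rfl h1.1) h1.2
    · by_cases h2 : orderOf (a : G) ≤ orderOf (b : G) ∧ orderOf (c : G) ≤ orderOf (b : G)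
      · refine key b a c b.2 a.2 c.2 (hgen.trans (by rw [sup_left_comm])) (hcard.trans ?_)
        rw [pow_three, ← mul_assoc]
        exact Nat.mul_le_mul (Nat.mul_le_mul h2.1 le_rfl) h2.2
      · refine key c a b c.2 a.2 b.2 (hgen.trans (by rw [← sup_assoc, sup_comm])) (hcard.trans ?_)
        rw [pow_three, ← mul_assoc]
        exact Nat.mul_le_mul (Nat.mul_le_mul (by omega) (by omega)) le_rfl

end Cfsg.Agent.S4697
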