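import Cfsg.Statements.S4701
import Cfsg.Agent.Lib.Small.SylowCount
import Cfsg.Agent.Lib.Linear.PSLSmall

set_option autoImplicit false
open Cfsg

namespace Cfsg.Agent.S4701

/-- Let G be a finite perfect group and p a prime dividing the order of G with p^3 larger than the order of G. Suppose a Sylow p-subgroup of G is not normal and G has no normal subgroup of order 2. Then p > 3 and G is isomorphic to PSL(2, p), or to SL(2, 2^m) with p = 2^m + 1. -/
theorem result {G : Type*} [Group G] [Finite G] (hperf : commutator G = ⊤) (p : ℕ) [Fact p.Prime] (hdvd : p ∣ Nat.card G) (hbig : Nat.card G < p ^ 3) (P : Sylow p G) (hP : ¬ (P : Subgroup G).Normal) (h2 : ∀ N : Subgroup G, N.Normal → Nat.card N ≠ 2) : (∃ (F : Type) (_ : Field F) (_ : Fintype F), Fintype.card F = p ∧ 3 < p ∧ Nonempty (G ≃* Matrix.ProjectiveSpecialLinearGroup (Fin 2) F)) ∨ (∃ (m : ℕ) (F : Type) (_ : Field F) (_ : Fintype F), Fintype.card F = 2 ^ m ∧ p = 2 ^ m + 1 ∧ 3 < p ∧ Nonempty (G ≃* Matrix.SpecialLinearGroup (Fin 2) F)) := by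
  have hpp : p.Prime := Fact.out
  have hp1 := hpp.one_lt
  have hG : Nat.card G = Nat.card (P : Subgroup G) * (P : Subgroup G).index :=
    (Subgroup.card_mul_index _).symm
  have hN2 : p < Nat.card (Sylow p G) := by
    by_contra hle
    have hmod : Nat.card (Sylow p G) % p = 1 := by
      have h := card_sylow_modEq_one p G
      rwa [Nat.ModEq, Nat.one_mod_eq_one.2 hpp.ne_one] at h
    have h1 : Nat.card (Sylow p G) = 1 := by
      rcases Nat.lt_or_ge (Nat.card (Sylow p G)) p with h | h
      · rwa [Nat.mod_eq_of_lt h] at hmod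
      · rw [show Nat.card (Sylow p G) = p by omega, Nat.mod_self] at hmod; omega
    haveI : Subsingleton (Sylow p G) := (Nat.card_eq_one_iff_unique.1 h1).1
    exact hP (Sylow.normal_of_subsingleton P)
  have hNle : Nat.card (P : Subgroup G) * Nat.card (Sylow p G) ∣ Nat.card G := by
    rw [hG]
    exact Nat.mul_dvd_mul_left _ (P.card_eq_index_normalizer ▸
      Subgroup.index_dvd_of_le Subgroup.le_normalizer)
  have hPp : Nat.card (P : Subgroup G) = p := by
    obtain ⟨k, hk⟩ := IsPGroup.iff_card.1 P.isPGroup'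
    have hk0 : k ≠ 0 := fun h => by
      have h1 := P.dvd_card_of_dvd_card hdvd
      rw [hk, h, pow_zero] at h1
      exact hpp.not_dvd_one h1
    rw [hk]
    by_contra hne
    have hk2 : 2 ≤ k := by
      rcases (show k = 1 ∨ 2 ≤ k by omega) with h | h
      · exact absurd (by rw [h, pow_one]) hne
      · exact h
    have h1 : p ^ 2 * (p + 1) ≤ Nat.card G :=
      (Nat.mul_le_mul (Nat.pow_le_pow_right hpp.pos hk2) hN2).trans
        (Nat.le_of_dvd Nat.card_pos (hk ▸ hNle))
    nlinarith
  haveI := Fintype.ofFinite G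
  have he := Cfsg.Lib.Small.two_le_relIndex hperf P hPp
  have hsmall : 2 * p * Nat.card (Sylow p G) ≤ Nat.card G := by
    rw [← (Subgroup.normalizer ((P : Subgroup G) : Set G)).card_mul_index,
      P.card_eq_index_normalizer, ← Subgroup.relIndex_bot_left (Subgroup.normalizer _),
      ← Subgroup.relIndex_mul_relIndex ⊥ _ _ bot_le (Subgroup.centralizer_le_normalizer _),
      Subgroup.relIndex_bot_left]
    have hpC : p ≤ Nat.card (Subgroup.centralizer ((P : Subgroup G) : Set G)) := by
      have h := Nat.le_of_dvd Nat.card_pos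
        (Subgroup.card_dvd_of_le (Cfsg.Lib.Block.le_centralizer_self hPp))
      rwa [hPp] at h
    rw [mul_comm 2 p]
    exact Nat.mul_le_mul_right _ (Nat.mul_le_mul hpC he)
  rcases Cfsg.Lib.Small.sylow_count_cases hperf P hPp with
    ⟨F, iF, iFt, hF, h3, ⟨e⟩⟩ | ⟨m, F, iF, iFt, hF, hpm, h3, ⟨e⟩⟩ | ⟨h, u, hh, hu, hpar⟩
  rotate_left 2
  · -- the parameters make the group too large
    exfalso
    have h1 : (u * p + 1) * (p + u + 1) ≤ (u + 1) * Nat.card (Sylow p G) := by
      rw [hpar]
      exact Nat.mul_le_mul_left _ (by nlinarith)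
    have h4 : (u + 1) * p ^ 2 ≤ 2 * ((u + 1) * Nat.card (Sylow p G)) := by
      nlinarith [Nat.mul_le_mul_right (p ^ 2) (show u + 1 ≤ 2 * u by omega)]
    have h5 : p ^ 2 ≤ 2 * Nat.card (Sylow p G) :=
      Nat.le_of_mul_le_mul_left (by linarith) (Nat.succ_pos u)
    have h6 : p ^ 3 ≤ 2 * p * Nat.card (Sylow p G) := by
      calc p ^ 3 = p * p ^ 2 := by ring
        _ ≤ p * (2 * Nat.card (Sylow p G)) := Nat.mul_le_mul_left p h5
        _ = 2 * p * Nat.card (Sylow p G) := by ring
    omega
  all_goals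
    have hGH : Nat.card G = Nat.card (G ⧸ Cfsg.pPrimeCore p G) * Nat.card (Cfsg.pPrimeCore p G) :=
      Subgroup.card_eq_card_quotient_mul_card_subgroup _
    rw [Nat.card_congr e.toEquiv] at hGH
    have hbot : Cfsg.pPrimeCore p G = ⊥ := by
      rw [← Subgroup.card_eq_one]
      have h2' := h2 _ (inferInstance : (Cfsg.pPrimeCore p G).Normal)
      have hpos : 0 < Nat.card (Cfsg.pPrimeCore p G) := Nat.card_pos
      by_contra hne
      have hge : 3 ≤ Nat.card (Cfsg.pPrimeCore p G) := by omega
      first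
        | (have hc := Cfsg.Lib.Linear.Two.card_PSL_two (F := F)
           have hg : Nat.gcd 2 (Fintype.card F - 1) ≤ 2 := Nat.gcd_le_left _ two_pos
           rw [hF] at hc hg
           have hp3 : p * (p ^ 2 - 1) + p = p ^ 3 := by
             rw [Nat.mul_sub, mul_one, Nat.sub_add_cancel (Nat.le_mul_of_pos_right p (by positivity))]
             ring
           have h7 : 3 * (p * (p ^ 2 - 1)) ≤ 2 * Nat.card G := by
             rw [hGH, ← hc]
             calc 3 * (Nat.gcd 2 (p - 1) * Nat.card (Matrix.ProjectiveSpecialLinearGroup (Fin 2) F))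
                 ≤ 3 * (2 * Nat.card (Matrix.ProjectiveSpecialLinearGroup (Fin 2) F)) :=
                   Nat.mul_le_mul_left 3 (Nat.mul_le_mul_right _ hg)
               _ = 2 * (Nat.card (Matrix.ProjectiveSpecialLinearGroup (Fin 2) F) * 3) := by ring
               _ ≤ _ := Nat.mul_le_mul_left 2 (Nat.mul_le_mul_left _ hge)
           have h9 : 4 * 4 * p ≤ p ^ 3 := by
             rw [show p ^ 3 = p * p * p by ring]
             exact Nat.mul_le_mul_right p (Nat.mul_le_mul (by omega) (by omega))
           omega)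
        | (rw [Cfsg.Lib.Linear.Two.card_SL_two, hF] at hGH
           have h7 : 2 ^ m * ((2 ^ m) ^ 2 - 1) * 3 ≤ Nat.card G := hGH ▸ Nat.mul_le_mul_left _ hge
           rw [hpm] at hbig h3
           generalize 2 ^ m = q at h7 hbig h3
           obtain ⟨j, rfl⟩ : ∃ j, q = j + 3 := ⟨q - 3, by omega⟩
           rw [show (j + 3) ^ 2 - 1 = j ^ 2 + 6 * j + 8 by ring_nf; omega] at h7
           nlinarith)
    first
      | exact Or.inl ⟨F, iF, iFt, hF, h3,
          ⟨((QuotientGroup.quotientBot (G := G)).symm.trans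
            (QuotientGroup.quotientMulEquivOfEq hbot.symm)).trans e⟩⟩
      | exact Or.inr ⟨m, F, iF, iFt, hF, hpm, h3,
          ⟨((QuotientGroup.quotientBot (G := G)).symm.trans
            (QuotientGroup.quotientMulEquivOfEq hbot.symm)).trans e⟩⟩

end Cfsg.Agent.S4701
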