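import Cfsg.Statements.S4703
import Cfsg.Agent.Lib.Feit.Main

set_option autoImplicit false
open Cfsg

namespace Cfsg.Agent.S4703

/-- Let G be a finite group whose centre Z has odd order, p > 7 a prime, and suppose a Sylow p-subgroup of G has order p and is not normal. Let ζ be a faithful irreducible character of G (only the identity lies in its kernel). Then either G/Z is isomorphic to PSL(2, p) and ζ has degree (p + 1)/2 or (p − 1)/2, or ζ has degree at least p − 2. -/
theorem result {G : Type*} [Group G] [Finite G] (hZ : Odd (Nat.card (Subgroup.center G))) (p : ℕ) [Fact p.Prime] (hp : 7 < p) (P : Sylow p G) (hP : Nat.card P = p) (hnn : ¬ (P : Subgroup G).Normal) (ζ : G → ℂ) (hζ : Cfsg.IsIrrCharacter G ζ) (hfaith : ∀ g : G, ζ g = ζ 1 → g = 1) : ((∃ (F : Type) (_ : Field F) (_ : Fintype F), Fintype.card F = p ∧ Nonempty (G ⧸ Subgroup.center G ≃* Matrix.ProjectiveSpecialLinearGroup (Fin 2) F)) ∧ (2 * Cfsg.charDegree ζ = p + 1 ∨ 2 * Cfsg.charDegree ζ = p - 1)) ∨ p - 2 ≤ Cfsg.charDegree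 ζ := by
  haveI : Fintype G := Fintype.ofFinite G
  have hpp : p.Prime := Fact.out
  haveI : NeZero p := ⟨hpp.ne_zero⟩
  by_cases hbig : p - 2 ≤ Cfsg.charDegree ζ
  · exact Or.inr hbig
  refine Or.inl ?_
  set d := Cfsg.charDegree ζ with hd
  have hdeg : ζ 1 = (d : ℂ) := Cfsg.Lib.Block.apply_one_eq_charDegree ⟨ζ, hζ⟩
  have hfac : (Nat.card G).factorization p = 1 := by
    have h := P.card_eq_multiplicity
    rw [hP] at h
    exact ((Nat.pow_eq_self_iff hpp.one_lt).1 h.symm)
  have key : Nonempty ((G ⧸ Subgroup.center G) ≃*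
      Matrix.ProjectiveSpecialLinearGroup (Fin 2) (ZMod p)) ∧
        (2 * d = p + 1 ∨ 2 * d = p - 1) := by
    rcases Cfsg.Lib.Feit.structure_small (P := (P : Subgroup G)) (by omega) hP hfac hnn hζ hfaith
      hdeg (by omega) with
      ⟨e, -, h⟩ | ⟨hS, lam, F, hSP, hde, hFd⟩
    · exact ⟨e, Or.inr (by omega)⟩
    obtain ⟨t, ht, ht1⟩ := hS.exists_t
    have hnn' : ¬ hS.P.Normal := by rw [hSP]; exact hnn
    have hp11 : 11 ≤ p := by
      by_contra h
      interval_cases p <;> first | omega | (norm_num at hpp)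
    have he : 3 ≤ Nat.card hS.E := by omega
    rcases Nat.lt_or_ge t 3 with hlt | h3
    · rcases Nat.lt_or_ge t 2 with h | h
      · exfalso
        obtain rfl : t = 1 := by omega
        have hd1 : d = 1 := by omega
        exact Cfsg.Lib.Feit.degree_ne_one hζ hfaith hnn' (by rw [hdeg, hd1, Nat.cast_one])
      · obtain ⟨e, h2⟩ := hS.psl_of_two hζ hfaith hdeg (by omega) hnn' ht hp11 (by omega) hde
        exact ⟨e, Or.inl h2⟩
    · exfalso
      have hL : Cfsg.charDegree (F.ψ 1 : G → ℂ) + Nat.card hS.E = p := by rw [hFd]; exact hde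
      rcases Nat.even_or_odd (Nat.card hS.E) with hev | hod
      · have := hS.card_E_even hζ hfaith hdeg (by omega) hnn' ht F hL hp h3 hev
        omega
      · have := hS.card_E_odd hζ hfaith hdeg (by omega) hnn' ht F hL hp h3 hod hZ
        omega
  exact ⟨⟨ZMod p, inferInstance, inferInstance, ZMod.card p, key.1⟩, key.2⟩

end Cfsg.Agent.S4703
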