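import Cfsg.Statements.S4709
import Cfsg.Agent.Lib.Block.PrincipalFreeShape
-- import your own Cfsg.Agent.* helpers here

set_option autoImplicit false
open Cfsg

namespace Cfsg.Agent.S4709

open Cfsg.Lib Cfsg.Lib.Block in
/-- Let p be a prime, M a maximal ideal of the algebraic integers containing p, and G a finite group with a nontrivial abelian Sylow p-subgroup P; put N = N_G(P), C = C_G(P). Suppose N/C is cyclic of order m with 1 < m < #P − 1 (C has index m in N and N is generated by C and one element), and C_G(y) ∩ N = C for every non-identity y ∈ P. Put r = (#P − 1)/m. Then there is s ≤ m such that the principal p-block is the disjoint union of a set X of s characters containing the principal character and a set Y of r characters, with integers a_χ ≠ 0 (χ ∈ X), d and a sign δ = ±1, such that: every χ ∈ X takes the value a_χ at every element whose p-part is a non-identity element of P;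 there is a map ζ from the non-principal linear characters ψ of P onto Y, constant on N-conjugacy classes, with ζ_ψ(z) = d + δ·Σ ψ'(y) for every z whose p-part y is a non-identity element of P, the sum running over the N-conjugates ψ' of ψ; (d − δ)^2 + (r − 1) d^2 + Σ_{χ ∈ X} a_χ^2 = m + 1; all members of Y agree on p-regular elements; and (r d − δ) η(g) + Σ_{χ ∈ X} a_χ χ(g) = 0 for every η ∈ Y and every p-regular g. -/
theorem result {G : Type*} [Group G] [Finite G] (p : ℕ) [Fact p.Prime] (M : Ideal Cfsg.AlgInt) (hM : Cfsg.IsPModular p M) (P : Sylow p G) (hab : IsMulCommutative P) (hP1 : Nat.card P ≠ 1) (m : ℕ) (hm1 : 1 < m) (hm2 : m + 1 < Nat.card P) (hCN : (Subgroup.centralizer ((P : Subgroup G) : Set G)).relIndex (Subgroup.normalizer ((P : Subgroup G) : Set G)) = m) (hcyc : ∃ g : G, g ∈ Subgroup.normalizer ((P : Subgroup G) : Set G) ∧ Subgroup.centralizer ((P : Subgroup G) : Set G) ⊔ Subgroup.zpowers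 g = Subgroup.normalizer ((P : Subgroup G) : Set G)) (hfrob : ∀ y : G, y ∈ (P : Subgroup G) → y ≠ 1 → Subgroup.centralizer ({y} : Set G) ⊓ Subgroup.normalizer ((P : Subgroup G) : Set G) = Subgroup.centralizer ((P : Subgroup G) : Set G)) : ∃ (s : ℕ) (X Y : Set (Cfsg.IrrCharacter G)), s ≤ m ∧ Cfsg.principalBlock M G = X ∪ Y ∧ Disjoint X Y ∧ Nat.card X = s ∧ Nat.card Y = (Nat.card P - 1) / m ∧ (∃ χ₁ ∈ X, (χ₁ : G → ℂ) = fun _ => 1) ∧ ∃ (a : Cfsg.IrrCharacter G → ℤ) (d δ : ℤ) (ζ : (↥(P : Subgroup G) →* ℂˣ) → Cfsg.IrrCharacter G), (δ = 1 ∨ δ = -1) ∧ (∀ χ ∈ X, a χ ≠ 0 ∧ ∀ z y : G, Cfsg.IsPPart p z y → y ∈ (P : Subgroup G) → y ≠ 1 → (χ : G → ℂ) z = (a χ : ℂ)) ∧ (∀ ψ : ↥(P : Subgroup G) →* ℂˣ, ψ ≠ 1 → ζ ψ ∈ Y) ∧ (∀ η ∈ Y, ∃ ψ : ↥(P : Subgroup G) →* ℂˣ, ψ ≠ 1 ∧ ζ ψ = η) ∧ (∀ ψ ψ' : ↥(P : Subgroup G) →* ℂˣ, ψ ≠ 1 → (∃ n : G, n ∈ Subgroup.normalizer ((P : Subgroup G) : Set G) ∧ ∀ w w' : ↥(P : Subgroup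 G), (w' : G) = n * w * n⁻¹ → ψ' w' = ψ w) → ζ ψ' = ζ ψ) ∧ (∀ ψ : ↥(P : Subgroup G) →* ℂˣ, ψ ≠ 1 → ∀ (z : G) (y : ↥(P : Subgroup G)), Cfsg.IsPPart p z (y : G) → (y : G) ≠ 1 → (ζ ψ : G → ℂ) z = (d : ℂ) + (δ : ℂ) * ∑ᶠ ψ' ∈ {ψ' : ↥(P : Subgroup G) →* ℂˣ | ∃ n : G, n ∈ Subgroup.normalizer ((P : Subgroup G) : Set G) ∧ ∀ w w' : ↥(P : Subgroup G), (w' : G) = n * w * n⁻¹ → ψ' w' = ψ w}, ((ψ' y : ℂˣ) : ℂ)) ∧ ((d - δ) ^ 2 + ((Nat.card P - 1) / m - 1 : ℤ) * d ^ 2 + ∑ᶠ χ ∈ X, a χ ^ 2 = (m : ℤ) + 1) ∧ (∀ η ∈ Y, ∀ η' ∈ Y, ∀ g : G, ¬ p ∣ orderOf g → (η : G → ℂ) g = (η' : G → ℂ) g) ∧ (∀ η ∈ Y, ∀ g : G, ¬ p ∣ orderOf g → ((((Nat.card P - 1) / m : ℕ) : ℂ) * d - δ) * (η : G → ℂ) g + ∑ᶠ χ ∈ X, (a χ : ℂ) * (χ : G → ℂ) g = 0) := by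
  classical
  haveI := Fintype.ofFinite G
  haveI := hab
  have hfree : FreeAction P := hfrob
  have hcard := card_homOrb hfree hCN
  have h2 : 2 ≤ Fintype.card (HomOrb P) := by
    rw [← Nat.card_eq_fintype_card]
    by_contra h
    have h1 : Nat.card (HomOrb P) ≤ 1 := by omega
    have := Nat.mul_le_mul_right m h1
    omega
  have hr : (Nat.card P - 1) / m = Fintype.card (HomOrb P) := by
    rw [← Nat.card_eq_fintype_card, ← hcard, Nat.mul_div_cancel _ (by omega)]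
  obtain ⟨y, n, δ, w, S⟩ := exists_freeShape hM hfree hCN hP1 h2
  have hsub : Set.range y ⊆ principalBlock M G := by rintro _ ⟨j, rfl⟩; exact S.mem j
  refine ⟨_, principalBlock M G \ Set.range y, Set.range y, S.card_le,
    (Set.sdiff_union_of_subset hsub).symm, Set.disjoint_sdiff_left, rfl, ?_,
    ⟨trivChar G, ⟨trivChar_mem_principal hM, S.triv_not_range hM h2⟩, trivChar_coe⟩,
    fun χ => -n χ, -w, δ,
    fun ψ => if h : ψ ≠ 1 then y (Quotient.mk _ ⟨ψ, h⟩) else trivChar G,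
    S.sign, fun χ hχ => ⟨neg_ne_zero.2 (S.ne_zero χ hχ.1 hχ.2),
      fun z u hz hu hu1 => S.value_X hM hfree hχ.1 hχ.2 hz hu hu1⟩, ?_, ?_, ?_, ?_, ?_, ?_, ?_⟩
  · rw [Nat.card_coe_set_eq, Set.ncard_range_of_injective S.inj, Nat.card_eq_fintype_card, hr]
  · intro ψ hψ
    dsimp only
    rw [dif_pos hψ]
    exact ⟨_, rfl⟩
  · rintro η ⟨j, rfl⟩
    induction j using Quotient.inductionOn with
    | h ψ => exact ⟨ψ.1, ψ.2, dif_pos ψ.2⟩
  · intro ψ ψ' hψ h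
    have h' : ConjHom P ψ ψ' := h
    dsimp only
    rw [dif_pos hψ, dif_pos (h'.ne_one hψ)]
    exact congrArg y (Quotient.sound h'.symm)
  · intro ψ hψ z v hz hv
    dsimp only
    rw [dif_pos hψ]
    exact S.value_Y hM hfree ⟨ψ, hψ⟩ hz hv
  · have h := S.norm_eq hM hfree hCN h2
    rw [finsum_mem_eq_toFinset_sum]
    have e : (((Nat.card P : ℤ)) - 1) / (m : ℤ) = (Fintype.card (HomOrb P) : ℤ) := by
      rw [← hr, Int.natCast_div, Nat.cast_sub (by omega), Nat.cast_one]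
    rw [e]
    exact h
  · rintro _ ⟨i, rfl⟩ _ ⟨j, rfl⟩ g hg
    exact S.regEq i j g hg
  · rintro _ ⟨j, rfl⟩ g hg
    rw [finsum_mem_eq_toFinset_sum, hr]
    exact S.relation hM hfree hCN j hg

end Cfsg.Agent.S4709
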