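import Cfsg.Agent.Lib.Block.RationalCount
import Cfsg.Prelude.Def_BlockRank

namespace Cfsg.Agent.S4712

open Cfsg.Lib.Block in
theorem result {G : Type*} [Group G] [Finite G] (p : ℕ) [Fact p.Prime] (hodd : p ≠ 2) (M : Ideal Cfsg.AlgInt) (hM : Cfsg.IsPModular p M) (B : Set (Cfsg.IrrCharacter G)) (hB : Cfsg.IsPBlock M B) : Cfsg.blockRank p B ≤ Nat.card {χ : Cfsg.IrrCharacter G // χ ∈ B ∧ ∀ k : ℕ, Nat.Coprime k (Nat.card G) → k ≡ 1 [MOD Nat.card G / p ^ (Nat.card G).factorization p] → ∀ g : G, (χ : G → ℂ) (g ^ k) = (χ : G → ℂ) g} := by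
  classical
  letI := Fintype.ofFinite G
  obtain ⟨a, ha⟩ : ∃ a, a = (Nat.card G).factorization p := ⟨_, rfl⟩
  rw [← ha]
  set n' := Nat.card G / p ^ a with hn'
  have hp : p.Prime := Fact.out
  have hn0 : Nat.card G ≠ 0 := Nat.card_pos.ne'
  have hco : (p ^ a).Coprime n' := by
    rw [hn', ha]
    exact Nat.Coprime.pow_left _ (Nat.coprime_ordCompl hp hn0)
  have hmul : p ^ a * n' = Nat.card G := by
    rw [hn', ha]
    exact Nat.ordProj_mul_ordCompl_eq_self _ _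
  haveI : NeZero (p ^ a) := ⟨pow_ne_zero _ hp.ne_zero⟩
  haveI : IsCyclic (ZMod (p ^ a))ˣ := ZMod.isCyclic_units_of_prime_pow p hp hodd a
  obtain ⟨γ, hγ⟩ := IsCyclic.exists_generator (α := (ZMod (p ^ a))ˣ)
  obtain ⟨k₀, hk₀a, hk₀n⟩ := Nat.chineseRemainder hco (γ : ZMod (p ^ a)).val 1
  have hk₀ : k₀.Coprime (Nat.card G) := by
    rw [← hmul]
    refine Nat.Coprime.mul_right ?_ ?_
    · rw [Nat.coprime_comm, Nat.coprime_iff_gcd_eq_one, Nat.gcd_comm, Nat.ModEq.gcd_eq hk₀a,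
        Nat.gcd_comm, ← Nat.coprime_iff_gcd_eq_one, Nat.coprime_comm]
      exact ZMod.val_coe_unit_coprime γ
    · rw [Nat.coprime_iff_gcd_eq_one, Nat.ModEq.gcd_eq hk₀n, Nat.gcd_one_left]
  have hk₀1 : k₀ ≡ 1 [MOD Nat.card G / p ^ (Nat.card G).factorization p] := by
    rw [← ha]; exact hk₀n
  refine (blockRank_le_fixed hM hB hk₀ hk₀1).trans ?_
  rw [← Fintype.card_coe, ← Nat.card_eq_fintype_card]
  refine Nat.card_le_card_of_injective (fun χ => ⟨χ.1, ?_, ?_⟩) fun x y h => Subtype.ext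
    (congrArg (fun z => z.1) h)
  · exact Set.mem_toFinset.1 (Finset.mem_filter.1 χ.2).1
  intro k hk hk1 g
  have hfix : powTwist k₀ hk₀ χ.1 = χ.1 := (Finset.mem_filter.1 χ.2).2
  have hiter : ∀ (i : ℕ) (h : G), (χ.1 : G → ℂ) (h ^ k₀ ^ i) = (χ.1 : G → ℂ) h := by
    intro i
    induction i with
    | zero => intro h; rw [pow_zero, pow_one]
    | succ i ih =>
      intro h
      rw [pow_succ' k₀ i, pow_mul, ih, ← powTwist_apply k₀ hk₀, hfix]
  have hkp : k.Coprime (p ^ a) := hk.coprime_dvd_right (Dvd.intro _ hmul)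
  obtain ⟨i, hi⟩ : ∃ i : ℕ, γ ^ i = ZMod.unitOfCoprime k hkp := by
    have := (mem_powers_iff_mem_zpowers).2 (hγ (ZMod.unitOfCoprime k hkp))
    exact this
  have hmod : k₀ ^ i ≡ k [MOD Nat.card G] := by
    rw [← hmul, ← Nat.modEq_and_modEq_iff_modEq_mul hco]
    refine ⟨?_, ?_⟩
    · rw [← ZMod.natCast_eq_natCast_iff, Nat.cast_pow, (ZMod.natCast_eq_natCast_iff _ _ _).2 hk₀a,
        ZMod.natCast_val, ZMod.cast_id, ← Units.val_pow_eq_pow_val, hi]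
      rfl
    · calc k₀ ^ i ≡ 1 ^ i [MOD n'] := hk₀n.pow i
        _ = 1 := one_pow i
        _ ≡ k [MOD n'] := hk1.symm
  rw [← hiter i g]
  refine congrArg _ ?_
  rw [pow_eq_pow_iff_modEq]
  exact (hmod.of_dvd (orderOf_dvd_natCard g)).symm

end Cfsg.Agent.S4712
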