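import Cfsg.Statements.S4714
import Cfsg.Agent.Lib.Block.CentralProduct

set_option autoImplicit false
open Cfsg

namespace Cfsg.Agent.S4714

/-- Let p be a prime, M a maximal ideal of the algebraic integers containing p, D a p-subgroup of the finite group G with G = D·C_G(D), and B a p-block with defect group D. Let χ be a member of B having D in its kernel (there is exactly one, the canonical character of B). Then the irreducible characters in B are exactly the functions θ on G for which there is an irreducible character ζ of D such that θ(yx) = ζ(y)χ(x) whenever y ∈ D, x has order prime to p and x commutes with y, and θ(z) = 0 whenever the p-part of z does not lie in D. -/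
theorem result {G : Type*} [Group G] [Finite G] (p : ℕ) [Fact p.Prime] (M : Ideal Cfsg.AlgInt) (hM : Cfsg.IsPModular p M) (D : Subgroup G) (hD : IsPGroup p D) (hG : D ⊔ Subgroup.centralizer (D : Set G) = ⊤) (B : Set (Cfsg.IrrCharacter G)) (hB : Cfsg.IsPBlock M B) (hBD : Cfsg.IsDefectGroup p M B D) (χ : Cfsg.IrrCharacter G) (hχ : χ ∈ B) (hχD : ∀ y ∈ D, (χ : G → ℂ) y = (χ : G → ℂ) 1) : (∀ θ : Cfsg.IrrCharacter G, θ ∈ B ↔ ∃ ζ : Cfsg.IrrCharacter D, (∀ (y : D) (x : G), ¬ p ∣ orderOf x → Commute (y : G) x → (θ : G → ℂ) ((y : G) * x) = (ζ : D → ℂ) y * (χ : G → ℂ) x) ∧ (∀ z : G, (∀ y : G, Cfsg.IsPPart p z y → y ∉ D) → (θ : G → ℂ) z = 0)) ∧ ∀ ζ : Cfsg.IrrCharacter D, ∃ θ ∈ B, (∀ (y : D) (x : G), ¬ p ∣ orderOf x → Commute (y : G) x → (θ : G → ℂ) ((y : G) * x) = (ζ : D → ℂ) y * (χ : G → ℂ) x) ∧ (∀ z : G, (∀ y : G, Cfsg.IsPPart p z y → y ∉ D) → (θ : G → ℂ) z = 0) := by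
  classical
  haveI := Fintype.ofFinite G
  haveI := Fintype.ofFinite D
  obtain ⟨hdeg, hmain⟩ := Cfsg.Lib.Block.centralProduct_block hM hD hG hB hBD
  obtain ⟨F, hinj, hF, hmem⟩ := hmain χ hχ hχD
  have hsat : ∀ ζ : Cfsg.IrrCharacter D,
      (∀ (y : D) (x : G), ¬ p ∣ orderOf x → Commute (y : G) x →
        (F ζ : G → ℂ) ((y : G) * x) = (ζ : D → ℂ) y * (χ : G → ℂ) x) ∧
      (∀ z : G, (∀ y : G, Cfsg.IsPPart p z y → y ∉ D) → (F ζ : G → ℂ) z = 0) := by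
    intro ζ
    refine ⟨fun y x hx _ => ?_, fun z hz => ?_⟩
    · rw [hF]; exact Cfsg.Lib.Block.secChar_mul hD hG _ _ y hx
    · rw [hF]; exact Cfsg.Lib.Block.secChar_of_notMem (hz _ (Cfsg.Lib.Block.isPPart_pPt z))
  refine ⟨fun θ => ⟨fun hθ => ?_, ?_⟩, fun ζ => ⟨F ζ, (hmem _).2 ⟨ζ, rfl⟩, hsat ζ⟩⟩
  · obtain ⟨ζ, rfl⟩ := (hmem θ).1 hθ
    exact ⟨ζ, hsat ζ⟩
  · rintro ⟨ζ, h1, h2⟩
    refine (hmem θ).2 ⟨ζ, Subtype.ext (funext fun g => ?_)⟩
    by_cases h : Cfsg.Lib.Block.pPt p g ∈ D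
    · conv_lhs => rw [← Cfsg.Lib.Block.pPt_mul_pReg (p := p) g]
      conv_rhs => rw [← Cfsg.Lib.Block.pPt_mul_pReg (p := p) g]
      rw [(hsat ζ).1 ⟨_, h⟩ _ (Cfsg.Lib.Block.not_dvd_orderOf_pReg g) (Cfsg.Lib.Block.pPt_commute_pReg g),
        h1 ⟨_, h⟩ _ (Cfsg.Lib.Block.not_dvd_orderOf_pReg g) (Cfsg.Lib.Block.pPt_commute_pReg g)]
    · have hz : ∀ y : G, Cfsg.IsPPart p g y → y ∉ D := fun y hy => by
        rw [Cfsg.Lib.Block.eq_pPt_of_isPPart hy]; exact h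
      rw [(hsat ζ).2 g hz, h2 g hz]

end Cfsg.Agent.S4714
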