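import Cfsg.Statements.S4715
import Cfsg.Agent.Lib.Block.HeightInertial

set_option autoImplicit false
open Cfsg

namespace Cfsg.Agent.S4715

/-- Let p be a prime, M a maximal ideal of the algebraic integers containing p, B a p-block of the finite group G with defect group D of order p^d, H = D·C_G(D), b a block of H inducing B, T the stabilizer of b in N_G(D) and e = [T : H] the inertial index of B; let n be the integer with p^n ≤ e < p^(n+1) and p^c the order of the centre of D. Then every irreducible character in B has height h with h + c ≤ n + d. -/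
theorem result {G : Type*} [Group G] [Finite G] (p : ℕ) [Fact p.Prime] (M : Ideal Cfsg.AlgInt) (hM : Cfsg.IsPModular p M) (B : Set (Cfsg.IrrCharacter G)) (hB : Cfsg.IsPBlock M B) (D : Subgroup G) (hBD : Cfsg.IsDefectGroup p M B D) (d : ℕ) (hDd : Nat.card D = p ^ d) (H : Subgroup G) (hH : H = D ⊔ Subgroup.centralizer (D : Set G)) (b : Set (Cfsg.IrrCharacter H)) (hind : Cfsg.IsInducedBlock M H b B) (T : Subgroup G) (hT : ∀ g : G, g ∈ T ↔ (g ∈ Subgroup.normalizer (D : Set G) ∧ ∀ θ ∈ b, ∀ θ' : Cfsg.IrrCharacter H, (∀ h h' : H, (h' : G) = g * h * g⁻¹ → (θ' : H → ℂ) h' = (θ : H → ℂ) h) → θ' ∈ b)) (e : ℕ) (he : H.relIndex T = e) (n : ℕ) (hn : p ^ n ≤ e ∧ e < p ^ (n + 1)) (c : ℕ) (hc : Nat.card (Subgroup.center D) = p ^ c) : ∀ χ ∈ B, Cfsg.blockHeight p B (χ : G → ℂ) + c ≤ n + d := by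
  classical
  have : Fintype G := Fintype.ofFinite G
  have hp := (Fact.out : p.Prime)
  subst hH
  have hDp := Cfsg.Lib.Block.isPGroup_defectGroup hM hBD
  obtain ⟨c₀, hc₀, hcoeff⟩ := Cfsg.Lib.Block.exists_centralizer_block hM hDp
    (L := D ⊔ Subgroup.centralizer (D : Set G)) le_sup_right le_sup_left
    (Cfsg.Lib.Block.sup_centralizer_le_normalizer D)
    (Cfsg.Lib.Block.invOn_sup_centralizer D) hind.1
  have hpair := (Cfsg.Lib.Block.isBrauerPairOf_iff_induced hM hDp
    (L := D ⊔ Subgroup.centralizer (D : Set G)) le_sup_right le_sup_left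
    (Cfsg.Lib.Block.sup_centralizer_le_normalizer D)
    (Cfsg.Lib.Block.invOn_sup_centralizer D) hc₀ hind.1 hcoeff hB).2 hind
  have hmax := Cfsg.Lib.Block.maximal_of_defectGroup hM hpair hBD
  have hT' : ∀ g : G, g ∈ T ↔ Cfsg.Lib.Block.conjIdx g ⟨D, c₀⟩ = ⟨D, c₀⟩ := by
    intro g
    rw [hT, Cfsg.Lib.Block.conjIdx_eq_self_iff]
    refine and_congr_right fun hg => ?_
    have hgC := Cfsg.Lib.Block.mem_normalizer_centralizer hg
    have hgH : g ∈ Subgroup.normalizer
        ((D ⊔ Subgroup.centralizer (D : Set G) : Subgroup G) : Set G) :=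
      Subgroup.normalizer_inf_normalizer_le_normalizer_sup _ _ (Subgroup.mem_inf.2 ⟨hg, hgC⟩)
    rw [← Cfsg.Lib.Block.stabilizesBlock_iff_forall hgH,
      Cfsg.Lib.Block.stabilizesBlock_iff_coeff hgH, Cfsg.Lib.Block.stabilizesBlock_iff_coeff hgC]
    simp only [hcoeff]
  intro χ hχ
  have key := Cfsg.Lib.Block.height_add_center_le hM hmax hDd hT' rfl hχ
  rw [he, hc, ← pow_add] at key
  have h2 : e * p ^ d < p ^ (n + 1) * p ^ d :=
    Nat.mul_lt_mul_of_pos_right hn.2 (pow_pos hp.pos _)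
  rw [← pow_add] at h2
  have h3 := (Nat.pow_lt_pow_iff_right hp.one_lt).1 (lt_of_le_of_lt key h2)
  omega

end Cfsg.Agent.S4715
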