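import Cfsg.Statements.S4717
import Cfsg.Agent.Lib.Block.DefectPairs
import Cfsg.Agent.Lib.Block.SubsectionApps

set_option autoImplicit false
open Cfsg

namespace Cfsg.Agent.S4717

/-- Let p be a prime, M a maximal ideal of the algebraic integers containing p, and r a natural number; say that a finite group X has deficiency class r when X has no non-principal p-block of defect ≥ r. If G has deficiency class r then so does the centralizer of every p-element of G; conversely, if r > 0 and the centralizer of every element of order p has deficiency class r, then G has deficiency class r. -/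
theorem result {G : Type*} [Group G] [Finite G] (p : ℕ) [Fact p.Prime] (M : Ideal Cfsg.AlgInt) (hM : Cfsg.IsPModular p M) (r : ℕ) : ((∀ B' : Set (Cfsg.IrrCharacter G), Cfsg.IsPBlock M B' → B' ≠ Cfsg.principalBlock M G → Cfsg.blockDefect p B' < r) → ∀ y : G, (∃ k : ℕ, orderOf y = p ^ k) → (∀ B' : Set (Cfsg.IrrCharacter ↥(Subgroup.centralizer ({y} : Set G))), Cfsg.IsPBlock M B' → B' ≠ Cfsg.principalBlock M ↥(Subgroup.centralizer ({y} : Set G)) → Cfsg.blockDefect p B' < r)) ∧ (0 < r → (∀ y : G, orderOf y = p → (∀ B' : Set (Cfsg.IrrCharacter ↥(Subgroup.centralizer ({y} : Set G))), Cfsg.IsPBlock M B' → B' ≠ Cfsg.principalBlock M ↥(Subgroup.centralizer ({y} : Set G)) → Cfsg.blockDefect p B' < r)) → (∀ B' : Set (Cfsg.IrrCharacter G), Cfsg.IsPBlock M B' → B' ≠ Cfsg.principalBlock M G → Cfsg.blockDefect p B' < r)) := by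
  classical
  haveI := Fintype.ofFinite G
  constructor
  · intro hdef y hy B' hB' hne
    haveI := Fintype.ofFinite (Subgroup.centralizer ({y} : Set G))
    have hHu : ∀ h : Subgroup.centralizer ({y} : Set G), Commute y (h : G) := fun h =>
      (Subgroup.mem_centralizer_singleton_iff.1 h.2).symm
    obtain ⟨B, hB⟩ := Lib.Block.exists_isInducedBlock_of_centralizer hM hy hHu le_rfl hB'
    have hBne : B ≠ Cfsg.principalBlock M G := fun h => by
      subst h
      exact hne ((Lib.Block.isInducedBlock_principal_iff hM ⟨_, hB⟩).1 hB)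
    exact lt_of_le_of_lt (Lib.Block.blockDefect_le_of_induced hM hB) (hdef B hB.2.1 hBne)
  · intro hr hloc B hB hBne
    by_contra hlt
    push Not at hlt
    obtain ⟨D, hD⟩ := Lib.Block.exists_defectGroup hM hB
    have hDp := Lib.Block.isPGroup_defectGroup hM hD
    have hcardD := Lib.Block.card_defectGroup hM hB hD
    have hnt : Nontrivial D := by
      rw [← Finite.one_lt_card_iff_nontrivial, hcardD]
      exact Nat.one_lt_pow (by omega) (Fact.out : p.Prime).one_lt
    haveI := hnt
    have hcnt : Nontrivial (Subgroup.center D) := hDp.center_nontrivial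
    obtain ⟨k, hk⟩ := (IsPGroup.iff_card.1 (hDp.to_subgroup (Subgroup.center D)))
    obtain ⟨w, hw⟩ := exists_prime_orderOf_dvd_card' (G := Subgroup.center D) p (by
      rw [hk]
      refine dvd_pow_self p (fun h0 => ?_)
      rw [h0, pow_zero] at hk
      have := Finite.one_lt_card_iff_nontrivial.2 hcnt
      omega)
    set z : G := ((w : D) : G) with hz
    have hzord : orderOf z = p := by rw [hz, Subgroup.orderOf_coe, Subgroup.orderOf_coe, hw]
    set Z := Subgroup.zpowers z with hZ
    have hZD : Z ≤ D := Subgroup.zpowers_le.2 (w : D).2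
    obtain ⟨e, he⟩ := (Lib.Block.exists_pair_iff hM hB hD hDp).2 ⟨1, by
      intro x hx
      obtain ⟨y, hy, rfl⟩ := hx
      simpa using hy⟩
    obtain ⟨f, hf, hle⟩ := Lib.Block.exists_subpair hM he.1 hZD
    have hfB : Cfsg.IsBrauerPairOf p M B Z f := (Lib.Block.isBrauerPairOf_iff_of_le hM hle B).1 he
    have hDC : D ≤ Subgroup.centralizer (Z : Set G) := fun d hd => by
      rw [hZ, Subgroup.zpowers_eq_closure, Subgroup.centralizer_closure]
      refine Subgroup.mem_centralizer_singleton_iff.2 ?_
      have h := Subgroup.mem_center_iff.1 w.2 ⟨d, hd⟩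
      exact congrArg Subtype.val h
    have hZC : Z ≤ Subgroup.centralizer (Z : Set G) := hZD.trans hDC
    haveI := Fintype.ofFinite (Subgroup.centralizer (Z : Set G))
    have hind := Lib.Block.isInducedBlock_of_isBrauerPairOf hM hZC hfB
    obtain ⟨E, hE, hDE⟩ := Lib.Block.le_defectGroup_of_subpair hM
      (Lib.Block.isLocalBlock_centralizer hM hf) he.1 hle
    have hdef : r ≤ Cfsg.blockDefect p f := by
      have h1 := Subgroup.card_le_of_le hDE
      rw [inf_eq_left.2 hDC, Nat.card_congr (Subgroup.subgroupOfEquivOfLe hDC).toEquiv, hcardD,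
        Lib.Block.card_defectGroup hM hf hE] at h1
      exact hlt.trans ((Nat.pow_le_pow_iff_right (Fact.out : p.Prime).one_lt).1 h1)
    have hfne : f ≠ Cfsg.principalBlock M ↥(Subgroup.centralizer (Z : Set G)) := fun h => by
      have h1 := (Lib.Block.isInducedBlock_principal_iff hM ⟨_, hind⟩).2 h
      exact hBne (Lib.Block.isInducedBlock_unique hM hind h1)
    have key : ∀ T : Subgroup G, T = Subgroup.centralizer (Z : Set G) →
        (∀ B' : Set (Cfsg.IrrCharacter T), Cfsg.IsPBlock M B' → B' ≠ Cfsg.principalBlock M T →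
          Cfsg.blockDefect p B' < r) → False := by
      rintro T rfl h
      exact absurd (h f hf hfne) (not_lt.2 hdef)
    exact key _ (by rw [hZ, Subgroup.zpowers_eq_closure, Subgroup.centralizer_closure]) (hloc z hzord)

end Cfsg.Agent.S4717
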