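import Cfsg.Statements.S4718
import Cfsg.Agent.Lib.Block.BrauerFeit
import Cfsg.Agent.Lib.Block.Landau

set_option autoImplicit false
universe u
open Cfsg

namespace Cfsg.Agent.S4718

/-- Let p be a prime and a a natural number. There is a bound N such that every finite group whose Sylow p-subgroups have order p^a and whose only p-block (relative to a maximal ideal of the algebraic integers containing p) is the principal block has order at most N. -/
theorem result (p : ℕ) [Fact p.Prime] (a : ℕ) : ∃ N : ℕ, ∀ (G : Type u) [Group G] [Finite G] (M : Ideal Cfsg.AlgInt), Cfsg.IsPModular p M → (Nat.card G).factorization p = a → (∀ B : Set (Cfsg.IrrCharacter G), Cfsg.IsPBlock M B → B = Cfsg.principalBlock M G) → Nat.card G ≤ N := by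
  obtain ⟨N, hN⟩ := Lib.Block.exists_card_bound.{u} (p ^ (2 * a) + 4)
  refine ⟨N, fun G _ _ M hM ha hone => hN G ?_⟩
  haveI := Fintype.ofFinite G
  have huniv : principalBlock M G = Set.univ := Set.eq_univ_of_forall fun χ => by
    rw [← hone _ (Lib.Block.isPBlock_blockOf χ)]
    exact Lib.Block.self_mem_blockOf hM χ
  have h1 := Lib.Block.card_block_le hM (Lib.Block.isPBlock_principal (M := M) (G := G))
  have h2 : blockDefect p (principalBlock M G) ≤ a := by
    rw [Lib.Block.blockDefect_eq, ha]; exact Nat.sub_le _ _
  have h3 : p ^ (2 * blockDefect p (principalBlock M G)) ≤ p ^ (2 * a) :=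
    Nat.pow_le_pow_right (Fact.out : p.Prime).pos (by omega)
  rw [huniv, Nat.card_univ, Lib.Char.card_irr_eq_card_conjClasses] at h1
  rw [huniv] at h3
  omega

end Cfsg.Agent.S4718
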