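import Cfsg.Statements.S4719
import Cfsg.Agent.S4718
import Cfsg.Agent.Lib.Block.DeficiencyBound
import Cfsg.Agent.Lib.Block.InvolutionCentralBound
import Cfsg.Agent.Lib.Coprime.Generation

set_option autoImplicit false
universe u
open Cfsg

namespace Cfsg.Agent.S4719


open Lib.Block

variable {G : Type u} [Group G] [Finite G]

/-- Adjoining one commuting element squaring to one at most doubles the order. -/
theorem card_sup_zpowers_le (B : Subgroup G) {c : G} (hc : c * c = 1)
    (hcomm : ∀ b ∈ B, b * c = c * b) :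
    Nat.card (B ⊔ Subgroup.zpowers c : Subgroup G) ≤ 2 * Nat.card B := by
  classical
  have hbc : ∀ x : G, x * c ∈ B → x * c = c * x := fun x h => by
    have h1 := hcomm _ h
    have := congrArg (· * c) h1
    simp only [mul_assoc, hc, mul_one] at this
    exact this
  let K : Subgroup G :=
    { carrier := {x | x ∈ B ∨ x * c ∈ B}
      one_mem' := Or.inl (one_mem _)
      mul_mem' := fun {x y} hx hy => by
        rcases hy with h | h
        · rcases hx with h' | h'
          · exact Or.inl (mul_mem h' h)
          · refine Or.inr ?_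
            rw [mul_assoc, hcomm y h, ← mul_assoc]
            exact mul_mem h' h
        · rcases hx with h' | h'
          · exact Or.inr (by rw [mul_assoc]; exact mul_mem h' h)
          · refine Or.inl ?_
            have := mul_mem h' h
            rwa [hbc y h, ← mul_assoc, mul_assoc x, hc, mul_one] at this
      inv_mem' := fun {x} hx => by
        rcases hx with h | h
        · exact Or.inl (inv_mem h)
        · refine Or.inr ?_
          have h2 := inv_mem h
          rw [mul_inv_rev, inv_eq_of_mul_eq_one_right hc] at h2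
          have h3 := hcomm _ h2
          rw [mul_assoc] at h3
          rw [mul_left_cancel h3]
          exact h2 }
  have hle : B ⊔ Subgroup.zpowers c ≤ K := sup_le (fun b hb => Or.inl hb)
    (Subgroup.zpowers_le.2 (Or.inr (by rw [hc]; exact one_mem _)))
  refine (Subgroup.card_le_of_le hle).trans ?_
  rw [show 2 * Nat.card B = Nat.card (Bool × B) by simp [Nat.card_prod]]
  refine Nat.card_le_card_of_injective (fun x => if h : (x : G) ∈ B then (true, ⟨x, h⟩)
    else (false, ⟨x * c, x.2.resolve_left h⟩)) fun x y hxy => ?_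
  refine Subtype.ext ?_
  by_cases hx : (x : G) ∈ B <;> by_cases hy : (y : G) ∈ B <;>
    simp only [hx, hy, dite_true, dite_false, Prod.mk.injEq, Subtype.mk.injEq, true_and,
      Bool.false_eq_true, Bool.true_eq_false, false_and, mul_left_inj] at hxy
  · exact hxy
  · exact hxy

/-- Odd normal subgroups vanish in the centralizers of the subgroups of the elementary group. -/
theorem oddCoreFree_centralizer {M : Ideal AlgInt} (hM : IsPModular 2 M) {r : ℕ}
    (hdef : ∀ B : Set (IrrCharacter G), IsPBlock M B → B ≠ principalBlock M G → blockDefect 2 B < r)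
    {E : Subgroup G} [IsMulCommutative E] (hexp : ∀ x ∈ E, x * x = 1)
    (hE : Nat.card E = 2 ^ (r + 1)) {F : Subgroup G} (hFE : F ≤ E) {i : ℕ}
    (hF : Nat.card F = 2 ^ i) (hi : i ≤ r) :
    OddCoreFree (Subgroup.centralizer (F : Set G)) := by
  classical
  haveI := Fintype.ofFinite G
  have hcommE : ∀ x ∈ E, ∀ y ∈ E, x * y = y * x := fun x hx y hy =>
    congrArg Subtype.val (mul_comm' (⟨x, hx⟩ : E) ⟨y, hy⟩)
  have hEC : ∀ F : Subgroup G, F ≤ E → E ≤ Subgroup.centralizer (F : Set G) := fun F hFE x hx =>
    Subgroup.mem_centralizer_iff.2 fun y hy => hcommE y (hFE hy) x hx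
  intro W hWn hWo
  set W' := W.map (Subgroup.centralizer (F : Set G)).subtype with hW'
  have hW'C : W' ≤ Subgroup.centralizer (F : Set G) := Subgroup.map_subtype_le W
  have hW'o : Odd (Nat.card W') := by
    rw [hW', Subgroup.card_map_of_injective (Subgroup.subtype_injective _)]; exact hWo
  have hW'n : ∀ g ∈ Subgroup.centralizer (F : Set G), ∀ w ∈ W', g * w * g⁻¹ ∈ W' := by
    rintro g hg _ ⟨w, hw, rfl⟩
    exact ⟨_, hWn.conj_mem w hw ⟨g, hg⟩, rfl⟩
  have hEN : E ≤ Subgroup.normalizer (W' : Set G) := fun g hg => by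
    rw [Subgroup.mem_normalizer_iff]
    refine fun w => ⟨hW'n g (hEC F hFE hg) w, fun h => ?_⟩
    have := hW'n g⁻¹ (inv_mem (hEC F hFE hg)) _ h
    rwa [inv_inv, show g⁻¹ * (g * w * g⁻¹) * g = w by group] at this
  have hcop : (Nat.card E).Coprime (Nat.card W') := by
    rw [hE]; exact Nat.Coprime.pow_left _ (Nat.coprime_two_left.2 hW'o)
  have hbot : W' ≤ ⊥ := by
    refine (Cfsg.Lib.Coprime.le_iSup_centralizer_cocyclic W' hEN hcop).trans (iSup₂_le ?_)
    rintro B ⟨hBE, c, hcE, hBc⟩
    have hcB : 2 ^ r ≤ Nat.card B := by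
      have h := card_sup_zpowers_le B (hexp c hcE) fun b hb => hcommE b (hBE hb) c hcE
      rw [hBc, hE, pow_succ] at h
      omega
    have hsupE : B ⊔ F ≤ E := sup_le hBE hFE
    obtain ⟨j, hj, hjcard⟩ := (Nat.dvd_prime_pow Nat.prime_two).1
      (hE ▸ Subgroup.card_dvd_of_le hsupE)
    have hrj : r ≤ j := by
      rw [← Nat.pow_le_pow_iff_right (show 1 < 2 by norm_num), ← hjcard]
      exact hcB.trans (Subgroup.card_le_of_le le_sup_left)
    haveI : Fact (Nat.Prime 2) := ⟨Nat.prime_two⟩
    obtain ⟨K, hK, hFK⟩ := Sylow.exists_subgroup_card_pow_prime_le 2 (n := i) (m := r)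
      (G := (B ⊔ F : Subgroup G))
      (hjcard ▸ pow_dvd_pow 2 hrj) (F.subgroupOf (B ⊔ F))
      ((Nat.card_congr (Subgroup.subgroupOfEquivOfLe le_sup_right).toEquiv).trans hF) hi
    set F' := K.map (B ⊔ F : Subgroup G).subtype with hF'
    have hF'le : F' ≤ B ⊔ F := Subgroup.map_subtype_le K
    have hFF' : F ≤ F' := fun x hx =>
      ⟨⟨x, Subgroup.mem_sup_right hx⟩, hFK (Subgroup.mem_subgroupOf.2 hx), rfl⟩
    have hF'card : Nat.card F' = 2 ^ r := by
      rw [hF', Subgroup.card_map_of_injective (Subgroup.subtype_injective _), hK]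
    have hC' : Subgroup.centralizer (F' : Set G) ≤ Subgroup.centralizer (F : Set G) :=
      Subgroup.centralizer_le hFF'
    haveI hn : ((W' ⊓ Subgroup.centralizer (F' : Set G)).subgroupOf
        (Subgroup.centralizer (F' : Set G))).Normal := ⟨fun x hx g => by
      rw [Subgroup.mem_subgroupOf] at hx ⊢
      exact Subgroup.mem_inf.2 ⟨hW'n _ (hC' g.2) _ (Subgroup.mem_inf.1 hx).1,
        (g * x * g⁻¹ : Subgroup.centralizer (F' : Set G)).2⟩⟩
    have hodd : ¬ 2 ∣ Nat.card ((W' ⊓ Subgroup.centralizer (F' : Set G)).subgroupOf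
        (Subgroup.centralizer (F' : Set G))) := by
      rw [Nat.card_congr (Subgroup.subgroupOfEquivOfLe inf_le_right).toEquiv, ← even_iff_two_dvd,
        Nat.not_even_iff_odd]
      exact hW'o.of_dvd_nat (Subgroup.card_dvd_of_le inf_le_left)
    have hb := eq_bot_of_single_block hM (single_block_centralizer hM hdef
      ((hF'le.trans hsupE).trans (hEC F' (hF'le.trans hsupE))) hF'card) hodd
    intro x hx
    obtain ⟨hxW, hxB⟩ := Subgroup.mem_inf.1 hx
    have hxC : x ∈ Subgroup.centralizer (F' : Set G) := by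
      refine Subgroup.centralizer_le hF'le ?_
      rw [Subgroup.mem_centralizer_iff]
      intro y hy
      have hle : B ⊔ F ≤ Subgroup.centralizer ({x} : Set G) := sup_le
        (fun b hb => Subgroup.mem_centralizer_singleton_iff.2
          ((Subgroup.mem_centralizer_iff.1 hxB) b hb))
        (fun b hb => Subgroup.mem_centralizer_singleton_iff.2
          ((Subgroup.mem_centralizer_iff.1 (hW'C hxW)) b hb))
      exact Subgroup.mem_centralizer_singleton_iff.1 (hle hy)
    rw [Subgroup.subgroupOf_eq_bot, disjoint_iff, inf_assoc, inf_idem] at hb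
    rw [← hb]
    exact Subgroup.mem_inf.2 ⟨hxW, hxC⟩
  rw [le_bot_iff, hW', Subgroup.map_eq_bot_iff_of_injective _ (Subgroup.subtype_injective _)] at hbot
  exact hbot

/-- The bounds, by downward recursion on the subgroup order. -/
theorem exists_centralizer_bound (a : ℕ) : ∀ j : ℕ, ∃ N : ℕ, ∀ (G : Type u) [Group G] [Finite G]
    (M : Ideal AlgInt) (r : ℕ) (E F : Subgroup G) (i : ℕ), IsPModular 2 M →
    (Nat.card G).factorization 2 ≤ a →
    (∀ B : Set (IrrCharacter G), IsPBlock M B → B ≠ principalBlock M G → blockDefect 2 B < r) →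
    IsMulCommutative E → (∀ x ∈ E, x * x = 1) → Nat.card E = 2 ^ (r + 1) → F ≤ E →
    Nat.card F = 2 ^ i → i + j = r → Nat.card (Subgroup.centralizer (F : Set G)) ≤ N := by
  haveI : Fact (Nat.Prime 2) := ⟨Nat.prime_two⟩
  intro j
  induction j with
  | zero =>
    choose N hN using fun a' => S4718.result.{u} 2 a'
    refine ⟨(Finset.range (a + 1)).sup N,
      fun G _ _ M r E F i hM ha hdef hcomm hexp hE hFE hF hij => ?_⟩
    haveI := Fintype.ofFinite G
    haveI := Fintype.ofFinite (Subgroup.centralizer (F : Set G))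
    have hFC : F ≤ Subgroup.centralizer (F : Set G) := fun x hx =>
      Subgroup.mem_centralizer_iff.2 fun y hy =>
        congrArg Subtype.val (mul_comm' (⟨y, hFE hy⟩ : E) ⟨x, hFE hx⟩)
    have ha' : (Nat.card (Subgroup.centralizer (F : Set G))).factorization 2 ≤ a :=
      ((Nat.factorization_le_iff_dvd Nat.card_pos.ne' Nat.card_pos.ne').2
        (Subgroup.card_subgroup_dvd_card _) 2).trans ha
    refine (hN _ _ M hM rfl (single_block_centralizer hM hdef hFC (by rw [hF, show i = r by omega]))).trans
      (Finset.le_sup (f := N) (Finset.mem_range.2 (by omega)))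
  | succ j ih =>
    obtain ⟨N, hN⟩ := ih
    obtain ⟨N', hN'⟩ := exists_bound_of_involution.{u} a N
    refine ⟨N', fun G _ _ M r E F i hM ha hdef hcomm hexp hE hFE hF hij => ?_⟩
    have hne : ¬ E ≤ F := fun h => by
      have := Subgroup.card_le_of_le h
      rw [hE, hF, Nat.pow_le_pow_iff_right (show 1 < 2 by norm_num)] at this
      omega
    obtain ⟨t, htE, htF⟩ := SetLike.not_le_iff_exists.1 hne
    have hsupE : F ⊔ Subgroup.zpowers t ≤ E := sup_le hFE (Subgroup.zpowers_le.2 htE)
    have hsup : Nat.card (F ⊔ Subgroup.zpowers t : Subgroup G) = 2 ^ (i + 1) := by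
      obtain ⟨k, -, hk⟩ := (Nat.dvd_prime_pow Nat.prime_two).1
        (hE ▸ Subgroup.card_dvd_of_le hsupE)
      have h1 := card_sup_zpowers_le F (hexp t htE) fun b hb =>
        congrArg Subtype.val (mul_comm' (⟨b, hFE hb⟩ : E) ⟨t, htE⟩)
      rw [hk, hF, mul_comm, ← pow_succ, Nat.pow_le_pow_iff_right (show 1 < 2 by norm_num)] at h1
      have h2 : i < k := by
        by_contra h
        refine htF ?_
        have := Subgroup.eq_of_le_of_card_ge (le_sup_left : F ≤ F ⊔ Subgroup.zpowers t)
          (by rw [hk, hF]; exact Nat.pow_le_pow_right (by norm_num) (not_lt.1 h))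
        rw [this]
        exact Subgroup.mem_sup_right (Subgroup.mem_zpowers t)
      rw [hk, show k = i + 1 by omega]
    have hrec := hN G M r E _ (i + 1) hM ha hdef hcomm hexp hE hsupE hsup (by omega)
    have htC : t ∈ Subgroup.centralizer (F : Set G) := Subgroup.mem_centralizer_iff.2 fun y hy =>
      congrArg Subtype.val (mul_comm' (⟨y, hFE hy⟩ : E) ⟨t, htE⟩)
    refine hN' _ (⟨t, htC⟩ : Subgroup.centralizer (F : Set G))
      (oddCoreFree_centralizer hM hdef hexp hE hFE hF (by omega))
      (((Nat.factorization_le_iff_dvd Nat.card_pos.ne' Nat.card_pos.ne').2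
        (Subgroup.card_subgroup_dvd_card _) 2).trans ha) ?_ ?_
    · rw [← Subgroup.orderOf_coe]
      refine orderOf_eq_prime (by rw [pow_two]; exact hexp t htE) fun h => htF ?_
      change t = 1 at h
      rw [h]; exact one_mem _
    · refine le_trans ?_ hrec
      refine Nat.card_le_card_of_injective (fun x => ⟨((x.1 : Subgroup.centralizer (F : Set G)) : G),
        ?_⟩) fun x y h => Subtype.ext (Subtype.ext (congrArg Subtype.val h :))
      have hx := congrArg Subtype.val (Subgroup.mem_centralizer_singleton_iff.1 x.2)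
      have hle : F ⊔ Subgroup.zpowers t ≤ Subgroup.centralizer
          ({((x.1 : Subgroup.centralizer (F : Set G)) : G)} : Set G) := sup_le
        (fun b hb => Subgroup.mem_centralizer_singleton_iff.2
          (Subgroup.mem_centralizer_iff.1 x.1.2 b hb))
        (Subgroup.zpowers_le.2 (Subgroup.mem_centralizer_singleton_iff.2 hx.symm))
      exact Subgroup.mem_centralizer_iff.2 fun y hy =>
        Subgroup.mem_centralizer_singleton_iff.1 (hle hy)


/-- For every natural number a there is a bound N with the following property. Let G be a finite group with Sylow 2-subgroups of order 2^a and r ≥ 0 such that G has no non-principal 2-block (relative to a maximal ideal of the algebraic integers containing 2) of defect ≥ r, and suppose a Sylow 2-subgroup of G contains an elementary abelian subgroup of order 2^(r+1). Then the order of G is at most N. -/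
theorem result (a : ℕ) : ∃ N : ℕ, ∀ (G : Type u) [Group G] [Finite G] (M : Ideal Cfsg.AlgInt) (r : ℕ) (P : Sylow 2 G), Cfsg.IsPModular 2 M → Nat.card P = 2 ^ a → (∀ B : Set (Cfsg.IrrCharacter G), Cfsg.IsPBlock M B → B ≠ Cfsg.principalBlock M G → Cfsg.blockDefect 2 B < r) → (∃ E : Subgroup G, E ≤ (P : Subgroup G) ∧ IsMulCommutative E ∧ (∀ x ∈ E, x * x = 1) ∧ Nat.card E = 2 ^ (r + 1)) → Nat.card G ≤ N := by
  choose N hN using exists_centralizer_bound.{u} a
  refine ⟨(Finset.range (a + 1)).sup N, fun G _ _ M r P hM hP hdef ⟨E, hEP, hcomm, hexp, hE⟩ => ?_⟩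
  haveI : Fact (Nat.Prime 2) := ⟨Nat.prime_two⟩
  have hra : r + 1 ≤ a := by
    rw [← Nat.pow_le_pow_iff_right (show 1 < 2 by norm_num), ← hE, ← hP]
    exact Subgroup.card_le_of_le hEP
  have ha : (Nat.card G).factorization 2 ≤ a := by
    rw [← Nat.pow_le_pow_iff_right (show 1 < 2 by norm_num), ← hP, P.card_eq_multiplicity]
  have h := hN r G M r E ⊥ 0 hM ha hdef hcomm hexp hE bot_le (by rw [Subgroup.card_bot, pow_zero])
    (by omega)
  have htop : Subgroup.centralizer ((⊥ : Subgroup G) : Set G) = ⊤ := by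
    refine eq_top_iff.2 fun x _ => Subgroup.mem_centralizer_iff.2 fun y hy => ?_
    rw [Subgroup.mem_bot.1 hy, one_mul, mul_one]
  rw [htop, Subgroup.card_top] at h
  exact h.trans (Finset.le_sup (f := N) (Finset.mem_range.2 (by omega)))

end Cfsg.Agent.S4719
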