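import Cfsg.Statements.S4720
import Cfsg.Agent.Lib.Block.PrincipalColumns

set_option autoImplicit false
open Cfsg

namespace Cfsg.Agent.S4720

/-- Let p be a prime, M a maximal ideal of the algebraic integers containing p, P a p-subgroup of the finite group G, N a subgroup with P ≤ N ≤ N_G(P), and U a nonempty subset of P normalized by N such that an element of U and an element of P that are conjugate in G are already conjugate in N, and such that λ(C_G(y)) = w·#C_N(y) for every y ∈ U with one rational number w, where λ(X) denotes the sum of the squares of the degrees of the irreducible characters in the principal p-block of X. For a complex function θ on P and χ in the principal block of G put a_χ(θ) = #P⁻¹ Σ_{y ∈ P} χ(y) θ(y⁻¹). Then for generalized characters θ, η of P with θ vanishing outside U, Σ_χ a_χ(θ)·conj(a_χ(η)) = (w/#P²)·Σ_{y ∈ P} θ(y)·conj(Σ_{x ∈ N} η(x y x⁻¹)) (η extended by zero off P; the conjugates lie in P), the first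 sum over the principal p-block of G. -/
theorem result {G : Type*} [Group G] [Finite G] (p : ℕ) [Fact p.Prime] (M : Ideal Cfsg.AlgInt) (hM : Cfsg.IsPModular p M) (P : Subgroup G) (hP : IsPGroup p P) (N : Subgroup G) (hPN : P ≤ N) (hNN : N ≤ Subgroup.normalizer (P : Set G)) (U : Set G) (hUne : U.Nonempty) (hUP : U ⊆ (P : Set G)) (hUN : ∀ n ∈ N, ∀ u ∈ U, n * u * n⁻¹ ∈ U) (hfus : ∀ u ∈ U, ∀ g : G, g * u * g⁻¹ ∈ (P : Set G) → ∃ n ∈ N, n * u * n⁻¹ = g * u * g⁻¹) (w : ℚ) (hw : ∀ y ∈ U, ((∑ᶠ ψ ∈ Cfsg.principalBlock M ↥(Subgroup.centralizer ({y} : Set G)), Cfsg.charDegree (ψ : ↥(Subgroup.centralizer ({y} : Set G)) → ℂ) ^ 2) : ℚ) = w * Nat.card ↥(N ⊓ Subgroup.centralizer ({y} : Set G))) (θ η : ↥P → ℂ) (hθ : Cfsg.IsGeneralizedCharacter ↥P θ) (hη : Cfsg.IsGeneralizedCharacter ↥P η) (hθU : ∀ y : ↥P, (y : G) ∉ U → θ y = 0) : ∑ᶠ χ ∈ Cfsg.principalBlock M G, ((Nat.card ↥P : ℂ)⁻¹ * ∑ᶠ y : ↥P, (χ : G → ℂ) (y : G) * θ y⁻¹) * (starRingEnd ℂ) ((Nat.card ↥P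 : ℂ)⁻¹ * ∑ᶠ y : ↥P, (χ : G → ℂ) (y : G) * η y⁻¹) = ((w : ℂ) / ((Nat.card ↥P : ℂ) ^ 2)) * ∑ᶠ y : ↥P, θ y * (starRingEnd ℂ) (∑ᶠ x : ↥N, Cfsg.extendByZero P η ((x : G) * (y : G) * (x : G)⁻¹)) := by
  classical
  haveI := Fintype.ofFinite G
  haveI := Fintype.ofFinite P
  haveI := Fintype.ofFinite N
  have hpk : ∀ y : P, ∃ k : ℕ, orderOf (y : G) = p ^ k := fun y => by
    obtain ⟨k, hk⟩ := IsPGroup.iff_orderOf.1 hP y
    exact ⟨k, by rw [← hk, Subgroup.orderOf_coe]⟩
  have hw' : ∀ y ∈ U, Lib.Block.principalDegSq M (Subgroup.centralizer ({y} : Set G)) =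
      (w : ℂ) * (Nat.card ↥(N ⊓ Subgroup.centralizer ({y} : Set G)) : ℂ) := by
    intro y hy
    have h := congrArg (fun t : ℚ => (t : ℂ)) (hw y hy)
    rw [Lib.Block.principalDegSq, finsum_mem_eq_toFinset_sum]
    simp only [finsum_mem_eq_toFinset_sum] at h
    push_cast at h
    exact h
  have hinv : ∀ a : G, Subgroup.centralizer ({a⁻¹} : Set G) = Subgroup.centralizer ({a} : Set G) := by
    intro a
    ext c
    rw [Subgroup.mem_centralizer_singleton_iff, Subgroup.mem_centralizer_singleton_iff]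
    exact ⟨fun h => (Commute.inv_right_iff.1 (h : Commute c a⁻¹)).eq,
      fun h => (Commute.inv_right (h : Commute c a)).eq⟩
  have hcinv : ∀ a b : G, IsConj a⁻¹ b⁻¹ ↔ IsConj a b := by
    intro a b
    constructor
    · intro h
      obtain ⟨c, hc⟩ := isConj_iff.1 h
      exact isConj_iff.2 ⟨c, inv_injective (by rw [← hc]; group)⟩
    · intro h
      obtain ⟨c, hc⟩ := isConj_iff.1 h
      exact isConj_iff.2 ⟨c, by rw [← hc]; group⟩
  simp only [finsum_mem_eq_toFinset_sum]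
  simp only [finsum_eq_sum_of_fintype]
  calc ∑ χ ∈ (Cfsg.principalBlock M G).toFinset,
        ((Nat.card ↥P : ℂ)⁻¹ * ∑ y : ↥P, (χ : G → ℂ) (y : G) * θ y⁻¹) *
          (starRingEnd ℂ) ((Nat.card ↥P : ℂ)⁻¹ * ∑ y : ↥P, (χ : G → ℂ) (y : G) * η y⁻¹)
      = ((Nat.card ↥P : ℂ)⁻¹ * (Nat.card ↥P : ℂ)⁻¹) * ∑ a : ↥P, ∑ b : ↥P,
          θ a⁻¹ * (starRingEnd ℂ) (η b⁻¹) * ∑ χ ∈ (Cfsg.principalBlock M G).toFinset,
            (χ : G → ℂ) (a : G) * (starRingEnd ℂ) ((χ : G → ℂ) (b : G)) := by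
        simp only [map_mul, map_inv₀, map_natCast, map_sum, Finset.mul_sum, Finset.sum_mul]
        rw [Finset.sum_comm]
        conv_lhs => enter [2, i]; rw [Finset.sum_comm]
        conv_lhs => rw [Finset.sum_comm]
        refine Finset.sum_congr rfl fun a _ => Finset.sum_congr rfl fun b _ =>
          Finset.sum_congr rfl fun χ _ => ?_
        ring
    _ = ((Nat.card ↥P : ℂ)⁻¹ * (Nat.card ↥P : ℂ)⁻¹) * ∑ y : ↥P, θ y *
          ((w : ℂ) * (starRingEnd ℂ)
            (∑ x : ↥N, Cfsg.extendByZero P η ((x : G) * (y : G) * (x : G)⁻¹))) := by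
        congr 1
        refine Fintype.sum_equiv (Equiv.inv ↥P) _ _ fun a => ?_
        simp only [Equiv.inv_apply]
        by_cases hy : ((a⁻¹ : ↥P) : G) ∈ U
        · rw [Lib.Block.sum_conj_orbit hNN (fun g hg => hfus _ hy g hg) η, map_mul, map_natCast,
            ← mul_assoc (w : ℂ), ← hw' _ hy, map_sum, Finset.mul_sum, Finset.mul_sum]
          refine Fintype.sum_equiv (Equiv.inv ↥P) _ _ fun b => ?_
          rw [← finsum_mem_eq_toFinset_sum,
            Lib.Block.principal_column hM (hpk a) (hpk b)]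
          simp only [Equiv.inv_apply, InvMemClass.coe_inv, hinv, hcinv]
          split_ifs <;> simp [mul_comm, mul_left_comm]
        · simp [hθU _ hy]
    _ = _ := by
        rw [Finset.mul_sum, Finset.mul_sum]
        refine Finset.sum_congr rfl fun y _ => ?_
        ring

end Cfsg.Agent.S4720
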