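import Cfsg.Statements.S4721
import Cfsg.Agent.Lib.Block.PrincipalFreeThree
-- import your own Cfsg.Agent.* helpers here

set_option autoImplicit false
open Cfsg

namespace Cfsg.Agent.S4721

open Cfsg.Lib Cfsg.Lib.Block in
/-- Let p be a prime, M a maximal ideal of the algebraic integers containing p, and G a finite group with a nontrivial abelian Sylow p-subgroup P, N = N_G(P), C = C_G(P), such that N/C is cyclic of order 3, #P > 4, and C_G(y) ∩ N = C for every non-identity y ∈ P. Then the principal p-block is the disjoint union of a set X of exactly 3 characters containing the principal character and a set Y of (#P − 1)/3 characters, with signs a_χ = ±1 (χ ∈ X, a = 1 at the principal character) and δ = ±1 such that every χ ∈ X takes the value a_χ at every element whose p-part is a non-identity element of P, and there is a map ζ from the non-principal linear characters of P onto Y, constant on N-conjugacy classes, with ζ_ψ(z) =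 δ·Σ ψ'(y) over the N-orbit of ψ, for z with p-part y ≠ 1 in P. If moreover G has an involution lying in no proper normal subgroup of G, then exactly two of the three numbers −δ and a_χ (χ ∈ X non-principal) equal −1, and the product of the degrees of the two non-principal members of X and of any member of Y is a perfect square. -/
theorem result {G : Type*} [Group G] [Finite G] (p : ℕ) [Fact p.Prime] (M : Ideal Cfsg.AlgInt) (hM : Cfsg.IsPModular p M) (P : Sylow p G) (hab : IsMulCommutative P) (hP1 : Nat.card P ≠ 1) (hCN : (Subgroup.centralizer ((P : Subgroup G) : Set G)).relIndex (Subgroup.normalizer ((P : Subgroup G) : Set G)) = 3) (hcyc : ∃ g : G, g ∈ Subgroup.normalizer ((P : Subgroup G) : Set G) ∧ Subgroup.centralizer ((P : Subgroup G) : Set G) ⊔ Subgroup.zpowers g = Subgroup.normalizer ((P : Subgroup G) : Set G)) (hm2 : 3 + 1 < Nat.card P) (hfrob : ∀ y : G, y ∈ (P : Subgroup G) → y ≠ 1 → Subgroup.centralizer ({y} : Set G)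 ⊓ Subgroup.normalizer ((P : Subgroup G) : Set G) = Subgroup.centralizer ((P : Subgroup G) : Set G)) : ∃ (X Y : Set (Cfsg.IrrCharacter G)), Cfsg.principalBlock M G = X ∪ Y ∧ Disjoint X Y ∧ Nat.card X = 3 ∧ Nat.card Y = (Nat.card P - 1) / 3 ∧ (∃ χ₁ ∈ X, (χ₁ : G → ℂ) = fun _ => 1) ∧ ∃ (a : Cfsg.IrrCharacter G → ℤ) (δ : ℤ) (ζ : (↥(P : Subgroup G) →* ℂˣ) → Cfsg.IrrCharacter G), (δ = 1 ∨ δ = -1) ∧ (∀ χ ∈ X, (a χ = 1 ∨ a χ = -1) ∧ ∀ z y : G, Cfsg.IsPPart p z y → y ∈ (P : Subgroup G) → y ≠ 1 → (χ : G → ℂ) z = (a χ : ℂ)) ∧ (∀ ψ : ↥(P : Subgroup G) →* ℂˣ, ψ ≠ 1 → ζ ψ ∈ Y) ∧ (∀ η ∈ Y, ∃ ψ : ↥(P : Subgroup G) →* ℂˣ, ψ ≠ 1 ∧ ζ ψ = η) ∧ (∀ ψ ψ' : ↥(P : Subgroup G) →* ℂˣ, ψ ≠ 1 → (∃ n : G, n ∈ Subgroup.normalizer ((P : Subgroup G) : Set G) ∧ ∀ w w' : ↥(P : Subgroup G), (w' : G) = n * w * n⁻¹ → ψ' w' = ψ w) → ζ ψ' = ζ ψ) ∧ (∀ ψ : ↥(P : Subgroup G) →* ℂˣ, ψ ≠ 1 → ∀ (z : G) (y : ↥(P : Subgroup G)), Cfsg.IsPPart p z (y : G) → (y : G) ≠ 1 → (ζ ψ :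 G → ℂ) z = (δ : ℂ) * ∑ᶠ ψ' ∈ {ψ' : ↥(P : Subgroup G) →* ℂˣ | ∃ n : G, n ∈ Subgroup.normalizer ((P : Subgroup G) : Set G) ∧ ∀ w w' : ↥(P : Subgroup G), (w' : G) = n * w * n⁻¹ → ψ' w' = ψ w}, ((ψ' y : ℂˣ) : ℂ)) ∧ ((∃ t : G, orderOf t = 2 ∧ ∀ K : Subgroup G, K.Normal → t ∈ K → K = ⊤) → Nat.card {χ : Cfsg.IrrCharacter G // χ ∈ X ∧ (χ : G → ℂ) ≠ (fun _ => 1) ∧ a χ = -1} + (if δ = 1 then 1 else 0) = 2 ∧ ∀ η ∈ Y, IsSquare (Cfsg.charDegree (η : G → ℂ) * ∏ᶠ χ ∈ {χ : Cfsg.IrrCharacter G | χ ∈ X ∧ (χ : G → ℂ) ≠ fun _ => 1}, Cfsg.charDegree (χ : G → ℂ))) := by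
  classical
  haveI := Fintype.ofFinite G
  haveI := hab
  have hfree : FreeAction P := hfrob
  obtain ⟨y, n, δ, S, h2, hX3, hn⟩ := exists_freeShape_three hM hfree hCN hm2
  have hcard := card_homOrb hfree hCN
  have hr : (Nat.card P - 1) / 3 = Fintype.card (HomOrb P) := by
    rw [← Nat.card_eq_fintype_card, ← hcard, Nat.mul_div_cancel _ (by omega)]
  have hsub : Set.range y ⊆ principalBlock M G := by rintro _ ⟨j, rfl⟩; exact S.mem j
  refine ⟨principalBlock M G \ Set.range y, Set.range y,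
    (Set.sdiff_union_of_subset hsub).symm, Set.disjoint_sdiff_left, hX3, ?_,
    ⟨trivChar G, ⟨trivChar_mem_principal hM, S.triv_not_range hM h2⟩, trivChar_coe⟩,
    fun χ => -n χ, δ,
    fun ψ => if h : ψ ≠ 1 then y (Quotient.mk _ ⟨ψ, h⟩) else trivChar G,
    S.sign, fun χ hχ => ⟨?_, fun z u hz hu hu1 => S.value_X hM hfree hχ.1 hχ.2 hz hu hu1⟩,
    ?_, ?_, ?_, ?_, ?_⟩
  · rw [Nat.card_coe_set_eq, Set.ncard_range_of_injective S.inj, Nat.card_eq_fintype_card, hr]
  · rcases hn χ hχ.1 hχ.2 with h | h <;> simp [h]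
  · intro ψ hψ
    dsimp only
    rw [dif_pos hψ]
    exact ⟨_, rfl⟩
  · rintro η ⟨j, rfl⟩
    induction j using Quotient.inductionOn with
    | h ψ => exact ⟨ψ.1, ψ.2, dif_pos ψ.2⟩
  · intro ψ ψ' hψ h
    have h' : ConjHom P ψ ψ' := h
    dsimp only
    rw [dif_pos hψ, dif_pos (h'.ne_one hψ)]
    exact congrArg y (Quotient.sound h'.symm)
  · intro ψ hψ z v hz hv
    dsimp only
    rw [dif_pos hψ, S.value_Y hM hfree ⟨ψ, hψ⟩ hz hv, neg_zero, Int.cast_zero, zero_add]
    rfl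
  · rintro ⟨t, ht, hK⟩
    obtain ⟨x₁, x₂, hx12, hset, h1, h2', hcount, hsq⟩ :=
      S.involution hM hfree hCN h2 hm2 hX3 hn ht hK
    have hS : {χ : IrrCharacter G | χ ∈ principalBlock M G \ Set.range y ∧
        (χ : G → ℂ) ≠ fun _ => 1} = {x₁, x₂} := by
      ext χ
      have ht1 : ∀ η : IrrCharacter G, (η : G → ℂ) = (fun _ => 1) ↔ η = trivChar G := fun η => by
        rw [← trivChar_coe]; exact Subtype.ext_iff.symm
      simp only [Set.mem_ofPred_eq, hset, ne_eq, ht1, Set.mem_insert_iff, Set.mem_singleton_iff]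
      constructor
      · rintro ⟨h, hne⟩
        exact h.resolve_left hne
      · rintro (rfl | rfl)
        · exact ⟨Or.inr (Or.inl rfl), h1⟩
        · exact ⟨Or.inr (Or.inr rfl), h2'⟩
    refine ⟨?_, ?_⟩
    · have e : Nat.card {χ : IrrCharacter G // χ ∈ principalBlock M G \ Set.range y ∧
          (χ : G → ℂ) ≠ (fun _ => 1) ∧ -n χ = -1} =
          (({x₁, x₂} : Finset (IrrCharacter G)).filter fun χ => -n χ = -1).card := by
        rw [← Nat.card_eq_finsetCard]
        refine Nat.card_congr (Equiv.subtypeEquivRight fun χ => ?_)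
        have := Set.ext_iff.1 hS χ
        simp only [Set.mem_ofPred_eq, Set.mem_insert_iff, Set.mem_singleton_iff] at this
        simp only [Finset.mem_filter, Finset.mem_insert, Finset.mem_singleton, ← this, and_assoc]
      rw [e, Finset.card_filter, Finset.sum_pair hx12]
      exact hcount
    · rintro η ⟨j, rfl⟩
      rw [hS, finprod_mem_pair hx12]
      exact hsq j

end Cfsg.Agent.S4721
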