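import Cfsg.Statements.S4723
import Cfsg.Agent.Lib.Block.CoverStab

set_option autoImplicit false
open Cfsg

namespace Cfsg.Agent.S4723

/-- Let p be a prime, M a maximal ideal of the algebraic integers containing p, H a normal subgroup of the finite group G and b a p-block of H. Let T be the stabilizer of b in G. Then b contains a character θ of height zero whose own stabilizer in G (the elements g with θ(g h g⁻¹) = θ(h) for all h ∈ H) has index prime to p in T, i.e. contains a Sylow p-subgroup of T. -/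
theorem result {G : Type*} [Group G] [Finite G] (p : ℕ) [Fact p.Prime] (M : Ideal Cfsg.AlgInt) (hM : Cfsg.IsPModular p M) (H : Subgroup G) [H.Normal] (b : Set (Cfsg.IrrCharacter ↥H)) (hb : Cfsg.IsPBlock M b) (T : Subgroup G) (hT : (∀ g : G, g ∈ T ↔ ∀ θ ∈ b, ∀ θ' : Cfsg.IrrCharacter ↥H, (∀ h h' : ↥H, (h' : G) = g * h * g⁻¹ → (θ' : ↥H → ℂ) h' = (θ : ↥H → ℂ) h) → θ' ∈ b)) : ∃ θ ∈ b, Cfsg.blockHeight p b (θ : ↥H → ℂ) = 0 ∧ ∃ S : Subgroup G, S ≤ T ∧ (∀ g : G, g ∈ S ↔ (g ∈ T ∧ ∀ h h' : ↥H, (h' : G) = g * h * g⁻¹ → (θ : ↥H → ℂ) h' = (θ : ↥H → ℂ) h)) ∧ ¬ p ∣ S.relIndex T := by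
  haveI := Fintype.ofFinite G
  haveI := Fintype.ofFinite H
  have hHn : H.Normal := inferInstance
  have hT' : Lib.Block.IsBlockStab T b := by
    intro g
    constructor
    · intro hg θ hθ θ' he
      refine (hT g⁻¹).1 (T.inv_mem hg) θ hθ θ' fun a a' ha => ?_
      rw [he a']
      refine congrArg _ (Subtype.ext ?_)
      show g * (a' : G) * g⁻¹ = (a : G)
      rw [ha]
      group
    · intro h
      have h1 : g⁻¹ ∈ T := by
        refine (hT g⁻¹).2 fun θ hθ θ' he => h θ hθ θ' fun n => ?_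
        refine he ⟨g * n * g⁻¹, hHn.conj_mem n n.2 g⟩ n ?_
        show (n : G) = g⁻¹ * (g * n * g⁻¹) * g⁻¹⁻¹
        group
      simpa using T.inv_mem h1
  have hHT : H ≤ T := fun x hx => (hT x).2 fun θ hθ θ' he => by
    rw [show θ' = θ from Subtype.ext (funext fun a' => by
      rw [he ((⟨x, hx⟩ : H)⁻¹ * a' * ⟨x, hx⟩) a' (by simp [mul_assoc])]
      conv_rhs => rw [← θ.2.isClassFunction a' (⟨x, hx⟩ : H)⁻¹]
      simp)]
    exact hθ
  obtain ⟨θ, hθ, h0, hidx⟩ := Lib.Block.exists_height_zero_stable hM hb hT' hHT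
  refine ⟨θ, hθ, h0, Lib.Char.inertia H (θ : H → ℂ) ⊓ T, inf_le_right, fun g => ?_, ?_⟩
  · rw [Subgroup.mem_inf, Lib.Char.mem_inertia_iff, and_comm]
    refine and_congr_right fun _ => ⟨fun h a a' ha => ?_, fun h a => h a _ rfl⟩
    rw [show a' = ⟨g * a * g⁻¹, hHn.conj_mem a a.2 g⟩ from Subtype.ext ha]
    exact h a
  · rw [Subgroup.inf_relIndex_right]
    exact hidx

end Cfsg.Agent.S4723
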