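import Cfsg.Statements.S4724
import Cfsg.Agent.Lib.Perm.UniquePDegree.OddCase
import Cfsg.Agent.Lib.Perm.UniquePDegree.EvenCase
import Cfsg.Agent.Lib.Perm.UniquePDegree.Identify
-- import your own Cfsg.Agent.* helpers here

set_option autoImplicit false
open Cfsg

namespace Cfsg.Agent.S4724

/-- Let G be a transitive permutation group of prime degree p having exactly one irreducible character of degree p. Let P be a Sylow p-subgroup and suppose N_G(P) = P·E for a subgroup E with P ∩ E = 1, such that the normalizer of E has order 2·#E and E meets each of its conjugates by elements outside its normalizer trivially. Then p is 5, 7 or 11 and G is isomorphic to PSL(2, p). -/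
theorem result {α : Type*} [Fintype α] [DecidableEq α] {p : ℕ} [Fact p.Prime] (hα : Fintype.card α = p) (G : Subgroup (Equiv.Perm α)) [MulAction.IsPretransitive G α] (huniq : ∃! χ : Cfsg.IrrCharacter G, Cfsg.charDegree (χ : G → ℂ) = p) (P : Sylow p G) (E : Subgroup G) (hPE : (P : Subgroup G) ⊔ E = Subgroup.normalizer ((P : Subgroup G) : Set G)) (hPE' : (P : Subgroup G) ⊓ E = ⊥) (hNE : Nat.card (Subgroup.normalizer (E : Set G)) = 2 * Nat.card E) (hTI : ∀ g : G, g ∉ Subgroup.normalizer (E : Set G) → E ⊓ E.map (MulAut.conj g).toMonoidHom = ⊥) : (p = 5 ∨ p = 7 ∨ p = 11) ∧ ∃ (F : Type) (_ : Field F) (_ : Fintype F), Fintype.card F = p ∧ Nonempty (G ≃* Matrix.ProjectiveSpecialLinearGroup (Fin 2) F) := by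
  classical
  obtain ⟨⟨C⟩, hsimple, hnab, hun⟩ :=
    Cfsg.Lib.UniquePDegree.exists_config hα G huniq P E hPE hPE' hNE hTI
  haveI := hsimple
  have hp5 := C.hp5
  have hne : Nonempty α := Fintype.card_pos_iff.1 (by omega)
  obtain ⟨x⟩ := hne
  set H : Subgroup G := MulAction.stabilizer G x with hHdef
  have hH : H.index = p := by
    rw [hHdef, MulAction.index_stabilizer_of_transitive, Nat.card_eq_fintype_card, hα]
  have hle : Nat.card G ≤ p.factorial := by
    refine (Subgroup.card_le_card_group G).trans_eq ?_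
    rw [Nat.card_eq_fintype_card, Fintype.card_perm, hα]
  rcases Nat.even_or_odd (orderOf C.y) with heven | hodd
  · have h4 := C.mod_four hα hnab heven
    rcases Cfsg.Lib.GW.simpleGW G hnab (C.sylowDihedral heven hnab) with
      ⟨F, iF, iFF, hFodd, hF3, ⟨e⟩⟩ | ⟨⟨e⟩⟩
    · obtain ⟨hq, hcases⟩ := Cfsg.Lib.UniquePDegree.eq_of_psl (p := p) hFodd hF3 hp5
        ((Nat.card_congr e.toEquiv).symm.trans_le hle) (H.map (e : _ →* _))
        (by rw [Subgroup.index_map_equiv H e, hH])
      exact ⟨hcases, F, iF, iFF, hq, ⟨e⟩⟩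
    · exfalso
      have hcard : Nat.card G = 2520 := by
        rw [Nat.card_congr e.toEquiv, nat_card_alternatingGroup, Nat.card_fin]
        rfl
      have hdvd : p ∣ Nat.card G := hH ▸ H.index_dvd_card
      have hp' : p.Prime := Fact.out
      rw [hcard, show (2520 : ℕ) = 2 ^ 3 * 3 ^ 2 * 5 * 7 by norm_num] at hdvd
      rcases hp'.dvd_mul.1 hdvd with hd | hd
      · rcases hp'.dvd_mul.1 hd with hd' | hd'
        · rcases hp'.dvd_mul.1 hd' with hd'' | hd''
          · have := (Nat.prime_dvd_prime_iff_eq hp' Nat.prime_two).1 (hp'.dvd_of_dvd_pow hd'')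
            omega
          · have := (Nat.prime_dvd_prime_iff_eq hp' Nat.prime_three).1 (hp'.dvd_of_dvd_pow hd'')
            omega
        · have := (Nat.prime_dvd_prime_iff_eq hp' Nat.prime_five).1 hd'
          subst this
          rw [hcard] at hle
          norm_num [Nat.factorial] at hle
      · have := (Nat.prime_dvd_prime_iff_eq hp' (by norm_num : Nat.Prime 7)).1 hd
        omega
  · haveI : Fintype G := Fintype.ofFinite G
    obtain ⟨e⟩ := C.psl_of_odd hodd hnab hun H hH
    have hp' : p.Prime := Fact.out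
    obtain ⟨hq, hcases⟩ := Cfsg.Lib.UniquePDegree.eq_of_psl (p := p) (F := ZMod p)
      (by rw [ZMod.card]; exact hp'.odd_of_ne_two (by omega)) (by rw [ZMod.card]; omega) hp5
      ((Nat.card_congr e.toEquiv).symm.trans_le hle) (H.map (e : _ →* _))
      (by rw [Subgroup.index_map_equiv H e, hH])
    exact ⟨hcases, ZMod p, inferInstance, inferInstance, ZMod.card p, ⟨e⟩⟩

end Cfsg.Agent.S4724
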