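import Cfsg.Statements.S4726
import Cfsg.Agent.Lib.Block.InducedCentralizer

set_option autoImplicit false
open Cfsg

namespace Cfsg.Agent.S4726

/-- Let p be a prime, M a maximal ideal of the algebraic integers containing p, H a subgroup of the finite group G and b a p-block of H with defect group D₀ such that C_G(D₀) ≤ H. Then b induces a block of G, and for every block B of G induced by b there is a defect group D of B with Z(D) ≤ Z(D₀) ≤ D₀ ≤ D (as subgroups of G). In particular, if the defect groups of B are abelian then D₀ is a defect group of B. -/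
theorem result {G : Type*} [Group G] [Finite G] (p : ℕ) [Fact p.Prime] (M : Ideal Cfsg.AlgInt) (hM : Cfsg.IsPModular p M) (H : Subgroup G) (b : Set (Cfsg.IrrCharacter ↥H)) (hb : Cfsg.IsPBlock M b) (D₀ : Subgroup ↥H) (hD₀ : Cfsg.IsDefectGroup p M b D₀) (hC : Subgroup.centralizer ((D₀.map H.subtype : Subgroup G) : Set G) ≤ H) : Cfsg.InducedBlockDefined M H b ∧ ∀ B : Set (Cfsg.IrrCharacter G), Cfsg.IsInducedBlock M H b B → (∃ D : Subgroup G, Cfsg.IsDefectGroup p M B D ∧ (Subgroup.center ↥D).map D.subtype ≤ ((Subgroup.center ↥D₀).map D₀.subtype).map H.subtype ∧ ((Subgroup.center ↥D₀).map D₀.subtype).map H.subtype ≤ D₀.map H.subtype ∧ D₀.map H.subtype ≤ D) ∧ (∀ D : Subgroup G, Cfsg.IsDefectGroup p M B D → IsMulCommutative ↥D → Cfsg.IsDefectGroup p M B (D₀.map H.subtype)) := by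
  classical
  haveI := Fintype.ofFinite G
  haveI := Fintype.ofFinite H
  obtain ⟨hdef, hall⟩ := Cfsg.Lib.Block.induced_of_centralizer_le hM hb hD₀ hC
  refine ⟨hdef, fun B hB => ?_⟩
  obtain ⟨E, hE, hle, hcen⟩ := hall B hB
  refine ⟨⟨E, hE, ?_, ?_, hle⟩, fun D hD hDab => ?_⟩
  · rintro _ ⟨⟨x, hx⟩, hxc, rfl⟩
    have hc : ∀ w ∈ E, x * w = w * x := fun w hw =>
      (congrArg Subtype.val (Subgroup.mem_center_iff.1 hxc ⟨w, hw⟩)).symm
    obtain ⟨z, hz, hzx⟩ := hcen x hx hc
    refine ⟨z, ⟨⟨z, hz⟩, Subgroup.mem_center_iff.2 fun w => Subtype.ext (Subtype.ext ?_), rfl⟩, hzx⟩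
    show ((w : H) : G) * (z : G) = (z : G) * ((w : H) : G)
    rw [show (z : G) = x from hzx]
    exact (hc _ (hle ⟨(w : H), w.2, rfl⟩)).symm
  · exact Subgroup.map_mono (Subgroup.map_subtype_le _)
  · obtain ⟨y, rfl⟩ := Cfsg.Lib.Block.exists_conj_defectGroup hM hB.2.1 hD hE
    have hEc : ∀ x ∈ D.map (MulAut.conj y).toMonoidHom,
        ∀ w ∈ D.map (MulAut.conj y).toMonoidHom, x * w = w * x := by
      rintro _ ⟨a, ha, rfl⟩ _ ⟨c, hc, rfl⟩
      rw [← map_mul, ← map_mul]
      exact congrArg _ (congrArg Subtype.val (hDab.1.1 ⟨a, ha⟩ ⟨c, hc⟩))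
    rw [le_antisymm hle fun x hx => hcen x hx (hEc x hx)]
    exact hE

end Cfsg.Agent.S4726
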