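import Cfsg.Statements.S4727
import Cfsg.Agent.Lib.Block.PairKernel
import Cfsg.Agent.Lib.Block.Subsection

set_option autoImplicit false
open Cfsg
open Cfsg.Lib.Block

namespace Cfsg.Agent.S4727

/-- Let p be a prime, π a set of primes containing p, M a maximal ideal of the algebraic integers containing p, and B a p-block of the finite group G with defect group D; let B₁ be the block of N_G(D) with defect group D that induces B (the Brauer correspondent of B). Suppose every element of O_π'(N_G(D)), the largest normal subgroup of N_G(D) whose order has no prime divisor in π, lies in the kernel of every member of B₁. If y is a p-element whose centralizer C has a normal Hall π'-subgroup (every element of C whose order has no prime divisor in π lies in O_π'(C)), then χ(y x) = χ(y) for every χ ∈ B and every x ∈ C whose order has no prime divisor in π. -/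
theorem result {G : Type*} [Group G] [Finite G] (p : ℕ) [Fact p.Prime] (M : Ideal Cfsg.AlgInt) (hM : Cfsg.IsPModular p M) (π : Set ℕ) (hpπ : p ∈ π) (B : Set (Cfsg.IrrCharacter G)) (hB : Cfsg.IsPBlock M B) (D : Subgroup G) (hBD : Cfsg.IsDefectGroup p M B D) (B₁ : Set (Cfsg.IrrCharacter ↥(Subgroup.normalizer (D : Set G)))) (hB₁ : Cfsg.IsInducedBlock M (Subgroup.normalizer (D : Set G)) B₁ B) (hB₁D : Cfsg.IsDefectGroup p M B₁ (D.subgroupOf (Subgroup.normalizer (D : Set G)))) (hker : ∀ n : ↥(Subgroup.normalizer (D : Set G)), n ∈ Cfsg.piCore {q | q ∉ π} ↥(Subgroup.normalizer (D : Set G)) → n ∈ Cfsg.blockKer B₁) (y : G) (hy : ∃ k : ℕ, orderOf y = p ^ k) (hC : ∀ x : ↥(Subgroup.centralizer ({y} : Set G)), (∀ q : ℕ, q.Prime → q ∣ orderOf x → q ∉ π) → x ∈ Cfsg.piCore {q | q ∉ π} ↥(Subgroup.centralizer ({y} : Set G))) : ∀ χ ∈ B, ∀ x : G, x ∈ Subgroup.centralizer ({y} : Set G) → (∀ q : ℕ, q.Prime → q ∣ orderOf x → q ∉ π) → (χ : G → ℂ) (y * x) = (χ : G → ℂ) y := by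
  classical
  haveI := Fintype.ofFinite G
  intro χ hχ x hx hord
  set C := Subgroup.centralizer ({y} : Set G) with hCdef
  haveI := Fintype.ofFinite C
  have hyC : y ∈ C := Subgroup.mem_centralizer_iff.2 fun z hz => by
    rw [Set.mem_singleton_iff] at hz; rw [hz]
  have hcomm : ∀ h : C, Commute y (h : G) := fun h =>
    Subgroup.mem_centralizer_iff.1 h.2 y rfl
  have hreg : IsPRegular p (⟨x, hx⟩ : C) := fun h => by
    rw [← Subgroup.orderOf_coe] at h
    exact hord p Fact.out h hpπ
  have hone : IsPRegular p (1 : C) := fun h => by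
    rw [orderOf_one] at h
    exact (Fact.out : p.Prime).not_dvd_one h
  have hcen : (⟨y, hyC⟩ : C) ∈ Subgroup.center C :=
    Subgroup.mem_center_iff.2 fun g => Subtype.ext ((hcomm g).eq.symm)
  have hconst : ∀ η ∈ indSet M C B, (η : C → ℂ) ⟨x, hx⟩ = (η : C → ℂ) 1 := by
    intro η hη
    obtain ⟨D₀, hD₀⟩ := exists_defectGroup hM hη.1
    have hy0 : (⟨y, hyC⟩ : C) ∈ D₀ := mem_defectGroup_of_central hM hη.1 hD₀ hcen
      (hy.imp fun k hk => by rw [← Subgroup.orderOf_coe]; exact hk)
    have hCL : Subgroup.centralizer ((D₀.map C.subtype : Subgroup G) : Set G) ≤ C := fun g hg =>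
      Subgroup.mem_centralizer_iff.2 fun z hz => by
        rw [Set.mem_singleton_iff] at hz
        subst hz
        exact Subgroup.mem_centralizer_iff.1 hg _ ⟨⟨_, hyC⟩, hy0, rfl⟩
    have hk := kills_of_correspondent hM (fun h : p ∈ {q : ℕ | q ∉ π} => h hpπ) hBD hB₁ hB₁D
      (fun ψ hψ c hc => hker c (coe_mem_core.1 hc) ψ hψ) hη hD₀ hCL
    refine hk η (self_mem_blockOf hM η) ⟨x, hx⟩ (coe_mem_core.2 (hC ⟨x, hx⟩ fun q hq hd => ?_))
    exact hord q hq (by rwa [← Subgroup.orderOf_coe] at hd)
  have h1 := blockPart_indSet hM hy hcomm le_rfl hB χ (y := (⟨x, hx⟩ : C)) hreg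
  have h2 := blockPart_indSet hM hy hcomm le_rfl hB χ (y := (1 : C)) hone
  rw [if_pos hχ] at h1 h2
  rw [OneMemClass.coe_one, mul_one] at h2
  rw [← h2, ← h1]
  simp only [blockPart]
  exact finsum_mem_congr rfl fun η hη => by rw [hconst η hη]

end Cfsg.Agent.S4727
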