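import Cfsg.Statements.S4729
import Cfsg.Agent.Lib.Block.Basic
import Cfsg.Agent.Lib.Block.PPart

set_option autoImplicit false
open Cfsg

namespace Cfsg.Agent.S4729

/-- Let p be a prime, M a maximal ideal of the algebraic integers containing p, G a finite perfect group and P a Sylow p-subgroup. If the principal p-block of G contains a faithful irreducible character of degree less than 2p, then the centralizer of P is a p-group. -/
theorem result {G : Type*} [Group G] [Finite G] (p : ℕ) [Fact p.Prime] (M : Ideal Cfsg.AlgInt) (hM : Cfsg.IsPModular p M) (hperf : commutator G = ⊤) (P : Sylow p G) (χ : Cfsg.IrrCharacter G) (hχ : χ ∈ Cfsg.principalBlock M G) (hfaith : ∀ g : G, (χ : G → ℂ) g = (χ : G → ℂ) 1 → g = 1) (hdeg : Cfsg.charDegree (χ : G → ℂ) < 2 * p) : IsPGroup p ↥(Subgroup.centralizer ((P : Subgroup G) : Set G)) := by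
  classical
  haveI := Fintype.ofFinite G
  have hp : p.Prime := Fact.out
  intro x
  set y : G := Cfsg.Lib.Block.pReg p (x : G) with hy
  have hyC : y ∈ Subgroup.centralizer ((P : Subgroup G) : Set G) :=
    Subgroup.zpowers_le.2 x.2 (Cfsg.Lib.Block.pReg_mem_zpowers (x : G))
  suffices hy1 : y = 1 by
    obtain ⟨k, hk⟩ := Cfsg.Lib.Block.exists_pow_pPt (p := p) (x : G)
    refine ⟨k, Subtype.ext ?_⟩
    have h := Cfsg.Lib.Block.pPt_mul_pReg (p := p) (x : G)
    rw [← hy, hy1, mul_one] at h
    rw [h] at hk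
    rw [SubmonoidClass.coe_pow, hk]
    rfl
  have hr : ¬ p ∣ orderOf y := Cfsg.Lib.Block.not_dvd_orderOf_pReg (x : G)
  obtain ⟨n, ρ, hirr, hρ⟩ := χ.2
  have hn : (χ : G → ℂ) 1 = (n : ℂ) := by
    rw [← hρ, Representation.char_one, Module.finrank_fin_fun]
  have hn2 : n < 2 * p := by rwa [Cfsg.Lib.Block.charDegree_eq_of_apply_one hn] at hdeg
  have hn0 : n ≠ 0 := fun h => χ.2.apply_one_ne_zero (by rw [hn, h, Nat.cast_zero])
  obtain ⟨b, μ, hb, hμ⟩ := Cfsg.Lib.Char.exists_eigenbasis ρ y
  have hpow : ∀ (k : ℕ) i, ρ (y ^ k) (b i) = μ i ^ k • b i := by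
    intro k i
    induction k with
    | zero => simp
    | succ m ih => rw [pow_succ, map_mul, Module.End.mul_apply, hb, map_smul, ih, smul_smul, pow_succ']
  have hval : ∀ k : ℕ, (χ : G → ℂ) (y ^ k) = ∑ i, μ i ^ k := fun k => by
    rw [← hρ]
    exact Cfsg.Lib.Char.trace_eq_sum_of_eigenbasis _ b _ (hpow k)
  -- congruence with the degree
  have hcong : ∀ g ∈ Subgroup.centralizer ((P : Subgroup G) : Set G),
      Cfsg.MemLocalIdeal M ((n : ℂ) - (χ : G → ℂ) g) := by
    intro g hg
    have hle : (P : Subgroup G) ≤ Subgroup.centralizer ({g} : Set G) := fun u hu =>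
      Subgroup.mem_centralizer_singleton_iff.2 (hg u hu)
    have hK : ¬ p ∣ (Subgroup.centralizer ({g} : Set G)).index := fun h =>
      P.not_dvd_index (h.trans (Subgroup.index_dvd_of_le hle))
    have h : Cfsg.SameBlock M (fun _ : G => (1 : ℂ)) (χ : G → ℂ) := hχ
    have h' := h g
    simp only [Cfsg.centralChar, mul_one, div_one, hn] at h'
    have hK0 : ((Subgroup.centralizer ({g} : Set G)).index : ℂ) ≠ 0 :=
      Nat.cast_ne_zero.2 Subgroup.index_ne_zero_of_finite
    have h2 := Cfsg.Lib.Block.memLocalIdeal_mul_left hM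
      (mul_mem (Cfsg.Lib.Block.natCast_mem_locRing hM n)
        (Cfsg.Lib.Block.inv_natCast_mem_locRing hM hK)) h'
    have hn' : (n : ℂ) ≠ 0 := Nat.cast_ne_zero.2 hn0
    convert h2 using 1
    field_simp
  have hone : ∀ i, μ i = 1 := by
    -- multiplicities of the eigenvalues other than one
    have hmult : ∀ c : ℂ, c ≠ 1 → c ^ orderOf y = 1 →
        p ∣ (Finset.univ.filter fun i => μ i = c).card := by
      intro c hc hcr
      have hc0 : c ≠ 0 := fun h => by
        rw [h, zero_pow (orderOf_pos y).ne'] at hcr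
        exact zero_ne_one hcr
      have hgeom : ∀ z : ℂ, z ^ orderOf y = 1 →
          ∑ j ∈ Finset.range (orderOf y), z ^ j = if z = 1 then (orderOf y : ℂ) else 0 := by
        intro z hz
        split_ifs with h1
        · simp [h1]
        · rw [geom_sum_eq h1, hz, sub_self, zero_div]
      have hkey : ((orderOf y * (Finset.univ.filter fun i => μ i = c).card : ℕ) : ℂ) =
          ∑ j ∈ Finset.range (orderOf y), ((χ : G → ℂ) (y ^ j) - (n : ℂ)) * (c⁻¹) ^ j := by
        simp only [sub_mul, Finset.sum_sub_distrib, ← Finset.mul_sum, hval, Finset.sum_mul]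
        rw [hgeom _ (by rw [inv_pow, hcr, inv_one]), if_neg (fun h => hc (inv_eq_one.1 h)),
          mul_zero, sub_zero, Finset.sum_comm,
          Finset.sum_congr rfl (fun i _ => Finset.sum_congr rfl fun j _ => (mul_pow (μ i) c⁻¹ j).symm),
          Finset.sum_congr rfl (fun i _ => hgeom (μ i * c⁻¹)
            (by rw [mul_pow, hμ, inv_pow, hcr, inv_one, mul_one]))]
        rw [Finset.sum_congr rfl (fun i _ => show (if μ i * c⁻¹ = 1 then (orderOf y : ℂ) else 0) =
          if μ i = c then (orderOf y : ℂ) else 0 from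
            if_congr (mul_inv_eq_one₀ hc0) rfl rfl), ← Finset.sum_filter, Finset.sum_const,
          nsmul_eq_mul]
        push_cast
        ring
      refine (hp.dvd_mul.1 ((Cfsg.Lib.Block.memLocalIdeal_natCast_iff hM _).1 ?_)).resolve_left hr
      rw [hkey]
      refine Cfsg.Lib.Block.memLocalIdeal_sum hM _ _ fun j _ => ?_
      have h1 := Cfsg.Lib.Block.memLocalIdeal_neg hM (hcong _ (pow_mem hyC j))
      rw [neg_sub] at h1
      refine Cfsg.Lib.Block.memLocalIdeal_mul_right hM h1 ?_
      refine Cfsg.Lib.Block.isIntegral_mem_locRing hM ?_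
      refine IsIntegral.of_pow (orderOf_pos y) ?_
      rw [← pow_mul, mul_comm, pow_mul, inv_pow, hcr, inv_one, one_pow]
      exact isIntegral_one
    by_contra hall
    push_neg at hall
    obtain ⟨i₀, hi₀⟩ := hall
    set S := Finset.univ.filter fun i => μ i = μ i₀ with hS
    have hSp : p ≤ S.card := Nat.le_of_dvd (Finset.card_pos.2
      ⟨i₀, Finset.mem_filter.2 ⟨Finset.mem_univ _, rfl⟩⟩) (hmult _ hi₀ (hμ i₀))
    have hdim : Fintype.card (Fin (Module.finrank ℂ (Fin n → ℂ))) = n := by
      rw [Fintype.card_fin, Module.finrank_fin_fun]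
    have hother : ∀ i, i ∉ S → μ i = 1 := by
      intro i hi
      by_contra h1
      set S' := Finset.univ.filter fun j => μ j = μ i with hS'
      have hS'p : p ≤ S'.card := Nat.le_of_dvd (Finset.card_pos.2
        ⟨i, Finset.mem_filter.2 ⟨Finset.mem_univ _, rfl⟩⟩) (hmult _ h1 (hμ i))
      have hdis : Disjoint S S' := Finset.disjoint_left.2 fun j hj hj' => hi
        (Finset.mem_filter.2 ⟨Finset.mem_univ _,
          (Finset.mem_filter.1 hj').2.symm.trans (Finset.mem_filter.1 hj).2⟩)
      have := Finset.card_le_univ (S ∪ S')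
      rw [Finset.card_union_of_disjoint hdis, hdim] at this
      omega
    have hSeq : S.card = p := by
      obtain ⟨t, ht⟩ : p ∣ S.card := hmult _ hi₀ (hμ i₀)
      have := Finset.card_le_univ S
      rw [hdim] at this
      rcases Nat.lt_or_ge t 2 with ht2 | ht2
      · interval_cases t <;> omega
      · nlinarith
    -- the determinant is trivial
    let φ : G →* ℂˣ := (LinearMap.det.comp ρ).toHomUnits
    have hφ : φ y = 1 := by
      have hmem : y ∈ φ.ker := Abelianization.commutator_subset_ker φ (hperf ▸ Subgroup.mem_top y)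
      exact hmem
    have hdet : LinearMap.det (ρ y) = 1 := congrArg Units.val hφ
    have hprod : LinearMap.det (ρ y) = ∏ i, μ i := by
      rw [← LinearMap.det_toMatrix b, show LinearMap.toMatrix b b (ρ y) = Matrix.diagonal μ from ?_,
        Matrix.det_diagonal]
      ext i j
      rw [LinearMap.toMatrix_apply, hb, map_smul, b.repr_self, Finsupp.smul_apply,
        Finsupp.single_apply, Matrix.diagonal_apply]
      by_cases h : i = j
      · subst h; simp
      · simp [h, Ne.symm h]
    rw [hprod, ← Finset.prod_subset (Finset.subset_univ S) (fun i _ hi => hother i hi),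
      Finset.prod_congr rfl (fun i hi => (Finset.mem_filter.1 hi).2), Finset.prod_const, hSeq] at hdet
    have h1 : orderOf (μ i₀) ∣ p := orderOf_dvd_iff_pow_eq_one.2 hdet
    have h2 : orderOf (μ i₀) ∣ orderOf y := orderOf_dvd_iff_pow_eq_one.2 (hμ i₀)
    rcases (Nat.dvd_prime hp).1 h1 with h | h
    · exact hi₀ (orderOf_eq_one_iff.1 h)
    · exact hr (h ▸ h2)
  refine hfaith y ?_
  have h := hval 1
  rw [pow_one] at h
  rw [h, hn]
  simp [hone]

end Cfsg.Agent.S4729
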