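import Cfsg.Statements.S4730
import Cfsg.Agent.Lib.Block.Defect
import Cfsg.Agent.Lib.Char.Burnside
import Cfsg.Agent.Lib.Char.Formulas
import Mathlib.GroupTheory.Sylow

set_option autoImplicit false
open Cfsg Cfsg.Lib.Block
open scoped ComplexConjugate commutatorElement

namespace Cfsg.Agent.S4730

/-- A faithful character of `p`-power degree vanishes at nontrivial elements with centralizer of
`p'`-index, when the centre is trivial. -/
theorem vanish_of_central {G : Type*} [Group G] [Fintype G] {p : ℕ} [Fact p.Prime]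
    (hZ : Subgroup.center G = ⊥) (χ : IrrCharacter G)
    (hfaith : ∀ g : G, (χ : G → ℂ) g = (χ : G → ℂ) 1 → g = 1) {n : ℕ}
    (hdeg : charDegree (χ : G → ℂ) = p ^ n) {z : G}
    (hz : ¬ p ∣ (Subgroup.centralizer ({z} : Set G)).index) (hz1 : z ≠ 1) :
    (χ : G → ℂ) z = 0 := by
  obtain ⟨d, ρ, hρ, hρχ⟩ := χ.2
  haveI := hρ
  have hd : d = p ^ n := by
    rw [← hdeg]
    refine (charDegree_eq_of_apply_one ?_).symm
    rw [← hρχ, Representation.char_one, Module.finrank_fin_fun]
  have hcop : Nat.Coprime (Module.finrank ℂ (Fin d → ℂ)) (Cfsg.Lib.Char.classFinset z).card := by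
    rw [Module.finrank_fin_fun, hd, Cfsg.Lib.Char.card_classFinset]
    exact ((Fact.out : p.Prime).coprime_iff_not_dvd.mpr hz).pow_left n
  rcases Cfsg.Lib.Char.character_zero_or_norm ρ z hcop with h | h
  · rw [← hρχ]; exact h
  exfalso
  obtain ⟨c, hc⟩ := (Cfsg.Lib.Char.norm_character_eq_iff ρ z).mp h
  apply hz1
  rw [← Subgroup.mem_bot, ← hZ, Subgroup.mem_center_iff]
  intro g
  rw [← commutatorElement_eq_one_iff_mul_comm]
  refine hfaith _ ?_
  have hone : ρ ⁅g, z⁆ = 1 := by
    have hinv : ρ z * ρ z⁻¹ = 1 := by rw [← map_mul, mul_inv_cancel, map_one]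
    rw [commutatorElement_def, map_mul, map_mul, map_mul, hc] at *
    refine LinearMap.ext fun v => ?_
    have h1 := LinearMap.congr_fun hinv v
    simp only [Module.End.mul_apply, Module.End.one_apply, LinearMap.smul_apply,
      LinearMap.id_apply] at h1 ⊢
    rw [map_smul, ← Module.End.mul_apply (ρ g) (ρ g⁻¹), ← map_mul, mul_inv_cancel, map_one,
      Module.End.one_apply, h1]
  rw [← hρχ]
  show LinearMap.trace ℂ _ (ρ ⁅g, z⁆) = LinearMap.trace ℂ _ (ρ 1)
  rw [hone, map_one ρ]

/-- Let p be a prime, M a maximal ideal of the algebraic integers containing p, and G a finite group with trivial centre, Sylow p-subgroup P of order p^a and centre Z(P) of order p^b. If χ is a faithful irreducible character of G whose degree is a power of p, then the p-block of χ has defect at most a − b; in particular, if P is abelian then χ lies in a block of defect zero. -/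
theorem result {G : Type*} [Group G] [Finite G] (p : ℕ) [Fact p.Prime] (M : Ideal Cfsg.AlgInt) (hM : Cfsg.IsPModular p M) (hZ : Subgroup.center G = ⊥) (P : Sylow p G) (a b : ℕ) (ha : Nat.card P = p ^ a) (hb : Nat.card (Subgroup.center ↥(P : Subgroup G)) = p ^ b) (χ : Cfsg.IrrCharacter G) (hfaith : ∀ g : G, (χ : G → ℂ) g = (χ : G → ℂ) 1 → g = 1) (n : ℕ) (hdeg : Cfsg.charDegree (χ : G → ℂ) = p ^ n) : Cfsg.blockDefect p (Cfsg.blockOf M (χ : G → ℂ)) ≤ a - b ∧ (IsMulCommutative ↥(P : Subgroup G) → Cfsg.blockDefect p (Cfsg.blockOf M (χ : G → ℂ)) = 0) := by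
  classical
  haveI := Fintype.ofFinite G
  have hp : p.Prime := Fact.out
  have hfac : (Nat.card G).factorization p = a := by
    have h1 := P.card_eq_multiplicity
    rw [ha] at h1
    exact (Nat.pow_right_injective hp.two_le h1).symm
  set Z : Subgroup G := (Subgroup.center ↥(P : Subgroup G)).map (P : Subgroup G).subtype with hZdef
  haveI := Fintype.ofFinite Z
  have hZc : Nat.card Z = p ^ b := by
    rw [← hb]
    exact Nat.card_congr ((Subgroup.center ↥(P : Subgroup G)).equivMapOfInjective _
      (P : Subgroup G).subtype_injective).toEquiv.symm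
  have hidx : ∀ z ∈ Z, ¬ p ∣ (Subgroup.centralizer ({z} : Set G)).index := by
    rintro z ⟨y, hy, rfl⟩ hdvd
    apply P.not_dvd_index
    refine hdvd.trans (Subgroup.index_dvd_of_le fun x hx => ?_)
    rw [Subgroup.mem_centralizer_singleton_iff]
    exact congrArg Subtype.val (Subgroup.mem_center_iff.mp hy ⟨x, hx⟩)
  have key : ∀ ψ ∈ blockOf M (χ : G → ℂ), b ≤ (charDegree (ψ : G → ℂ)).factorization p := by
    intro ψ hψ
    by_contra hlt
    push Not at hlt
    set d := charDegree (ψ : G → ℂ) with hd
    have hd0 : (d : ℂ) ≠ 0 := by exact_mod_cast (charDegree_pos ψ).ne'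
    have hr : ∀ z : Z, (z : G) ≠ 1 → MemLocalIdeal M ((ψ : G → ℂ) z / d) := by
      intro z hz1
      have h1 := hψ (z : G)
      have h0 : centralChar (χ : G → ℂ) (z : G) = 0 := by
        rw [centralChar, vanish_of_central hZ χ hfaith hdeg (hidx _ z.2) hz1, mul_zero, zero_div]
      rw [h0, zero_sub] at h1
      have h2 : MemLocalIdeal M (centralChar (ψ : G → ℂ) (z : G)) := by
        have := memLocalIdeal_mul_left hM ((mem_locRing hM).2 (neg_mem (one_mem _) : (-1 : ℂ) ∈ locRing hM)) h1
        simpa using this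
      have hu : ((Subgroup.centralizer ({(z : G)} : Set G)).index : ℂ)⁻¹ ∈ locRing hM :=
        inv_mem_locRing_of_not_ideal hM (natCast_mem _ _)
          (natCast_not_ideal hM (hidx _ z.2))
      have h3 := memLocalIdeal_mul_left hM ((mem_locRing hM).2 hu) h2
      rw [centralChar, apply_one_eq_charDegree, ← hd, mul_div_assoc, inv_mul_cancel_left₀
        (Nat.cast_ne_zero.mpr Subgroup.index_ne_zero_of_finite)] at h3
      exact h3
    -- the multiplicity of the trivial character of `Z`
    obtain ⟨m, hm⟩ := (ψ.2.isCharacter.comp Z.subtype).exists_nat_classInner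
      (Cfsg.Lib.Char.isCharacter_one : IsCharacter Z fun _ => 1)
    rw [Cfsg.Lib.Char.classInner_one_right, hZc] at hm
    set u : ℂ := ∑ z : Z, (ψ : G → ℂ) (z : G) / d with hu
    have hmem : ∀ z : Z, (ψ : G → ℂ) (z : G) / d ∈ locRing hM := by
      intro z
      by_cases hz1 : (z : G) = 1
      · rw [hz1, apply_one_eq_charDegree, ← hd, div_self hd0]; exact one_mem _
      · exact memLocRing_of_memLocalIdeal hM (hr z hz1)
    have hres : res hM u = 1 := by
      rw [hu, res_sum hM _ _ fun z _ => hmem z, Finset.sum_eq_single (1 : Z)]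
      · rw [OneMemClass.coe_one, apply_one_eq_charDegree, ← hd, div_self hd0, res_one]
      · intro z _ hz
        exact (res_eq_zero_iff hM (hmem z)).2 (hr z fun h => hz (Subtype.ext h))
      · intro h; exact absurd (Finset.mem_univ _) h
    have hueq : u = ((p ^ b * m : ℕ) : ℂ) / d := by
      rw [hu, ← Finset.sum_div]
      congr 1
      have hp0 : ((p ^ b : ℕ) : ℂ) ≠ 0 := by exact_mod_cast (pow_pos hp.pos b).ne'
      rw [Nat.cast_mul, ← hm]
      simp only [Function.comp_apply, Subgroup.coe_subtype]
      rw [← mul_assoc, mul_inv_cancel₀ hp0, one_mul]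
    have hideal : MemLocalIdeal M u := by
      rw [hueq]
      refine natCast_div_mem_ideal hM (charDegree_pos ψ).ne' ?_
      rcases Nat.eq_zero_or_pos m with h0 | h0
      · exact Or.inl (by rw [h0, mul_zero])
      · right
        rw [Nat.factorization_mul (pow_pos hp.pos b).ne' h0.ne', Finsupp.add_apply,
          hp.factorization_pow, Finsupp.single_eq_same]
        omega
    rw [(res_eq_zero_iff hM (memLocRing_of_memLocalIdeal hM hideal)).2 hideal] at hres
    exact zero_ne_one hres
  have hB : b ≤ sInf ((fun ψ : IrrCharacter G => (charDegree (ψ : G → ℂ)).factorization p) ''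
      blockOf M (χ : G → ℂ)) := by
    refine le_csInf ⟨_, ⟨χ, self_mem_blockOf hM χ, rfl⟩⟩ ?_
    rintro i ⟨ψ, hψ, rfl⟩
    exact key ψ hψ
  refine ⟨?_, fun hcomm => ?_⟩
  · rw [blockDefect, hfac]; omega
  · have hab : a = b := by
      haveI := hcomm
      have htop : Subgroup.center ↥(P : Subgroup G) = ⊤ :=
        (Subgroup.eq_top_iff' _).mpr fun x => Subgroup.mem_center_iff.mpr fun y => mul_comm' y x
      rw [htop, Subgroup.card_top, show Nat.card ↥(P : Subgroup G) = p ^ a from ha] at hb
      exact Nat.pow_right_injective hp.two_le hb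
    rw [blockDefect, hfac]; omega

end Cfsg.Agent.S4730
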