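import Cfsg.Statements.S4731
import Cfsg.Agent.Lib.Block.Indep

set_option autoImplicit false
open Cfsg

namespace Cfsg.Agent.S4731

/-- Let p ≠ q be primes, M_p and M_q maximal ideals of the algebraic integers containing p and q respectively, and G a finite group with no element of order pq; let q^b be the q-part of the order of G. For a p-block B_p (relative to M_p), a q-block B_q (relative to M_q) and a p-singular element y, the sum of χ(1)χ(y) over the irreducible characters χ lying in both B_p and B_q is q^b times an algebraic integer. -/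
theorem result {G : Type*} [Group G] [Finite G] (p q : ℕ) [Fact p.Prime] [Fact q.Prime] (hpq : p ≠ q) (Mp Mq : Ideal Cfsg.AlgInt) (hMp : Cfsg.IsPModular p Mp) (hMq : Cfsg.IsPModular q Mq) (hno : ∀ g : G, orderOf g ≠ p * q) (b : ℕ) (hb : (Nat.card G).factorization q = b) (Bp : Set (Cfsg.IrrCharacter G)) (hBp : Cfsg.IsPBlock Mp Bp) (Bq : Set (Cfsg.IrrCharacter G)) (hBq : Cfsg.IsPBlock Mq Bq) (y : G) (hy : p ∣ orderOf y) : ∃ ω : Cfsg.AlgInt, ∑ᶠ χ ∈ Bp ∩ Bq, (Cfsg.charDegree (χ : G → ℂ) : ℂ) * (χ : G → ℂ) y = (q : ℂ) ^ b * (ω : ℂ) := by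
  classical
  haveI := Fintype.ofFinite G
  have hno' : ∀ g : G, p ∣ orderOf g → ¬ q ∣ orderOf g := by
    intro g h1 h2
    have hd : p * q ∣ orderOf g :=
      ((Nat.coprime_primes Fact.out Fact.out).2 hpq).mul_dvd_of_dvd_of_dvd h1 h2
    exact hno (g ^ (orderOf g / (p * q))) (orderOf_pow_orderOf_div (orderOf_pos g).ne' hd)
  obtain ⟨Q⟩ : Nonempty (Sylow q G) := inferInstance
  have h := Cfsg.Lib.Block.two_prime_column_integral hMp hMq hno' hBp hBq Q hy
  refine ⟨⟨_, h⟩, ?_⟩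
  have hQ : (Nat.card Q : ℂ) = (q : ℂ) ^ b := by
    rw [Q.card_eq_multiplicity, hb, Nat.cast_pow]
  have hne : (Nat.card Q : ℂ) ≠ 0 := by exact_mod_cast Nat.card_pos.ne'
  show _ = (q : ℂ) ^ b * ((Nat.card Q : ℂ)⁻¹ * _)
  rw [← hQ, mul_inv_cancel_left₀ hne]
  exact finsum_mem_congr rfl fun χ _ => by rw [Cfsg.Lib.Block.apply_one_eq_charDegree χ]

end Cfsg.Agent.S4731
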