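import Cfsg.Statements.S4732
import Cfsg.Agent.Lib.Linear.BrauerFeit.Linear
-- import your own Cfsg.Agent.* helpers here

set_option autoImplicit false
universe u v
open Cfsg

namespace Cfsg.Agent.S4732

/-- Let p be a prime. There is a function f of two natural-number arguments such that every finite group G admitting a faithful representation of degree n over a field of characteristic p, with Sylow p-subgroups of order p^m, has a normal abelian subgroup A with [G : A] < f(m, n). -/
theorem result (p : ℕ) [Fact p.Prime] : ∃ f : ℕ → ℕ → ℕ, ∀ (G : Type u) [Group G] [Finite G] (F : Type v) [Field F] [CharP F p] (n : ℕ) (ρ : Representation F G (Fin n → F)), Function.Injective ρ → ∀ m : ℕ, (Nat.card G).factorization p = m → ∃ A : Subgroup G, A.Normal ∧ IsMulCommutative A ∧ A.index < f m n := by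
  refine ⟨fun m n => (Cfsg.Lib.Linear.BrauerFeit.jordanBound p m n).factorial + 1,
    fun G _ _ F _ _ n ρ hinj m hm => ?_⟩
  haveI : CharP (AlgebraicClosure F) p :=
    charP_of_injective_algebraMap (algebraMap F (AlgebraicClosure F)).injective p
  let φ : Module.End F (Fin n → F) →* Module.End (AlgebraicClosure F) (Fin n → AlgebraicClosure F) :=
    ((Matrix.toLinAlgEquiv' (R := AlgebraicClosure F) (n := Fin n)).toAlgHom.toRingHom.toMonoidHom.comp
      ((algebraMap F (AlgebraicClosure F)).mapMatrix.toMonoidHom)).comp
      (LinearMap.toMatrixAlgEquiv' (R := F) (n := Fin n)).toAlgHom.toRingHom.toMonoidHom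
  have hφ : Function.Injective φ := by
    intro a b hab
    apply (LinearMap.toMatrixAlgEquiv' (R := F) (n := Fin n)).injective
    refine Matrix.map_injective (algebraMap F (AlgebraicClosure F)).injective ?_
    exact (Matrix.toLinAlgEquiv' (R := AlgebraicClosure F) (n := Fin n)).injective hab
  let ρ' : Representation (AlgebraicClosure F) G (Fin n → AlgebraicClosure F) := φ.comp ρ
  obtain ⟨A, hA, hAi⟩ := Cfsg.Lib.Linear.BrauerFeit.bdd (p := p) m n G (Fin n → AlgebraicClosure F) ρ'
    (hφ.comp hinj) (by simp) hm.le
  obtain ⟨N, hN, hNab, hNi⟩ := Cfsg.Lib.Linear.BrauerFeit.exists_normal_abelian hA hAi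
  exact ⟨N, hN, ⟨⟨fun a b => Subtype.ext (hNab a a.2 b b.2).eq⟩⟩,
    Nat.lt_succ_of_le (Nat.le_of_dvd (Nat.factorial_pos _) hNi)⟩

end Cfsg.Agent.S4732
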