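import Cfsg.Statements.S4733
import Cfsg.Agent.Lib.Block.BlockTrace

set_option autoImplicit false
open Cfsg

namespace Cfsg.Agent.S4733

/-- Let p be a prime, M a maximal ideal of the algebraic integers containing p, and B a p-block of the finite group G with k irreducible characters and p-regular rank l (the number of irreducible Brauer characters). Then l ≤ k, and the following are equivalent: B has defect 0; k = l = 1; k = l. -/
theorem result {G : Type*} [Group G] [Finite G] (p : ℕ) [Fact p.Prime] (M : Ideal Cfsg.AlgInt) (hM : Cfsg.IsPModular p M) (B : Set (Cfsg.IrrCharacter G)) (hB : Cfsg.IsPBlock M B) : Cfsg.blockRank p B ≤ Nat.card B ∧ (Cfsg.blockDefect p B = 0 ↔ (Nat.card B = 1 ∧ Cfsg.blockRank p B = 1)) ∧ (Cfsg.blockDefect p B = 0 ↔ Nat.card B = Cfsg.blockRank p B) := by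
  haveI : Fact p.Prime := ⟨hM.1⟩
  haveI := Fintype.ofFinite G
  have h0 : Cfsg.blockRank p B = Nat.card B → Cfsg.blockDefect p B = 0 :=
    Cfsg.Lib.Block.blockDefect_eq_zero_of_rank_eq_card hM hB
  refine ⟨Cfsg.Lib.Block.blockRank_le_card B, ⟨fun h => Cfsg.Lib.Block.card_eq_one_of_defect_zero hM hB h,
    fun h => h0 (h.2.trans h.1.symm)⟩, ⟨fun h => ?_, fun h => h0 h.symm⟩⟩
  obtain ⟨h1, h2⟩ := Cfsg.Lib.Block.card_eq_one_of_defect_zero hM hB h
  exact h1.trans h2.symm

end Cfsg.Agent.S4733
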