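import Cfsg.Statements.S4735
import Cfsg.Agent.Lib.Block.PrincipalSums

set_option autoImplicit false
open Cfsg

namespace Cfsg.Agent.S4735

/-- Let p be a prime, M a maximal ideal of the algebraic integers containing p, G a finite group, H = O_p'(G) and Ḡ = G/H. For x ∈ G write λ(G, x) for the sum of |χ(x)|^2 over the irreducible characters χ in the principal p-block of G. Then λ(G, x) is a positive integer, λ(G, x) = λ(Ḡ, x̄) where x̄ is the image of x, and λ(G, x) ≤ #C_Ḡ(x̄). Moreover λ(G, 1) = [G : H] if and only if the principal block is the only p-block of Ḡ. -/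
theorem result {G : Type*} [Group G] [Finite G] (p : ℕ) [Fact p.Prime] (M : Ideal Cfsg.AlgInt) (hM : Cfsg.IsPModular p M) (x : G) : (∃ n : ℕ, 0 < n ∧ ∑ᶠ χ ∈ Cfsg.principalBlock M G, Complex.normSq ((χ : G → ℂ) x) = n) ∧ ∑ᶠ χ ∈ Cfsg.principalBlock M G, Complex.normSq ((χ : G → ℂ) x) = ∑ᶠ ψ ∈ Cfsg.principalBlock M (G ⧸ Cfsg.pPrimeCore p G), Complex.normSq ((ψ : G ⧸ Cfsg.pPrimeCore p G → ℂ) (QuotientGroup.mk x)) ∧ ∑ᶠ χ ∈ Cfsg.principalBlock M G, Complex.normSq ((χ : G → ℂ) x) ≤ (Nat.card ↥(Subgroup.centralizer ({(QuotientGroup.mk x : G ⧸ Cfsg.pPrimeCore p G)} : Set (G ⧸ Cfsg.pPrimeCore p G))) : ℝ) ∧ ((∑ᶠ χ ∈ Cfsg.principalBlock M G, Cfsg.charDegree (χ : G → ℂ) ^ 2) = (Cfsg.pPrimeCore p G).index ↔ ∀ B : Set (Cfsg.IrrCharacter (G ⧸ Cfsg.pPrimeCore p G)), Cfsg.IsPBlock M B → B = Cfsg.principalBlock M (G ⧸ Cfsg.pPrimeCore p G)) := by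
  classical
  haveI := Fintype.ofFinite G
  set K := Cfsg.pPrimeCore p G with hK
  haveI := Fintype.ofFinite K
  haveI := Fintype.ofFinite (G ⧸ K)
  have hKp : ¬ p ∣ Nat.card K := Cfsg.Lib.Core.pPrimeCore_not_dvd p G
  refine ⟨Cfsg.Lib.Block.exists_nat_normSum hM x, Cfsg.Lib.Block.normSum_quotient K hM hKp x,
    ?_, ?_⟩
  · rw [Cfsg.Lib.Block.normSum_quotient K hM hKp x]
    exact Cfsg.Lib.Block.normSum_le hM _
  · rw [← Cfsg.Lib.Block.degSum_eq_card_iff hM, ← Subgroup.index_eq_card]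
    have h := Cfsg.Lib.Block.normSum_quotient K hM hKp (1 : G)
    have hsq : ∀ {H : Type _} [Group H] [Finite H] (χ : Cfsg.IrrCharacter H),
        Complex.normSq ((χ : H → ℂ) 1) = ((Cfsg.charDegree (χ : H → ℂ) ^ 2 : ℕ) : ℝ) := by
      intro H _ _ χ
      rw [Cfsg.Lib.Block.apply_one_eq_charDegree χ, Complex.normSq_natCast, Nat.cast_pow, pow_two]
    rw [QuotientGroup.mk_one, finsum_mem_eq_finite_toFinset_sum _ (Set.toFinite _),
      finsum_mem_eq_finite_toFinset_sum _ (Set.toFinite _),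
      Finset.sum_congr rfl fun χ _ => hsq χ, Finset.sum_congr rfl fun χ _ => hsq χ,
      ← Nat.cast_sum, ← Nat.cast_sum, Nat.cast_inj] at h
    rw [finsum_mem_eq_finite_toFinset_sum _ (Set.toFinite _),
      finsum_mem_eq_finite_toFinset_sum _ (Set.toFinite _), h]

end Cfsg.Agent.S4735
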