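import Cfsg.Statements.S4737
import Cfsg.Agent.Lib.Block.Defect
import Cfsg.Agent.Lib.Block.RegInt
import Mathlib.LinearAlgebra.Dimension.Constructions
import Mathlib.Algebra.CharP.Two

set_option autoImplicit false
set_option linter.unusedSectionVars false
set_option linter.style.haveILetI false
open Cfsg

namespace Cfsg.Agent.S4737

open Cfsg.Lib Cfsg.Lib.Block
open scoped ComplexConjugate

universe u

variable {G : Type u} [Group G] [Fintype G]

/-- The classes counted. -/
def Good (G : Type u) [Group G] (C : ConjClasses G) : Prop :=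
  ∃ g ∈ C.carrier, orderOf g = 3 ∧
    ∀ Q : Subgroup G, IsPGroup 2 ↥Q → g ∈ Subgroup.normalizer (Q : Set G) → Q = ⊥

variable {g : G} (hg : orderOf g = 3)
  (hQ : ∀ Q : Subgroup G, IsPGroup 2 ↥Q → g ∈ Subgroup.normalizer (Q : Set G) → Q = ⊥)

include hQ in
theorem centralizer_odd : ¬ 2 ∣ Nat.card (Subgroup.centralizer ({g} : Set G)) := by
  intro h
  haveI : Fact (Nat.Prime 2) := ⟨Nat.prime_two⟩
  obtain ⟨t, ht⟩ := exists_prime_orderOf_dvd_card' 2 h
  have ht' : orderOf (t : G) = 2 := by rw [Subgroup.orderOf_coe, ht]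
  have hgt : g * (t : G) * g⁻¹ = t := by
    have h1 := Subgroup.mem_centralizer_singleton_iff.mp t.2
    rw [← h1]; group
  have hbot := hQ (Subgroup.zpowers (t : G))
    (IsPGroup.of_card (n := 1) (by rw [Nat.card_zpowers, ht', pow_one])) (by
      rw [Subgroup.mem_normalizer_iff]
      intro y
      have hcz : ∀ z ∈ Subgroup.zpowers (t : G), g * z * g⁻¹ = z := by
        intro z hz
        obtain ⟨n, rfl⟩ := Subgroup.mem_zpowers_iff.mp hz
        rw [← conj_zpow, hgt]
      refine ⟨fun h => by rwa [hcz y h], fun h => ?_⟩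
      have h2 := hcz _ h
      have h3 : g * y * g⁻¹ = y := mul_left_cancel (mul_right_cancel h2)
      rwa [h3] at h)
  rw [Subgroup.zpowers_eq_bot] at hbot
  rw [hbot, orderOf_one] at ht'
  exact absurd ht' (by norm_num)

include hg hQ in
/-- No involution `x` has `x * g` of order dividing three. -/
theorem eq_one_of_involution {a : G} (hx : a * a = 1) (h3 : (a * g) ^ 3 = 1) : a = 1 := by
  have hg3 : g ^ 3 = 1 := hg ▸ pow_orderOf_eq_one g
  have hg3' : g * g * g = 1 := by rw [← hg3, pow_succ, pow_two]
  obtain ⟨b, hb⟩ : ∃ b, b = g * a * g⁻¹ := ⟨_, rfl⟩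
  obtain ⟨c, hc⟩ : ∃ c, c = g * b * g⁻¹ := ⟨_, rfl⟩
  have hbb : b * b = 1 := by rw [hb]; calc _ = g * (a * a) * g⁻¹ := by group
                                        _ = 1 := by rw [hx]; group
  have hcc : c * c = 1 := by rw [hc]; calc _ = g * (b * b) * g⁻¹ := by group
                                        _ = 1 := by rw [hbb]; group
  have habc : a * b * c = 1 := by
    calc a * b * c = (a * g) ^ 3 * (g * g * g)⁻¹ := by rw [hc, hb, pow_succ, pow_two]; group
      _ = 1 := by rw [h3, hg3']; group
  have hca : g * c * g⁻¹ = a := by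
    calc g * c * g⁻¹ = (g * g * g) * a * (g * g * g)⁻¹ := by rw [hc, hb]; group
      _ = a := by rw [hg3']; group
  have hab : a * b = c := by
    calc a * b = a * b * c * c⁻¹ := by group
      _ = c := by rw [habc, one_mul, inv_eq_of_mul_eq_one_right hcc]

  have hcomm : b * a = a * b := by
    calc b * a = (a * a) * b * a * (b * b) := by rw [hx, hbb]; group
      _ = a * ((a * b) * (a * b)) * b := by group
      _ = a * b := by rw [hab, hcc, mul_one, hab]
  let Q : Subgroup G :=
    { carrier := {y | y = 1 ∨ y = a ∨ y = b ∨ y = c}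
      one_mem' := Or.inl rfl
      mul_mem' := by
        have hac : a * c = b := by rw [← hab, ← mul_assoc, hx, one_mul]
        have hbc : b * c = a := by rw [← hab, ← hcomm, ← mul_assoc, hbb, one_mul]
        have hcb : c * b = a := by rw [← hab, mul_assoc, hbb, mul_one]
        have hca' : c * a = b := by rw [← hab, ← hcomm, mul_assoc, hx, mul_one]
        rintro y z (h1 | h1 | h1 | h1) (h2 | h2 | h2 | h2) <;> rw [h1, h2] <;>
          simp [hx, hbb, hcc, hab, hcomm, hac, hbc, hcb, hca']
      inv_mem' := by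
        rintro y (h1 | h1 | h1 | h1) <;> rw [h1]
        · exact Or.inl inv_one
        · exact Or.inr (Or.inl (inv_eq_of_mul_eq_one_right hx))
        · exact Or.inr (Or.inr (Or.inl (inv_eq_of_mul_eq_one_right hbb)))
        · exact Or.inr (Or.inr (Or.inr (inv_eq_of_mul_eq_one_right hcc))) }
  have hQp : IsPGroup 2 Q := by
    rintro ⟨y, hy⟩
    refine ⟨1, Subtype.ext ?_⟩
    rw [SubmonoidClass.coe_pow, pow_one, pow_two]
    show y * y = 1
    rcases hy with h1 | h1 | h1 | h1 <;> simp only [h1]
    exacts [one_mul 1, hx, hbb, hcc]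
  have hstep : ∀ y ∈ Q, g * y * g⁻¹ ∈ Q := by
    rintro y (h1 | h1 | h1 | h1) <;> rw [h1]
    · exact Or.inl (by group)
    · exact Or.inr (Or.inr (Or.inl hb.symm))
    · exact Or.inr (Or.inr (Or.inr hc.symm))
    · exact Or.inr (Or.inl hca)
  have hn : g ∈ Subgroup.normalizer (Q : Set G) := by
    rw [Subgroup.mem_normalizer_iff]
    refine fun y => ⟨hstep y, fun h => ?_⟩
    have h2 := hstep _ (hstep _ h)
    have e : g * (g * (g * y * g⁻¹) * g⁻¹) * g⁻¹ = (g * g * g) * y * (g * g * g)⁻¹ := by group
    rwa [e, hg3', one_mul, inv_one, mul_one] at h2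
  have hmem : a ∈ Q := Or.inr (Or.inl rfl)
  rw [hQ Q hQp hn, Subgroup.mem_bot] at hmem
  exact hmem

variable {M : Ideal AlgInt} (hM : IsPModular 2 M)

include hM in
theorem main :
    Nat.card {C : ConjClasses G // Good G C} ≤
      Nat.card {χ : IrrCharacter G //
        (charDegree (χ : G → ℂ)).factorization 2 = (Nat.card G).factorization 2} := by
  classical
  haveI := resField_charP hM
  haveI : Finite (ConjClasses G) := Quotient.finite _
  set ι := {C : ConjClasses G // Good G C}
  set DZ := {χ : IrrCharacter G //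
    (charDegree (χ : G → ℂ)).factorization 2 = (Nat.card G).factorization 2}
  haveI : Fintype ι := Fintype.ofFinite _
  haveI : Fintype DZ := Fintype.ofFinite _
  have hgood : ∀ i : ι, Good G i.1 := fun i => i.2
  choose r hr hr3 hrQ using hgood
  have hrmk : ∀ i, ConjClasses.mk (r i) = i.1 := fun i => ConjClasses.mem_carrier_iff_mk_eq.mp (hr i)
  set W : Matrix DZ ι (resField hM) :=
    Matrix.of fun χ i => res hM (centralChar (χ.1 : G → ℂ) (r i)) with hW
  suffices hinj : Function.Injective W.mulVecLin by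
    have h := LinearMap.finrank_le_finrank_of_injective hinj
    rwa [Module.finrank_fintype_fun_eq_card, Module.finrank_fintype_fun_eq_card,
      ← Nat.card_eq_fintype_card, ← Nat.card_eq_fintype_card] at h
  rw [← LinearMap.ker_eq_bot, LinearMap.ker_eq_bot']
  intro a₀ ha₀
  choose a ha using fun i => Ideal.Quotient.mk_surjective (I := locIdeal hM) (a₀ i)
  have hares : ∀ i, res hM (a i : ℂ) = a₀ i := fun i => by rw [res_coe, ← ha i]; rfl
  set v : IrrCharacter G → ℂ := ∑ i, (a i : ℂ) • fun χ : IrrCharacter G =>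
    centralChar (χ : G → ℂ) (r i) with hv
  have hzc : ∀ x, zc v x = ∑ i, if IsConj (r i) x then (a i : ℂ) else 0 := by
    intro x
    rw [hv, zc_sum]
    refine Finset.sum_congr rfl fun i _ => ?_
    rw [zc_smul, zc_centralChar]
    split_ifs <;> simp
  have hzloc : ∀ x, zc v x ∈ locRing hM := fun x => by
    rw [hzc]
    exact sum_mem fun i _ => by split_ifs <;> simp [(a i).2]
  set F : G → resField hM := fun x => res hM (zc v x) with hF
  -- the square of `v` is divisible by the prime
  have hsq : ∀ x, MemLocalIdeal M (zc (v * v) x) := by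
    intro x
    rw [zc, Finset.mul_sum]
    refine memLocalIdeal_sum hM _ _ fun χ _ => ?_
    rw [Pi.mul_apply]
    obtain ⟨d, hd0, hd⟩ := χ.2.exists_degree
    have hcd : charDegree (χ : G → ℂ) = d := by
      have := apply_one_eq_charDegree χ
      rw [hd] at this
      exact (Nat.cast_injective this).symm
    have hdvd : d ∣ Nat.card G := Char.degree_dvd_card χ.2 hd
    have hd0' : d ≠ 0 := fun h => Nat.card_pos.ne' (Nat.eq_zero_of_zero_dvd (h ▸ hdvd))
    have hχx : (χ : G → ℂ) x⁻¹ ∈ locRing hM :=
      isIntegral_mem_locRing hM (χ.2.isCharacter.isIntegral _)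
    have hvmem : v χ ∈ locRing hM := by
      simp only [hv, Finset.sum_apply, Pi.smul_apply, smul_eq_mul]
      exact sum_mem fun i _ => mul_mem (a i).2 (centralChar_mem_locRing hM χ _)
    by_cases hz : (charDegree (χ : G → ℂ)).factorization 2 = (Nat.card G).factorization 2
    · have hvi : MemLocalIdeal M (v χ) := by
        rw [← res_eq_zero_iff hM hvmem]
        have h := congrFun ha₀ ⟨χ, hz⟩
        rw [Matrix.mulVecLin_apply, Pi.zero_apply] at h
        rw [← h, hv, Finset.sum_apply]
        simp only [Pi.smul_apply, smul_eq_mul, Matrix.mulVec, dotProduct, hW, Matrix.of_apply]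
        rw [res_sum hM _ _ fun i _ => mul_mem (a i).2 (centralChar_mem_locRing hM χ _)]
        exact Finset.sum_congr rfl fun i _ => by
          rw [res_mul hM (a i).2 (centralChar_mem_locRing hM χ _), hares, mul_comm]
      have e : (Nat.card G : ℂ)⁻¹ * (v χ * v χ * (χ : G → ℂ) 1 * (χ : G → ℂ) x⁻¹) =
          (((d : ℂ) / (Nat.card G : ℂ)) * (χ : G → ℂ) x⁻¹ * v χ) * v χ := by
        rw [hd]; ring
      rw [e]
      refine memLocalIdeal_mul_left hM (mul_mem (mul_mem ?_ hχx) hvmem) hvi
      exact natCast_div_mem hM Nat.card_pos.ne' (Or.inr (by rw [← hcd, hz]))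
    · set L : ℂ := ∑ i, (a i : ℂ) * ((χ : G → ℂ) (r i) *
        ((Nat.card (Subgroup.centralizer ({r i} : Set G)) : ℕ) : ℂ)⁻¹) with hL
      have hLmem : L ∈ locRing hM := sum_mem fun i _ => mul_mem (a i).2 (mul_mem
        (isIntegral_mem_locRing hM (χ.2.isCharacter.isIntegral _))
        (inv_natCast_mem_locRing hM (centralizer_odd (hrQ i))))
      have hvL : v χ = (Nat.card G : ℂ) / (d : ℂ) * L := by
        simp only [hv, Finset.sum_apply, Pi.smul_apply, smul_eq_mul, hL, Finset.mul_sum, centralChar]
        refine Finset.sum_congr rfl fun i _ => ?_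
        have hidx : ((Subgroup.centralizer ({r i} : Set G)).index : ℂ) =
            (Nat.card G : ℂ) / (Nat.card (Subgroup.centralizer ({r i} : Set G)) : ℂ) := by
          rw [eq_div_iff (Nat.cast_ne_zero.mpr Nat.card_pos.ne'), ← Nat.cast_mul,
            Subgroup.index_mul_card]
        rw [hidx, hd]
        ring
      have e : (Nat.card G : ℂ)⁻¹ * (v χ * v χ * (χ : G → ℂ) 1 * (χ : G → ℂ) x⁻¹) =
          ((Nat.card G : ℂ) / (d : ℂ)) * (L * L * (χ : G → ℂ) x⁻¹) := by
        have h1 : (Nat.card G : ℂ) ≠ 0 := Char.card_cast_ne_zero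
        have h2 : (d : ℂ) ≠ 0 := Nat.cast_ne_zero.mpr hd0'
        rw [hd, hvL]
        field_simp
      rw [e]
      refine memLocalIdeal_mul_right hM (natCast_div_mem_ideal hM hd0' (Or.inr ?_))
        (mul_mem (mul_mem hLmem hLmem) hχx)
      have hle := (Nat.factorization_le_iff_dvd hd0' Nat.card_pos.ne').2 hdvd 2
      rw [hcd] at hz
      omega
  funext j
  set g := r j with hgdef
  have hg3 : g ^ 3 = 1 := hr3 j ▸ pow_orderOf_eq_one g
  have hFconj : ∀ x k : G, F (k * x * k⁻¹) = F x := fun x k => by
    simp only [hF, zc_conj_invariant]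
  have hFsupp : ∀ x, F x ≠ 0 → x ^ 3 = 1 := by
    intro x hx
    by_contra h3
    apply hx
    have h0 : zc v x = 0 := by
      rw [hzc]
      refine Finset.sum_eq_zero fun i _ => if_neg fun hc => h3 ?_
      obtain ⟨k, rfl⟩ := isConj_iff.mp hc
      rw [conj_pow, ← hr3 i, pow_orderOf_eq_one]; group
    simp [hF, h0, res_zero]
  have hFg : F g = a₀ j := by
    have h0 : zc v g = (a j : ℂ) := by
      rw [hzc, Finset.sum_eq_single j, if_pos (IsConj.refl _)]
      · intro i _ hne
        refine if_neg fun hc => hne (Subtype.ext ?_)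
        rw [← hrmk i, ← hrmk j]
        exact ConjClasses.mk_eq_mk_iff_isConj.mpr hc
      · simp
    simp [hF, h0, hares]
  -- the coefficient of the square at `g²`
  have hzero : ∑ x, F x * F (x⁻¹ * (g * g)) = 0 := by
    have h := (res_eq_zero_iff hM (memLocalRing_of_ideal (hsq (g * g)))).mpr (hsq (g * g))
    rw [zc_mul, res_sum hM _ _ fun x _ => mul_mem (hzloc x) (hzloc _)] at h
    rw [← h]
    exact Finset.sum_congr rfl fun x _ => (res_mul hM (hzloc x) (hzloc _)).symm
  have hσ : ∀ x, F (x⁻¹ * (g * g)) = F (g * x⁻¹ * g) := fun x => by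
    rw [← hFconj (x⁻¹ * (g * g)) g]
    congr 1
    group
  simp only [hσ] at hzero
  have hpair : ∑ x ∈ Finset.univ.erase g, F x * F (g * x⁻¹ * g) = 0 := by
    refine Finset.sum_involution (fun x _ => g * x⁻¹ * g) (fun x _ => ?_) (fun x hx hne0 hfix => ?_)
      (fun x hx => ?_) (fun x _ => by group)
    · rw [show g * (g * x⁻¹ * g)⁻¹ * g = x by group, mul_comm (F (g * x⁻¹ * g))]
      exact CharTwo.add_self_eq_zero _
    · have hx3 := hFsupp x (left_ne_zero_of_mul hne0)
      have h2 : x * g⁻¹ * (x * g⁻¹) = 1 := by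
        calc x * g⁻¹ * (x * g⁻¹) = x * g⁻¹ * ((g * x⁻¹ * g) * g⁻¹) := by rw [hfix]
          _ = 1 := by group
      have h3 := eq_one_of_involution (hr3 j) (hrQ j) h2
        (by rw [inv_mul_cancel_right]; exact hx3)
      exact Finset.ne_of_mem_erase hx (mul_inv_eq_one.mp h3)
    · refine Finset.mem_erase.mpr ⟨fun h => Finset.ne_of_mem_erase hx ?_, Finset.mem_univ _⟩
      have h2 := congrArg (fun y => g * y⁻¹ * g) h
      simpa [mul_assoc] using h2
  rw [← Finset.add_sum_erase _ _ (Finset.mem_univ g), hpair, add_zero,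
    show g * g⁻¹ * g = g by group, mul_self_eq_zero, hFg] at hzero
  exact hzero

/-- Let G be a finite group of order divisible by 6. Then the number of irreducible characters of G whose degree has the same 2-part as the order of G (the characters of 2-defect zero, each forming a 2-block of defect zero on its own) is at least the number of conjugacy classes of elements of order 3 that normalize no nontrivial 2-subgroup of G. In particular G has a 2-block of defect zero as soon as some element of order 3 normalizes no nontrivial 2-subgroup. -/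
theorem result {G : Type*} [Group G] [Finite G] (h6 : 6 ∣ Nat.card G) : Nat.card {C : ConjClasses G // ∃ g ∈ C.carrier, orderOf g = 3 ∧ ∀ Q : Subgroup G, IsPGroup 2 ↥Q → g ∈ Subgroup.normalizer (Q : Set G) → Q = ⊥} ≤ Nat.card {χ : Cfsg.IrrCharacter G // (Cfsg.charDegree (χ : G → ℂ)).factorization 2 = (Nat.card G).factorization 2} := by
  haveI := Fintype.ofFinite G
  obtain ⟨M, hM⟩ := Cfsg.Lib.Block.exists_isPModular (Nat.prime_two)
  exact main hM

end Cfsg.Agent.S4737
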