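import Cfsg.Statements.S4738
import Cfsg.Agent.Lib.Block.InvolutionDefectApps

set_option autoImplicit false
open Cfsg

namespace Cfsg.Agent.S4738

/-- Let p be an odd prime and G a finite group of even order containing no element of order 2p. Then either G has an irreducible character of p-defect zero (its degree has the same p-part as the order of G), or every Sylow p-subgroup of G is abelian and all involutions of G are conjugate. -/
theorem result {G : Type*} [Group G] [Finite G] (p : ℕ) [Fact p.Prime] (hp2 : p ≠ 2) (hG : Even (Nat.card G)) (h2p : ∀ g : G, orderOf g ≠ 2 * p) : (∃ χ : Cfsg.IrrCharacter G, (Cfsg.charDegree (χ : G → ℂ)).factorization p = (Nat.card G).factorization p) ∨ ((∀ P : Sylow p G, IsMulCommutative ↥(P : Subgroup G)) ∧ ∀ s t : G, orderOf s = 2 → orderOf t = 2 → IsConj s t) := by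
  haveI := Fintype.ofFinite G
  by_cases hnd : Cfsg.Lib.Block.HasDefectZero p G
  · exact Or.inl hnd
  · obtain ⟨x, hx⟩ := exists_prime_orderOf_dvd_card' 2 (even_iff_two_dvd.1 hG)
    obtain ⟨h1, h2⟩ := Cfsg.Lib.Block.abelian_sylow_one_class hp2 h2p hnd hx
    exact Or.inr ⟨fun P => (h1 P).1, h2⟩

end Cfsg.Agent.S4738
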