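import Cfsg.Statements.S4742
import Cfsg.Agent.Lib.Block.InvolutionDefectApps

set_option autoImplicit false
open Cfsg

namespace Cfsg.Agent.S4742

/-- Let p ≠ q be primes dividing the order of the finite group G, and suppose the centralizer of every non-identity p-element of G has order prime to q. Then either G has an irreducible character of p-defect zero, or for every non-identity q-element z of G there are conjugates g, h of z such that g h⁻¹ is a non-identity p-element. -/
theorem result {G : Type*} [Group G] [Finite G] (p q : ℕ) [Fact p.Prime] [Fact q.Prime] (hppq : p ≠ q) (hpG : p ∣ Nat.card G) (hqG : q ∣ Nat.card G) (hC : ∀ g : G, g ≠ 1 → (∃ k : ℕ, orderOf g = p ^ k) → ¬ q ∣ Nat.card ↥(Subgroup.centralizer ({g} : Set G))) : (∃ χ : Cfsg.IrrCharacter G, (Cfsg.charDegree (χ : G → ℂ)).factorization p = (Nat.card G).factorization p) ∨ ∀ z : G, z ≠ 1 → (∃ k : ℕ, orderOf z = q ^ k) → ∃ g h : G, IsConj z g ∧ IsConj z h ∧ g * h⁻¹ ≠ 1 ∧ ∃ k : ℕ, orderOf (g * h⁻¹) = p ^ k := by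
  haveI := Fintype.ofFinite G
  by_cases hnd : Cfsg.Lib.Block.HasDefectZero p G
  · exact Or.inl hnd
  refine Or.inr fun z hz ⟨k, hk⟩ => by_contra fun hcon => hnd ?_
  have hk0 : k ≠ 0 := fun h => hz (orderOf_eq_one_iff.1 (by rw [hk, h, pow_zero]))
  refine Cfsg.Lib.Block.hasDefectZero_of_separated (x := z) (fun hd => ?_) fun g h hg hh j hj hord =>
    hcon ⟨g, h, hg, hh, fun h1 => ?_, j, hord⟩
  · obtain ⟨c, hc⟩ := exists_prime_orderOf_dvd_card' p hd
    have hcp : orderOf (c : G) = p := by rw [Subgroup.orderOf_coe, hc]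
    refine hC (c : G) (fun h1 => (Fact.out : p.Prime).ne_one (by rw [← hcp, h1, orderOf_one]))
      ⟨1, by rw [hcp, pow_one]⟩ ((dvd_pow_self q hk0).trans (hk ▸ Subgroup.orderOf_dvd_natCard _ ?_))
    exact Subgroup.mem_centralizer_iff.2 fun a ha => by
      rw [Set.mem_singleton_iff] at ha
      rw [ha]; exact (Subgroup.mem_centralizer_iff.1 c.2 z rfl).symm
  · rw [h1, orderOf_one] at hord
    exact absurd hord.symm (Nat.one_lt_pow hj.ne' (Fact.out : p.Prime).one_lt).ne'

end Cfsg.Agent.S4742
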