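import Cfsg.Statements.S4743
import Cfsg.Agent.Lib.Core.PSolvable
import Cfsg.Agent.Lib.Core.Cores
import Cfsg.Agent.Lib.Char.FixedChar
import Cfsg.Agent.Lib.Char.Quotient
import Cfsg.Agent.Lib.Char.Formulas
import Cfsg.Agent.Lib.Char.Gallagher
import Cfsg.Agent.Lib.Char.InvariantSylowDegrees
import Cfsg.Agent.Lib.Coprime.Generation
import Cfsg.Agent.Lib.PGroup.OmegaTwo
import Cfsg.Agent.Lib.Char.RamifiedSylow
-- import your own Cfsg.Agent.* helpers here

set_option autoImplicit false
open Cfsg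

namespace Cfsg.Agent.S4743

open Subgroup Cfsg.Lib.Char
open scoped ComplexConjugate

universe u

variable {G : Type u} [Group G] [Finite G]

/-- Above a character whose inertia group has order prime to `q` lies a character of full `q`-part. -/
theorem exists_full {q : ℕ} [hq : Fact q.Prime] (A : Subgroup G) [A.Normal] {θ : A → ℂ}
    (hθ : IsIrrCharacter A θ) [Fintype G] (hI : ¬ q ∣ Nat.card (inertia A θ)) :
    ∃ χ : Cfsg.IrrCharacter G, (Cfsg.charDegree (χ : G → ℂ)).factorization q = (Nat.card G).factorization q := by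
  classical
  haveI := Fintype.ofFinite A
  obtain ⟨χ, hχc⟩ := exists_constituent (isCharacter_indFun A hθ.isCharacter)
    (show indFun A θ 1 ≠ 0 by
      have h1 : indFun A θ 1 = _ := indFun_normal_apply A θ 1
      rw [h1, Finset.sum_congr rfl (g := fun _ => θ 1) fun x _ => congrArg θ (Subtype.ext (by simp)),
        Finset.sum_const, nsmul_eq_mul]
      exact mul_ne_zero (inv_ne_zero (Nat.cast_ne_zero.2 Nat.card_pos.ne'))
        (mul_ne_zero (Nat.cast_ne_zero.2 Fintype.card_ne_zero) hθ.apply_one_ne_zero))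
  have hres : classInner (fun n : A => (χ : G → ℂ) n) θ ≠ 0 := by
    intro h0
    apply hχc
    rw [classInner_indFun A _ χ.2.isClassFunction, ← classInner_conj_symm, h0, map_zero]
  obtain ⟨e, he⟩ := (χ.2.isCharacter.comp A.subtype).exists_nat_classInner hθ.isCharacter
  change classInner (fun n : A => (χ : G → ℂ) n) θ = e at he
  obtain ⟨d, -, hd⟩ := hθ.exists_degree
  have h := clifford_degree A χ.2 hθ hres
  rw [he, hd, χ.2.apply_one_eq_charDegree] at h
  have hnat : Cfsg.charDegree (χ : G → ℂ) = e * (inertia A θ).index * d := by exact_mod_cast h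
  refine ⟨χ, le_antisymm ?_ ?_⟩
  · exact (Nat.factorization_le_iff_dvd χ.2.charDegree_pos.ne' Nat.card_pos.ne').2
      (charDegree_dvd_card χ.2) q
  · have hI' : (Nat.card G).factorization q = (inertia A θ).index.factorization q := by
      rw [← (inertia A θ).card_mul_index, Nat.factorization_mul Nat.card_pos.ne' index_ne_zero_of_finite,
        Finsupp.add_apply, Nat.factorization_eq_zero_of_not_dvd hI, zero_add]
    rw [hI']
    exact (Nat.factorization_le_iff_dvd index_ne_zero_of_finite χ.2.charDegree_pos.ne').2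
      ⟨e * d, by rw [hnat]; ring⟩ q

/-- A nontrivial normal `p`-subgroup on which no `q`-element fixes a point gives full `q`-part. -/
theorem exists_full_of_core {p q : ℕ} [Fact p.Prime] [hq : Fact q.Prime] (hpq : p ≠ q) (A : Subgroup G)
    [A.Normal] (hA : IsPGroup p A) (hA1 : A ≠ ⊥)
    (hC : ∀ a ∈ A, a ≠ 1 → ¬ q ∣ Nat.card (centralizer ({a} : Set G))) :
    ∃ χ : Cfsg.IrrCharacter G, (Cfsg.charDegree (χ : G → ℂ)).factorization q = (Nat.card G).factorization q := by
  classical
  haveI := Fintype.ofFinite G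
  haveI := Fintype.ofFinite A
  have hqA : ¬ q ∣ Nat.card A := by
    obtain ⟨k, hk⟩ := IsPGroup.iff_card.1 hA
    rw [hk]
    exact fun h => hpq ((Nat.prime_dvd_prime_iff_eq hq.out Fact.out).1 (hq.out.dvd_of_dvd_pow h)).symm
  obtain ⟨θ, hθ1⟩ : ∃ θ : IrrCharacter A, (θ : A → ℂ) ≠ fun _ => 1 := by
    by_contra hall
    push Not at hall
    obtain ⟨a, ha, ha1⟩ := A.bot_or_exists_ne_one.resolve_left hA1
    have h1 := column_orthogonality (1 : A) ⟨a, ha⟩
    rw [if_neg (fun h => ha1 (congrArg Subtype.val (isConj_one_right.1 h)))] at h1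
    simp only [hall, one_mul, map_one, Finset.sum_const, nsmul_eq_mul, mul_one, Nat.cast_eq_zero,
      Finset.card_univ] at h1
    haveI : Nonempty (IrrCharacter A) := ⟨⟨fun _ => 1, isIrrCharacter_one⟩⟩
    exact Fintype.card_ne_zero h1
  refine exists_full A θ.2 fun hdvd => ?_
  obtain ⟨⟨x, hxI⟩, hx⟩ := exists_prime_orderOf_dvd_card' q hdvd
  rw [Subgroup.orderOf_mk] at hx
  obtain ⟨h, hh1, m, hm⟩ := (exists_fixed_irr_iff A x).1 ⟨θ, θ.2, hθ1, hxI⟩
  have hxA : x ∉ A := fun hxA => hqA (hx ▸ (Subgroup.orderOf_mk x hxA) ▸ orderOf_dvd_natCard (⟨x, hxA⟩ : A))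
  refine hC h h.2 (fun e => hh1 (Subtype.ext e)) ?_
  have hmem : (m : G)⁻¹ * x ∈ centralizer ({(h : G)} : Set G) := by
    rw [mem_centralizer_singleton_iff, mul_assoc, mul_inv_eq_iff_eq_mul.1 hm]
    group
  have himg : orderOf (((m : G)⁻¹ * x : G) : G ⧸ A) = q := by
    rw [QuotientGroup.mk_mul, QuotientGroup.mk_inv, (QuotientGroup.eq_one_iff (m : G)).2 m.2, inv_one, one_mul]
    refine orderOf_eq_prime (by rw [← QuotientGroup.mk_pow, ← hx, pow_orderOf_eq_one, QuotientGroup.mk_one]) ?_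
    exact fun e => hxA ((QuotientGroup.eq_one_iff x).1 e)
  exact himg ▸ (orderOf_map_dvd (QuotientGroup.mk' A) _).trans
    ((dvd_of_eq (Subgroup.orderOf_mk _ hmem).symm).trans (orderOf_dvd_natCard _))

/-- The hypothesis on centralisers passes to quotients by normal `p'`-subgroups. -/
theorem quotient_separated {p q : ℕ} [Fact p.Prime] [hq : Fact q.Prime] (M : Subgroup G) [M.Normal]
    (hMp : ¬ p ∣ Nat.card M) (hC : ∀ g : G, g ≠ 1 → (∃ k : ℕ, orderOf g = p ^ k) → ¬ q ∣ Nat.card ↥(centralizer ({g} : Set G)))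
    (hqM : ¬ q ∣ Nat.card M) :
    ∀ a ∈ Cfsg.pCore p (G ⧸ M), a ≠ 1 → ¬ q ∣ Nat.card (centralizer ({a} : Set (G ⧸ M))) := by
  intro a ha ha1 hdvd
  set π := QuotientGroup.mk' M
  set W := (Cfsg.pCore p (G ⧸ M)).comap π with hW
  haveI : W.Normal := Normal.comap inferInstance π
  obtain ⟨P₀⟩ : Nonempty (Sylow p W) := inferInstance
  set P' := (P₀ : Subgroup W).map W.subtype with hP'
  have hsup : ∀ w ∈ W, π w ∈ P'.map π := by
    have hMW : M ≤ W := fun m hm => by
      show π m ∈ Cfsg.pCore p (G ⧸ M)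
      rw [show π m = 1 from (QuotientGroup.eq_one_iff m).2 hm]
      exact one_mem _
    obtain ⟨k, hk⟩ := IsPGroup.iff_card.1 (Cfsg.Lib.Core.pCore_isPGroup p (G ⧸ M))
    have hWc : Nat.card W = Nat.card M * p ^ k := by
      rw [← W.relIndex_bot_left, ← relIndex_mul_relIndex ⊥ M W bot_le hMW, relIndex_bot_left]
      congr 1
      conv_lhs => rw [← QuotientGroup.ker_mk' M, ← MonoidHom.comap_bot, hW, relIndex_comap,
        map_comap_eq_self_of_surjective (QuotientGroup.mk'_surjective M), relIndex_bot_left, hk]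
    have hP'c : Nat.card P' = p ^ k := by
      rw [hP', ← Nat.card_congr (equivMapOfInjective _ _ W.subtype_injective).toEquiv,
        P₀.card_eq_multiplicity, hWc,
        Nat.factorization_mul Nat.card_pos.ne' (pow_ne_zero _ (Fact.out : p.Prime).ne_zero)]
      simp [(Fact.out : p.Prime).factorization, Nat.factorization_eq_zero_of_not_dvd hMp]
    have hinj : Set.InjOn π P' := by
      intro b hb c hc hbc
      have hmem : b⁻¹ * c ∈ P' ⊓ M :=
        Subgroup.mem_inf.2 ⟨mul_mem (inv_mem (SetLike.mem_coe.1 hb)) hc, QuotientGroup.eq.1 hbc⟩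
      rw [inf_eq_bot_of_coprime (by
        rw [hP'c]; exact Nat.Coprime.pow_left _ (((Fact.out : p.Prime).coprime_iff_not_dvd).2 hMp)), mem_bot] at hmem
      exact inv_mul_eq_one.1 hmem
    have heq : P'.map π = Cfsg.pCore p (G ⧸ M) := by
      refine eq_of_le_of_card_ge ?_ ?_
      · rintro _ ⟨b, hb, rfl⟩
        exact (map_subtype_le (P₀ : Subgroup W)) hb
      · rw [hk, ← hP'c]
        have hb : Function.Injective (π.subgroupMap P') := fun b c hbc =>
          Subtype.ext (hinj b.2 c.2 (congrArg Subtype.val hbc))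
        exact Nat.card_le_card_of_injective _ hb
    intro w hw
    rw [heq]
    exact hw
  obtain ⟨⟨t, ht⟩, htq⟩ := exists_prime_orderOf_dvd_card' q hdvd
  rw [Subgroup.orderOf_mk] at htq
  -- lift `t` into the normaliser of `P'`
  obtain ⟨t₀, rfl⟩ := QuotientGroup.mk_surjective t
  have hfr : t₀ ∈ normalizer (P' : Set G) ⊔ W := by
    rw [hP', Sylow.normalizer_sup_eq_top P₀]
    exact mem_top _
  obtain ⟨n, hn, w, hw, rfl⟩ := mem_sup_of_normal_right.1 hfr
  obtain ⟨b, hb, hbw⟩ := hsup w hw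
  -- the element `n * b` maps to `t`
  have hnb : n * b ∈ normalizer (P' : Set G) := mul_mem hn (le_normalizer hb)
  have hmap : ((n * b : G) : G ⧸ M) = ((n * w : G) : G ⧸ M) := by
    rw [QuotientGroup.mk_mul, QuotientGroup.mk_mul]
    exact congrArg _ hbw
  rw [← hmap] at ht htq
  obtain ⟨a₀, rfl⟩ := QuotientGroup.mk_surjective a
  obtain ⟨a₁, ha₁, ha₁eq⟩ := hsup a₀ ha
  change (a₁ : G ⧸ M) = (a₀ : G ⧸ M) at ha₁eq
  rw [← ha₁eq] at ha1 ht
  set x := n * b with hx
  have hconj : x * a₁ * x⁻¹ ∈ P' := (mem_normalizer_iff.1 hnb a₁).1 ha₁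
  have hcomm : x * a₁ = a₁ * x := by
    have h1 : (x * a₁ * x⁻¹ * a₁⁻¹) ∈ P' ⊓ M := by
      refine Subgroup.mem_inf.2 ⟨mul_mem hconj (inv_mem (SetLike.mem_coe.1 ha₁)), (QuotientGroup.eq_one_iff _).1 ?_⟩
      simp only [QuotientGroup.mk_mul, QuotientGroup.mk_inv]
      rw [mem_centralizer_singleton_iff.1 ht]
      group
    rw [inf_eq_bot_of_coprime (by
      obtain ⟨j, hj⟩ := IsPGroup.iff_card.1 (P₀.2.map W.subtype : IsPGroup p P')
      rw [hj]; exact Nat.Coprime.pow_left _ (((Fact.out : p.Prime).coprime_iff_not_dvd).2 hMp)), mem_bot] at h1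
    exact mul_inv_eq_iff_eq_mul.1 (mul_inv_eq_one.1 h1)
  have hxmem : x ∈ centralizer ({a₁} : Set G) := mem_centralizer_singleton_iff.2 hcomm
  obtain ⟨j, hj⟩ := IsPGroup.iff_orderOf.1 (P₀.2.map W.subtype : IsPGroup p P') ⟨a₁, ha₁⟩
  rw [Subgroup.orderOf_mk] at hj
  refine hC a₁ (fun e => ha1 (by rw [e, QuotientGroup.mk_one])) ⟨j, hj⟩ ?_
  exact htq ▸ (orderOf_map_dvd (QuotientGroup.mk' M) x).trans
    ((dvd_of_eq (Subgroup.orderOf_mk x hxmem).symm).trans (orderOf_dvd_natCard _))

/-- Elements of order `p` of a `p`-group without `C_p × C_p` form one subgroup. -/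
theorem exists_unique_order {p : ℕ} [hp : Fact p.Prime] (P : Subgroup G) (hP : IsPGroup p P) (hP1 : P ≠ ⊥)
    (hnr : ∀ u ∈ P, ∀ v ∈ P, orderOf u = p → orderOf v = p → Commute u v → u ∈ zpowers v) :
    ∃ z ∈ P, orderOf z = p ∧ ∀ u ∈ P, u ^ p = 1 → u ∈ zpowers z := by
  haveI : Nontrivial P := (Subgroup.nontrivial_iff_ne_bot P).2 hP1
  have hne : (⊤ : Subgroup P) ≠ ⊥ := top_ne_bot
  obtain ⟨z, -, hzc, hzo⟩ := Cfsg.Lib.PGroup.exists_mem_center_orderOf_eq hP hne
  rw [← Subgroup.orderOf_coe] at hzo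
  refine ⟨z, z.2, hzo, fun u hu hup => ?_⟩
  by_cases hu1 : u = 1
  · rw [hu1]; exact one_mem _
  exact hnr u hu z z.2 (orderOf_eq_prime hup hu1) hzo
    (congrArg Subtype.val (mem_center_iff.1 hzc ⟨u, hu⟩))

/-- The `p`-solvable case. -/
theorem main {p q : ℕ} [hp : Fact p.Prime] [hq : Fact q.Prime] (hpq : p ≠ q) (hpG : p ∣ Nat.card G)
    (hC : ∀ g : G, g ≠ 1 → (∃ k : ℕ, orderOf g = p ^ k) → ¬ q ∣ Nat.card ↥(centralizer ({g} : Set G)))
    (hsolv : Cfsg.IsPSolvable p G) :
    (∃ χ : Cfsg.IrrCharacter G, (Cfsg.charDegree (χ : G → ℂ)).factorization p = (Nat.card G).factorization p) ∨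
      (∃ χ : Cfsg.IrrCharacter G, (Cfsg.charDegree (χ : G → ℂ)).factorization q = (Nat.card G).factorization q) := by
  classical
  haveI := Fintype.ofFinite G
  have hCp : ∀ a : G, a ≠ 1 → (∃ k, a ^ p ^ k = 1) → ¬ q ∣ Nat.card (centralizer ({a} : Set G)) := by
    rintro a ha ⟨k, hk⟩
    obtain ⟨j, -, hj⟩ := (Nat.dvd_prime_pow hp.out).1 (orderOf_dvd_of_pow_eq_one hk)
    exact hC a ha ⟨j, hj⟩
  by_cases hO : Cfsg.pCore p G = ⊥
  swap
  · refine Or.inr (exists_full_of_core hpq (Cfsg.pCore p G) (Cfsg.Lib.Core.pCore_isPGroup p G) hO ?_)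
    intro a ha ha1
    obtain ⟨k, hk⟩ := Cfsg.Lib.Core.pCore_isPGroup p G ⟨a, ha⟩
    exact hCp a ha1 ⟨k, by simpa using congrArg Subtype.val hk⟩
  set M := Cfsg.pPrimeCore p G with hMdef
  have hMp : ¬ p ∣ Nat.card M := Cfsg.Lib.Core.pPrimeCore_not_dvd p G
  haveI : Nontrivial (G ⧸ M) := by
    rw [← Finite.one_lt_card_iff_nontrivial, ← index_eq_card]
    refine (Nat.one_lt_iff_ne_zero_and_ne_one).2 ⟨index_ne_zero_of_finite, fun h => hMp ?_⟩
    rwa [index_eq_one.1 h, card_top]
  have hOb : Cfsg.pCore p (G ⧸ M) ≠ ⊥ :=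
    Cfsg.Lib.Core.pCore_ne_bot_of_isPSolvable (Cfsg.Lib.Core.isPSolvable_quotient hsolv M)
      Cfsg.Lib.Core.pPrimeCore_quotient_eq_bot
  by_cases hqM : q ∣ Nat.card M
  swap
  · obtain ⟨χ, hχ⟩ := exists_full_of_core hpq (Cfsg.pCore p (G ⧸ M)) (Cfsg.Lib.Core.pCore_isPGroup p _) hOb
      (quotient_separated M hMp hC hqM)
    refine Or.inr ⟨⟨_, isIrrCharacter_inflate M χ.2⟩, ?_⟩
    have hdeg : Cfsg.charDegree (fun g : G => (χ : G ⧸ M → ℂ) g) = Cfsg.charDegree (χ : G ⧸ M → ℂ) := by
      simp only [Cfsg.charDegree, QuotientGroup.mk_one]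
    show (Cfsg.charDegree (fun g : G => (χ : G ⧸ M → ℂ) g)).factorization q = _
    rw [hdeg, hχ, ← index_eq_card, ← M.card_mul_index, Nat.factorization_mul Nat.card_pos.ne' index_ne_zero_of_finite]
    rw [Finsupp.add_apply, Nat.factorization_eq_zero_of_not_dvd hqM, zero_add]
  -- `q` divides `|M|`: a Sylow `p`-subgroup normalises a Sylow `q`-subgroup of `M`
  obtain ⟨Q⟩ : Nonempty (Sylow q M) := inferInstance
  set Q' := (Q : Subgroup M).map M.subtype with hQ'
  have hQ1 : Q' ≠ ⊥ := by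
    rw [hQ', Ne, map_eq_bot_iff_of_injective _ M.subtype_injective]
    exact Q.ne_bot_of_dvd_card hqM
  set H := normalizer (Q' : Set G) with hH
  obtain ⟨S⟩ : Nonempty (Sylow p H) := inferInstance
  set P := (S : Subgroup H).map H.subtype with hP
  have hPp : IsPGroup p P := S.2.map _
  have hHidx : ¬ p ∣ H.index := by
    intro h
    apply hMp
    have htop : H ⊔ M = ⊤ := Sylow.normalizer_sup_eq_top Q
    have h1 : H.index = H.relIndex M := by
      rw [← relIndex_top_right, ← htop, Cfsg.Lib.Char.RamifiedSylow.sup_relIndex]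
    exact h.trans (h1 ▸ relIndex_dvd_card H M)
  have hPidx : ¬ p ∣ P.index := by
    rw [hP, index_map_subtype]
    exact fun h => (hp.out.dvd_mul.1 h).elim S.not_dvd_index hHidx
  let S' : Sylow p G := hPp.toSylow hPidx
  have hfix : ∀ a ∈ P, a ≠ 1 → Q' ⊓ centralizer ({a} : Set G) = ⊥ := by
    intro a ha ha1
    rw [eq_bot_iff]
    rintro x ⟨hx, hxa⟩
    rw [mem_bot]
    by_contra hx1
    obtain ⟨k, hk⟩ := hPp ⟨a, ha⟩
    refine hCp a ha1 ⟨k, by simpa using congrArg Subtype.val hk⟩ ?_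
    obtain ⟨j, hj⟩ := IsPGroup.iff_orderOf.1 (Q.2.map M.subtype : IsPGroup q Q') ⟨x, hx⟩
    rw [Subgroup.orderOf_mk] at hj
    rcases j with _ | j
    · exact absurd (orderOf_eq_one_iff.1 (by simpa using hj)) hx1
    exact (hj ▸ dvd_pow_self q (Nat.succ_ne_zero j)).trans
      ((dvd_of_eq (Subgroup.orderOf_mk x hxa).symm).trans (orderOf_dvd_natCard _))
  have hPN : P ≤ H := map_subtype_le _
  have hcopPQ : ∀ A : Subgroup G, IsPGroup p A → (Nat.card A).Coprime (Nat.card Q') := fun A hA => by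
    obtain ⟨i, hi⟩ := IsPGroup.iff_card.1 hA
    obtain ⟨j, hj⟩ := IsPGroup.iff_card.1 (Q.2.map M.subtype : IsPGroup q Q')
    rw [hi, hj]
    exact Nat.Coprime.pow _ _ ((Nat.coprime_primes hp.out hq.out).2 hpq)
  have hnr : ∀ u ∈ P, ∀ v ∈ P, orderOf u = p → orderOf v = p → Commute u v → u ∈ zpowers v := by
    intro u hu v hv huo hvo huv
    by_contra hnot
    let A := zpowers v ⊔ zpowers u
    have hAP : A ≤ P := sup_le (zpowers_le.2 hv) (zpowers_le.2 hu)
    haveI : IsMulCommutative A := by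
      rw [← commutator_self_eq_bot_iff, commutator_eq_bot_iff_le_centralizer]
      refine sup_le (zpowers_le.2 fun b hb => ?_) (zpowers_le.2 fun b hb => ?_)
      · have : b ∈ centralizer ({v} : Set G) := (sup_le (zpowers_le.2 (mem_centralizer_singleton_iff.2 rfl))
          (zpowers_le.2 (mem_centralizer_singleton_iff.2 huv.eq))) hb
        exact mem_centralizer_singleton_iff.1 this
      · have : b ∈ centralizer ({u} : Set G) := (sup_le (zpowers_le.2 (mem_centralizer_singleton_iff.2 huv.symm.eq))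
          (zpowers_le.2 (mem_centralizer_singleton_iff.2 rfl))) hb
        exact mem_centralizer_singleton_iff.1 this
    have hnc : ¬ IsCyclic A := by
      intro hc
      haveI := hc
      have h2 : (⟨u, mem_sup_right (mem_zpowers u)⟩ : A) ∈ zpowers (⟨v, mem_sup_left (mem_zpowers v)⟩ : A) :=
        Cfsg.Lib.PGroup.mem_zpowers_of_cyclic hp.out (by rw [Subgroup.orderOf_mk]; exact hvo)
          (Subtype.ext (by
            simp only [SubmonoidClass.coe_pow, OneMemClass.coe_one]
            rw [← huo]; exact pow_orderOf_eq_one u))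
      obtain ⟨k, hk⟩ := mem_zpowers_iff.1 h2
      exact hnot (mem_zpowers_iff.2 ⟨k, congrArg Subtype.val hk⟩)
    refine hQ1 (le_bot_iff.1 ((Cfsg.Lib.Coprime.le_iSup_centralizer_of_not_isCyclic hnc (hAP.trans hPN)
      (hcopPQ A (hPp.to_le hAP))).trans (iSup_le fun a => (hfix a.1 (hAP a.2.1) a.2.2).le)))
  have hP1 : P ≠ ⊥ := fun h => hPidx (by rwa [h, index_bot])
  obtain ⟨z, hz, hzo, hzu⟩ := exists_unique_order P hPp hP1 hnr
  have hz1 : z ≠ 1 := fun h => hp.out.one_lt.ne (by rw [← hzo, h, orderOf_one])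
  have hzp : z ^ p = 1 := hzo ▸ pow_orderOf_eq_one z
  -- every element of order `p` is conjugate to a power of `z`
  have hconj : ∀ u : G, u ^ p = 1 → ∃ g : G, ∃ i : ℕ, u = g * z ^ i * g⁻¹ := by
    intro u hu
    have hup : IsPGroup p (zpowers u) := fun ⟨b, hb⟩ => by
      obtain ⟨i, rfl⟩ := mem_zpowers_iff.1 hb
      exact ⟨1, Subtype.ext (by
        simp only [pow_one, SubmonoidClass.coe_pow, OneMemClass.coe_one]
        rw [← zpow_natCast, ← zpow_mul, mul_comm, zpow_mul, zpow_natCast, hu, one_zpow])⟩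
    obtain ⟨R, hR⟩ := hup.exists_le_sylow
    obtain ⟨g, hg⟩ := MulAction.exists_smul_eq G R S'
    have hmem : g * u * g⁻¹ ∈ P := by
      have : g * u * g⁻¹ ∈ ((g • R : Sylow p G) : Subgroup G) := by
        rw [Sylow.coe_subgroup_smul]
        exact mem_map_of_mem _ (hR (mem_zpowers u))
      rw [hg] at this
      exact this
    obtain ⟨i, hi⟩ := mem_powers_iff_mem_zpowers.2 (hzu _ hmem (by rw [conj_pow, hu, mul_one, mul_inv_cancel]))
    refine ⟨g⁻¹, i, ?_⟩
    change z ^ i = g * u * g⁻¹ at hi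
    rw [hi]
    group
  -- `z` maps into `O_p(G ⧸ M)`
  set π := QuotientGroup.mk' M
  set O := Cfsg.pCore p (G ⧸ M) with hOdef
  have hOp : IsPGroup p O := Cfsg.Lib.Core.pCore_isPGroup p _
  have hzO : π z ∈ O := by
    obtain ⟨b, hbO, hb1⟩ := O.bot_or_exists_ne_one.resolve_left hOb
    obtain ⟨j, hj⟩ := IsPGroup.iff_orderOf.1 hOp ⟨b, hbO⟩
    rw [Subgroup.orderOf_mk] at hj
    obtain ⟨b₀, rfl⟩ := QuotientGroup.mk_surjective b
    have hpd : p ∣ orderOf b₀ := by
      rcases j with _ | j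
      · exact absurd (orderOf_eq_one_iff.1 (by simpa using hj)) hb1
      · exact (hj ▸ dvd_pow_self p (Nat.succ_ne_zero j)).trans (orderOf_map_dvd π b₀)
    set u := b₀ ^ (orderOf b₀ / p) with hu
    have huo : orderOf u = p := orderOf_pow_orderOf_div (orderOf_pos b₀).ne' hpd
    obtain ⟨g, i, hgi⟩ := hconj u (huo ▸ pow_orderOf_eq_one u)
    have huO : π u ∈ O := by rw [hu, map_pow]; exact pow_mem hbO _
    have hgz : π (z ^ i) ∈ O := by
      have : π (g⁻¹ * u * g) ∈ O := by
        rw [map_mul, map_mul, map_inv]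
        exact Normal.conj_mem' inferInstance _ huO (π g)
      rwa [show g⁻¹ * u * g = z ^ i by rw [hgi]; group] at this
    have hi : (i).Coprime (orderOf z) := by
      rw [hzo, Nat.coprime_comm, hp.out.coprime_iff_not_dvd]
      intro hd
      obtain ⟨t, rfl⟩ := hd
      rw [pow_mul, hzp, one_pow, mul_one, mul_inv_cancel] at hgi
      rw [hgi, orderOf_one] at huo
      exact hp.out.one_lt.ne huo
    obtain ⟨m, hm⟩ := exists_pow_eq_self_of_coprime hi
    rw [← hm, map_pow]
    exact pow_mem hgz m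
  -- `M⟨z⟩` contains every element of order `p`
  have hall : ∀ u : G, u ^ p = 1 → ∃ i : ℕ, ∃ m ∈ M, u = m * z ^ i := by
    intro u hu
    obtain ⟨g, i, rfl⟩ := hconj u hu
    have h1 : π g * π z * (π g)⁻¹ ∈ O := Normal.conj_mem inferInstance _ hzO _
    have hPsyl : Function.Surjective (π : G → G ⧸ M) := QuotientGroup.mk'_surjective M
    have hOle : O ≤ P.map π :=
      (Cfsg.Lib.Core.pCore_le_sylow (S'.mapSurjective hPsyl)).trans (le_of_eq (S'.coe_mapSurjective hPsyl))
    obtain ⟨y, hy, hyeq⟩ := hOle h1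
    have hyM : y ^ p ∈ M := by
      rw [← QuotientGroup.eq_one_iff]
      show π (y ^ p) = 1
      rw [map_pow, hyeq, conj_pow, ← map_pow, hzp, map_one, mul_one, mul_inv_cancel]
    have hyp : y ^ p = 1 := by
      have : y ^ p ∈ P ⊓ M := ⟨pow_mem hy p, hyM⟩
      rwa [inf_eq_bot_of_coprime (by
        obtain ⟨k, hk⟩ := IsPGroup.iff_card.1 hPp
        rw [hk]; exact Nat.Coprime.pow_left _ ((hp.out.coprime_iff_not_dvd).2 hMp)), mem_bot] at this
    obtain ⟨j, hj⟩ := mem_powers_iff_mem_zpowers.2 (hzu y hy hyp)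
    change z ^ j = y at hj
    refine ⟨j * i, g * z ^ i * g⁻¹ * (z ^ (j * i))⁻¹, (QuotientGroup.eq_one_iff _).1 ?_, by group⟩
    show π _ = 1
    rw [map_mul, map_mul, map_mul, map_inv, map_inv, map_pow, map_pow, pow_mul, ← conj_pow, ← map_pow π z j,
      hj, hyeq, mul_inv_cancel]
  -- a character of `M` moved by `z`
  haveI := Fintype.ofFinite M
  obtain ⟨θ, hθ⟩ : ∃ θ : IrrCharacter M, z ∉ inertia M (θ : M → ℂ) := by
    by_contra hno
    push Not at hno
    set CM : Subgroup M := (centralizer ({z} : Set G)).subgroupOf M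
    have htop : CM = ⊤ := by
      refine eq_top_of_conj_into CM fun c => ?_
      let α : MulAut M := MulAut.conjNormal z
      have hfixc : ∀ y : M, IsConj y (α y) := by
        intro y
        by_contra hy
        have h1 := column_orthogonality y (α y)
        rw [if_neg hy] at h1
        have h2 := column_orthogonality y y
        rw [if_pos (IsConj.refl y)] at h2
        have h3 : ∑ χ : IrrCharacter M, (χ : M → ℂ) y * conj ((χ : M → ℂ) (α y)) =
            ∑ χ : IrrCharacter M, (χ : M → ℂ) y * conj ((χ : M → ℂ) y) :=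
          Finset.sum_congr rfl fun χ _ => by
            congr 2
            exact (mem_inertia_iff M).1 (hno χ) y
        rw [h3, h2] at h1
        exact Nat.cast_ne_zero.2 Nat.card_pos.ne' h1
      -- a fixed point in the class of `c`
      let Z := Subgroup.zpowers z
      let C := {y : M // IsConj c y}
      have hstab : ∀ s : Z, ∀ y : M, IsConj c y → IsConj c ((MulAut.conjNormal (s : G) : MulAut M) y) := by
        rintro ⟨s, hs⟩ y hy
        obtain ⟨i, rfl⟩ := mem_powers_iff_mem_zpowers.2 hs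
        show IsConj c ((MulAut.conjNormal (z ^ i) : MulAut M) y)
        clear hs
        induction i with
        | zero => simpa using hy
        | succ i ih =>
          show IsConj c ((MulAut.conjNormal (z ^ (i + 1)) : MulAut M) y)
          rw [pow_succ', map_mul, MulAut.mul_apply]
          exact ih.trans (hfixc _)
      letI : MulAction Z C :=
        { smul := fun s y => ⟨_, hstab s y.1 y.2⟩
          one_smul := fun y => Subtype.ext (by
            show (MulAut.conjNormal ((1 : Z) : G) : MulAut M) y.1 = y.1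
            rw [OneMemClass.coe_one, map_one, MulAut.one_apply])
          mul_smul := fun a b y => Subtype.ext (by
            show (MulAut.conjNormal ((a * b : Z) : G) : MulAut M) y.1 =
              (MulAut.conjNormal (a : G) : MulAut M) ((MulAut.conjNormal (b : G) : MulAut M) y.1)
            rw [Subgroup.coe_mul, map_mul, MulAut.mul_apply]) }
      have hZp : IsPGroup p Z := IsPGroup.of_card (n := 1) (by rw [Nat.card_zpowers, hzo, pow_one])
      have hcard : ¬ p ∣ Nat.card C := by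
        intro h
        apply hMp
        refine h.trans ?_
        have hC' : Nat.card C = Nat.card (MulAction.orbit (ConjAct M) c) := Nat.card_congr
          (Equiv.subtypeEquivRight fun y => by rw [ConjAct.mem_orbit_conjAct, isConj_comm])
        rw [hC', Nat.card_congr (MulAction.orbitEquivQuotientStabilizer (ConjAct M) c)]
        exact (card_quotient_dvd_card _).trans (dvd_of_eq (Nat.card_congr ConjAct.toConjAct.toEquiv.symm))
      obtain ⟨⟨y, hy⟩, hyfix⟩ := hZp.nonempty_fixed_point_of_prime_not_dvd_card C hcard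
      obtain ⟨x, hx⟩ := isConj_iff.1 hy
      refine ⟨x⁻¹, ?_⟩
      rw [inv_inv, hx, mem_subgroupOf, mem_centralizer_singleton_iff]
      have h := congrArg (fun t : C => ((t.1 : M) : G)) (hyfix ⟨z, mem_zpowers z⟩)
      change z * (y : G) * z⁻¹ = y at h
      exact (mul_inv_eq_iff_eq_mul.1 h).symm
    apply hQ1
    rw [eq_bot_iff, ← hfix z hz hz1]
    refine le_inf le_rfl fun x hx => ?_
    have : (⟨x, map_subtype_le _ hx⟩ : M) ∈ CM := by rw [htop]; exact mem_top _
    exact this
  refine Or.inl (exists_full M θ.2 fun hdvd => ?_)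
  obtain ⟨⟨x, hxI⟩, hx⟩ := exists_prime_orderOf_dvd_card' p hdvd
  rw [Subgroup.orderOf_mk] at hx
  obtain ⟨i, m, hm, rfl⟩ := hall x (hx ▸ pow_orderOf_eq_one x)
  have hzi : z ^ i ∈ inertia M (θ : M → ℂ) := by
    have := mul_mem (inv_mem (le_inertia M θ.2.isClassFunction hm)) hxI
    rwa [inv_mul_cancel_left] at this
  have hi : (i).Coprime (orderOf z) := by
    rw [hzo, Nat.coprime_comm, hp.out.coprime_iff_not_dvd]
    rintro ⟨t, rfl⟩
    rw [pow_mul, hzp, one_pow, mul_one] at hx
    exact hMp (hx ▸ (Subgroup.orderOf_mk m hm) ▸ orderOf_dvd_natCard (⟨m, hm⟩ : M))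
  obtain ⟨k, hk⟩ := exists_pow_eq_self_of_coprime hi
  exact hθ (hk ▸ pow_mem hzi k)

/-- Let p ≠ q be primes dividing the order of the finite group G, suppose the centralizer of every non-identity p-element has order prime to q, and suppose G is p-solvable or q-solvable. Then G has an irreducible character of p-defect zero or an irreducible character of q-defect zero. -/
theorem result {G : Type*} [Group G] [Finite G] (p q : ℕ) [Fact p.Prime] [Fact q.Prime] (hppq : p ≠ q) (hpG : p ∣ Nat.card G) (hqG : q ∣ Nat.card G) (hC : ∀ g : G, g ≠ 1 → (∃ k : ℕ, orderOf g = p ^ k) → ¬ q ∣ Nat.card ↥(Subgroup.centralizer ({g} : Set G))) (hsolv : Cfsg.IsPSolvable p G ∨ Cfsg.IsPSolvable q G) : (∃ χ : Cfsg.IrrCharacter G, (Cfsg.charDegree (χ : G → ℂ)).factorization p = (Nat.card G).factorization p) ∨ (∃ χ : Cfsg.IrrCharacter G, (Cfsg.charDegree (χ : G → ℂ)).factorization q = (Nat.card G).factorization q) := by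
  rcases hsolv with h | h
  · exact main hppq hpG hC h
  · refine (main (p := q) (q := p) hppq.symm hqG (fun g hg hgo hdvd => ?_) h).symm
    obtain ⟨⟨x, hxc⟩, hx⟩ := exists_prime_orderOf_dvd_card' p hdvd
    rw [Subgroup.orderOf_mk] at hx
    have hx1 : x ≠ 1 := fun e => (Fact.out : p.Prime).one_lt.ne (by rw [← hx, e, orderOf_one])
    refine hC x hx1 ⟨1, by rw [hx, pow_one]⟩ ?_
    obtain ⟨k, hk⟩ := hgo
    rcases k with _ | k
    · exact absurd (orderOf_eq_one_iff.1 (by simpa using hk)) hg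
    have hmem : g ∈ Subgroup.centralizer ({x} : Set G) :=
      Subgroup.mem_centralizer_singleton_iff.2 (Subgroup.mem_centralizer_singleton_iff.1 hxc).symm
    exact (hk ▸ dvd_pow_self q (Nat.succ_ne_zero k)).trans
      ((dvd_of_eq (Subgroup.orderOf_mk g hmem).symm).trans (orderOf_dvd_natCard _))

end Cfsg.Agent.S4743
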