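import Cfsg.Statements.S4746
import Cfsg.Agent.Lib.Block.InvolutionDefectApps

set_option autoImplicit false
open Cfsg

namespace Cfsg.Agent.S4746

/-- Let p be an odd prime and G a finite group of even order divisible by p in which the centralizer of every non-identity p-element has odd order. Then G has an irreducible character of p-defect zero or an irreducible character of even degree. -/
theorem result {G : Type*} [Group G] [Finite G] (p : ℕ) [Fact p.Prime] (hp2 : p ≠ 2) (hpG : p ∣ Nat.card G) (h2G : 2 ∣ Nat.card G) (hC : ∀ g : G, g ≠ 1 → (∃ k : ℕ, orderOf g = p ^ k) → Odd (Nat.card ↥(Subgroup.centralizer ({g} : Set G)))) : (∃ χ : Cfsg.IrrCharacter G, (Cfsg.charDegree (χ : G → ℂ)).factorization p = (Nat.card G).factorization p) ∨ ∃ χ : Cfsg.IrrCharacter G, Even (Cfsg.charDegree (χ : G → ℂ)) := by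
  haveI := Fintype.ofFinite G
  have h2p : ∀ g : G, orderOf g ≠ 2 * p := fun g hg => by
    have hz : orderOf (g ^ 2) = p := by
      rw [orderOf_pow' g two_ne_zero, hg, Nat.gcd_eq_right (Dvd.intro p rfl),
        Nat.mul_div_cancel_left p two_pos]
    have hz1 : g ^ 2 ≠ 1 := fun h => (Fact.out : p.Prime).ne_one (by rw [← hz, h, orderOf_one])
    have hmem : g ∈ Subgroup.centralizer ({g ^ 2} : Set G) :=
      Subgroup.mem_centralizer_iff.2 fun a ha => by
        rw [Set.mem_singleton_iff] at ha
        rw [ha, ← pow_succ, ← pow_succ']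
    exact (Nat.not_even_iff_odd.2 (hC _ hz1 ⟨1, by rw [hz, pow_one]⟩)) (even_iff_two_dvd.2
      ((Dvd.intro p hg.symm).trans (Subgroup.orderOf_dvd_natCard _ hmem)))
  by_cases hnd : Cfsg.Lib.Block.HasDefectZero p G
  · exact Or.inl hnd
  · obtain ⟨x, hx⟩ := exists_prime_orderOf_dvd_card' 2 h2G
    exact Or.inr (Cfsg.Lib.Block.exists_even_degree hp2 h2p hnd hx)

end Cfsg.Agent.S4746
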