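import Cfsg.Statements.S4748
import Cfsg.Agent.Lib.Core.PSolvable
import Cfsg.Agent.Lib.Coprime.Action
import Cfsg.Agent.Lib.Char.Formulas
import Cfsg.Agent.Lib.Char.Linear
import Cfsg.Agent.Lib.Char.Clifford
-- import your own Cfsg.Agent.* helpers here

set_option autoImplicit false
open scoped Pointwise
open Cfsg

namespace Cfsg.Agent.S4748

set_option linter.style.haveILetI false
open Cfsg Cfsg.Lib.Char
open scoped ComplexConjugate commutatorElement

universe u

section Abstract

variable {Q : Type u} [Group Q] [Fintype Q]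

/-- the twist of an irreducible character by an automorphism -/
def twistIrr (e : Q ≃* Q) (φ : IrrCharacter Q) : IrrCharacter Q :=
  ⟨fun u => (φ : Q → ℂ) (e u), isIrrCharacter_comp_equiv e φ.2⟩

theorem classInner_twistIrr {ψ : Q → ℂ} (e : Q ≃* Q) (h : ∀ u, ψ (e u) = ψ u) (φ : IrrCharacter Q) :
    classInner ψ (twistIrr e φ : Q → ℂ) = classInner ψ (φ : Q → ℂ) := by
  have h1 := classInner_comp_equiv e ψ (φ : Q → ℂ)
  simp only [h] at h1
  exact h1

/-- the degrees of constituents sum to at most the degree -/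
theorem sum_degree_le {ψ : Q → ℂ} (hψ : IsCharacter Q ψ) (S : Finset (IrrCharacter Q))
    (hS : ∀ φ ∈ S, classInner ψ (φ : Q → ℂ) ≠ 0) :
    ∑ φ ∈ S, charDegree (φ : Q → ℂ) ≤ charDegree ψ := by
  classical
  have hn : ∀ φ : IrrCharacter Q, ∃ n : ℕ, classInner ψ (φ : Q → ℂ) = n :=
    fun φ => hψ.exists_nat_classInner φ.2.isCharacter
  choose n hn using hn
  have h1 : (charDegree ψ : ℂ) = ((∑ φ : IrrCharacter Q, n φ * charDegree (φ : Q → ℂ) : ℕ) : ℂ) := by
    rw [← hψ.apply_one_eq_charDegree, congrFun (eq_sum_classInner hψ.isClassFunction) 1,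
      Finset.sum_apply, Nat.cast_sum]
    refine Finset.sum_congr rfl fun φ _ => ?_
    rw [Pi.smul_apply, smul_eq_mul, hn, φ.2.apply_one_eq_charDegree, Nat.cast_mul]
  rw [Nat.cast_injective h1]
  calc ∑ φ ∈ S, charDegree (φ : Q → ℂ) ≤ ∑ φ ∈ S, n φ * charDegree (φ : Q → ℂ) := by
        refine Finset.sum_le_sum fun φ hφ => Nat.le_mul_of_pos_left _ ?_
        by_contra h0
        exact hS φ hφ (by rw [hn, Nat.le_zero.mp (not_lt.mp h0), Nat.cast_zero])
    _ ≤ _ := Finset.sum_le_sum_of_subset (Finset.subset_univ S)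

/-- `θ * conj θ` has a nontrivial linear constituent when `θ` is nonlinear and `Q` is a `q`-group -/
theorem exists_linear_constituent {q : ℕ} [hq : Fact q.Prime] (hQ : IsPGroup q Q) {θ : Q → ℂ}
    (hθ : IsIrrCharacter Q θ) (h1 : charDegree θ ≠ 1) :
    ∃ φ : Q →* ℂˣ, φ ≠ 1 ∧
      classInner (fun u => θ u * conj (θ u)) (fun u => (φ u : ℂ)) ≠ 0 := by
  classical
  by_contra hne
  push Not at hne
  obtain ⟨a, ha⟩ := IsPGroup.iff_card.mp hQ
  have hqd : ∀ φ : IrrCharacter Q, charDegree (φ : Q → ℂ) ≠ 1 → q ∣ charDegree (φ : Q → ℂ) := by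
    intro φ hφ
    obtain ⟨k, -, hk⟩ := (Nat.dvd_prime_pow hq.out).mp (ha ▸ charDegree_dvd_card φ.2)
    rw [hk] at hφ ⊢
    exact dvd_pow_self q (fun h0 => hφ (by rw [h0, pow_zero]))
  have hψ : IsCharacter Q (fun u => θ u * conj (θ u)) := hθ.isCharacter.mul hθ.isCharacter.conjFn
  have hn : ∀ φ : IrrCharacter Q, ∃ n : ℕ,
      classInner (fun u => θ u * conj (θ u)) (φ : Q → ℂ) = n :=
    fun φ => hψ.exists_nat_classInner φ.2.isCharacter
  choose n hn using hn
  set one : IrrCharacter Q := ⟨fun _ => 1, isIrrCharacter_one⟩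
  have hone : n one = 1 := by
    have h2 : classInner (fun u => θ u * conj (θ u)) (fun _ => (1 : ℂ)) = classInner θ θ := by
      simp [classInner]
    have h3 := hn one
    rw [show (one : Q → ℂ) = fun _ => (1 : ℂ) from rfl, h2, classInner_irr_self hθ] at h3
    exact_mod_cast h3.symm
  have h4 : ((charDegree θ * charDegree θ : ℕ) : ℂ) =
      ((∑ φ : IrrCharacter Q, n φ * charDegree (φ : Q → ℂ) : ℕ) : ℂ) := by
    have h5 := congrFun (eq_sum_classInner hψ.isClassFunction) 1
    simp only [hθ.apply_one_eq_charDegree, Complex.conj_natCast] at h5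
    rw [Nat.cast_mul, h5, Finset.sum_apply, Nat.cast_sum]
    refine Finset.sum_congr rfl fun φ _ => ?_
    rw [Pi.smul_apply, smul_eq_mul, hn, φ.2.apply_one_eq_charDegree, Nat.cast_mul]
  have h6 := Nat.cast_injective h4
  rw [← Finset.add_sum_erase _ _ (Finset.mem_univ one), hone, one_mul] at h6
  have hd1 : charDegree (one : Q → ℂ) = 1 := by
    have h8 := one.2.apply_one_eq_charDegree
    rw [show (one : Q → ℂ) 1 = ((1 : ℕ) : ℂ) by simp [one]] at h8
    exact (Nat.cast_injective h8).symm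
  have h7 : q ∣ ∑ φ ∈ Finset.univ.erase one, n φ * charDegree (φ : Q → ℂ) := by
    refine Finset.dvd_sum fun φ hφ => ?_
    by_cases hd : charDegree (φ : Q → ℂ) = 1
    · obtain ⟨f, hf⟩ := exists_hom_of_degree_one φ.2.isCharacter
        (by rw [φ.2.apply_one_eq_charDegree, hd, Nat.cast_one])
      have hf1 : f ≠ 1 := fun h => (Finset.mem_erase.mp hφ).1 (Subtype.ext (by rw [hf, h]; rfl))
      have h0 := hne f hf1
      rw [← hf, hn] at h0
      rw [Nat.cast_eq_zero.mp h0, zero_mul]
      exact dvd_zero q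
    · exact (hqd φ hd).mul_left _
  have h9 : q ∣ charDegree θ * charDegree θ := (hqd ⟨θ, hθ⟩ h1).mul_right _
  rw [h6, hd1] at h9
  exact hq.out.not_dvd_one ((Nat.dvd_add_left h7).mp h9)

/-- the degree bound -/
theorem card_lt_degree_sq {Pp : Type*} [Group Pp] [Finite Pp] {q : ℕ} [Fact q.Prime]
    (hQ : IsPGroup q Q) (σ : Pp →* MulAut Q) (hP : 1 < Nat.card Pp)
    (hlin : ∀ x : Pp, x ≠ 1 → ∀ φ : Q →* ℂˣ, (∀ u, φ (σ x u) = φ u) → φ = 1)
    {ψ : Q → ℂ} (hψ : IsCharacter Q ψ) (hinv : ∀ (x : Pp) u, ψ (σ x u) = ψ u)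
    (θ : IrrCharacter Q) (hθ1 : (θ : Q → ℂ) ≠ fun _ => 1) (hθ : classInner ψ (θ : Q → ℂ) ≠ 0) :
    Nat.card Pp < charDegree ψ ^ 2 := by
  classical
  haveI := Fintype.ofFinite Pp
  letI act : MulAction Pp (IrrCharacter Q) :=
    { smul := fun y φ => twistIrr (σ y⁻¹) φ
      one_smul := fun φ => Subtype.ext (funext fun u => by
        show (φ : Q → ℂ) (σ (1 : Pp)⁻¹ u) = _
        rw [inv_one, map_one, MulAut.one_apply])
      mul_smul := fun a b φ => Subtype.ext (funext fun u => by
        show (φ : Q → ℂ) (σ (a * b)⁻¹ u) = (φ : Q → ℂ) (σ b⁻¹ (σ a⁻¹ u))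
        rw [mul_inv_rev, map_mul, MulAut.mul_apply]) }
  have hsmul : ∀ (y : Pp) (φ : IrrCharacter Q) (u : Q),
      ((y • φ : IrrCharacter Q) : Q → ℂ) u = (φ : Q → ℂ) (σ y⁻¹ u) := fun _ _ _ => rfl
  set St := MulAction.stabilizer Pp θ
  set d := charDegree (θ : Q → ℂ) with hd
  set O := (MulAction.orbit Pp θ).toFinset with hO
  have horb : O.card * Nat.card St = Nat.card Pp := by
    rw [hO, Set.toFinset_card, Nat.card_eq_fintype_card, Nat.card_eq_fintype_card]
    exact MulAction.card_orbit_mul_card_stabilizer_eq_card_group Pp θ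
  have hbig : O.card * d ≤ charDegree ψ := by
    have h1 : ∑ φ ∈ O, charDegree (φ : Q → ℂ) = O.card * d := by
      rw [Finset.sum_eq_card_nsmul (b := d), smul_eq_mul]
      intro φ hφ
      obtain ⟨y, rfl⟩ := Set.mem_toFinset.mp hφ
      simp only [charDegree, hd, hsmul, map_one]
    rw [← h1]
    refine sum_degree_le hψ O fun φ hφ => ?_
    obtain ⟨y, rfl⟩ := Set.mem_toFinset.mp hφ
    show classInner ψ (twistIrr (σ y⁻¹) θ : Q → ℂ) ≠ 0
    rwa [classInner_twistIrr _ (hinv _)]
  have hdpos : 0 < d := θ.2.charDegree_pos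
  have hfix : ∀ x : St, ∀ u, (θ : Q → ℂ) (σ (x : Pp) u) = (θ : Q → ℂ) u := by
    intro x u
    have h1 : (x : Pp)⁻¹ • θ = θ := MulAction.mem_stabilizer_iff.mp (inv_mem x.2)
    have h2 := congrFun (congrArg Subtype.val h1) u
    rw [hsmul, inv_inv] at h2
    exact h2
  have hkey : Nat.card St = 1 ∨ Nat.card St < d ^ 2 := by
    by_cases hS : Nat.card St = 1
    · exact Or.inl hS
    refine Or.inr ?_
    have hnl : d ≠ 1 := by
      intro hd1
      obtain ⟨f, hf⟩ := exists_hom_of_degree_one θ.2.isCharacter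
        (by rw [θ.2.apply_one_eq_charDegree, ← hd, hd1, Nat.cast_one])
      haveI : Nontrivial St := Finite.one_lt_card_iff_nontrivial.mp (by
        have : 0 < Nat.card St := Nat.card_pos
        omega)
      obtain ⟨x, hx⟩ := exists_ne (1 : St)
      refine hθ1 ?_
      rw [hf, hlin x (fun h => hx (Subtype.ext h)) f fun u => Units.ext ?_]
      · rfl
      · have h3 := hfix x u
        rw [hf] at h3
        exact h3
    obtain ⟨f, hf1, hfc⟩ := exists_linear_constituent hQ θ.2 hnl
    set lam : IrrCharacter Q := ⟨fun u => (f u : ℂ), isIrrCharacter_linear f⟩ with hlam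
    set one : IrrCharacter Q := ⟨fun _ => 1, isIrrCharacter_one⟩
    set S := insert one (Finset.univ.image fun x : St => (x : Pp) • lam) with hS'
    have hχ : IsCharacter Q (fun u => (θ : Q → ℂ) u * conj ((θ : Q → ℂ) u)) :=
      θ.2.isCharacter.mul θ.2.isCharacter.conjFn
    have hinj : Function.Injective fun x : St => (x : Pp) • lam := by
      intro x y hxy
      by_contra hne
      have h1 : ((y : Pp)⁻¹ * (x : Pp)) • lam = lam := by
        rw [mul_smul, show (x : Pp) • lam = (y : Pp) • lam from hxy, inv_smul_smul]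
      refine hf1 (hlin ((y : Pp)⁻¹ * (x : Pp))⁻¹ ?_ f fun u => Units.ext ?_)
      · intro h
        exact hne (Subtype.ext (inv_mul_eq_one.mp (inv_eq_one.mp h)).symm)
      · exact congrFun (congrArg Subtype.val h1) u
    have hnotone : one ∉ Finset.univ.image fun x : St => (x : Pp) • lam := by
      intro h
      obtain ⟨x, -, hx⟩ := Finset.mem_image.mp h
      apply hf1
      ext u
      have h2 := congrFun (congrArg Subtype.val hx) (σ (x : Pp) u)
      rw [hsmul, ← MulAut.mul_apply, ← map_mul, inv_mul_cancel, map_one, MulAut.one_apply] at h2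
      exact h2
    have h5 : ∑ φ ∈ S, charDegree (φ : Q → ℂ) = S.card := by
      rw [Finset.card_eq_sum_ones]
      refine Finset.sum_congr rfl fun φ hφ => ?_
      have h6 : (φ : Q → ℂ) 1 = 1 := by
        rcases Finset.mem_insert.mp hφ with rfl | hφ
        · rfl
        · obtain ⟨x, -, rfl⟩ := Finset.mem_image.mp hφ
          simp [hsmul, hlam]
      rw [φ.2.apply_one_eq_charDegree] at h6
      exact_mod_cast h6
    have h7 : S.card = Nat.card St + 1 := by
      rw [hS', Finset.card_insert_of_notMem hnotone, Finset.card_image_of_injective _ hinj,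
        Finset.card_univ, Nat.card_eq_fintype_card]
    have h8 : charDegree (fun u => (θ : Q → ℂ) u * conj ((θ : Q → ℂ) u)) = d ^ 2 := by
      have h9 := hχ.apply_one_eq_charDegree
      simp only [θ.2.apply_one_eq_charDegree, Complex.conj_natCast, ← hd] at h9
      rw [← Nat.cast_mul, Nat.cast_inj] at h9
      rw [← h9, pow_two]
    have h10 := sum_degree_le hχ S fun φ hφ => by
      rcases Finset.mem_insert.mp hφ with rfl | hφ
      · have h2 : classInner (fun u => (θ : Q → ℂ) u * conj ((θ : Q → ℂ) u)) (fun _ => (1 : ℂ)) =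
            classInner (θ : Q → ℂ) θ := by simp [classInner]
        rw [show (one : Q → ℂ) = fun _ => (1 : ℂ) from rfl, h2, classInner_irr_self θ.2]
        exact one_ne_zero
      · obtain ⟨x, -, rfl⟩ := Finset.mem_image.mp hφ
        show classInner _ (twistIrr (σ (x : Pp)⁻¹) lam : Q → ℂ) ≠ 0
        rw [classInner_twistIrr _ fun u => ?_]
        · exact hfc
        · have h11 : (θ : Q → ℂ) (σ (x : Pp)⁻¹ u) = (θ : Q → ℂ) u := hfix x⁻¹ u
          simp only [h11]
    rw [h5, h7, h8] at h10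
    omega
  rw [← horb]
  rcases hkey with hS | hS
  · rw [hS, mul_one] at horb ⊢
    calc O.card < O.card ^ 2 := by
          have h1 : 1 < O.card := horb ▸ hP
          nlinarith
      _ ≤ (O.card * d) ^ 2 := Nat.pow_le_pow_left (Nat.le_mul_of_pos_right _ hdpos) 2
      _ ≤ charDegree ψ ^ 2 := Nat.pow_le_pow_left hbig 2
  · have hOpos : 0 < O.card := by
      rcases Nat.eq_zero_or_pos O.card with h0 | h0
      · rw [h0, zero_mul] at horb; omega
      · exact h0
    calc O.card * Nat.card St < O.card * d ^ 2 := Nat.mul_lt_mul_of_pos_left hS hOpos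
      _ ≤ O.card ^ 2 * d ^ 2 := Nat.mul_le_mul_right _ (Nat.le_self_pow two_ne_zero _)
      _ = (O.card * d) ^ 2 := (mul_pow _ _ _).symm
      _ ≤ charDegree ψ ^ 2 := Nat.pow_le_pow_left hbig 2

end Abstract

section Concrete

variable {G : Type u} [Group G]

theorem le_normalizer_commutator' {Q P : Subgroup G} (h : P ≤ Subgroup.normalizer (Q : Set G)) :
    P ≤ Subgroup.normalizer ((⁅Q, P⁆ : Subgroup G) : Set G) := by
  intro b hb
  have key : ∀ {H : Subgroup G}, b ∈ Subgroup.normalizer (H : Set G) →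
      H.map (MulAut.conj b).toMonoidHom = H := by
    intro H hH
    ext u
    constructor
    · rintro ⟨v, hv, rfl⟩
      exact (Subgroup.mem_normalizer_iff.mp hH v).mp hv
    · intro hu
      refine ⟨b⁻¹ * u * b, ?_, by simp [mul_assoc]⟩
      have := (Subgroup.mem_normalizer_iff.mp (inv_mem hH) u).mp hu
      simpa using this
  have hmap : (⁅Q, P⁆ : Subgroup G).map (MulAut.conj b).toMonoidHom = ⁅Q, P⁆ := by
    rw [Subgroup.map_commutator, key (h hb), key (Subgroup.le_normalizer hb)]
  rw [Subgroup.mem_normalizer_iff]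
  intro u
  constructor
  · intro hu
    rw [← hmap]
    exact ⟨u, hu, by simp⟩
  · intro hu
    rw [← hmap] at hu
    obtain ⟨v, hv, hvu⟩ := hu
    have hvu' : v = u := by simpa using hvu
    exact hvu' ▸ hv

/-- conjugation on an invariant subgroup -/
def conjAct {Q P : Subgroup G} (h : P ≤ Subgroup.normalizer (Q : Set G)) : P →* MulAut Q where
  toFun y :=
    { toFun := fun u => ⟨(y : G) * u * (y : G)⁻¹, (Subgroup.mem_normalizer_iff.mp (h y.2) u).mp u.2⟩
      invFun := fun u => ⟨(y : G)⁻¹ * u * (y : G), by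
        have := (Subgroup.mem_normalizer_iff.mp (inv_mem (h y.2)) u).mp u.2
        simpa using this⟩
      left_inv := fun u => Subtype.ext (by simp [mul_assoc])
      right_inv := fun u => Subtype.ext (by simp [mul_assoc])
      map_mul' := fun a b => Subtype.ext (by simp [mul_assoc]) }
  map_one' := by ext u; simp
  map_mul' a b := by ext u; simp [mul_assoc]

theorem conjAct_apply {Q P : Subgroup G} (h : P ≤ Subgroup.normalizer (Q : Set G)) (y : P) (u : Q) :
    ((conjAct h y u : Q) : G) = (y : G) * u * (y : G)⁻¹ := rfl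

theorem linear_eq_one [Finite G] {P Q : Subgroup G} (hPQ : P ≤ Subgroup.normalizer (Q : Set G))
    (hcop : (Nat.card P).Coprime (Nat.card Q)) [Group.IsSolvable P] (hgen : ⁅Q, P⁆ = Q)
    (hC : ∀ x ∈ P, x ≠ 1 → ∀ u ∈ Q, x * u = u * x → ∀ y ∈ P, y * u = u * y)
    (x : P) (hx : x ≠ 1) (φ : Q →* ℂˣ) (hφ : ∀ u, φ (conjAct hPQ x u) = φ u) : φ = 1 := by
  classical
  haveI := Fintype.ofFinite P
  -- the norm of `φ` under `P` is trivial
  have hnorm : ∀ u : Q, ∏ y : P, φ (conjAct hPQ y u) = 1 := by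
    let Λ : Q →* ℂˣ :=
      { toFun := fun u => ∏ y : P, φ (conjAct hPQ y u)
        map_one' := by simp
        map_mul' := fun a b => by simp [Finset.prod_mul_distrib] }
    have hΛ : ∀ (a : P) (v : Q), Λ (conjAct hPQ a v) = Λ v := by
      intro a v
      show ∏ y : P, φ (conjAct hPQ y (conjAct hPQ a v)) = ∏ y : P, φ (conjAct hPQ y v)
      refine Fintype.prod_equiv (Equiv.mulRight a) _ _ fun y => ?_
      rw [Equiv.coe_mulRight, map_mul, MulAut.mul_apply]
    have hker : Q ≤ Λ.ker.map Q.subtype := by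
      refine hgen.symm.le.trans (Subgroup.commutator_le.mpr fun u hu a ha => ?_)
      refine ⟨⟨u, hu⟩ * conjAct hPQ ⟨a, ha⟩ ⟨u, hu⟩⁻¹, ?_, ?_⟩
      · rw [SetLike.mem_coe, MonoidHom.mem_ker, map_mul, hΛ, map_inv, mul_inv_cancel]
      · simp [commutatorElement_def, conjAct_apply, mul_assoc]
    intro u
    obtain ⟨v, hv, hvu⟩ := hker u.2
    rw [show u = v from Subtype.ext hvu.symm]
    exact hv
  have hfixC : ∀ u : Q, (x : G) * u = u * x → φ u = 1 := by
    intro u hu
    have h1 : ∀ y : P, conjAct hPQ y u = u := by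
      intro y
      apply Subtype.ext
      rw [conjAct_apply, hC x x.2 (fun h => hx (Subtype.ext h)) u u.2 hu y y.2, mul_inv_cancel_right]
    have h2 := hnorm u
    simp only [h1, Finset.prod_const, Finset.card_univ, ← Nat.card_eq_fintype_card] at h2
    have h3 : φ u ^ Nat.card Q = 1 := by rw [← map_pow, pow_card_eq_one', map_one]
    have h4 : φ u ^ Nat.gcd (Nat.card P) (Nat.card Q) = 1 := pow_gcd_eq_one.mpr ⟨h2, h3⟩
    rwa [hcop.gcd_eq_one, pow_one] at h4
  set X := Subgroup.zpowers (x : G) with hX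
  have hXP : X ≤ P := Subgroup.zpowers_le.mpr x.2
  have hker : Q ≤ φ.ker.map Q.subtype := by
    intro u hu
    obtain ⟨n, hn, c, hc, rfl⟩ := Cfsg.Lib.Coprime.le_commutator_sup_centralizer (G := Q) (A := X)
      (hXP.trans hPQ) (Nat.Coprime.coprime_dvd_left (Subgroup.card_dvd_of_le hXP) hcop)
      (Or.inl inferInstance) hu
    refine mul_mem ?_ ?_
    · have hsub : ⁅Q, X⁆ ≤ φ.ker.map Q.subtype := by
        refine Subgroup.commutator_le.mpr fun v hv a ha => ?_
        obtain ⟨i, rfl⟩ := Subgroup.mem_zpowers_iff.mp ha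
        refine ⟨⟨v, hv⟩ * conjAct hPQ (x ^ i) ⟨v, hv⟩⁻¹, ?_, ?_⟩
        · have hpow : ∀ (j : ℤ) (w : Q), φ (conjAct hPQ (x ^ j) w) = φ w := by
            intro j
            induction j with
            | zero => simp
            | succ j ih => intro w; rw [zpow_add_one, map_mul, MulAut.mul_apply, ih, hφ]
            | pred j ih =>
              intro w
              rw [zpow_sub_one, map_mul, MulAut.mul_apply, ih]
              conv_rhs => rw [← MulAut.one_apply Q w, ← map_one (conjAct hPQ), ← mul_inv_cancel x,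
                map_mul, MulAut.mul_apply, hφ]
          rw [SetLike.mem_coe, MonoidHom.mem_ker, map_mul, hpow, map_inv, mul_inv_cancel]
        · simp [commutatorElement_def, conjAct_apply, mul_assoc, -map_zpow]
      exact hsub hn
    · exact ⟨⟨c, hc.1⟩, hfixC ⟨c, hc.1⟩
        (Subgroup.mem_centralizer_iff.mp hc.2 _ (Subgroup.mem_zpowers _)), rfl⟩
  refine MonoidHom.ext fun u => ?_
  obtain ⟨v, hv, hvu⟩ := hker u.2
  rw [show u = v from Subtype.ext hvu.symm]
  exact hv

end Concrete


/-- Let G be a finite p-solvable group whose Sylow p-subgroup P meets each conjugate g P g⁻¹ with g outside N_G(P) trivially, and let χ be a faithful character of G (χ g = χ 1 only for g = 1) whose degree d satisfies d² ≤ |P|. Then P is normal in G. -/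
theorem result {G : Type*} [Group G] [Finite G] (p : ℕ) [Fact p.Prime] (hsolv : Cfsg.IsPSolvable p G) (P : Sylow p G) (hTI : ∀ g : G, g ∉ Subgroup.normalizer ((P : Subgroup G) : Set G) → (P : Subgroup G) ⊓ (MulAut.conj g • (P : Subgroup G)) = ⊥) (χ : G → ℂ) (hχ : Cfsg.IsCharacter G χ) (hfaith : ∀ g : G, χ g = χ 1 → g = 1) (hdeg : Cfsg.charDegree χ ^ 2 ≤ Nat.card ↥(P : Subgroup G)) : (P : Subgroup G).Normal := by
  classical
  by_contra hPn
  haveI : Fintype G := Fintype.ofFinite G
  have hp : p.Prime := Fact.out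
  have hPne : (P : Subgroup G) ≠ ⊥ := fun h => hPn (by rw [h]; infer_instance)
  -- the p-core is trivial
  have hO : Cfsg.pCore p G = ⊥ := by
    by_contra hne
    apply hPn
    rw [← Subgroup.normalizer_eq_top_iff, eq_top_iff]
    intro g _
    by_contra hg
    refine hne (le_bot_iff.mp ?_)
    rw [← hTI g hg]
    refine le_inf (Cfsg.Lib.Core.pCore_le_sylow P) ?_
    intro a ha
    rw [Subgroup.mem_pointwise_smul_iff_inv_smul_mem]
    refine Cfsg.Lib.Core.pCore_le_sylow P ?_
    rw [← map_inv, MulAut.smul_def, MulAut.conj_apply, inv_inv]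
    simpa using (inferInstance : (Cfsg.pCore p G).Normal).conj_mem a ha g⁻¹
  set K := Cfsg.pPrimeCore p G with hK
  haveI hKn : K.Normal := by rw [hK]; infer_instance
  have hPK : (P : Subgroup G) ≤ Subgroup.normalizer (K : Set G) :=
    fun a _ => by rw [Subgroup.normalizer_eq_top]; trivial
  haveI hPsol : Group.IsSolvable ↥(P : Subgroup G) := by
    haveI := P.isPGroup'.isNilpotent
    infer_instance
  have hcopK : (Nat.card ↥(P : Subgroup G)).Coprime (Nat.card K) := by
    obtain ⟨a, ha⟩ := IsPGroup.iff_card.mp P.isPGroup'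
    rw [ha]
    exact (Cfsg.Lib.Core.pPrimeCore_coprime p G).symm.pow_left a
  have hPnc : ¬ (P : Subgroup G) ≤ Subgroup.centralizer (K : Set G) := by
    intro hPC
    haveI : Nontrivial (G ⧸ K) := by
      rw [← not_subsingleton_iff_nontrivial]
      intro hsub
      have hKtop : K = ⊤ := QuotientGroup.subgroup_eq_top_of_subsingleton K hsub
      refine hPne (disjoint_self.mp ?_)
      exact (Cfsg.Lib.Coprime.disjoint_of_coprime_card hcopK).mono_right (hKtop ▸ le_top)
    have hne := Cfsg.Lib.Core.pCore_ne_bot_of_isPSolvable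
      (Cfsg.Lib.Core.isPSolvable_quotient hsolv K) (Cfsg.Lib.Core.pPrimeCore_quotient_eq_bot)
    set Rb := Cfsg.pCore p (G ⧸ K) with hRb
    set R := Rb.comap (QuotientGroup.mk' K) with hR
    haveI : R.Normal := by rw [hR]; infer_instance
    -- the image of `P` is a Sylow subgroup, so `R = (R ⊓ P) K`
    let Pb : Sylow p (G ⧸ K) := P.mapSurjective (QuotientGroup.mk'_surjective K)
    have hRP : R ≤ ((P : Subgroup G) ⊓ R) ⊔ K := by
      intro r hr
      obtain ⟨y, hy, hyr⟩ := (Cfsg.Lib.Core.pCore_le_sylow Pb) (Subgroup.mem_comap.mp hr)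
      have hyR : y ∈ R := Subgroup.mem_comap.mpr (by rw [hyr]; exact Subgroup.mem_comap.mp hr)
      have hk : y⁻¹ * r ∈ K := QuotientGroup.eq.mp hyr
      rw [show r = y * (y⁻¹ * r) by group]
      exact Subgroup.mul_mem_sup ⟨hy, hyR⟩ hk
    set D := (P : Subgroup G) ⊓ R with hD
    haveI hDn : D.Normal := by
      constructor
      intro a ha g
      have hgR : g * a * g⁻¹ ∈ R := Subgroup.Normal.conj_mem inferInstance a ha.2 g
      obtain ⟨y, hy, k, hk, hyk⟩ := Subgroup.mem_sup_of_normal_right.mp (hRP hgR)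
      -- a p-element of `D × K` lies in `D`
      obtain ⟨n, hn⟩ := P.isPGroup' ⟨a, ha.1⟩
      obtain ⟨m, hm⟩ := P.isPGroup' ⟨y, hy.1⟩
      have hn' : (g * a * g⁻¹) ^ p ^ (n + m) = 1 := by
        rw [conj_pow, pow_add, pow_mul, show a ^ p ^ n = 1 from congrArg Subtype.val hn, one_pow,
          mul_one, mul_inv_cancel]
      have hm' : y ^ p ^ (n + m) = 1 := by
        rw [add_comm, pow_add, pow_mul, show y ^ p ^ m = 1 from congrArg Subtype.val hm, one_pow]
      rw [← hyk, Commute.mul_pow (Subgroup.mem_centralizer_iff.mp (hPC hy.1) k hk).symm, hm',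
        one_mul] at hn'
      have hk1 : k = 1 := by
        rw [← orderOf_eq_one_iff]
        refine Nat.eq_one_of_dvd_coprimes (Nat.Coprime.pow_left (n + m)
          (Cfsg.Lib.Core.pPrimeCore_coprime p G).symm) (orderOf_dvd_of_pow_eq_one hn') ?_
        exact (Subgroup.orderOf_coe ⟨k, hk⟩).symm ▸ orderOf_dvd_natCard _
      rw [← hyk, hk1, mul_one]
      exact hy
    have hDbot : D = ⊥ := le_bot_iff.mp (hO ▸ Cfsg.Lib.Core.le_pCore
      (IsPGroup.to_le P.isPGroup' inf_le_left))
    apply hne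
    rw [eq_bot_iff]
    intro r hr
    obtain ⟨g, rfl⟩ := QuotientGroup.mk'_surjective K r
    have := hRP (Subgroup.mem_comap.mpr hr)
    rw [hDbot, bot_sup_eq] at this
    rw [Subgroup.mem_bot, QuotientGroup.mk'_apply, QuotientGroup.eq_one_iff]
    exact this
  -- an invariant Sylow subgroup of `K` on which `P` acts nontrivially
  obtain ⟨q, hq, S, hSn, hSc⟩ : ∃ (q : ℕ) (_ : Fact q.Prime) (S : Sylow q K),
      (P : Subgroup G) ≤ Subgroup.normalizer (((S : Subgroup K).map K.subtype : Subgroup G) : Set G) ∧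
      ¬ (P : Subgroup G) ≤ Subgroup.centralizer (((S : Subgroup K).map K.subtype : Subgroup G) : Set G) := by
    by_contra hall
    push Not at hall
    apply hPnc
    set C := K ⊓ Subgroup.centralizer ((P : Subgroup G) : Set G) with hC
    have hCK : C = K := by
      refine Subgroup.eq_of_le_of_card_ge inf_le_left (Nat.le_of_dvd Nat.card_pos ?_)
      rw [Nat.dvd_iff_prime_pow_dvd_dvd]
      intro q k hq hk
      haveI : Fact q.Prime := ⟨hq⟩
      obtain ⟨S, hS⟩ := Cfsg.Lib.Coprime.exists_invariant_sylow hPK hcopK (Or.inl hPsol) q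
      have h1 := hall q ⟨hq⟩ S hS
      have h2 : (S : Subgroup K).map K.subtype ≤ C := by
        refine le_inf (Subgroup.map_subtype_le _) fun u hu => ?_
        exact Subgroup.mem_centralizer_iff.mpr fun y hy =>
          (Subgroup.mem_centralizer_iff.mp (h1 hy) u hu).symm
      refine (?_ : q ^ k ∣ Nat.card (S : Subgroup K)).trans ?_
      · rw [S.card_eq_multiplicity]
        exact pow_dvd_pow q ((hq.pow_dvd_iff_le_factorization Nat.card_pos.ne').mp hk)
      · rw [← Subgroup.card_map_of_injective (f := K.subtype) K.subtype_injective]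
        exact Subgroup.card_dvd_of_le h2
    intro y hy
    rw [← hCK]
    exact Subgroup.mem_centralizer_iff.mpr fun u hu =>
      (Subgroup.mem_centralizer_iff.mp hu.2 y hy).symm
  set Q0 := (S : Subgroup K).map K.subtype with hQ0
  have hQ0K : Q0 ≤ K := Subgroup.map_subtype_le _
  have hcop0 : (Nat.card ↥(P : Subgroup G)).Coprime (Nat.card Q0) :=
    hcopK.coprime_dvd_right (Subgroup.card_dvd_of_le hQ0K)
  set Q := ⁅Q0, (P : Subgroup G)⁆ with hQ
  have hQQ0 : Q ≤ Q0 := Cfsg.Lib.Coprime.commutator_le_of_le_normalizer hSn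
  have hgen : ⁅Q, (P : Subgroup G)⁆ = Q :=
    Cfsg.Lib.Coprime.commutator_commutator_eq hSn hcop0 (Or.inl hPsol)
  have hPQ : (P : Subgroup G) ≤ Subgroup.normalizer (Q : Set G) := le_normalizer_commutator' hSn
  have hQne : Q ≠ ⊥ := by
    intro h
    apply hSc
    intro y hy
    exact Subgroup.mem_centralizer_iff.mpr fun u hu =>
      commutatorElement_eq_one_iff_mul_comm.mp
        (Subgroup.mem_bot.mp (h ▸ Subgroup.commutator_mem_commutator hu hy))
  have hcop : (Nat.card ↥(P : Subgroup G)).Coprime (Nat.card Q) :=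
    hcop0.coprime_dvd_right (Subgroup.card_dvd_of_le hQQ0)
  have hQq : IsPGroup q Q := IsPGroup.to_le (S.isPGroup'.map K.subtype) hQQ0
  have hC : ∀ x ∈ (P : Subgroup G), x ≠ 1 → ∀ u ∈ Q, x * u = u * x →
      ∀ y ∈ (P : Subgroup G), y * u = u * y := by
    intro x hx hx1 u hu hxu y hy
    have hun : u ∈ Subgroup.normalizer ((P : Subgroup G) : Set G) := by
      by_contra hun
      refine hx1 (Subgroup.mem_bot.mp ((hTI u hun).le (Subgroup.mem_inf.mpr ⟨hx, ?_⟩)))
      rw [Subgroup.mem_pointwise_smul_iff_inv_smul_mem]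
      rw [← map_inv, MulAut.smul_def, MulAut.conj_apply, inv_inv, mul_assoc, hxu,
        inv_mul_cancel_left]
      exact hx
    have h1 : ⁅u, y⁆ ∈ (P : Subgroup G) := by
      rw [commutatorElement_def]
      exact mul_mem ((Subgroup.mem_normalizer_iff.mp hun y).mp hy) (inv_mem hy)
    have h2 : ⁅u, y⁆ ∈ Q := hgen.le (Subgroup.commutator_mem_commutator hu hy)
    have h3 := Subgroup.disjoint_def.mp (Cfsg.Lib.Coprime.disjoint_of_coprime_card hcop) h1 h2
    exact (commutatorElement_eq_one_iff_mul_comm.mp h3).symm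
  -- the character on `Q`
  set ψ : Q → ℂ := fun u => χ (u : G) with hψdef
  have hψ : IsCharacter Q ψ := hχ.comp Q.subtype
  have hinv : ∀ (x : ↥(P : Subgroup G)) (u : Q), ψ (conjAct hPQ x u) = ψ u :=
    fun x u => hχ.conj_invariant (u : G) (x : G)
  obtain ⟨θ, hθ1, hθ⟩ : ∃ θ : IrrCharacter Q, (θ : Q → ℂ) ≠ (fun _ => 1) ∧
      classInner ψ (θ : Q → ℂ) ≠ 0 := by
    by_contra hne
    push Not at hne
    apply hQne
    rw [Subgroup.eq_bot_iff_forall]
    intro u hu
    apply hfaith
    have h1 := eq_sum_classInner hψ.isClassFunction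
    rw [Finset.sum_eq_single ⟨fun _ => 1, isIrrCharacter_one⟩] at h1
    · exact (congrFun h1 ⟨u, hu⟩).trans (congrFun h1 1).symm
    · intro φ _ hφ
      rw [hne φ (fun h => hφ (Subtype.ext h)), zero_smul]
    · simp
  have hP1 : 1 < Nat.card ↥(P : Subgroup G) := (Subgroup.one_lt_card_iff_ne_bot _).mpr hPne
  have hlt := card_lt_degree_sq hQq (conjAct hPQ) hP1
    (linear_eq_one hPQ hcop hgen hC) hψ hinv θ hθ1 hθ
  have hdegeq : charDegree ψ = charDegree χ := rfl
  rw [hdegeq] at hlt
  omega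


end Cfsg.Agent.S4748
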