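import Cfsg.Statements.S4750
import Cfsg.Agent.Lib.Block.SmallFixed
import Cfsg.Agent.Lib.Char.Constituents
import Cfsg.Agent.Lib.Char.Formulas

set_option autoImplicit false
open Cfsg Cfsg.Lib.Char
open scoped ComplexConjugate Pointwise

namespace Cfsg.Agent.S4750

/-- Let P be a Sylow p-subgroup of the finite group G that meets each conjugate g P g⁻¹ with g outside N_G(P) trivially, χ a character of G with χ(1)² ≤ |P|, and H a subgroup of G containing N_G(P). Then the inner product of χ with itself over G equals the inner product over H of the restriction of χ to H. -/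
theorem result {G : Type*} [Group G] [Fintype G] [DecidableEq G] (p : ℕ) [Fact p.Prime] (P : Sylow p G) (hTI : ∀ g : G, g ∉ Subgroup.normalizer ((P : Subgroup G) : Set G) → (P : Subgroup G) ⊓ (MulAut.conj g • (P : Subgroup G)) = ⊥) (χ : G → ℂ) (hχ : Cfsg.IsCharacter G χ) (hdeg : Cfsg.charDegree χ ^ 2 ≤ Nat.card ↥(P : Subgroup G)) (H : Subgroup G) [Fintype ↥H] (hH : Subgroup.normalizer ((P : Subgroup G) : Set G) ≤ H) : Cfsg.classInner χ χ = Cfsg.classInner (fun h : ↥H => χ h) (fun h : ↥H => χ h) := by
  classical
  set θ : G → ℂ := fun g => χ g * conj (χ g) with hθdef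
  have hθ : IsCharacter G θ := hχ.mul hχ.conjFn
  have hG : classInner χ χ = classInner θ (fun _ => 1) := by
    rw [classInner_one_right]
    rfl
  have hH' : classInner (fun h : ↥H => χ h) (fun h : ↥H => χ h)
      = classInner (fun h : ↥H => θ h) (fun _ => 1) := by
    rw [classInner_one_right]
    rfl
  rw [hG, hH']
  choose m hm using fun φ : IrrCharacter G => hθ.exists_nat_classInner φ.2.isCharacter
  let one : IrrCharacter G := ⟨fun _ => 1, isIrrCharacter_one⟩
  have hexp : θ = ∑ φ : IrrCharacter G, (m φ : ℂ) • (φ : G → ℂ) := by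
    conv_lhs => rw [eq_sum_classInner hθ.isClassFunction]
    simp only [hm]
  have hres : (fun h : ↥H => θ h) = ∑ φ : IrrCharacter G, (m φ : ℂ) • fun h : ↥H => (φ : G → ℂ) h := by
    funext h
    conv_lhs => rw [hexp]
    simp only [Finset.sum_apply, Pi.smul_apply]
  rw [hres, classInner_sum_left, Finset.sum_eq_single one]
  · rw [classInner_smul_left]
    have : classInner (fun h : ↥H => ((one : IrrCharacter G) : G → ℂ) h) (fun _ => (1 : ℂ)) = 1 :=
      classInner_irr_self (isIrrCharacter_one : IsIrrCharacter ↥H fun _ => 1)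
    rw [this, mul_one, ← hm one]
  · intro φ _ hne
    rw [classInner_smul_left]
    by_cases hm0 : m φ = 0
    · rw [hm0, Nat.cast_zero, zero_mul]
    -- the degree of `φ` is less than the order of `P`
    have hdθ : (θ 1).re = (charDegree χ ^ 2 : ℕ) := by
      rw [hθdef]
      simp only [hχ.apply_one_eq_charDegree, map_natCast]
      rw [← Nat.cast_mul, Complex.natCast_re, pow_two]
    have hm1 : 0 < m one := by
      by_contra h0
      have h0' : classInner χ χ = 0 := by
        rw [hG, show (fun _ : G => (1 : ℂ)) = ((one : IrrCharacter G) : G → ℂ) from rfl, hm one,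
          show m one = 0 by omega, Nat.cast_zero]
      have hz := eq_zero_of_classInner_self h0'
      have hθ0 : θ = 0 := by funext g; simp [hθdef, hz]
      apply hm0
      have := hm φ
      rw [hθ0, classInner_zero_left] at this
      exact_mod_cast this.symm
    have hlt : charDegree (φ : G → ℂ) < Nat.card ↥(P : Subgroup G) := by
      have hval := congrArg Complex.re (congrFun hexp 1)
      simp only [Finset.sum_apply, Pi.smul_apply, smul_eq_mul, Complex.re_sum] at hval
      rw [hdθ, Finset.sum_congr rfl (g := fun ψ : IrrCharacter G =>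
        ((m ψ * charDegree (ψ : G → ℂ) : ℕ) : ℝ)) (fun ψ _ => by
          rw [ψ.2.apply_one_eq_charDegree, ← Nat.cast_mul, Complex.natCast_re]),
        ← Nat.cast_sum, Nat.cast_inj] at hval
      have hle := Finset.sum_le_sum_of_subset (f := fun ψ : IrrCharacter G =>
        m ψ * charDegree (ψ : G → ℂ)) (Finset.subset_univ ({φ, one} : Finset (IrrCharacter G)))
      rw [Finset.sum_pair hne, ← hval] at hle
      have h1 : charDegree ((one : IrrCharacter G) : G → ℂ) = 1 := by simp [one, charDegree]
      rw [h1, mul_one] at hle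
      have h2 : charDegree (φ : G → ℂ) ≤ m φ * charDegree (φ : G → ℂ) :=
        Nat.le_mul_of_pos_left _ (Nat.pos_of_ne_zero hm0)
      omega
    obtain ⟨n, ρ, hρ, hρφ⟩ := φ.2
    have hn : Module.finrank ℂ (Fin n → ℂ) < Nat.card ↥(P : Subgroup G) := by
      have : charDegree (φ : G → ℂ) = Module.finrank ℂ (Fin n → ℂ) := by
        unfold charDegree
        rw [← hρφ, Representation.char_one]
        simp
      omega
    have hnofix : ∀ v : Fin n → ℂ, (∀ g : G, ρ g v = v) → v = 0 := by
      intro v hv
      by_contra hv0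
      apply hne
      have hirr := (isIrreducible_iff_submodule ρ).mp hρ
      have htop : Submodule.span ℂ {v} = ⊤ := by
        refine (hirr.2 _ fun g x hx => ?_).resolve_left ?_
        · obtain ⟨a, rfl⟩ := Submodule.mem_span_singleton.mp hx
          rw [map_smul, hv g]
          exact Submodule.mem_span_singleton.mpr ⟨a, rfl⟩
        · rwa [Submodule.span_singleton_eq_bot]
      have hid : ∀ g : G, ρ g = 1 := fun g => LinearMap.ext fun x => by
        obtain ⟨a, rfl⟩ := Submodule.mem_span_singleton.mp (htop ▸ Submodule.mem_top : x ∈ Submodule.span ℂ {v})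
        rw [map_smul, hv g]; rfl
      have h1 : Module.finrank ℂ (Fin n → ℂ) = 1 := by
        have := finrank_span_singleton (K := ℂ) hv0
        rwa [htop, finrank_top] at this
      apply Subtype.ext
      funext g
      show (φ : G → ℂ) g = 1
      rw [← hρφ]
      show LinearMap.trace ℂ _ (ρ g) = 1
      rw [hid, LinearMap.trace_one, h1, Nat.cast_one]
    have hop : ∑ h : ↥H, ρ (h : G) = 0 := by
      refine LinearMap.ext fun v => ?_
      rw [LinearMap.sum_apply, LinearMap.zero_apply]
      refine Cfsg.Lib.Block.eq_zero_of_small_fixed ρ P hTI H hH hn hnofix fun a ha => ?_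
      rw [map_sum]
      refine Fintype.sum_equiv (Equiv.mulLeft (⟨a, ha⟩ : ↥H)) _ _ fun h => ?_
      simp only [Equiv.coe_mulLeft, Subgroup.coe_mul]
      rw [map_mul, Module.End.mul_apply]
    have hzero : classInner (fun h : ↥H => (φ : G → ℂ) h) (fun _ => (1 : ℂ)) = 0 := by
      rw [classInner_one_right, ← hρφ]
      show _ * ∑ h : ↥H, LinearMap.trace ℂ _ (ρ (h : G)) = 0
      rw [← map_sum, hop, map_zero, mul_zero]
    rw [hzero, mul_zero]
  · intro h; exact absurd (Finset.mem_univ _) h

end Cfsg.Agent.S4750
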