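import Cfsg.Statements.S4751
import Cfsg.Agent.Lib.Block.RootValues
-- import your own Cfsg.Agent.* helpers here

set_option autoImplicit false
open Cfsg

namespace Cfsg.Agent.S4751

/-- Let χ be a faithful, non-linear irreducible character of the finite group G (χ g = χ 1 only for g = 1, χ 1 ≠ 1) whose value at every element of order divisible by p is a root of unity, and suppose P = O_p(G) ≠ 1. Then either P is an elementary abelian Sylow p-subgroup of G, C_G(P) is the internal direct product of P and Z(G), G acts transitively by conjugation on the non-principal linear characters of P, and χ 1 = |P| − 1; or p = 2 and G is the internal direct product of a subgroup isomorphic to the symmetric group S₄ and the centre Z(G), which has odd order. -/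
theorem result {G : Type*} [Group G] [Finite G] (p : ℕ) [Fact p.Prime] (χ : Cfsg.IrrCharacter G) (hfaith : ∀ g : G, (χ : G → ℂ) g = (χ : G → ℂ) 1 → g = 1) (hnl : (χ : G → ℂ) 1 ≠ 1) (hroot : ∀ g : G, p ∣ orderOf g → ∃ n : ℕ, 0 < n ∧ ((χ : G → ℂ) g) ^ n = 1) (hP : Cfsg.pCore p G ≠ ⊥) : ((Nat.card ↥(Cfsg.pCore p G)).factorization p = (Nat.card G).factorization p ∧ Cfsg.IsElementaryAbelian p (Cfsg.pCore p G) ∧ Subgroup.centralizer ((Cfsg.pCore p G : Subgroup G) : Set G) = Cfsg.pCore p G ⊔ Subgroup.center G ∧ Cfsg.pCore p G ⊓ Subgroup.center G = ⊥ ∧ (∀ lam mu : ↥(Cfsg.pCore p G) → ℂ, Cfsg.IsCharacter ↥(Cfsg.pCore p G) lam → lam 1 = 1 → lam ≠ (fun _ => (1 : ℂ)) → Cfsg.IsCharacter ↥(Cfsg.pCore p G) mu → mu 1 = 1 → mu ≠ (fun _ => (1 : ℂ)) → ∃ g : G, ∀ (x : G) (hx : x ∈ Cfsg.pCore p G) (hgx : g * x * g⁻¹ ∈ Cfsg.pCore p G), mu ⟨x, hx⟩ = lam ⟨g * x * g⁻¹, hgx⟩) ∧ (χ : G → ℂ) 1 = (Nat.card ↥(Cfsg.pCore p G) : ℂ) - 1) ∨ (p = 2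 ∧ Odd (Nat.card ↥(Subgroup.center G)) ∧ ∃ H : Subgroup G, Nonempty (↥H ≃* Equiv.Perm (Fin 4)) ∧ H ⊓ Subgroup.center G = ⊥ ∧ H ⊔ Subgroup.center G = ⊤) := by
  classical
  haveI := Fintype.ofFinite G
  have hnl' : charDegree (χ : G → ℂ) ≠ 1 := fun h => hnl (by
    rw [Lib.Block.apply_one_eq_charDegree χ, h, Nat.cast_one])
  have hnorm : ∀ g : G, p ∣ orderOf g → ‖(χ : G → ℂ) g‖ = 1 := fun g hg => by
    obtain ⟨n, hn, h⟩ := hroot g hg
    exact Complex.norm_eq_one_of_pow_eq_one h hn.ne'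
  haveI : (Cfsg.pCore p G).Normal := inferInstance
  have hPp : IsPGroup p (Cfsg.pCore p G) := Cfsg.Lib.Core.pCore_isPGroup p G
  have hmax : ∀ N : Subgroup G, N.Normal → IsPGroup p N → N ≤ Cfsg.pCore p G :=
    fun N hN h => Cfsg.Lib.Core.le_pCore' hN h
  rcases Lib.Block.RootValues.sylow_cases χ hfaith hnl' hnorm _ hPp hP with
    hS | ⟨hp2, hcard, y, hy, hy2, hyp⟩
  · obtain ⟨hn, -, htrans, -⟩ :=
      Lib.Block.RootValues.restriction χ hfaith hnl' hnorm _ hPp hP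
    refine Or.inl ⟨hS, ⟨⟨⟨Lib.Block.RootValues.comm_of_normal χ hfaith hnorm _ hPp hP⟩⟩,
      fun a ha => congrArg Subtype.val
        (Lib.Block.RootValues.pow_prime χ hfaith hnl' hnorm _ hPp hP ⟨a, ha⟩)⟩,
      Lib.Block.RootValues.centralizer_eq χ hfaith hnl' hnorm _ hPp hP hmax,
      Lib.Block.RootValues.inf_center χ hfaith hnl' hnorm _ hPp hP, ?_, ?_⟩
    · intro lam mu hl hl1 hlne hm hm1 hmne
      obtain ⟨g, hg⟩ := htrans ⟨lam, Lib.Char.isIrrCharacter_of_degree_one hl hl1⟩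
        ⟨mu, Lib.Char.isIrrCharacter_of_degree_one hm hm1⟩ hlne hmne
      exact ⟨g, fun x hx hgx => (congrFun hg ⟨x, hx⟩).symm⟩
    · rw [Lib.Block.apply_one_eq_charDegree χ, ← hn]
      push_cast
      ring
  · exact Or.inr ⟨hp2,
      Lib.Block.RootValues.two_case χ hfaith hnl' hnorm _ hPp hP hmax hp2 hcard hy hy2 hyp⟩

end Cfsg.Agent.S4751
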