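import Cfsg.Statements.S4752
import Cfsg.Agent.Lib.Block.ExtraThree.Trivial

set_option autoImplicit false
set_option linter.style.haveILetI false
open Cfsg

namespace Cfsg.Agent.S4752

open Cfsg.Lib.Block.ExtraThree in
theorem exists_ext {G : Type*} [Group G] [Finite G] (Q : Subgroup G)
    (hE : Cfsg.IsExtraspecial 3 ↥Q) (h27 : Nat.card ↥Q = 27) (hexp : ∀ x ∈ Q, x ^ 3 = 1) :
    ∃ z, Ext Q z := by
  haveI : Fact (Nat.Prime 3) := ⟨Nat.prime_three⟩
  obtain ⟨⟨-, -, hcomm⟩, hc3⟩ := hE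
  obtain ⟨a, ha⟩ := exists_prime_orderOf_dvd_card' (G := Subgroup.center ↥Q) 3 (by rw [hc3])
  have ha' : orderOf (a : ↥Q) = 3 := by rwa [Subgroup.orderOf_coe]
  have hz : Subgroup.zpowers (a : ↥Q) = Subgroup.center ↥Q :=
    Subgroup.eq_of_le_of_card_ge (Subgroup.zpowers_le.2 a.2)
      (by rw [Nat.card_zpowers, ha', hc3])
  have hval : ∀ w : ↥Q, w ∈ Subgroup.center ↥Q → (w : G) ∈ Subgroup.zpowers ((a : ↥Q) : G) := by
    intro w hw
    rw [← hz] at hw
    obtain ⟨i, rfl⟩ := hw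
    exact ⟨i, by simp⟩
  refine ⟨((a : ↥Q) : G), h27, hexp, (a : ↥Q).2, by rwa [Subgroup.orderOf_coe], fun x hx =>
    congrArg Subtype.val (Subgroup.mem_center_iff.1 a.2 ⟨x, hx⟩).symm, fun w hw hcw => ?_,
    fun x hx y hy => ?_⟩
  · exact hval ⟨w, hw⟩ (Subgroup.mem_center_iff.2 fun y => Subtype.ext (hcw y y.2).symm)
  · have hm : (⟨x, hx⟩ * ⟨y, hy⟩ * ⟨x, hx⟩⁻¹ * ⟨y, hy⟩⁻¹ : ↥Q) ∈ Subgroup.center ↥Q := by
      rw [← hcomm, ← commutatorElement_def, commutator_def]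
      exact Subgroup.commutator_mem_commutator trivial trivial
    exact hval _ hm

/-- Let G be a finite group whose Sylow 3-subgroup P is extraspecial of order 27 and exponent 3, with N_G(P) ≤ C_G(Z(P)), and let M be a maximal ideal of the algebraic integers containing 3, B the principal 3-block of G, k its number of irreducible characters, k₀ the number of those of height zero, l its 3-regular rank (number of irreducible Brauer characters), and e the index of P·C_G(P) in N_G(P) (the order of the inertial quotient). Then e = 1 gives (k, k₀, l) = (11, 9, 1); e = 2 gives (10, 6, 2); e = 4 gives (14, 6, 4); e = 8 gives (16, 6, 5). -/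
theorem result {G : Type*} [Group G] [Finite G] (P : Sylow 3 G) (hE : Cfsg.IsExtraspecial 3 ↥(P : Subgroup G)) (h27 : Nat.card ↥(P : Subgroup G) = 27) (hexp : ∀ x ∈ (P : Subgroup G), x ^ 3 = 1) (hNC : ∀ g ∈ Subgroup.normalizer ((P : Subgroup G) : Set G), ∀ z ∈ (P : Subgroup G), (∀ y ∈ (P : Subgroup G), z * y = y * z) → g * z = z * g) (M : Ideal Cfsg.AlgInt) (hM : Cfsg.IsPModular 3 M) (k k₀ l e : ℕ) (hk : Nat.card ↥(Cfsg.principalBlock M G) = k) (hk₀ : Nat.card {χ : Cfsg.IrrCharacter G // χ ∈ Cfsg.principalBlock M G ∧ Cfsg.blockHeight 3 (Cfsg.principalBlock M G) (χ : G → ℂ) = 0} = k₀) (hl : Cfsg.blockRank 3 (Cfsg.principalBlock M G) = l) (he : ((P : Subgroup G) ⊔ Subgroup.centralizer ((P : Subgroup G) : Set G)).relIndex (Subgroup.normalizer ((P : Subgroup G) : Set G)) = e) : (e = 1 → k = 11 ∧ k₀ = 9 ∧ l = 1) ∧ (e = 2 → k = 10 ∧ k₀ = 6 ∧ l = 2) ∧ (e = 4 → k = 14 ∧ k₀ = 6 ∧ l = 4) ∧ (e = 8 → k = 16 ∧ k₀ = 6 ∧ l = 5) := by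
  classical
  haveI := Fintype.ofFinite G
  obtain ⟨z, hz⟩ := exists_ext (P : Subgroup G) hE h27 hexp
  have hN : ∀ n ∈ Subgroup.normalizer ((P : Subgroup G) : Set G), n * z = z * n :=
    fun n hn => hNC n hn z hz.mem hz.central
  subst hk hk₀ hl
  refine ⟨fun h1 => ?_, fun h2 => ?_, fun h4 => ?_, fun h8 => ?_⟩
  · exact hz.invariants_trivial hN hM (he.trans h1)
  · obtain ⟨c, hc, hk', hk₀', hl'⟩ := hz.invariants hN hM he (Or.inl h2)
    subst h2
    exact ⟨by omega, hk₀', by omega⟩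
  · obtain ⟨c, hc, hk', hk₀', hl'⟩ := hz.invariants hN hM he (Or.inr (Or.inl h4))
    subst h4
    exact ⟨by omega, hk₀', by omega⟩
  · obtain ⟨c, hc, hk', hk₀', hl'⟩ := hz.invariants hN hM he (Or.inr (Or.inr h8))
    subst h8
    exact ⟨by omega, hk₀', by omega⟩

end Cfsg.Agent.S4752
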