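import Cfsg.Statements.S4755
import Cfsg.Agent.Lib.Char.Formulas
import Cfsg.Agent.Lib.Char.Linear

set_option autoImplicit false
open Cfsg Cfsg.Lib.Char
open scoped ComplexConjugate commutatorElement

namespace Cfsg.Agent.S4755

/-- Let x, y be non-identity elements of the finite group G such that χ(x' y') = χ(x') χ(y') for all conjugates x' of x, y' of y and every irreducible character χ. Then the conjugacy class of x y is the set of all products of a conjugate of x with a conjugate of y; every irreducible character of degree greater than 1 vanishes at x y; and the conjugacy class of x y is the coset of the commutator subgroup containing x y. -/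
theorem result {G : Type*} [Group G] [Finite G] (x y : G) (hx : x ≠ 1) (hy : y ≠ 1) (h : ∀ (a b : G) (χ : Cfsg.IrrCharacter G), (χ : G → ℂ) (a * x * a⁻¹ * (b * y * b⁻¹)) = (χ : G → ℂ) (a * x * a⁻¹) * (χ : G → ℂ) (b * y * b⁻¹)) : (∀ z : G, IsConj (x * y) z ↔ ∃ a b : G, z = a * x * a⁻¹ * (b * y * b⁻¹)) ∧ (∀ χ : Cfsg.IrrCharacter G, (χ : G → ℂ) 1 ≠ 1 → (χ : G → ℂ) (x * y) = 0) ∧ (∀ z : G, IsConj (x * y) z ↔ (x * y)⁻¹ * z ∈ commutator G) := by
  classical
  haveI := Fintype.ofFinite G
  have hconst : ∀ (a b : G) (χ : IrrCharacter G),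
      (χ : G → ℂ) (a * x * a⁻¹ * (b * y * b⁻¹)) = (χ : G → ℂ) x * (χ : G → ℂ) y := by
    intro a b χ
    rw [h, χ.2.isClassFunction, χ.2.isClassFunction]
  have hxy : ∀ χ : IrrCharacter G, (χ : G → ℂ) (x * y) = (χ : G → ℂ) x * (χ : G → ℂ) y := fun χ => by
    simpa using hconst 1 1 χ
  have h1 : ∀ z : G, IsConj (x * y) z ↔ ∃ a b : G, z = a * x * a⁻¹ * (b * y * b⁻¹) := by
    intro z
    constructor
    · intro hz
      obtain ⟨c, hc⟩ := isConj_iff.mp hz
      exact ⟨c, c, by rw [← hc]; group⟩
    · rintro ⟨a, b, rfl⟩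
      exact (isConj_iff_forall_irr _ _).mpr fun χ => by rw [hxy, hconst]
  have h2 : ∀ χ : IrrCharacter G, (χ : G → ℂ) 1 ≠ 1 → (χ : G → ℂ) (x * y) = 0 := by
    intro χ hχ
    have hs := sum_char_mul_conj χ.2 x y
    have hterm : ∀ g : G, (χ : G → ℂ) (x * (g * y * g⁻¹)) = (χ : G → ℂ) x * (χ : G → ℂ) y := fun g => by
      simpa using hconst 1 g χ
    simp only [hterm, Finset.sum_const, Finset.card_univ, nsmul_eq_mul,
      ← Nat.card_eq_fintype_card] at hs
    have hn : (χ : G → ℂ) 1 ≠ 0 := χ.2.apply_one_ne_zero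
    rw [eq_div_iff hn, mul_assoc (Nat.card G : ℂ)] at hs
    have hprod := mul_left_cancel₀ card_cast_ne_zero (hs.trans (mul_assoc _ _ _))
    rw [← hxy] at hprod
    by_contra h0
    exact hχ (mul_left_cancel₀ h0 (hprod.trans (mul_one _).symm))
  refine ⟨h1, h2, fun z => ?_⟩
  -- class and coset have the same size
  have hsub : ∀ w : G, IsConj (x * y) w → (x * y)⁻¹ * w ∈ commutator G := by
    intro w hw
    obtain ⟨c, hc⟩ := isConj_iff.mp hw
    rw [← hc, show (x * y)⁻¹ * (c * (x * y) * c⁻¹) = ⁅(x * y)⁻¹, c⁆ by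
      rw [commutatorElement_def]; group]
    exact Subgroup.commutator_mem_commutator (Subgroup.mem_top _) (Subgroup.mem_top _)
  have hcol := column_orthogonality (x * y) (x * y)
  rw [if_pos (IsConj.refl _)] at hcol
  have hC : Nat.card (Subgroup.centralizer ({x * y} : Set G)) = (commutator G).index := by
    rw [← card_degree_one]
    have hsum : ∑ χ : IrrCharacter G, (χ : G → ℂ) (x * y) * conj ((χ : G → ℂ) (x * y))
        = ∑ χ : IrrCharacter G, if (χ : G → ℂ) 1 = 1 then (1 : ℂ) else 0 := by
      refine Finset.sum_congr rfl fun χ _ => ?_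
      split_ifs with hd
      · obtain ⟨φ, hφ⟩ := exists_hom_of_degree_one χ.2.isCharacter hd
        rw [← χ.2.isCharacter.apply_inv, hφ]
        simp only
        rw [← Units.val_mul, ← map_mul, mul_inv_cancel, map_one, Units.val_one]
      · rw [h2 χ hd, zero_mul]
    rw [hsum, Finset.sum_boole, Nat.cast_inj] at hcol
    rw [← hcol, ← Fintype.card_subtype, ← Nat.card_eq_fintype_card]
  let T : Finset G := Finset.univ.filter fun w => (x * y)⁻¹ * w ∈ commutator G
  have hT : T.card = Nat.card (commutator G) := by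
    rw [← Nat.card_eq_finsetCard]
    refine Nat.card_congr (Equiv.subtypeEquiv (Equiv.mulLeft (x * y)⁻¹) fun w => ?_)
    simp [T, mul_assoc]
  have heq : classFinset (x * y) = T := by
    refine Finset.eq_of_subset_of_card_le (fun w hw => ?_) ?_
    · exact Finset.mem_filter.mpr ⟨Finset.mem_univ _, hsub w (mem_classFinset.mp hw)⟩
    · rw [card_classFinset, hT]
      have e1 := Subgroup.card_mul_index (Subgroup.centralizer ({x * y} : Set G))
      rw [hC, ← Subgroup.card_mul_index (commutator G), mul_comm (Nat.card (commutator G))] at e1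
      exact (Nat.eq_of_mul_eq_mul_left (Nat.pos_of_ne_zero Subgroup.index_ne_zero_of_finite) e1).ge
  rw [← mem_classFinset, heq]
  simp [T]

end Cfsg.Agent.S4755
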