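import Cfsg.Statements.S4756
import Cfsg.Agent.Lib.Char.CoprimeMultiplicative

set_option autoImplicit false
open Cfsg

namespace Cfsg.Agent.S4756

/-- For a finite group G the following are equivalent. (1) χ(x y) = χ(x) χ(y) for every irreducible character χ and all non-identity elements x, y of prime power orders for two different primes. (2) G is a p-group for some prime p, or G is abelian, or for some prime p: G = A P with P a normal Sylow p-subgroup and A a nontrivial cyclic subgroup of order prime to p such that, with C = C_P(A) and D = [A, P], one has P = C D, C abelian, D normal in G, C ∩ D = 1, and A acts fixed-point-freely on D (no non-identity element of A centralizes a non-identity element of D). -/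
theorem result {G : Type*} [Group G] [Finite G] : (∀ (x y : G) (χ : Cfsg.IrrCharacter G), x ≠ 1 → y ≠ 1 → (∃ p q a b : ℕ, p.Prime ∧ q.Prime ∧ p ≠ q ∧ orderOf x = p ^ a ∧ orderOf y = q ^ b) → (χ : G → ℂ) (x * y) = (χ : G → ℂ) x * (χ : G → ℂ) y) ↔ ((∃ p : ℕ, p.Prime ∧ IsPGroup p G) ∨ IsMulCommutative G ∨ ∃ (p : ℕ) (_ : Fact p.Prime) (P : Sylow p G) (A : Subgroup G), (P : Subgroup G).Normal ∧ IsCyclic ↥A ∧ A ≠ ⊥ ∧ (Nat.card ↥A).Coprime p ∧ A ⊔ (P : Subgroup G) = ⊤ ∧ IsMulCommutative ↥((P : Subgroup G) ⊓ Subgroup.centralizer (A : Set G)) ∧ (⁅A, (P : Subgroup G)⁆).Normal ∧ ((P : Subgroup G) ⊓ Subgroup.centralizer (A : Set G)) ⊔ ⁅A, (P : Subgroup G)⁆ = (P : Subgroup G) ∧ ((P : Subgroup G) ⊓ Subgroup.centralizer (A : Set G)) ⊓ ⁅A, (P : Subgroup G)⁆ = ⊥ ∧ ∀ a ∈ A, a ≠ 1 → ∀ d ∈ ⁅A, (P : Subgroup G)⁆, a * d = d * a → d = 1) := by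
  classical
  haveI := Fintype.ofFinite G
  constructor
  · intro h
    by_cases hnp : ∃ p : ℕ, p.Prime ∧ IsPGroup p G
    · exact Or.inl hnp
    by_cases hna : IsMulCommutative G
    · exact Or.inr (Or.inl hna)
    exact Or.inr (Or.inr (Cfsg.Lib.Char.structure_of_multiplicative hnp hna h))
  · intro h x y χ hx hy ⟨p, q, a, b, hp, hq, hpq, hxa, hyb⟩
    have hlin : Cfsg.charDegree (χ : G → ℂ) = 1 →
        (χ : G → ℂ) (x * y) = (χ : G → ℂ) x * (χ : G → ℂ) y := fun h1 => by
      obtain ⟨f, hf⟩ := Cfsg.Lib.Char.exists_hom_of_degree_one χ.2.isCharacter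
        (by rw [χ.2.apply_one_eq_charDegree, h1, Nat.cast_one])
      simp [hf]
    rcases h with ⟨r, hr, hG⟩ | hG | ⟨r, hr, P, A, hPn, hAc, -, hcop, htop, hC, -, hsup, -, hfpf⟩
    · exfalso
      haveI := Fact.mk hr
      have key : ∀ (s c : ℕ) (z : G), s.Prime → z ≠ 1 → orderOf z = s ^ c → s = r := by
        intro s c z hs hz hzc
        obtain ⟨k, hk⟩ := (IsPGroup.iff_orderOf.1 hG) z
        have hc : c ≠ 0 := fun e => hz (orderOf_eq_one_iff.1 (by rw [hzc, e, pow_zero]))
        exact (Nat.prime_dvd_prime_iff_eq hs hr).1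
          (hs.dvd_of_dvd_pow (hk ▸ hzc ▸ dvd_pow_self s hc))
      exact hpq ((key p a x hp hx hxa).trans (key q b y hq hy hyb).symm)
    · exact hlin (by
        simp [Cfsg.charDegree, Cfsg.Lib.Char.degree_eq_one_of_comm (fun a b => mul_comm' a b) χ.2])
    · by_cases hχ : Cfsg.charDegree (χ : G → ℂ) = 1
      · exact hlin hχ
      haveI := hPn
      have hvan : ∀ g : G, g ∉ (P : Subgroup G) → (χ : G → ℂ) g = 0 := fun g hg =>
        Cfsg.Lib.Char.eq_zero_of_notMem r P A hAc hcop htop hC hsup hfpf χ hχ hg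
      have hnot : x ∈ (P : Subgroup G) → y ∈ (P : Subgroup G) → False := by
        intro hxP hyP
        have key : ∀ (s c : ℕ) (z : G), s.Prime → z ≠ 1 → z ∈ (P : Subgroup G) →
            orderOf z = s ^ c → s = r := by
          intro s c z hs hz hzP hzc
          obtain ⟨k, hk⟩ := (IsPGroup.iff_orderOf.1 P.isPGroup') ⟨z, hzP⟩
          rw [Subgroup.orderOf_mk] at hk
          have hc : c ≠ 0 := fun e => hz (orderOf_eq_one_iff.1 (by rw [hzc, e, pow_zero]))
          exact (Nat.prime_dvd_prime_iff_eq hs hr.out).1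
            (hs.dvd_of_dvd_pow (hk ▸ hzc ▸ dvd_pow_self s hc))
        exact hpq ((key p a x hp hx hxP hxa).trans (key q b y hq hy hyP hyb).symm)
      have hxy : x * y ∉ (P : Subgroup G) := by
        intro hmem
        have h1 : ((x : G) : G ⧸ (P : Subgroup G)) = ((y : G) : G ⧸ (P : Subgroup G))⁻¹ := by
          rw [eq_inv_iff_mul_eq_one, ← QuotientGroup.mk_mul, QuotientGroup.eq_one_iff]
          exact hmem
        have h2 : orderOf ((x : G) : G ⧸ (P : Subgroup G)) ∣ p ^ a :=
          hxa ▸ orderOf_map_dvd (QuotientGroup.mk' _) x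
        have h3 : orderOf ((x : G) : G ⧸ (P : Subgroup G)) ∣ q ^ b := by
          rw [h1, orderOf_inv]
          exact hyb ▸ orderOf_map_dvd (QuotientGroup.mk' _) y
        have h4 := Nat.eq_one_of_dvd_coprimes (((Nat.coprime_primes hp hq).2 hpq).pow a b) h2 h3
        rw [orderOf_eq_one_iff] at h4
        rw [h4] at h1
        exact hnot ((QuotientGroup.eq_one_iff x).1 h4)
          ((QuotientGroup.eq_one_iff y).1 (inv_eq_one.1 h1.symm))
      rw [hvan _ hxy]
      by_cases hxP : x ∈ (P : Subgroup G)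
      · rw [hvan y (hnot hxP), mul_zero]
      · rw [hvan x hxP, zero_mul]

end Cfsg.Agent.S4756
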