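import Cfsg.Statements.S4757
import Cfsg.Agent.Lib.Char.Linear
import Cfsg.Agent.Lib.Char.Formulas
import Cfsg.Agent.Lib.Core.Cores
import Mathlib.GroupTheory.Transfer
import Mathlib.GroupTheory.SpecificGroups.Cyclic

set_option autoImplicit false
open Cfsg Cfsg.Lib.Char
open scoped ComplexConjugate commutatorElement

namespace Cfsg.Agent.S4757

/-- Let u ≠ 1 be an element of the finite group G and c a complex number such that every non-principal irreducible character χ satisfies χ(1) − χ(u) = c or χ(u) = 0. Then the following are equivalent: (a) u has order 2, G is generated by u together with O(G), the largest normal subgroup of G of odd order, and the centralizer of u is {1, u}; (b) G is not perfect; (c) c = 2. -/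
theorem result {G : Type*} [Group G] [Finite G] (u : G) (hu : u ≠ 1) (c : ℂ) (hyp : ∀ χ : Cfsg.IrrCharacter G, (χ : G → ℂ) ≠ (fun _ => (1 : ℂ)) → ((χ : G → ℂ) 1 - (χ : G → ℂ) u = c ∨ (χ : G → ℂ) u = 0)) : ((orderOf u = 2 ∧ Subgroup.zpowers u ⊔ Cfsg.oddCore G = ⊤ ∧ Subgroup.centralizer ({u} : Set G) = Subgroup.zpowers u) ↔ commutator G ≠ ⊤) ∧ (commutator G ≠ ⊤ ↔ c = 2) := by
  classical
  haveI := Fintype.ofFinite G
  let one : IrrCharacter G := ⟨fun _ => 1, isIrrCharacter_one⟩
  have hzero : ∑ χ : IrrCharacter G, (χ : G → ℂ) 1 * (χ : G → ℂ) u = 0 := by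
    rw [sum_degree_mul, if_neg hu]
  -- (a) gives (b)
  have hab : (orderOf u = 2 ∧ Subgroup.zpowers u ⊔ Cfsg.oddCore G = ⊤ ∧
      Subgroup.centralizer ({u} : Set G) = Subgroup.zpowers u) → commutator G ≠ ⊤ := by
    rintro ⟨hu2, hsup, -⟩ htop
    have hodd : Cfsg.oddCore G ≠ ⊤ := fun h => by
      have h1 : (Nat.card (Cfsg.oddCore G)).Coprime 2 := Cfsg.Lib.Core.pPrimeCore_coprime 2 G
      rw [h, Subgroup.card_top] at h1
      exact (Nat.prime_two.coprime_iff_not_dvd.mp h1.symm) (hu2 ▸ orderOf_dvd_natCard u)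
    apply hodd
    rw [eq_top_iff, ← htop, commutator_def, Subgroup.commutator_le]
    intro a _ b _
    rw [← QuotientGroup.eq_one_iff]
    have key : ∀ x : G, (x : G ⧸ Cfsg.oddCore G) ∈ Subgroup.zpowers (u : G ⧸ Cfsg.oddCore G) := by
      intro x
      obtain ⟨v, hv, w, hw, rfl⟩ := Subgroup.mem_sup_of_normal_right.mp
        (hsup ▸ Subgroup.mem_top x : x ∈ Subgroup.zpowers u ⊔ Cfsg.oddCore G)
      obtain ⟨i, rfl⟩ := Subgroup.mem_zpowers_iff.mp hv
      rw [QuotientGroup.mk_mul, (QuotientGroup.eq_one_iff w).mpr hw, mul_one,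
        QuotientGroup.mk_zpow]
      exact Subgroup.zpow_mem _ (Subgroup.mem_zpowers _) i
    obtain ⟨i, hi⟩ := Subgroup.mem_zpowers_iff.mp (key a)
    obtain ⟨j, hj⟩ := Subgroup.mem_zpowers_iff.mp (key b)
    show QuotientGroup.mk' (Cfsg.oddCore G) ⁅a, b⁆ = 1
    rw [map_commutatorElement, commutatorElement_eq_one_iff_mul_comm]
    show (a : G ⧸ Cfsg.oddCore G) * b = b * a
    rw [← hi, ← hj, ← zpow_add, ← zpow_add, add_comm]
  have hre : ∀ χ : IrrCharacter G, ∃ d : ℕ, (χ : G → ℂ) 1 = (d : ℂ) ∧ 1 ≤ d := by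
    intro χ
    obtain ⟨d, hd⟩ := χ.2.isCharacter.exists_degree
    exact ⟨d, hd, Nat.one_le_iff_ne_zero.mpr fun h0 => χ.2.apply_one_ne_zero (by
      rw [hd, h0, Nat.cast_zero])⟩
  have hterm : ∀ (r : ℝ) (χ : IrrCharacter G), χ ≠ one → c = (r : ℂ) →
      r ≤ ((χ : G → ℂ) 1).re →
      0 ≤ ((χ : G → ℂ) 1 * (χ : G → ℂ) u).re := by
    intro r χ hne hc hr
    obtain ⟨d, hd, hd1⟩ := hre χ
    rcases hyp χ (fun h => hne (Subtype.ext h)) with h | h
    · rw [show (χ : G → ℂ) u = (χ : G → ℂ) 1 - (r : ℂ) by rw [← hc, ← h]; ring, hd]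
      rw [hd, Complex.natCast_re] at hr
      simp only [Complex.mul_re, Complex.natCast_re, Complex.sub_re, Complex.ofReal_re,
        Complex.natCast_im, zero_mul, sub_zero]
      exact mul_nonneg (Nat.cast_nonneg d) (by linarith)
    · rw [h, mul_zero, Complex.zero_re]
  have hpos : ∀ r : ℝ, c = (r : ℂ) →
      ¬ (∀ χ : IrrCharacter G, χ ≠ one → r ≤ ((χ : G → ℂ) 1).re) := by
    intro r hc hall
    have h := congrArg Complex.re hzero
    rw [Complex.re_sum, ← Finset.add_sum_erase _ _ (Finset.mem_univ one), Complex.zero_re] at h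
    have h0 : 0 ≤ ∑ χ ∈ Finset.univ.erase one, ((χ : G → ℂ) 1 * (χ : G → ℂ) u).re :=
      Finset.sum_nonneg fun χ hχ =>
        hterm r χ (Finset.ne_of_mem_erase hχ) hc (hall χ (Finset.ne_of_mem_erase hχ))
    have h1 : ((one : G → ℂ) 1 * (one : G → ℂ) u).re = 1 := by simp [one]
    linarith
  -- (c) gives (b)
  have hcb : c = 2 → commutator G ≠ ⊤ := by
    intro hc htop
    refine hpos 2 (by rw [hc]; simp) fun χ hne => ?_
    obtain ⟨d, hd, hd1⟩ := hre χ
    rw [hd, Complex.natCast_re]
    have hd2 : d ≠ 1 := fun h1 => by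
      obtain ⟨f, hf⟩ := exists_hom_of_degree_one χ.2.isCharacter (by rw [hd, h1, Nat.cast_one])
      apply hne
      refine Subtype.ext (funext fun g => ?_)
      rw [hf]
      show (f g : ℂ) = 1
      rw [MonoidHom.mem_ker.mp (Abelianization.commutator_subset_ker f (htop ▸ Subgroup.mem_top g)),
        Units.val_one]
    exact_mod_cast (show 2 ≤ d by omega)
  -- (b) gives (a) and (c)
  have hb : commutator G ≠ ⊤ → c = 2 ∧ orderOf u = 2 ∧
      Subgroup.zpowers u ⊔ Cfsg.oddCore G = ⊤ ∧
      Subgroup.centralizer ({u} : Set G) = Subgroup.zpowers u := by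
    intro hnp
    haveI : Finite (G →* ℂˣ) := Nat.finite_of_card_ne_zero
      (by rw [card_linear_eq_index]; exact Subgroup.index_ne_zero_of_finite)
    have hlin : ∀ f : G →* ℂˣ, f ≠ 1 → (f u : ℂ) = 1 - c := by
      intro f hf
      rcases hyp ⟨_, isIrrCharacter_linear f⟩ (fun h => hf (MonoidHom.ext fun g =>
        Units.ext (congrFun h g))) with h | h
      · change (f 1 : ℂ) - (f u : ℂ) = c at h
        rw [map_one, Units.val_one] at h
        linear_combination -h
      · exact absurd h (Units.ne_zero _)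
    obtain ⟨f, hf⟩ : ∃ f : G →* ℂˣ, f ≠ 1 := by
      haveI : Nontrivial (G →* ℂˣ) := Finite.one_lt_card_iff_nontrivial.mp (by
        rw [card_linear_eq_index]
        have h0 : (commutator G).index ≠ 0 := Subgroup.index_ne_zero_of_finite
        have h1 : (commutator G).index ≠ 1 := fun h => hnp (Subgroup.index_eq_one.mp h)
        omega)
      exact exists_ne 1
    have hc0 : c ≠ 0 := by
      intro hc
      refine hpos 0 (by rw [hc]; simp) fun χ _ => ?_
      obtain ⟨d, hd, -⟩ := hre χ
      rw [hd, Complex.natCast_re]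
      exact Nat.cast_nonneg d
    have hfu : (f u : ℂ) = -1 := by
      by_cases h2 : f * f = 1
      · have h3 : (f u : ℂ) * (f u : ℂ) = 1 := by
          have := congrArg (fun g : G →* ℂˣ => ((g u : ℂˣ) : ℂ)) h2
          simpa using this
        have h4 : ((f u : ℂ) - 1) * ((f u : ℂ) + 1) = 0 := by linear_combination h3
        rcases mul_eq_zero.mp h4 with h5 | h5
        · exfalso
          apply hc0
          have := hlin f hf
          linear_combination this - h5
        · linear_combination h5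
      · exfalso
        have h3 := hlin _ h2
        rw [MonoidHom.mul_apply, Units.val_mul, hlin f hf] at h3
        apply hc0
        have h4 : (1 - c) * (-c) = 0 := by linear_combination h3
        rcases mul_eq_zero.mp h4 with h5 | h5
        · exact absurd ((hlin f hf).trans h5) (Units.ne_zero _)
        · linear_combination -h5
    have hc2 : c = 2 := by
      have := hlin f hf
      rw [hfu] at this
      linear_combination this
    have honly : ∀ g : G →* ℂˣ, g = 1 ∨ g = f := by
      intro g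
      by_contra hg
      push Not at hg
      have h2 : f * f = 1 := by
        by_contra h
        have h1 := hlin _ h
        rw [MonoidHom.mul_apply, Units.val_mul, hfu, hc2] at h1
        norm_num at h1
      have hne : f * g ≠ 1 := fun h => hg.2 (mul_left_cancel (h.trans h2.symm))
      have h1 := hlin _ hne
      rw [MonoidHom.mul_apply, Units.val_mul, hfu, hlin g hg.1, hc2] at h1
      norm_num at h1
    let fc : IrrCharacter G := ⟨_, isIrrCharacter_linear f⟩
    have hfc : fc ≠ one := fun h => hf (MonoidHom.ext fun g =>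
      Units.ext (congrFun (congrArg Subtype.val h) g))
    have hlinear : ∀ χ : IrrCharacter G, (χ : G → ℂ) 1 = 1 → χ = one ∨ χ = fc := by
      intro χ h1
      obtain ⟨g, hg⟩ := exists_hom_of_degree_one χ.2.isCharacter h1
      rcases honly g with rfl | rfl
      · exact Or.inl (Subtype.ext (by rw [hg]; simp [one]))
      · exact Or.inr (Subtype.ext hg)
    have hge2 : ∀ χ : IrrCharacter G, χ ≠ one → χ ≠ fc → (2 : ℝ) ≤ ((χ : G → ℂ) 1).re := by
      intro χ h1 h2
      obtain ⟨d, hd, hd1⟩ := hre χ
      rw [hd, Complex.natCast_re]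
      have : d ≠ 1 := fun h => (hlinear χ (by rw [hd, h, Nat.cast_one])).elim h1 h2
      exact_mod_cast (show 2 ≤ d by omega)
    have hvan : ∀ χ : IrrCharacter G, χ ≠ one → χ ≠ fc → (χ : G → ℂ) u = 0 := by
      have h := congrArg Complex.re hzero
      rw [Complex.re_sum, ← Finset.add_sum_erase _ _ (Finset.mem_univ one),
        ← Finset.add_sum_erase _ _ (Finset.mem_erase.mpr ⟨hfc, Finset.mem_univ fc⟩),
        Complex.zero_re] at h
      have h1 : ((one : G → ℂ) 1 * (one : G → ℂ) u).re = 1 := by simp [one]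
      have h2 : ((fc : G → ℂ) 1 * (fc : G → ℂ) u).re = -1 := by simp [fc, hfu]
      rw [h1, h2] at h
      have hnn : ∀ χ ∈ (Finset.univ.erase one).erase fc,
          0 ≤ ((χ : G → ℂ) 1 * (χ : G → ℂ) u).re := fun χ hχ => by
        obtain ⟨a, b⟩ := Finset.mem_erase.mp hχ
        exact hterm 2 χ (Finset.ne_of_mem_erase b) (by rw [hc2]; simp)
          (hge2 χ (Finset.ne_of_mem_erase b) a)
      have hz := (Finset.sum_eq_zero_iff_of_nonneg hnn).mp (by linarith)
      intro χ h3 h4
      rcases hyp χ (fun e => h3 (Subtype.ext e)) with h5 | h5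
      · have h6 := hz χ (Finset.mem_erase.mpr ⟨h4, Finset.mem_erase.mpr ⟨h3, Finset.mem_univ χ⟩⟩)
        obtain ⟨d, hd, hd1⟩ := hre χ
        have hu' : (χ : G → ℂ) u = (d : ℂ) - 2 := by rw [← hd, ← hc2, ← h5]; ring
        rw [hu', hd] at h6
        simp only [Complex.mul_re, Complex.natCast_re, Complex.sub_re, Complex.natCast_im,
          zero_mul, sub_zero, Complex.re_ofNat] at h6
        rcases mul_eq_zero.mp h6 with h7 | h7
        · have : (d : ℕ) = 0 := by exact_mod_cast h7
          omega
        · have h8 : (d : ℝ) = 2 := by linarith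
          have : d = 2 := by exact_mod_cast h8
          rw [hu', this, Nat.cast_ofNat, sub_self]
      · exact h5
    have hcard : Nat.card (Subgroup.centralizer ({u} : Set G)) = 2 := by
      have h := column_orthogonality u u
      rw [if_pos (IsConj.refl u), ← Finset.add_sum_erase _ _ (Finset.mem_univ one),
        ← Finset.add_sum_erase _ _ (Finset.mem_erase.mpr ⟨hfc, Finset.mem_univ fc⟩),
        Finset.sum_eq_zero fun χ hχ => by
          obtain ⟨a, b⟩ := Finset.mem_erase.mp hχ
          rw [hvan χ (Finset.ne_of_mem_erase b) a, zero_mul]] at h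
      simp [one, fc, hfu] at h
      have h' : ((2 : ℕ) : ℂ) = (Nat.card (Subgroup.centralizer ({u} : Set G)) : ℂ) := by
        rw [Nat.card_eq_fintype_card, ← h]; norm_num
      exact_mod_cast h'.symm
    have hmem : u ∈ Subgroup.centralizer ({u} : Set G) :=
      Subgroup.mem_centralizer_singleton_iff.mpr rfl
    have hord : orderOf u = 2 := by
      have h := orderOf_dvd_natCard (⟨u, hmem⟩ : Subgroup.centralizer ({u} : Set G))
      rw [Subgroup.orderOf_mk, hcard] at h
      exact ((Nat.dvd_prime Nat.prime_two).mp h).resolve_left fun h1 => hu (orderOf_eq_one_iff.mp h1)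
    have hCeq : Subgroup.centralizer ({u} : Set G) = Subgroup.zpowers u :=
      (Subgroup.eq_of_le_of_card_ge (Subgroup.zpowers_le.mpr hmem)
        (by rw [hcard, Nat.card_zpowers, hord])).symm
    refine ⟨hc2, hord, ?_, hCeq⟩
    -- the Sylow `2`-subgroup is `⟨u⟩`
    haveI : Fact (Nat.Prime 2) := ⟨Nat.prime_two⟩
    obtain ⟨P, hP⟩ := (IsPGroup.of_card (n := 1) (by rw [Nat.card_zpowers, hord, pow_one]) :
      IsPGroup 2 (Subgroup.zpowers u)).exists_le_sylow
    have huP : u ∈ (P : Subgroup G) := hP (Subgroup.mem_zpowers u)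
    have hPeq : (P : Subgroup G) = Subgroup.zpowers u := by
      refine le_antisymm ?_ hP
      haveI : Nontrivial (P : Subgroup G) := ⟨⟨⟨u, huP⟩, 1, fun h => hu (congrArg Subtype.val h)⟩⟩
      haveI := P.isPGroup'.center_nontrivial
      obtain ⟨z, hz⟩ := exists_ne (1 : Subgroup.center (P : Subgroup G))
      have hzu : ((z : (P : Subgroup G)) : G) ∈ Subgroup.zpowers u := by
        rw [← hCeq]
        exact Subgroup.mem_centralizer_singleton_iff.mpr
          (congrArg Subtype.val (Subgroup.mem_center_iff.mp z.2 ⟨u, huP⟩)).symm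
      have huz : u ∈ Subgroup.zpowers ((z : (P : Subgroup G)) : G) := by
        haveI : Fact (Nat.Prime 2) := ⟨Nat.prime_two⟩
        have h := mem_zpowers_of_prime_card (p := 2) (g := (⟨_, hzu⟩ : Subgroup.zpowers u))
          (g' := (⟨u, Subgroup.mem_zpowers u⟩ : Subgroup.zpowers u))
          (by rw [Nat.card_zpowers, hord])
          (fun h => hz (Subtype.ext (Subtype.ext (congrArg Subtype.val h :))))
        obtain ⟨i, hi⟩ := Subgroup.mem_zpowers_iff.mp h
        exact Subgroup.mem_zpowers_iff.mpr ⟨i, by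
          simpa using congrArg Subtype.val hi⟩
      intro x hx
      rw [← hCeq, Subgroup.mem_centralizer_singleton_iff]
      obtain ⟨i, hi⟩ := Subgroup.mem_zpowers_iff.mp huz
      rw [← hi]
      have hc := congrArg Subtype.val (Subgroup.mem_center_iff.mp z.2 ⟨x, hx⟩)
      exact (Commute.zpow_right hc i).eq
    have hPc : IsCyclic (P : Subgroup G) := by rw [hPeq]; infer_instance
    have hmf : (Nat.card G).minFac = 2 :=
      (Nat.minFac_eq_two_iff _).mpr (hord ▸ orderOf_dvd_natCard u)
    have hK := IsCyclic.isComplement' hmf hPc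
    set K := (MonoidHom.transferSylow P (hPc.normalizer_le_centralizer hmf)).ker
    have hKodd : (Nat.card K).Coprime 2 :=
      (Nat.prime_two.coprime_iff_not_dvd.mpr (MonoidHom.not_dvd_card_ker_transferSylow P _)).symm
    have hKle : K ≤ Cfsg.oddCore G := Cfsg.Lib.Core.le_pPrimeCore' inferInstance hKodd
    rw [eq_top_iff, ← hK.sup_eq_top, hPeq]
    exact sup_le (hKle.trans le_sup_right) le_sup_left
  exact ⟨⟨hab, fun h => (hb h).2⟩, ⟨fun h => (hb h).1, hcb⟩⟩

end Cfsg.Agent.S4757
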