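import Cfsg.Statements.S4758
import Cfsg.Agent.Lib.Char.ConstantFourKernel
import Cfsg.Agent.Lib.Recog.CentralizerFourA5
import Cfsg.Agent.Lib.Dickson.Maximal.Basic

set_option autoImplicit false
open Cfsg

namespace Cfsg.Agent.S4758

/-- Let u ≠ 1 be an element of the finite group G such that every non-principal irreducible character χ satisfies χ(1) − χ(u) = 4 or χ(u) = 0. Then O(G), the largest normal subgroup of odd order, is abelian, and either G ⧸ O(G) ≅ PSL₂(5) and u is an involution, or G ⧸ O(G) ≅ SL₂(5) and u has order 4. -/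
theorem result {G : Type*} [Group G] [Finite G] (u : G) (hu : u ≠ 1) (hyp : ∀ χ : Cfsg.IrrCharacter G, (χ : G → ℂ) ≠ (fun _ => (1 : ℂ)) → ((χ : G → ℂ) 1 - (χ : G → ℂ) u = 4 ∨ (χ : G → ℂ) u = 0)) : IsMulCommutative ↥(Cfsg.oddCore G) ∧ ((Nonempty (G ⧸ Cfsg.oddCore G ≃* Matrix.ProjectiveSpecialLinearGroup (Fin 2) (ZMod 5)) ∧ orderOf u = 2) ∨ (Nonempty (G ⧸ Cfsg.oddCore G ≃* Matrix.SpecialLinearGroup (Fin 2) (ZMod 5)) ∧ orderOf u = 4)) := by
  haveI := Fintype.ofFinite G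
  obtain ⟨K, _, h60, huK, hu2, hc⟩ := Cfsg.Lib.Char.ConstantFour.exists_kernel hu hyp
  obtain ⟨hab, h⟩ := Cfsg.Lib.Recog.CentFour.structure_of_card_centralizer_four
    (Cfsg.Lib.Char.ConstantFour.perfect hyp) K h60 u huK hu2 hc
  refine ⟨hab, ?_⟩
  rcases h with ⟨⟨e⟩, ho⟩ | h
  · left
    refine ⟨?_, ho⟩
    haveI : Fact (Nat.Prime 5) := ⟨by norm_num⟩
    haveI := Cfsg.Lib.Dickson.isSimpleGroup_psl_two (F := ZMod 5) (by rw [ZMod.card]; norm_num)
    have hcard : Nat.card (Matrix.ProjectiveSpecialLinearGroup (Fin 2) (ZMod 5)) = 60 := by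
      have h := Cfsg.Lib.Linear.Two.card_PSL_two (F := ZMod 5)
      rw [show Fintype.card (ZMod 5) = 5 from ZMod.card 5] at h
      rw [show Nat.gcd 2 (5 - 1) = 2 by norm_num, show 5 * (5 ^ 2 - 1) = 2 * 60 by norm_num] at h
      exact Nat.eq_of_mul_eq_mul_left two_pos h
    obtain ⟨e'⟩ := Cfsg.Lib.OrderLeHundred.iso_alternating_five hcard
    exact ⟨e.trans e'.symm⟩
  · exact Or.inr h

end Cfsg.Agent.S4758
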