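import Cfsg.Statements.S4762
import Cfsg.Agent.Lib.Char.Extraspecial
import Cfsg.Agent.Lib.Char.Ito
import Cfsg.Agent.Lib.Char.Formulas
import Cfsg.Agent.Lib.PGroup.Basic
import Cfsg.Agent.Lib.PGroup.Elements
import Mathlib.GroupTheory.SchurZassenhaus
import Mathlib.GroupTheory.Nilpotent

set_option autoImplicit false
open Cfsg Cfsg.Lib.Char
open scoped ComplexConjugate commutatorElement

namespace Cfsg.Agent.S4762

variable {G : Type*} [Group G]

/-- A nonlinear irreducible character exists in a nonabelian group. -/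
theorem exists_nonlinear [Fintype G] (hna : ¬ ∀ a b : G, a * b = b * a) :
    ∃ χ : IrrCharacter G, charDegree (χ : G → ℂ) ≠ 1 := by
  by_contra h
  push Not at h
  exact hna (comm_iff_all_linear.mpr fun χ => by rw [χ.2.apply_one_eq_charDegree, h χ, Nat.cast_one])

/-- The squares of the nonlinear degrees and the number of linear characters sum to the order. -/
theorem card_eq_index_add [Fintype G] {χ : IrrCharacter G} (h1 : charDegree (χ : G → ℂ) ≠ 1)
    (huniq : ∀ ψ : IrrCharacter G, charDegree (ψ : G → ℂ) ≠ 1 → ψ = χ) :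
    Nat.card G = (commutator G).index + charDegree (χ : G → ℂ) ^ 2 := by
  classical
  have h := sum_sq_degree (G := G)
  rw [Finset.sum_congr rfl fun (φ : IrrCharacter G) _ => by rw [φ.2.apply_one_eq_charDegree]] at h
  have hsum : ∑ φ : IrrCharacter G, charDegree (φ : G → ℂ) ^ 2 = Nat.card G := by exact_mod_cast h
  rw [← hsum, ← Finset.sum_filter_add_sum_filter_not Finset.univ
    (fun φ : IrrCharacter G => charDegree (φ : G → ℂ) = 1)]
  congr 1
  · rw [Finset.sum_congr rfl (g := fun _ => 1) fun φ hφ => by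
        rw [(Finset.mem_filter.mp hφ).2, one_pow]]
    rw [Finset.sum_const, smul_eq_mul, mul_one, ← Fintype.card_subtype, ← Nat.card_eq_fintype_card,
      ← card_degree_one]
    refine Nat.card_congr (Equiv.subtypeEquivRight fun φ => ?_)
    rw [φ.2.apply_one_eq_charDegree, Nat.cast_eq_one]
  · rw [Finset.sum_eq_single χ (fun φ hφ hne => absurd (huniq φ (Finset.mem_filter.mp hφ).2) hne)
      (fun h' => (h' (Finset.mem_filter.mpr ⟨Finset.mem_univ _, h1⟩)).elim)]

/-- A character fixed by all linear twists vanishes outside the commutator subgroup. -/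
theorem vanish_of_fixed [Fintype G] {χ : G → ℂ}
    (h : ∀ φ : G →* ℂˣ, ∀ g, (φ g : ℂ) * χ g = χ g) {g : G} (hg : g ∉ commutator G) : χ g = 0 := by
  by_contra h0
  apply hg
  have hab : ∀ φ : G →* ℂˣ, φ g = 1 := fun φ =>
    Units.ext ((mul_eq_right₀ h0).mp (h φ g))
  haveI : Finite (Abelianization G) := Finite.of_surjective _ QuotientGroup.mk_surjective
  rw [← Abelianization.ker_of, MonoidHom.mem_ker]
  obtain ⟨m, hm⟩ : ∃ m : ℕ, m = Monoid.exponent (Abelianization G) := ⟨_, rfl⟩
  by_contra hne
  obtain ⟨φ, hφ⟩ := CommGroup.exists_apply_ne_one_of_hasEnoughRootsOfUnity (Abelianization G) ℂ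
    hne
  exact hφ (hab (φ.comp Abelianization.of))

/-- Let p be a prime and G a finite nilpotent group. Then G has exactly one irreducible complex character of degree divisible by p if and only if p = 2 and G is an extraspecial 2-group. -/
theorem result {G : Type*} [Group G] [Finite G] [Group.IsNilpotent G] (p : ℕ) [Fact p.Prime] : Nat.card {χ : Cfsg.IrrCharacter G // p ∣ Cfsg.charDegree (χ : G → ℂ)} = 1 ↔ (p = 2 ∧ Cfsg.IsExtraspecial 2 G) := by
  classical
  haveI := Fintype.ofFinite G
  have hp : p.Prime := Fact.out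
  constructor
  · intro h1
    obtain ⟨hsub, ⟨⟨χ, hχp⟩⟩⟩ := Nat.card_eq_one_iff_unique.mp h1
    have huniq : ∀ ψ : IrrCharacter G, p ∣ charDegree (ψ : G → ℂ) → ψ = χ := fun ψ hψ =>
      congrArg Subtype.val (hsub.elim ⟨ψ, hψ⟩ ⟨χ, hχp⟩)
    have htw : ∀ φ : G →* ℂˣ, ∀ g, (φ g : ℂ) * (χ : G → ℂ) g = (χ : G → ℂ) g := by
      intro φ g
      have hirr := isIrrCharacter_mul_linear χ.2 φ
      have heq := huniq ⟨_, hirr⟩ (by
        convert hχp using 1
        unfold charDegree
        simp)
      have := congrFun (congrArg Subtype.val heq) g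
      simpa [mul_comm] using this
    -- the normal complement of the Sylow subgroup is trivial
    obtain ⟨P⟩ := (inferInstance : Nonempty (Sylow p G))
    haveI hPn : (P : Subgroup G).Normal :=
      Sylow.normal_of_normalizerCondition normalizerCondition_of_isNilpotent P
    obtain ⟨K, hK⟩ := Subgroup.exists_right_complement'_of_coprime (N := (P : Subgroup G))
      P.card_coprime_index
    have hKcard : Nat.card K = (P : Subgroup G).index := hK.symm.index_eq_card.symm
    have hKp : ¬ p ∣ Nat.card K := hKcard ▸ P.not_dvd_index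
    have hcomm : ∀ a ∈ (P : Subgroup G), ∀ b ∈ K, Commute a b := by
      intro a ha b hb
      refine Cfsg.Lib.PGroup.commute_of_coprime_orderOf a b ?_
      obtain ⟨i, hi⟩ := (IsPGroup.iff_orderOf.mp P.isPGroup') ⟨a, ha⟩
      rw [Subgroup.orderOf_mk] at hi
      rw [hi]
      refine Nat.Coprime.pow_left _ (hp.coprime_iff_not_dvd.mpr fun h => hKp ?_)
      refine h.trans ?_
      have := orderOf_dvd_natCard (⟨b, hb⟩ : K)
      rwa [Subgroup.orderOf_mk] at this
    haveI hKn : K.Normal := ⟨fun b hb g => by
      obtain ⟨⟨a, c⟩, rfl⟩ := hK.2 g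
      have hc : (c : G) * b * (c : G)⁻¹ ∈ K := K.mul_mem (K.mul_mem c.2 hb) (K.inv_mem c.2)
      have h' := hcomm a a.2 _ hc
      show (a : G) * c * b * ((a : G) * c)⁻¹ ∈ K
      rw [show (a : G) * c * b * ((a : G) * c)⁻¹ = (a : G) * ((c : G) * b * (c : G)⁻¹) * (a : G)⁻¹
        by group, h'.eq, mul_inv_cancel_right]
      exact hc⟩
    have hQ : IsPGroup p (G ⧸ K) := by
      refine IsPGroup.of_card (n := (Nat.card G).factorization p) ?_
      rw [← Subgroup.index_eq_card, hK.index_eq_card, P.card_eq_multiplicity]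
    have hQna : ¬ ∀ a b : G ⧸ K, a * b = b * a := by
      intro hab
      have hPab : ∀ a ∈ (P : Subgroup G), ∀ b ∈ (P : Subgroup G), a * b = b * a := by
        intro a ha b hb
        have h2 := hab (a : G ⧸ K) (b : G ⧸ K)
        rw [← QuotientGroup.mk_mul, ← QuotientGroup.mk_mul, QuotientGroup.eq] at h2
        have h3 : (a * b)⁻¹ * (b * a) ∈ (P : Subgroup G) :=
          mul_mem (inv_mem (mul_mem ha hb)) (mul_mem hb ha)
        have h4 := hK.disjoint.le_bot ⟨h3, h2⟩
        rwa [Subgroup.mem_bot, inv_mul_eq_one] at h4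
      have hd := degree_dvd_index_of_comm (P : Subgroup G) hPab χ.2
        χ.2.apply_one_eq_charDegree
      exact P.not_dvd_index (hχp.trans hd)
    haveI := Fintype.ofFinite (G ⧸ K)
    obtain ⟨ψ, hψ⟩ := exists_nonlinear hQna
    have hψp : p ∣ charDegree (ψ : G ⧸ K → ℂ) := by
      obtain ⟨k, hk⟩ := IsPGroup.iff_card.mp hQ
      obtain ⟨i, -, hi⟩ := (Nat.dvd_prime_pow hp).mp (hk ▸ charDegree_dvd_card ψ.2)
      rw [hi] at hψ ⊢
      exact dvd_pow_self p fun h0 => hψ (by rw [h0, pow_zero])
    have hinf : ∀ g : G, (χ : G → ℂ) g = (ψ : G ⧸ K → ℂ) g := by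
      have := huniq ⟨_, isIrrCharacter_inflate K ψ.2⟩ (by simpa [charDegree] using hψp)
      intro g
      rw [← this]
    have hKG : K ≤ commutator G := by
      intro x hx
      by_contra hx'
      have h0 := vanish_of_fixed htw hx'
      rw [hinf, (QuotientGroup.eq_one_iff x).mpr hx] at h0
      exact ψ.2.apply_one_ne_zero h0
    have hG : IsPGroup p G := by
      by_contra hnp
      have hKne : K ≠ ⊥ := by
        intro h
        apply hnp
        have hbot : (P : Subgroup G).index = 1 := by rw [← hKcard, h, Subgroup.card_bot]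
        rw [Subgroup.index_eq_one] at hbot
        refine IsPGroup.of_equiv (hbot ▸ P.isPGroup') Subgroup.topEquiv
      -- `G / P` is nilpotent, nontrivial, hence not perfect
      haveI : Nontrivial (G ⧸ (P : Subgroup G)) := by
        rw [← Finite.one_lt_card_iff_nontrivial, ← Subgroup.index_eq_card, ← hKcard]
        exact (Subgroup.one_lt_card_iff_ne_bot K).mpr hKne
      have hne : commutator (G ⧸ (P : Subgroup G)) ≠ ⊤ := (Group.IsSolvable.commutator_lt_top_of_nontrivial _).ne
      apply hne
      rw [eq_top_iff]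
      intro q _
      obtain ⟨g, rfl⟩ := QuotientGroup.mk_surjective q
      obtain ⟨⟨a, c⟩, rfl⟩ := hK.2 g
      have hmap : (commutator G).map (QuotientGroup.mk' (P : Subgroup G))
          ≤ commutator (G ⧸ (P : Subgroup G)) := by
        rw [commutator_def, Subgroup.map_commutator, commutator_def]
        exact Subgroup.commutator_mono le_top le_top
      have := hmap ⟨c, hKG c.2, rfl⟩
      simpa [(QuotientGroup.eq_one_iff (a : G)).mpr a.2] using this
    obtain ⟨n, hn⟩ := IsPGroup.iff_card.mp hG
    have huniq' : ∀ φ : IrrCharacter G, charDegree (φ : G → ℂ) ≠ 1 → φ = χ := by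
      intro φ hφ
      refine huniq φ ?_
      obtain ⟨i, -, hi⟩ := (Nat.dvd_prime_pow hp).mp (hn ▸ charDegree_dvd_card φ.2)
      rw [hi] at hφ ⊢
      exact dvd_pow_self p fun h0 => hφ (by rw [h0, pow_zero])
    have hχ1 : charDegree (χ : G → ℂ) ≠ 1 := fun h => hp.not_dvd_one (h ▸ hχp)
    have hcard := card_eq_index_add hχ1 huniq'
    obtain ⟨m, hmn, hm⟩ := (Nat.dvd_prime_pow hp).mp (hn ▸ (commutator G).index_dvd_card)
    obtain ⟨j, -, hj⟩ := (Nat.dvd_prime_pow hp).mp (hn ▸ charDegree_dvd_card χ.2)
    rw [hn, hm, hj, ← pow_mul] at hcard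
    obtain ⟨hp2, hn1⟩ : p = 2 ∧ n = m + 1 := by
      have hlt : m < n := by
        rcases eq_or_lt_of_le hmn with rfl | h
        · have := pow_pos hp.pos (j * 2); omega
        · exact h
      have h2 : p ^ (j * 2) = p ^ m * (p ^ (n - m) - 1) := by
        rw [Nat.mul_sub, mul_one, ← pow_add, Nat.add_sub_cancel' hmn]
        omega
      obtain ⟨i, -, hi⟩ := (Nat.dvd_prime_pow hp).mp (Dvd.intro_left _ h2.symm)
      have hi0 : i = 0 := by
        by_contra h0
        have hd1 : p ∣ p ^ (n - m) - 1 := hi ▸ dvd_pow_self p h0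
        have hd2 : p ∣ p ^ (n - m) := dvd_pow_self p (by omega)
        have h5 : 1 ≤ p ^ (n - m) := Nat.one_le_pow _ _ hp.pos
        have h6 := Nat.dvd_sub hd2 hd1
        rw [Nat.sub_sub_self h5] at h6
        exact hp.not_dvd_one h6
      rw [hi0, pow_zero] at hi
      have h3 : p ^ (n - m) = 2 := by omega
      have hp' : p = 2 := (Nat.prime_dvd_prime_iff_eq hp Nat.prime_two).mp
        (h3 ▸ dvd_pow_self p (by omega))
      subst hp'
      have : n - m = 1 := by
        have := (Nat.pow_right_injective (le_refl 2)) (h3.trans (pow_one 2).symm)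
        exact this
      exact ⟨rfl, by omega⟩
    subst hp2
    have hD : Nat.card (commutator G) = 2 := by
      have hmul := Subgroup.card_mul_index (commutator G)
      rw [hm, hn, hn1, pow_succ'] at hmul
      exact Nat.eq_of_mul_eq_mul_right (pow_pos (by norm_num) m) hmul
    have hle : commutator G ≤ Subgroup.center G :=
      Cfsg.Lib.PGroup.le_center_of_card_eq_prime hG (N := commutator G) hD
    have hge : Subgroup.center G ≤ commutator G := by
      intro z hz
      by_contra hz'
      have h0 := vanish_of_fixed htw hz'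
      obtain ⟨d, ρ, hρ, hρχ⟩ := χ.2
      let T : Representation.IntertwiningMap ρ ρ := ⟨ρ z, fun k => by
        show ρ z ∘ₗ ρ k = ρ k ∘ₗ ρ z
        rw [← Module.End.mul_eq_comp, ← Module.End.mul_eq_comp, ← map_mul, ← map_mul,
          Subgroup.mem_center_iff.mp hz k]⟩
      obtain ⟨a, ha⟩ :=
        (Representation.IsIrreducible.algebraMap_intertwiningMap_bijective_of_isAlgClosed
          (ρ := ρ)).2 T
      have haT : ρ z = a • LinearMap.id :=
        (congrArg Representation.IntertwiningMap.toLinearMap ha).symm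
      have hn' := (norm_character_eq_iff ρ z).mpr ⟨a, haT⟩
      rw [← hρχ] at h0
      rw [h0, norm_zero, eq_comm, Nat.cast_eq_zero] at hn'
      apply χ.2.apply_one_ne_zero
      rw [← hρχ, Representation.char_one, hn', Nat.cast_zero]
    have hZ : commutator G = Subgroup.center G := le_antisymm hle hge
    refine ⟨rfl, ⟨hG, ?_, hZ⟩, hZ ▸ hD⟩
    apply le_antisymm
    · refine Cfsg.Lib.PGroup.frattini_le_of_commutator_le_of_pow_mem (p := 2) hle fun g => ?_
      rw [Subgroup.mem_center_iff]
      intro y
      have hc : ⁅g, y⁆ ∈ commutator G :=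
        Subgroup.commutator_mem_commutator (Subgroup.mem_top g) (Subgroup.mem_top y)
      have hsq : ⁅g, y⁆ ^ 2 = 1 := by
        have := orderOf_dvd_natCard (⟨_, hc⟩ : commutator G)
        rw [hD, Subgroup.orderOf_mk] at this
        exact orderOf_dvd_iff_pow_eq_one.mp this
      have hz := Subgroup.mem_center_iff.mp (hle hc) g
      have : ⁅g ^ 2, y⁆ = 1 := by
        calc ⁅g ^ 2, y⁆ = g * ⁅g, y⁆ * g⁻¹ * ⁅g, y⁆ := by
              simp only [commutatorElement_def, pow_two]; group
          _ = 1 := by rw [hz, ← hsq, pow_two]; group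
      exact (commutatorElement_eq_one_iff_mul_comm.mp this).symm
    · rw [← hZ]; exact Cfsg.Lib.PGroup.commutator_le_frattini hG
  · rintro ⟨rfl, hex⟩
    haveI : Fact (Nat.Prime 2) := ⟨Nat.prime_two⟩
    obtain ⟨n, hn⟩ := IsPGroup.iff_card.mp hex.1.1
    have hsq : ∀ χ : IrrCharacter G, charDegree (χ : G → ℂ) ≠ 1 →
        2 * charDegree (χ : G → ℂ) ^ 2 = Nat.card G := by
      intro χ hχ
      have hne : ∃ z ∈ Subgroup.center G, (χ : G → ℂ) z ≠ (χ : G → ℂ) 1 := by
        by_contra h
        push Not at h
        exact hχ (by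
          have h1 := extraspecial_trivial_on_center hex χ.2 h
          rw [χ.2.apply_one_eq_charDegree] at h1
          exact_mod_cast h1)
      have hcz : ∀ z ∈ Subgroup.center G, ‖(χ : G → ℂ) z‖ = (charDegree (χ : G → ℂ) : ℝ) := by
        intro z hz
        obtain ⟨d, ρ, hρ, hρχ⟩ := χ.2
        let T : Representation.IntertwiningMap ρ ρ := ⟨ρ z, fun k => by
          show ρ z ∘ₗ ρ k = ρ k ∘ₗ ρ z
          rw [← Module.End.mul_eq_comp, ← Module.End.mul_eq_comp, ← map_mul, ← map_mul,
            Subgroup.mem_center_iff.mp hz k]⟩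
        obtain ⟨a, ha⟩ :=
          (Representation.IsIrreducible.algebraMap_intertwiningMap_bijective_of_isAlgClosed
            (ρ := ρ)).2 T
        have haT : ρ z = a • LinearMap.id :=
          (congrArg Representation.IntertwiningMap.toLinearMap ha).symm
        rw [← hρχ, (norm_character_eq_iff ρ z).mpr ⟨a, haT⟩]
        congr 1
        unfold charDegree
        rw [Representation.char_one]
        simp
      have h := classInner_irr_self χ.2
      rw [classInner, inv_mul_eq_iff_eq_mul₀ card_cast_ne_zero, mul_one,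
        ← Finset.sum_filter_add_sum_filter_not Finset.univ (fun g => g ∈ Subgroup.center G),
        Finset.sum_eq_zero (s := Finset.univ.filter fun g => g ∉ Subgroup.center G) (fun g hg => by
          rw [extraspecial_vanish hex χ.2 hne (Finset.mem_filter.mp hg).2, zero_mul]), add_zero,
        Finset.sum_congr rfl (g := fun _ => (charDegree (χ : G → ℂ) : ℂ) * charDegree (χ : G → ℂ))
          (fun g hg => by
            rw [Complex.mul_conj', hcz g (Finset.mem_filter.mp hg).2]
            push_cast; ring),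
        Finset.sum_const, nsmul_eq_mul, ← Fintype.card_subtype, ← Nat.card_eq_fintype_card,
        hex.2] at h
      norm_cast at h
      rw [← h, pow_two]
    have hna : ¬ ∀ a b : G, a * b = b * a := by
      intro h
      have hc : commutator G = ⊥ := by
        rw [eq_bot_iff, commutator_def, Subgroup.commutator_le]
        intro a _ b _
        rw [Subgroup.mem_bot, commutatorElement_eq_one_iff_mul_comm]
        exact h a b
      have h2 := hex.2
      rw [← hex.1.2.2, hc, Subgroup.card_bot] at h2
      exact absurd h2 (by norm_num)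
    obtain ⟨χ, hχ⟩ := exists_nonlinear hna
    have huniq : ∀ φ : IrrCharacter G, charDegree (φ : G → ℂ) ≠ 1 → φ = χ := by
      intro φ hφ
      by_contra hne
      have h := sum_sq_degree (G := G)
      rw [Finset.sum_congr rfl fun (ψ : IrrCharacter G) _ => by
        rw [ψ.2.apply_one_eq_charDegree]] at h
      have hsum : ∑ ψ : IrrCharacter G, charDegree (ψ : G → ℂ) ^ 2 = Nat.card G := by
        exact_mod_cast h
      let one : IrrCharacter G := ⟨fun _ => 1, isIrrCharacter_one⟩
      have hone : charDegree (one : G → ℂ) = 1 := by simp [one, charDegree]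
      have hle := Finset.sum_le_sum_of_subset (f := fun ψ : IrrCharacter G =>
        charDegree (ψ : G → ℂ) ^ 2) (Finset.subset_univ ({one, φ, χ} : Finset (IrrCharacter G)))
      rw [hsum, Finset.sum_insert (by
          simp only [Finset.mem_insert, Finset.mem_singleton, not_or]
          exact ⟨fun e => hφ (e ▸ hone), fun e => hχ (e ▸ hone)⟩),
        Finset.sum_pair hne, hone] at hle
      have h1 := hsq χ hχ
      have h2 := hsq φ hφ
      omega
    rw [Nat.card_eq_one_iff_unique]
    refine ⟨⟨fun a b => Subtype.ext ?_⟩, ⟨χ, ?_⟩⟩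
    · have key : ∀ c : {φ : IrrCharacter G // 2 ∣ charDegree (φ : G → ℂ)}, c.1 = χ := fun c =>
        huniq c.1 fun e => Nat.prime_two.not_dvd_one (e ▸ c.2)
      rw [key a, key b]
    · obtain ⟨i, -, hi⟩ := (Nat.dvd_prime_pow Nat.prime_two).mp (hn ▸ charDegree_dvd_card χ.2)
      rw [hi] at hχ ⊢
      exact dvd_pow_self 2 fun h0 => hχ (by rw [h0, pow_zero])

end Cfsg.Agent.S4762
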