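import Cfsg.Statements.S4763
import Cfsg.Agent.Lib.Char.GlaubermanSolv
import Cfsg.Agent.Lib.Char.CoprimeElem
import Cfsg.Agent.Lib.Char.AbelianInertia
import Cfsg.Agent.Lib.Char.Gallagher
import Cfsg.Agent.Lib.Char.Quotient
import Cfsg.Agent.Lib.Char.Formulas
import Mathlib.GroupTheory.SchurZassenhaus

set_option autoImplicit false
set_option linter.unusedSectionVars false
set_option linter.style.haveILetI false
open Cfsg

namespace Cfsg.Agent.S4763

open Cfsg.Lib

universe u

variable {G : Type u} [Group G] [Fintype G]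

theorem card_carrier (g : G) :
    Nat.card (ConjClasses.mk g).carrier = (Subgroup.centralizer ({g} : Set G)).index := by
  rw [← Cfsg.Lib.Char.card_classFinset, ← Nat.card_eq_finsetCard]
  exact Nat.card_congr (Equiv.subtypeEquivRight fun x => by
    rw [Cfsg.Lib.Char.mem_classFinset, ConjClasses.mem_carrier_iff_mk_eq,
      ConjClasses.mk_eq_mk_iff_isConj]
    exact isConj_comm)

theorem charDegree_eq {χ : G → ℂ} (hχ : IsIrrCharacter G χ) {a : ℕ} (h : χ 1 = (a : ℂ)) :
    charDegree χ = a := by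
  have := hχ.apply_one_eq_charDegree
  rw [h] at this
  exact (Nat.cast_injective this).symm

/-- A class of `N` is fixed by `S` exactly when `S` lies in `N · C(n)`. -/
theorem isFixCl_iff (S N : Subgroup G) [N.Normal] (n : N) :
    Cfsg.Lib.Char.IsFixCl S N (ConjClasses.mk n) ↔
      S ≤ N ⊔ Subgroup.centralizer ({(n : G)} : Set G) := by
  have hnN : ∀ (s : G) (g : N), s * g * s⁻¹ ∈ N := fun s g =>
    (inferInstance : N.Normal).conj_mem g g.2 s
  constructor
  · intro h s hs
    obtain ⟨y, hy⟩ := isConj_iff.mp (ConjClasses.mk_eq_mk_iff_isConj.mp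
      (h s hs n ⟨_, hnN s n⟩ rfl rfl))
    have hy' : (y : G) * (s * n * s⁻¹) * (y : G)⁻¹ = n := congrArg Subtype.val hy
    have hc : (y : G) * s ∈ Subgroup.centralizer ({(n : G)} : Set G) := by
      rw [Subgroup.mem_centralizer_singleton_iff]
      calc (y : G) * s * n = (y : G) * (s * n * s⁻¹) * (y : G)⁻¹ * ((y : G) * s) := by group
        _ = n * ((y : G) * s) := by rw [hy']
    have := Subgroup.mul_mem_sup (inv_mem y.2) hc
    rwa [inv_mul_cancel_left] at this
  · intro h s hs g g' hg hgn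
    obtain ⟨z, hz⟩ := isConj_iff.mp (ConjClasses.mk_eq_mk_iff_isConj.mp hgn.symm)
    have hz' : (z : G) * n * (z : G)⁻¹ = g := congrArg Subtype.val hz
    obtain ⟨y, hy, c, hc, rfl⟩ := Subgroup.mem_sup_of_normal_left.mp (h hs)
    rw [Subgroup.mem_centralizer_singleton_iff] at hc
    refine (ConjClasses.mk_eq_mk_iff_isConj.mpr (isConj_iff.mpr
      ⟨(⟨_, hnN (y * c) z⟩ : N) * ⟨y, hy⟩, Subtype.ext ?_⟩)).symm
    show (y * c * (z : G) * (y * c)⁻¹ * y) * n * (y * c * (z : G) * (y * c)⁻¹ * y)⁻¹ = g'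
    have hcn : c * n * c⁻¹ = n := by rw [hc]; group
    calc _ = y * c * (z : G) * c⁻¹ * n * c * (z : G)⁻¹ * (y * c)⁻¹ := by group
      _ = y * c * (z : G) * c⁻¹ * (c * n * c⁻¹) * c * (z : G)⁻¹ * (y * c)⁻¹ := by rw [hcn]
      _ = y * c * ((z : G) * n * (z : G)⁻¹) * (y * c)⁻¹ := by group
      _ = g' := by rw [hz', hg]

theorem main (p : ℕ) [hp : Fact p.Prime] (hnil : ¬ Group.IsNilpotent G) (N : Subgroup G)
    [hNn : N.Normal] (hN : (Nat.card N).Coprime p) (hidx : ∃ k : ℕ, N.index = p ^ k)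
    (hone : Nat.card {χ : IrrCharacter G // p ∣ charDegree (χ : G → ℂ)} = 1) :
    Nat.card {C : ConjClasses G // p ∣ Nat.card C.carrier} = 1 := by
  classical
  haveI := Fintype.ofFinite N
  obtain ⟨k, hk⟩ := hidx
  have hcopk : (Nat.card N).Coprime (p ^ k) := hN.pow_right k
  have hpN : ¬ p ∣ Nat.card N := (hp.out.coprime_iff_not_dvd).mp hN.symm
  obtain ⟨P, hP⟩ := Subgroup.exists_right_complement'_of_coprime (N := N) (hk ▸ hcopk)
  have hPcard : Nat.card P = p ^ k := by rw [← hk, ← hP.symm.index_eq_card]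
  have hPp : IsPGroup p P := IsPGroup.of_card hPcard
  have hinf : ∀ x : G, x ∈ N → x ∈ P → x = 1 := fun x h1 h2 => by
    have := hP.disjoint.le_bot ⟨h1, h2⟩
    exact this
  have hdec : ∀ g : G, ∃ n ∈ N, ∃ a ∈ P, g = n * a := fun g => by
    obtain ⟨a, ha, b, hb, e⟩ := Subgroup.mem_sup_of_normal_left.mp
      (hP.sup_eq_top ▸ Subgroup.mem_top g : g ∈ N ⊔ P)
    exact ⟨a, ha, b, hb, e.symm⟩
  have hPn : P ≤ Subgroup.normalizer (N : Set G) := fun a _ =>
    Subgroup.mem_normalizer_iff.mpr fun y => ⟨fun h => hNn.conj_mem y h a, fun h => by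
      have := hNn.conj_mem _ h a⁻¹
      simpa [mul_assoc] using this⟩
  -- the unique character
  obtain ⟨hsub, ⟨⟨χ₀, hχ₀d⟩⟩⟩ := Nat.card_eq_one_iff_unique.mp hone
  have huniq : ∀ χ : G → ℂ, IsIrrCharacter G χ → p ∣ charDegree χ → χ = (χ₀ : G → ℂ) := by
    intro χ hχ hd
    have h := hsub.elim ⟨⟨χ, hχ⟩, hd⟩ ⟨χ₀, hχ₀d⟩
    exact congrArg Subtype.val (congrArg Subtype.val h)
  -- moved characters exist
  have hex : ∃ θ : IrrCharacter N, Cfsg.Lib.Char.inertia N (θ : N → ℂ) ≠ ⊤ := by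
    by_contra hall
    push Not at hall
    have hinv : ∀ (θ : IrrCharacter N) g, Cfsg.Lib.Char.conjTwist N (θ : N → ℂ) g = θ :=
      fun θ g => (Cfsg.Lib.Char.mem_inertia N).mp (hall θ ▸ Subgroup.mem_top g)
    let one : IrrCharacter N := ⟨fun _ => 1, Cfsg.Lib.Char.isIrrCharacter_one⟩
    have hNne : ∃ θ : IrrCharacter N, θ ≠ one := by
      by_contra hc
      push Not at hc
      apply hnil
      have hN1 : Nat.card (ConjClasses N) = 1 := by
        rw [← Cfsg.Lib.Char.card_irr_eq_card_conjClasses]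
        exact Nat.card_eq_one_iff_unique.mpr
          ⟨⟨fun a b => (hc a).trans (hc b).symm⟩, ⟨one⟩⟩
      haveI := (Nat.card_eq_one_iff_unique.mp hN1).1
      have hbot : Nat.card N = 1 := by
        refine Nat.card_eq_one_iff_unique.mpr ⟨⟨fun a b => ?_⟩, ⟨1⟩⟩
        have h1 : ∀ a : N, a = 1 := fun a => isConj_one_right.mp
          (ConjClasses.mk_eq_mk_iff_isConj.mp (Subsingleton.elim _ (ConjClasses.mk a)))
        rw [h1 a, h1 b]
      exact IsPGroup.isNilpotent (p := p) (IsPGroup.of_card (n := k) (by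
        rw [← N.card_mul_index, hbot, one_mul, hk]))
    obtain ⟨θ₀, hθ₀⟩ := Cfsg.Lib.Char.exists_irr_constituent_res N χ₀.2
    have hgal : ∀ θ : IrrCharacter N, ∃ e : G → ℂ, IsIrrCharacter G e ∧
        (fun n : N => e n) = θ ∧
        Set.BijOn (fun β : G → ℂ => β * e)
          {β : G → ℂ | IsIrrCharacter G β ∧ classInner (indFun N fun _ => 1) β ≠ 0}
          {ψ : G → ℂ | IsIrrCharacter G ψ ∧ classInner (indFun N (θ : N → ℂ)) ψ ≠ 0} := by
      intro θ
      obtain ⟨e, he, hres⟩ := Cfsg.Lib.Char.exists_extension_of_coprime N θ.2 (hinv θ)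
        (hk ▸ hcopk)
      have hmul : ((fun _ => 1 : N → ℂ) * (θ : N → ℂ)) = θ := one_mul _
      refine ⟨e, he, hres, ?_⟩
      have h := Cfsg.Lib.Char.gallagher_bijOn N Cfsg.Lib.Char.isIrrCharacter_one
        (fun g => rfl) (hinv θ) (by rw [hmul]; exact θ.2) he.isCharacter (congrFun hres)
      rwa [hmul] at h
    obtain ⟨e₀, he₀, hres₀, hbij₀⟩ := hgal θ₀
    have hmem : (χ₀ : G → ℂ) ∈ {ψ : G → ℂ | IsIrrCharacter G ψ ∧
        classInner (indFun N (θ₀ : N → ℂ)) ψ ≠ 0} := ⟨χ₀.2, by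
      rw [Cfsg.Lib.Char.classInner_indFun N _ χ₀.2.isClassFunction,
        ← Cfsg.Lib.Char.classInner_conj_symm]
      exact (map_ne_zero _).mpr hθ₀⟩
    obtain ⟨β, hβ, hβe⟩ := hbij₀.surjOn hmem
    replace hβe : β * e₀ = (χ₀ : G → ℂ) := hβe
    obtain ⟨b, -, hb⟩ := (hβ.1 : IsIrrCharacter G β).exists_degree
    obtain ⟨t, -, ht⟩ := θ₀.2.exists_degree
    have he1 : e₀ 1 = (t : ℂ) := by rw [← ht, ← hres₀]; rfl
    have hpb : p ∣ b := by
      have h1 : charDegree (χ₀ : G → ℂ) = b * t := charDegree_eq χ₀.2 (by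
        rw [← hβe, Pi.mul_apply, hb, he1, Nat.cast_mul])
      refine (Nat.Coprime.dvd_of_dvd_mul_right ?_ (h1 ▸ hχ₀d))
      exact (Nat.Coprime.coprime_dvd_left
        (Cfsg.Lib.Char.degree_dvd_card θ₀.2 ht) hN).symm
    have hb0 : β = (χ₀ : G → ℂ) := huniq β hβ.1 (by rwa [charDegree_eq hβ.1 hb])
    have hβN : ∀ n : N, β n = β 1 := fun n => Cfsg.Lib.Char.apply_eq_of_constituent
      (Cfsg.Lib.Char.isCharacter_indFun N Cfsg.Lib.Char.isIrrCharacter_one.isCharacter)
      hβ.1 hβ.2 (Cfsg.Lib.Char.indFun_one_apply N n)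
    obtain ⟨θ, hθ⟩ := hNne
    obtain ⟨e, he, hres, hbij⟩ := hgal θ
    obtain ⟨hirr, -⟩ := hbij.mapsTo hβ
    change IsIrrCharacter G (β * e) at hirr
    obtain ⟨d, -, hd⟩ := θ.2.exists_degree
    have he1' : e 1 = (d : ℂ) := by rw [← hd, ← hres]; rfl
    have heq := huniq _ hirr (by
      rw [charDegree_eq hirr (a := b * d) (by rw [Pi.mul_apply, hb, he1', Nat.cast_mul])]
      exact dvd_mul_of_dvd_left hpb d)
    rw [← hb0] at heq
    apply hθ
    apply Subtype.ext
    funext n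
    have h := congrFun heq (n : G)
    rw [Pi.mul_apply, hβN n] at h
    rw [← hres]
    exact (mul_right_eq_self₀.mp h).resolve_right (hβ.1 : IsIrrCharacter G β).apply_one_ne_zero
  -- `G/N` is abelian
  have hab : ∀ x y : G, x * y * x⁻¹ * y⁻¹ ∈ N := by
    obtain ⟨θ, hθ⟩ := hex
    have hlin : ∀ φ : IrrCharacter (G ⧸ N), (φ : G ⧸ N → ℂ) 1 = 1 := by
      intro φ
      obtain ⟨d, -, hd⟩ := φ.2.exists_degree
      have hdvd : d ∣ p ^ k := hk ▸ (Cfsg.Lib.Char.degree_dvd_card φ.2 hd)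
      obtain ⟨i, -, rfl⟩ := (Nat.dvd_prime_pow hp.out).mp hdvd
      rcases i with _ | i
      · simpa using hd
      exfalso
      have hirr := Cfsg.Lib.Char.isIrrCharacter_inflate N φ.2
      have h0 := huniq _ hirr (by
        rw [charDegree_eq hirr (a := p ^ (i + 1)) (by simpa using hd)]
        exact dvd_pow_self p (Nat.succ_ne_zero i))
      obtain ⟨χ, hχ⟩ := Cfsg.Lib.Char.exists_constituent
        (Cfsg.Lib.Char.isCharacter_indFun N θ.2.isCharacter) (by
          rw [Cfsg.Lib.Char.indFun_apply_one]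
          exact mul_ne_zero (Nat.cast_ne_zero.mpr Subgroup.index_ne_zero_of_finite)
            θ.2.apply_one_ne_zero)
      have hc : classInner (fun n : N => (χ : G → ℂ) n) (θ : N → ℂ) ≠ 0 := by
        rw [Cfsg.Lib.Char.classInner_indFun N _ χ.2.isClassFunction,
          ← Cfsg.Lib.Char.classInner_conj_symm] at hχ
        exact (map_ne_zero _).mp hχ
      have hχd := Cfsg.Lib.Char.clifford_degree N χ.2 θ.2 hc
      obtain ⟨e, he⟩ := (χ.2.isCharacter.comp N.subtype).exists_nat_classInner θ.2.isCharacter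
      obtain ⟨t, -, ht⟩ := θ.2.exists_degree
      have he' : classInner (fun n : N => (χ : G → ℂ) n) (θ : N → ℂ) = (e : ℂ) := he
      rw [he', ht] at hχd
      have hpT : p ∣ (Cfsg.Lib.Char.inertia N (θ : N → ℂ)).index := by
        obtain ⟨j, -, hj⟩ := (Nat.dvd_prime_pow hp.out).mp (hk ▸ Subgroup.index_dvd_of_le
          (Cfsg.Lib.Char.le_inertia N θ.2.isClassFunction))
        rcases j with _ | j
        · exact absurd (Subgroup.index_eq_one.mp (by simpa using hj)) hθ
        · exact hj ▸ dvd_pow_self p (Nat.succ_ne_zero j)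
      have hpχ : p ∣ charDegree (χ : G → ℂ) := by
        rw [charDegree_eq χ.2 (a := e * (Cfsg.Lib.Char.inertia N (θ : N → ℂ)).index * t) (by
          rw [hχd]; push_cast; ring)]
        exact dvd_mul_of_dvd_left (dvd_mul_of_dvd_right hpT _) _
      rw [huniq _ χ.2 hpχ, ← h0] at hc
      have hconst : (fun n : N => (φ : G ⧸ N → ℂ) ((n : G) : G ⧸ N)) =
          ((p ^ (i + 1) : ℕ) : ℂ) • fun _ : N => (1 : ℂ) := by
        funext n
        rw [(QuotientGroup.eq_one_iff (n : G)).mpr n.2, hd]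
        simp
      rw [hconst, Cfsg.Lib.Char.classInner_smul_left] at hc
      refine hθ (eq_top_iff.mpr fun g _ => ?_)
      have h1 : (fun _ : N => (1 : ℂ)) = θ := by
        by_contra hne
        exact hc (by rw [Cfsg.Lib.Char.classInner_irr_ne Cfsg.Lib.Char.isIrrCharacter_one θ.2 hne,
          mul_zero])
      rw [← h1]
      exact funext fun _ => rfl
    intro x y
    have hc := Cfsg.Lib.Char.comm_iff_all_linear.mpr hlin (x : G ⧸ N) (y : G ⧸ N)
    rw [← QuotientGroup.eq_one_iff]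
    simp only [QuotientGroup.mk_mul, QuotientGroup.mk_inv]
    rw [hc]; group
  have hPc : ∀ a ∈ P, ∀ b ∈ P, a * b = b * a := fun a ha b hb => by
    have := hinf _ (hab a b) (mul_mem (mul_mem (mul_mem ha hb) (inv_mem ha)) (inv_mem hb))
    rwa [mul_inv_eq_one, mul_inv_eq_iff_eq_mul] at this
  -- moved characters
  have hmov : ∀ θ : IrrCharacter N, Cfsg.Lib.Char.inertia N (θ : N → ℂ) ≠ ⊤ →
      Cfsg.Lib.Char.inertia N (θ : N → ℂ) = N ∧ indFun N (θ : N → ℂ) = (χ₀ : G → ℂ) := by
    intro θ hθ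
    obtain ⟨e, C, he0, hC, hcard, hind, hdeg, hcop⟩ :=
      Cfsg.Lib.Char.indFun_abelian_inertia N _ θ.2 rfl fun x _ y _ => hab x y
    obtain rfl : e = 1 := hcop ((hcopk).coprime_dvd_right
      (hk ▸ Subgroup.relIndex_dvd_index_of_normal N _))
    set T := Cfsg.Lib.Char.inertia N (θ : N → ℂ) with hT
    have hNT : N ≤ T := Cfsg.Lib.Char.le_inertia N θ.2.isClassFunction
    have hpT : p ∣ T.index := by
      obtain ⟨j, -, hj⟩ := (Nat.dvd_prime_pow hp.out).mp (hk ▸ Subgroup.index_dvd_of_le hNT)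
      rcases j with _ | j
      · exact absurd (Subgroup.index_eq_one.mp (by simpa using hj)) hθ
      · exact hj ▸ dvd_pow_self p (Nat.succ_ne_zero j)
    obtain ⟨t, -, ht⟩ := θ.2.exists_degree
    have hC0 : ∀ χ ∈ C, χ = (χ₀ : G → ℂ) := fun χ hχ => huniq χ (hC χ hχ) (by
      rw [charDegree_eq (hC χ hχ) (a := T.index * t) (by rw [hdeg χ hχ, ht]; push_cast; ring)]
      exact dvd_mul_of_dvd_left hpT _)
    rw [one_pow, one_mul] at hcard
    have hle : C.card ≤ 1 := Finset.card_le_one.mpr fun a ha b hb => (hC0 a ha).trans (hC0 b hb).symm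
    have hne : N.relIndex T ≠ 0 := Subgroup.index_ne_zero_of_finite
    have h1 : C.card = 1 := by omega
    refine ⟨le_antisymm (Subgroup.relIndex_eq_one.mp (hcard ▸ h1)) hNT, ?_⟩
    obtain ⟨χ, rfl⟩ := Finset.card_eq_one.mp h1
    rw [hind, Finset.sum_singleton, Nat.cast_one, one_smul]
    exact hC0 χ (Finset.mem_singleton_self χ)
  obtain ⟨θ, hθ⟩ := hex
  obtain ⟨hθN, hθind⟩ := hmov θ hθ
  have hPne : 1 < Nat.card P := by
    by_contra hc
    have h1 : N.index = 1 := by
      rw [hk, ← hPcard]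
      exact le_antisymm (not_lt.mp hc) Nat.card_pos
    exact hθ (by rw [hθN, ← Subgroup.index_eq_one, h1])
  -- the invariant characters
  have hinv_iff : ∀ (S : Subgroup G), S ≤ P → S ≠ ⊥ → ∀ χ : IrrCharacter N,
      Cfsg.Lib.Char.IsInvOn S N (χ : N → ℂ) ↔ Cfsg.Lib.Char.inertia N (χ : N → ℂ) = ⊤ := by
    intro S hSP hS χ
    have hiff : Cfsg.Lib.Char.IsInvOn S N (χ : N → ℂ) ↔
        S ≤ Cfsg.Lib.Char.inertia N (χ : N → ℂ) :=
      ⟨fun h s hs => (Cfsg.Lib.Char.mem_inertia_iff N).mpr fun y => h s hs y _ rfl,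
        fun h s hs g g' hg => by
          rw [show g' = ⟨s * g * s⁻¹, hNn.conj_mem g g.2 s⟩ from Subtype.ext hg]
          exact (Cfsg.Lib.Char.mem_inertia_iff N).mp (h hs) g⟩
    rw [hiff]
    refine ⟨fun h => ?_, fun h => h ▸ le_top⟩
    by_contra hne
    rw [(hmov χ hne).1] at h
    exact hS (eq_bot_iff.mpr fun s hs => hinf s (h hs) (hSP hs))
  have hbotP : P ≠ ⊥ := fun h => by
    rw [h, Subgroup.card_bot] at hPne
    exact lt_irrefl 1 hPne
  have hsolv : ∀ S : Subgroup G, S ≤ P → Group.IsSolvable S := fun S hS => by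
    haveI := (hPp.to_le hS).isNilpotent
    infer_instance
  have hscop : ∀ S : Subgroup G, S ≤ P → (Nat.card N).Coprime (Nat.card S) := fun S hS =>
    hcopk.coprime_dvd_right (hPcard ▸ Subgroup.card_dvd_of_le hS)
  let Fx : Subgroup G → Set (ConjClasses N) := fun S => {K | Cfsg.Lib.Char.IsFixCl S N K}
  let Iv : Set (IrrCharacter N) := {χ | Cfsg.Lib.Char.inertia N (χ : N → ℂ) = ⊤}
  have hcount : ∀ S : Subgroup G, S ≤ P → S ≠ ⊥ → (Fx S).ncard = Iv.ncard := by
    intro S hSP hS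
    have h := Cfsg.Lib.Char.card_inv_eq_card_fixCl (hsolv S hSP) N (hSP.trans hPn) (hscop S hSP)
    rw [Nat.card_congr (Equiv.subtypeEquivRight (hinv_iff S hSP hS))] at h
    exact h.symm
  have hfix : ∀ (x : G) (n : N), x ∈ P → x ≠ 1 →
      x ∈ N ⊔ Subgroup.centralizer ({(n : G)} : Set G) →
      P ≤ N ⊔ Subgroup.centralizer ({(n : G)} : Set G) := by
    intro x n hx hx1 hxn
    have hz : Subgroup.zpowers x ≤ P := Subgroup.zpowers_le.mpr hx
    have hsub' : Fx P ⊆ Fx (Subgroup.zpowers x) := fun K hK s hs => hK s (hz hs)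
    have heq := Set.eq_of_subset_of_ncard_le hsub' (by
      rw [hcount P le_rfl hbotP, hcount _ hz (by rwa [Ne, Subgroup.zpowers_eq_bot])])
      (Set.toFinite _)
    have hmem : ConjClasses.mk n ∈ Fx (Subgroup.zpowers x) :=
      (isFixCl_iff _ N n).mpr (Subgroup.zpowers_le.mpr hxn)
    rw [← heq] at hmem
    exact (isFixCl_iff P N n).mp hmem
  -- classes
  have hfixed_small : ∀ g : G, P ≤ Subgroup.centralizer ({g} : Set G) →
      ¬ p ∣ (Subgroup.centralizer ({g} : Set G)).index := by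
    intro g hg hd
    refine hpN (hd.trans ((Subgroup.index_dvd_of_le hg).trans ?_))
    rw [hP.index_eq_card]
  have hcard_conj : ∀ {g h : G}, IsConj g h →
      (Subgroup.centralizer ({g} : Set G)).index = (Subgroup.centralizer ({h} : Set G)).index := by
    intro g h hgh
    rw [← card_carrier, ← card_carrier, ConjClasses.mk_eq_mk_iff_isConj.mpr hgh]
  have hsize : ∀ g : G, p ∣ (Subgroup.centralizer ({g} : Set G)).index →
      ∃ n : N, (n : G) = g ∧ ¬ P ≤ N ⊔ Subgroup.centralizer ({(n : G)} : Set G) := by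
    intro g hg
    obtain ⟨n, hn, x, hx, rfl⟩ := hdec g
    by_cases hx1 : x = 1
    · subst hx1
      refine ⟨⟨n, hn⟩, (mul_one n).symm, fun hle => ?_⟩
      obtain ⟨c, hc, hcn⟩ := Cfsg.Lib.Char.exists_fixed_in_class hPp hPn hpN
        ((isFixCl_iff P N ⟨n, hn⟩).mpr hle)
      refine hfixed_small (c : G) (fun a ha => Subgroup.mem_centralizer_singleton_iff.mpr
        (Subgroup.mem_centralizer_iff.mp hc a ha)) ?_
      rw [hcard_conj (show IsConj (c : G) n from
        N.subtype.map_isConj (ConjClasses.mk_eq_mk_iff_isConj.mp hcn))]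
      simpa using hg
    exfalso
    have hxnorm := hPn hx
    have hxcop : (Nat.card N).Coprime (orderOf x) :=
      hcopk.coprime_dvd_right (hPcard ▸ Subgroup.orderOf_dvd_natCard P hx)
    obtain ⟨u, hu, c, hc, hcx, hconj⟩ := Cfsg.Lib.Char.exists_conj_eq_mul hxnorm hxcop hn
    let D : Subgroup G := N ⊓ Subgroup.centralizer ({x} : Set G)
    haveI := Fintype.ofFinite D
    have hPD : P ≤ Subgroup.normalizer (D : Set G) := fun a ha => by
      rw [Subgroup.mem_normalizer_iff]
      intro y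
      have hax : a ∈ Subgroup.centralizer ({x} : Set G) :=
        Subgroup.mem_centralizer_singleton_iff.mpr (hPc a ha x hx)
      show y ∈ N ∧ y ∈ Subgroup.centralizer {x} ↔
        a * y * a⁻¹ ∈ N ∧ a * y * a⁻¹ ∈ Subgroup.centralizer {x}
      refine and_congr (Subgroup.mem_normalizer_iff.mp (hPn ha) y)
        ⟨fun h => mul_mem (mul_mem hax h) (inv_mem hax), fun h => ?_⟩
      have := mul_mem (mul_mem (inv_mem hax) h) hax
      simpa [mul_assoc] using this
    have hxU : x ∈ N ⊔ Subgroup.centralizer ({((⟨c, hc⟩ : N) : G)} : Set G) :=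
      Subgroup.mem_sup_right (Subgroup.mem_centralizer_singleton_iff.mpr hcx.eq.symm)
    have hPU := (isFixCl_iff P N ⟨c, hc⟩).mpr (hfix x ⟨c, hc⟩ hx hx1 hxU)
    let c₀ : D := ⟨c, hc, Subgroup.mem_centralizer_singleton_iff.mpr hcx.eq⟩
    have hKfix : Cfsg.Lib.Char.IsFixCl P D (ConjClasses.mk c₀) := by
      intro a ha y y' hy hyc
      have hyN : (y : G) ∈ N := y.2.1
      have hy'N : (y' : G) ∈ N := y'.2.1
      have hconjD : ∀ z : D, ConjClasses.mk z = ConjClasses.mk c₀ →
          ConjClasses.mk (Subgroup.inclusion (inf_le_left : D ≤ N) z) =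
            ConjClasses.mk (⟨c, hc⟩ : N) := fun z hz => ConjClasses.mk_eq_mk_iff_isConj.mpr
        ((Subgroup.inclusion (inf_le_left : D ≤ N)).map_isConj
          (ConjClasses.mk_eq_mk_iff_isConj.mp hz))
      have h2 := hPU a ha _ (⟨y', hy'N⟩ : N) hy (hconjD y hyc)
      obtain ⟨v, hv⟩ := isConj_iff.mp (ConjClasses.mk_eq_mk_iff_isConj.mp h2)
      have hv' : (v : G) * y' * (v : G)⁻¹ = c := congrArg Subtype.val hv
      have hy'x : Commute (y' : G) x := Subgroup.mem_centralizer_singleton_iff.mp y'.2.2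
      obtain ⟨w, hw, hwx, hwc⟩ := Cfsg.Lib.Char.exists_commute_conj hxnorm hxcop hy'x hcx v.2 hv'
      exact ConjClasses.mk_eq_mk_iff_isConj.mpr (isConj_iff.mpr
        ⟨⟨w, hw, Subgroup.mem_centralizer_singleton_iff.mpr hwx.eq⟩, Subtype.ext hwc⟩)
    obtain ⟨c', hc', hcc⟩ := Cfsg.Lib.Char.exists_fixed_in_class hPp hPD
      (fun h => hpN (h.trans (Subgroup.card_dvd_of_le inf_le_left))) hKfix
    obtain ⟨w, hw⟩ := isConj_iff.mp (ConjClasses.mk_eq_mk_iff_isConj.mp hcc.symm)
    have hw' : (w : G) * c * (w : G)⁻¹ = c' := congrArg Subtype.val hw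
    have hwx : (w : G) * x = x * w := Subgroup.mem_centralizer_singleton_iff.mp w.2.2
    have hc1 : IsConj (n * x) ((c' : G) * x) := by
      rw [← hconj]
      refine (isConj_iff.mpr ⟨u⁻¹, by group⟩ : IsConj _ (c * x)).trans (isConj_iff.mpr ⟨w, ?_⟩)
      calc (w : G) * (c * x) * (w : G)⁻¹ = (w : G) * c * (w : G)⁻¹ * ((w : G) * x) * (w : G)⁻¹ := by
            group
        _ = c' * x := by rw [hw', hwx]; group
    rw [hcard_conj hc1] at hg
    refine hfixed_small _ (fun a ha => Subgroup.mem_centralizer_singleton_iff.mpr ?_) hg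
    have h1 := Subgroup.mem_centralizer_iff.mp hc' a ha
    calc a * ((c' : G) * x) = a * c' * x := by group
      _ = c' * (a * x) := by rw [h1]; group
      _ = c' * x * a := by rw [hPc a ha x hx]; group
  -- the regular orbit
  let X : Set (ConjClasses N) := (Fx P)ᶜ
  have hXcard : X.ncard = Nat.card P := by
    have h1 : Iv.ncard + Ivᶜ.ncard = Nat.card (IrrCharacter N) := Set.ncard_add_ncard_compl Iv
    have h2 : (Fx P).ncard + X.ncard = Nat.card (ConjClasses N) := Set.ncard_add_ncard_compl _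
    have h3 : Ivᶜ.ncard = Nat.card P := by
      rw [← Set.ncard_image_of_injective _ Subtype.val_injective,
        show (Subtype.val '' Ivᶜ : Set (N → ℂ)) =
          ↑(Cfsg.Lib.Char.twistOrbit N (θ : N → ℂ)) from ?_, Set.ncard_coe_finset,
        Cfsg.Lib.Char.card_twistOrbit, hθN, hk, hPcard]
      ext φ
      rw [Finset.mem_coe]
      constructor
      · rintro ⟨χ, hχ, rfl⟩
        by_contra hnot
        have h0 := Cfsg.Lib.Char.classInner_indFun_of_notMem N θ.2 χ.2 hnot
        rw [(hmov χ hχ).2, hθind, Cfsg.Lib.Char.classInner_irr_self χ₀.2] at h0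
        exact one_ne_zero h0
      · intro hφ
        refine ⟨⟨φ, Cfsg.Lib.Char.isIrrCharacter_of_mem_twistOrbit N θ.2 hφ⟩, fun htop => ?_, rfl⟩
        obtain ⟨g, rfl⟩ := (Cfsg.Lib.Char.mem_twistOrbit N).mp hφ
        refine hθ (eq_top_iff.mpr fun h _ => ?_)
        have h4 : g⁻¹ * h * g ∈
            Cfsg.Lib.Char.inertia N (Cfsg.Lib.Char.conjTwist N (θ : N → ℂ) g) :=
          (show Cfsg.Lib.Char.inertia N (Cfsg.Lib.Char.conjTwist N (θ : N → ℂ) g) = ⊤ from htop) ▸
            Subgroup.mem_top _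
        rw [Cfsg.Lib.Char.mem_inertia, Cfsg.Lib.Char.conjTwist_conjTwist] at h4
        rw [Cfsg.Lib.Char.mem_inertia]
        have h5 := congrArg (fun f => Cfsg.Lib.Char.conjTwist N f g⁻¹) h4
        simp only [Cfsg.Lib.Char.conjTwist_conjTwist] at h5
        rw [show g * (g⁻¹ * h * g) * g⁻¹ = h by group, mul_inv_cancel,
          Cfsg.Lib.Char.conjTwist_one] at h5
        exact h5
    rw [Cfsg.Lib.Char.card_irr_eq_card_conjClasses] at h1
    rw [← hcount P le_rfl hbotP, ← h2] at h1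
    omega
  have hcent : ∀ n : N, ConjClasses.mk n ∈ X →
      Subgroup.centralizer ({(n : G)} : Set G) ≤ N := by
    intro n hn g hg
    obtain ⟨y, hy, a, ha, rfl⟩ := hdec g
    by_cases ha1 : a = 1
    · rw [ha1, mul_one]; exact hy
    exfalso
    apply hn
    refine (isFixCl_iff P N n).mpr (hfix a n ha ha1 ?_)
    have := Subgroup.mul_mem_sup (inv_mem hy) hg
    rwa [inv_mul_cancel_left] at this
  have hsame : ∀ n m : N, ConjClasses.mk n ∈ X → ConjClasses.mk m ∈ X →
      IsConj (n : G) (m : G) := by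
    intro n m hn hm
    let f : P → ConjClasses N := fun a =>
      ConjClasses.mk ⟨(a : G) * n * (a : G)⁻¹, hNn.conj_mem n n.2 a⟩
    have hfX : ∀ a, f a ∈ X := by
      intro a h
      refine hn ((isFixCl_iff P N n).mpr fun x hx => ?_)
      obtain ⟨y, hy, c, hc, hyc⟩ := Subgroup.mem_sup_of_normal_left.mp
        ((isFixCl_iff P N _).mp h hx)
      rw [Subgroup.mem_centralizer_singleton_iff] at hc
      have hc' : (a : G)⁻¹ * c * a ∈ Subgroup.centralizer ({(n : G)} : Set G) := by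
        rw [Subgroup.mem_centralizer_singleton_iff]
        calc (a : G)⁻¹ * c * a * n = (a : G)⁻¹ * (c * ((a : G) * n * (a : G)⁻¹)) * a := by group
          _ = n * ((a : G)⁻¹ * c * a) := by rw [hc]; group
      have hy' : (a : G)⁻¹ * y * a ∈ N := by simpa using hNn.conj_mem y hy (a : G)⁻¹
      have := Subgroup.mul_mem_sup hy' hc'
      rwa [show (a : G)⁻¹ * y * a * ((a : G)⁻¹ * c * a) = (a : G)⁻¹ * (y * c) * a by group,
        hyc, mul_assoc, hPc x hx a a.2, inv_mul_cancel_left] at this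
    have hinj : Function.Injective f := by
      intro a b hab'
      obtain ⟨z, hz⟩ := isConj_iff.mp (ConjClasses.mk_eq_mk_iff_isConj.mp hab')
      have hz' : (z : G) * ((a : G) * n * (a : G)⁻¹) * (z : G)⁻¹ = (b : G) * n * (b : G)⁻¹ :=
        congrArg Subtype.val hz
      have hmem : (b : G)⁻¹ * z * a ∈ N := hcent n hn (by
        rw [Subgroup.mem_centralizer_singleton_iff]
        calc (b : G)⁻¹ * z * a * n
            = (b : G)⁻¹ * ((z : G) * ((a : G) * n * (a : G)⁻¹) * (z : G)⁻¹) * z * a := by group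
          _ = n * ((b : G)⁻¹ * z * a) := by rw [hz']; group)
      have h2 : (b : G)⁻¹ * a ∈ N := by
        have h3 : (a : G)⁻¹ * (z : G)⁻¹ * a ∈ N := by
          simpa using hNn.conj_mem _ (inv_mem z.2) (a : G)⁻¹
        have := mul_mem hmem h3
        rwa [show (b : G)⁻¹ * z * a * ((a : G)⁻¹ * (z : G)⁻¹ * a) = (b : G)⁻¹ * a by group] at this
      exact (Subtype.ext (inv_mul_eq_one.mp (hinf _ h2 (mul_mem (inv_mem b.2) a.2)))).symm
    have hrange : Set.range f = X := Set.eq_of_subset_of_ncard_le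
      (Set.range_subset_iff.mpr hfX) (by rw [Set.ncard_range_of_injective hinj, hXcard])
      (Set.toFinite _)
    rw [← hrange] at hm
    obtain ⟨a, ha⟩ := hm
    exact (isConj_iff.mpr ⟨(a : G), rfl⟩).trans
      (N.subtype.map_isConj (ConjClasses.mk_eq_mk_iff_isConj.mp ha))
  refine Nat.card_eq_one_iff_unique.mpr ⟨⟨?_⟩, ?_⟩
  · rintro ⟨C, hC⟩ ⟨C', hC'⟩
    obtain ⟨g, rfl⟩ := C.exists_rep
    obtain ⟨g', rfl⟩ := C'.exists_rep
    rw [card_carrier] at hC hC'
    obtain ⟨n, rfl, hn⟩ := hsize g hC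
    obtain ⟨m, rfl, hm⟩ := hsize g' hC'
    exact Subtype.ext (ConjClasses.mk_eq_mk_iff_isConj.mpr (hsame n m
      (fun h => hn ((isFixCl_iff P N n).mp h)) fun h => hm ((isFixCl_iff P N m).mp h)))
  · obtain ⟨K, hK⟩ := Set.nonempty_of_ncard_ne_zero (s := X) (by omega)
    obtain ⟨n, rfl⟩ := K.exists_rep
    refine ⟨⟨ConjClasses.mk (n : G), ?_⟩⟩
    rw [card_carrier]
    refine dvd_trans ?_ (Subgroup.index_dvd_of_le (hcent n hK))
    rw [hk]
    refine dvd_pow_self p fun h0 => ?_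
    rw [h0, pow_zero] at hPcard
    omega

/-- Let p be a prime and G a finite group that is not nilpotent and has a normal p-complement (a normal subgroup of order prime to p and index a power of p). If G has exactly one irreducible complex character of degree divisible by p, then G has exactly one conjugacy class whose size is divisible by p. -/
theorem result {G : Type*} [Group G] [Finite G] (p : ℕ) [Fact p.Prime] (hnil : ¬ Group.IsNilpotent G) (N : Subgroup G) [N.Normal] (hN : (Nat.card N).Coprime p) (hidx : ∃ k : ℕ, N.index = p ^ k) (hone : Nat.card {χ : Cfsg.IrrCharacter G // p ∣ Cfsg.charDegree (χ : G → ℂ)} = 1) : Nat.card {C : ConjClasses G // p ∣ Nat.card C.carrier} = 1 := by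
  haveI := Fintype.ofFinite G
  exact main p hnil N hN hidx hone

end Cfsg.Agent.S4763
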