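import Cfsg.Statements.S4774
import Cfsg.Agent.Lib.TwoDim.DegreeSets

set_option autoImplicit false
open Cfsg

namespace Cfsg.Agent.S4774

/-- Let F be a finite field of odd characteristic t with q > 5 elements and let S be isomorphic to PSL(2,F) or to SL(2,F). Then the vertices of the character degree graph of S are the primes dividing q(q²−1); the prime t is adjacent to no vertex; two distinct primes dividing q² − 1 are adjacent exactly when one of them is 2, or both divide q + 1, or both divide q − 1. -/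
theorem result (F : Type*) [Field F] [Fintype F] (t : ℕ) [Fact t.Prime] [CharP F t] (ht : t ≠ 2) (q : ℕ) (hq : Fintype.card F = q) (h5 : 5 < q) {S : Type*} [Group S] [Finite S] (hS : Nonempty (S ≃* Matrix.ProjectiveSpecialLinearGroup (Fin 2) F) ∨ Nonempty (S ≃* Matrix.SpecialLinearGroup (Fin 2) F)) : Cfsg.degreePrimes S = {r : ℕ | r.Prime ∧ r ∣ q * (q ^ 2 - 1)} ∧ ∀ r s : ℕ, (Cfsg.degreeGraph S).Adj r s ↔ (r ≠ s ∧ r.Prime ∧ s.Prime ∧ r ∣ q ^ 2 - 1 ∧ s ∣ q ^ 2 - 1 ∧ (r = 2 ∨ s = 2 ∨ (r ∣ q + 1 ∧ s ∣ q + 1) ∨ (r ∣ q - 1 ∧ s ∣ q - 1))) := by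
  classical
  subst hq
  obtain ⟨n, hn, hqn⟩ := FiniteField.card F t
  have hodd : Odd (Fintype.card F) := by
    rw [hqn]; exact (hn.odd_of_ne_two ht).pow
  obtain ⟨h1, h2⟩ := Cfsg.Lib.TwoDim.degree_graph_sl (F := F) (by omega) (fun _ => h5) hn hqn hS
  refine ⟨h1, fun r s => (h2 r s).trans (and_congr_right fun hne => and_congr_right fun hr =>
    and_congr_right fun hs => ?_)⟩
  have hfac : Fintype.card F ^ 2 - 1 = (Fintype.card F + 1) * (Fintype.card F - 1) := by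
    simpa using Nat.sq_sub_sq (Fintype.card F) 1
  obtain ⟨m, hm⟩ := hodd
  have h2p : 2 ∣ Fintype.card F + 1 := ⟨m + 1, by omega⟩
  have h2m : 2 ∣ Fintype.card F - 1 := ⟨m, by omega⟩
  rw [hfac]
  constructor
  · rintro (⟨a, b⟩ | ⟨a, b⟩)
    · exact ⟨a.mul_right _, b.mul_right _, Or.inr (Or.inr (Or.inl ⟨a, b⟩))⟩
    · exact ⟨a.mul_left _, b.mul_left _, Or.inr (Or.inr (Or.inr ⟨a, b⟩))⟩
  · rintro ⟨a, b, rfl | rfl | h⟩
    · rcases (Nat.Prime.dvd_mul hs).1 b with h | h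
      exacts [Or.inl ⟨h2p, h⟩, Or.inr ⟨h2m, h⟩]
    · rcases (Nat.Prime.dvd_mul hr).1 a with h | h
      exacts [Or.inl ⟨h, h2p⟩, Or.inr ⟨h, h2m⟩]
    · exact h

end Cfsg.Agent.S4774
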