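import Cfsg.Statements.S4775
import Cfsg.Agent.Lib.Spec.SuzukiChar.Degrees
import Cfsg.Agent.Lib.Linear.Suzuki.LieForm
import Cfsg.Agent.Lib.Char.Clifford

set_option autoImplicit false
open Cfsg

namespace Cfsg.Agent.S4775

open Cfsg.Lib.Char Cfsg.Lib.Linear.Suz

theorem charDegrees_congr {A B : Type*} [Group A] [Group B] (e : A ≃* B) :
    charDegrees A = charDegrees B := by
  ext d
  constructor
  · rintro ⟨χ, rfl⟩
    refine ⟨⟨_, isIrrCharacter_comp_equiv e.symm χ.2⟩, ?_⟩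
    simp [charDegree]
  · rintro ⟨χ, rfl⟩
    refine ⟨⟨_, isIrrCharacter_comp_equiv e χ.2⟩, ?_⟩
    simp [charDegree]

/-- The graph of the set of degrees. -/
theorem graph_of_degrees {G : Type*} [Group G] {q t t' M : ℕ} {k : ℕ} (hq : q = 2 ^ k) (hk : k ≠ 0)
    (hM : M = 2 ∨ 2 ∣ M ∧ ∀ r : ℕ, r.Prime → r ∣ M → r = 2) (htt : t * t' = q ^ 2 + 1)
    (hdeg : ∀ d ∈ charDegrees G, d ∈ [1, q ^ 2, q ^ 2 + 1, (q - 1) * t, (q - 1) * t', M * (q - 1)])
    (hex : ∀ d ∈ [q ^ 2, q ^ 2 + 1, (q - 1) * t, (q - 1) * t', M * (q - 1)], d ∈ charDegrees G) :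
    degreePrimes G = {r : ℕ | r.Prime ∧ (r = 2 ∨ r ∣ (q - 1) * (q ^ 2 + 1))} ∧
      ∀ r s : ℕ, (degreeGraph G).Adj r s ↔ (r ≠ s ∧ r.Prime ∧ s.Prime ∧
        ((r ∣ (q - 1) * (q ^ 2 + 1) ∧ s ∣ (q - 1) * (q ^ 2 + 1)) ∨ (r = 2 ∧ s ∣ q - 1) ∨
          (s = 2 ∧ r ∣ q - 1))) := by
  obtain ⟨h2M, hM2⟩ : 2 ∣ M ∧ ∀ r : ℕ, r.Prime → r ∣ M → r = 2 := by
    rcases hM with rfl | h
    · exact ⟨dvd_rfl, fun r hr h => (Nat.prime_dvd_prime_iff_eq hr Nat.prime_two).mp h⟩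
    · exact h
  have hX1 : (q - 1) * t ∣ (q - 1) * (q ^ 2 + 1) := mul_dvd_mul_left _ ⟨t', htt.symm⟩
  have hX2 : (q - 1) * t' ∣ (q - 1) * (q ^ 2 + 1) :=
    mul_dvd_mul_left _ ⟨t, by rw [← htt, mul_comm]⟩
  have hone : q ^ 2 + 1 ∣ (q - 1) * (q ^ 2 + 1) := dvd_mul_left _ _
  have hpow : ∀ {r : ℕ}, r.Prime → r ∣ q ^ 2 → r = 2 := fun hr h =>
    (Nat.prime_dvd_prime_iff_eq hr Nat.prime_two).mp
      (hr.dvd_of_dvd_pow (hq ▸ hr.dvd_of_dvd_pow h))
  have hMdvd : ∀ {r : ℕ}, r.Prime → r ∣ M * (q - 1) → r = 2 ∨ r ∣ q - 1 := fun hr h =>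
    (hr.dvd_mul.mp h).imp (hM2 _ hr) id
  have h2q : 2 ∣ q ^ 2 := dvd_pow (hq ▸ dvd_pow_self 2 hk) two_ne_zero
  refine ⟨?_, fun r s => ?_⟩
  · ext r
    constructor
    · rintro ⟨hr, d, hd, hrd⟩
      refine ⟨hr, ?_⟩
      have hd' := hdeg d hd
      simp only [List.mem_cons, List.not_mem_nil, or_false] at hd'
      rcases hd' with rfl | rfl | rfl | rfl | rfl | rfl
      · exact absurd (Nat.dvd_one.mp hrd) hr.ne_one
      · exact Or.inl (hpow hr hrd)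
      · exact Or.inr (hrd.trans hone)
      · exact Or.inr (hrd.trans hX1)
      · exact Or.inr (hrd.trans hX2)
      · exact (hMdvd hr hrd).imp id fun h => dvd_mul_of_dvd_left h _
    · rintro ⟨hr, rfl | h⟩
      · exact ⟨hr, _, hex (q ^ 2) (by simp), h2q⟩
      · refine ⟨hr, ?_⟩
        rcases hr.dvd_mul.mp h with h | h
        · exact ⟨_, hex ((q - 1) * t) (by simp), dvd_mul_of_dvd_left h _⟩
        · exact ⟨_, hex (q ^ 2 + 1) (by simp), h⟩
  · constructor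
    · rintro ⟨hne, hr, hs, d, hd, hdvd⟩
      refine ⟨hne, hr, hs, ?_⟩
      have hrd : r ∣ d := (dvd_mul_right r s).trans hdvd
      have hsd : s ∣ d := (dvd_mul_left s r).trans hdvd
      have hd' := hdeg d hd
      simp only [List.mem_cons, List.not_mem_nil, or_false] at hd'
      rcases hd' with rfl | rfl | rfl | rfl | rfl | rfl
      · exact absurd (Nat.dvd_one.mp hrd) hr.ne_one
      · exact absurd ((hpow hr hrd).trans (hpow hs hsd).symm) hne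
      · exact Or.inl ⟨hrd.trans hone, hsd.trans hone⟩
      · exact Or.inl ⟨hrd.trans hX1, hsd.trans hX1⟩
      · exact Or.inl ⟨hrd.trans hX2, hsd.trans hX2⟩
      · rcases hMdvd hr hrd with a | a <;> rcases hMdvd hs hsd with b | b
        · exact absurd (a.trans b.symm) hne
        · exact Or.inr (Or.inl ⟨a, b⟩)
        · exact Or.inr (Or.inr ⟨b, a⟩)
        · exact Or.inl ⟨dvd_mul_of_dvd_left a _, dvd_mul_of_dvd_left b _⟩
    · rintro ⟨hne, hr, hs, H⟩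
      refine ⟨hne, hr, hs, ?_⟩
      have hco : Nat.Coprime r s := (Nat.coprime_primes hr hs).mpr hne
      rcases H with ⟨a, b⟩ | ⟨rfl, b⟩ | ⟨rfl, a⟩
      · rcases hr.dvd_mul.mp a with a | a <;> rcases hs.dvd_mul.mp b with b | b
        · exact ⟨_, hex ((q - 1) * t) (by simp),
            dvd_mul_of_dvd_left (hco.mul_dvd_of_dvd_of_dvd a b) _⟩
        · rw [← htt] at b
          rcases hs.dvd_mul.mp b with b | b
          · exact ⟨_, hex ((q - 1) * t) (by simp), mul_dvd_mul a b⟩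
          · exact ⟨_, hex ((q - 1) * t') (by simp), mul_dvd_mul a b⟩
        · rw [← htt] at a
          rcases hr.dvd_mul.mp a with a | a
          · exact ⟨_, hex ((q - 1) * t) (by simp), by rw [mul_comm r]; exact mul_dvd_mul b a⟩
          · exact ⟨_, hex ((q - 1) * t') (by simp), by rw [mul_comm r]; exact mul_dvd_mul b a⟩
        · exact ⟨_, hex (q ^ 2 + 1) (by simp), hco.mul_dvd_of_dvd_of_dvd a b⟩
      · exact ⟨_, hex (M * (q - 1)) (by simp), mul_dvd_mul h2M b⟩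
      · exact ⟨_, hex (M * (q - 1)) (by simp), by rw [mul_comm r]; exact mul_dvd_mul h2M a⟩

/-- Let F be a finite field with q = 2^(2m+1) ≥ 8 elements and let S be isomorphic to the Suzuki group over F. Then the vertices of the character degree graph of S are 2 and the primes dividing (q − 1)(q² + 1); the primes dividing (q − 1)(q² + 1) are pairwise adjacent, and 2 is adjacent exactly to the primes dividing q − 1. -/
theorem result (F : Type*) [Field F] [Fintype F] (m : ℕ) (hm : 1 ≤ m) (q : ℕ) (hq : Fintype.card F = q) (hqm : q = 2 ^ (2 * m + 1)) {S : Type*} [Group S] [Finite S] (hS : Nonempty (S ≃* ↥(Cfsg.Lie.Sz F (2 ^ (m + 1))))) : Cfsg.degreePrimes S = {r : ℕ | r.Prime ∧ (r = 2 ∨ r ∣ (q - 1) * (q ^ 2 + 1))} ∧ ∀ r s : ℕ, (Cfsg.degreeGraph S).Adj r s ↔ (r ≠ s ∧ r.Prime ∧ s.Prime ∧ ((r ∣ (q - 1) * (q ^ 2 + 1) ∧ s ∣ (q - 1) * (q ^ 2 + 1)) ∨ (r = 2 ∧ s ∣ q - 1) ∨ (s = 2 ∧ r ∣ q - 1)))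 := by
  classical
  obtain ⟨e⟩ := hS
  have hP : Params F m := ⟨hm, hq.trans hqm⟩
  obtain ⟨e', -⟩ := exists_lie_equiv hP
  haveI : Finite ↥(Cfsg.Sz F m) := Finite.of_equiv _ (e.trans e'.symm).toEquiv
  haveI := Fintype.ofFinite ↥(Cfsg.Sz F m)
  have hdegS := charDegrees_congr (e.trans e'.symm)
  obtain ⟨t, t', htt, hsub, hex⟩ := Cfsg.Lib.SuzChar.degrees hP
  rw [hq] at htt hsub hex
  have hfl : ∀ (χ : IrrCharacter ↥(Cfsg.Sz F m)) (d : ℕ),
      (χ : ↥(Cfsg.Sz F m) → ℂ) 1 = (d : ℂ) → charDegree (χ : ↥(Cfsg.Sz F m) → ℂ) = d :=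
    fun χ d hd => by simp [charDegree, hd]
  refine graph_of_degrees (k := 2 * m + 1) (M := 2 ^ m) (t := t) (t' := t') hqm (by omega)
    (Or.inr ⟨dvd_pow_self 2 (by omega), fun r hr h =>
      (Nat.prime_dvd_prime_iff_eq hr Nat.prime_two).mp (hr.dvd_of_dvd_pow h)⟩) htt ?_ ?_
  · intro d hd
    rw [hdegS] at hd
    obtain ⟨χ, rfl⟩ := hd
    obtain ⟨d', h1, h2⟩ := hsub χ
    rw [hfl χ d' h1]
    exact h2
  · intro d hd
    rw [hdegS]
    obtain ⟨χ, hχ⟩ := hex d hd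
    exact ⟨χ, hfl χ d hχ⟩

end Cfsg.Agent.S4775
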