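import Cfsg.Statements.S4776
import Cfsg.Agent.Lib.Char.RelDegree
import Mathlib.Combinatorics.SimpleGraph.Connectivity.Connected
-- import your own Cfsg.Agent.* helpers here

set_option autoImplicit false
open Cfsg

namespace Cfsg.Agent.S4776

open Cfsg.Lib.Char Cfsg.Lib.Char.RelDeg

universe u

variable {G : Type u} [Group G] [Fintype G] (N : Subgroup G) [hN : N.Normal]

/-- Reachability in the relative degree graph. -/
def Reach (a b : ℕ) : Prop :=
  ∃ (ha : a ∈ relCharDegrees N) (hb : b ∈ relCharDegrees N),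
    (commonDivisorGraph.induce (relCharDegrees N)).Reachable ⟨a, ha⟩ ⟨b, hb⟩

theorem Reach.trans {N : Subgroup G} {a b c : ℕ} (h : Reach N a b) (h' : Reach N b c) :
    Reach N a c :=
  ⟨h.1, h'.2.1, h.2.2.trans h'.2.2⟩

theorem Reach.symm {N : Subgroup G} {a b : ℕ} (h : Reach N a b) : Reach N b a :=
  ⟨h.2.1, h.1, h.2.2.symm⟩

theorem reach_of_gcd {a b : ℕ} (ha : a ∈ relCharDegrees N) (hb : b ∈ relCharDegrees N)
    (h : 1 < Nat.gcd a b) : Reach N a b := by
  refine ⟨ha, hb, ?_⟩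
  by_cases hab : a = b
  · subst hab
    exact SimpleGraph.Reachable.refl _
  · exact SimpleGraph.Adj.reachable (⟨hab, h⟩ : commonDivisorGraph.Adj a b)

theorem reach_of_dvd {a b r : ℕ} (ha : a ∈ relCharDegrees N) (hb : b ∈ relCharDegrees N)
    (hr : 1 < r) (h1 : r ∣ a) (h2 : r ∣ b) : Reach N a b := by
  refine reach_of_gcd N ha hb ?_
  have hpos : 0 < a := by
    obtain ⟨χ, -, rfl⟩ := ha
    exact Cfsg.Lib.Block.charDegree_pos χ
  exact lt_of_lt_of_le hr (Nat.le_of_dvd (Nat.gcd_pos_of_pos_left _ hpos) (Nat.dvd_gcd h1 h2))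

variable [Fintype N]

theorem exists_hub (hNG : N ≤ commutator G) {p : ℕ} (hp : p.Prime)
    (hdvd : p ∣ ⁅N, N⁆.relIndex N) :
    ∃ (L : N →* ℂˣ) (d : ℕ), L ≠ 1 ∧ L ^ p = 1 ∧ d ∈ relCharDegrees N ∧ tag N p L ∣ d ∧
      ∀ a ∈ relCharDegrees N, ¬ p ∣ a → Reach N a d := by
  obtain ⟨L, hL1, hLp, hpt⟩ := exists_anchor N hp hdvd
  obtain ⟨η, hη⟩ := exists_over N (isIrr_lin N L)
  have hd : charDegree (η : G → ℂ) ∈ relCharDegrees N :=
    mem_rel_of_over N (isIrr_lin N L) (fun h => hL1 (linearChar_injective (h.trans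
      (funext fun x => by simp)))) hη
  have ht : tag N p L ∣ charDegree (η : G → ℂ) :=
    tag_dvd N hNG hp hL1 hLp (Nat.coprime_one_left p) (B := 1) (one_hom_pow 1)
      (by rwa [lin_mul_one])
  refine ⟨L, _, hL1, hLp, hd, ht, fun a ha hpa => ?_⟩
  obtain ⟨c, hc, h1, h2⟩ := exists_share N hNG hp hL1 hLp hpt ha hpa
  exact (reach_of_gcd N ha hc h1).trans
    (reach_of_dvd N hc hd h2 (Nat.gcd_dvd_left _ _) ((Nat.gcd_dvd_right _ _).trans ht))

theorem reach_of_not_dvd (hNG : N ≤ commutator G) {p : ℕ} (hp : p.Prime)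
    (hdvd : p ∣ ⁅N, N⁆.relIndex N) {a b : ℕ} (ha : a ∈ relCharDegrees N)
    (hb : b ∈ relCharDegrees N) (hpa : ¬ p ∣ a) (hpb : ¬ p ∣ b) : Reach N a b := by
  obtain ⟨_, d, -, -, -, -, h⟩ := exists_hub N hNG hp hdvd
  exact (h a ha hpa).trans (h b hb hpb).symm

theorem reach_of_dvd_dvd (hNG : N ≤ commutator G) {p r : ℕ} (hp : p.Prime) (hr : r.Prime)
    (hpm : p ∣ ⁅N, N⁆.relIndex N) (hrm : r ∣ ⁅N, N⁆.relIndex N) {a b : ℕ}
    (ha : a ∈ relCharDegrees N) (hb : b ∈ relCharDegrees N) (hpa : p ∣ a) (hrb : r ∣ b) :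
    Reach N a b := by
  by_cases hra : r ∣ a
  · exact reach_of_dvd N ha hb hr.one_lt hra hrb
  by_cases hpb : p ∣ b
  · exact reach_of_dvd N ha hb hp.one_lt hpa hpb
  have hne : p ≠ r := fun h => hra (h ▸ hpa)
  have hcop : Nat.Coprime p r := (Nat.coprime_primes hp hr).2 hne
  obtain ⟨L, d, hL1, hLp, hd, ht, hP⟩ := exists_hub N hNG hp hpm
  obtain ⟨M, d', hM1, hMr, hd', ht', hR⟩ := exists_hub N hNG hr hrm
  obtain ⟨η, hη⟩ := exists_over N (isIrr_lin N (L * M))
  have hLM : lin (L * M) ≠ fun _ => 1 := by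
    intro h
    refine hL1 (eq_one_of_pow_coprime (M := N →* ℂˣ) hLp ?_ hcop)
    refine MonoidHom.ext fun x => ?_
    have h2 : L x * M x = 1 := Units.ext (congrFun h x)
    rw [MonoidHom.pow_apply, eq_inv_of_mul_eq_one_left h2, inv_pow, ← MonoidHom.pow_apply, hMr,
      MonoidHom.one_apply, inv_one]
  have hc := mem_rel_of_over N (isIrr_lin N (L * M)) hLM hη
  have h1 : tag N p L ∣ charDegree (η : G → ℂ) := tag_dvd N hNG hp hL1 hLp hcop.symm hMr hη
  have h2 : tag N r M ∣ charDegree (η : G → ℂ) := by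
    refine tag_dvd N hNG hr hM1 hMr hcop hLp ?_
    rwa [show lin (M * L) = lin (L * M) from funext fun x => by simp [lin, mul_comm]]
  exact ((hR a ha hra).trans (reach_of_dvd N hd' hc (one_lt_tag N hr M) ht' h2)).trans
    ((reach_of_dvd N hc hd (one_lt_tag N hp L) h1 ht).trans (hP b hb hpb).symm)

/-- Let N be a normal subgroup of the finite group G that is not perfect and is contained in the derived subgroup of G. Consider the common-divisor graph on the relative degree set cd(G|N) (the degrees of the irreducible complex characters of G whose kernel does not contain N; two distinct degrees adjacent when they have a common divisor greater than one). Then this graph has at most two connected components; and if a, b ∈ cd(G|N) lie in different components, then one of a, b is coprime to the index m of the derived subgroup of N in N while the other is divisible by every prime divisor of m. -/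
theorem result {G : Type*} [Group G] [Finite G] (N : Subgroup G) [N.Normal] (hN : ⁅N, N⁆ < N) (hNG : N ≤ commutator G) : Nat.card (Cfsg.commonDivisorGraph.induce (Cfsg.relCharDegrees N)).ConnectedComponent ≤ 2 ∧ ∀ (a b : ℕ) (ha : a ∈ Cfsg.relCharDegrees N) (hb : b ∈ Cfsg.relCharDegrees N), ¬ (Cfsg.commonDivisorGraph.induce (Cfsg.relCharDegrees N)).Reachable ⟨a, ha⟩ ⟨b, hb⟩ → (Nat.Coprime a (⁅N, N⁆.relIndex N) ∧ ∀ r : ℕ, r.Prime → r ∣ ⁅N, N⁆.relIndex N → r ∣ b) ∨ (Nat.Coprime b (⁅N, N⁆.relIndex N) ∧ ∀ r : ℕ, r.Prime → r ∣ ⁅N, N⁆.relIndex N → r ∣ a) := by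
  letI : Fintype G := Fintype.ofFinite G
  letI : Fintype N := Fintype.ofFinite N
  set m := ⁅N, N⁆.relIndex N with hm
  have hm1 : m ≠ 1 := fun h => hN.not_ge (Subgroup.relIndex_eq_one.1 h)
  obtain ⟨p, hp, hpm⟩ := Nat.exists_prime_and_dvd hm1
  have hboth : ∀ a b : ℕ, a ∈ relCharDegrees N → b ∈ relCharDegrees N → Nat.Coprime a m →
      Nat.Coprime b m → Reach N a b := fun a b ha hb ha' hb' =>
    reach_of_not_dvd N hNG hp hpm ha hb
      (fun h => hp.ne_one (Nat.dvd_one.1 (ha'.gcd_eq_one ▸ Nat.dvd_gcd h hpm)))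
      (fun h => hp.ne_one (Nat.dvd_one.1 (hb'.gcd_eq_one ▸ Nat.dvd_gcd h hpm)))
  have hnone : ∀ a b : ℕ, a ∈ relCharDegrees N → b ∈ relCharDegrees N → ¬ Nat.Coprime a m →
      ¬ Nat.Coprime b m → Reach N a b := fun a b ha hb ha' hb' => by
    obtain ⟨q, hq, hqa, hqm⟩ := Nat.Prime.not_coprime_iff_dvd.1 ha'
    obtain ⟨r, hr, hrb, hrm⟩ := Nat.Prime.not_coprime_iff_dvd.1 hb'
    exact reach_of_dvd_dvd N hNG hq hr hqm hrm ha hb hqa hrb
  refine ⟨?_, fun a b ha hb hab => ?_⟩
  · classical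
    have hinj : Function.Injective
        (fun c : (commonDivisorGraph.induce (relCharDegrees N)).ConnectedComponent =>
          decide (Nat.Coprime (c.out : ℕ) m)) := by
      intro c c' h
      have h' : Nat.Coprime (c.out : ℕ) m ↔ Nat.Coprime (c'.out : ℕ) m := decide_eq_decide.1 h
      have hr : Reach N (c.out : ℕ) (c'.out : ℕ) := by
        by_cases h1 : Nat.Coprime (c.out : ℕ) m
        · exact hboth _ _ c.out.2 c'.out.2 h1 (h'.1 h1)
        · exact hnone _ _ c.out.2 c'.out.2 h1 fun h2 => h1 (h'.2 h2)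
      rw [← Quot.out_eq c, ← Quot.out_eq c']
      exact SimpleGraph.ConnectedComponent.sound hr.2.2
    exact (Nat.card_le_card_of_injective _ hinj).trans (by simp)
  · have hnr : ¬ Reach N a b := fun h => hab h.2.2
    by_cases h1 : Nat.Coprime a m
    · refine Or.inl ⟨h1, fun r hr hrm => ?_⟩
      by_contra hrb
      exact hnr (reach_of_not_dvd N hNG hr hrm ha hb
        (fun h => hr.ne_one (Nat.dvd_one.1 (h1.gcd_eq_one ▸ Nat.dvd_gcd h hrm))) hrb)
    · refine Or.inr ⟨?_, fun r hr hrm => ?_⟩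
      · by_contra h2
        exact hnr (hnone a b ha hb h1 h2)
      · by_contra hra
        have h2 : Nat.Coprime b m := by
          by_contra h2
          exact hnr (hnone a b ha hb h1 h2)
        exact hnr (reach_of_not_dvd N hNG hr hrm ha hb hra
          (fun h => hr.ne_one (Nat.dvd_one.1 (h2.gcd_eq_one ▸ Nat.dvd_gcd h hrm))))

end Cfsg.Agent.S4776
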