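import Cfsg.Statements.S4779
import Cfsg.Agent.S4776
import Cfsg.Agent.Lib.Char.Ramification
import Cfsg.Agent.Lib.Char.MinimalDegrees
import Cfsg.Agent.Lib.Char.Gallagher
-- import your own Cfsg.Agent.* helpers here

set_option autoImplicit false
set_option linter.style.haveILetI false
open Cfsg

namespace Cfsg.Agent.S4779

open Cfsg.Lib.Char Cfsg.Lib.Char.RelDeg
open Cfsg.Agent.S4776 (Reach reach_of_gcd reach_of_not_dvd reach_of_dvd_dvd)

universe u

variable {G : Type u} [Group G] [Fintype G]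

theorem linHom_pow_index {A : Type u} [Group A] [Fintype A] (L : A →* ℂˣ) :
    L ^ (commutator A).index = 1 := by
  haveI : Finite (A →* ℂˣ) := Nat.finite_of_card_ne_zero (by
    rw [card_linear_eq_index]; exact Subgroup.index_ne_zero_of_finite)
  rw [← card_linear_eq_index]
  exact pow_card_eq_one' (G := A →* ℂˣ) (x := L)

/-- A character whose degree is prime to the exponent of a moving linear twist shares a prime of
its twisted orbit with the orbit of the twist. -/
theorem twist_not_coprime (H : Subgroup G) [H.Normal] [Fintype H] {α : H → ℂ}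
    (hα : IsIrrCharacter H α) {f : ℕ} (hf : α 1 = f) (B : H →* ℂˣ) {M : ℕ} (hB : B ^ M = 1)
    (hfM : Nat.Coprime f M) (hsM : Nat.Coprime (inertia H α).index M)
    (hst : Nat.Coprime (inertia H α).index (inertia H (lin B)).index)
    (ht : (inertia H (lin B)).index ≠ 1) :
    ¬ Nat.Coprime (inertia H (α * lin B)).index (inertia H (lin B)).index := by
  intro hwt
  have hBx : ∀ x : H, B x ^ M = 1 := fun x => by
    rw [← MonoidHom.pow_apply, hB, MonoidHom.one_apply]
  have hνM : ∀ g, (twHom H B g * B⁻¹) ^ M = 1 := fun g => MonoidHom.ext fun x => by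
    rw [MonoidHom.pow_apply, MonoidHom.mul_apply, MonoidHom.inv_apply, mul_pow, inv_pow,
      show twHom H B g x = B (MulAut.conjNormal g x) from rfl, hBx, hBx, inv_one, mul_one]
    rfl
  have hfree : ∀ ν : H →* ℂˣ, ν ^ M = 1 → ∀ g : G,
      conjTwist H α g * lin ν = conjTwist H α g → ν = 1 := by
    intro ν hν g h
    refine eq_one_of_pow_coprime hν (MonoidHom.ext fun x => ?_) hfM.symm
    rw [MonoidHom.pow_apply]
    exact pow_degree_eq_one_of_twist (isCharacter_conjTwist H hα.isCharacter g)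
      (by rw [conjTwist_apply_one, hf]) ν (congrFun h) x
  have hcancel : ∀ y : G, α * conjTwist H (lin B) y = α * lin B →
      conjTwist H (lin B) y = lin B := by
    intro y h
    have h1 : conjTwist H α 1 * lin (twHom H B y * B⁻¹) = conjTwist H α 1 := by
      rw [conjTwist_one]
      funext n
      have h2 := congrFun h n
      rw [Pi.mul_apply, Pi.mul_apply, conjTwist_lin] at h2
      apply mul_right_cancel₀ (B n).ne_zero
      show α n * (((twHom H B y * B⁻¹) n : ℂˣ) : ℂ) * (B n : ℂ) = _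
      rw [MonoidHom.mul_apply, MonoidHom.inv_apply, Units.val_mul, mul_assoc, mul_assoc,
        Units.inv_mul, mul_one]
      exact h2
    rw [conjTwist_lin, hom_eq_of_mul_inv (hfree _ (hνM y) 1 h1)]
  obtain ⟨g, hg⟩ : ∃ g, g ∉ inertia H (lin B) := by
    by_contra hcon
    push Not at hcon
    exact ht (by rw [Subgroup.index_eq_one]; exact eq_top_iff.2 fun g _ => hcon g)
  set ν₀ := twHom H B g * B⁻¹ with hν₀
  have hS : ∀ (k : ℕ) (x : G), conjTwist H α x * lin (ν₀ ^ k) ∈ twistOrbit H α := by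
    intro k
    induction k with
    | zero =>
      intro x
      refine (mem_twistOrbit H).2 ⟨x, ?_⟩
      funext n
      simp [lin]
    | succ k ih =>
      intro x
      obtain ⟨y, hy⟩ := (mem_twistOrbit H).1 (ih x)
      have h := orbit_invariant_of_coprime H α B hst hcancel hwt y g
      rw [← hν₀, hy] at h
      have e : conjTwist H α x * lin (ν₀ ^ k) * lin ν₀ = conjTwist H α x * lin (ν₀ ^ (k + 1)) := by
        funext n
        simp only [lin, Pi.mul_apply, MonoidHom.pow_apply, pow_succ, Units.val_mul,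
          Units.val_pow_eq_pow_val]
        ring
      rwa [e] at h
  have hν₀M : ν₀ ^ M = 1 := hνM g
  have hne : orderOf ν₀ ≠ 1 := fun h => hg ((mem_inertia_lin H).2
    (hom_eq_of_mul_inv (orderOf_eq_one_iff.1 h)))
  obtain ⟨q, hq, hqn⟩ := Nat.exists_prime_and_dvd hne
  have hqM : q ∣ M := hqn.trans (orderOf_dvd_of_pow_eq_one (G := H →* ℂˣ) hν₀M)
  haveI : Fact q.Prime := ⟨hq⟩
  obtain ⟨k, hk⟩ := hqn
  have hνq : (ν₀ ^ k) ^ q = 1 := MonoidHom.ext fun n => by
    rw [MonoidHom.pow_apply, MonoidHom.pow_apply, ← pow_mul, mul_comm, ← hk,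
      ← MonoidHom.pow_apply, pow_orderOf_eq_one (G := H →* ℂˣ) ν₀]
  have hν1 : ν₀ ^ k ≠ 1 := by
    intro h
    have h1 := orderOf_dvd_of_pow_eq_one (G := H →* ℂˣ) h
    have hk0 : 0 < k := by
      refine Nat.pos_of_ne_zero fun h0 => Subgroup.index_ne_zero_of_finite (H := commutator H) ?_
      have h2 := orderOf_dvd_of_pow_eq_one (G := H →* ℂˣ) (linHom_pow_index ν₀)
      rw [hk, h0, mul_zero] at h2
      exact Nat.eq_zero_of_zero_dvd h2
    have h2 := Nat.le_of_dvd hk0 h1
    rw [hk] at h2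
    have h3 : k < q * k := lt_mul_of_one_lt_left hk0 hq.one_lt
    omega
  have hd : q ∣ (inertia H α).index := by
    rw [← card_twistOrbit]
    refine dvd_card_of_free H _ _ hνq (fun φ hφ => ?_) fun φ hφ h => ?_
    · obtain ⟨x, rfl⟩ := (mem_twistOrbit H).1 hφ
      exact hS k x
    · obtain ⟨x, rfl⟩ := (mem_twistOrbit H).1 hφ
      refine hν1 (hfree _ ?_ x h)
      refine MonoidHom.ext fun n => ?_
      rw [MonoidHom.pow_apply, MonoidHom.pow_apply, ← pow_mul, mul_comm, pow_mul,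
        ← MonoidHom.pow_apply, hν₀M, MonoidHom.one_apply, one_pow]
  exact hq.ne_one (Nat.dvd_one.1 (hsM.gcd_eq_one ▸ Nat.dvd_gcd hd hqM))

variable (N : Subgroup G) [hN : N.Normal] [Fintype N]

/-- The derived subgroup inside, as a subgroup of the ambient one. -/
theorem subgroupOf_comm : ⁅N, N⁆.subgroupOf N = commutator N := by
  rw [Subgroup.subgroupOf, ← Subgroup.map_subtype_commutator,
    Subgroup.comap_map_eq_self_of_injective N.subtype_injective]

theorem comm_le : ⁅N, N⁆ ≤ N :=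
  Subgroup.commutator_le.2 fun x hx y hy => by
    rw [commutatorElement_def]
    exact N.mul_mem (N.mul_mem (N.mul_mem hx hy) (N.inv_mem hx)) (N.inv_mem hy)

/-- A degree prime to the index of the derived subgroup restricts irreducibly. -/
theorem res_irr_comm {A : Type u} [Group A] [Fintype A] (L : Subgroup A) [L.Normal] [Fintype L]
    {θ : A → ℂ} (hθ : IsIrrCharacter A θ) {f : ℕ} (hf : θ 1 = f)
    (hcop : Nat.Coprime f L.index) : IsIrrCharacter L (fun x : L => θ x) := by
  obtain ⟨φ, hφ⟩ := exists_irr_constituent_res L hθ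
  obtain ⟨h1, h2⟩ := degree_ratio_dvd_index L hθ φ.2 hφ hf φ.2.apply_one_eq_charDegree
  obtain ⟨j, hj⟩ := h1
  rw [hj, Nat.mul_div_cancel_left _ φ.2.charDegree_pos] at h2
  have hj1 : j = 1 := Nat.dvd_one.1 (hcop.gcd_eq_one ▸ Nat.dvd_gcd (hj ▸ dvd_mul_left j _) h2)
  subst hj1
  rw [res_eq_of_degree L hθ φ.2 hφ (by rw [hf, φ.2.apply_one_eq_charDegree, hj, mul_one])]
  exact φ.2

/-- The restriction to the derived subgroup of a constituent of degree prime to its index is a
constituent of the restriction. -/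
theorem res_comm [Fintype ↥⁅N, N⁆] {χ : IrrCharacter G} {θ : N → ℂ} (hθ : IsIrrCharacter N θ)
    {f : ℕ} (hf : θ 1 = f) (hc : classInner (fun x : N => (χ : G → ℂ) x) θ ≠ 0)
    (hcop : Nat.Coprime f (⁅N, N⁆.relIndex N)) :
    IsIrrCharacter ↥⁅N, N⁆ (fun x => θ (Subgroup.inclusion (comm_le N) x)) ∧
      classInner (fun x : ↥⁅N, N⁆ => (χ : G → ℂ) x)
        (fun x => θ (Subgroup.inclusion (comm_le N) x)) ≠ 0 := by
  classical
  have hle := comm_le N
  haveI : Fintype (⁅N, N⁆.subgroupOf N) := Fintype.ofFinite _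
  have h1 := res_irr_comm (⁅N, N⁆.subgroupOf N) hθ hf hcop
  have h2 := isIrrCharacter_comp_equiv (Subgroup.subgroupOfEquivOfLe hle).symm h1
  have h3 : (fun x : ↥⁅N, N⁆ => θ (((Subgroup.subgroupOfEquivOfLe hle).symm x :
      ⁅N, N⁆.subgroupOf N) : N)) = fun x => θ (Subgroup.inclusion hle x) := by
    funext x
    exact congrArg θ (Subtype.ext rfl)
  rw [h3] at h2
  refine ⟨h2, ?_⟩
  obtain ⟨e, he, -, hval⟩ := over_data N hθ hf hc
  set ψ₀ : ↥⁅N, N⁆ → ℂ := fun x => θ (Subgroup.inclusion hle x) with hψ₀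
  have hsum : (fun x : ↥⁅N, N⁆ => (χ : G → ℂ) x) =
      ∑ ψ ∈ twistOrbit N θ, (e : ℂ) • fun x => ψ (Subgroup.inclusion hle x) := by
    funext x
    have h := hval (Subgroup.inclusion hle x)
    simp only [Subgroup.coe_inclusion] at h
    rw [h, Finset.sum_apply, Finset.mul_sum]
    rfl
  choose n hn using fun ψ : {ψ // ψ ∈ twistOrbit N θ} =>
    ((isIrrCharacter_of_mem_twistOrbit N hθ ψ.2).isCharacter.comp
      (Subgroup.inclusion hle)).exists_nat_classInner h2.isCharacter
  rw [hsum, classInner_sum_left, ← Finset.sum_attach]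
  simp only [classInner_smul_left]
  have hn' : ∀ ψ : {ψ // ψ ∈ twistOrbit N θ},
      classInner (fun x => (ψ : N → ℂ) (Subgroup.inclusion hle x)) ψ₀ = (n ψ : ℂ) := hn
  simp only [hn', ← Nat.cast_mul, ← Nat.cast_sum, Nat.cast_ne_zero]
  intro h0
  have h4 := (Finset.sum_eq_zero_iff.1 h0) ⟨θ, self_mem_twistOrbit N θ⟩ (Finset.mem_attach _ _)
  have h5 : n ⟨θ, self_mem_twistOrbit N θ⟩ = 1 := by
    have h6 := hn' ⟨θ, self_mem_twistOrbit N θ⟩
    rw [classInner_irr_self h2] at h6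
    exact_mod_cast h6.symm
  rw [h5, mul_one] at h4
  omega

theorem lin_trivial_on_comm (A : N →* ℂˣ) (x : ↥⁅N, N⁆) :
    A (Subgroup.inclusion (comm_le N) x) = 1 :=
  MonoidHom.mem_ker.1 (Abelianization.commutator_subset_ker A
    (subgroupOf_comm N ▸ Subgroup.mem_subgroupOf.2 x.2))

/-- Degrees over a nontrivial linear character of the derived subgroup meet the index. -/
theorem not_coprime_over_comm [Fintype ↥⁅N, N⁆] {L : ↥⁅N, N⁆ →* ℂˣ} (hL : L ≠ 1)
    {η : IrrCharacter G} (hc : classInner (fun x : ↥⁅N, N⁆ => (η : G → ℂ) x) (lin L) ≠ 0) :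
    ¬ Nat.Coprime (charDegree (η : G → ℂ)) (⁅N, N⁆.relIndex N) := by
  classical
  intro hcop
  obtain ⟨θ, hθc⟩ := exists_irr_constituent_res N η.2
  obtain ⟨f, -, hf⟩ := θ.2.exists_degree
  obtain ⟨e, -, hdeg, -⟩ := over_data N θ.2 hf hθc
  have hfd : f ∣ charDegree (η : G → ℂ) := hdeg ▸ dvd_mul_left _ _
  obtain ⟨h1, h2⟩ := res_comm N θ.2 hf hθc (hcop.coprime_dvd_left hfd)
  set ψ₀ : ↥⁅N, N⁆ → ℂ := fun x => (θ : N → ℂ) (Subgroup.inclusion (comm_le N) x) with hψ₀
  obtain ⟨e', -, -, hval'⟩ := over_data ⁅N, N⁆ (isIrr_lin ⁅N, N⁆ L) (f := 1) (by simp [lin]) hc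
  have hmem : ψ₀ ∈ twistOrbit ⁅N, N⁆ (lin L) := by
    by_contra hnot
    apply h2
    rw [show (fun x : ↥⁅N, N⁆ => (η : G → ℂ) x) =
      ∑ ψ ∈ twistOrbit ⁅N, N⁆ (lin L), (e' : ℂ) • ψ from funext fun x => by
        rw [hval' x, Finset.sum_apply, Finset.mul_sum]; rfl, classInner_sum_left]
    refine Finset.sum_eq_zero fun ψ hψ => ?_
    rw [classInner_smul_left, classInner_irr_ne
      (isIrrCharacter_of_mem_twistOrbit _ (isIrr_lin _ L) hψ) h1 (fun h => hnot (h ▸ hψ)),
      mul_zero]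
  obtain ⟨g, hg⟩ := (mem_twistOrbit _).1 hmem
  rw [conjTwist_lin] at hg
  have hf1 : (θ : N → ℂ) 1 = 1 := by
    have h := congrFun hg 1
    simp only [lin, map_one, Units.val_one, hψ₀] at h
    exact h.symm
  obtain ⟨A, hA⟩ := exists_hom_of_degree_one θ.2.isCharacter hf1
  refine hL (MonoidHom.ext fun x => ?_)
  have h := congrFun hg ((MulAut.conjNormal g : MulAut ↥⁅N, N⁆).symm x)
  simp only [lin, hψ₀] at h
  rw [congrFun hA, lin_trivial_on_comm N A, Units.val_one, Units.val_eq_one] at h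
  rw [MonoidHom.one_apply]
  have e : twHom ⁅N, N⁆ L g ((MulAut.conjNormal g : MulAut ↥⁅N, N⁆).symm x) = L x :=
    congrArg L (MulEquiv.apply_symm_apply _ _)
  rwa [e] at h

/-- A nonlinear character of degree prime to `|N : N'|` makes the degree meet `|N' : N''|`. -/
theorem not_coprime_second [Group.IsSolvable N] {a : ℕ}
    (hcross : ∀ x y : ℕ, x ∈ relCharDegrees N → y ∈ relCharDegrees N →
      Nat.Coprime x (⁅N, N⁆.relIndex N) → ¬ Nat.Coprime y (⁅N, N⁆.relIndex N) → Nat.Coprime x y)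
    (ha : a ∈ relCharDegrees N) (ham : Nat.Coprime a (⁅N, N⁆.relIndex N)) {θ : N → ℂ}
    (hθ : IsIrrCharacter N θ) {f : ℕ} (hf : θ 1 = f) (hfa : f ∣ a) (hf1 : f ≠ 1) :
    ¬ Nat.Coprime f (commutator ↥(commutator N)).index := by
  classical
  intro hcop
  haveI : Fintype ↥(commutator N) := Fintype.ofFinite _
  have hm : ⁅N, N⁆.relIndex N = (commutator N).index := by
    rw [Subgroup.relIndex, subgroupOf_comm]
  rw [hm] at ham hcross
  have hfm := ham.coprime_dvd_left hfa
  have hK := res_irr_comm (commutator N) hθ hf hfm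
  have hne : commutator ↥(commutator N) ≠ ⊤ := by
    intro htop
    haveI : Subsingleton ↥(commutator N) := by
      by_contra hns
      haveI : Nontrivial ↥(commutator N) := not_subsingleton_iff_nontrivial.1 hns
      exact (Group.IsSolvable.commutator_lt_top_of_nontrivial ↥(commutator N)).ne htop
    have h := degree_dvd_card hK (d := f) (by simp [hf])
    rw [Nat.card_unique] at h
    exact hf1 (Nat.dvd_one.1 h)
  obtain ⟨r, hr, hrm⟩ := Nat.exists_prime_and_dvd
    (fun h => hne (Subgroup.index_eq_one.1 h))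
  haveI : Fact r.Prime := ⟨hr⟩
  haveI : Finite (↥(commutator N) →* ℂˣ) := Nat.finite_of_card_ne_zero (by
    rw [card_linear_eq_index]; exact Subgroup.index_ne_zero_of_finite)
  obtain ⟨L, hL⟩ := exists_prime_orderOf_dvd_card' (G := ↥(commutator N) →* ℂˣ) r
    (card_linear_eq_index (G := ↥(commutator N)) ▸ hrm)
  obtain ⟨β, hβ⟩ := exists_over (commutator N) (isIrr_lin (commutator N) L)
  set M := ⁅commutator N, commutator N⁆ with hM
  haveI : Fintype M := Fintype.ofFinite _
  have hMK : M ≤ commutator N := comm_le (commutator N)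
  obtain ⟨e, -, hdeg, hval⟩ := over_data (commutator N) (isIrr_lin (commutator N) L) (f := 1)
    (by simp [lin]) hβ
  have hβker : ∀ x : M, (β : N → ℂ) x = (β : N → ℂ) 1 := by
    intro x
    have h1 := hval (Subgroup.inclusion hMK x)
    have h0 := hval 1
    rw [Subgroup.coe_inclusion] at h1
    rw [Subgroup.coe_one] at h0
    rw [h1, h0]
    refine congrArg _ (Finset.sum_congr rfl fun ψ hψ => ?_)
    obtain ⟨g, rfl⟩ := (mem_twistOrbit _).1 hψ
    rw [conjTwist_lin]
    show ((twHom _ L g _ : ℂˣ) : ℂ) = ((twHom _ L g 1 : ℂˣ) : ℂ)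
    rw [map_one, MonoidHom.mem_ker.1 (Abelianization.commutator_subset_ker (twHom _ L g)
      (subgroupOf_comm (commutator N) ▸ Subgroup.mem_subgroupOf.2
        (show ((Subgroup.inclusion hMK x : ↥(commutator N)) : N) ∈ M from x.2)))]
  set d := charDegree (β : N → ℂ) with hd
  have hdm : ¬ Nat.Coprime d (commutator N).index := by
    intro hc
    have h := res_irr_comm (commutator N) β.2 (Cfsg.Lib.Block.apply_one_eq_charDegree β) hc
    have h1 : (fun x : ↥(commutator N) => (β : N → ℂ) x) = lin L := by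
      by_contra hne'
      exact hβ (classInner_irr_ne h (isIrr_lin _ L) hne')
    have hβ1 : (β : N → ℂ) 1 = 1 := by simpa [lin] using congrFun h1 1
    obtain ⟨A, hA⟩ := exists_hom_of_degree_one β.2.isCharacter hβ1
    have : L = 1 := MonoidHom.ext fun x => Units.ext (by
      have h2 := congrFun h1 x
      rw [congrFun hA, MonoidHom.mem_ker.1 (Abelianization.commutator_subset_ker A x.2)] at h2
      simpa [lin] using h2.symm)
    rw [this, orderOf_one] at hL
    exact hr.ne_one hL.symm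
  have hfM : Nat.Coprime f M.index := by
    rw [← Subgroup.relIndex_mul_index hMK]
    refine Nat.Coprime.mul_right ?_ hfm
    rwa [Subgroup.relIndex, subgroupOf_comm]
  have hθM := res_irr_comm M hθ hf hfM
  have hinv : ∀ g, conjTwist M (fun x : M => θ x) g = fun x : M => θ x := fun g => funext fun x => by
    rw [conjTwist_apply]
    exact hθ.isClassFunction _ _
  have hbij := gallagher_bijOn M (φ := fun _ : M => (1 : ℂ)) (ϑ := fun x : M => θ x)
    isIrrCharacter_one (fun g => funext fun _ => rfl) hinv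
    (by rw [show ((fun _ => (1 : ℂ)) * fun x : M => θ x) = fun x : M => θ x from
      funext fun x => one_mul _]; exact hθM) hθ.isCharacter (fun x => rfl)
  have hmem := hbij.mapsTo (x := (β : N → ℂ)) ⟨β.2, by
    rw [classInner_indFun M _ β.2.isClassFunction,
      show (fun x : M => (β : N → ℂ) x) = (β : N → ℂ) 1 • fun _ : M => (1 : ℂ) from
        funext fun x => by simp [hβker x], classInner_smul_right,
      classInner_irr_self isIrrCharacter_one, mul_one]
    exact (map_ne_zero _).2 β.2.apply_one_ne_zero⟩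
  obtain ⟨ξ, hξ, hξ1⟩ : ∃ ξ : N → ℂ, IsIrrCharacter N ξ ∧ ξ 1 = ((d * f : ℕ) : ℂ) :=
    ⟨_, hmem.1, by simp [hf, Cfsg.Lib.Block.apply_one_eq_charDegree β, hd]⟩
  obtain ⟨η, hη⟩ := exists_over N hξ
  obtain ⟨e', -, hdeg', -⟩ := over_data N hξ hξ1 hη
  have hdvd : d * f ∣ charDegree (η : G → ℂ) := hdeg' ▸ dvd_mul_left _ _
  have hηmem := mem_rel_of_over N hξ (fun h => hf1 (by
    have h2 : ((d * f : ℕ) : ℂ) = 1 := hξ1 ▸ congrFun h 1
    exact Nat.eq_one_of_mul_eq_one_left (Nat.cast_eq_one.1 h2))) hη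
  have := hcross a _ ha hηmem ham fun h => hdm (h.coprime_dvd_left ((dvd_mul_right d f).trans hdvd))
  exact hf1 (Nat.dvd_one.1 (this.gcd_eq_one ▸ Nat.dvd_gcd hfa ((dvd_mul_left f d).trans hdvd)))

/-- The datum of a degree prime to the index: a nontrivial constituent with its orbit. -/
theorem degree_data {a : ℕ} (ha : a ∈ relCharDegrees N) :
    ∃ (χ : IrrCharacter G) (θ : N → ℂ) (f : ℕ), IsIrrCharacter N θ ∧ θ ≠ (fun _ => 1) ∧
      θ 1 = f ∧ charDegree (χ : G → ℂ) = a ∧ classInner (fun x : N => (χ : G → ℂ) x) θ ≠ 0 ∧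
      f ∣ a ∧ (inertia N θ).index ∣ a := by
  obtain ⟨χ, ⟨x, hx, hxne⟩, hχa⟩ := ha
  obtain ⟨θ, hθc⟩ := exists_irr_constituent_res N χ.2
  obtain ⟨f, -, hf⟩ := θ.2.exists_degree
  obtain ⟨e, he, hdeg, hval⟩ := over_data N θ.2 hf hθc
  rw [hχa] at hdeg
  refine ⟨χ, θ, f, θ.2, fun h => hxne ?_, hf, hχa, hθc, hdeg ▸ dvd_mul_left _ _,
    hdeg ▸ (dvd_mul_left _ e).mul_right f⟩
  have hv : ∀ y : N, (χ : G → ℂ) y = (e : ℂ) * ((twistOrbit N (θ : N → ℂ)).card : ℂ) := by
    intro y
    rw [hval y, Finset.sum_congr rfl (g := fun _ => (1 : ℂ)) fun ψ hψ => ?_, Finset.sum_const,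
      nsmul_eq_mul, mul_one]
    obtain ⟨g, rfl⟩ := (mem_twistOrbit N).1 hψ
    rw [conjTwist_apply, h]
  exact (hv ⟨x, hx⟩).trans (hv 1).symm

theorem one_lt_gcd_of_not_coprime {w t a c : ℕ} (hc : 0 < c) (h : ¬ Nat.Coprime w t) (hwc : w ∣ c)
    (hta : t ∣ a) : 1 < Nat.gcd a c := by
  obtain ⟨q, hq, hqw, hqt⟩ := Nat.Prime.not_coprime_iff_dvd.1 h
  exact lt_of_lt_of_le hq.one_lt (Nat.le_of_dvd (Nat.gcd_pos_of_pos_right _ hc)
    (Nat.dvd_gcd (hqt.trans hta) (hqw.trans hwc)))

theorem index_ne_one (hNG : N ≤ commutator G) {a : ℕ} {χ : IrrCharacter G}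
    (hχa : charDegree (χ : G → ℂ) = a) (ham : Nat.Coprime a (⁅N, N⁆.relIndex N)) (A : N →* ℂˣ)
    (hA : A ≠ 1) (hc : classInner (fun x : N => (χ : G → ℂ) x) (lin A) ≠ 0) :
    (inertia N (lin A)).index ≠ 1 := by
  intro h
  have h1 : A ^ (1 * a) = 1 := MonoidHom.ext fun x => by
    rw [MonoidHom.pow_apply, ← hχa]
    exact pow_eq_one_of_over N hNG A 1 (twHom_eq_of_index_one N h) (one_hom_pow 1)
      (by rwa [lin_mul_one]) x
  rw [one_mul] at h1
  have h2 := linHom_pow_index A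
  rw [← subgroupOf_comm] at h2
  exact hA (eq_one_of_pow_coprime (M := N →* ℂˣ) h1 h2 ham)

/-- Two coprime degrees prime to the index have a common neighbour. -/
theorem exists_common [Group.IsSolvable N] (hNG : N ≤ commutator G)
    (hm1 : ⁅N, N⁆.relIndex N ≠ 1)
    (hcross : ∀ x y : ℕ, x ∈ relCharDegrees N → y ∈ relCharDegrees N →
      Nat.Coprime x (⁅N, N⁆.relIndex N) → ¬ Nat.Coprime y (⁅N, N⁆.relIndex N) → Nat.Coprime x y)
    {a b : ℕ} (ha : a ∈ relCharDegrees N) (hb : b ∈ relCharDegrees N)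
    (ham : Nat.Coprime a (⁅N, N⁆.relIndex N)) (hbm : Nat.Coprime b (⁅N, N⁆.relIndex N))
    (hab : Nat.Coprime a b) :
    ∃ d ∈ relCharDegrees N, 1 < Nat.gcd a d ∧ 1 < Nat.gcd d b := by
  classical
  set m := ⁅N, N⁆.relIndex N with hm
  have hpow : ∀ A : N →* ℂˣ, A ^ m = 1 := fun A => by
    have h := linHom_pow_index A
    rwa [← subgroupOf_comm] at h
  -- a linear constituent on one side
  have hlin : ∀ {a b : ℕ} (χ : IrrCharacter G) (A : N →* ℂˣ) (θ : N → ℂ) (f : ℕ),
      charDegree (χ : G → ℂ) = a → Nat.Coprime a m → Nat.Coprime b m → Nat.Coprime a b →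
      A ≠ 1 → classInner (fun x : N => (χ : G → ℂ) x) (lin A) ≠ 0 →
      (inertia N (lin A)).index ∣ a → IsIrrCharacter N θ → θ 1 = f → f ∣ b →
      (inertia N θ).index ∣ b →
      ¬ Nat.Coprime (inertia N (θ * lin A)).index (inertia N (lin A)).index := by
    intro a b χ A θ f hχa ham hbm hab hA hc hta hθ hf hfb hsb
    exact twist_not_coprime N hθ hf A (hpow A) (hbm.coprime_dvd_left hfb)
      (hbm.coprime_dvd_left hsb) ((hab.symm.coprime_dvd_left hsb).coprime_dvd_right hta)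
      (index_ne_one N hNG hχa ham A hA hc)
  obtain ⟨χa, θa, fa, hθa, hθa1, hfa, hχa, hca, hfaa, hsa⟩ := degree_data N ha
  obtain ⟨χb, θb, fb, hθb, hθb1, hfb, hχb, hcb, hfbb, hsb⟩ := degree_data N hb
  have key : ∀ {a b : ℕ}, a ∈ relCharDegrees N → b ∈ relCharDegrees N → Nat.Coprime a m →
      Nat.Coprime b m → Nat.Coprime a b → ∀ (χ : IrrCharacter G) (θ θ' : N → ℂ) (f' : ℕ),
      charDegree (χ : G → ℂ) = a → IsIrrCharacter N θ → θ ≠ (fun _ => 1) → θ 1 = 1 →
      classInner (fun x : N => (χ : G → ℂ) x) θ ≠ 0 → (inertia N θ).index ∣ a →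
      IsIrrCharacter N θ' → θ' 1 = f' → f' ∣ b → (inertia N θ').index ∣ b → f' ≠ 1 →
      ∃ d ∈ relCharDegrees N, 1 < Nat.gcd a d ∧ 1 < Nat.gcd d b := by
    intro a b ha hb ham hbm hab χ θ θ' f' hχ hθ hθ1 hθd hc hta hθ' hf' hfb hsb hf1
    obtain ⟨A, rfl⟩ : ∃ A : N →* ℂˣ, θ = lin A :=
      exists_hom_of_degree_one hθ.isCharacter hθd
    have hnc := hlin χ A θ' f' hχ ham hbm hab (fun h => hθ1 (by rw [h]; funext x; simp [lin]))
      hc hta hθ' hf' hfb hsb
    have hμ : IsIrrCharacter N (θ' * lin A) := isIrrCharacter_mul_linear hθ' A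
    have hμf : (θ' * lin A) 1 = (f' : ℂ) := by simp [lin, hf']
    obtain ⟨η, hη⟩ := exists_over N hμ
    obtain ⟨e, -, hdeg, -⟩ := over_data N hμ hμf hη
    have hpos := Cfsg.Lib.Block.charDegree_pos η
    refine ⟨_, mem_rel_of_over N hμ (fun h => hf1 ?_) hη,
      one_lt_gcd_of_not_coprime hpos hnc (hdeg ▸ (dvd_mul_left _ e).mul_right f') hta, ?_⟩
    · have h2 := congrFun h 1
      rw [hμf] at h2
      exact Nat.cast_eq_one.1 h2
    · have hf0 : f' ≠ 0 := fun h => hθ'.apply_one_ne_zero (by rw [hf', h, Nat.cast_zero])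
      exact lt_of_lt_of_le (show 1 < f' by omega) (Nat.le_of_dvd (Nat.gcd_pos_of_pos_left _ hpos)
        (Nat.dvd_gcd (hdeg ▸ dvd_mul_left _ _) hfb))
  by_cases hfa1 : fa = 1
  · by_cases hfb1 : fb = 1
    · subst hfa1 hfb1
      rw [Nat.cast_one] at hfa hfb
      obtain ⟨A, hA⟩ : ∃ A : N →* ℂˣ, θa = lin A := exists_hom_of_degree_one hθa.isCharacter hfa
      obtain ⟨B, hB⟩ : ∃ B : N →* ℂˣ, θb = lin B := exists_hom_of_degree_one hθb.isCharacter hfb
      subst hA hB
      have hA1 : A ≠ 1 := fun h => hθa1 (by rw [h]; funext x; simp [lin])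
      have hB1 : B ≠ 1 := fun h => hθb1 (by rw [h]; funext x; simp [lin])
      have hnA := hlin χa A (lin B) 1 hχa ham hbm hab hA1 hca hsa hθb (by simp [lin])
        (one_dvd b) hsb
      have hnB := hlin χb B (lin A) 1 hχb hbm ham hab.symm hB1 hcb hsb hθa (by simp [lin])
        (one_dvd a) hsa
      rw [mul_comm (lin B) (lin A)] at hnA
      have hμ : IsIrrCharacter N (lin A * lin B) := isIrrCharacter_mul_linear hθa B
      obtain ⟨η, hη⟩ := exists_over N hμ
      obtain ⟨e, -, hdeg, -⟩ := over_data N hμ (f := 1) (by simp [lin]) hη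
      have hpos := Cfsg.Lib.Block.charDegree_pos η
      have hw : (inertia N (lin A * lin B)).index ∣ charDegree (η : G → ℂ) :=
        hdeg ▸ (dvd_mul_left _ e).mul_right 1
      refine ⟨_, mem_rel_of_over N hμ (fun h => ?_) hη, one_lt_gcd_of_not_coprime hpos hnA hw hsa,
        by rw [Nat.gcd_comm]; exact one_lt_gcd_of_not_coprime hpos hnB hw hsb⟩
      have heq : inertia N (lin A * lin B) = ⊤ := eq_top_iff.2 fun g _ => by
        rw [mem_inertia, h]; rfl
      rw [heq, Subgroup.index_top] at hnA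
      exact hnA (Nat.coprime_one_left _)
    · subst hfa1
      rw [Nat.cast_one] at hfa
      exact key ha hb ham hbm hab χa θa θb fb hχa hθa hθa1 hfa hca hsa hθb hfb hfbb hsb hfb1
  · by_cases hfb1 : fb = 1
    · subst hfb1
      rw [Nat.cast_one] at hfb
      obtain ⟨d, hd, h1, h2⟩ := key hb ha hbm ham hab.symm χb θb θa fa hχb hθb hθb1 hfb hcb hsb
        hθa hfa hfaa hsa hfa1
      exact ⟨d, hd, by rwa [Nat.gcd_comm], by rwa [Nat.gcd_comm]⟩
    · exfalso
      letI : Fintype ↥⁅N, N⁆ := Fintype.ofFinite _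
      haveI : (⁅N, N⁆ : Subgroup G).Normal := Subgroup.commutator_normal N N
      have hKG : ⁅N, N⁆ ≤ commutator G := (comm_le N).trans hNG
      obtain ⟨r, hr, hrf, hrm⟩ := Nat.Prime.not_coprime_iff_dvd.1
        (not_coprime_second N hcross hb hbm hθb hfb hfbb hfb1)
      haveI : Fact r.Prime := ⟨hr⟩
      have hrb : r ∣ b := hrf.trans hfbb
      obtain ⟨hφ, hφc⟩ := res_comm N hθa hfa hca (ham.coprime_dvd_left hfaa)
      set φ : ↥⁅N, N⁆ → ℂ := fun x => θa (Subgroup.inclusion (comm_le N) x) with hφdef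
      have hφf : φ 1 = (fa : ℂ) := by simp [hφdef, hfa]
      obtain ⟨e, -, hdega, -⟩ := over_data ⁅N, N⁆ hφ hφf hφc
      rw [hχa] at hdega
      have hsK : (inertia ⁅N, N⁆ φ).index ∣ a := hdega ▸ (dvd_mul_left _ e).mul_right fa
      have hra : Nat.Coprime a r := hab.coprime_dvd_right hrb
      haveI : Finite (↥⁅N, N⁆ →* ℂˣ) := Nat.finite_of_card_ne_zero (by
        rw [card_linear_eq_index]; exact Subgroup.index_ne_zero_of_finite)
      obtain ⟨L, hL⟩ := exists_prime_orderOf_dvd_card' (G := ↥⁅N, N⁆ →* ℂˣ) r (by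
        let eK : ↥(commutator N) ≃* ↥⁅N, N⁆ :=
          (MulEquiv.subgroupCongr (subgroupOf_comm N).symm).trans
            (Subgroup.subgroupOfEquivOfLe (comm_le N))
        rw [← Nat.card_congr (MulEquiv.monoidHomCongrLeftEquiv (N := ℂˣ) eK), card_linear_eq_index]
        exact hrm)
      have hL1 : L ≠ 1 := fun h => hr.ne_one (by rw [← hL, h, orderOf_one])
      have hLr : L ^ r = 1 := hL ▸ pow_orderOf_eq_one L
      have hKmem : ∀ {ψ : ↥⁅N, N⁆ → ℂ} (hψ : IsIrrCharacter ↥⁅N, N⁆ ψ), ψ ≠ (fun _ => 1) →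
          ∀ {η : IrrCharacter G}, classInner (fun x : ↥⁅N, N⁆ => (η : G → ℂ) x) ψ ≠ 0 →
            charDegree (η : G → ℂ) ∈ relCharDegrees N := fun hψ hne η hc => by
        obtain ⟨χ, ⟨x, hx, hxne⟩, he⟩ := mem_rel_of_over ⁅N, N⁆ hψ hne hc
        exact ⟨χ, ⟨x, comm_le N hx, hxne⟩, he⟩
      obtain ⟨η, hη⟩ := exists_over ⁅N, N⁆ (isIrr_lin ⁅N, N⁆ L)
      have hηmem := hKmem (isIrr_lin ⁅N, N⁆ L) (fun h => hL1 (linearChar_injective (h.trans
        (funext fun x => by simp)))) hη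
      have hηm := not_coprime_over_comm N hL1 hη
      obtain ⟨e', -, hdegη, -⟩ := over_data ⁅N, N⁆ (isIrr_lin ⁅N, N⁆ L) (f := 1) (by simp [lin]) hη
      have htη : (inertia ⁅N, N⁆ (lin L)).index ∣ charDegree (η : G → ℂ) :=
        hdegη ▸ (dvd_mul_left _ e').mul_right 1
      by_cases ht : (inertia ⁅N, N⁆ (lin L)).index = 1
      · -- an invariant character
        have h1 : L ^ (1 * charDegree (η : G → ℂ)) = 1 := MonoidHom.ext fun x => by
          rw [MonoidHom.pow_apply]
          exact pow_eq_one_of_over ⁅N, N⁆ hKG L 1 (twHom_eq_of_index_one _ ht) (one_hom_pow 1)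
            (by rwa [lin_mul_one]) x
        have h2 := orderOf_dvd_of_pow_eq_one (G := ↥⁅N, N⁆ →* ℂˣ) h1
        rw [hL, one_mul] at h2
        exact hr.ne_one (Nat.dvd_one.1 ((hcross b _ hb hηmem hbm hηm).gcd_eq_one ▸
          Nat.dvd_gcd hrb h2))
      · have hfar : Nat.Coprime fa r := hra.coprime_dvd_left hfaa
        have hnc := twist_not_coprime ⁅N, N⁆ hφ hφf L hLr hfar (hra.coprime_dvd_left hsK)
          (((hcross a _ ha hηmem ham hηm).coprime_dvd_left hsK).coprime_dvd_right htη) ht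
        have hμ : IsIrrCharacter ↥⁅N, N⁆ (φ * lin L) := isIrrCharacter_mul_linear hφ L
        have hμf : (φ * lin L) 1 = (fa : ℂ) := by simp [lin, hφf]
        obtain ⟨ξ, hξ⟩ := exists_over ⁅N, N⁆ hμ
        obtain ⟨e'', -, hdegξ, -⟩ := over_data ⁅N, N⁆ hμ hμf hξ
        have hξmem := hKmem hμ (fun h => hfa1 (by
          have h2 := congrFun h 1
          rw [hμf] at h2
          exact Nat.cast_eq_one.1 h2)) hξ
        have hfξ : fa ∣ charDegree (ξ : G → ℂ) := hdegξ ▸ dvd_mul_left _ _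
        have hξm : Nat.Coprime (charDegree (ξ : G → ℂ)) m := by
          by_contra h
          exact hfa1 (Nat.dvd_one.1 ((hcross a _ ha hξmem ham h).gcd_eq_one ▸
            Nat.dvd_gcd hfaa hfξ))
        exact hnc (((hcross _ _ hξmem hηmem hξm hηm).coprime_dvd_left
          (hdegξ ▸ (dvd_mul_left _ e'').mul_right fa)).coprime_dvd_right htη)

/-- Let N be a solvable normal subgroup of the finite group G contained in the derived subgroup of G, and consider the common-divisor graph on the relative degree set cd(G|N) (degrees of irreducible complex characters of G whose kernel does not contain N, two distinct degrees adjacent when not coprime). If this graph has two vertices that are not joined by any path, then there is a vertex a₀ such that any two distinct vertices in the component of a₀ are adjacent, and any two distinct vertices outside that component are adjacent or have a common neighbour (one component is complete, the other has diameter at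 most 2). -/
theorem result {G : Type*} [Group G] [Finite G] (N : Subgroup G) [N.Normal] [Group.IsSolvable N] (hNG : N ≤ commutator G) (hdisc : ¬ (Cfsg.commonDivisorGraph.induce (Cfsg.relCharDegrees N)).Preconnected) : ∃ a₀ : ↥(Cfsg.relCharDegrees N), (∀ b c : ↥(Cfsg.relCharDegrees N), (Cfsg.commonDivisorGraph.induce (Cfsg.relCharDegrees N)).Reachable a₀ b → (Cfsg.commonDivisorGraph.induce (Cfsg.relCharDegrees N)).Reachable a₀ c → b ≠ c → (Cfsg.commonDivisorGraph.induce (Cfsg.relCharDegrees N)).Adj b c) ∧ (∀ b c : ↥(Cfsg.relCharDegrees N), ¬ (Cfsg.commonDivisorGraph.induce (Cfsg.relCharDegrees N)).Reachable a₀ b → ¬ (Cfsg.commonDivisorGraph.induce (Cfsg.relCharDegrees N)).Reachable a₀ c → b ≠ c → (Cfsg.commonDivisorGraph.induce (Cfsg.relCharDegrees N)).Adj b c ∨ ∃ d : ↥(Cfsg.relCharDegrees N), (Cfsg.commonDivisorGraph.induce (Cfsg.relCharDegrees N)).Adj b d ∧ (Cfsg.commonDivisorGraph.induce (Cfsg.relCharDegrees N)).Adj d c) := by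
  letI : Fintype G := Fintype.ofFinite G
  letI : Fintype N := Fintype.ofFinite N
  haveI : (⁅N, N⁆ : Subgroup G).Normal := Subgroup.commutator_normal N N
  letI : Fintype ↥⁅N, N⁆ := Fintype.ofFinite _
  classical
  set m := ⁅N, N⁆.relIndex N with hm
  set Γ := commonDivisorGraph.induce (relCharDegrees N) with hΓ
  have hKG : ⁅N, N⁆ ≤ commutator G := (comm_le N).trans hNG
  have hnd : ∀ {x : ℕ} {r : ℕ}, r.Prime → r ∣ m → Nat.Coprime x m → ¬ r ∣ x := fun hr hrm hx h =>
    hr.ne_one (Nat.dvd_one.1 (hx.gcd_eq_one ▸ Nat.dvd_gcd h hrm))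
  have hNne : N ≠ ⊥ := by
    intro hb
    refine hdisc fun a => ?_
    obtain ⟨χ, ⟨x, hx, hxne⟩, -⟩ := a.2
    rw [hb, Subgroup.mem_bot] at hx
    exact absurd (by rw [hx]) hxne
  have hm1 : m ≠ 1 := by
    intro h
    haveI : Nontrivial N := (Subgroup.nontrivial_iff_ne_bot N).2 hNne
    refine (Group.IsSolvable.commutator_lt_top_of_nontrivial N).ne ?_
    rwa [hm, Subgroup.relIndex, subgroupOf_comm, Subgroup.index_eq_one] at h
  obtain ⟨p, hp, hpm⟩ := Nat.exists_prime_and_dvd hm1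
  have hboth : ∀ a b : ℕ, a ∈ relCharDegrees N → b ∈ relCharDegrees N → Nat.Coprime a m →
      Nat.Coprime b m → Reach N a b := fun a b ha hb ha' hb' =>
    reach_of_not_dvd N hNG hp hpm ha hb (hnd hp hpm ha') (hnd hp hpm hb')
  have hnone : ∀ a b : ℕ, a ∈ relCharDegrees N → b ∈ relCharDegrees N → ¬ Nat.Coprime a m →
      ¬ Nat.Coprime b m → Reach N a b := fun a b ha hb ha' hb' => by
    obtain ⟨q, hq, hqa, hqm⟩ := Nat.Prime.not_coprime_iff_dvd.1 ha'
    obtain ⟨r, hr, hrb, hrm⟩ := Nat.Prime.not_coprime_iff_dvd.1 hb'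
    exact reach_of_dvd_dvd N hNG hq hr hqm hrm ha hb hqa hrb
  have hnr : ∀ x y : ℕ, x ∈ relCharDegrees N → y ∈ relCharDegrees N → Nat.Coprime x m →
      ¬ Nat.Coprime y m → ¬ Reach N x y := by
    intro x y hx hy hxm hym h
    refine hdisc fun a b => ?_
    have hto : ∀ c : ↥(relCharDegrees N), Reach N (c : ℕ) x := fun c => by
      by_cases hc : Nat.Coprime (c : ℕ) m
      · exact hboth _ _ c.2 hx hc hxm
      · exact (hnone _ _ c.2 hy hc hym).trans h.symm
    exact ((hto a).trans (hto b).symm).2.2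
  have hpos : ∀ x ∈ relCharDegrees N, 0 < x := by
    rintro x ⟨χ, -, rfl⟩
    exact Cfsg.Lib.Block.charDegree_pos χ
  have hcross : ∀ x y : ℕ, x ∈ relCharDegrees N → y ∈ relCharDegrees N → Nat.Coprime x m →
      ¬ Nat.Coprime y m → Nat.Coprime x y := by
    intro x y hx hy hxm hym
    have h := mt (reach_of_gcd N hx hy) (hnr x y hx hy hxm hym)
    have := Nat.gcd_pos_of_pos_left y (hpos x hx)
    exact Nat.coprime_iff_gcd_eq_one.2 (by omega)
  obtain ⟨a₀, ha₀⟩ : ∃ a₀ : ↥(relCharDegrees N), ¬ Nat.Coprime (a₀ : ℕ) m := by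
    by_contra hcon
    push Not at hcon
    exact hdisc fun a b => (hboth _ _ a.2 b.2 (hcon a) (hcon b)).2.2
  obtain ⟨x₀, hx₀⟩ : ∃ x₀ : ↥(relCharDegrees N), Nat.Coprime (x₀ : ℕ) m := by
    by_contra hcon
    push Not at hcon
    exact hdisc fun a b => (hnone _ _ a.2 b.2 (hcon a) (hcon b)).2.2
  have hout : ∀ b, ¬ Γ.Reachable a₀ b → Nat.Coprime (b : ℕ) m := fun b hb => by
    by_contra h
    exact hb (hnone _ _ a₀.2 b.2 ha₀ h).2.2
  have hin : ∀ b, Γ.Reachable a₀ b → p ∣ (b : ℕ) := fun b hb => by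
    have hbm : ¬ Nat.Coprime (b : ℕ) m := fun h =>
      hnr _ _ b.2 a₀.2 h ha₀ ⟨b.2, a₀.2, hb.symm⟩
    by_contra hpb
    exact hnr _ _ x₀.2 b.2 hx₀ hbm
      (reach_of_not_dvd N hNG hp hpm x₀.2 b.2 (hnd hp hpm hx₀) hpb)
  refine ⟨a₀, fun b c hb hc hbc => ?_, fun b c hb hc hbc => ?_⟩
  · exact ⟨fun h => hbc (Subtype.ext h), lt_of_lt_of_le hp.one_lt (Nat.le_of_dvd
      (Nat.gcd_pos_of_pos_left _ (hpos _ b.2)) (Nat.dvd_gcd (hin b hb) (hin c hc)))⟩
  refine or_iff_not_imp_left.2 fun hadj => ?_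
  have hbm := hout b hb
  have hcm := hout c hc
  have hco : Nat.Coprime (b : ℕ) c := by
    have h : ¬ 1 < Nat.gcd (b : ℕ) c := fun h => hadj ⟨fun e => hbc (Subtype.ext e), h⟩
    have := Nat.gcd_pos_of_pos_left (c : ℕ) (hpos _ b.2)
    exact Nat.coprime_iff_gcd_eq_one.2 (by omega)
  obtain ⟨d, hd, h1, h2⟩ := exists_common N hNG hm1 hcross b.2 c.2 hbm hcm hco
  refine ⟨⟨d, hd⟩, ⟨fun e => ?_, h1⟩, ⟨fun e => ?_, h2⟩⟩
  · have e' : (b : ℕ) = d := e
    rw [← e', hco.gcd_eq_one] at h2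
    omega
  · have e' : d = (c : ℕ) := e
    rw [e', hco.gcd_eq_one] at h1
    omega

end Cfsg.Agent.S4779
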