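import Cfsg.Statements.S4781
import Cfsg.Agent.Lib.Char.NoDivide.Reduce
import Cfsg.Agent.Lib.Char.MinimalDegrees
import Mathlib.Combinatorics.SimpleGraph.Connectivity.Connected

set_option autoImplicit false
open Cfsg

namespace Cfsg.Agent.S4781

open Cfsg.Lib.Char

universe w

variable {G : Type w} [Group G] [Fintype G]

/-- Two primes dividing one degree are connected. -/
theorem reachable_of_dvd {r s : degreePrimes G} {d : ℕ} (hd : d ∈ charDegrees G)
    (hr : (r : ℕ) ∣ d) (hs : (s : ℕ) ∣ d) :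
    ((degreeGraph G).induce (degreePrimes G)).Reachable r s := by
  rcases eq_or_ne r s with rfl | hne
  · exact .rfl
  · have hne' : (r : ℕ) ≠ (s : ℕ) := fun e => hne (Subtype.ext e)
    exact SimpleGraph.Adj.reachable (show ((degreeGraph G).induce (degreePrimes G)).Adj r s from
      ⟨hne', r.2.1, s.2.1, d, hd, Nat.Coprime.mul_dvd_of_dvd_of_dvd
        ((Nat.coprime_primes r.2.1 s.2.1).2 hne') hr hs⟩)

/-- A connected graph has at most one component. -/
theorem card_le_one (hcon : ∀ r s : degreePrimes G,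
    ((degreeGraph G).induce (degreePrimes G)).Reachable r s) :
    Nat.card ((degreeGraph G).induce (degreePrimes G)).ConnectedComponent ≤ 1 := by
  haveI : Subsingleton ((degreeGraph G).induce (degreePrimes G)).ConnectedComponent := ⟨fun A B => by
    induction A using SimpleGraph.ConnectedComponent.ind with
    | h r => induction B using SimpleGraph.ConnectedComponent.ind with
      | h s => exact SimpleGraph.ConnectedComponent.eq.2 (hcon r s)⟩
  rcases isEmpty_or_nonempty ((degreeGraph G).induce (degreePrimes G)).ConnectedComponent with h | h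
  · simp
  · exact le_of_eq (Nat.card_of_subsingleton h.some)

/-- Let G be a finite solvable group in which no irreducible complex character degree a with 1 < a divides a larger irreducible character degree, and suppose the character degree graph of G (primes dividing some degree, distinct primes adjacent when their product divides a degree) has exactly two connected components. Then G has exactly three distinct irreducible character degrees. -/
theorem result {G : Type*} [Group G] [Finite G] [Group.IsSolvable G] (hnd : ∀ a ∈ Cfsg.charDegrees G, ∀ b ∈ Cfsg.charDegrees G, 1 < a → a < b → ¬ a ∣ b) (htwo : Nat.card ((Cfsg.degreeGraph G).induce (Cfsg.degreePrimes G)).ConnectedComponent = 2) : Nat.card ↥(Cfsg.charDegrees G) = 3 := by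
  classical
  haveI := Fintype.ofFinite G
  have hdegmem : ∀ χ : IrrCharacter G, charDegree (χ : G → ℂ) ∈ charDegrees G := fun χ => ⟨χ, rfl⟩
  have hne1 : ¬ ∀ r s : degreePrimes G, ((degreeGraph G).induce (degreePrimes G)).Reachable r s := by
    intro hcon
    have := card_le_one hcon
    omega
  have hna : ¬ ∀ a b : G, a * b = b * a := by
    intro hc
    refine hne1 fun r => ?_
    obtain ⟨hrp, d, ⟨χ, rfl⟩, hd⟩ := r.2
    rw [show charDegree (χ : G → ℂ) = 1 by simp [charDegree, degree_eq_one_of_comm hc χ.2]] at hd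
    exact absurd (Nat.dvd_one.1 hd) hrp.ne_one
  rcases exists_minimal_quotient hna with ⟨p, K, hP⟩ | ⟨q, K, N, hF⟩
  · exfalso
    obtain ⟨e, he, ⟨β, hβ⟩, hmul⟩ := hP.exists_mul
    have hp : p.Prime := hP.2.1
    have hpv : p ∈ degreePrimes G := ⟨hp, _, hdegmem β, hβ ▸ dvd_pow_self p he.ne'⟩
    have key : ∀ r : degreePrimes G,
        ((degreeGraph G).induce (degreePrimes G)).Reachable r ⟨p, hpv⟩ := by
      intro r
      obtain ⟨hrp, d, ⟨χ, rfl⟩, hrd⟩ := r.2
      refine reachable_of_dvd (hdegmem χ) hrd ?_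
      by_contra hpd
      have hpd' : ¬ p ∣ charDegree (χ : G → ℂ) := hpd
      obtain ⟨ψ, hψ⟩ := hmul χ hpd'
      have hpos := χ.2.charDegree_pos
      have h1 : 1 < charDegree (χ : G → ℂ) := lt_of_lt_of_le hrp.one_lt (Nat.le_of_dvd hpos hrd)
      exact hnd _ (hdegmem χ) _ (hdegmem ψ) h1
        (hψ ▸ lt_mul_of_one_lt_left hpos (Nat.one_lt_pow he.ne' hp.one_lt)) (hψ ▸ dvd_mul_left _ _)
    exact hne1 fun r s => (key r).trans (key s).symm
  haveI := hF.2.1
  haveI := Fintype.ofFinite N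
  have hqp : q.Prime := hF.2.2.2.1
  have hN1 : 1 < N.index := by
    have h0 : N.index ≠ 0 := Subgroup.index_ne_zero_of_finite
    have h1 : N.index ≠ 1 := fun h1 => hF.2.2.2.2.2.1 (Subgroup.index_eq_one.1 h1)
    omega
  have hone : charDegree (fun _ : N => (1 : ℂ)) = 1 := by simp [charDegree]
  obtain ⟨χf, hχf⟩ := hF.exists_index_mul ⟨_, isIrrCharacter_one⟩ (by
    show ¬ q ∣ charDegree (fun _ : N => (1 : ℂ))
    rw [hone]
    exact hqp.not_dvd_one)
  rw [show charDegree ((⟨_, isIrrCharacter_one⟩ : IrrCharacter N) : N → ℂ) = 1 from hone, mul_one] at hχf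
  have hψq : ∀ ψ : IrrCharacter N, charDegree (ψ : N → ℂ) ≠ 1 → q ∣ charDegree (ψ : N → ℂ) := by
    intro ψ hψ
    by_contra hd
    obtain ⟨η, hη⟩ := hF.exists_index_mul ψ hd
    have h2 : 1 < charDegree (ψ : N → ℂ) := lt_of_le_of_ne ψ.2.charDegree_pos (Ne.symm hψ)
    exact hnd _ (hdegmem χf) _ (hdegmem η) (hχf ▸ hN1)
      (by rw [hχf, hη]; exact lt_mul_of_one_lt_right (by omega) h2)
      (by rw [hχf, hη]; exact dvd_mul_right _ _)
  have hcases : ∀ χ : IrrCharacter G, charDegree (χ : G → ℂ) = 1 ∨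
      charDegree (χ : G → ℂ) = N.index ∨ q ∣ charDegree (χ : G → ℂ) := by
    intro χ
    rcases hF.dvd_or χ with hq | ⟨η, h1, h2⟩
    · exact Or.inr (Or.inr hq)
    have hηN : charDegree (η : G → ℂ) = N.index := by
      by_contra hne
      exact hnd _ (hdegmem χf) _ (hdegmem η) (hχf ▸ hN1) (hχf ▸ lt_of_le_of_ne
        (Nat.le_of_dvd η.2.charDegree_pos h1) (Ne.symm hne)) (hχf ▸ h1)
    rw [hηN] at h2
    by_cases h3 : charDegree (χ : G → ℂ) = 1
    · exact Or.inl h3
    refine Or.inr (Or.inl ?_)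
    by_contra hne
    have hpos := χ.2.charDegree_pos
    exact hnd _ (hdegmem χ) _ (hdegmem χf) (by omega)
      (hχf ▸ lt_of_le_of_ne (Nat.le_of_dvd (by omega) h2) hne) (hχf ▸ h2)
  -- degrees divisible by the section prime are prime to the index
  have hcop : ∀ χ : IrrCharacter G, q ∣ charDegree (χ : G → ℂ) →
      N.index.Coprime (charDegree (χ : G → ℂ)) := by
    intro χ hqd
    by_contra hnc
    obtain ⟨r, hr, hrN, hrd⟩ := Nat.Prime.not_coprime_iff_dvd.1 hnc
    have hqv : q ∈ degreePrimes G := ⟨hqp, _, hdegmem χ, hqd⟩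
    have hrv : r ∈ degreePrimes G := ⟨hr, _, hdegmem χ, hrd⟩
    have key : ∀ v : degreePrimes G,
        ((degreeGraph G).induce (degreePrimes G)).Reachable v ⟨r, hrv⟩ := by
      intro v
      obtain ⟨hvp, d, ⟨η, rfl⟩, hvd⟩ := v.2
      rcases hcases η with h | h | h
      · exact absurd (Nat.dvd_one.1 (h ▸ hvd)) hvp.ne_one
      · exact reachable_of_dvd (hdegmem η) hvd (h ▸ hrN)
      · exact (reachable_of_dvd (s := ⟨q, hqv⟩) (hdegmem η) hvd h).trans
          (reachable_of_dvd (hdegmem χ) hqd hrd)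
    exact hne1 fun v w => (key v).trans (key w).symm
  obtain ⟨χq, hχq⟩ : ∃ χ : IrrCharacter G, q ∣ charDegree (χ : G → ℂ) := by
    by_contra hno
    push Not at hno
    refine hne1 fun v w => ?_
    have key : ∀ v : degreePrimes G, (v : ℕ) ∣ charDegree (χf : G → ℂ) := by
      intro v
      obtain ⟨hvp, d, ⟨η, rfl⟩, hvd⟩ := v.2
      rcases hcases η with h | h | h
      · exact absurd (Nat.dvd_one.1 (h ▸ hvd)) hvp.ne_one
      · rw [hχf, ← h]; exact hvd
      · exact absurd h (hno η)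
    exact reachable_of_dvd (hdegmem χf) (key v) (key w)
  -- restriction to the middle term
  have hres : ∀ (χ : IrrCharacter G) (θ : IrrCharacter N), q ∣ charDegree (χ : G → ℂ) →
      classInner (fun n : N => (χ : G → ℂ) n) (θ : N → ℂ) ≠ 0 →
        charDegree (χ : G → ℂ) = charDegree (θ : N → ℂ) ∧
          (fun n : N => (χ : G → ℂ) n) = (θ : N → ℂ) := by
    intro χ θ hq hc
    obtain ⟨⟨m, hm⟩, h2⟩ := degree_ratio_dvd_index N χ.2 θ.2 hc χ.2.apply_one_eq_charDegree
      θ.2.apply_one_eq_charDegree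
    rw [hm, Nat.mul_div_cancel_left _ θ.2.charDegree_pos] at h2
    have hm1 : m = 1 := Nat.eq_one_of_dvd_one ((hcop χ hq).gcd_eq_one ▸
      Nat.dvd_gcd h2 (hm ▸ dvd_mul_left m _))
    rw [hm1, mul_one] at hm
    exact ⟨hm, res_eq_of_degree N χ.2 θ.2 hc (by
      rw [χ.2.apply_one_eq_charDegree, θ.2.apply_one_eq_charDegree, hm])⟩
  have hlift : ∀ ψ : IrrCharacter N, charDegree (ψ : N → ℂ) ≠ 1 →
      ∃ χ : IrrCharacter G, q ∣ charDegree (χ : G → ℂ) ∧
        charDegree (χ : G → ℂ) = charDegree (ψ : N → ℂ) ∧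
          (fun n : N => (χ : G → ℂ) n) = (ψ : N → ℂ) := by
    intro ψ hψ
    obtain ⟨χ, hχ⟩ := RelDeg.exists_over N ψ.2
    have hd := (degree_ratio_dvd_index N χ.2 ψ.2 hχ χ.2.apply_one_eq_charDegree
      ψ.2.apply_one_eq_charDegree).1
    exact ⟨χ, (hψq ψ hψ).trans hd, hres χ ψ ((hψq ψ hψ).trans hd) hχ⟩
  have hall : ∀ ψ φ : IrrCharacter N, charDegree (ψ : N → ℂ) ≠ 1 → charDegree (φ : N → ℂ) ≠ 1 →
      charDegree (ψ : N → ℂ) = charDegree (φ : N → ℂ) := by
    refine Cfsg.Lib.Char.NoDivide.degree_eq_of_section hF (fun ψ hψ g n => ?_) hψq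
      (fun ψ hψ => ?_) fun ψ φ hψ hφ hd => ?_
    · obtain ⟨χ, -, -, hr⟩ := hlift ψ hψ
      rw [← hr]
      exact congrFun (conjTwist_res N χ.2.isClassFunction g) n
    · obtain ⟨χ, hq, he, -⟩ := hlift ψ hψ
      exact he ▸ hcop χ hq
    · obtain ⟨χ, hq, he, -⟩ := hlift ψ hψ
      obtain ⟨η, hq', he', -⟩ := hlift φ hφ
      by_contra hne
      exact hnd _ (hdegmem χ) _ (hdegmem η)
        (lt_of_lt_of_le hqp.one_lt (Nat.le_of_dvd χ.2.charDegree_pos hq))
        (by rw [he, he']; exact lt_of_le_of_ne (Nat.le_of_dvd φ.2.charDegree_pos hd) hne)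
        (by rw [he, he']; exact hd)
  have hqdeg : ∀ χ : IrrCharacter G, q ∣ charDegree (χ : G → ℂ) →
      ∃ θ : IrrCharacter N, charDegree (θ : N → ℂ) = charDegree (χ : G → ℂ) ∧
        charDegree (θ : N → ℂ) ≠ 1 := by
    intro χ hq
    obtain ⟨θ, hθ⟩ := exists_irr_constituent_res N χ.2
    have h := (hres χ θ hq hθ).1
    exact ⟨θ, h.symm, fun e => hqp.not_dvd_one (e ▸ h ▸ hq)⟩
  have hset : charDegrees G = {1, N.index, charDegree (χq : G → ℂ)} := by
    ext d
    constructor
    · rintro ⟨η, rfl⟩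
      rcases hcases η with h | h | h
      · simp [h]
      · simp [h]
      · obtain ⟨θ, hθ, hθ1⟩ := hqdeg η h
        obtain ⟨θ', hθ', hθ'1⟩ := hqdeg χq hχq
        simp [← hθ, ← hθ', hall θ θ' hθ1 hθ'1]
    · rintro (rfl | rfl | rfl)
      · exact ⟨⟨_, isIrrCharacter_one⟩, by simp [charDegree]⟩
      · exact ⟨χf, hχf⟩
      · exact hdegmem χq
  have hd1 : charDegree (χq : G → ℂ) ≠ 1 := fun e => hqp.not_dvd_one (e ▸ hχq)
  have hd2 : charDegree (χq : G → ℂ) ≠ N.index := fun e => by
    have := hcop χq hχq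
    rw [e, Nat.coprime_self] at this
    omega
  rw [hset, Nat.card_coe_set_eq, Set.ncard_insert_of_notMem (by simp; omega) (Set.toFinite _),
    Set.ncard_pair (Ne.symm hd2)]

end Cfsg.Agent.S4781
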