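import Cfsg.Statements.S4782
import Cfsg.Agent.Lib.Char.ThreeDegreePrimes

set_option autoImplicit false
open Cfsg

namespace Cfsg.Agent.S4782

/-- If the finite group G is not solvable, then at least three distinct primes each divide some irreducible complex character degree of G. -/
theorem result {G : Type*} [Group G] [Finite G] (hG : ¬ Group.IsSolvable G) : ∃ p q r : ℕ, p ≠ q ∧ q ≠ r ∧ p ≠ r ∧ p ∈ Cfsg.degreePrimes G ∧ q ∈ Cfsg.degreePrimes G ∧ r ∈ Cfsg.degreePrimes G := by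
  by_contra hcon
  push Not at hcon
  obtain ⟨p, q, hpq⟩ : ∃ p q : ℕ, ∀ r ∈ Cfsg.degreePrimes G, r = p ∨ r = q := by
    by_cases hne : ∃ p, p ∈ Cfsg.degreePrimes G
    · obtain ⟨p, hp⟩ := hne
      by_cases hne2 : ∃ q, q ≠ p ∧ q ∈ Cfsg.degreePrimes G
      · obtain ⟨q, hqp, hq⟩ := hne2
        refine ⟨p, q, fun r hr => ?_⟩
        by_contra hc
        push Not at hc
        exact hcon p q r hqp.symm hc.2.symm hc.1.symm hp hq hr
      · exact ⟨p, p, fun r hr => Or.inl (by_contra fun hc => hne2 ⟨r, hc, hr⟩)⟩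
    · exact ⟨0, 0, fun r hr => absurd ⟨r, hr⟩ hne⟩
  exact Lib.Char.ThreePrimes.not_two p q _ G le_rfl hG hpq

end Cfsg.Agent.S4782
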