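import Cfsg.Statements.S4784
import Cfsg.Agent.Lib.Char.Indicator
import Cfsg.Agent.Lib.Char.Clifford
import Cfsg.Agent.Lib.Char.Quotient

set_option autoImplicit false
open Cfsg

namespace Cfsg.Agent.S4784

/-- Let H be a subgroup of the finite group G and consider the permutation character of G on the cosets of H (the function induced from the principal character of H). Then exactly one irreducible constituent of it is real-valued with Frobenius–Schur indicator +1 (namely the principal character) if and only if the normal core of H has odd index in G. -/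
theorem result {G : Type*} [Group G] [Fintype G] (H : Subgroup G) : Nat.card {χ : Cfsg.IrrCharacter G // Cfsg.classInner (Cfsg.indFun H (fun _ : H => (1 : ℂ))) (χ : G → ℂ) ≠ 0 ∧ (∀ g : G, (starRingEnd ℂ) ((χ : G → ℂ) g) = (χ : G → ℂ) g) ∧ (Nat.card G : ℂ)⁻¹ * ∑ g : G, (χ : G → ℂ) (g * g) = 1} = 1 ↔ Odd H.normalCore.index := by
  classical
  haveI : H.normalCore.Normal := Subgroup.normalCore_normal H
  set π : G → ℂ := Cfsg.indFun H (fun _ : H => (1 : ℂ)) with hπdef
  haveI := Fintype.ofFinite H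
  have hπ : Cfsg.IsCharacter G π := Cfsg.Lib.Char.isCharacter_indFun H Cfsg.Lib.Char.isCharacter_one
  let one : Cfsg.IrrCharacter G := ⟨fun _ => 1, Cfsg.Lib.Char.isIrrCharacter_one⟩
  have hG0 : (Nat.card G : ℂ) ≠ 0 := Nat.cast_ne_zero.2 Nat.card_pos.ne'
  have hH0 : (Nat.card H : ℂ) ≠ 0 := Nat.cast_ne_zero.2 Nat.card_pos.ne'
  have hnu1 : (Nat.card G : ℂ)⁻¹ * ∑ g : G, (one : G → ℂ) (g * g) = 1 := by
    simp [one, Nat.card_eq_fintype_card]
  have hm1 : Cfsg.classInner π (one : G → ℂ) = 1 := by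
    rw [hπdef, Cfsg.Lib.Char.classInner_indFun H _ Cfsg.Lib.Char.isIrrCharacter_one.isClassFunction]
    exact Cfsg.Lib.Char.classInner_irr_self Cfsg.Lib.Char.isIrrCharacter_one
  let Q : Cfsg.IrrCharacter G → Prop := fun χ => Cfsg.classInner π (χ : G → ℂ) ≠ 0 ∧
    (∀ g : G, (starRingEnd ℂ) ((χ : G → ℂ) g) = (χ : G → ℂ) g) ∧
    (Nat.card G : ℂ)⁻¹ * ∑ g : G, (χ : G → ℂ) (g * g) = 1
  have hQ1 : Q one := ⟨by rw [hm1]; exact one_ne_zero, fun g => by simp [one], hnu1⟩
  show Nat.card {χ // Q χ} = 1 ↔ _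
  constructor
  · intro hcard
    have huniq : ∀ χ, Q χ → χ = one := by
      intro χ hχ
      haveI := (Nat.card_eq_one_iff_unique.1 hcard).1
      exact congrArg Subtype.val (Subsingleton.elim (⟨χ, hχ⟩ : {χ // Q χ}) ⟨one, hQ1⟩)
    by_contra hodd
    rw [Nat.not_odd_iff_even, even_iff_two_dvd, Subgroup.index_eq_card] at hodd
    obtain ⟨q, hq⟩ := exists_prime_orderOf_dvd_card' 2 hodd
    obtain ⟨y₀, rfl⟩ := QuotientGroup.mk_surjective q
    have hy0 : y₀ ∉ H.normalCore := fun h => by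
      rw [(QuotientGroup.eq_one_iff y₀).2 h, orderOf_one] at hq
      norm_num at hq
    have hy02 : y₀ * y₀ ∈ H.normalCore := by
      rw [← QuotientGroup.eq_one_iff, QuotientGroup.mk_mul, ← pow_two, ← hq, pow_orderOf_eq_one]
    obtain ⟨b, hb⟩ := not_forall.1 (show ¬ ∀ b : G, b * y₀ * b⁻¹ ∈ H from hy0)
    obtain ⟨y, hy, hyy⟩ : ∃ y : G, y ∉ H ∧ y * y ∈ H := by
      refine ⟨b * y₀ * b⁻¹, hb, ?_⟩
      have h := (show ∀ b : G, b * (y₀ * y₀) * b⁻¹ ∈ H from hy02) b
      rwa [show b * y₀ * b⁻¹ * (b * y₀ * b⁻¹) = b * (y₀ * y₀) * b⁻¹ by group]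
    let D : Subgroup H := (H.comap (MulAut.conj y⁻¹).toMonoidHom).subgroupOf H
    let r : H → H := fun h => Quotient.out (h : H ⧸ D)
    have hr : ∀ h : H, y⁻¹ * (((r h : H) : G)⁻¹ * (h : G)) * y ∈ H := by
      intro h
      have h1 : (r h)⁻¹ * h ∈ D := QuotientGroup.eq.1 (QuotientGroup.out_eq' (h : H ⧸ D))
      simpa [D] using Subgroup.mem_subgroupOf.1 h1
    let Φ : H → {z : G // z ∉ H ∧ z * z ∈ H} := fun h => ⟨(h : G) * y * ((r h : H) : G)⁻¹, by
      refine ⟨fun hmem => hy ?_, ?_⟩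
      · rwa [H.mul_mem_cancel_right (H.inv_mem (r h).2), H.mul_mem_cancel_left h.2] at hmem
      · set s : G := ((r h : H) : G)⁻¹ * (h : G) with hs
        have e : (h : G) * y * ((r h : H) : G)⁻¹ * ((h : G) * y * ((r h : H) : G)⁻¹) =
            (h : G) * ((y * y) * (y⁻¹ * s * y)) * ((r h : H) : G)⁻¹ := by rw [hs]; group
        rw [e]
        exact H.mul_mem (H.mul_mem h.2 (H.mul_mem hyy (hr h))) (H.inv_mem (r h).2)⟩
    have hΦ : Function.Injective Φ := by
      intro a a' h
      have h' : (a : G) * y * ((r a : H) : G)⁻¹ = (a' : G) * y * ((r a' : H) : G)⁻¹ :=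
        congrArg Subtype.val h
      have e : y⁻¹ * ((a : G)⁻¹ * (a' : G)) * y = ((r a : H) : G)⁻¹ * ((r a' : H) : G) := by
        calc y⁻¹ * ((a : G)⁻¹ * (a' : G)) * y
            = y⁻¹ * (a : G)⁻¹ * ((a' : G) * y * ((r a' : H) : G)⁻¹) * ((r a' : H) : G) := by group
          _ = _ := by rw [← h']; group
      have hD : a⁻¹ * a' ∈ D := by
        refine Subgroup.mem_subgroupOf.2 ?_
        simp only [Subgroup.mem_comap, MulEquiv.coe_toMonoidHom, MulAut.conj_apply, inv_inv]
        show y⁻¹ * ((a : G)⁻¹ * (a' : G)) * y ∈ H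
        rw [e]
        exact H.mul_mem (H.inv_mem (r a).2) (r a').2
      have hrr : r a = r a' := congrArg Quotient.out (QuotientGroup.eq.2 hD)
      rw [hrr] at h'
      exact Subtype.ext (mul_right_cancel (mul_right_cancel h'))
    have hcount : 2 * Nat.card H ≤ Nat.card {z : G // z * z ∈ H} := by
      rw [two_mul, ← Nat.card_sum]
      refine Nat.card_le_card_of_injective (Sum.elim
        (fun h : H => (⟨(h : G), H.mul_mem h.2 h.2⟩ : {z : G // z * z ∈ H}))
        (fun h : H => ⟨(Φ h).1, (Φ h).2.2⟩)) ?_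
      rintro (a | a) (b | b) h
      · exact congrArg Sum.inl (Subtype.ext (congrArg Subtype.val h :))
      · exact absurd ((congrArg Subtype.val h : (a : G) = (Φ b).1) ▸ a.2) (Φ b).2.1
      · exact absurd ((congrArg Subtype.val h : (Φ a).1 = (b : G)).symm ▸ b.2) (Φ a).2.1
      · exact congrArg Sum.inr (hΦ (Subtype.ext (congrArg Subtype.val h :)))
    have hS : ∑ g : G, π (g * g) =
        (Nat.card G : ℂ) * (Nat.card {z : G // z * z ∈ H} : ℂ) / (Nat.card H : ℂ) := by
      simp only [hπdef, Cfsg.indFun, ← Finset.mul_sum]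
      rw [Finset.sum_comm]
      have h1 : ∀ x : G, ∑ g : G, Cfsg.extendByZero H (fun _ : H => (1 : ℂ)) (x⁻¹ * (g * g) * x) =
          (Nat.card {z : G // z * z ∈ H} : ℂ) := by
        intro x
        rw [← (Fintype.sum_equiv (MulAut.conj x).toEquiv
          (fun z => Cfsg.extendByZero H (fun _ : H => (1 : ℂ)) (z * z)) _ (fun z => by
            congr 1
            simp only [MulEquiv.toEquiv_eq_coe, EquivLike.coe_coe, MulAut.conj_apply]
            group))]
        have h2 : ∀ z : G, Cfsg.extendByZero H (fun _ : H => (1 : ℂ)) (z * z) =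
            if z * z ∈ H then 1 else 0 := fun z => by
          split_ifs with hz
          · rw [Cfsg.Lib.Char.extendByZero_of_mem _ _ hz]
          · rw [Cfsg.Lib.Char.extendByZero_of_notMem _ _ hz]
        simp only [h2, Finset.sum_boole, Nat.card_eq_fintype_card, Fintype.card_subtype]
      simp only [h1, Finset.sum_const, Finset.card_univ, nsmul_eq_mul, ← Nat.card_eq_fintype_card]
      ring
    have h2le : (2 : ℝ) ≤ ((Nat.card G : ℂ)⁻¹ * ∑ g : G, π (g * g)).re := by
      rw [hS, mul_div_assoc, inv_mul_cancel_left₀ hG0]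
      rw [show ((Nat.card {z : G // z * z ∈ H} : ℂ) / (Nat.card H : ℂ)) =
        (((Nat.card {z : G // z * z ∈ H} : ℝ) / (Nat.card H : ℝ) : ℝ) : ℂ) by push_cast; ring,
        Complex.ofReal_re, le_div_iff₀ (by exact_mod_cast Nat.card_pos)]
      exact_mod_cast hcount
    have hdec : (Nat.card G : ℂ)⁻¹ * ∑ g : G, π (g * g) = ∑ χ : Cfsg.IrrCharacter G,
        Cfsg.classInner π (χ : G → ℂ) * ((Nat.card G : ℂ)⁻¹ * ∑ g : G, (χ : G → ℂ) (g * g)) := by
      conv_lhs => rw [Cfsg.Lib.Char.eq_sum_classInner hπ.isClassFunction]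
      simp only [Finset.sum_apply, Pi.smul_apply, smul_eq_mul, Finset.mul_sum]
      rw [Finset.sum_comm]
      exact Finset.sum_congr rfl fun χ _ => Finset.sum_congr rfl fun g _ => by ring
    rw [hdec, Complex.re_sum, ← Finset.add_sum_erase _ _ (Finset.mem_univ one), hm1, hnu1] at h2le
    have hneg : ∀ χ ∈ Finset.univ.erase one, (Cfsg.classInner π (χ : G → ℂ) *
        ((Nat.card G : ℂ)⁻¹ * ∑ g : G, (χ : G → ℂ) (g * g))).re ≤ 0 := by
      intro χ hχ
      obtain ⟨m, hm⟩ := hπ.exists_nat_classInner χ.2.isCharacter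
      rcases Cfsg.Lib.Char.indicator_cases χ.2 with ⟨-, h⟩ | ⟨hr, h | ⟨h, -⟩⟩
      · simp [h]
      · by_cases h0 : Cfsg.classInner π (χ : G → ℂ) = 0
        · simp [h0]
        · exact absurd (huniq χ ⟨h0, fun g => Complex.conj_eq_iff_im.2 (hr g), by
            rw [h, inv_mul_cancel₀ hG0]⟩) (Finset.ne_of_mem_erase hχ)
      · rw [hm, h, mul_neg, inv_mul_cancel₀ hG0]
        simp
    have := Finset.sum_nonpos hneg
    simp only [mul_one, Complex.one_re] at h2le
    linarith
  · intro hodd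
    refine Nat.card_eq_one_iff_unique.2 ⟨⟨?_⟩, ⟨⟨one, hQ1⟩⟩⟩
    suffices h : ∀ χ, Q χ → χ = one from fun a b => Subtype.ext ((h _ a.2).trans (h _ b.2).symm)
    rintro χ ⟨hm, hreal, -⟩
    let N := H.normalCore
    haveI := Fintype.ofFinite N
    rw [hπdef, Cfsg.Lib.Char.classInner_indFun H _ χ.2.isClassFunction] at hm
    have hres : Cfsg.IsCharacter H (fun h : H => (χ : G → ℂ) h) := χ.2.isCharacter.comp H.subtype
    have hf : Cfsg.IsCharacter H (fun h : H => (χ : G → ℂ) h - 1) := by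
      rw [Cfsg.Lib.Char.isCharacter_iff]
      refine ⟨fun a c => ?_, fun ξ hξ => ?_⟩
      · show (χ : G → ℂ) _ - 1 = (χ : G → ℂ) _ - 1
        congr 1
        exact hres.conj_invariant a c
      · obtain ⟨n, hn⟩ := hres.exists_nat_classInner hξ.isCharacter
        have e : Cfsg.classInner (fun h : H => (χ : G → ℂ) h - 1) ξ = (n : ℂ) -
            Cfsg.classInner (fun _ : H => (1 : ℂ)) ξ := by
          rw [← hn]; exact Cfsg.Lib.Char.classInner_sub_left _ _ _
        rw [e, Cfsg.Lib.Char.classInner_irr Cfsg.Lib.Char.isIrrCharacter_one hξ]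
        split_ifs with he
        · have hn1 : 1 ≤ n := by
            by_contra hlt
            have hn0 : n = 0 := by omega
            apply hm
            rw [← he, hn0, Nat.cast_zero] at hn
            rw [← Cfsg.Lib.Char.classInner_conj_symm, hn, map_zero]
          exact ⟨n - 1, by rw [Nat.cast_sub hn1, Nat.cast_one]⟩
        · exact ⟨n, sub_zero _⟩
    obtain ⟨k, hk⟩ := (hf.comp (Subgroup.inclusion H.normalCore_le)).exists_nat_classInner
      (Cfsg.Lib.Char.isCharacter_one (G := N))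
    have hN1 : Cfsg.classInner (fun n : N => (χ : G → ℂ) n) (fun _ : N => (1 : ℂ)) ≠ 0 := by
      have e : Cfsg.classInner (fun n : N => (χ : G → ℂ) n) (fun _ : N => (1 : ℂ)) = (k : ℂ) + 1 := by
        refine Eq.trans ?_ ((Cfsg.Lib.Char.classInner_add_left _ _ _).trans (congrArg₂ (· + ·) hk
          (Cfsg.Lib.Char.classInner_irr_self (Cfsg.Lib.Char.isIrrCharacter_one (G := N)))))
        congr 1
        funext n
        simp
      rw [e]
      exact Nat.cast_add_one_ne_zero k
    have hcl := Cfsg.Lib.Char.clifford_res N χ.2 Cfsg.Lib.Char.isIrrCharacter_one hN1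
    have hker : ∀ n ∈ N, (χ : G → ℂ) n = (χ : G → ℂ) 1 := by
      intro n hn
      have h1 := congrFun hcl ⟨n, hn⟩
      have h2 := congrFun hcl 1
      simp only [Pi.smul_apply, Finset.sum_apply, OneMemClass.coe_one] at h1 h2
      rw [h1, h2]
      congr 1
      refine Finset.sum_congr rfl fun φ hφ => ?_
      obtain ⟨g, rfl⟩ := (Cfsg.Lib.Char.mem_twistOrbit N).1 hφ
      rfl
    obtain ⟨ψ, hψ, he⟩ := Cfsg.Lib.Char.exists_deflate_irr N χ.2 hker
    haveI := Fintype.ofFinite (G ⧸ N)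
    have h1 := Cfsg.Lib.Char.real_irr_eq_one (Subgroup.index_eq_card N ▸ hodd)
      (⟨ψ, hψ⟩ : Cfsg.IrrCharacter (G ⧸ N)) (fun q => by
        induction q using QuotientGroup.induction_on with | _ x => ?_
        show (ψ x).im = 0
        rw [he]
        exact Complex.conj_eq_iff_im.1 (hreal x))
    exact Subtype.ext (funext fun x => by rw [← he x]; exact congrFun h1 _)

end Cfsg.Agent.S4784
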