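import Cfsg.Statements.S4796
import Cfsg.Agent.Lib.Block.CentralDefect
import Cfsg.Agent.Lib.Solv.FrobeniusBasic
import Mathlib.GroupTheory.SchurZassenhaus
-- import your own Cfsg.Agent.* helpers here

set_option autoImplicit false
open Cfsg
open scoped ComplexConjugate

namespace Cfsg.Agent.S4796

theorem central_degree_bound {C : Type*} [Group C] [Fintype C] (P : Subgroup C)
    (hP : P ≤ Subgroup.center C) (ψ : IrrCharacter C) :
    Nat.card P * charDegree (ψ : C → ℂ) ^ 2 ≤ Nat.card C := by
  classical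
  have h := Cfsg.Lib.Char.classInner_irr_self ψ.2
  rw [Cfsg.Lib.Char.classInner_self, ← Complex.ofReal_one, Complex.ofReal_inj] at h
  have hC : (Nat.card C : ℝ) ≠ 0 := Nat.cast_ne_zero.2 Nat.card_pos.ne'
  rw [inv_mul_eq_one₀ hC] at h
  have hle := Finset.sum_le_sum_of_subset_of_nonneg
    (Finset.subset_univ (Finset.univ.filter fun g : C => g ∈ P))
    (f := fun g => ‖(ψ : C → ℂ) g‖ ^ 2) fun g _ _ => by positivity
  rw [← h, Finset.sum_congr rfl (g := fun _ => (charDegree (ψ : C → ℂ) : ℝ) ^ 2) fun g hg => ?_,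
    Finset.sum_const, nsmul_eq_mul, ← Fintype.card_subtype, ← Nat.card_eq_fintype_card] at hle
  · exact_mod_cast hle
  · obtain ⟨c, hc, hcg⟩ := Cfsg.Lib.Block.exists_central_scalar ψ (hP (Finset.mem_filter.1 hg).2)
    have := hcg 1
    rw [mul_one] at this
    rw [this, norm_mul, Cfsg.Lib.Char.norm_eq_one_of_pow_orderOf hc, one_mul,
      Cfsg.Lib.Block.apply_one_eq_charDegree, Complex.norm_natCast]

/-- Let G be a finite group with a faithful irreducible complex character χ whose codegree #G / χ(1) is a prime p (for a faithful character the kernel is trivial, so the codegree is #G / χ(1)). Then either G is cyclic of order p, or G is a Frobenius group whose Frobenius kernel has order p: some proper non-trivial subgroup H satisfies H ∩ gHg⁻¹ = 1 for every element g outside H, and the set of elements lying in no conjugate of H, together with the identity, has exactly p elements. -/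
theorem result {G : Type*} [Group G] [Finite G] (χ : Cfsg.IrrCharacter G) (hfaith : ∀ g : G, (χ : G → ℂ) g = (χ : G → ℂ) 1 → g = 1) (p : ℕ) (hp : p.Prime) (hcod : Nat.card G = p * Cfsg.charDegree (χ : G → ℂ)) : (IsCyclic G ∧ Nat.card G = p) ∨ ∃ H : Subgroup G, Cfsg.IsFrobeniusComplement H ∧ Nat.card ↥(Cfsg.frobeniusKernel H) = p := by
  classical
  haveI : Fact p.Prime := ⟨hp⟩
  letI : Fintype G := Fintype.ofFinite G
  set d := charDegree (χ : G → ℂ) with hd
  have hd0 : 0 < d := Cfsg.Lib.Block.charDegree_pos χ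
  rcases Nat.eq_or_lt_of_le hd0 with hd1 | hd1
  · left
    have hG : Nat.card G = p := by rw [hcod, ← hd1]; exact mul_one p
    exact ⟨isCyclic_of_prime_card hG, hG⟩
  right
  -- the norm of the degree bounds it by the prime
  have hnorm : (∑ g, ‖(χ : G → ℂ) g‖ ^ 2) = (p * d : ℕ) := by
    have h := Cfsg.Lib.Char.classInner_irr_self χ.2
    rw [Cfsg.Lib.Char.classInner_self, ← Complex.ofReal_one, Complex.ofReal_inj,
      inv_mul_eq_one₀ (Nat.cast_ne_zero.2 Nat.card_pos.ne')] at h
    rw [← hcod]; exact h.symm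
  have hdle : d ≤ p := by
    have h := Finset.single_le_sum (f := fun g : G => ‖(χ : G → ℂ) g‖ ^ 2)
      (fun g _ => by positivity) (Finset.mem_univ (1 : G))
    rw [hnorm, Cfsg.Lib.Block.apply_one_eq_charDegree, Complex.norm_natCast] at h
    have h' : d ^ 2 ≤ p * d := by exact_mod_cast h
    rw [sq] at h'
    exact Nat.le_of_mul_le_mul_right h' hd0
  have hdlt : d < p := by
    rcases Nat.eq_or_lt_of_le hdle with h | h
    · exfalso
      have hG : Nat.card G = p ^ 2 := by rw [hcod, h, sq]
      have h1 : (χ : G → ℂ) 1 = 1 := Cfsg.Lib.Char.degree_eq_one_of_comm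
        (fun a b => IsPGroup.commutative_of_card_eq_prime_sq hG a b) χ.2
      rw [Cfsg.Lib.Block.apply_one_eq_charDegree, Nat.cast_eq_one, ← hd] at h1
      omega
    · exact h
  obtain ⟨P⟩ : Nonempty (Sylow p G) := inferInstance
  have hfac : (Nat.card G).factorization p = 1 := by
    rw [hcod, Nat.factorization_mul hp.ne_zero hd0.ne', Finsupp.add_apply, hp.factorization_self,
      Nat.factorization_eq_zero_of_not_dvd fun h => absurd (Nat.le_of_dvd hd0 h) (by omega), add_zero]
  have hcard : Nat.card (P : Subgroup G) = p := by rw [P.card_eq_multiplicity, hfac, pow_one]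
  have hidx : (P : Subgroup G).index = d := by
    have h := (P : Subgroup G).index_mul_card
    rw [hcard, hcod, mul_comm p] at h
    exact Nat.eq_of_mul_eq_mul_right hp.pos h
  haveI : Subsingleton (Sylow p G) := by
    have h1 : Nat.card (Sylow p G) % p = 1 % p := card_sylow_modEq_one p G
    have h2 : Nat.card (Sylow p G) ≤ d := Nat.le_of_dvd hd0 (hidx ▸ P.card_dvd_index)
    rw [Nat.mod_eq_of_lt (by omega), Nat.mod_eq_of_lt hp.one_lt] at h1
    exact (Nat.card_eq_one_iff_unique.1 h1).1
  haveI : (P : Subgroup G).Normal := P.normal_of_subsingleton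
  -- the normal Sylow subgroup is self-centralizing
  set C := Subgroup.centralizer ((P : Subgroup G) : Set G) with hC
  letI : Fintype C := Fintype.ofFinite C
  have hPC : (P : Subgroup G) ≤ C := by
    haveI : IsCyclic (P : Subgroup G) := isCyclic_of_prime_card hcard
    letI := IsCyclic.commGroup (α := (P : Subgroup G))
    exact fun a ha b hb => congrArg Subtype.val (mul_comm (⟨b, hb⟩ : (P : Subgroup G)) ⟨a, ha⟩)
  have hcen : (P : Subgroup G).subgroupOf C ≤ Subgroup.center C := fun z hz =>
    Subgroup.mem_center_iff.2 fun c => Subtype.ext (c.2 _ (Subgroup.mem_subgroupOf.1 hz)).symm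
  have hsc : Nat.card C = p := by
    refine le_antisymm ?_ (hcard.symm.le.trans (Nat.le_of_dvd Nat.card_pos
      (Subgroup.card_dvd_of_le hPC)))
    set F : ↥C → ℂ := fun c => (χ : G → ℂ) c with hF
    have hFc : IsCharacter ↥C F := χ.2.isCharacter.comp C.subtype
    choose k hk using fun ψ : IrrCharacter C => hFc.exists_nat_classInner ψ.2.isCharacter
    have hsum : ∑ ψ, k ψ * charDegree (ψ : C → ℂ) = d := by
      have h := congrFun (Cfsg.Lib.Char.eq_sum_classInner hFc.isClassFunction) 1
      simp only [Finset.sum_apply, Pi.smul_apply, smul_eq_mul, hk,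
        Cfsg.Lib.Block.apply_one_eq_charDegree] at h
      rw [show F 1 = (d : ℂ) from Cfsg.Lib.Block.apply_one_eq_charDegree χ] at h
      exact_mod_cast h.symm
    have hsq : Nat.card C * ∑ ψ, k ψ ^ 2 ≤ p * d := by
      have h := Cfsg.Lib.Char.classInner_eq_sum (f' := F) hFc.isClassFunction
      rw [Cfsg.Lib.Char.classInner_self] at h
      simp only [hk, map_natCast] at h
      have h' : (Nat.card C : ℝ)⁻¹ * ∑ z, ‖F z‖ ^ 2 = ∑ ψ, (k ψ : ℝ) * (k ψ : ℝ) := by
        exact_mod_cast h
      have h2 : ∑ z : C, ‖F z‖ ^ 2 ≤ (p * d : ℕ) := by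
        rw [← hnorm]
        rw [← Finset.sum_subtype (Finset.univ.filter fun g : G => g ∈ C) (by simp)
          (fun g => ‖(χ : G → ℂ) g‖ ^ 2)]
        exact Finset.sum_le_sum_of_subset_of_nonneg (Finset.subset_univ _) fun g _ _ => by positivity
      have h3 : (Nat.card C : ℝ) * ∑ ψ, (k ψ : ℝ) ^ 2 ≤ (p * d : ℕ) := by
        rw [Finset.sum_congr rfl fun ψ _ => sq (k ψ : ℝ), ← h',
          mul_inv_cancel_left₀ (Nat.cast_ne_zero.2 Nat.card_pos.ne')]
        exact h2
      exact_mod_cast h3
    obtain ⟨ψ₀, -, hmax⟩ := Finset.exists_max_image Finset.univ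
      (fun ψ : IrrCharacter C => charDegree (ψ : C → ℂ)) ⟨⟨_, Cfsg.Lib.Char.isIrrCharacter_one⟩,
        Finset.mem_univ _⟩
    set b := charDegree (ψ₀ : C → ℂ) with hb
    have hb2 : p * b ^ 2 ≤ Nat.card C := by
      have h := central_degree_bound ((P : Subgroup G).subgroupOf C) hcen ψ₀
      rwa [Nat.card_congr (Subgroup.subgroupOfEquivOfLe hPC).toEquiv, hcard] at h
    have hdb : d ≤ (∑ ψ, k ψ ^ 2) * b := by
      rw [← hsum, Finset.sum_mul]
      exact Finset.sum_le_sum fun ψ _ => Nat.mul_le_mul (Nat.le_self_pow two_ne_zero _)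
        (hmax ψ (Finset.mem_univ _))
    have h1 : Nat.card C ≤ p * b := by
      refine Nat.le_of_mul_le_mul_right ?_ hd0
      calc Nat.card C * d ≤ Nat.card C * ((∑ ψ, k ψ ^ 2) * b) := Nat.mul_le_mul_left _ hdb
        _ = (Nat.card C * ∑ ψ, k ψ ^ 2) * b := by ring
        _ ≤ p * d * b := Nat.mul_le_mul_right _ hsq
        _ = p * b * d := by ring
    have h2 : b ≤ 1 := by
      have hb0 : 0 < b := Cfsg.Lib.Block.charDegree_pos ψ₀
      have := Nat.le_of_mul_le_mul_left (hb2.trans h1) hp.pos
      nlinarith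
    calc Nat.card C ≤ p * b := h1
      _ ≤ p * 1 := Nat.mul_le_mul_left _ h2
      _ = p := mul_one p
  have hCP : C = (P : Subgroup G) :=
    (Subgroup.eq_of_le_of_card_ge hPC (by rw [hsc, hcard])).symm
  -- the complement
  obtain ⟨H, hH⟩ := Subgroup.exists_right_complement'_of_coprime (N := (P : Subgroup G))
    (by rw [hcard, hidx]; exact hp.coprime_iff_not_dvd.2 fun h => absurd (Nat.le_of_dvd hd0 h) (by omega))
  have hPbot : (P : Subgroup G) ≠ ⊥ := fun h => by
    rw [h, Subgroup.card_bot] at hcard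
    exact hp.ne_one hcard.symm
  have hHbot : H ≠ ⊥ := fun h => by
    have hh := hH.symm.index_eq_card
    rw [hidx, h, Subgroup.card_bot] at hh
    omega
  have hfrob : IsFrobeniusComplement H :=
    Cfsg.Lib.Solv.isFrobeniusComplement_of_fpf hH hPbot hHbot fun h hh hh1 => by
      refine eq_bot_iff.2 fun z ⟨hz, hzc⟩ => ?_
      by_contra hz1
      have hgen : Subgroup.zpowers z = (P : Subgroup G) :=
        Subgroup.eq_of_le_of_card_ge (Subgroup.zpowers_le.2 hz) (by
          rw [hcard, Nat.card_zpowers]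
          rcases hp.eq_one_or_self_of_dvd (orderOf z) (by
            rw [← hcard, ← Subgroup.orderOf_mk z hz]; exact orderOf_dvd_natCard _) with h1 | h1
          · exact absurd (orderOf_eq_one_iff.1 h1) hz1
          · exact h1.ge)
      have hhC : h ∈ C := by
        rw [hC, Subgroup.mem_centralizer_iff]
        intro w hw
        rw [SetLike.mem_coe, ← hgen, Subgroup.mem_zpowers_iff] at hw
        obtain ⟨j, rfl⟩ := hw
        have hc : Commute z h := Subgroup.mem_centralizer_singleton_iff.1 hzc
        exact (hc.zpow_left j).eq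
      rw [hCP] at hhC
      exact hh1 (hH.disjoint.le_bot ⟨hhC, hh⟩)
  refine ⟨H, hfrob, ?_⟩
  obtain ⟨K, hK, -, hc⟩ := Cfsg.Lib.Solv.frobenius_theorem hfrob
  rw [← hK]
  have h1 : Nat.card (K : Set G) * Nat.card H = Nat.card G := hc.card_mul
  have h2 : Nat.card H = d := by rw [← hidx, hH.symm.index_eq_card]
  rw [h2, hcod] at h1
  exact Nat.eq_of_mul_eq_mul_right hd0 h1

end Cfsg.Agent.S4796
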