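import Cfsg.Statements.S4797
import Cfsg.Agent.Lib.Block.Basic
import Cfsg.Agent.Lib.Char.Linear
import Cfsg.Agent.Lib.Char.Quotient
import Cfsg.Agent.Lib.Char.Formulas
import Mathlib.GroupTheory.Transfer
import Mathlib.GroupTheory.SpecificGroups.Cyclic
import Mathlib.RingTheory.IntegralDomain

set_option autoImplicit false
open Cfsg

namespace Cfsg.Agent.S4797

/-- The codegree of an irreducible complex character χ of a finite group G is [G : ker χ] / χ(1), where ker χ is the set of elements at which χ takes the value χ(1). A non-trivial finite group is perfect if and only if no irreducible complex character of it has prime codegree. -/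
theorem result {G : Type*} [Group G] [Finite G] [Nontrivial G] : commutator G = ⊤ ↔ ∀ χ : Cfsg.IrrCharacter G, ¬ ((Nat.card G / (Nat.card {g : G // (χ : G → ℂ) g = (χ : G → ℂ) 1} * Cfsg.charDegree (χ : G → ℂ)))).Prime := by
  classical
  haveI := Fintype.ofFinite G
  constructor
  · intro hperf χ hprime
    set K := Cfsg.Lib.Char.charKer χ.2.isCharacter with hK
    have hKcard : Nat.card K = Nat.card {g : G // (χ : G → ℂ) g = (χ : G → ℂ) 1} := rfl
    rw [← hKcard] at hprime
    haveI : K.Normal := Cfsg.Lib.Char.charKer_normal χ.2.isCharacter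
    obtain ⟨ψ, hψ, hψe⟩ := Cfsg.Lib.Char.exists_deflate_irr K χ.2 fun n hn => hn
    let ψ' : Cfsg.IrrCharacter (G ⧸ K) := ⟨ψ, hψ⟩
    haveI := Fintype.ofFinite (G ⧸ K)
    obtain ⟨d, hd0, hd⟩ := χ.2.exists_degree
    rw [Cfsg.Lib.Block.charDegree_eq_of_apply_one hd] at hprime
    have hd1 : ψ 1 = (d : ℂ) := by rw [← hd, ← hψe 1]; rfl
    have hdvd : d ∣ Nat.card (G ⧸ K) := by
      have := Cfsg.Lib.Char.charDegree_dvd_card hψ
      rwa [Cfsg.Lib.Block.charDegree_eq_of_apply_one hd1] at this
    set q := Nat.card G / (Nat.card K * d) with hq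
    obtain ⟨c, hc⟩ := hdvd
    have hGK : Nat.card G = Nat.card (G ⧸ K) * Nat.card K :=
      K.card_eq_card_quotient_mul_card_subgroup
    have hqc : q = c := by
      rw [hq, hGK, hc, mul_comm (Nat.card K) d, mul_right_comm,
        Nat.mul_div_cancel_left _ (Nat.mul_pos hd0 Nat.card_pos)]
    haveI : Fact q.Prime := ⟨hprime⟩
    have hperf' : commutator (G ⧸ K) = ⊤ := by
      have h := Subgroup.map_commutator (G := G) (G' := G ⧸ K) ⊤ ⊤ (QuotientGroup.mk' K)
      rw [← commutator_def, hperf,
        Subgroup.map_top_of_surjective _ (QuotientGroup.mk'_surjective K)] at h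
      rw [commutator_def]
      exact h.symm
    -- `d < q`
    have hlt : d < q := by
      have hne : ψ ≠ fun _ => 1 := by
        intro h
        have hall : ∀ g : G, g ∈ K := fun g => by
          rw [hK, Cfsg.Lib.Char.mem_charKer, ← hψe g, ← hψe 1, h]
        have hcard : Nat.card (G ⧸ K) = 1 := by
          rw [← Subgroup.index_eq_card, Subgroup.index_eq_one, eq_top_iff]
          exact fun g _ => hall g
        have hc1 : c = 1 := Nat.eq_one_of_mul_eq_one_left (hc.symm.trans hcard)
        exact hprime.ne_one (hqc.trans hc1)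
      let one : Cfsg.IrrCharacter (G ⧸ K) := ⟨fun _ => 1, Cfsg.Lib.Char.isIrrCharacter_one⟩
      have hsum := Cfsg.Lib.Char.sum_sq_degree (G := G ⧸ K)
      rw [Finset.sum_congr rfl (g := fun η : Cfsg.IrrCharacter (G ⧸ K) =>
          ((Cfsg.charDegree (η : (G ⧸ K) → ℂ) ^ 2 : ℕ) : ℂ)) fun η _ => by
          rw [Cfsg.Lib.Block.apply_one_eq_charDegree η, Nat.cast_pow],
        ← Nat.cast_sum, Nat.cast_inj, hc] at hsum
      have h2 := Finset.add_le_sum (f := fun η : Cfsg.IrrCharacter (G ⧸ K) =>
          Cfsg.charDegree (η : (G ⧸ K) → ℂ) ^ 2) (fun _ _ => Nat.zero_le _)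
        (Finset.mem_univ one) (Finset.mem_univ ψ') (fun h => hne (congrArg Subtype.val h).symm)
      rw [hsum] at h2
      simp only [ψ', one, Cfsg.Lib.Block.charDegree_eq_of_apply_one hd1,
        Cfsg.Lib.Block.charDegree_eq_of_apply_one
          (χ := fun _ : G ⧸ K => (1 : ℂ)) (n := 1) (by simp)] at h2
      rw [hqc]
      by_contra hle
      have := Nat.mul_le_mul_left d (not_lt.1 hle)
      nlinarith
    -- the Sylow subgroup of order `q`
    obtain ⟨Q⟩ : Nonempty (Sylow q (G ⧸ K)) := inferInstance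
    have hcQ : Nat.card (Q : Subgroup (G ⧸ K)) = q := by
      rw [Q.card_eq_multiplicity, hc, ← hqc, Nat.factorization_mul hd0.ne' hprime.ne_zero,
        Finsupp.add_apply, Nat.factorization_eq_zero_of_not_dvd
          (fun h => absurd (Nat.le_of_dvd hd0 h) (not_le.2 hlt)), zero_add,
        hprime.factorization_self, pow_one]
    have hidx : (Q : Subgroup (G ⧸ K)).index = d := by
      have h := (Q : Subgroup (G ⧸ K)).card_mul_index
      rw [hcQ, hc, ← hqc, mul_comm d q] at h
      exact Nat.eq_of_mul_eq_mul_left hprime.pos h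
    have hone : Nat.card (Sylow q (G ⧸ K)) = 1 := by
      have h1 : Nat.card (Sylow q (G ⧸ K)) ≤ d :=
        Nat.le_of_dvd hd0 (hidx ▸ Q.card_dvd_index)
      have h2 := card_sylow_modEq_one q (G ⧸ K)
      rw [Nat.ModEq, Nat.mod_eq_of_lt (lt_of_le_of_lt h1 hlt),
        Nat.mod_eq_of_lt hprime.one_lt] at h2
      exact h2
    haveI : Subsingleton (Sylow q (G ⧸ K)) := (Nat.card_eq_one_iff_unique.1 hone).1
    haveI hQn : (Q : Subgroup (G ⧸ K)).Normal := Q.normal_of_subsingleton
    haveI : IsCyclic (Q : Subgroup (G ⧸ K)) := isCyclic_of_prime_card hcQ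
    have hcen : Subgroup.normalizer (Q : Set (G ⧸ K)) ≤
        Subgroup.centralizer (Q : Set (G ⧸ K)) := by
      let f := (IsCyclic.mulAutMulEquiv (Q : Subgroup (G ⧸ K))).toMonoidHom.comp
        (MulAut.conjNormal (H := (Q : Subgroup (G ⧸ K))))
      intro x _
      have hx : x ∈ f.ker := Abelianization.commutator_subset_ker f (hperf' ▸ Subgroup.mem_top x)
      rw [MonoidHom.mem_ker, MonoidHom.comp_apply, MulEquiv.coe_toMonoidHom,
        EmbeddingLike.map_eq_one_iff] at hx
      rw [Subgroup.mem_centralizer_iff]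
      intro y hy
      have h3 := congrArg (fun φ : MulAut (Q : Subgroup (G ⧸ K)) =>
        (φ ⟨y, hy⟩ : G ⧸ K)) hx
      simp only [MulAut.conjNormal_apply, MulAut.one_apply] at h3
      exact (mul_inv_eq_iff_eq_mul.1 h3).symm
    haveI : IsMulCommutative (Q : Subgroup (G ⧸ K)) := inferInstance
    open scoped IsMulCommutative in
    have hker : commutator (G ⧸ K) ≤ (MonoidHom.transferSylow Q hcen).ker :=
      Abelianization.commutator_subset_ker _
    rw [hperf', top_le_iff] at hker
    have hcompl := MonoidHom.ker_transferSylow_isComplement' Q hcen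
    rw [hker, Subgroup.isComplement'_top_left] at hcompl
    rw [hcompl, Subgroup.card_bot] at hcQ
    exact hprime.ne_one hcQ.symm
  · intro h
    by_contra hne
    have hcard : 1 < Nat.card (G →* ℂˣ) := by
      rw [Cfsg.Lib.Char.card_linear_eq_index]
      have h0 := (commutator G).index_ne_zero_of_finite
      have h1 : (commutator G).index ≠ 1 := fun e => hne (Subgroup.index_eq_one.1 e)
      omega
    haveI : Finite (G →* ℂˣ) := Nat.finite_of_card_ne_zero (by omega)
    haveI := Finite.one_lt_card_iff_nontrivial.1 hcard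
    obtain ⟨φ, hφ⟩ := exists_ne (1 : G →* ℂˣ)
    have hord : orderOf φ ≠ 1 := fun e => hφ (orderOf_eq_one_iff.1 e)
    obtain ⟨q, hqp, hqd⟩ := Nat.exists_prime_and_dvd hord
    set ψ := φ ^ (orderOf φ / q) with hψ
    have hψo : orderOf ψ = q := orderOf_pow_orderOf_div (orderOf_pos φ).ne' hqd
    have hψq : ∀ g, ψ g ^ q = 1 := fun g => by
      rw [← MonoidHom.pow_apply, ← hψo, pow_orderOf_eq_one]; rfl
    have hfin : Finite ψ.range := Finite.of_surjective ψ.rangeRestrict ψ.rangeRestrict_surjective
    haveI : IsCyclic ψ.range :=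
      isCyclic_of_subgroup_isDomain ((Units.coeHom ℂ).comp ψ.range.subtype)
        (Units.val_injective.comp Subtype.val_injective)
    obtain ⟨w, hw⟩ := IsCyclic.exists_generator (α := ψ.range)
    have hcr : Nat.card ψ.range = q := by
      rw [← orderOf_eq_card_of_forall_mem_zpowers hw]
      obtain ⟨g, hg⟩ := w.2
      have hdvd : orderOf w ∣ q := by
        rw [orderOf_dvd_iff_pow_eq_one]
        apply Subtype.ext
        rw [SubmonoidClass.coe_pow, ← hg, hψq, OneMemClass.coe_one]
      refine ((Nat.dvd_prime hqp).1 hdvd).resolve_left fun e => ?_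
      rw [orderOf_eq_one_iff] at e
      have : ψ = 1 := MonoidHom.ext fun g => by
        obtain ⟨k, hk⟩ := Subgroup.mem_zpowers_iff.1 (hw ⟨ψ g, g, rfl⟩)
        rw [e, one_zpow] at hk
        exact (congrArg Subtype.val hk).symm
      rw [this, orderOf_one] at hψo
      exact hqp.ne_one hψo.symm
    let χ : Cfsg.IrrCharacter G := (Cfsg.Lib.Char.linearCharEquiv ψ).1
    have hval : ∀ g, (χ : G → ℂ) g = (ψ g : ℂ) := fun g => rfl
    refine h χ ?_
    have hdeg : Cfsg.charDegree (χ : G → ℂ) = 1 :=
      Cfsg.Lib.Block.charDegree_eq_of_apply_one (by rw [hval, map_one]; simp)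
    rw [hdeg, mul_one]
    have hk : Nat.card {g : G // (χ : G → ℂ) g = (χ : G → ℂ) 1} = Nat.card ψ.ker :=
      Nat.card_congr (Equiv.subtypeEquivRight fun g => by
        rw [hval, hval, map_one, MonoidHom.mem_ker]
        exact ⟨fun h => Units.ext h, fun h => by rw [h]⟩)
    rw [hk, ψ.ker.card_eq_card_quotient_mul_card_subgroup,
      Nat.mul_div_cancel _ Nat.card_pos,
      Nat.card_congr (QuotientGroup.quotientKerEquivRange ψ).toEquiv, hcr]
    exact hqp

end Cfsg.Agent.S4797
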