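import Cfsg.Statements.S4798
import Cfsg.Agent.Lib.Char.Subconstituents
import Cfsg.Agent.Lib.Char.Formulas
import Mathlib.GroupTheory.Sylow

set_option autoImplicit false
open Cfsg Cfsg.Lib.Char

namespace Cfsg.Agent.S4798

/-- Let p be a prime and χ a faithful irreducible complex character of the finite group G (χ(g) = χ(1) only for g = 1), so that its codegree is #G / χ(1). Then #G / χ(1) is a power of p if and only if χ is induced from a character of a Sylow p-subgroup of G. -/
theorem result {G : Type*} [Group G] [Fintype G] (p : ℕ) [Fact p.Prime] (χ : Cfsg.IrrCharacter G) (hfaith : ∀ g : G, (χ : G → ℂ) g = (χ : G → ℂ) 1 → g = 1) : (∃ k : ℕ, Nat.card G = p ^ k * Cfsg.charDegree (χ : G → ℂ)) ↔ ∃ (P : Sylow p G) (θ : ↥(P : Subgroup G) → ℂ), Cfsg.IsCharacter ↥(P : Subgroup G) θ ∧ (χ : G → ℂ) = Cfsg.indFun (P : Subgroup G) θ := by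
  classical
  have hp : p.Prime := Fact.out
  set n := charDegree (χ : G → ℂ) with hn
  have hn1 : (χ : G → ℂ) 1 = (n : ℂ) := χ.2.apply_one_eq_charDegree
  constructor
  · rintro ⟨k, hk⟩
    obtain ⟨P⟩ := (inferInstance : Nonempty (Sylow p G))
    have hPc : Nat.card ↥(P : Subgroup G) = p ^ (Nat.card G).factorization p :=
      P.card_eq_multiplicity
    have hmul := Subgroup.card_mul_index (P : Subgroup G)
    set a := (Nat.card G).factorization p
    have hm : ¬ p ∣ (P : Subgroup G).index := P.not_dvd_index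
    rw [hPc, hk] at hmul
    have hka : k ≤ a := by
      have h1 : p ^ k ∣ p ^ a := (Nat.Coprime.pow_left k
        (hp.coprime_iff_not_dvd.mpr hm)).dvd_of_dvd_mul_right
        (hmul ▸ Dvd.intro n rfl)
      exact (Nat.pow_dvd_pow_iff_le_right hp.one_lt).mp h1
    have hndeg : n = p ^ (a - k) * (P : Subgroup G).index := by
      apply Nat.eq_of_mul_eq_mul_left (pow_pos hp.pos k)
      rw [← hmul, ← mul_assoc, ← pow_add, Nat.add_sub_cancel' hka]
    have hres : IsCharacter ↥(P : Subgroup G) fun x : ↥(P : Subgroup G) => (χ : G → ℂ) x :=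
      χ.2.isCharacter.comp (P : Subgroup G).subtype
    obtain ⟨θ, hθc, hθd⟩ : ∃ θ : IrrCharacter ↥(P : Subgroup G),
        classInner (fun x : ↥(P : Subgroup G) => (χ : G → ℂ) x) (θ : ↥(P : Subgroup G) → ℂ) ≠ 0 ∧
        charDegree (θ : ↥(P : Subgroup G) → ℂ) ≤ p ^ (a - k) := by
      by_contra hcon
      push Not at hcon
      choose m hm' using fun φ : IrrCharacter ↥(P : Subgroup G) =>
        hres.exists_nat_classInner φ.2.isCharacter
      have hexp := congrFun (eq_sum_classInner hres.isClassFunction) 1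
      simp only [Finset.sum_apply, Pi.smul_apply, smul_eq_mul, hm', OneMemClass.coe_one] at hexp
      rw [hn1, Finset.sum_congr rfl fun φ _ => by
        rw [φ.2.apply_one_eq_charDegree, ← Nat.cast_mul]] at hexp
      rw [← Nat.cast_sum] at hexp
      have hsum : n = _ := Nat.cast_injective hexp
      have hdvd : p ^ (a - k + 1) ∣ n := by
        rw [hsum]
        refine Finset.dvd_sum fun φ _ => ?_
        by_cases h0 : m φ = 0
        · simp [h0]
        have hlt := hcon φ (by rw [hm']; exact_mod_cast h0)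
        obtain ⟨i, -, hi⟩ := (Nat.dvd_prime_pow hp).mp (hPc ▸ charDegree_dvd_card φ.2)
        rw [hi] at hlt ⊢
        have : a - k < i := (Nat.pow_lt_pow_iff_right hp.one_lt).mp hlt
        exact Dvd.dvd.mul_left (pow_dvd_pow p this) _
      rw [hndeg, pow_succ] at hdvd
      exact hm (Nat.dvd_of_mul_dvd_mul_left (pow_pos hp.pos _) hdvd)
    refine ⟨P, θ, θ.2.isCharacter, ?_⟩
    have hind := isCharacter_indFun (P : Subgroup G) θ.2.isCharacter
    have hne : classInner (indFun (P : Subgroup G) (θ : ↥(P : Subgroup G) → ℂ)) (χ : G → ℂ) ≠ 0 := by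
      rw [classInner_indFun _ _ χ.2.isClassFunction, ← classInner_conj_symm]
      exact fun e => hθc ((map_eq_zero _).mp e)
    refine (eq_of_constituent_of_degree hind χ.2 hne ?_).symm
    rw [indFun_apply_one, θ.2.apply_one_eq_charDegree, hn1]
    have hle := degree_le_of_constituent χ.2 hind hne
    rw [indFun_apply_one, θ.2.apply_one_eq_charDegree, hn1, ← Nat.cast_mul, Complex.natCast_re,
      Complex.natCast_re, Nat.cast_le] at hle
    rw [← Nat.cast_mul, Nat.cast_inj]
    refine le_antisymm ?_ hle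
    calc (P : Subgroup G).index * charDegree (θ : ↥(P : Subgroup G) → ℂ)
        ≤ (P : Subgroup G).index * p ^ (a - k) := Nat.mul_le_mul_left _ hθd
      _ = n := by rw [hndeg, mul_comm]
  · rintro ⟨P, θ, hθ, he⟩
    obtain ⟨d, hd⟩ := hθ.exists_degree
    have hnd : n = (P : Subgroup G).index * d := by
      have h := congrFun he 1
      rw [indFun_apply_one, hd, hn1, ← Nat.cast_mul] at h
      exact_mod_cast h
    have hdvd : n ∣ Nat.card G := charDegree_dvd_card χ.2
    have hPc : Nat.card ↥(P : Subgroup G) = p ^ (Nat.card G).factorization p :=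
      P.card_eq_multiplicity
    have hmul := Subgroup.card_mul_index (P : Subgroup G)
    rw [hnd, ← hmul, mul_comm (Nat.card ↥(P : Subgroup G))] at hdvd
    have hdP := Nat.dvd_of_mul_dvd_mul_left
      (Nat.pos_of_ne_zero Subgroup.index_ne_zero_of_finite) hdvd
    rw [hPc] at hdP
    obtain ⟨i, hi, hi'⟩ := (Nat.dvd_prime_pow hp).mp hdP
    refine ⟨(Nat.card G).factorization p - i, ?_⟩
    generalize (Nat.card G).factorization p = a at hPc hi ⊢
    rw [← hmul, hPc, hnd, hi', mul_left_comm, ← pow_add, Nat.sub_add_cancel hi, mul_comm]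

end Cfsg.Agent.S4798
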