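import Cfsg.Statements.S4801
import Cfsg.Agent.Lib.Char.Quotient
import Cfsg.Agent.Lib.Char.Formulas
import Mathlib.GroupTheory.Index

set_option autoImplicit false
open Cfsg Cfsg.Lib.Char

namespace Cfsg.Agent.S4801

/-- The kernel index of an irreducible character is a multiple of its degree. -/
theorem charDegree_dvd_index {G : Type*} [Group G] [Finite G] (ψ : IrrCharacter G) :
    Nat.card {g : G // (ψ : G → ℂ) g = (ψ : G → ℂ) 1} * charDegree (ψ : G → ℂ) ∣ Nat.card G := by
  set K := charKer ψ.2.isCharacter with hK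
  haveI : K.Normal := charKer_normal _
  obtain ⟨φ, hφ, hv⟩ := exists_deflate_irr K ψ.2 (fun n hn => (mem_charKer _).mp hn)
  have hd : charDegree φ = charDegree (ψ : G → ℂ) := by
    have : φ 1 = (ψ : G → ℂ) 1 := hv 1
    unfold charDegree
    rw [this]
  have h := charDegree_dvd_card hφ
  rw [hd] at h
  have hcard : Nat.card {g : G // (ψ : G → ℂ) g = (ψ : G → ℂ) 1} = Nat.card K :=
    Nat.card_congr (Equiv.subtypeEquivRight fun g => (mem_charKer ψ.2.isCharacter).symm)
  rw [hcard, ← Subgroup.card_mul_index K, Subgroup.index_eq_card]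
  exact Nat.mul_dvd_mul_left _ h

/-- The codegree [G : ker χ] / χ(1). Let S be a finite simple group and G a finite group such that every codegree of an irreducible character of S is a codegree of an irreducible character of G. Then the order of S divides the order of G. -/
theorem result {S : Type*} [Group S] [Finite S] (hS : IsSimpleGroup S) {G : Type*} [Group G] [Finite G] (hsub : ∀ χ : Cfsg.IrrCharacter S, ∃ ψ : Cfsg.IrrCharacter G, (Nat.card S / (Nat.card {g : S // (χ : S → ℂ) g = (χ : S → ℂ) 1} * Cfsg.charDegree (χ : S → ℂ))) = (Nat.card G / (Nat.card {g : G // (ψ : G → ℂ) g = (ψ : G → ℂ) 1} * Cfsg.charDegree (ψ : G → ℂ)))) : Nat.card S ∣ Nat.card G := by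
  classical
  haveI := Fintype.ofFinite S
  rw [← Nat.factorization_prime_le_iff_dvd Nat.card_pos.ne' Nat.card_pos.ne']
  intro q hq
  haveI := Fact.mk hq
  by_cases hqS : q ∣ Nat.card S
  swap
  · rw [Nat.factorization_eq_zero_of_not_dvd hqS]
    exact Nat.zero_le _
  obtain ⟨χ, hχ1, hχd⟩ : ∃ χ : IrrCharacter S, (χ : S → ℂ) ≠ (fun _ => 1) ∧
      ¬ q ∣ charDegree (χ : S → ℂ) := by
    by_contra hcon
    push Not at hcon
    let one : IrrCharacter S := ⟨fun _ => 1, isIrrCharacter_one⟩
    have hsum : ∑ χ : IrrCharacter S, charDegree (χ : S → ℂ) ^ 2 = Nat.card S := by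
      have h := sum_sq_degree (G := S)
      rw [Finset.sum_congr rfl fun (χ : IrrCharacter S) _ => by
        rw [χ.2.apply_one_eq_charDegree]] at h
      exact_mod_cast h
    rw [← Finset.add_sum_erase _ _ (Finset.mem_univ one)] at hsum
    have hrest : q ∣ ∑ χ ∈ Finset.univ.erase one, charDegree (χ : S → ℂ) ^ 2 :=
      Finset.dvd_sum fun χ hχ => dvd_pow (hcon χ fun h =>
        Finset.ne_of_mem_erase hχ (Subtype.ext h)) two_ne_zero
    have hone : charDegree (one : S → ℂ) = 1 := by simp [one, charDegree]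
    rw [hone, one_pow] at hsum
    rw [← hsum] at hqS
    exact hq.not_dvd_one ((Nat.dvd_add_left hrest).mp hqS)
  have hker : charKer χ.2.isCharacter = ⊥ := by
    rcases hS.eq_bot_or_eq_top_of_normal _ (charKer_normal χ.2.isCharacter) with h | h
    · exact h
    exfalso
    apply hχ1
    have hconst : (χ : S → ℂ) = fun _ => (χ : S → ℂ) 1 := funext fun g =>
      (mem_charKer χ.2.isCharacter).mp (h ▸ Subgroup.mem_top g)
    have hnorm := classInner_irr_self χ.2
    rw [hconst, classInner_self] at hnorm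
    have hd : charDegree (χ : S → ℂ) = 1 := by
      rw [χ.2.apply_one_eq_charDegree] at hnorm
      simp only [map_natCast, Finset.sum_const, Finset.card_univ, nsmul_eq_mul] at hnorm
      rw [← Nat.card_eq_fintype_card] at hnorm
      have hc : (Nat.card S : ℂ) ≠ 0 := card_cast_ne_zero
      field_simp at hnorm
      norm_cast at hnorm
      nlinarith [χ.2.charDegree_pos]
    rw [hconst, χ.2.apply_one_eq_charDegree, hd, Nat.cast_one]
  have hcard : Nat.card {g : S // (χ : S → ℂ) g = (χ : S → ℂ) 1} = 1 := by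
    rw [Nat.card_congr (Equiv.subtypeEquivRight fun g =>
      (mem_charKer χ.2.isCharacter).symm.trans (by rw [hker, Subgroup.mem_bot] :
        g ∈ charKer χ.2.isCharacter ↔ g = 1))]
    simp
  obtain ⟨ψ, hψ⟩ := hsub χ
  rw [hcard, one_mul] at hψ
  have h1 : Nat.card S / charDegree (χ : S → ℂ) ∣ Nat.card G :=
    hψ ▸ Nat.div_dvd_of_dvd (charDegree_dvd_index ψ)
  have h2 := charDegree_dvd_card χ.2
  have h3 : q ^ (Nat.card S).factorization q ∣ Nat.card S / charDegree (χ : S → ℂ) := by
    refine (Nat.Coprime.pow_left _ (hq.coprime_iff_not_dvd.mpr hχd)).dvd_of_dvd_mul_right ?_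
    rw [Nat.div_mul_cancel h2]
    exact Nat.ordProj_dvd _ _
  exact (hq.pow_dvd_iff_le_factorization Nat.card_pos.ne').mp (h3.trans h1)

end Cfsg.Agent.S4801
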