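import Cfsg.Statements.S4802
import Cfsg.Agent.Lib.Block.Principal
import Cfsg.Agent.Lib.Char.Orthogonality

set_option autoImplicit false
open Cfsg

namespace Cfsg.Agent.S4802

/-- Let N < M be normal subgroups of the finite group G and g ∈ M ∖ N. Then the conjugacy class of g is exactly M ∖ N if and only if every irreducible complex character of G whose kernel contains N takes the same value at all elements of M ∖ N, and every irreducible complex character of G whose kernel does not contain N vanishes at g. -/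
theorem result {G : Type*} [Group G] [Finite G] (N M : Subgroup G) [N.Normal] [M.Normal] (hNM : N < M) (g : G) (hgM : g ∈ M) (hgN : g ∉ N) : {h : G | IsConj g h} = (M : Set G) \ (N : Set G) ↔ ((∀ χ : Cfsg.IrrCharacter G, (∀ x ∈ N, (χ : G → ℂ) x = (χ : G → ℂ) 1) → ∀ x ∈ M, x ∉ N → ∀ y ∈ M, y ∉ N → (χ : G → ℂ) x = (χ : G → ℂ) y) ∧ (∀ χ : Cfsg.IrrCharacter G, (∃ x ∈ N, (χ : G → ℂ) x ≠ (χ : G → ℂ) 1) → (χ : G → ℂ) g = 0)) := by
  classical
  haveI := Fintype.ofFinite G
  constructor
  · intro hcls
    refine ⟨fun χ _ x hxM hxN y hyM hyN => ?_, fun χ hχ => ?_⟩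
    · have hx : IsConj g x := (Set.ext_iff.1 hcls x).2 ⟨hxM, hxN⟩
      have hy : IsConj g y := (Set.ext_iff.1 hcls y).2 ⟨hyM, hyN⟩
      obtain ⟨c, hc⟩ := isConj_iff.1 (hx.symm.trans hy)
      rw [← hc]
      exact (χ.2.isClassFunction _ _).symm
    · have hzero : ∀ (K : Subgroup G) [K.Normal], (∃ x ∈ K, (χ : G → ℂ) x ≠ (χ : G → ℂ) 1) →
          ∑ x ∈ Finset.univ.filter (fun x => x ∈ K), (χ : G → ℂ) x = 0 := by
        intro K _ hK
        by_contra hne
        haveI := Fintype.ofFinite K
        have hne' : ∑ᶠ q : K, (χ : G → ℂ) q ≠ 0 := by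
          rw [finsum_eq_sum_of_fintype]
          rwa [Finset.sum_subtype (Finset.univ.filter (fun x => x ∈ K)) (p := fun x => x ∈ K)
            (by simp)] at hne
        obtain ⟨ψ, hψ, hψc⟩ :=
          Cfsg.Lib.Block.exists_trivial_on_of_classInner_ne (Q := K) χ.2.isClassFunction hne'
        obtain rfl : χ = ψ := Subtype.ext (by
          by_contra h
          exact hψc (Cfsg.Lib.Char.classInner_irr_ne χ.2 ψ.2 h))
        obtain ⟨x, hx, hxne⟩ := hK
        exact hxne (hψ x hx)
      obtain ⟨x, hx, hxne⟩ := hχ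
      have h1 := hzero N ⟨x, hx, hxne⟩
      have h2 := hzero M ⟨x, hNM.le hx, hxne⟩
      rw [← Finset.sum_filter_add_sum_filter_not (Finset.univ.filter (fun x => x ∈ M))
        (fun x => x ∈ N), Finset.filter_filter, Finset.filter_filter] at h2
      rw [show Finset.univ.filter (fun x => x ∈ M ∧ x ∈ N) =
        Finset.univ.filter (fun x => x ∈ N) from by
          ext y; simpa using fun hy => hNM.le hy, h1, zero_add,
        Finset.sum_congr rfl (g := fun _ => (χ : G → ℂ) g) fun y hy => by
          obtain ⟨c, hc⟩ := isConj_iff.1 ((Set.ext_iff.1 hcls y).2 (Finset.mem_filter.1 hy).2)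
          rw [← hc]
          exact χ.2.isClassFunction _ _,
        Finset.sum_const, nsmul_eq_mul, mul_eq_zero] at h2
      refine h2.resolve_left ?_
      rw [Nat.cast_eq_zero]
      exact Finset.card_ne_zero_of_mem (a := g)
        (Finset.mem_filter.2 ⟨Finset.mem_univ _, hgM, hgN⟩)
  · rintro ⟨h1, h2⟩
    ext y
    constructor
    · intro hy
      obtain ⟨c, hc⟩ := isConj_iff.1 hy
      rw [← hc]
      refine ⟨Subgroup.Normal.conj_mem inferInstance g hgM c, fun hN => hgN ?_⟩
      have := Subgroup.Normal.conj_mem inferInstance _ hN c⁻¹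
      simpa [mul_assoc] using this
    · rintro ⟨hyM, hyN⟩
      show IsConj g y
      by_contra hne
      have key : ∀ χ : Cfsg.IrrCharacter G,
          (χ : G → ℂ) g * starRingEnd ℂ ((χ : G → ℂ) y) =
          (χ : G → ℂ) g * starRingEnd ℂ ((χ : G → ℂ) g) := fun χ => by
        by_cases hk : ∀ x ∈ N, (χ : G → ℂ) x = (χ : G → ℂ) 1
        · rw [h1 χ hk y hyM hyN g hgM hgN]
        · simp only [not_forall] at hk
          obtain ⟨x, hx, hxne⟩ := hk
          rw [h2 χ ⟨x, hx, hxne⟩, zero_mul, zero_mul]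
      have ho := Cfsg.Lib.Char.column_orthogonality g y
      rw [if_neg hne, Finset.sum_congr rfl fun χ _ => key χ,
        Cfsg.Lib.Char.column_orthogonality g g, if_pos (IsConj.refl g), Nat.cast_eq_zero] at ho
      exact Nat.card_pos.ne' ho

end Cfsg.Agent.S4802
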