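import Cfsg.Statements.S4805
import Cfsg.Agent.Lib.FPF.LoneSolvable
import Cfsg.Agent.Lib.Char.Linear
import Cfsg.Agent.Lib.Char.Formulas
import Cfsg.Agent.Lib.Block.Basic
import Mathlib.GroupTheory.FiniteAbelian.Duality

set_option autoImplicit false
open Cfsg

namespace Cfsg.Agent.S4805

set_option linter.style.haveILetI false
open Cfsg.Lib.Char
open scoped ComplexConjugate commutatorElement

universe u

variable {G : Type u} [Group G] [Finite G]

theorem degree_data (ψ : IrrCharacter G) :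
    ∃ n : ℕ, 0 < n ∧ (ψ : G → ℂ) 1 = n ∧ charDegree (ψ : G → ℂ) = n := by
  obtain ⟨n, h0, hn⟩ := ψ.2.exists_degree
  refine ⟨n, h0, hn, ?_⟩
  exact Cfsg.Lib.Block.charDegree_eq_of_apply_one hn

theorem exists_linear_ne_one {x : G} (hx : x ∉ _root_.commutator G) : ∃ l : G →* ℂˣ, l x ≠ 1 := by
  haveI : NeZero (Monoid.exponent (Abelianization G)) := ⟨Monoid.exponent_ne_zero_of_finite⟩
  have h : Abelianization.of x ≠ 1 := fun h =>
    hx ((QuotientGroup.eq_one_iff (N := _root_.commutator G) x).mp h)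
  obtain ⟨φ, hφ⟩ := CommGroup.exists_apply_ne_one_of_hasEnoughRootsOfUnity (Abelianization G) ℂ h
  exact ⟨φ.comp Abelianization.of, hφ⟩

theorem linear_apply_of_mem {x : G} (hx : x ∈ _root_.commutator G) (l : G →* ℂˣ) : l x = 1 :=
  Abelianization.commutator_subset_ker l hx

variable (g : G) (χ : IrrCharacter G) (hχ1 : charDegree (χ : G → ℂ) ≠ 1) (hχg : (χ : G → ℂ) g ≠ 0)
  (hother : ∀ ψ : IrrCharacter G, charDegree (ψ : G → ℂ) ≠ 1 → ψ ≠ χ → (ψ : G → ℂ) g = 0)

include hχ1 in
theorem chi_one_ne_one : (χ : G → ℂ) 1 ≠ 1 := fun h => by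
  obtain ⟨n, -, hn, hd⟩ := degree_data χ
  rw [hn] at h
  exact hχ1 (hd.trans (by exact_mod_cast h))

include hχ1 hχg hother in
theorem twist (l : G →* ℂˣ) : ((χ : G → ℂ) * fun x => (l x : ℂ)) = (χ : G → ℂ) := by
  by_contra hne
  let ψ : IrrCharacter G := ⟨_, isIrrCharacter_mul_linear χ.2 l⟩
  have h1 : (ψ : G → ℂ) 1 = (χ : G → ℂ) 1 := by show (χ : G → ℂ) 1 * (l 1 : ℂ) = _; simp
  have h2 : charDegree (ψ : G → ℂ) ≠ 1 := by
    unfold charDegree; rw [h1]; exact hχ1
  have h3 := hother ψ h2 fun e => hne (congrArg Subtype.val e)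
  exact hχg ((mul_eq_zero.mp h3).resolve_right (l g).ne_zero)

include hχ1 hχg hother in
theorem mem_of_apply_ne {x : G} (hx : (χ : G → ℂ) x ≠ 0) : x ∈ _root_.commutator G := by
  by_contra hx'
  obtain ⟨l, hl⟩ := exists_linear_ne_one hx'
  have h := congrFun (twist g χ hχ1 hχg hother l) x
  rw [Pi.mul_apply, mul_eq_left₀ hx] at h
  exact hl (Units.ext h)

include hother in
theorem column [Fintype G] [Fintype (G →* ℂˣ)] (h : G) [Decidable (IsConj g h)] (hχ1 : charDegree (χ : G → ℂ) ≠ 1) :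
    ∑ l : G →* ℂˣ, (l g : ℂ) * conj ((l h : ℂˣ) : ℂ) + (χ : G → ℂ) g * conj ((χ : G → ℂ) h) =
      if IsConj g h then (Nat.card (Subgroup.centralizer ({g} : Set G)) : ℂ) else 0 := by
  classical
  rw [← column_orthogonality g h,
    ← Fintype.sum_subtype_add_sum_subtype (fun ψ : IrrCharacter G => (ψ : G → ℂ) 1 = 1)]
  congr 1
  · exact Fintype.sum_equiv linearCharEquiv _ _ fun l => rfl
  · symm
    rw [Finset.sum_eq_single (⟨χ, chi_one_ne_one χ hχ1⟩ : {ψ : IrrCharacter G // ¬ (ψ : G → ℂ) 1 = 1})]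
    · intro ψ _ hne
      rw [hother ψ.1 ?_ fun e => hne (Subtype.ext e), zero_mul]
      intro hd
      obtain ⟨n, -, hn, hd'⟩ := degree_data ψ.1
      exact ψ.2 (by rw [hn, ← hd', hd, Nat.cast_one])
    · exact fun h => absurd (Finset.mem_univ _) h

theorem core (hg : g ∉ Subgroup.center G) (hχ1 : charDegree (χ : G → ℂ) ≠ 1) (hχg : (χ : G → ℂ) g ≠ 0)
    (hother : ∀ ψ : IrrCharacter G, charDegree (ψ : G → ℂ) ≠ 1 → ψ ≠ χ → (ψ : G → ℂ) g = 0) :
    g ∈ commutator G ∧
    (χ : G → ℂ) g = -(((commutator G).index : ℂ) / (χ : G → ℂ) 1) ∧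
    ((commutator G : Set G) = {x : G | (χ : G → ℂ) x = (χ : G → ℂ) 1} ∪ {h : G | IsConj g h}) ∧
    (∀ x : G, x ∉ commutator G → (χ : G → ℂ) x = 0) ∧
    (∀ ψ : IrrCharacter G, charDegree (ψ : G → ℂ) ≠ 1 →
      (∀ x : G, (χ : G → ℂ) x = (χ : G → ℂ) 1 → (ψ : G → ℂ) x = (ψ : G → ℂ) 1) → ψ = χ) ∧
    Group.IsSolvable G := by
  classical
  haveI := Fintype.ofFinite G
  haveI : Finite (G →* ℂˣ) := Nat.finite_of_card_ne_zero (by rw [card_linear_eq_index]; exact Subgroup.index_ne_zero_of_finite)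
  haveI := Fintype.ofFinite (G →* ℂˣ)
  have hmem := fun {x : G} (hx : (χ : G → ℂ) x ≠ 0) => mem_of_apply_ne g χ hχ1 hχg hother hx
  have hgM := hmem hχg
  obtain ⟨d, hd0, hd, hdd⟩ := degree_data χ
  have hd2 : 2 ≤ d := by rw [hdd] at hχ1; omega
  have hdC : (d : ℂ) ≠ 0 := Nat.cast_ne_zero.mpr hd0.ne'
  set k := (commutator G).index with hk
  have hlin : ∀ h ∈ commutator G, ∑ l : G →* ℂˣ, (l g : ℂ) * conj ((l h : ℂˣ) : ℂ) = k := by
    intro h hh
    rw [Finset.sum_congr rfl fun l _ => by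
      rw [linear_apply_of_mem hgM l, linear_apply_of_mem hh l, Units.val_one, one_mul, map_one],
      Finset.sum_const, Finset.card_univ, ← Nat.card_eq_fintype_card, card_linear_eq_index,
      nsmul_eq_mul, mul_one]
  have hg1 : ¬ IsConj g 1 := fun h => hg (isConj_one_left.mp h ▸ one_mem _)
  have hval : (χ : G → ℂ) g = -((k : ℂ) / d) := by
    have h := column g χ hother 1 hχ1
    rw [hlin 1 (one_mem _), if_neg hg1, hd, map_natCast] at h
    rw [eq_neg_iff_add_eq_zero]
    field_simp
    linear_combination h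
  have hk0 : (k : ℂ) ≠ 0 := Nat.cast_ne_zero.mpr Subgroup.index_ne_zero_of_finite
  have hker : ∀ x ∈ commutator G, ¬ IsConj g x → (χ : G → ℂ) x = (χ : G → ℂ) 1 := by
    intro x hx hc
    have h := column g χ hother x hχ1
    rw [hlin x hx, if_neg hc, hval] at h
    have h2 : conj ((χ : G → ℂ) x) = (d : ℂ) := by
      have h3 : (k : ℂ) * ((d : ℂ) - conj ((χ : G → ℂ) x)) = 0 := by
        field_simp at h
        linear_combination h
      exact (sub_eq_zero.mp ((mul_eq_zero.mp h3).resolve_left hk0)).symm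
    rw [hd, ← Complex.conj_conj ((χ : G → ℂ) x), h2, map_natCast]
  set N := charKer χ.2.isCharacter with hN
  haveI : N.Normal := charKer_normal _
  have hNM : N ≤ commutator G := fun x hx => hmem (by rw [(mem_charKer _).mp hx, hd]; exact hdC)
  have hgN : g ∉ N := fun hgn => by
    rw [mem_charKer, hval, hd, neg_eq_iff_add_eq_zero, div_add' _ _ _ hdC, div_eq_zero_iff, or_iff_left hdC] at hgn
    have : k + d * d = 0 := by exact_mod_cast hgn
    nlinarith
  have hclass : ∀ x ∈ commutator G, x ∉ N → IsConj g x := fun x hx hxN =>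
    Classical.byContradiction fun hc => hxN ((mem_charKer _).mpr (hker x hx hc))
  have hset : (commutator G : Set G) = {x : G | (χ : G → ℂ) x = (χ : G → ℂ) 1} ∪ {h : G | IsConj g h} := by
    ext x
    constructor
    · intro hx
      by_cases hc : IsConj g x
      · exact Or.inr hc
      · exact Or.inl (hker x hx hc)
    · rintro (hx | hx)
      · exact hNM hx
      · obtain ⟨c, rfl⟩ := isConj_iff.mp hx
        exact Subgroup.Normal.conj_mem inferInstance g hgM c
  refine ⟨hgM, by rw [hval, hd], hset, fun x hx => Classical.byContradiction fun h => hx (hmem h), ?_, ?_⟩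
  · intro ψ hψd hψ
    by_contra hne
    obtain ⟨e, he0, he, hde⟩ := degree_data ψ
    have hψg := hother ψ hψd hne
    have hv : ∀ x ∈ commutator G, x ∉ N → (ψ : G → ℂ) x = 0 := fun x hx hxN => by
      obtain ⟨c, rfl⟩ := isConj_iff.mp (hclass x hx hxN)
      rw [ψ.2.isClassFunction, hψg]
    have hzero : ∀ l : G →* ℂˣ, ∑ x : G, (ψ : G → ℂ) x * conj ((l x : ℂˣ) : ℂ) = 0 := fun l => by
      have h := classInner_irr_ne ψ.2 (isIrrCharacter_linear l) fun h => hψd (by
        unfold charDegree; rw [h]; simp)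
      exact (mul_eq_zero.mp h).resolve_left (inv_ne_zero (Nat.cast_ne_zero.mpr Nat.card_pos.ne'))
    have hsum : ∀ x : G, ∑ l : G →* ℂˣ, conj ((l x : ℂˣ) : ℂ) = if x ∈ commutator G then (k : ℂ) else 0 := by
      intro x
      split_ifs with hx
      · rw [Finset.sum_congr rfl fun l _ => by rw [linear_apply_of_mem hx l, Units.val_one, map_one],
          Finset.sum_const, Finset.card_univ, ← Nat.card_eq_fintype_card, card_linear_eq_index,
          nsmul_eq_mul, mul_one]
      · obtain ⟨m, hm⟩ := exists_linear_ne_one hx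
        have h1 : conj ((m x : ℂˣ) : ℂ) * (∑ l : G →* ℂˣ, conj ((l x : ℂˣ) : ℂ)) = ∑ l : G →* ℂˣ, conj ((l x : ℂˣ) : ℂ) := by
          rw [Finset.mul_sum]
          exact Fintype.sum_equiv (Equiv.mulLeft m) _ _ fun l => by
            show conj ((m x : ℂˣ) : ℂ) * conj ((l x : ℂˣ) : ℂ) = conj (((m x * l x : ℂˣ)) : ℂ)
            rw [Units.val_mul, map_mul]
        have h2 : conj ((m x : ℂˣ) : ℂ) ≠ 1 := fun h => hm (Units.ext (by
          have := congrArg conj h
          rwa [Complex.conj_conj, map_one] at this))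
        by_contra hS
        exact h2 ((mul_eq_right₀ hS).mp h1)
    have h1 : ∑ x : G, (ψ : G → ℂ) x * (∑ l : G →* ℂˣ, conj ((l x : ℂˣ) : ℂ)) = 0 := by
      simp_rw [Finset.mul_sum]
      rw [Finset.sum_comm]
      exact Finset.sum_eq_zero fun l _ => hzero l
    rw [Finset.sum_congr rfl (g := fun x => if x ∈ N then (e : ℂ) * k else 0) fun x _ => ?_,
      Finset.sum_ite, Finset.sum_const_zero, add_zero, Finset.sum_const, nsmul_eq_mul] at h1
    · have hNe : ((Finset.univ.filter fun x : G => x ∈ N).card : ℂ) ≠ 0 :=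
        Nat.cast_ne_zero.mpr (Finset.card_ne_zero.mpr ⟨1, Finset.mem_filter.mpr ⟨Finset.mem_univ _, one_mem N⟩⟩)
      exact mul_ne_zero hNe (mul_ne_zero (Nat.cast_ne_zero.mpr he0.ne') hk0) h1
    · rw [hsum]
      split_ifs with hx hxN hxN
      · rw [hψ x hxN, he]
      · rw [hv x hx hxN, zero_mul]
      · exact absurd (hNM hxN) hx
      · rw [mul_zero]
  · -- solvability
    have hcen : ∀ x : G, (∀ y, ⁅x, y⁆ ∈ N) → x ∈ commutator G := by
      intro x hx
      by_contra hxM
      obtain ⟨n, ρ, hρ, hch⟩ := χ.2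
      have hn : n = d := by
        have := congrFun hch 1
        rw [Representation.char_one, hd, Module.finrank_fin_fun] at this
        exact_mod_cast this
      have hfix : ∀ w ∈ classFinset x, ρ w = ρ x := by
        intro w hw
        obtain ⟨c, rfl⟩ := isConj_iff.mp (mem_classFinset.mp hw)
        have hk' : ⁅x, c⁆⁻¹ ∈ N := inv_mem (hx c)
        rw [mem_charKer, ← hch, Representation.char_one, character_eq_finrank_iff] at hk'
        rw [show c * x * c⁻¹ = ⁅x, c⁆⁻¹ * x by simp only [commutatorElement_def]; group, map_mul, hk']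
        exact one_mul _
      have h1 := sum_class_smul ρ x
      rw [Finset.sum_congr rfl hfix, Finset.sum_const, congrFun hch x,
        show (χ : G → ℂ) x = 0 from Classical.byContradiction fun h => hxM (hmem h),
        mul_zero, zero_div, zero_smul] at h1
      have hρx : ρ x = 0 := by
        rw [← Nat.cast_smul_eq_nsmul ℂ] at h1
        exact (smul_eq_zero.mp h1).resolve_left (Nat.cast_ne_zero.mpr
          (Finset.card_ne_zero.mpr ⟨x, mem_classFinset.mpr (IsConj.refl x)⟩))
      have h2 : (1 : Module.End ℂ (Fin n → ℂ)) = 0 := by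
        rw [← map_one ρ, ← inv_mul_cancel x, map_mul, hρx, mul_zero]
      haveI : Nontrivial (Fin n → ℂ) := by
        haveI : Nonempty (Fin n) := ⟨⟨0, hn ▸ hd0⟩⟩
        infer_instance
      exact one_ne_zero h2
    have hC : Nat.card (Subgroup.centralizer ({g} : Set G)) * (d * d) = k * (d * d) + k * k := by
      have h := column g χ hother g hχ1
      rw [hlin g hgM, if_pos (IsConj.refl g), hval, map_neg, map_div₀, map_natCast, map_natCast] at h
      field_simp at h
      have : ((Nat.card (Subgroup.centralizer ({g} : Set G)) * (d * d) : ℕ) : ℂ) = ((k * (d * d) + k * k : ℕ) : ℂ) := by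
        push_cast
        linear_combination -h
      exact_mod_cast this
    have hQ := Cfsg.Lib.FPF.card_centralizer_mul hNM hgM hgN hclass hgM hgN
    refine Cfsg.Lib.FPF.isSolvable_of_lone_class hNM hgM hgN hclass hcen hd2 ?_
    set Q := N.relIndex (commutator G)
    have hQ0 : 0 < Q := Nat.pos_of_ne_zero (Subgroup.index_ne_zero_of_finite (H := N.subgroupOf (commutator G)))
    obtain ⟨q, hq⟩ : ∃ q, Q = q + 1 := ⟨Q - 1, by omega⟩
    rw [hq, Nat.add_sub_cancel] at hQ ⊢
    rw [← hk] at hQ ⊢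
    have hkpos : 0 < k := Nat.pos_of_ne_zero Subgroup.index_ne_zero_of_finite
    refine Nat.eq_of_mul_eq_mul_left hkpos ?_
    linear_combination (q : ℕ) * hC - (d * d) * hQ

/-- Let G be a finite group, g an element outside the centre of G, and χ an irreducible complex character of degree greater than one with χ(g) ≠ 0 such that every other irreducible character of degree greater than one vanishes at g. Then g lies in the derived subgroup G′ and χ(g) = −[G : G′]/χ(1); G′ is the union of the kernel of χ (the elements where χ takes the value χ(1)) and the conjugacy class of g, and χ vanishes outside G′; every irreducible character of degree greater than one whose kernel contains that of χ equals χ; and G is solvable. -/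
theorem result {G : Type*} [Group G] [Finite G] (g : G) (hg : g ∉ Subgroup.center G) (χ : Cfsg.IrrCharacter G) (hχ1 : Cfsg.charDegree (χ : G → ℂ) ≠ 1) (hχg : (χ : G → ℂ) g ≠ 0) (hother : ∀ ψ : Cfsg.IrrCharacter G, Cfsg.charDegree (ψ : G → ℂ) ≠ 1 → ψ ≠ χ → (ψ : G → ℂ) g = 0) : g ∈ commutator G ∧ (χ : G → ℂ) g = -(((commutator G).index : ℂ) / (χ : G → ℂ) 1) ∧ ((commutator G : Set G) = {x : G | (χ : G → ℂ) x = (χ : G → ℂ) 1} ∪ {h : G | IsConj g h}) ∧ (∀ x : G, x ∉ commutator G → (χ : G → ℂ) x = 0) ∧ (∀ ψ : Cfsg.IrrCharacter G, Cfsg.charDegree (ψ : G → ℂ) ≠ 1 → (∀ x : G, (χ : G → ℂ) x = (χ : G → ℂ) 1 → (ψ : G → ℂ) x = (ψ : G → ℂ) 1) → ψ = χ) ∧ Group.IsSolvable G := by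
  exact core g χ hg hχ1 hχg hother

end Cfsg.Agent.S4805
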