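import Cfsg.Statements.S4807
import Cfsg.Agent.Lib.Char.RelMcKay.Main

set_option autoImplicit false
open Cfsg

namespace Cfsg.Agent.S4807

/-- Let p be a prime and G a finite p-solvable group, L a normal subgroup of G, S a Sylow p-subgroup of G and P the subgroup generated by L and S (so P/L is a Sylow p-subgroup of G/L), and let ν be an irreducible complex character of L that is invariant under conjugation by every element of P. Let N be the normalizer of P in G (it contains L). Then the number of irreducible characters of G of degree prime to p lying over ν (restriction to L not orthogonal to ν) equals the number of irreducible characters of N of degree prime to p lying over ν. -/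
theorem result {G : Type*} [Group G] [Finite G] (p : ℕ) [Fact p.Prime] (hG : Cfsg.IsPSolvable p G) (L : Subgroup G) [L.Normal] (S : Sylow p G) (P : Subgroup G) (hP : P = L ⊔ (S : Subgroup G)) (hLN : L ≤ (Subgroup.normalizer ((P : Subgroup G) : Set G))) (ν : Cfsg.IrrCharacter ↥L) (hν : ∀ x ∈ P, Cfsg.IsConjCharOf L x (ν : ↥L → ℂ) (ν : ↥L → ℂ)) : Nat.card {χ : Cfsg.IrrCharacter G // ¬ p ∣ Cfsg.charDegree (χ : G → ℂ) ∧ (∑ᶠ l : ↥L, (χ : G → ℂ) (l : G) * (starRingEnd ℂ) ((ν : ↥L → ℂ) l)) ≠ 0} = Nat.card {ψ : Cfsg.IrrCharacter ↥(Subgroup.normalizer ((P : Subgroup G) : Set G)) // ¬ p ∣ Cfsg.charDegree (ψ : ↥(Subgroup.normalizer ((P : Subgroup G) : Set G)) → ℂ) ∧ (∑ᶠ l : ↥L, (ψ : ↥(Subgroup.normalizer ((P : Subgroup G) : Set G)) → ℂ) (Subgroup.inclusion hLN l) * (starRingEnd ℂ) ((ν : ↥L → ℂ) l)) ≠ 0} := by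
  classical
  haveI := Fintype.ofFinite G
  haveI : Fintype ↥L := Fintype.ofFinite _
  have hfix : ∀ s ∈ (S : Subgroup G), Lib.Char.conjTwist L (ν : ↥L → ℂ) s = ν := fun s hs =>
    funext fun l => hν s (hP ▸ Subgroup.mem_sup_right hs) l _ rfl
  have h := Lib.Char.RelMcKay.relMcKay hG L (S : Subgroup G) S.isPGroup' S.not_dvd_index ν.2 hfix
  rw [← hP] at h
  refine h.trans (Nat.card_congr (Equiv.subtypeEquivRight fun ψ => and_congr Iff.rfl ?_))
  refine Iff.not (Eq.congr_left (Eq.symm ?_))
  refine finsum_eq_of_bijective (fun l : ↥L => (⟨Subgroup.inclusion hLN l, l.2⟩ :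
    L.subgroupOf (Subgroup.normalizer ((P : Subgroup G) : Set G))))
    ⟨fun a b hab => Subtype.ext (congrArg (fun w : L.subgroupOf _ =>
      ((w : ↥(Subgroup.normalizer ((P : Subgroup G) : Set G))) : G)) hab),
      fun w => ⟨⟨((w : ↥(Subgroup.normalizer ((P : Subgroup G) : Set G))) : G),
        Subgroup.mem_subgroupOf.mp w.2⟩, rfl⟩⟩ fun l => rfl

end Cfsg.Agent.S4807
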