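import Cfsg.Statements.S4808
import Cfsg.Agent.Lib.Block.Laradji
import Cfsg.Agent.Lib.Block.RegInt
import Cfsg.Agent.Lib.Char.Quotient
import Cfsg.Agent.Lib.Char.Formulas

set_option autoImplicit false
open Cfsg

namespace Cfsg.Agent.S4808

/-- The codegree of an irreducible complex character χ of a finite group G is [G : ker χ] / χ(1), where ker χ is the set of elements at which χ takes the value χ(1). A prime divides the order of G if and only if it divides the codegree of some irreducible complex character of G. -/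
theorem result {G : Type*} [Group G] [Finite G] (p : ℕ) (hp : p.Prime) : p ∣ Nat.card G ↔ ∃ χ : Cfsg.IrrCharacter G, p ∣ (Nat.card G / (Nat.card {g : G // (χ : G → ℂ) g = (χ : G → ℂ) 1} * Cfsg.charDegree (χ : G → ℂ))) := by
  classical
  haveI := Fintype.ofFinite G
  haveI : Fact p.Prime := ⟨hp⟩
  constructor
  · intro hd
    by_contra hcon
    push_neg at hcon
    obtain ⟨M, hM⟩ := Cfsg.Lib.Block.exists_isPModular hp
    obtain ⟨x, hx⟩ := exists_prime_orderOf_dvd_card' p hd
    have hkey : ∀ χ : Cfsg.IrrCharacter G, (χ : G → ℂ) x = (χ : G → ℂ) 1 ∨ (χ : G → ℂ) x = 0 := by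
      intro χ
      by_cases hk : (χ : G → ℂ) x = (χ : G → ℂ) 1
      · exact Or.inl hk
      right
      let K := Cfsg.Lib.Char.charKer χ.2.isCharacter
      haveI : K.Normal := Cfsg.Lib.Char.charKer_normal χ.2.isCharacter
      obtain ⟨ψ, hψ, he⟩ := Cfsg.Lib.Char.exists_deflate_irr K χ.2 fun n hn => hn
      have hdeg : Cfsg.charDegree ψ = Cfsg.charDegree (χ : G → ℂ) := by
        apply Nat.cast_injective (R := ℂ)
        rw [← hψ.apply_one_eq_charDegree, ← χ.2.apply_one_eq_charDegree, ← he 1]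
        rfl
      have hG : Nat.card G = Nat.card (G ⧸ K) * Nat.card K :=
        K.card_eq_card_quotient_mul_card_subgroup
      have hc := hcon χ
      have hq : Nat.card G / (Nat.card K * Cfsg.charDegree (χ : G → ℂ)) =
          Nat.card (G ⧸ K) / Cfsg.charDegree ψ := by
        rw [hG, hdeg, mul_comm (Nat.card (G ⧸ K)), Nat.mul_div_mul_left _ _ Nat.card_pos]
      rw [show Nat.card {g : G // (χ : G → ℂ) g = (χ : G → ℂ) 1} = Nat.card K from rfl, hq] at hc
      have hdvd := Cfsg.Lib.Char.charDegree_dvd_card hψ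
      have hfac : (Cfsg.charDegree ψ).factorization p =
          (⊥ : Subgroup (G ⧸ K)).index.factorization p := by
        rw [Subgroup.index_bot]
        obtain ⟨c, hcc⟩ := hdvd
        rw [hcc, Nat.mul_div_cancel_left _ hψ.charDegree_pos] at hc
        have hc0 : c ≠ 0 := fun h0 => hc (h0 ▸ dvd_zero p)
        rw [hcc, Nat.factorization_mul hψ.charDegree_pos.ne' hc0, Finsupp.add_apply,
          Nat.factorization_eq_zero_of_not_dvd hc, add_zero]
      have hxK : ((x : G) : G ⧸ K) ≠ 1 := fun h => hk ((QuotientGroup.eq_one_iff x).1 h)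
      have hord : p ∣ orderOf (x : G ⧸ K) := by
        have h1 : orderOf (x : G ⧸ K) ∣ p := hx ▸ orderOf_map_dvd (QuotientGroup.mk' K) x
        rcases (Nat.dvd_prime hp).1 h1 with h1 | h1
        · exact absurd (orderOf_eq_one_iff.1 h1) hxK
        · rw [h1]
      have hv := Cfsg.Lib.Block.central_defect_vanish hM (IsPGroup.of_bot (p := p))
        bot_le (⟨ψ, hψ⟩ : Cfsg.IrrCharacter (G ⧸ K)) hfac
        (Cfsg.Lib.Block.isPPart_pPt (p := p) (x : G ⧸ K)) (by
          rw [Subgroup.mem_bot]
          exact fun h => (Cfsg.Lib.Block.pPt_eq_one_iff _).1 h hord)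
      rw [← he x]; exact hv
    have hx1 : x ≠ 1 := fun h => hp.ne_one (by rw [← hx, h, orderOf_one])
    have hs := Cfsg.Lib.Char.sum_degree_mul (G := G) x
    rw [if_neg hx1] at hs
    have h1 := congrArg Complex.re hs
    rw [Complex.re_sum, Complex.zero_re] at h1
    have hnn : ∀ χ : Cfsg.IrrCharacter G, 0 ≤ ((χ : G → ℂ) 1 * (χ : G → ℂ) x).re := by
      intro χ
      rcases hkey χ with h | h <;> rw [h, χ.2.apply_one_eq_charDegree] <;> simp
      positivity
    have h2 := (Finset.sum_eq_zero_iff_of_nonneg fun χ _ => hnn χ).1 h1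
      ⟨fun _ => 1, Cfsg.Lib.Char.isIrrCharacter_one⟩ (Finset.mem_univ _)
    simp at h2
  · rintro ⟨χ, h⟩
    refine h.trans ?_
    let K := Cfsg.Lib.Char.charKer χ.2.isCharacter
    haveI : K.Normal := Cfsg.Lib.Char.charKer_normal χ.2.isCharacter
    obtain ⟨ψ, hψ, he⟩ := Cfsg.Lib.Char.exists_deflate_irr K χ.2 fun n hn => hn
    have hdeg : Cfsg.charDegree ψ = Cfsg.charDegree (χ : G → ℂ) := by
      apply Nat.cast_injective (R := ℂ)
      rw [← hψ.apply_one_eq_charDegree, ← χ.2.apply_one_eq_charDegree, ← he 1]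
      rfl
    refine Nat.div_dvd_of_dvd ?_
    rw [show Nat.card {g : G // (χ : G → ℂ) g = (χ : G → ℂ) 1} = Nat.card K from rfl,
      K.card_eq_card_quotient_mul_card_subgroup, mul_comm (Nat.card K), ← hdeg]
    exact Nat.mul_dvd_mul_right (Cfsg.Lib.Char.charDegree_dvd_card hψ) _

end Cfsg.Agent.S4808
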