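import Cfsg.Statements.S4811
import Cfsg.Agent.Lib.Char.MinimalDegrees

set_option autoImplicit false
open Cfsg

namespace Cfsg.Agent.S4811

open Cfsg Cfsg.Lib.Char in
/-- Two primes such that every prime of the graph is one of them or is joined to one of them. -/
theorem exists_two_centres {G : Type*} [Group G] [Finite G] [Group.IsSolvable G] :
    ∃ a b : ℕ, ∀ r ∈ degreePrimes G, ∃ c ∈ degreePrimes G, (c = a ∨ c = b) ∧
      (r = c ∨ (degreeGraph G).Adj r c) := by
  haveI := Fintype.ofFinite G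
  by_cases hc : ∀ a b : G, a * b = b * a
  · refine ⟨0, 0, fun r hr => ?_⟩
    obtain ⟨hrp, d, ⟨χ, rfl⟩, hd⟩ := hr
    rw [show charDegree (χ : G → ℂ) = 1 by
      simp [charDegree, degree_eq_one_of_comm hc χ.2]] at hd
    exact absurd (Nat.dvd_one.1 hd) hrp.ne_one
  have hjoin : ∀ (r c : ℕ) (χ : IrrCharacter G), r.Prime → c.Prime →
      r ∣ charDegree (χ : G → ℂ) → c ∣ charDegree (χ : G → ℂ) →
        r = c ∨ (degreeGraph G).Adj r c := by
    intro r c χ hr hcp hrd hcd
    refine or_iff_not_imp_left.2 fun hne => ⟨hne, hr, hcp, _, ⟨χ, rfl⟩, ?_⟩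
    exact Nat.Coprime.mul_dvd_of_dvd_of_dvd ((Nat.coprime_primes hr hcp).2 hne) hrd hcd
  rcases exists_minimal_quotient hc with ⟨p, K, h⟩ | ⟨q, K, N, h⟩
  · obtain ⟨e, he, ⟨β, hβ⟩, hmul⟩ := h.exists_mul
    have hp : p.Prime := h.2.1
    have hpv : p ∈ degreePrimes G := ⟨hp, _, ⟨β, rfl⟩, hβ ▸ dvd_pow_self p he.ne'⟩
    refine ⟨p, p, fun r hr => ⟨p, hpv, Or.inl rfl, ?_⟩⟩
    obtain ⟨hrp, d, ⟨χ, rfl⟩, hrd⟩ := hr
    by_cases hpd : p ∣ charDegree (χ : G → ℂ)
    · exact hjoin r p χ hrp hp hrd hpd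
    · obtain ⟨ψ, hψ⟩ := hmul χ hpd
      exact hjoin r p ψ hrp hp (hψ ▸ hrd.mul_left _) (hψ ▸ (dvd_pow_self p he.ne').mul_right _)
  · have hqp : q.Prime := h.2.2.2.1
    have hN : N.index ≠ 1 := fun h1 => h.2.2.2.2.2.1 (Subgroup.index_eq_one.1 h1)
    have hf : N.index.minFac.Prime := Nat.minFac_prime hN
    refine ⟨q, N.index.minFac, fun r hr => ?_⟩
    obtain ⟨hrp, d, ⟨χ, rfl⟩, hrd⟩ := hr
    rcases h.dvd_or χ with hq | ⟨η, h1, h2⟩
    · exact ⟨q, ⟨hqp, _, ⟨χ, rfl⟩, hq⟩, Or.inl rfl, hjoin r q χ hrp hqp hrd hq⟩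
    · have hfd := (Nat.minFac_dvd _).trans h1
      exact ⟨_, ⟨hf, _, ⟨η, rfl⟩, hfd⟩, Or.inr rfl, hjoin r _ η hrp hf (hrd.trans h2) hfd⟩

/-- For every finite solvable group G the character degree graph of G (vertices: the primes dividing some irreducible complex character degree; edges: distinct primes whose product divides some degree) has at most two connected components. -/
theorem result {G : Type*} [Group G] [Finite G] [Group.IsSolvable G] : Nat.card ((Cfsg.degreeGraph G).induce (Cfsg.degreePrimes G)).ConnectedComponent ≤ 2 := by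
  obtain ⟨a, b, hab⟩ := exists_two_centres (G := G)
  set Γ := (Cfsg.degreeGraph G).induce (Cfsg.degreePrimes G)
  let f : {v : Cfsg.degreePrimes G // (v : ℕ) ∈ ({a, b} : Set ℕ)} → Γ.ConnectedComponent :=
    fun v => Γ.connectedComponentMk v.1
  have hsurj : Function.Surjective f := by
    intro C
    induction C using SimpleGraph.ConnectedComponent.ind with
    | h v =>
      obtain ⟨c, hc, hcab, hadj⟩ := hab v.1 v.2
      refine ⟨⟨⟨c, hc⟩, by simpa using hcab⟩, SimpleGraph.ConnectedComponent.eq.2 ?_⟩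
      rcases hadj with h | h
      · rw [show v = ⟨c, hc⟩ from Subtype.ext h]
      · exact (SimpleGraph.Adj.reachable (show Γ.Adj ⟨c, hc⟩ v from h.symm))
  have hinj : Function.Injective (fun v : {v : Cfsg.degreePrimes G // (v : ℕ) ∈ ({a, b} : Set ℕ)} =>
      (⟨v.1.1, v.2⟩ : ({a, b} : Set ℕ))) := fun v w h =>
    Subtype.ext (Subtype.ext (congrArg (fun x : ({a, b} : Set ℕ) => (x : ℕ)) h))
  haveI : Finite {v : Cfsg.degreePrimes G // (v : ℕ) ∈ ({a, b} : Set ℕ)} := Finite.of_injective _ hinj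
  refine (Nat.card_le_card_of_surjective f hsurj).trans
    ((Nat.card_le_card_of_injective _ hinj).trans ?_)
  rw [Nat.card_coe_set_eq]
  exact (Set.ncard_insert_le _ _).trans (by rw [Set.ncard_singleton])

end Cfsg.Agent.S4811
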