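import Cfsg.Statements.S4813
import Cfsg.Agent.Lib.Block.PrimeDegreesCount

set_option autoImplicit false
open Cfsg

namespace Cfsg.Agent.S4813

/-- If every irreducible complex character of the finite group G of degree greater than one has prime degree, then G has at most three distinct irreducible character degrees. -/
theorem result {G : Type*} [Group G] [Finite G] (hprime : ∀ d ∈ Cfsg.charDegrees G, d = 1 ∨ d.Prime) : Nat.card ↥(Cfsg.charDegrees G) ≤ 3 := by
  obtain ⟨a, b, hab⟩ := Cfsg.Lib.Block.primeDegrees_le_two (Nat.card G) le_rfl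
    (G := G) fun χ => hprime _ ⟨χ, rfl⟩
  have hsub : Cfsg.charDegrees G ⊆ {1, a, b} := by
    rintro d ⟨χ, rfl⟩
    simpa using hab χ
  rw [Nat.card_coe_set_eq]
  refine (Set.ncard_le_ncard hsub (Set.toFinite _)).trans ?_
  refine (Set.ncard_insert_le _ _).trans ?_
  have h2 := Set.ncard_insert_le a ({b} : Set ℕ)
  rw [Set.ncard_singleton] at h2
  omega

end Cfsg.Agent.S4813
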