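import Cfsg.Statements.S4814
import Cfsg.Agent.Lib.Char.Formulas

set_option autoImplicit false
open Cfsg

namespace Cfsg.Agent.S4814

/-- Let G be a finite group such that the sum, over the irreducible complex characters χ of G, of 1/χ(1)² is less than 2. Then every element of G is a product of two commutators. -/
theorem result {G : Type*} [Group G] [Finite G]
    (h : ∑ᶠ χ : Cfsg.IrrCharacter G, 1 / ‖(χ : G → ℂ) 1‖ ^ 2 < (2 : ℝ)) (g : G) :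
    ∃ a b c d : G, (a * b * a⁻¹ * b⁻¹) * (c * d * c⁻¹ * d⁻¹) = g := by
  classical
  haveI := Fintype.ofFinite G
  by_contra hcon
  push_neg at hcon
  have hG0 : (Nat.card G : ℂ) ≠ 0 := Nat.cast_ne_zero.2 Nat.card_pos.ne'
  have hone : ∀ (χ : Cfsg.IrrCharacter G) (k : G),
      ∑ a : G, ∑ b : G, (χ : G → ℂ) (a * b * a⁻¹ * b⁻¹ * k) =
        (Nat.card G : ℂ) ^ 2 * (χ : G → ℂ) k / ((χ : G → ℂ) 1) ^ 2 := by
    intro χ k
    have h1 : ∀ a : G, ∑ b : G, (χ : G → ℂ) (a * b * a⁻¹ * b⁻¹ * k) =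
        (Nat.card G : ℂ) / (χ : G → ℂ) 1 * ((χ : G → ℂ) a⁻¹ * (χ : G → ℂ) (k * a)) := by
      intro a
      have h := Cfsg.Lib.Char.sum_char_mul_conj χ.2 (k * a) a⁻¹
      have e : ∀ b : G, (χ : G → ℂ) (a * b * a⁻¹ * b⁻¹ * k) = (χ : G → ℂ) (k * a * (b * a⁻¹ * b⁻¹)) := by
        intro b
        rw [← χ.2.isCharacter.conj_invariant (a * b * a⁻¹ * b⁻¹ * k) k]
        congr 1; group
      rw [Finset.sum_congr rfl fun b _ => e b, h]
      ring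
    rw [Finset.sum_congr rfl fun a _ => h1 a, ← Finset.mul_sum]
    have h2 : ∑ a : G, (χ : G → ℂ) a⁻¹ * (χ : G → ℂ) (k * a) =
        (Nat.card G : ℂ) * (χ : G → ℂ) k / (χ : G → ℂ) 1 := by
      rw [← Cfsg.Lib.Char.sum_char_mul_char_inv χ.2 k]
      refine Fintype.sum_equiv (Equiv.inv G) _ _ fun a => ?_
      rw [Equiv.inv_apply, inv_inv]
      congr 1
      rw [← χ.2.isCharacter.conj_invariant (k * a) a]
      congr 1; group
    rw [h2]
    ring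
  have htwo : ∀ χ : Cfsg.IrrCharacter G,
      ∑ c : G, ∑ d : G, ∑ a : G, ∑ b : G,
          (χ : G → ℂ) (a * b * a⁻¹ * b⁻¹ * ((c * d * c⁻¹ * d⁻¹) * g⁻¹)) =
        (Nat.card G : ℂ) ^ 4 * (χ : G → ℂ) g⁻¹ / ((χ : G → ℂ) 1) ^ 4 := by
    intro χ
    simp only [hone χ, ← Finset.sum_div, ← Finset.mul_sum]
    ring
  have hzero : ∑ χ : Cfsg.IrrCharacter G, (χ : G → ℂ) g⁻¹ / ((χ : G → ℂ) 1) ^ 3 = 0 := by
    have h : ∑ χ : Cfsg.IrrCharacter G, (χ : G → ℂ) 1 *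
        ((Nat.card G : ℂ) ^ 4 * (χ : G → ℂ) g⁻¹ / ((χ : G → ℂ) 1) ^ 4) = 0 := by
      simp only [← htwo, Finset.mul_sum]
      rw [Finset.sum_comm]
      refine Finset.sum_eq_zero fun c _ => ?_
      rw [Finset.sum_comm]
      refine Finset.sum_eq_zero fun d _ => ?_
      rw [Finset.sum_comm]
      refine Finset.sum_eq_zero fun a _ => ?_
      rw [Finset.sum_comm]
      refine Finset.sum_eq_zero fun b _ => ?_
      rw [Cfsg.Lib.Char.sum_degree_mul, if_neg]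
      intro h
      rw [← mul_assoc, mul_inv_eq_one] at h
      exact hcon a b c d h
    refine (mul_eq_zero.1 ?_).resolve_left (pow_ne_zero 4 hG0)
    rw [← h, Finset.mul_sum]
    refine Finset.sum_congr rfl fun χ _ => ?_
    have := χ.2.apply_one_ne_zero
    field_simp
  rw [finsum_eq_sum_of_fintype] at h
  let one : Cfsg.IrrCharacter G := ⟨fun _ => 1, Cfsg.Lib.Char.isIrrCharacter_one⟩
  rw [← Finset.add_sum_erase _ _ (Finset.mem_univ one)] at h hzero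
  have hle : ∀ χ : Cfsg.IrrCharacter G,
      ‖(χ : G → ℂ) g⁻¹ / ((χ : G → ℂ) 1) ^ 3‖ ≤ 1 / ‖(χ : G → ℂ) 1‖ ^ 2 := by
    intro χ
    obtain ⟨d, hd0, hd⟩ := χ.2.exists_degree
    have h1 : ‖(χ : G → ℂ) g⁻¹‖ ≤ (d : ℝ) := by
      simpa [hd] using χ.2.isCharacter.norm_le g⁻¹
    rw [hd, norm_div, norm_pow, Complex.norm_natCast, div_le_div_iff₀ (by positivity) (by positivity)]
    calc ‖(χ : G → ℂ) g⁻¹‖ * (d : ℝ) ^ 2 ≤ (d : ℝ) * (d : ℝ) ^ 2 := by gcongr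
      _ = 1 * (d : ℝ) ^ 3 := by ring
  have h3 : ∑ χ ∈ Finset.univ.erase one, (χ : G → ℂ) g⁻¹ / ((χ : G → ℂ) 1) ^ 3 = -1 := by
    simp only [one] at hzero ⊢
    linear_combination hzero
  have h4 : (1 : ℝ) ≤ ∑ χ ∈ Finset.univ.erase one, 1 / ‖(χ : G → ℂ) 1‖ ^ 2 := by
    calc (1 : ℝ) = ‖∑ χ ∈ Finset.univ.erase one, (χ : G → ℂ) g⁻¹ / ((χ : G → ℂ) 1) ^ 3‖ := by
          rw [h3]; simp
      _ ≤ _ := (norm_sum_le _ _).trans (Finset.sum_le_sum fun χ _ => hle χ)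
  have h5 : 1 / ‖(one : G → ℂ) 1‖ ^ 2 = (1 : ℝ) := by simp [one]
  rw [h5] at h
  linarith

end Cfsg.Agent.S4814
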