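import Cfsg.Statements.S4825
import Cfsg.Agent.Lib.Block.SecondMain
import Cfsg.Agent.Lib.Block.Subsection
import Cfsg.Agent.Lib.Char.Clifford
-- import your own Cfsg.Agent.* helpers here

set_option autoImplicit false
open Cfsg Module

namespace Cfsg.Agent.S4825

open scoped ComplexConjugate

theorem unit_sq {p : ℕ} (hp : p.Prime) (hp3 : p ≤ 3) {a : ZMod p} (ha : a ≠ 0) : a * a = 1 := by
  have h := hp.two_le
  rcases (show p = 2 ∨ p = 3 by omega) with rfl | rfl
  · revert ha; revert a; decide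
  · revert ha; revert a; decide

open Cfsg.Lib Cfsg.Lib.Block in
/-- Values at elements of prime power order are congruent to the degree. -/
theorem sub_degree_mem {G : Type*} [Group G] [Fintype G] {p : ℕ} [Fact p.Prime]
    {M : Ideal AlgInt} (hM : IsPModular p M) (χ : IrrCharacter G) {u : G}
    (hu : ∃ k : ℕ, orderOf u = p ^ k) :
    MemLocalIdeal M ((χ : G → ℂ) u - (χ : G → ℂ) 1) := by
  obtain ⟨n, ρ, -, hρ⟩ := χ.2
  obtain ⟨μ, hμ, hsum, -⟩ := Char.character_eq_sum_roots ρ u
  obtain ⟨k, hk⟩ := hu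
  rw [← hρ, hsum, ρ.char_one]
  have e : (finrank ℂ (Fin n → ℂ) : ℂ) = ∑ _i : Fin (finrank ℂ (Fin n → ℂ)), (1 : ℂ) := by simp
  rw [e, ← Finset.sum_sub_distrib]
  exact memLocalIdeal_sum hM _ _ fun i _ =>
    memLocalIdeal_sub_one_of_pow_prime_pow hM (k := k) (hk ▸ hμ i)

open Cfsg.Lib Cfsg.Lib.Block in
/-- Let p be a prime, G a finite group with Sylow p-subgroup P, M a maximal ideal of the algebraic integers containing p, and B a p-block of G with defect group P. Let N be a normal subgroup of G not containing P and θ an irreducible character of N. Then the number of irreducible characters in B of degree prime to p lying over θ (having θ as a constituent on restriction to N) is either 0 or at least 2, and when p ≤ 3 it is divisible by p. -/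
theorem result {G : Type*} [Group G] [Fintype G] (p : ℕ) [Fact p.Prime] (P : Sylow p G) (M : Ideal Cfsg.AlgInt) (hM : Cfsg.IsPModular p M) (B : Set (Cfsg.IrrCharacter G)) (hB : Cfsg.IsPBlock M B) (hBP : Cfsg.IsDefectGroup p M B P) (N : Subgroup G) [N.Normal] [Fintype N] (hPN : ¬ (P : Subgroup G) ≤ N) (θ : Cfsg.IrrCharacter N) :
    (Nat.card {χ : Cfsg.IrrCharacter G // χ ∈ B ∧ ¬ p ∣ Cfsg.charDegree (χ : G → ℂ) ∧ Cfsg.classInner (fun n : N => (χ : G → ℂ) n) (θ : N → ℂ) ≠ 0} = 0 ∨
      2 ≤ Nat.card {χ : Cfsg.IrrCharacter G // χ ∈ B ∧ ¬ p ∣ Cfsg.charDegree (χ : G → ℂ) ∧ Cfsg.classInner (fun n : N => (χ : G → ℂ) n) (θ : N → ℂ) ≠ 0}) ∧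
    (p ≤ 3 → p ∣ Nat.card {χ : Cfsg.IrrCharacter G // χ ∈ B ∧ ¬ p ∣ Cfsg.charDegree (χ : G → ℂ) ∧ Cfsg.classInner (fun n : N => (χ : G → ℂ) n) (θ : N → ℂ) ≠ 0}) := by
  classical
  have hp : p.Prime := Fact.out
  -- an element of the defect group outside `N`
  obtain ⟨u, huP, huN⟩ := SetLike.not_le_iff_exists.1 hPN
  have hu : ∃ k : ℕ, orderOf u = p ^ k := by
    obtain ⟨k, hk⟩ := IsPGroup.iff_orderOf.1 P.isPGroup' ⟨u, huP⟩
    exact ⟨k, by rwa [Subgroup.orderOf_mk] at hk⟩
  have hpu : pPt p u = u := by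
    obtain ⟨k, hk⟩ := hu
    exact (eq_pPt (mul_one u) (Commute.one_right u) hk (by simp [hp.ne_one])).symm
  set f : G → ℂ := indFun N (θ : N → ℂ) with hf
  set e : IrrCharacter G → ℂ := fun χ => classInner (fun n : N => (χ : G → ℂ) n) (θ : N → ℂ)
    with he
  choose en hen using fun χ : IrrCharacter G =>
    (χ.2.isCharacter.comp N.subtype).exists_nat_classInner θ.2.isCharacter
  have hen' : ∀ χ, e χ = (en χ : ℂ) := fun χ => hen χ
  -- the block part of the induced character vanishes at `u`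
  have hzero : ∑ χ ∈ B.toFinset, e χ * (χ : G → ℂ) u = 0 := by
    have hval : ∀ χ : IrrCharacter G, e χ = classInner f (χ : G → ℂ) := fun χ => by
      rw [hf, Char.classInner_indFun N _ χ.2.isClassFunction, ← Char.classInner_conj_symm,
        show classInner (fun h : N => (χ : G → ℂ) h) (θ : N → ℂ) = (en χ : ℂ) from hen χ,
        map_natCast, hen']
    rw [Finset.sum_congr rfl fun χ _ => by rw [hval χ]]
    simp only [classInner, Finset.mul_sum, Finset.sum_mul]
    rw [Finset.sum_comm]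
    refine Finset.sum_eq_zero fun g _ => ?_
    by_cases hg : g ∈ N
    · have hne : ¬ IsConj (pPt p u) (pPt p g) := fun hc => by
        have hgN : pPt p g ∈ N := Subgroup.zpowers_le.2 hg (pPt_mem_zpowers g)
        rw [hpu] at hc
        obtain ⟨x, hx⟩ := isConj_iff.1 hc.symm
        exact huN (hx ▸ Subgroup.Normal.conj_mem ‹N.Normal› _ hgN x)
      have h := sum_block_mul_conj_eq_zero hM (vInt_indVec hM hB) hne
      rw [finsum_mem_eq_toFinset_sum] at h
      rw [← mul_zero ((Nat.card G : ℂ)⁻¹ * f g), ← h, Finset.mul_sum]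
      exact Finset.sum_congr rfl fun χ _ => by ring
    · have hf0 : f g = 0 := by
        rw [hf]
        exact Char.indFun_normal_of_notMem N _ hg
      exact Finset.sum_eq_zero fun χ _ => by rw [hf0]; ring
  set T : IrrCharacter G → ℕ := fun χ => en χ * charDegree (χ : G → ℂ) with hT
  have hdvd : p ∣ ∑ χ ∈ B.toFinset, T χ := by
    rw [← memLocalIdeal_natCast_iff hM, Nat.cast_sum]
    have h : MemLocalIdeal M (∑ χ ∈ B.toFinset, e χ * ((χ : G → ℂ) u - (χ : G → ℂ) 1)) :=
      memLocalIdeal_sum hM _ _ fun χ _ => by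
        rw [hen']; exact memLocalIdeal_mul_left hM (natCast_mem_locRing hM _) (sub_degree_mem hM χ hu)
    simp only [mul_sub, Finset.sum_sub_distrib, hzero, zero_sub] at h
    have h' := memLocalIdeal_neg hM h
    rw [neg_neg] at h'
    convert h' using 2 with χ
    rw [hen', apply_one_eq_charDegree, hT, Nat.cast_mul]
  set S := B.toFinset.filter fun χ : IrrCharacter G => ¬ p ∣ charDegree (χ : G → ℂ) ∧ e χ ≠ 0 with hS
  have hcard : Nat.card {χ : IrrCharacter G // χ ∈ B ∧ ¬ p ∣ charDegree (χ : G → ℂ) ∧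
      classInner (fun n : N => (χ : G → ℂ) n) (θ : N → ℂ) ≠ 0} = S.card := by
    rw [← Nat.card_eq_finsetCard]
    exact Nat.card_congr (Equiv.subtypeEquivRight fun χ => by simp [hS, he])
  rw [hcard]
  have hdvdS : p ∣ ∑ χ ∈ S, T χ := by
    have h2 : p ∣ ∑ χ ∈ B.toFinset.filter (fun χ : IrrCharacter G => ¬ (¬ p ∣ charDegree (χ : G → ℂ) ∧ e χ ≠ 0)),
        T χ := by
      refine Finset.dvd_sum fun χ hχ => ?_
      have h := (Finset.mem_filter.1 hχ).2
      by_cases hd : p ∣ charDegree (χ : G → ℂ)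
      · exact Dvd.dvd.mul_left hd _
      · have h0 : e χ = 0 := by_contra fun h0 => h ⟨hd, h0⟩
        rw [hen', Nat.cast_eq_zero] at h0
        simp [hT, h0]
    have h3 := Finset.sum_filter_add_sum_filter_not B.toFinset
      (fun χ : IrrCharacter G => ¬ p ∣ charDegree (χ : G → ℂ) ∧ e χ ≠ 0) T
    exact (Nat.dvd_add_left h2).1 (by rw [hS, h3]; exact hdvd)
  have hTne : ∀ χ ∈ S, ¬ p ∣ T χ ∧ ¬ p ∣ en χ := by
    intro χ hχ
    obtain ⟨-, hd, h0⟩ := Finset.mem_filter.1 hχ
    have hdeg := Char.clifford_degree N χ.2 θ.2 (show classInner (fun x : N => (χ : G → ℂ) x)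
      (θ : N → ℂ) ≠ 0 from h0)
    rw [show classInner (fun x : N => (χ : G → ℂ) x) (θ : N → ℂ) = (en χ : ℂ) from hen χ,
      apply_one_eq_charDegree χ, apply_one_eq_charDegree θ] at hdeg
    have hnat : charDegree (χ : G → ℂ) =
        en χ * (Char.inertia N (θ : N → ℂ)).index * charDegree (θ : N → ℂ) := by exact_mod_cast hdeg
    have hen0 : ¬ p ∣ en χ := fun h => hd (hnat ▸ Dvd.dvd.mul_right (Dvd.dvd.mul_right h _) _)
    exact ⟨fun h => (hp.dvd_mul.1 h).elim hen0 hd, hen0⟩
  refine ⟨?_, fun hp3 => ?_⟩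
  · rcases Nat.lt_or_ge S.card 2 with h | h
    · rcases Nat.eq_zero_or_pos S.card with h0 | h1
      · exact Or.inl h0
      · obtain ⟨χ, hχ⟩ := Finset.card_eq_one.1 (by omega : S.card = 1)
        rw [hχ, Finset.sum_singleton] at hdvdS
        exact absurd hdvdS (hTne χ (hχ ▸ Finset.mem_singleton_self χ)).1
    · exact Or.inr h
  · rcases S.eq_empty_or_nonempty with h | ⟨χ₀, hχ₀⟩
    · simp [h]
    -- all terms are congruent
    have hmod : ∀ χ ∈ S, (T χ : ZMod p) = T χ₀ := by
      intro χ hχ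
      have hdeg : ∀ η ∈ S, charDegree (η : G → ℂ) =
          en η * ((Char.inertia N (θ : N → ℂ)).index * charDegree (θ : N → ℂ)) := fun η hη => by
        have hdeg := Char.clifford_degree N η.2 θ.2 (show classInner (fun x : N => (η : G → ℂ) x)
          (θ : N → ℂ) ≠ 0 from (Finset.mem_filter.1 hη).2.2)
        rw [show classInner (fun x : N => (η : G → ℂ) x) (θ : N → ℂ) = (en η : ℂ) from hen η,
          apply_one_eq_charDegree η, apply_one_eq_charDegree θ] at hdeg
        rw [← mul_assoc]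
        exact_mod_cast hdeg
      have hsq : ∀ η ∈ S, ((en η : ZMod p)) * (en η : ZMod p) = 1 := fun η hη => by
        have hne : (en η : ZMod p) ≠ 0 := fun h => (hTne η hη).2
          ((ZMod.natCast_eq_zero_iff _ _).1 h)
        exact unit_sq hp hp3 hne
      rw [hT]
      simp only [hdeg χ hχ, hdeg χ₀ hχ₀, Nat.cast_mul, ← mul_assoc, hsq χ hχ, hsq χ₀ hχ₀]
    have h : ((∑ χ ∈ S, T χ : ℕ) : ZMod p) = 0 := (ZMod.natCast_eq_zero_iff _ _).2 hdvdS
    rw [Nat.cast_sum, Finset.sum_congr rfl hmod, Finset.sum_const, nsmul_eq_mul, mul_eq_zero] at h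
    rcases h with h | h
    · exact (ZMod.natCast_eq_zero_iff _ _).1 h
    · exact absurd ((ZMod.natCast_eq_zero_iff _ _).1 h) (hTne χ₀ hχ₀).1

end Cfsg.Agent.S4825
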