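import Cfsg.Statements.S4835
import Cfsg.Agent.Lib.Char.TwoClass

-- import your own Cfsg.Agent.* helpers here

set_option autoImplicit false
open Cfsg

namespace Cfsg.Agent.S4835

open Cfsg Cfsg.Lib.Char


/-- Let G be a finite group of order greater than 2 with an irreducible character χ that is nonzero on exactly two conjugacy classes. Then G has a unique minimal normal subgroup N; N is an elementary abelian p-group for some prime p; χ is nonzero exactly at the elements of N; and any two nonidentity elements of N are conjugate in G. -/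
theorem result {G : Type*} [Group G] [Finite G] (hG : 2 < Nat.card G) (χ : Cfsg.IrrCharacter G) (hχ : Nat.card {C : ConjClasses G // ∃ g ∈ C.carrier, (χ : G → ℂ) g ≠ 0} = 2) :
    ∃ N : Subgroup G, N.Normal ∧ N ≠ ⊥ ∧ (∀ K : Subgroup G, K.Normal → K ≠ ⊥ → N ≤ K) ∧
      (∃ p : ℕ, p.Prime ∧ Cfsg.IsElementaryAbelian p N) ∧
      (∀ g : G, (χ : G → ℂ) g ≠ 0 ↔ g ∈ N) ∧
      (∀ x ∈ N, ∀ y ∈ N, x ≠ 1 → y ≠ 1 → ∃ g : G, g * x * g⁻¹ = y) := by
  classical
  obtain ⟨N, hNn, hN1, hN⟩ := twoClass_exists hG hχ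
  obtain ⟨m, hm0, hg', h1', hcardG, hker, hcoset, -⟩ := twoClass_data hG hχ hN hN1
  obtain ⟨g, hg, hg1⟩ := N.bot_or_exists_ne_one.resolve_left hN1
  have hconj : ∀ x ∈ N, ∀ y ∈ N, x ≠ 1 → y ≠ 1 → ∃ c : G, c * x * c⁻¹ = y := fun x hx y hy hx1 hy1 =>
    isConj_iff.mp (twoClass_isConj hχ hN hx hy hx1 hy1)
  refine ⟨N, hNn, hN1, fun K hK hK1 => ?_, ?_, fun x => (hN x).symm, hconj⟩
  · obtain ⟨k, hk, hk1⟩ := K.bot_or_exists_ne_one.resolve_left hK1
    have key : ∀ x ∈ K, x ∈ N → x ≠ 1 → N ≤ K := fun x hxK hxN hx1 y hy => by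
      by_cases hy1 : y = 1
      · rw [hy1]; exact K.one_mem
      · obtain ⟨c, rfl⟩ := hconj x hxN y hy hx1 hy1
        exact hK.conj_mem x hxK c
    by_cases hkN : k ∈ N
    · exact key k hk hkN hk1
    · obtain ⟨c, hc⟩ := isConj_iff.mp (hcoset k hkN g hg)
      refine key g ?_ hg hg1
      simpa [hc] using K.mul_mem (hK.conj_mem k hk c) (K.inv_mem hk)
  · obtain ⟨p, hp, hdvd⟩ := Nat.exists_prime_and_dvd (n := Nat.card N) (fun h =>
      hN1 (Subgroup.eq_bot_of_card_eq N h))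
    haveI : Fact p.Prime := ⟨hp⟩
    obtain ⟨z, hz⟩ := exists_prime_orderOf_dvd_card' p hdvd
    have hz1 : (z : G) ≠ 1 := fun e =>
      hp.one_lt.ne' (by rw [← hz, ← Subgroup.orderOf_coe, e, orderOf_one])
    have hNp : IsPGroup p N := by
      rintro ⟨a, ha⟩
      by_cases ha1 : a = 1
      · exact ⟨0, Subtype.ext (by simpa using ha1)⟩
      · obtain ⟨c, rfl⟩ := hconj z z.2 a ha hz1 ha1
        refine ⟨1, Subtype.ext ?_⟩
        simp only [SubmonoidClass.coe_pow, pow_one, conj_pow]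
        rw [← hz, ← Subgroup.orderOf_coe, pow_orderOf_eq_one, mul_one, mul_inv_cancel]
        rfl
    obtain ⟨hab, hexp⟩ := twoClass_elementaryAbelian hχ hN hNp
    exact ⟨p, hp, ⟨⟨fun a b => Subtype.ext (hab a a.2 b b.2)⟩⟩, hexp⟩


end Cfsg.Agent.S4835
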