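import Cfsg.Statements.S4836
import Cfsg.Agent.Lib.Char.TwoClass

-- import your own Cfsg.Agent.* helpers here

set_option autoImplicit false
open Cfsg

namespace Cfsg.Agent.S4836

open Cfsg Cfsg.Lib.Char

theorem uniq {G : Type*} [Group G] [Finite G] (hG : 2 < Nat.card G) (χ : IrrCharacter G)
    (hχ : Nat.card {C : ConjClasses G // ∃ g ∈ C.carrier, (χ : G → ℂ) g ≠ 0} = 2) :
    ∃ N : Subgroup G, N.Normal ∧ (∀ g : G, g ∈ N ↔ (χ : G → ℂ) g ≠ 0) ∧
    (∀ g : G, (χ : G → ℂ) g = (χ : G → ℂ) 1 → g = 1) ∧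
    ∃ g ∈ N, g ≠ 1 ∧ (∀ ψ : IrrCharacter G, ψ ≠ χ → (ψ : G → ℂ) g = (ψ : G → ℂ) 1) ∧
      ∀ y, y ∉ N → IsConj y (g * y) := by
  obtain ⟨N, hNn, hN1, hN⟩ := twoClass_exists hG hχ
  obtain ⟨m, hm0, hg', h1', hcardG, hker, hcoset, -⟩ := twoClass_data hG hχ hN hN1
  obtain ⟨g, hg, hg1⟩ := N.bot_or_exists_ne_one.resolve_left hN1
  refine ⟨N, hNn, hN, fun x hx => ?_, g, hg, hg1, fun ψ h => hker ψ h g hg, fun y hy => hcoset y hy g hg⟩
  by_contra hx1
  have hxN : x ∈ N := (hN x).mpr (by rw [hx]; exact χ.2.apply_one_ne_zero)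
  rw [hg' x hxN hx1, h1'] at hx
  have h : ((Nat.card N : ℂ)) * m = 0 := by linear_combination -hx
  rw [mul_eq_zero, Nat.cast_eq_zero, Nat.cast_eq_zero] at h
  exact h.elim Nat.card_pos.ne' hm0


/-- Let G be a finite group of order greater than 2 with an irreducible character χ that is nonzero on exactly two conjugacy classes. Then χ is faithful (it takes the value χ(1) only at the identity), it is the only faithful irreducible character of G, and it is the only irreducible character of G that is nonzero on exactly two conjugacy classes. -/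
theorem result {G : Type*} [Group G] [Finite G] (hG : 2 < Nat.card G) (χ : Cfsg.IrrCharacter G) (hχ : Nat.card {C : ConjClasses G // ∃ g ∈ C.carrier, (χ : G → ℂ) g ≠ 0} = 2) :
    (∀ g : G, (χ : G → ℂ) g = (χ : G → ℂ) 1 → g = 1) ∧
      (∀ ψ : Cfsg.IrrCharacter G, (∀ g : G, (ψ : G → ℂ) g = (ψ : G → ℂ) 1 → g = 1) → ψ = χ) ∧
      (∀ ψ : Cfsg.IrrCharacter G, Nat.card {C : ConjClasses G // ∃ g ∈ C.carrier, (ψ : G → ℂ) g ≠ 0} = 2 → ψ = χ) := by
  obtain ⟨N, hNn, hN, hfaith, g, hg, hg1, hker, hcoset⟩ := uniq hG χ hχ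
  refine ⟨hfaith, fun ψ hψ => ?_, fun ψ hψ => ?_⟩
  · by_contra hne
    exact hg1 (hψ g (hker ψ hne))
  · by_contra hne
    obtain ⟨M, -, -, hψf, -⟩ := uniq hG ψ hψ
    exact hg1 (hψf g (hker ψ hne))


end Cfsg.Agent.S4836
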