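import Cfsg.Statements.S4837
import Cfsg.Agent.Lib.Char.TwoClass
import Cfsg.Agent.Lib.Char.Clifford
import Cfsg.Agent.Lib.Char.Linear
-- import your own Cfsg.Agent.* helpers here

set_option autoImplicit false
open Cfsg

namespace Cfsg.Agent.S4837

open Cfsg Cfsg.Lib.Char

open scoped ComplexConjugate in
theorem inertia_pGroup {G : Type*} [Group G] [Fintype G] {p : ℕ} [Fact p.Prime] (hG : 2 < Nat.card G)
    (χ : IrrCharacter G)
    (hχ : Nat.card {C : ConjClasses G // ∃ g ∈ C.carrier, (χ : G → ℂ) g ≠ 0} = 2)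
    (N : Subgroup G) [N.Normal] (hN : ∀ g : G, g ∈ N ↔ (χ : G → ℂ) g ≠ 0) (hNp : IsPGroup p N)
    (hN1 : N ≠ ⊥) {μ : N → ℂ} (hμ : IsIrrCharacter N μ) (hμ1 : μ ≠ fun _ => 1) :
    IsPGroup p (inertia N μ) ∧ ¬ p ∣ (inertia N μ).index := by
  classical
  haveI := Fintype.ofFinite N
  obtain ⟨m, hm0, hg', h1', hcardG, -, -, hcard⟩ := twoClass_data hG hχ hN hN1
  obtain ⟨hab, -⟩ := twoClass_elementaryAbelian hχ hN hNp
  have hμ1' : μ 1 = 1 := by
    exact degree_eq_one_of_comm (fun a b => Subtype.ext (hab a a.2 b b.2)) hμ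
  have hres : classInner (fun x : N => (χ : G → ℂ) x) μ = (m : ℂ) := by
    have hs : ∀ x : N, (χ : G → ℂ) x = (if x = 1 then (Nat.card N : ℂ) * m else 0) - m := by
      intro x
      by_cases hx : x = 1
      · subst hx; rw [if_pos rfl, Subgroup.coe_one, h1']; ring
      · rw [if_neg hx, zero_sub, hg' x x.2 (fun e => hx (Subtype.ext e))]
    have h2 := classInner_irr_ne hμ isIrrCharacter_one hμ1
    rw [classInner_one_right, mul_eq_zero, or_iff_right (inv_ne_zero card_cast_ne_zero)] at h2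
    unfold classInner
    simp only [hs, sub_mul, Finset.sum_sub_distrib, ite_mul, zero_mul, Finset.sum_ite_eq',
      Finset.mem_univ, if_true, ← Finset.mul_sum, ← map_sum, h2, map_zero, mul_zero, sub_zero, hμ1',
      map_one, mul_one]
    rw [← mul_assoc, inv_mul_cancel₀ card_cast_ne_zero, one_mul]
  have h3 := clifford_degree N χ.2 hμ (by rw [hres]; exact_mod_cast hm0)
  rw [hres, hμ1', mul_one, h1'] at h3
  have hq0 : 0 < Nat.card N := Nat.card_pos
  have hidx : (inertia N μ).index = Nat.card N - 1 := by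
    refine Nat.cast_injective (R := ℂ) (mul_left_cancel₀ (show (m : ℂ) ≠ 0 by exact_mod_cast hm0) ?_)
    rw [Nat.cast_sub (by omega), Nat.cast_one]
    linear_combination -h3
  obtain ⟨g, hg, hg1⟩ := N.bot_or_exists_ne_one.resolve_left hN1
  obtain ⟨hC, hCi⟩ := twoClass_centralizer hG hχ hN hNp hg hg1
  have hCidx : (Subgroup.centralizer ({g} : Set G)).index = Nat.card N - 1 := by
    have h1 := Subgroup.card_mul_index (Subgroup.centralizer ({g} : Set G))
    rw [hcard g hg hg1, hcardG] at h1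
    exact Nat.eq_of_mul_eq_mul_left (Nat.mul_pos (by positivity) hq0) h1
  refine ⟨?_, hidx ▸ hCidx ▸ hCi⟩
  obtain ⟨k, hk⟩ := IsPGroup.iff_card.mp hC
  refine IsPGroup.of_card (n := k) ?_
  have h1 := (inertia N μ).card_mul_index
  rw [hidx, ← (Subgroup.centralizer ({g} : Set G)).card_mul_index, hCidx, hk] at h1
  refine Nat.eq_of_mul_eq_mul_right ?_ h1
  have h2 := hCidx ▸ (Subgroup.centralizer ({g} : Set G)).index_ne_zero_of_finite
  omega


/-- Let G be a finite group of order greater than 2 with an irreducible character χ nonzero on exactly two conjugacy classes, and let N be the set of elements where χ is nonzero, given as a nontrivial normal p-subgroup of G for the prime p. Then for every nonidentity x in N the centralizer C_G(x) is a Sylow p-subgroup of G, and for every irreducible character λ ≠ 1 of N the stabilizer of λ in G (its inertia group) is a Sylow p-subgroup of G. -/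
theorem result {G : Type*} [Group G] [Finite G] (hG : 2 < Nat.card G) (χ : Cfsg.IrrCharacter G) (hχ : Nat.card {C : ConjClasses G // ∃ g ∈ C.carrier, (χ : G → ℂ) g ≠ 0} = 2) (p : ℕ) [Fact p.Prime] (N : Subgroup G) [N.Normal] (hN : ∀ g : G, g ∈ N ↔ (χ : G → ℂ) g ≠ 0) (hNp : IsPGroup p N) (hN1 : N ≠ ⊥) :
    (∀ x ∈ N, x ≠ 1 → ∃ P : Sylow p G, Subgroup.centralizer ({x} : Set G) = P) ∧
      (∀ μ : Cfsg.IrrCharacter N, (μ : N → ℂ) ≠ (fun _ => (1 : ℂ)) → ∃ P : Sylow p G, ∀ g : G, g ∈ (P : Subgroup G) ↔ ∀ n n' : N, (n' : G) = g * n * g⁻¹ → (μ : N → ℂ) n' = (μ : N → ℂ) n) := by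
  refine ⟨fun x hx hx1 => ?_, fun μ hμ1 => ?_⟩
  · obtain ⟨h1, h2⟩ := twoClass_centralizer hG hχ hN hNp hx hx1
    exact ⟨h1.toSylow h2, rfl⟩
  · haveI := Fintype.ofFinite G
    obtain ⟨h1, h2⟩ := inertia_pGroup (p := p) hG χ hχ N hN hNp hN1 μ.2 hμ1
    refine ⟨h1.toSylow h2, fun g => ?_⟩
    rw [IsPGroup.toSylow_coe, mem_inertia_iff]
    constructor
    · intro h n n' hn
      rw [show n' = ⟨g * n * g⁻¹, (inferInstance : N.Normal).conj_mem n n.2 g⟩ from Subtype.ext hn]
      exact h n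
    · intro h n
      exact h n _ rfl


end Cfsg.Agent.S4837
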