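import Cfsg.Statements.S4838
import Cfsg.Agent.Lib.Char.TwoClass

-- import your own Cfsg.Agent.* helpers here

set_option autoImplicit false
open Cfsg

namespace Cfsg.Agent.S4838

open Cfsg Cfsg.Lib.Char
open scoped commutatorElement

/-- Let G be a finite group of order greater than 2 with an irreducible character χ nonzero on exactly two conjugacy classes, N the normal p-subgroup of elements where χ is nonzero, and P a Sylow p-subgroup of G. Then (a) for every x outside N the centralizer of x in G has the same order as the centralizer of xN in G/N; (b) the centre of P lies in N, and equals N exactly when P is normal in G; (c) N, viewed inside P, is a term of the upper central series of P. -/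
theorem result {G : Type*} [Group G] [Finite G] (hG : 2 < Nat.card G) (χ : Cfsg.IrrCharacter G) (hχ : Nat.card {C : ConjClasses G // ∃ g ∈ C.carrier, (χ : G → ℂ) g ≠ 0} = 2) (p : ℕ) [Fact p.Prime] (N : Subgroup G) [N.Normal] (hN : ∀ g : G, g ∈ N ↔ (χ : G → ℂ) g ≠ 0) (hNp : IsPGroup p N) (hN1 : N ≠ ⊥) (P : Sylow p G) :
    (∀ x : G, x ∉ N → Nat.card (Subgroup.centralizer ({x} : Set G)) = Nat.card (Subgroup.centralizer ({(x : G ⧸ N)} : Set (G ⧸ N)))) ∧
      ((Subgroup.center ↥(P : Subgroup G)).map (P : Subgroup G).subtype ≤ N ∧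
        ((Subgroup.center ↥(P : Subgroup G)).map (P : Subgroup G).subtype = N ↔ (P : Subgroup G).Normal)) ∧
      (∃ i : ℕ, Subgroup.upperCentralSeries ↥(P : Subgroup G) i = N.subgroupOf (P : Subgroup G)) := by
  classical
  haveI := Fintype.ofFinite G
  obtain ⟨m, hm0, hg', h1', hcardG, hker, hcoset, hcard⟩ := twoClass_data hG hχ hN hN1
  have hp : p.Prime := Fact.out
  set q := Nat.card N with hq
  have hNP : N ≤ (P : Subgroup G) := by
    have := hNp.exists_le_sylow
    obtain ⟨Q, hQ⟩ := this
    obtain ⟨c, rfl⟩ := MulAction.exists_smul_eq G Q P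
    intro x hx
    rw [Sylow.coe_subgroup_smul, Subgroup.mem_pointwise_smul_iff_inv_smul_mem]
    exact hQ (by simpa using (inferInstance : N.Normal).conj_mem x hx c⁻¹)
  have hquot : ∀ x : G, x ∉ N → Nat.card (Subgroup.centralizer ({x} : Set G)) =
      Nat.card (Subgroup.centralizer ({(x : G ⧸ N)} : Set (G ⧸ N))) := by
    intro x hx
    haveI := Fintype.ofFinite (G ⧸ N)
    have hset : classFinset x = Finset.univ.filter
        (fun y : G => (y : G ⧸ N) ∈ classFinset (x : G ⧸ N)) := by
      ext y
      simp only [Finset.mem_filter, Finset.mem_univ, true_and, mem_classFinset]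
      constructor
      · intro h; exact (QuotientGroup.mk' N).map_isConj h
      · intro h
        obtain ⟨c, hc⟩ := isConj_iff.mp h
        obtain ⟨c, rfl⟩ := QuotientGroup.mk_surjective c
        rw [← QuotientGroup.mk_mul, ← QuotientGroup.mk_inv, ← QuotientGroup.mk_mul] at hc
        have h2 : y * (c * x * c⁻¹)⁻¹ ∈ N := by
          rw [← QuotientGroup.eq_one_iff, QuotientGroup.mk_mul, QuotientGroup.mk_inv, hc, mul_inv_cancel]
        have h3 : IsConj x (c * x * c⁻¹) := isConj_iff.mpr ⟨c, rfl⟩
        have h4 := hcoset (c * x * c⁻¹) (fun hm => hx (by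
          simpa [mul_assoc] using (inferInstance : N.Normal).conj_mem _ hm c⁻¹)) _ h2
        rw [inv_mul_cancel_right] at h4
        exact h3.trans h4
    have hcnt : (classFinset x).card = (classFinset (x : G ⧸ N)).card * q := by
      rw [hset]
      refine (Finset.card_eq_sum_card_fiberwise (f := fun y : G => (y : G ⧸ N))
        (t := classFinset (x : G ⧸ N)) (fun y hy => (Finset.mem_filter.mp (Finset.mem_coe.mp hy)).2)).trans ?_
      rw [Finset.sum_eq_card_nsmul (b := q), smul_eq_mul]
      intro z hz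
      obtain ⟨z, rfl⟩ := QuotientGroup.mk_surjective z
      rw [hq, ← Nat.card_eq_finsetCard]
      refine Nat.card_congr ((Equiv.mulLeft z).subtypeEquiv fun a => ?_).symm
      simp only [Finset.mem_filter, Finset.mem_univ, true_and, Equiv.coe_mulLeft]
      constructor
      · intro ha
        have h2 : ((z * a : G) : G ⧸ N) = (z : G ⧸ N) := by
          rw [QuotientGroup.mk_mul, (QuotientGroup.eq_one_iff a).mpr ha, mul_one]
        exact ⟨h2 ▸ hz, h2⟩
      · rintro ⟨-, h2⟩
        rwa [QuotientGroup.mk_mul, mul_eq_left, QuotientGroup.eq_one_iff] at h2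
    rw [card_classFinset, card_classFinset] at hcnt
    have h1 := Subgroup.card_mul_index (Subgroup.centralizer ({x} : Set G))
    have h2 := Subgroup.card_mul_index (Subgroup.centralizer ({(x : G ⧸ N)} : Set (G ⧸ N)))
    rw [hcnt, ← N.card_mul_index, show N.index = Nat.card (G ⧸ N) from rfl, ← h2, ← hq] at h1
    refine Nat.eq_of_mul_eq_mul_right
      (Nat.pos_of_ne_zero (Subgroup.index_ne_zero_of_finite (H := Subgroup.centralizer ({(x : G ⧸ N)} : Set (G ⧸ N))))) ?_
    refine Nat.eq_of_mul_eq_mul_right (Nat.card_pos (α := N)) ?_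
    rw [← hq]
    linarith
  have hbig : ∀ x, x ∉ N → ∀ a ∈ N, IsConj x (a * x) := hcoset
  -- if x outside N has at most r conjugates under P then q ≤ r
  have hkey : ∀ x, x ∈ (P : Subgroup G) → x ∉ N → ∀ S : Finset G,
      (∀ c ∈ (P : Subgroup G), c * x * c⁻¹ * x⁻¹ ∈ S) → q ≤ S.card := by
    intro x hxP hx S hS
    haveI := Fintype.ofFinite (P : Subgroup G)
    set xP : (P : Subgroup G) := ⟨x, hxP⟩
    have hcl : (classFinset xP).card ≤ S.card := by
      refine Finset.card_le_card_of_injOn (fun y => (y : G) * x⁻¹) ?_ ?_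
      · intro y hy
        obtain ⟨c, rfl⟩ := isConj_iff.mp (mem_classFinset.mp hy)
        exact hS c c.2
      · intro a _ b _ hab
        exact Subtype.ext (mul_right_cancel hab)
    rw [card_classFinset] at hcl
    refine le_trans (Nat.le_of_dvd (Nat.pos_of_ne_zero Subgroup.index_ne_zero_of_finite) ?_) hcl
    obtain ⟨a, ha⟩ := IsPGroup.iff_card.mp hNp
    obtain ⟨n, hn⟩ := IsPGroup.iff_card.mp P.2
    obtain ⟨i, hi⟩ := IsPGroup.iff_card.mp (P.2.to_subgroup (Subgroup.centralizer ({xP} : Set (P : Subgroup G))))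
    have h1 := Subgroup.card_mul_index (Subgroup.centralizer ({xP} : Set (P : Subgroup G)))
    rw [hi, hn] at h1
    have hle : p ^ i * q ∣ p ^ n := by
      have h2 : p ^ i ∣ Nat.card (Subgroup.centralizer ({x} : Set G)) := by
        rw [← hi]
        have hmap : (Subgroup.centralizer ({xP} : Set (P : Subgroup G))).map (P : Subgroup G).subtype ≤
            Subgroup.centralizer ({x} : Set G) := by
          rintro _ ⟨y, hy, rfl⟩
          exact Subgroup.mem_centralizer_singleton_iff.mpr
            (congrArg Subtype.val (Subgroup.mem_centralizer_singleton_iff.mp hy))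
        rw [Nat.card_congr ((Subgroup.centralizer ({xP} : Set (P : Subgroup G))).equivMapOfInjective
          (P : Subgroup G).subtype (P : Subgroup G).subtype_injective).toEquiv]
        exact Subgroup.card_dvd_of_le hmap
      rw [hquot x hx] at h2
      have h3 : p ^ i * q ∣ Nat.card G := by
        rw [← N.card_mul_index, hq, mul_comm (Nat.card N) N.index]
        exact mul_dvd_mul_right (h2.trans (Subgroup.card_subgroup_dvd_card _)) _
      rw [ha] at hq
      rw [hq, ← pow_add] at h3 ⊢
      refine pow_dvd_pow p ?_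
      have h4 := (hp.pow_dvd_iff_le_factorization Nat.card_pos.ne').mp h3
      rw [show n = (Nat.card G).factorization p from Nat.pow_right_injective hp.two_le (hn.symm.trans P.card_eq_multiplicity)]
      exact h4
    rw [← h1] at hle
    exact (Nat.mul_dvd_mul_iff_left (pow_pos hp.pos i)).mp hle
  obtain ⟨g, hg, hg1⟩ := N.bot_or_exists_ne_one.resolve_left hN1
  have hq2 : 2 ≤ q := by
    haveI : Nontrivial N := ⟨⟨g, hg⟩, 1, fun e => hg1 (congrArg Subtype.val e)⟩
    exact Finite.one_lt_card
  have hZ : (Subgroup.center ↥(P : Subgroup G)).map (P : Subgroup G).subtype ≤ N := by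
    rintro _ ⟨z, hz, rfl⟩
    by_contra hzN
    have h := hkey z z.2 hzN {1} (fun c hc => by
      have h5 := congrArg Subtype.val (Subgroup.mem_center_iff.mp hz ⟨c, hc⟩)
      simp only [Subgroup.coe_mul] at h5
      rw [Finset.mem_singleton]
      show c * (z : G) * c⁻¹ * (z : G)⁻¹ = 1
      rw [h5]
      group)
    simp at h
    omega
  refine ⟨hquot, ⟨hZ, ?_, ?_⟩, ?_⟩
  · intro hZN
    have hcent : (P : Subgroup G) = Subgroup.centralizer (N : Set G) := by
      have hle : (P : Subgroup G) ≤ Subgroup.centralizer (N : Set G) := by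
        intro x hx
        rw [Subgroup.mem_centralizer_iff]
        intro a ha
        rw [← hZN] at ha
        obtain ⟨z, hz, rfl⟩ := ha
        exact (congrArg Subtype.val (Subgroup.mem_center_iff.mp hz ⟨x, hx⟩)).symm
      refine (P.3 ?_ hle).symm
      exact (twoClass_centralizer hG hχ hN hNp hg hg1).1.to_le
        (Subgroup.centralizer_le (Set.singleton_subset_iff.mpr hg))
    rw [hcent]
    infer_instance
  · intro hPn
    refine le_antisymm hZ fun a ha => ?_
    by_cases ha1 : a = 1
    · subst ha1; exact Subgroup.one_mem _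
    haveI : Nontrivial (P : Subgroup G) := ⟨⟨g, hNP hg⟩, 1, fun e => hg1 (congrArg Subtype.val e)⟩
    haveI := P.2.center_nontrivial
    obtain ⟨⟨z, hz⟩, hz1⟩ := exists_ne (1 : Subgroup.center ↥(P : Subgroup G))
    have hz1' : (z : G) ≠ 1 := fun e => hz1 (Subtype.ext (Subtype.ext e))
    obtain ⟨c, rfl⟩ := isConj_iff.mp
      (twoClass_isConj hχ hN (hZ ⟨z, hz, rfl⟩) ha hz1' ha1)
    exact (inferInstance : ((Subgroup.center ↥(P : Subgroup G)).map (P : Subgroup G).subtype).Normal).conj_mem
      _ ⟨z, hz, rfl⟩ c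
  · haveI : Group.IsNilpotent ↥(P : Subgroup G) := P.2.isNilpotent
    obtain ⟨n, hn⟩ := Group.IsNilpotent.nilpotent ↥(P : Subgroup G)
    by_cases hPN : (P : Subgroup G) ≤ N
    · exact ⟨n, by rw [hn, Subgroup.subgroupOf_eq_top.mpr hPN]⟩
    have hex : ∃ i, ¬ Subgroup.upperCentralSeries ↥(P : Subgroup G) i ≤ N.subgroupOf (P : Subgroup G) :=
      ⟨n, by rw [hn, top_le_iff, Subgroup.subgroupOf_eq_top]; exact hPN⟩
    obtain ⟨i, hi⟩ : ∃ i, Nat.find hex = i + 1 := by
      refine Nat.exists_eq_succ_of_ne_zero fun h => ?_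
      have := Nat.find_spec hex
      rw [h, Subgroup.upperCentralSeries_zero] at this
      exact this bot_le
    have hle : Subgroup.upperCentralSeries ↥(P : Subgroup G) i ≤ N.subgroupOf (P : Subgroup G) :=
      not_not.mp (Nat.find_min hex (by omega))
    obtain ⟨x, hxZ, hxN⟩ := SetLike.not_le_iff_exists.mp (hi ▸ Nat.find_spec hex)
    set Z := Subgroup.upperCentralSeries ↥(P : Subgroup G) i
    haveI := Fintype.ofFinite Z
    have h := hkey x x.2 hxN ((Finset.univ : Finset Z).image (fun z : Z => (((z : ↥(P : Subgroup G))) : G))) (fun c hc => by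
      have h5 : ⁅x, (⟨c, hc⟩ : ↥(P : Subgroup G))⁆⁻¹ ∈ Z :=
        Z.inv_mem (Subgroup.mem_upperCentralSeries_succ_iff.mp hxZ ⟨c, hc⟩)
      refine Finset.mem_image.mpr ⟨⟨_, h5⟩, Finset.mem_univ _, ?_⟩
      simp [commutatorElement_def, mul_assoc])
    refine ⟨i, Subgroup.eq_of_le_of_card_ge hle ?_⟩
    rw [Nat.card_congr (Subgroup.subgroupOfEquivOfLe hNP).toEquiv, ← hq]
    refine h.trans (Finset.card_image_le.trans ?_)
    rw [Finset.card_univ, Nat.card_eq_fintype_card]


end Cfsg.Agent.S4838
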