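import Cfsg.Statements.S4839
import Cfsg.Agent.Lib.Char.Central
import Cfsg.Agent.Lib.Char.Formulas
import Cfsg.Agent.Lib.Solv.FrobeniusBasic
import Cfsg.Agent.Lib.Invol.BaerSuzuki
import Cfsg.Agent.Lib.Core.Cores
import Mathlib.GroupTheory.SchurZassenhaus
-- import your own Cfsg.Agent.* helpers here

set_option autoImplicit false
open Cfsg

namespace Cfsg.Agent.S4839

set_option linter.style.haveILetI false
open Cfsg Cfsg.Lib.Char
open scoped ComplexConjugate

universe u

variable {G : Type u} [Group G]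

/-- averaging a character over a commuting subgroup gives an algebraic integer -/
theorem isIntegral_avg [Finite G] {χ : G → ℂ} (hχ : IsCharacter G χ) {g : G} (R : Subgroup G)
    [Fintype R] (hcomm : ∀ x ∈ R, g * x = x * g) :
    IsIntegral ℤ ((∑ x : R, χ (g * (x : G))) / (Nat.card R : ℂ)) := by
  classical
  set Z := Subgroup.zpowers g with hZ
  haveI : Fintype Z := Fintype.ofFinite Z
  have hc : ∀ (y : Z) (x : R), (y : G) * (x : G) = (x : G) * (y : G) := by
    rintro ⟨y, hy⟩ x
    obtain ⟨k, rfl⟩ := Subgroup.mem_zpowers_iff.mp hy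
    exact Commute.zpow_left (show Commute g (x : G) from hcomm x x.2) k
  let f : Z × R →* G :=
    { toFun := fun a => (a.1 : G) * (a.2 : G)
      map_one' := by simp
      map_mul' := fun a b => by
        simp only [Prod.fst_mul, Prod.snd_mul, Subgroup.coe_mul]
        calc (a.1 : G) * b.1 * (a.2 * b.2) = a.1 * ((b.1 : G) * a.2) * b.2 := by group
          _ = a.1 * ((a.2 : G) * b.1) * b.2 := by rw [hc b.1 a.2]
          _ = _ := by group }
  have hf : IsCharacter (Z × R) (fun a => χ (f a)) := hχ.comp f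
  let h : Z → ℂ := fun y => (∑ x : R, χ ((y : G) * (x : G))) / (Nat.card R : ℂ)
  have habel : ∀ a b : Z, a * b = b * a := fun a b => Subtype.ext (by
    obtain ⟨i, hi⟩ := Subgroup.mem_zpowers_iff.mp a.2
    obtain ⟨j, hj⟩ := Subgroup.mem_zpowers_iff.mp b.2
    rw [Subgroup.coe_mul, Subgroup.coe_mul, ← hi, ← hj, ← zpow_add, ← zpow_add, add_comm])
  have hcl : IsClassFunction Z h := fun a b => by rw [habel b a, mul_inv_cancel_right]
  have hn : ∀ ν : IrrCharacter Z, ∃ n : ℕ, classInner h (ν : Z → ℂ) = n := by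
    intro ν
    obtain ⟨n, hn⟩ := hf.exists_nat_classInner (ν.2.isCharacter.comp (MonoidHom.fst Z R))
    refine ⟨n, ?_⟩
    rw [← hn]
    simp only [classInner, Nat.card_prod, Nat.cast_mul, Fintype.sum_prod_type, h,
      MonoidHom.coe_fst, f, MonoidHom.coe_mk, OneHom.coe_mk]
    rw [mul_inv, mul_assoc, Finset.mul_sum (a := (Nat.card R : ℂ)⁻¹)]
    congr 1
    refine Finset.sum_congr rfl fun y _ => ?_
    rw [← Finset.sum_mul]
    ring
  have h2 := congrFun (eq_sum_classInner hcl) ⟨g, Subgroup.mem_zpowers g⟩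
  rw [show (∑ x : R, χ (g * (x : G))) / (Nat.card R : ℂ) = h ⟨g, Subgroup.mem_zpowers g⟩ from rfl, h2,
    Finset.sum_apply]
  refine IsIntegral.sum _ fun ν _ => ?_
  obtain ⟨n, hn⟩ := hn ν
  rw [Pi.smul_apply, smul_eq_mul, hn]
  exact (isIntegral_algebraMap (R := ℤ) (x := (n : ℤ))).mul (ν.2.isCharacter.isIntegral _)

variable [Finite G] {χ : IrrCharacter G} {p : ℕ} [Fact p.Prime] {N : Subgroup G}

/-- the two class hypothesis: nonidentity elements of `N` are conjugate -/
theorem isConj_of_mem (hχ : Nat.card {C : ConjClasses G // ∃ g ∈ C.carrier, (χ : G → ℂ) g ≠ 0} = 2)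
    (hN : ∀ g : G, g ∈ N ↔ (χ : G → ℂ) g ≠ 0) {x y : G} (hx : x ∈ N) (hy : y ∈ N) (hx1 : x ≠ 1)
    (hy1 : y ≠ 1) : IsConj x y := by
  classical
  by_contra hxy
  set T := {C : ConjClasses G // ∃ g ∈ C.carrier, (χ : G → ℂ) g ≠ 0}
  haveI : Finite (ConjClasses G) := Quotient.finite _
  haveI : Finite T := Subtype.finite
  have mk : ∀ z : G, z ∈ N → ∃ g ∈ (ConjClasses.mk z).carrier, (χ : G → ℂ) g ≠ 0 :=
    fun z hz => ⟨z, ConjClasses.mem_carrier_mk, (hN z).mp hz⟩
  let f : Fin 3 → T := ![⟨_, mk 1 N.one_mem⟩, ⟨_, mk x hx⟩, ⟨_, mk y hy⟩]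
  have e01 : ConjClasses.mk 1 ≠ ConjClasses.mk x := fun h =>
    hx1 (isConj_one_right.mp (ConjClasses.mk_eq_mk_iff_isConj.mp h))
  have e02 : ConjClasses.mk 1 ≠ ConjClasses.mk y := fun h =>
    hy1 (isConj_one_right.mp (ConjClasses.mk_eq_mk_iff_isConj.mp h))
  have e12 : ConjClasses.mk x ≠ ConjClasses.mk y := fun h =>
    hxy (ConjClasses.mk_eq_mk_iff_isConj.mp h)
  have hf : Function.Injective f := by
    intro i j hij
    have h' := congrArg Subtype.val hij
    fin_cases i <;> fin_cases j <;>
      first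
      | rfl
      | exact absurd h' e01 | exact absurd h'.symm e01
      | exact absurd h' e02 | exact absurd h'.symm e02
      | exact absurd h' e12 | exact absurd h'.symm e12
  have h3 := Nat.card_le_card_of_injective f hf
  simp only [Nat.card_eq_fintype_card (α := Fin 3), Fintype.card_fin] at h3
  omega

theorem main (hG : 2 < Nat.card G)
    (hχ : Nat.card {C : ConjClasses G // ∃ g ∈ C.carrier, (χ : G → ℂ) g ≠ 0} = 2) [hNn : N.Normal]
    (hN : ∀ g : G, g ∈ N ↔ (χ : G → ℂ) g ≠ 0) (hNp : IsPGroup p N) (hN1 : N ≠ ⊥) :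
    N = Cfsg.pCore p G ↔ ∃ H : Subgroup G, Cfsg.IsFrobeniusComplement H ∧
      Cfsg.frobeniusKernel H = (N : Set G) ∧ Nat.card H + 1 = Nat.card N := by
  classical
  haveI := Fintype.ofFinite G
  have hp : p.Prime := Fact.out
  obtain ⟨g, hg, hg1⟩ := N.bot_or_exists_ne_one.resolve_left hN1
  set q := Nat.card N with hq
  have hq2 : 2 ≤ q := by
    by_contra h
    have hpos : 0 < q := Nat.card_pos
    exact hN1 (Subgroup.eq_bot_of_card_eq N (by omega))
  have hconst : ∀ {ψ : G → ℂ}, IsClassFunction G ψ → ∀ x ∈ N, x ≠ 1 → ψ x = ψ g := by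
    intro ψ hψ x hx hx1
    obtain ⟨c, rfl⟩ := isConj_iff.mp (isConj_of_mem hχ hN hg hx hg1 hx1)
    exact hψ g c
  have hzero : ∀ x, x ∉ N → (χ : G → ℂ) x = 0 := fun x hx => by
    by_contra h
    exact hx ((hN x).mpr h)
  set NF : Finset G := Finset.univ.filter (fun x => x ∈ N) with hNF
  have hNFcard : NF.card = q := by
    rw [hq, Nat.card_eq_fintype_card, Fintype.card_subtype]
  have hsum : ∀ f : G → ℂ, (∀ x, x ∉ N → f x = 0) → (∀ x ∈ N, x ≠ 1 → f x = f g) →
      ∑ x, f x = f 1 + ((q : ℂ) - 1) * f g := by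
    intro f hf0 hfc
    rw [← Finset.sum_subset (Finset.subset_univ NF) (fun x _ hx => hf0 x (by simpa [hNF] using hx)),
      ← Finset.add_sum_erase NF f (show (1 : G) ∈ NF by simp [hNF]),
      Finset.sum_eq_card_nsmul (b := f g), nsmul_eq_mul, Finset.card_erase_of_mem (by simp [hNF]),
      hNFcard, Nat.cast_sub (by omega), Nat.cast_one]
    intro x hx
    rw [Finset.mem_erase] at hx
    exact hfc x (by simpa [hNF] using hx.2) hx.1
  -- the degree and the value at g
  set d := charDegree (χ : G → ℂ) with hd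
  have hd1 : (χ : G → ℂ) 1 = d := χ.2.apply_one_eq_charDegree
  have hq1 : ((q : ℂ) - 1) ≠ 0 := by
    rw [sub_ne_zero]
    exact_mod_cast (show q ≠ 1 by omega)
  have hnontriv : (χ : G → ℂ) ≠ fun _ => 1 := by
    intro h
    have htop : N = ⊤ := by
      ext x
      simp [hN, h]
    have hall : ∀ x : G, x ≠ 1 → IsConj g x := fun x hx =>
      isConj_of_mem hχ hN hg (htop ▸ Subgroup.mem_top x) hg1 hx
    have hcenter : g ∈ Subgroup.center G := by
      haveI : Nontrivial G := Finite.one_lt_card_iff_nontrivial.mp (by omega)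
      have hGp : IsPGroup p G := by
        intro x
        obtain ⟨k, hk⟩ := hNp ⟨x, htop ▸ Subgroup.mem_top x⟩
        exact ⟨k, congrArg Subtype.val hk⟩
      haveI := hGp.center_nontrivial
      obtain ⟨⟨z, hz⟩, hz1⟩ := exists_ne (1 : Subgroup.center G)
      obtain ⟨c, hc⟩ := isConj_iff.mp (hall z fun e => hz1 (Subtype.ext e))
      have : g = c⁻¹ * z * c := by rw [← hc]; group
      rw [this, mul_assoc, ← Subgroup.mem_center_iff.mp hz c, inv_mul_cancel_left]
      exact hz
    have hle : Fintype.card G ≤ ({1, g} : Finset G).card := by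
      refine Finset.card_le_card fun x _ => ?_
      by_cases hx : x = 1
      · simp [hx]
      · obtain ⟨c, hc⟩ := isConj_iff.mp (hall x hx)
        have : x = g := by rw [← hc, Subgroup.mem_center_iff.mp hcenter c, mul_inv_cancel_right]
        simp [this]
    have h2 : ({1, g} : Finset G).card ≤ 2 := Finset.card_le_two
    rw [Nat.card_eq_fintype_card] at hG
    omega
  have hrow : (d : ℂ) + ((q : ℂ) - 1) * (χ : G → ℂ) g = 0 := by
    have h1 := classInner_irr_ne χ.2 isIrrCharacter_one hnontriv
    rw [classInner_one_right, mul_eq_zero] at h1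
    rw [← hd1, ← hsum _ hzero (hconst χ.2.isClassFunction)]
    exact h1.resolve_left (inv_ne_zero card_cast_ne_zero)
  have hval : (χ : G → ℂ) g = -((d : ℂ) / ((q : ℂ) - 1)) := by
    field_simp
    linear_combination hrow
  have hdvd : (q - 1) ∣ d := by
    refine natCast_dvd_of_isIntegral (by omega) ?_
    have h1 : IsIntegral ℤ (-((χ : G → ℂ) g)) := (χ.2.isCharacter.isIntegral g).neg
    rw [hval, neg_neg] at h1
    rw [Nat.cast_sub (by omega), Nat.cast_one]
    exact h1
  obtain ⟨m, hm⟩ := hdvd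
  have hg' : (χ : G → ℂ) g = -(m : ℂ) := by
    rw [hval, hm, Nat.cast_mul, Nat.cast_sub (by omega), Nat.cast_one]
    field_simp
  have h1' : (χ : G → ℂ) 1 = ((q : ℂ) - 1) * m := by
    rw [hd1, hm, Nat.cast_mul, Nat.cast_sub (by omega), Nat.cast_one]
  have hm0 : m ≠ 0 := fun h => by
    apply (hN g).mp hg
    rw [hg', h, Nat.cast_zero, neg_zero]
  have hcardG : Nat.card G = m ^ 2 * q * (q - 1) := by
    have h1 := classInner_irr_self χ.2
    have h2 : ∑ x, (χ : G → ℂ) x * conj ((χ : G → ℂ) x) = (Nat.card G : ℂ) := by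
      unfold classInner at h1
      exact ((inv_mul_eq_one₀ card_cast_ne_zero).mp h1).symm
    rw [hsum _ (fun x hx => by rw [hzero x hx, zero_mul])
      (fun x hx hx1 => by rw [hconst χ.2.isClassFunction x hx hx1]), hg', h1'] at h2
    simp only [map_mul, map_neg, map_sub, Complex.conj_natCast, map_one] at h2
    refine Nat.cast_injective (R := ℂ) ?_
    rw [← h2]
    push_cast [Nat.cast_sub (show 1 ≤ q by omega)]
    ring
  -- other characters contain N in their kernels, cosets outside N are in one class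
  have hker : ∀ ψ : IrrCharacter G, ψ ≠ χ → ∀ x ∈ N, (ψ : G → ℂ) x = (ψ : G → ℂ) 1 := by
    intro ψ hne x hx
    by_cases hx1 : x = 1
    · rw [hx1]
    have h1 := classInner_irr_ne ψ.2 χ.2 (fun h => hne (Subtype.ext h))
    unfold classInner at h1
    rw [mul_eq_zero, or_iff_right (inv_ne_zero card_cast_ne_zero),
      hsum _ (fun x hx => by rw [hzero x hx, map_zero, mul_zero])
        (fun x hx hx1 => by rw [hconst χ.2.isClassFunction x hx hx1, hconst ψ.2.isClassFunction x hx hx1]),
      hg', h1'] at h1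
    simp only [map_mul, map_neg, map_sub, Complex.conj_natCast, map_one] at h1
    have hmc : (m : ℂ) ≠ 0 := by exact_mod_cast hm0
    have h3 : ((ψ : G → ℂ) 1 - (ψ : G → ℂ) g) * (((q : ℂ) - 1) * m) = 0 := by linear_combination h1
    rw [hconst ψ.2.isClassFunction x hx hx1]
    exact (sub_eq_zero.mp ((mul_eq_zero.mp h3).resolve_right (mul_ne_zero hq1 hmc))).symm
  have hcoset : ∀ y, y ∉ N → ∀ a ∈ N, IsConj y (a * y) := by
    intro y hy a ha
    rw [isConj_iff_forall_irr]
    intro ψ
    by_cases h : ψ = χ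
    · subst h
      rw [hzero y hy, hzero _ (fun h' => hy (by simpa using N.mul_mem (N.inv_mem ha) h'))]
    · exact (ψ.2.isCharacter.apply_mul_of_mem_ker (hker ψ h a ha) y).symm
  -- centralizers of nonidentity elements of N are p-groups
  have hcent : ∀ x ∈ N, x ≠ 1 → IsPGroup p (Subgroup.centralizer ({x} : Set G)) ∧
      Nat.card (Subgroup.centralizer ({x} : Set G)) = m ^ 2 * q := by
    intro x hx hx1
    have hcl : (classFinset x).card = q - 1 := by
      have hset : classFinset x = NF.erase 1 := by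
        ext y
        rw [mem_classFinset, Finset.mem_erase]
        simp only [hNF, Finset.mem_filter, Finset.mem_univ, true_and]
        constructor
        · intro hc
          obtain ⟨c, rfl⟩ := isConj_iff.mp hc
          exact ⟨fun e => hx1 (by simpa using e), hNn.conj_mem x hx c⟩
        · rintro ⟨hy1, hy⟩
          exact isConj_of_mem hχ hN hx hy hx1 hy1
      rw [hset, Finset.card_erase_of_mem (by simp [hNF]), hNFcard]
    have hC : Nat.card (Subgroup.centralizer ({x} : Set G)) = m ^ 2 * q := by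
      have h1 := Subgroup.card_mul_index (Subgroup.centralizer ({x} : Set G))
      rw [← card_classFinset, hcl, hcardG] at h1
      exact Nat.eq_of_mul_eq_mul_right (by omega) h1
    refine ⟨?_, hC⟩
    obtain ⟨a, ha⟩ := IsPGroup.iff_card.mp hNp
    -- every prime divisor of m is p
    suffices hall : ∀ r : ℕ, r.Prime → r ∣ m → r = p by
      have hmp : m = p ^ m.primeFactorsList.length := Nat.eq_prime_pow_of_unique_prime_dvd hm0 (@fun r hr hrm => hall r hr hrm)
      refine IsPGroup.of_card (n := m.primeFactorsList.length * 2 + a) ?_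
      rw [hC, hq, ha, pow_add, pow_mul, ← hmp]
    intro r hr hrm
    by_contra hrp
    haveI : Fact r.Prime := ⟨hr⟩
    set C := Subgroup.centralizer ({x} : Set G)
    let R0 : Sylow r C := default
    have hRc : Nat.card R0 = r ^ (m ^ 2 * q).factorization r := by rw [R0.card_eq_multiplicity, hC]
    set R : Subgroup G := (R0 : Subgroup C).map C.subtype with hR
    have hRcard : Nat.card R = r ^ (m ^ 2 * q).factorization r := by
      rw [hR, Nat.card_congr ((R0 : Subgroup C).equivMapOfInjective C.subtype C.subtype_injective).symm.toEquiv]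
      exact hRc
    haveI : Fintype R := Fintype.ofFinite R
    have hcomm : ∀ y ∈ R, x * y = y * x := by
      rintro y ⟨z, -, rfl⟩
      exact (Subgroup.mem_centralizer_singleton_iff.mp z.2).symm
    have hout : ∀ y : R, y ≠ 1 → x * (y : G) ∉ N := by
      intro y hy h
      have hyN : (y : G) ∈ N := by simpa using N.mul_mem (N.inv_mem hx) h
      have hdiv : orderOf (y : G) ∣ Nat.gcd (Nat.card R) q := by
        refine Nat.dvd_gcd ?_ ?_
        · rw [Subgroup.orderOf_coe]; exact orderOf_dvd_natCard y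
        · rw [← Subgroup.orderOf_mk (y : G) hyN]; exact orderOf_dvd_natCard _
      have hg1' : Nat.gcd (Nat.card R) q = 1 := by
        rw [hRcard, hq, ha]
        exact Nat.Coprime.pow _ _ ((Nat.coprime_primes hr hp).mpr hrp)
      rw [hg1', Nat.dvd_one, orderOf_eq_one_iff] at hdiv
      exact hy (Subtype.ext hdiv)
    have hint := isIntegral_avg χ.2.isCharacter R hcomm
    rw [Finset.sum_eq_single (1 : R) (fun y _ hy => hzero _ (hout y hy)) (by simp),
      Subgroup.coe_one, mul_one, hconst χ.2.isClassFunction x hx hx1, hg', neg_div] at hint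
    have hdv : Nat.card R ∣ m := natCast_dvd_of_isIntegral Nat.card_pos.ne' (by simpa using hint.neg)
    rw [hRcard, hr.pow_dvd_iff_le_factorization hm0] at hdv
    rw [Nat.factorization_mul (pow_ne_zero _ hm0) (by omega), Nat.factorization_pow] at hdv
    simp only [Finsupp.coe_add, Finsupp.coe_smul, Pi.add_apply, Pi.smul_apply, smul_eq_mul] at hdv
    have := hr.factorization_pos_of_dvd hm0 hrm
    omega
  -- N is elementary abelian
  have habel : ∀ a ∈ N, ∀ b ∈ N, a * b = b * a := by
    intro a ha b hb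
    by_cases ha1 : a = 1
    · simp [ha1]
    haveI : Nontrivial N := ⟨⟨g, hg⟩, 1, fun e => hg1 (congrArg Subtype.val e)⟩
    haveI := hNp.center_nontrivial
    obtain ⟨⟨z, hz⟩, hz1⟩ := exists_ne (1 : Subgroup.center N)
    have hz1' : (z : G) ≠ 1 := fun e => hz1 (Subtype.ext (Subtype.ext e))
    obtain ⟨c, rfl⟩ := isConj_iff.mp (isConj_of_mem hχ hN z.2 ha hz1' ha1)
    have h1 := congrArg Subtype.val
      (Subgroup.mem_center_iff.mp hz ⟨c⁻¹ * b * c, by simpa using hNn.conj_mem b hb c⁻¹⟩)
    simp only [Subgroup.coe_mul] at h1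
    calc c * z * c⁻¹ * b = c * (z * (c⁻¹ * b * c)) * c⁻¹ := by group
      _ = c * (c⁻¹ * b * c * z) * c⁻¹ := by rw [h1]
      _ = b * (c * z * c⁻¹) := by group
  have hexp : ∀ a ∈ N, a ^ p = 1 := by
    intro a ha
    by_cases ha1 : a = 1
    · simp [ha1]
    have hdvd : p ∣ Nat.card N := by
      obtain ⟨k, hk⟩ := IsPGroup.iff_card.mp hNp
      rw [hk]
      exact dvd_pow_self p (fun h => by rw [← hq, h, pow_zero] at hk; omega)
    obtain ⟨z, hz⟩ := exists_prime_orderOf_dvd_card' p hdvd
    have hz1 : (z : G) ≠ 1 := fun e => hp.one_lt.ne' (by rw [← hz, ← Subgroup.orderOf_coe, e, orderOf_one])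
    obtain ⟨c, rfl⟩ := isConj_iff.mp (isConj_of_mem hχ hN z.2 ha hz1 ha1)
    rw [conj_pow, ← hz, ← Subgroup.orderOf_coe, pow_orderOf_eq_one, mul_one, mul_inv_cancel]
  constructor
  · intro hcore
    have hCN : ∀ c : G, (∀ a ∈ N, c * a = a * c) → c ∈ N := by
      intro c hc
      have hC1 : Subgroup.centralizer (N : Set G) ≤ Subgroup.centralizer ({g} : Set G) :=
        Subgroup.centralizer_le (Set.singleton_subset_iff.mpr hg)
      have hle : Subgroup.centralizer (N : Set G) ≤ N :=
        (Cfsg.Lib.Core.le_pCore ((hcent g hg hg1).1.to_le hC1)).trans hcore.ge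
      exact hle (Subgroup.mem_centralizer_iff.mpr fun a ha => (hc a ha).symm)
    have hm1 : m = 1 := by
      by_contra hm1
      -- an element z of the Sylow group outside N with z^p in N
      obtain ⟨hPg, hPc⟩ := hcent g hg hg1
      have hgN : N ≤ Subgroup.centralizer ({g} : Set G) := fun a ha =>
        Subgroup.mem_centralizer_singleton_iff.mpr (habel a ha g hg)
      obtain ⟨y, hyC, hyN⟩ : ∃ y ∈ Subgroup.centralizer ({g} : Set G), y ∉ N := by
        by_contra hcon
        push Not at hcon
        have h1 := Subgroup.card_le_of_le (show Subgroup.centralizer ({g} : Set G) ≤ N from hcon)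
        rw [hPc, ← hq] at h1
        have h2 : 2 ≤ m := by omega
        nlinarith [Nat.mul_le_mul h2 h2]
      obtain ⟨k, hk⟩ := hPg ⟨y, hyC⟩
      have hex : ∃ k, y ^ p ^ k ∈ N := ⟨k, by rw [show y ^ p ^ k = 1 from congrArg Subtype.val hk]; exact N.one_mem⟩
      obtain ⟨j, hj⟩ : ∃ j, Nat.find hex = j + 1 := by
        refine Nat.exists_eq_succ_of_ne_zero fun h => hyN ?_
        have := Nat.find_spec hex
        rwa [h, pow_zero, pow_one] at this
      set z := y ^ p ^ j with hz
      have hzC : z ∈ Subgroup.centralizer ({g} : Set G) := pow_mem hyC _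
      have hzN : z ∉ N := Nat.find_min hex (show j < Nat.find hex by omega)
      have hzp : z ^ p ∈ N := by
        have := Nat.find_spec hex
        rwa [hj, pow_succ, pow_mul] at this
      have hzg : z * g = g * z := Subgroup.mem_centralizer_singleton_iff.mp hzC
      by_cases hp2 : p = 2
      · subst hp2
        have hsq : ∀ a ∈ N, a⁻¹ = a := fun a ha => inv_eq_of_mul_eq_one_left (by rw [← pow_two]; exact hexp a ha)
        have hord : orderOf (QuotientGroup.mk z : G ⧸ N) = 2 := by
          refine orderOf_eq_prime ?_ ?_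
          · rw [← QuotientGroup.mk_pow]; exact (QuotientGroup.eq_one_iff _).mpr hzp
          · exact fun h => hzN ((QuotientGroup.eq_one_iff _).mp h)
        obtain ⟨hb, hb1, hbo, hbi⟩ := Cfsg.Lib.Invol.exists_inverted_odd hord (fun M hM hM2 hmem => by
          have hbot : Cfsg.pCore 2 (G ⧸ N) = ⊥ := by
            subst hcore
            exact Cfsg.Lib.Core.pCore_quotient_pCore_eq_bot
          have h2 := Cfsg.Lib.Core.le_pCore' hM hM2 hmem
          rw [hbot, Subgroup.mem_bot] at h2
          exact hzN ((QuotientGroup.eq_one_iff _).mp h2))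
        obtain ⟨w, rfl⟩ := QuotientGroup.mk_surjective hb
        have hnw : z * w * z⁻¹ * w ∈ N := by
          rw [← QuotientGroup.eq_one_iff]
          simp only [QuotientGroup.mk_mul, QuotientGroup.mk_inv] at hbi ⊢
          rw [hbi, inv_mul_cancel]
        have hfree : ∀ v ∈ N, w ^ 2 * v = v * w ^ 2 → v = 1 := by
          intro v hv hc
          by_contra hv1
          obtain ⟨i, hi⟩ := (hcent v hv hv1).1 ⟨w ^ 2, Subgroup.mem_centralizer_singleton_iff.mpr hc⟩
          have h3 : w ^ (2 ^ (i + 1)) = 1 := by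
            rw [pow_succ', pow_mul]
            exact congrArg Subtype.val hi
          have h4 : (QuotientGroup.mk w : G ⧸ N) ^ (2 ^ (i + 1)) = 1 := by
            rw [← QuotientGroup.mk_pow, h3, QuotientGroup.mk_one]
          have h5 := orderOf_dvd_of_pow_eq_one h4
          obtain ⟨l, -, hl⟩ := (Nat.dvd_prime_pow Nat.prime_two).mp h5
          rcases Nat.eq_zero_or_pos l with hl0 | hl0
          · rw [hl0, pow_zero, orderOf_eq_one_iff] at hl
            exact hb1 hl
          · rw [hl] at hbo
            exact (Nat.not_even_iff_odd.mpr hbo) ((Nat.even_pow.mpr ⟨even_two, hl0.ne'⟩))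
        set K := N ⊓ Subgroup.centralizer ({z} : Set G) with hK
        have hmemK : ∀ v : G, v ∈ K ↔ v ∈ N ∧ z * v * z⁻¹ = v := fun v => by
          rw [hK, Subgroup.mem_inf, Subgroup.mem_centralizer_singleton_iff]
          constructor
          · rintro ⟨h1, h2⟩; exact ⟨h1, by rw [← h2]; group⟩
          · rintro ⟨h1, h2⟩; exact ⟨h1, by nth_rw 1 [← h2]; group⟩
        have hsw : ∀ v ∈ K, z * (w * v * w⁻¹) * z⁻¹ = w⁻¹ * v * w := by
          intro v hv
          obtain ⟨hvN, hvz⟩ := (hmemK v).mp hv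
          set n := z * w * z⁻¹ * w
          have hwn : w⁻¹ * v * w ∈ N := by simpa using hNn.conj_mem v hvN w⁻¹
          calc z * (w * v * w⁻¹) * z⁻¹ = (z * w * z⁻¹) * (z * v * z⁻¹) * (z * w * z⁻¹)⁻¹ := by group
            _ = n * (w⁻¹ * v * w) * n⁻¹ := by rw [hvz]; simp only [n]; group
            _ = _ := by rw [habel n hnw _ hwn, mul_inv_cancel_right]
        let F : K → K := fun v => ⟨(w * (v : G) * w⁻¹) * (z * (w * (v : G) * w⁻¹) * z⁻¹), by
          have hv := ((hmemK v).mp v.2).1
          have hu : w * (v : G) * w⁻¹ ∈ N := hNn.conj_mem _ hv w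
          have hu2 : z * (w * (v : G) * w⁻¹) * z⁻¹ ∈ N := hNn.conj_mem _ hu z
          refine (hmemK _).mpr ⟨N.mul_mem hu hu2, ?_⟩
          set u := w * (v : G) * w⁻¹
          have hz2 : z ^ 2 * u * (z ^ 2)⁻¹ = u := by rw [habel _ hzp _ hu, mul_inv_cancel_right]
          calc z * (u * (z * u * z⁻¹)) * z⁻¹ = (z * u * z⁻¹) * (z ^ 2 * u * (z ^ 2)⁻¹) := by group
            _ = (z * u * z⁻¹) * u := by rw [hz2]
            _ = _ := habel _ hu2 _ hu⟩
        have hFinj : Function.Injective F := by
          intro a b hab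
          have h1 := congrArg Subtype.val hab
          simp only [F] at h1
          rw [hsw a a.2, hsw b b.2] at h1
          obtain ⟨haN, -⟩ := (hmemK a).mp a.2
          obtain ⟨hbN, -⟩ := (hmemK b).mp b.2
          have hdN : (b : G)⁻¹ * a ∈ N := N.mul_mem (N.inv_mem hbN) haN
          have h2 : w * ((b : G)⁻¹ * a) * w⁻¹ = w⁻¹ * ((b : G) * (a : G)⁻¹) * w := by
            calc w * ((b : G)⁻¹ * a) * w⁻¹
                = (w * b * w⁻¹)⁻¹ * ((w * a * w⁻¹) * (w⁻¹ * a * w)) * (w⁻¹ * a * w)⁻¹ := by group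
              _ = (w * b * w⁻¹)⁻¹ * ((w * b * w⁻¹) * (w⁻¹ * b * w)) * (w⁻¹ * a * w)⁻¹ := by rw [h1]
              _ = _ := by group
          have h3 : (b : G) * (a : G)⁻¹ = (b : G)⁻¹ * a := by rw [hsq _ haN, hsq _ hbN]
          rw [h3] at h2
          have h4 : (b : G)⁻¹ * a = 1 := by
            refine hfree _ hdN ?_
            rw [pow_two]
            calc w * w * ((b : G)⁻¹ * a) = w * (w * ((b : G)⁻¹ * a) * w⁻¹) * w := by group
              _ = w * (w⁻¹ * ((b : G)⁻¹ * a) * w) * w := by rw [h2]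
              _ = _ := by group
          exact Subtype.ext (inv_mul_eq_one.mp h4).symm
        have hz2K : z ^ 2 ∈ K := (hmemK _).mpr ⟨hzp, by group⟩
        obtain ⟨v, hv⟩ := Finite.injective_iff_surjective.mp hFinj ⟨z ^ 2, hz2K⟩
        have hv' := congrArg Subtype.val hv
        simp only [F] at hv'
        set u := w * (v : G) * w⁻¹
        have huN : u ∈ N := hNn.conj_mem _ ((hmemK v).mp v.2).1 w
        set s := u * z
        have hs2 : s * s = 1 := by
          have hu2 : z * u * z⁻¹ ∈ N := hNn.conj_mem _ huN z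
          calc s * s = (u * (z * u * z⁻¹)) * z ^ 2 := by simp only [s]; group
            _ = z ^ 2 * z ^ 2 := by rw [hv']
            _ = 1 := by rw [← pow_two]; exact hexp _ hzp
        have hsN : s ∉ N := fun h => hzN (by simpa [s] using N.mul_mem (N.inv_mem huN) h)
        refine hsN (hCN s fun a ha => ?_)
        obtain ⟨c, hc⟩ := isConj_iff.mp (hcoset s hsN a ha)
        have h5 : (a * s) * (a * s) = 1 := by
          rw [← hc]
          calc c * s * c⁻¹ * (c * s * c⁻¹) = c * (s * s) * c⁻¹ := by group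
            _ = 1 := by rw [hs2, mul_one, mul_inv_cancel]
        calc s * a = a⁻¹ * ((a * s) * (a * s)) * s⁻¹ := by group
          _ = a⁻¹ * s⁻¹ := by rw [h5, mul_one]
          _ = a * s := by rw [hsq a ha, inv_eq_of_mul_eq_one_right hs2]
      · -- p odd
        have hodd : Odd p := hp.odd_of_ne_two hp2
        have h2G : 2 ∣ Nat.card G := by
          obtain ⟨a, ha⟩ := IsPGroup.iff_card.mp hNp
          have : Odd q := by rw [hq, ha]; exact hodd.pow
          obtain ⟨i, hi⟩ := this
          rw [hcardG]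
          exact Dvd.dvd.mul_left ⟨i, by omega⟩ _
        obtain ⟨τ, hτ⟩ := exists_prime_orderOf_dvd_card' 2 h2G
        have hτ2 : τ * τ = 1 := by rw [← pow_two, ← hτ, pow_orderOf_eq_one]
        have hτinv : τ⁻¹ = τ := inv_eq_of_mul_eq_one_left hτ2
        have hinv : ∀ a ∈ N, τ * a * τ⁻¹ = a⁻¹ := by
          intro a ha
          have hta : τ * a * τ⁻¹ ∈ N := hNn.conj_mem a ha τ
          by_contra hne
          set x := a * (τ * a * τ⁻¹)
          have hxN : x ∈ N := N.mul_mem ha hta
          have hx1 : x ≠ 1 := fun h => hne (eq_inv_of_mul_eq_one_right h)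
          have hfix : τ * x = x * τ := by
            calc τ * x = (τ * a * τ⁻¹) * ((τ * τ) * a * (τ * τ)⁻¹) * τ := by simp only [x]; group
              _ = (τ * a * τ⁻¹) * a * τ := by rw [hτ2]; group
              _ = _ := by simp only [x]; rw [habel _ hta _ ha]
          obtain ⟨i, hi⟩ := (hcent x hxN hx1).1 ⟨τ, Subgroup.mem_centralizer_singleton_iff.mpr hfix⟩
          have h4 := orderOf_dvd_of_pow_eq_one (show τ ^ p ^ i = 1 from congrArg Subtype.val hi)
          rw [hτ] at h4
          exact hp2 ((Nat.prime_dvd_prime_iff_eq Nat.prime_two hp).mp (Nat.prime_two.dvd_of_dvd_pow h4)).symm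
        set H := Subgroup.centralizer ({τ} : Set G)
        have hHN : ∀ a ∈ N, a ∈ H → a = 1 := by
          intro a ha haH
          have h1 := hinv a ha
          rw [← Subgroup.mem_centralizer_singleton_iff.mp haH, mul_inv_cancel_right] at h1
          have h2 : a ^ 2 = 1 := by rw [pow_two]; exact mul_eq_one_iff_eq_inv.mpr h1
          exact orderOf_eq_one_iff.mp (Nat.dvd_one.mp (by
            rw [← (Nat.coprime_primes hp Nat.prime_two).mpr hp2]
            exact Nat.dvd_gcd (orderOf_dvd_of_pow_eq_one (hexp a ha)) (orderOf_dvd_of_pow_eq_one h2)))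
        have hdec : ∀ x : G, ∃ a ∈ N, a⁻¹ * x ∈ H := by
          intro x
          set τ' := x * τ * x⁻¹
          set n := τ' * τ
          have hnN : n ∈ N := by
            refine hCN n fun a ha => ?_
            have h1 : x⁻¹ * a⁻¹ * x ∈ N := by simpa using hNn.conj_mem _ (N.inv_mem ha) x⁻¹
            have h2 : n * a * n⁻¹ = a := by
              calc n * a * n⁻¹ = x * (τ * (x⁻¹ * (τ * a * τ⁻¹) * x) * τ⁻¹) * x⁻¹ := by simp only [n, τ']; group
                _ = x * (τ * (x⁻¹ * a⁻¹ * x) * τ⁻¹) * x⁻¹ := by rw [hinv a ha]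
                _ = x * (x⁻¹ * a⁻¹ * x)⁻¹ * x⁻¹ := by rw [hinv _ h1]
                _ = a := by group
            exact (mul_inv_eq_iff_eq_mul.mp h2)
          obtain ⟨i, hi⟩ := hodd
          refine ⟨n ^ (i + 1), N.pow_mem hnN _, ?_⟩
          set a := n ^ (i + 1)
          have haN : a ∈ N := N.pow_mem hnN _
          have haa : a * a = n := by
            rw [← pow_add, show i + 1 + (i + 1) = p + 1 by omega, pow_succ, hexp n hnN, one_mul]
          rw [Subgroup.mem_centralizer_singleton_iff]
          have hτa : τ * a⁻¹ * τ⁻¹ = a := by rw [hinv _ (N.inv_mem haN), inv_inv]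
          have h6 : a * τ * a⁻¹ = n * τ := by
            calc a * τ * a⁻¹ = a * (τ * a⁻¹ * τ⁻¹) * τ := by group
              _ = _ := by rw [hτa, haa]
          have h7 : x * τ * x⁻¹ = n * τ := by
            simp only [n, τ']; rw [mul_assoc (x * τ * x⁻¹) τ τ, hτ2, mul_one]
          calc a⁻¹ * x * τ = a⁻¹ * (x * τ * x⁻¹) * x := by group
            _ = a⁻¹ * (a * τ * a⁻¹) * x := by rw [h6, h7]
            _ = τ * (a⁻¹ * x) := by group
        obtain ⟨b, hb, hbH⟩ := hdec z
        set c := b⁻¹ * z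
        have hcN : c ∉ N := fun h => hzN (by simpa [c] using N.mul_mem hb h)
        have hcg : c * g = g * c := by
          simp only [c]
          rw [mul_assoc, hzg, ← mul_assoc, habel _ (N.inv_mem hb) _ hg, mul_assoc]
        let F : N → N := fun a => ⟨(a : G) * c * (a : G)⁻¹ * c⁻¹, by
          have := N.mul_mem a.2 (hNn.conj_mem _ (N.inv_mem a.2) c)
          simpa only [mul_assoc] using this⟩
        have hFs : Function.Surjective F := by
          intro a
          obtain ⟨x, hx⟩ := isConj_iff.mp (hcoset c hcN a a.2)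
          obtain ⟨e, he, heH⟩ := hdec x
          refine ⟨⟨e, he⟩, Subtype.ext ?_⟩
          set h := e⁻¹ * x
          have hk : h * c * h⁻¹ * c⁻¹ = 1 := by
            refine hHN _ ?_ (H.mul_mem (H.mul_mem (H.mul_mem heH hbH) (H.inv_mem heH)) (H.inv_mem hbH))
            have h8 : h * c * h⁻¹ * c⁻¹ = e⁻¹ * (a : G) * (c * e * c⁻¹) := by
              calc h * c * h⁻¹ * c⁻¹ = e⁻¹ * (x * c * x⁻¹) * e * c⁻¹ := by simp only [h]; group
                _ = e⁻¹ * ((a : G) * c) * e * c⁻¹ := by rw [hx]
                _ = _ := by group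
            rw [h8]
            exact N.mul_mem (N.mul_mem (N.inv_mem he) a.2) (hNn.conj_mem e he c)
          show e * c * e⁻¹ * c⁻¹ = (a : G)
          calc e * c * e⁻¹ * c⁻¹ = e * (1 * c) * e⁻¹ * c⁻¹ := by rw [one_mul]
            _ = e * ((h * c * h⁻¹ * c⁻¹) * c) * e⁻¹ * c⁻¹ := by rw [hk]
            _ = (x * c * x⁻¹) * c⁻¹ := by simp only [h]; group
            _ = (a : G) := by rw [hx]; group
        refine hg1 (congrArg Subtype.val ((Finite.injective_iff_surjective.mpr hFs)
          (a₁ := ⟨g, hg⟩) (a₂ := 1) (Subtype.ext ?_)))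
        show g * c * g⁻¹ * c⁻¹ = (1 : G) * c * (1 : G)⁻¹ * c⁻¹
        rw [← hcg]; group
    -- the Frobenius complement
    have hidx : N.index = q - 1 := by
      have h1 := N.card_mul_index
      rw [hcardG, hm1, ← hq, one_pow, one_mul] at h1
      exact Nat.eq_of_mul_eq_mul_left (by omega) h1
    obtain ⟨H, hH⟩ := Subgroup.exists_right_complement'_of_coprime (N := N) (by
      rw [← hq, hidx]
      obtain ⟨j, hj⟩ : ∃ j, q = j + 1 := ⟨q - 1, by omega⟩
      rw [hj, Nat.add_sub_cancel]
      simp)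
    have hHcard : Nat.card H = q - 1 := by rw [← hidx, hH.symm.index_eq_card]
    have hH1 : H ≠ ⊥ := fun h => by
      rw [h, Subgroup.card_bot] at hHcard
      rw [hcardG, hm1, show q = 2 by omega] at hG
      norm_num at hG
    have hF : IsFrobeniusComplement H := by
      refine Cfsg.Lib.Solv.isFrobeniusComplement_of_fpf hH hN1 hH1 fun h hh hne =>
        eq_bot_iff.mpr fun x hx => ?_
      obtain ⟨hxN, hxC⟩ := hx
      by_contra hx1
      obtain ⟨hPx, hPc⟩ := hcent x hxN hx1
      have hhC : h ∈ Subgroup.centralizer ({x} : Set G) :=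
        Subgroup.mem_centralizer_singleton_iff.mpr (Subgroup.mem_centralizer_singleton_iff.mp hxC).symm
      have h1 : orderOf h ∣ q := by
        rw [← Subgroup.orderOf_mk h hhC, show q = m ^ 2 * q by rw [hm1]; ring, ← hPc]
        exact orderOf_dvd_natCard _
      have h2 : orderOf h ∣ q - 1 := by rw [← hHcard, ← Subgroup.orderOf_mk h hh]; exact orderOf_dvd_natCard _
      have h3 := Nat.dvd_sub h1 h2
      rw [show q - (q - 1) = 1 by omega, Nat.dvd_one, orderOf_eq_one_iff] at h3
      exact hne h3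
    refine ⟨H, hF, ?_, by omega⟩
    refine (Set.eq_of_subset_of_ncard_le (s := (N : Set G)) ?_ (le_of_eq ?_) (Set.toFinite _)).symm
    · intro x hx
      by_cases hx1 : x = 1
      · exact Or.inl hx1
      refine Or.inr fun c hc => ?_
      have h1 := Cfsg.Lib.Core.mem_conj_smul.mp hc
      have h2 : c⁻¹ * x * c ∈ N := by simpa using hNn.conj_mem x hx c⁻¹
      have h3 : c⁻¹ * x * c = 1 := hH.disjoint.le_bot ⟨h2, h1⟩
      exact hx1 (by simpa [mul_assoc] using congrArg (fun t => c * t * c⁻¹) h3)
    · rw [← Nat.card_coe_set_eq, ← Nat.card_coe_set_eq, Cfsg.Lib.Solv.card_frobeniusKernel hF,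
        hH.index_eq_card]
      rfl
  · rintro ⟨H, hF, hker', hc⟩
    have hidxH : H.index = q := by
      rw [← Cfsg.Lib.Solv.card_frobeniusKernel hF, hker']
      rfl
    have hG' : Nat.card G = q * (q - 1) := by
      rw [← H.card_mul_index, hidxH, mul_comm, show Nat.card H = q - 1 by omega]
    refine Subgroup.eq_of_le_of_card_ge (Cfsg.Lib.Core.le_pCore hNp) ?_
    obtain ⟨k, hk⟩ := IsPGroup.iff_card.mp (Cfsg.Lib.Core.pCore_isPGroup p G)
    have h1 : Nat.card (Cfsg.pCore p G) ∣ q * (q - 1) := hG' ▸ Subgroup.card_subgroup_dvd_card _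
    refine Nat.le_of_dvd Nat.card_pos (Nat.Coprime.dvd_of_dvd_mul_right ?_ h1)
    rw [hk]
    refine Nat.Coprime.pow_left _ ((Nat.Prime.coprime_iff_not_dvd hp).mpr fun h => hp.not_dvd_one ?_)
    obtain ⟨a, ha⟩ := IsPGroup.iff_card.mp hNp
    have hpq : p ∣ q := by
      rw [hq, ha]
      exact dvd_pow_self p (fun h => by rw [← hq, h, pow_zero] at ha; omega)
    have := Nat.dvd_sub hpq h
    rwa [show q - (q - 1) = 1 by omega] at this



/-- Let G be a finite group of order greater than 2 with an irreducible character χ nonzero on exactly two conjugacy classes, and let N be the normal p-subgroup of elements where χ is nonzero. Then N is the whole p-core O_p(G) if and only if G is a doubly transitive Frobenius group with kernel N: G has a Frobenius complement H whose Frobenius kernel is N and whose order is one less than that of N. -/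
theorem result {G : Type*} [Group G] [Finite G] (hG : 2 < Nat.card G) (χ : Cfsg.IrrCharacter G) (hχ : Nat.card {C : ConjClasses G // ∃ g ∈ C.carrier, (χ : G → ℂ) g ≠ 0} = 2) (p : ℕ) [Fact p.Prime] (N : Subgroup G) [N.Normal] (hN : ∀ g : G, g ∈ N ↔ (χ : G → ℂ) g ≠ 0) (hNp : IsPGroup p N) (hN1 : N ≠ ⊥) :
    N = Cfsg.pCore p G ↔ ∃ H : Subgroup G, Cfsg.IsFrobeniusComplement H ∧ Cfsg.frobeniusKernel H = (N : Set G) ∧ Nat.card H + 1 = Nat.card N :=
  main hG hχ hN hNp hN1

end Cfsg.Agent.S4839
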