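import Cfsg.Statements.S4840
import Cfsg.Agent.Lib.Char.TwoClass
import Cfsg.Agent.Lib.Char.TwoClassCore

set_option autoImplicit false
open Cfsg

namespace Cfsg.Agent.S4840

open Cfsg.Lib.Char in
/-- Let G be a finite solvable group of order greater than 2 with an irreducible character nonzero on exactly two conjugacy classes. Then there is exactly one prime p with O_p(G) ≠ 1, and the quotient G/O_p(G) has a normal p-complement and commutative Sylow p-subgroups. -/
theorem result {G : Type*} [Group G] [Finite G] [hs : Group.IsSolvable G] (hG : 2 < Nat.card G) (χ : Cfsg.IrrCharacter G) (hχ : Nat.card {C : ConjClasses G // ∃ g ∈ C.carrier, (χ : G → ℂ) g ≠ 0} = 2) :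
    ∃ p : ℕ, p.Prime ∧ (∀ q : ℕ, q.Prime → (Cfsg.pCore q G ≠ ⊥ ↔ q = p)) ∧
      Cfsg.HasNormalPComplement p (G ⧸ Cfsg.pCore p G) ∧ ∀ Q : Sylow p (G ⧸ Cfsg.pCore p G), IsMulCommutative (Q : Subgroup (G ⧸ Cfsg.pCore p G)) := by
  classical
  obtain ⟨N, hNn, hN1, hN⟩ := twoClass_exists hG hχ
  haveI := hNn
  haveI : Nontrivial N := (Subgroup.nontrivial_iff_ne_bot N).2 hN1
  have hcn : Nat.card N ≠ 1 := Finite.one_lt_card.ne'
  obtain ⟨p, hp, hpd⟩ := Nat.exists_prime_and_dvd hcn
  haveI := Fact.mk hp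
  obtain ⟨z, hz⟩ := exists_prime_orderOf_dvd_card' p hpd
  have hz1 : (z : G) ≠ 1 := fun e => hp.ne_one (by rw [← hz, ← Subgroup.orderOf_coe, e, orderOf_one])
  have hall : ∀ a ∈ N, a ^ p = 1 := by
    intro a ha
    by_cases ha1 : a = 1
    · rw [ha1, one_pow]
    obtain ⟨c, rfl⟩ := isConj_iff.mp (twoClass_isConj hχ hN z.2 ha hz1 ha1)
    rw [conj_pow, ← hz, ← Subgroup.orderOf_coe, pow_orderOf_eq_one, mul_one, mul_inv_cancel]
  have hNp : IsPGroup p N := fun a => ⟨1, Subtype.ext (by simpa using hall a a.2)⟩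
  obtain ⟨hab, -⟩ := twoClass_elementaryAbelian hχ hN hNp
  letI : CommGroup N :=
    { (inferInstance : Group N) with mul_comm := fun a b => Subtype.ext (hab a a.2 b b.2) }
  have hcent : ∀ x ∈ N, x ≠ 1 → IsPGroup p (Subgroup.centralizer ({x} : Set G)) := fun x hx hx1 =>
    (twoClass_centralizer hG hχ hN hNp hx hx1).1
  -- the core is the centraliser of `N`
  let φ : G →* MulAut N := MulAut.conjNormal
  have hker_cent : ∀ g : G, g ∈ φ.ker ↔ g ∈ Subgroup.centralizer (N : Set G) := by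
    intro g
    rw [MonoidHom.mem_ker, Subgroup.mem_centralizer_iff]
    constructor
    · intro h n hn
      have h1 : (φ g ⟨n, hn⟩ : G) = n := by rw [h]; rfl
      rw [MulAut.conjNormal_apply] at h1
      exact (mul_inv_eq_iff_eq_mul.1 h1).symm
    · intro h
      refine MulEquiv.ext fun n => Subtype.ext ?_
      rw [MulAut.conjNormal_apply, MulAut.one_apply, ← h n n.2, mul_inv_cancel_right]
  have hkerp : IsPGroup p φ.ker := (hcent z z.2 hz1).to_le fun g hg =>
    Subgroup.centralizer_le (Set.singleton_subset_iff.2 z.2) ((hker_cent g).1 hg)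
  have hcore : φ.ker = Cfsg.pCore p G := by
    refine le_antisymm (Cfsg.Lib.Core.le_pCore hkerp) fun g hg => ?_
    have hcp := Cfsg.Lib.Core.pCore_isPGroup p G
    letI : MulAction (Cfsg.pCore p G) N :=
      MulAction.compHom N (φ.comp (Cfsg.pCore p G).subtype)
    obtain ⟨v, hv, hv1⟩ := hcp.exists_fixed_point_of_prime_dvd_card_of_fixed_point N hpd
      (a := (1 : N)) (fun b => map_one (φ (b : G)))
    rw [MonoidHom.mem_ker]
    refine MulEquiv.ext fun w => ?_
    rw [MulAut.one_apply]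
    by_cases hw : w = 1
    · rw [hw, map_one]
    obtain ⟨c, hc⟩ := isConj_iff.mp (twoClass_isConj hχ hN v.2 w.2
      (fun e => hv1 (Subtype.ext e.symm)) (fun e => hw (Subtype.ext e)))
    have hwv : φ c v = w := Subtype.ext (by rw [MulAut.conjNormal_apply]; exact hc)
    have h1 : φ (c⁻¹ * g * c) v = v :=
      hv (⟨c⁻¹ * g * c, by simpa using (inferInstance : (Cfsg.pCore p G).Normal).conj_mem g hg c⁻¹⟩ :
        Cfsg.pCore p G)
    rw [← hwv, ← MulAut.mul_apply, ← map_mul, show g * c = c * (c⁻¹ * g * c) by group, map_mul,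
      MulAut.mul_apply, h1]
  refine ⟨p, hp, fun q hq => ⟨fun h => ?_, fun h => ?_⟩, ?_⟩
  · by_contra hqp
    apply h
    haveI := Fact.mk hq
    obtain ⟨i, hi⟩ := IsPGroup.iff_card.1 (Cfsg.Lib.Core.pCore_isPGroup q G)
    obtain ⟨j, hj⟩ := IsPGroup.iff_card.1 hNp
    have hd : Disjoint (Cfsg.pCore q G) N := by
      rw [disjoint_iff]
      refine Subgroup.inf_eq_bot_of_coprime ?_
      rw [hi, hj]
      exact ((Nat.coprime_primes hq hp).2 hqp).pow i j
    refine eq_bot_iff.2 fun y hy => ?_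
    have hcz : y ∈ Subgroup.centralizer ({(z : G)} : Set G) :=
      Subgroup.mem_centralizer_singleton_iff.2
        (Subgroup.commute_of_normal_of_disjoint _ _ inferInstance hNn hd y z hy z.2).eq
    obtain ⟨k, hk⟩ := IsPGroup.iff_orderOf.1 (hcent z z.2 hz1) ⟨y, hcz⟩
    obtain ⟨l, hl⟩ := IsPGroup.iff_orderOf.1 (Cfsg.Lib.Core.pCore_isPGroup q G) ⟨y, hy⟩
    rw [Subgroup.orderOf_mk] at hk hl
    rw [Subgroup.mem_bot, ← orderOf_eq_one_iff]
    exact Nat.eq_one_of_dvd_coprimes (((Nat.coprime_primes hq hp).2 hqp).pow l k) hl.dvd hk.dvd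
  · subst h
    exact fun hbot => hN1 (le_bot_iff.1 (hbot ▸ Cfsg.Lib.Core.le_pCore hNp))
  let e : G ⧸ Cfsg.pCore p G ≃* φ.range :=
    (QuotientGroup.quotientMulEquivOfEq hcore.symm).trans (QuotientGroup.quotientKerEquivRange φ)
  haveI : Group.IsSolvable φ.range := Group.isSolvable_of_surjective φ.rangeRestrict_surjective
  obtain ⟨h1, h2⟩ := TwoClassCore.structure_theorem (p := p) φ.range.subtype
    Subtype.coe_injective (fun v => Subtype.ext (by simpa using hall v v.2))
    (fun v w hv hw => by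
      obtain ⟨c, hc⟩ := isConj_iff.mp (twoClass_isConj hχ hN v.2 w.2
        (fun e => hv (Subtype.ext e)) (fun e => hw (Subtype.ext e)))
      exact ⟨⟨φ c, c, rfl⟩, Subtype.ext (by
        show ((φ c v : N) : G) = w
        rw [MulAut.conjNormal_apply]; exact hc)⟩)
    (by
      rintro v hv ⟨_, c, rfl⟩ hfix
      have hcm : c ∈ Subgroup.centralizer ({(v : G)} : Set G) := by
        have h3 : ((φ c v : N) : G) = v := congrArg Subtype.val hfix
        rw [MulAut.conjNormal_apply] at h3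
        exact Subgroup.mem_centralizer_singleton_iff.2 (mul_inv_eq_iff_eq_mul.1 h3)
      obtain ⟨k, hk⟩ := IsPGroup.iff_orderOf.1 (hcent v v.2 fun e => hv (Subtype.ext e)) ⟨c, hcm⟩
      rw [Subgroup.orderOf_mk] at hk
      obtain ⟨i, -, hi⟩ := (Nat.dvd_prime_pow hp).1
        (hk ▸ orderOf_map_dvd φ c : orderOf (φ c) ∣ p ^ k)
      exact ⟨i, by rw [← Subgroup.orderOf_coe]; exact hi⟩)
  refine ⟨Cfsg.Lib.Fusion.hasNormalPComplement_of_injective e.toMonoidHom e.injective h1,
    fun Q => ?_⟩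
  obtain ⟨S, hS⟩ := (Q.2.map e.toMonoidHom).exists_le_sylow
  haveI := h2 S
  refine ⟨⟨fun a b => ?_⟩⟩
  have h3 := congrArg Subtype.val (mul_comm' (⟨e a, hS ⟨a, a.2, rfl⟩⟩ : (S : Subgroup φ.range))
    ⟨e b, hS ⟨b, b.2, rfl⟩⟩)
  exact Subtype.ext (e.injective (by simpa only [Subgroup.coe_mul, map_mul] using h3))

end Cfsg.Agent.S4840
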