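import Cfsg.Statements.S4845
import Cfsg.Agent.Lib.Block.PGaloisDegree

set_option autoImplicit false
open Cfsg

namespace Cfsg.Agent.S4845

/-- Let p be a prime and P a finite non-commutative p-group. Then every two irreducible characters of P of the same degree greater than 1 are Galois conjugate (one is obtained from the other by composing with g ↦ g^k for some k prime to the order of P) if and only if the centre of P is cyclic and the derived subgroup of P has order p. -/
theorem result {P : Type*} [Group P] [Finite P] (p : ℕ) [Fact p.Prime] (hP : IsPGroup p P) (hna : ¬ IsMulCommutative P) :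
    (∀ χ ψ : Cfsg.IrrCharacter P, Cfsg.charDegree (χ : P → ℂ) ≠ 1 → Cfsg.charDegree (χ : P → ℂ) = Cfsg.charDegree (ψ : P → ℂ) → ∃ k : ℕ, Nat.Coprime k (Nat.card P) ∧ ∀ g : P, (ψ : P → ℂ) g = (χ : P → ℂ) (g ^ k)) ↔
      (IsCyclic (Subgroup.center P) ∧ Nat.card (commutator P) = p) := by
  classical
  haveI := Fintype.ofFinite P
  have hnc : ¬ ∀ a b : P, a * b = b * a := fun h => hna ⟨⟨h⟩⟩
  have hdeg : ∀ θ : Cfsg.IrrCharacter P,
      Cfsg.charDegree (θ : P → ℂ) ≠ 1 ↔ (θ : P → ℂ) 1 ≠ 1 := fun θ => by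
    rw [Cfsg.Lib.Block.apply_one_eq_charDegree θ, Nat.cast_ne_one]
  constructor
  · intro h
    have hK : Cfsg.Lib.PGaloisDeg.KerHyp P := by
      intro χ ψ h1 h2 g hg
      obtain ⟨k, -, hk⟩ := h χ ψ ((hdeg χ).2 h1)
        (Cfsg.Lib.Block.charDegree_eq_of_apply_one (by
          rw [h2, Cfsg.Lib.Block.apply_one_eq_charDegree]))
      have hmem : g ^ k ∈ Cfsg.Lib.Char.charKer χ.2.isCharacter :=
        pow_mem (show g ∈ Cfsg.Lib.Char.charKer χ.2.isCharacter from hg) k
      rw [hk g, ← h2]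
      exact hmem
    have hQ' := Cfsg.Lib.PGaloisDeg.card_commutator_eq _ le_rfl hP hK hnc
    exact ⟨Cfsg.Lib.PGaloisDeg.center_cyclic hP hK hQ', hQ'⟩
  · rintro ⟨hcyc, hcard⟩ χ ψ h1 h2
    exact Cfsg.Lib.PGaloisDeg.exists_galois hP hcyc hcard χ ψ ((hdeg χ).1 h1) (by
      rw [Cfsg.Lib.Block.apply_one_eq_charDegree, Cfsg.Lib.Block.apply_one_eq_charDegree, h2])

end Cfsg.Agent.S4845
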