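import Cfsg.Statements.S4850
import Cfsg.Agent.Lib.Char.SingularVanishing
import Cfsg.Agent.Lib.Core.Basic

set_option autoImplicit false
open Cfsg

namespace Cfsg.Agent.S4850

/-- Let p be a prime and G a finite solvable group whose vanishing elements (elements at which some irreducible character is zero) of order divisible by p all have the same order, with at least one such element. Let P be a Sylow p-subgroup of G. Then the derived subgroup of P is subnormal in G and the image of P in G/O_p(G) is cyclic. -/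
theorem result {G : Type*} [Group G] [Finite G] [hs : Group.IsSolvable G] (p : ℕ) [Fact p.Prime] (b : ℕ) (hvo : {n : ℕ | p ∣ n ∧ ∃ (g : G) (χ : Cfsg.IrrCharacter G), orderOf g = n ∧ (χ : G → ℂ) g = 0} = {b}) (P : Sylow p G) :
    ((commutator ↥(P : Subgroup G)).map (P : Subgroup G).subtype).IsSubnormal ∧ IsCyclic ↥((P : Subgroup G).map (QuotientGroup.mk' (Cfsg.pCore p G))) := by
  have hord : ∀ g h : G, p ∣ orderOf g → p ∣ orderOf h →
      (∃ χ : Cfsg.IrrCharacter G, (χ : G → ℂ) g = 0) → (∃ χ : Cfsg.IrrCharacter G, (χ : G → ℂ) h = 0) →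
      orderOf g = orderOf h := by
    intro g h hg hh hg0 hh0
    have hmem : ∀ x : G, p ∣ orderOf x → (∃ χ : Cfsg.IrrCharacter G, (χ : G → ℂ) x = 0) →
        orderOf x = b := by
      rintro x hx ⟨χ, hχ⟩
      have h1 : orderOf x ∈ ({b} : Set ℕ) := hvo ▸ (⟨hx, x, χ, rfl, hχ⟩ :
        orderOf x ∈ {n : ℕ | p ∣ n ∧ ∃ (g : G) (χ : Cfsg.IrrCharacter G),
          orderOf g = n ∧ (χ : G → ℂ) g = 0})
      exact h1
    rw [hmem g hg hg0, hmem h hh hh0]
  set π := QuotientGroup.mk' (Cfsg.pCore p G) with hπ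
  have hd := Cfsg.Lib.Char.SingularVanishing.sylow_image_dvd hord P
  have hcyc : IsCyclic ↥((P : Subgroup G).map π) := by
    rcases (Nat.dvd_prime (Fact.out : p.Prime)).1 hd with h | h
    · haveI := (Nat.card_eq_one_iff_unique.1 h).1
      infer_instance
    · exact isCyclic_of_prime_card h
  refine ⟨?_, hcyc⟩
  set D := (commutator ↥(P : Subgroup G)).map (P : Subgroup G).subtype with hD
  have hDO : D ≤ Cfsg.pCore p G := by
    rw [hD, Subgroup.map_subtype_commutator, ← QuotientGroup.ker_mk' (Cfsg.pCore p G)]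
    rw [Subgroup.commutator_le]
    intro a ha c hc
    haveI := hcyc
    letI := IsCyclic.commGroup (α := ↥((P : Subgroup G).map π))
    have h1 := congrArg Subtype.val (mul_comm (⟨π a, Subgroup.mem_map_of_mem π ha⟩ :
      ↥((P : Subgroup G).map π)) ⟨π c, Subgroup.mem_map_of_mem π hc⟩)
    simp only [Subgroup.coe_mul] at h1
    rw [MonoidHom.mem_ker, commutatorElement_def]
    show π (a * c * a⁻¹ * c⁻¹) = 1
    rw [map_mul, map_mul, map_mul, h1, map_inv, map_inv]
    group
  refine Cfsg.Lib.Core.isSubnormal_of_normal_subgroupOf hDO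
    (inferInstance : (Cfsg.pCore p G).Normal).isSubnormal ⟨fun x hx y => ?_⟩
  rw [Subgroup.mem_subgroupOf] at hx ⊢
  obtain ⟨z, hz, hzx⟩ := hx
  have hyP : (y : G) ∈ (P : Subgroup G) := Cfsg.Lib.Core.pCore_le_sylow P y.2
  refine ⟨⟨y, hyP⟩ * z * ⟨y, hyP⟩⁻¹,
    (inferInstance : (commutator ↥(P : Subgroup G)).Normal).conj_mem z hz _, ?_⟩
  simp only [map_mul, map_inv, hzx, Subgroup.coe_subtype]
  simp

end Cfsg.Agent.S4850
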