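import Cfsg.Statements.S4856
import Cfsg.Agent.Lib.Block.Basic
import Cfsg.Agent.Lib.Char.Orthogonality

set_option autoImplicit false
open Cfsg

namespace Cfsg.Agent.S4856

/-- For an element z of a finite group G, the number of pairs (x, y) of elements with x y x⁻¹ y⁻¹ = z equals the order of G times the sum over the irreducible characters χ of χ(z)/χ(1). -/
theorem result {G : Type*} [Group G] [Finite G] (z : G) : (Nat.card {xy : G × G // xy.1 * xy.2 * xy.1⁻¹ * xy.2⁻¹ = z} : ℂ) = (Nat.card G : ℂ) * ∑ᶠ χ : Cfsg.IrrCharacter G, (χ : G → ℂ) z / (χ : G → ℂ) 1 := by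
  classical
  haveI := Fintype.ofFinite G
  rw [finsum_eq_sum_of_fintype, Finset.mul_sum]
  have hfib : ∀ y : G, (Nat.card {x : G // x * y * x⁻¹ * y⁻¹ = z} : ℂ) =
      ∑ χ : Cfsg.IrrCharacter G, (χ : G → ℂ) y⁻¹ * (χ : G → ℂ) (y * z) := by
    intro y
    have hr : ∑ χ : Cfsg.IrrCharacter G, (χ : G → ℂ) y⁻¹ * (χ : G → ℂ) (y * z) =
        if IsConj y (z * y) then (Nat.card (Subgroup.centralizer ({y} : Set G)) : ℂ) else 0 := by
      have hcl : ∀ χ : Cfsg.IrrCharacter G, (χ : G → ℂ) (y * z) = (χ : G → ℂ) (z * y) := fun χ => by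
        rw [← χ.2.isClassFunction (z * y) y]; congr 1; group
      have h := congrArg (starRingEnd ℂ) (Cfsg.Lib.Char.column_orthogonality y (z * y))
      rw [map_sum] at h
      simp only [map_mul, Complex.conj_conj] at h
      rw [show (∑ χ : Cfsg.IrrCharacter G, (χ : G → ℂ) y⁻¹ * (χ : G → ℂ) (y * z)) =
        ∑ χ : Cfsg.IrrCharacter G, starRingEnd ℂ ((χ : G → ℂ) y) * (χ : G → ℂ) (z * y) from
        Finset.sum_congr rfl fun χ _ => by rw [χ.2.isCharacter.apply_inv, hcl χ], h]
      split_ifs <;> simp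
    rw [hr]
    split_ifs with hc
    · obtain ⟨c, hc'⟩ := isConj_iff.1 hc
      congr 1
      refine Nat.card_congr (Equiv.symm
        { toFun := fun w => ⟨c * (w : G), by
            have h := Subgroup.mem_centralizer_iff.1 w.2 y rfl
            rw [show c * (w : G) * y * (c * (w : G))⁻¹ = c * ((w : G) * y) * (w : G)⁻¹ * c⁻¹ by group,
              ← h, show c * (y * (w : G)) * (w : G)⁻¹ * c⁻¹ = c * y * c⁻¹ by group, hc',
              mul_inv_cancel_right]⟩
          invFun := fun x => ⟨c⁻¹ * x.1, by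
            rw [Subgroup.mem_centralizer_iff]
            intro w hw
            rw [Set.mem_singleton_iff.1 hw]
            have hx : x.1 * y * x.1⁻¹ = z * y := mul_inv_eq_iff_eq_mul.1 x.2
            rw [← hc'] at hx
            calc y * (c⁻¹ * x.1) = c⁻¹ * (c * y * c⁻¹) * x.1 := by group
              _ = c⁻¹ * (x.1 * y * x.1⁻¹) * x.1 := by rw [hx]
              _ = c⁻¹ * x.1 * y := by group⟩
          left_inv := fun w => Subtype.ext (inv_mul_cancel_left _ _)
          right_inv := fun x => Subtype.ext (mul_inv_cancel_left _ _) })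
    · rw [Nat.cast_eq_zero, Nat.card_eq_zero]
      refine Or.inl ⟨fun x => hc (isConj_iff.2 ⟨x.1, mul_inv_eq_iff_eq_mul.1 x.2⟩)⟩
  let e : {xy : G × G // xy.1 * xy.2 * xy.1⁻¹ * xy.2⁻¹ = z} ≃
      Σ y : G, {x : G // x * y * x⁻¹ * y⁻¹ = z} :=
    { toFun := fun w => ⟨w.1.2, w.1.1, w.2⟩
      invFun := fun w => ⟨(w.2.1, w.1), w.2.2⟩
      left_inv := fun w => rfl
      right_inv := fun w => rfl }
  rw [Nat.card_congr e, Nat.card_sigma, Nat.cast_sum, Finset.sum_congr rfl fun y _ => hfib y,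
    Finset.sum_comm]
  refine Finset.sum_congr rfl fun χ _ => ?_
  rw [Cfsg.Lib.Block.sum_inv_mul_shift, if_pos rfl, mul_div_assoc]

end Cfsg.Agent.S4856
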