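import Cfsg.Statements.S4859
import Cfsg.Agent.Lib.Char.Indicator
import Cfsg.Agent.Lib.Block.Basic

set_option autoImplicit false
open Cfsg
open scoped ComplexConjugate

namespace Cfsg.Agent.S4859

/-- Let p be an odd prime, G a finite group and x an element of G whose order is a power of p (possibly 1) and whose centralizer has even order. Let y be a 2-element of the centralizer of x whose order is largest among the 2-elements of that centralizer. Then x * y is not a square in G, and some non-principal real-valued irreducible character of G does not vanish at x * y. -/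
theorem result {G : Type*} [Group G] [Finite G] (p : ℕ) [Fact p.Prime] (hp : p ≠ 2) (x : G) (hx : ∃ k : ℕ, orderOf x = p ^ k) (heven : Even (Nat.card (Subgroup.centralizer ({x} : Set G)))) (y : G) (hy : y ∈ Subgroup.centralizer ({x} : Set G)) (hy2 : ∃ k : ℕ, orderOf y = 2 ^ k) (hmax : ∀ z ∈ Subgroup.centralizer ({x} : Set G), (∃ k : ℕ, orderOf z = 2 ^ k) → orderOf z ≤ orderOf y) : (¬ ∃ u : G, u * u = x * y) ∧ ∃ χ : Cfsg.IrrCharacter G, ¬ ((χ : G → ℂ) = fun _ => (1 : ℂ)) ∧ (∀ g : G, ((χ : G → ℂ) g).im = 0) ∧ (χ : G → ℂ) (x * y) ≠ 0 := by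
  classical
  haveI := Fintype.ofFinite G
  haveI : Fact (Nat.Prime 2) := ⟨Nat.prime_two⟩
  have hxy : Commute x y := Subgroup.mem_centralizer_iff.1 hy x rfl
  obtain ⟨k, hk⟩ := hx
  obtain ⟨j, hj⟩ := hy2
  have hj1 : 1 ≤ j := by
    obtain ⟨z, hz⟩ := exists_prime_orderOf_dvd_card' 2 (even_iff_two_dvd.1 heven)
    have h := hmax z z.2 ⟨1, by rw [orderOf_submonoid, hz, pow_one]⟩
    rw [orderOf_submonoid, hz, hj] at h
    rcases Nat.eq_zero_or_pos j with rfl | h'
    · simp at h
    · exact h'
  have hns : ¬ ∃ u : G, u * u = x * y := by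
    rintro ⟨u, hu⟩
    obtain ⟨e, m, hm, he⟩ := Nat.exists_eq_pow_mul_and_not_dvd (orderOf_pos u).ne' 2 (by norm_num)
    set w := u ^ m with hw
    have hwo : orderOf w = 2 ^ e := by
      rw [hw, orderOf_pow_of_dvd (by rintro rfl; exact hm (dvd_zero 2)) (he ▸ Dvd.intro_left _ rfl),
        he, Nat.mul_div_cancel _ (Nat.pos_of_ne_zero (by rintro rfl; exact hm (dvd_zero 2)))]
    have hxo : ¬ 2 ∣ orderOf x := by
      rw [hk]
      intro h
      exact hp ((Nat.prime_dvd_prime_iff_eq Nat.prime_two (Fact.out : p.Prime)).1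
        (Nat.prime_two.dvd_of_dvd_pow h)).symm
    have hord : orderOf (u * u) = p ^ k * 2 ^ j := by
      rw [hu, hxy.orderOf_mul_eq_mul_orderOf_of_coprime, hk, hj]
      rw [hj]
      exact Nat.Coprime.pow_right j ((Nat.prime_two.coprime_iff_not_dvd.2 hxo).symm)
    have hwC : w ∈ Subgroup.centralizer ({x} : Set G) := by
      -- `x` is a power of `u * u`
      have hxz : x ∈ Subgroup.zpowers (u * u) := by
        obtain ⟨a, ha⟩ := exists_pow_eq_self_of_coprime (x := x) (n := 2 ^ j)
          (Nat.Coprime.pow_left j (Nat.prime_two.coprime_iff_not_dvd.2 hxo))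
        refine ⟨((2 ^ j * a : ℕ) : ℤ), ?_⟩
        show (u * u) ^ ((2 ^ j * a : ℕ) : ℤ) = x
        rw [zpow_natCast, hu, pow_mul, hxy.mul_pow, ← hj, pow_orderOf_eq_one, mul_one, hj, ha]
      obtain ⟨i, hi⟩ := hxz
      refine Subgroup.mem_centralizer_iff.2 fun z hz => ?_
      rw [Set.mem_singleton_iff] at hz
      subst hz
      rw [← hi, hw]
      exact ((((Commute.refl u).mul_left (Commute.refl u)).zpow_left i).pow_right m).eq
    have hle := hmax w hwC ⟨e, hwo⟩
    rw [hwo, hj] at hle
    have h2 : 2 ∣ orderOf (u * u) := hord ▸ dvd_mul_of_dvd_right (dvd_pow_self 2 (by omega)) _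
    have he1 : 1 ≤ e := by
      rcases Nat.eq_zero_or_pos e with rfl | h'
      · rw [pow_zero, one_mul] at he
        exact absurd (h2.trans (by rw [← sq]; exact orderOf_pow_dvd 2)) (he ▸ hm)
      · exact h'
    have hsq : orderOf (u * u) = 2 ^ (e - 1) * m := by
      rw [← sq, orderOf_pow_of_dvd two_ne_zero (he ▸ dvd_mul_of_dvd_left (dvd_pow_self 2 (by omega)) m), he,
        show 2 ^ e = 2 * 2 ^ (e - 1) by rw [← pow_succ', Nat.sub_add_cancel he1], mul_assoc,
        Nat.mul_div_cancel_left _ two_pos]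
    have hpk : (p ^ k).factorization 2 = 0 := Nat.factorization_eq_zero_of_not_dvd (hk ▸ hxo)
    have hm0 : m ≠ 0 := by rintro rfl; exact hm (dvd_zero 2)
    have hval := congrArg (fun n => n.factorization 2) (hord.symm.trans hsq)
    simp only [Nat.factorization_mul (pow_ne_zero _ (Fact.out : p.Prime).ne_zero) (pow_ne_zero _ two_ne_zero),
      Nat.factorization_mul (pow_ne_zero _ two_ne_zero) hm0, Finsupp.add_apply, hpk, zero_add,
      Nat.prime_two.factorization_pow, Finsupp.single_eq_same,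
      Nat.factorization_eq_zero_of_not_dvd hm, add_zero] at hval
    have := (Nat.pow_le_pow_iff_right (le_refl 2)).1 hle
    omega
  refine ⟨hns, ?_⟩
  set F : G → ℂ := fun g => ((Finset.univ.filter fun s : G => s * s = g).card : ℂ) with hF
  have hFc : Cfsg.IsClassFunction G F := fun g c => by
    simp only [hF]
    congr 1
    refine Finset.card_nbij' (fun s => c⁻¹ * s * c) (fun s => c * s * c⁻¹) (fun s hs => ?_)
      (fun s hs => ?_) (fun s _ => by group) (fun s _ => by group)
    · simp only [Finset.coe_filter, Finset.mem_univ, true_and, Set.mem_setOf_eq] at hs ⊢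
      calc c⁻¹ * s * c * (c⁻¹ * s * c) = c⁻¹ * (s * s) * c := by group
        _ = g := by rw [hs]; group
    · simp only [Finset.coe_filter, Finset.mem_univ, true_and, Set.mem_setOf_eq] at hs ⊢
      calc c * s * c⁻¹ * (c * s * c⁻¹) = c * (s * s) * c⁻¹ := by group
        _ = _ := by rw [hs]
  have hinner : ∀ χ : Cfsg.IrrCharacter G, Cfsg.classInner F (χ : G → ℂ) =
      (Nat.card G : ℂ)⁻¹ * conj (∑ s, (χ : G → ℂ) (s * s)) := by
    intro χ
    rw [Cfsg.classInner, map_sum, ← Finset.sum_fiberwise Finset.univ (fun s : G => s * s)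
      fun s => conj ((χ : G → ℂ) (s * s))]
    congr 1
    refine Finset.sum_congr rfl fun g _ => ?_
    simp only [hF, ← nsmul_eq_mul, ← Finset.sum_const]
    exact Finset.sum_congr rfl fun s hs => by rw [(Finset.mem_filter.1 hs).2]
  by_contra hcon
  push Not at hcon
  have h0 : F (x * y) = 0 := by
    simp only [hF, Nat.cast_eq_zero, Finset.card_eq_zero, Finset.filter_eq_empty_iff]
    exact fun s _ h => hns ⟨s, h⟩
  rw [Cfsg.Lib.Char.eq_sum_classInner hFc] at h0
  simp only [Finset.sum_apply, Pi.smul_apply, smul_eq_mul] at h0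
  rw [Finset.sum_eq_single (Cfsg.Lib.Block.trivChar G) (fun χ _ hne => ?_)
    (fun h => absurd (Finset.mem_univ _) h), hinner, Cfsg.Lib.Block.trivChar_coe] at h0
  · simp [Cfsg.Lib.Char.card_cast_ne_zero] at h0
  · rcases Cfsg.Lib.Char.indicator_cases χ.2 with ⟨-, hz⟩ | ⟨hr, -⟩
    · rw [hinner, hz, map_zero, mul_zero, zero_mul]
    · rw [hcon χ (fun h => hne (Subtype.ext h)) hr, mul_zero]

end Cfsg.Agent.S4859
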