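import Cfsg.Statements.S4860
import Cfsg.Agent.Lib.Block.RealPrincipalPair

set_option autoImplicit false
open Cfsg

namespace Cfsg.Agent.S4860

/-- Let G be a finite group, p an odd prime and M a maximal ideal of the algebraic integers containing p. If the principal p-block of G contains a non-principal real-valued irreducible character α, then it contains a non-principal real-valued irreducible character β different from α, and β may be chosen so that no field automorphism of ℂ carries α to β. -/
theorem result {G : Type*} [Group G] [Finite G] (p : ℕ) [Fact p.Prime] (hp : p ≠ 2) (M : Ideal Cfsg.AlgInt) (hM : Cfsg.IsPModular p M) (α : Cfsg.IrrCharacter G) (hα : α ∈ Cfsg.principalBlock M G) (hα1 : ¬ ((α : G → ℂ) = fun _ => (1 : ℂ))) (hαr : (∀ g : G, ((α : G → ℂ) g).im = 0)) : ∃ β : Cfsg.IrrCharacter G, β ∈ Cfsg.principalBlock M G ∧ ¬ ((β : G → ℂ) = fun _ => (1 : ℂ)) ∧ (∀ g : G, ((β : G → ℂ) g).im = 0) ∧ β ≠ α ∧ ∀ σ : ℂ ≃+* ℂ, (β : G → ℂ) ≠ (σ : ℂ → ℂ) ∘ (α : G → ℂ) := by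
  haveI := Fintype.ofFinite G
  exact Cfsg.Lib.Block.exists_real_not_conjugate hp hM α hα hα1 hαr

end Cfsg.Agent.S4860
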