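import Cfsg.Statements.S4861
import Cfsg.Agent.Lib.Char.RealPDegree
-- import your own Cfsg.Agent.* helpers here

set_option autoImplicit false
open Cfsg

namespace Cfsg.Agent.S4861

theorem exists_sylow_normal {G : Type*} [Group G] [Finite G] (p : ℕ) [hp : Fact p.Prime]
    (U P : Subgroup G) [P.Normal] (hPU : P ≤ U) (hPp : IsPGroup p P) (hPi : ¬ p ∣ P.relIndex U)
    (Q : Sylow p U) : (Q : Subgroup U).Normal := by
  haveI hn : (P.subgroupOf U).Normal := Subgroup.Normal.subgroupOf inferInstance U
  let P₁ : Sylow p U := (hPp.comap_of_injective U.subtype U.subtype_injective).toSylow hPi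
  haveI : (P₁ : Subgroup U).Normal := hn
  haveI := Sylow.unique_of_normal P₁ inferInstance
  rw [Subsingleton.elim Q P₁]
  exact hn

/-- Let p be a prime and G a finite group such that the subgroup generated by the p-elements of G (the smallest normal subgroup of index prime to p) is solvable and every real-valued irreducible complex character of G has degree prime to p. Let K be the subgroup generated by the 2-elements of G (the smallest normal subgroup of odd index). Then the Sylow p-subgroups of K are normal in K. -/
theorem result {G : Type*} [Group G] [Finite G] (p : ℕ) [Fact p.Prime] (hsolv : Group.IsSolvable ↥(Subgroup.closure {g : G | ∃ k : ℕ, orderOf g = p ^ k})) (hreal : ∀ χ : Cfsg.IrrCharacter G, (∀ g : G, ((χ : G → ℂ) g).im = 0) → ¬ p ∣ Cfsg.charDegree (χ : G → ℂ)) (Q : Sylow p ↥(Subgroup.closure {g : G | ∃ k : ℕ, orderOf g = 2 ^ k})) : (Q : Subgroup ↥(Subgroup.closure {g : G | ∃ k : ℕ, orderOf g = 2 ^ k})).Normal := by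
  open Cfsg.Lib.Char in
  obtain ⟨P, hPn, hPU, hPp, hPi⟩ := RealPDegree.exists_normal_sylow _ G rfl hsolv
    (fun χ h => hreal χ (RealOdd.isReal_iff_im.1 h)) _ (RealPDegree.powGen_normal 2) le_rfl
    (fun u hu => ⟨0, by rw [pow_zero, pow_one]; exact hu⟩)
  exact exists_sylow_normal p _ P hPU hPp hPi Q

end Cfsg.Agent.S4861
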