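import Cfsg.Statements.S4866
import Cfsg.Agent.Lib.Char.Clifford
import Cfsg.Agent.Lib.Char.PermLemma
import Mathlib.GroupTheory.GroupAction.Quotient

set_option autoImplicit false
open Cfsg Cfsg.Lib.Char
open scoped ComplexConjugate

namespace Cfsg.Agent.S4866

variable {G : Type*} [Group G] [Finite G] (K : Subgroup G) [hK : K.Normal]

/-- Conjugation inside a normal subgroup. -/
abbrev cj (g : G) : K ≃* K := MulAut.conjNormal (H := K) g

theorem cj_one (k : K) : cj K 1 k = k := Subtype.ext (by simp)

theorem cj_mul (g h : G) (k : K) : cj K (g * h) k = cj K g (cj K h k) :=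
  Subtype.ext (by simp [mul_assoc])

/-- The action of the group on the irreducible characters of a normal subgroup. -/
instance irrAction : MulAction G (IrrCharacter ↥K) where
  smul g θ := ⟨fun k => (θ : K → ℂ) (cj K g⁻¹ k), isIrrCharacter_comp_equiv (cj K g⁻¹) θ.2⟩
  one_smul θ := Subtype.ext (funext fun k => congrArg (θ : K → ℂ) (by rw [inv_one, cj_one]))
  mul_smul g h θ := Subtype.ext (funext fun k => congrArg (θ : K → ℂ) (by
    show cj K (g * h)⁻¹ k = cj K h⁻¹ (cj K g⁻¹ k)
    rw [mul_inv_rev, cj_mul]))

/-- The action of the group on the classes of a normal subgroup. -/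
instance classAction : MulAction G (ConjClasses ↥K) where
  smul g C := ConjClasses.map (cj K g).toMonoidHom C
  one_smul C := by
    obtain ⟨k, rfl⟩ := C.exists_rep
    exact congrArg ConjClasses.mk (cj_one K k)
  mul_smul g h C := by
    obtain ⟨k, rfl⟩ := C.exists_rep
    exact congrArg ConjClasses.mk (cj_mul K g h k)

theorem irr_smul_apply (g : G) (θ : IrrCharacter ↥K) (k : K) :
    ((g • θ : IrrCharacter ↥K) : K → ℂ) k = (θ : K → ℂ) (cj K g⁻¹ k) := rfl

theorem class_smul_mk (g : G) (k : K) :
    g • ConjClasses.mk k = ConjClasses.mk (cj K g k) := rfl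

/-- Inversion of classes. -/
def classInvMap (C : ConjClasses ↥K) : ConjClasses ↥K :=
  Quotient.map' (fun k : K => k⁻¹) (fun _ _ h => by
    obtain ⟨c, hc⟩ := isConj_iff.mp h
    exact isConj_iff.mpr ⟨c, by rw [← hc]; group⟩) C

theorem classInvMap_mk (k : K) : classInvMap K (ConjClasses.mk k) = ConjClasses.mk k⁻¹ := rfl

theorem mem_smul_eq (θ : IrrCharacter ↥K) {k : G} (hk : k ∈ K) : k • θ = θ := by
  refine Subtype.ext (funext fun x => ?_)
  rw [irr_smul_apply]
  have : cj K k⁻¹ x = (⟨k, hk⟩ : K)⁻¹ * x * ((⟨k, hk⟩ : K)⁻¹)⁻¹ := Subtype.ext (by simp)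
  rw [this]
  exact θ.2.isClassFunction x _

theorem mem_smul_class (C : ConjClasses ↥K) {k : G} (hk : k ∈ K) : k • C = C := by
  obtain ⟨x, rfl⟩ := C.exists_rep
  rw [class_smul_mk, ConjClasses.mk_eq_mk_iff_isConj]
  exact (isConj_iff.mpr ⟨⟨k, hk⟩, Subtype.ext (by simp)⟩).symm

/-- A point fixed by a twisted odd power is fixed by the involution. -/
theorem fixed_of_twist {X : Type*} [MulAction G X] (hodd : Odd K.index) (τ : X → X)
    (hinv : ∀ x, τ (τ x) = x) (hcomm : ∀ (g : G) x, τ (g • x) = g • τ x)
    (hKfix : ∀ k ∈ K, ∀ x : X, k • x = x) {g : G} {x : X} (h : g • τ x = x) :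
    τ x = x ∧ g • x = x := by
  have key : ∀ m : ℕ, g ^ (2 * m) • x = x ∧ g ^ (2 * m + 1) • x = τ x := by
    have h1 : g • x = τ x := by
      have := congrArg τ h
      rwa [hcomm, hinv] at this
    intro m
    induction m with
    | zero => simpa using h1
    | succ m ih =>
      have h2 : g ^ (2 * (m + 1)) • x = x := by
        rw [show 2 * (m + 1) = (2 * m + 1) + 1 by ring, pow_succ', mul_smul, ih.2, h]
      exact ⟨h2, by rw [pow_succ', mul_smul, h2, h1]⟩
  obtain ⟨m, hm⟩ := hodd
  have hx : τ x = x := by
    rw [← (key m).2, ← hm]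
    exact hKfix _ (Subgroup.pow_index_mem K g) x
  exact ⟨hx, by rw [hx] at h; exact h⟩

/-- Let K be a normal subgroup of odd index in the finite group G. Then G has as many orbits on the real-valued irreducible complex characters of K (acting by conjugation) as it has orbits on the conjugacy classes of K that are real in K; equivalently, the number of G-orbits of real-valued irreducible characters of K equals the number of G-conjugacy classes of elements of K that are conjugate in K to their inverses. -/
theorem result {G : Type*} [Group G] [Finite G] (K : Subgroup G) [K.Normal] (hodd : Odd K.index) : Nat.card (Quot (fun θ η : {θ : Cfsg.IrrCharacter ↥K // (∀ k : ↥K, ((θ : ↥K → ℂ) k).im = 0)} => ∃ g : G, ∀ k k' : ↥K, (k' : G) = g * (k : G) * g⁻¹ → (η.1 : ↥K → ℂ) k' = (θ.1 : ↥K → ℂ) k)) = Nat.card (Quot (fun x y : {x : ↥K // IsConj x x⁻¹} => ∃ g : G, (y.1 : G) = g * x.1 * g⁻¹)) := by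
  classical
  haveI := Fintype.ofFinite G
  haveI : Finite (ConjClasses ↥K) := Quotient.finite _
  -- real characters and real classes
  let XR : SubMulAction G (IrrCharacter ↥K) :=
    { carrier := {θ | ∀ k : ↥K, ((θ : ↥K → ℂ) k).im = 0}
      smul_mem' := fun g θ hθ k => hθ _ }
  have hYmem : ∀ (g : G) (C : ConjClasses ↥K), classInvMap K (g • C) = g • classInvMap K C := by
    intro g C
    obtain ⟨k, rfl⟩ := C.exists_rep
    rw [class_smul_mk, classInvMap_mk, classInvMap_mk, class_smul_mk, map_inv]
  let YR : SubMulAction G (ConjClasses ↥K) :=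
    { carrier := {C | classInvMap K C = C}
      smul_mem' := fun g C hC => by
        show classInvMap K (g • C) = g • C
        rw [hYmem, show classInvMap K C = C from hC] }
  -- equal fixed point numbers
  have hfix : ∀ g : G, Nat.card (MulAction.fixedBy XR g) = Nat.card (MulAction.fixedBy YR g) := by
    intro g
    have hB := brauer_permutation (G := ↥K) (fun θ => g • irrConj θ)
      (fun C => g • classInvMap K C)
      (by
        refine Finite.injective_iff_bijective.mp fun C C' h => ?_
        have h2 := MulAction.injective g h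
        obtain ⟨k, rfl⟩ := C.exists_rep
        obtain ⟨k', rfl⟩ := C'.exists_rep
        have h3 := congrArg (classInvMap K) h2
        rwa [classInvMap_mk, classInvMap_mk, classInvMap_mk, classInvMap_mk, inv_inv,
          inv_inv] at h3)
      (by
        intro θ a a' ha
        rw [classInvMap_mk, class_smul_mk, ConjClasses.mk_eq_mk_iff_isConj] at ha
        obtain ⟨c, hc⟩ := isConj_iff.mp ha.symm
        rw [← hc, (g • irrConj θ).2.isClassFunction, irr_smul_apply]
        show conj ((θ : ↥K → ℂ) _) = _
        rw [← cj_mul, inv_mul_cancel, cj_one, θ.2.isCharacter.apply_inv, Complex.conj_conj])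
    have hX : Nat.card {θ : IrrCharacter ↥K // g • irrConj θ = θ}
        = Nat.card (MulAction.fixedBy XR g) := by
      have hiff : ∀ θ : IrrCharacter ↥K, g • irrConj θ = θ ↔ θ ∈ XR ∧ g • θ = θ := by
        intro θ
        constructor
        · intro h
          have := fixed_of_twist K hodd irrConj
            (fun x => Subtype.ext (funext fun k => Complex.conj_conj _))
            (fun g x => rfl) (fun k hk x => mem_smul_eq K x hk) h
          exact ⟨(irrConj_eq_iff θ).mp this.1, this.2⟩
        · rintro ⟨h1, h2⟩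
          rw [(irrConj_eq_iff θ).mpr h1, h2]
      exact Nat.card_congr
        { toFun := fun θ => ⟨⟨θ.1, ((hiff θ.1).mp θ.2).1⟩, Subtype.ext ((hiff θ.1).mp θ.2).2⟩
          invFun := fun θ => ⟨θ.1.1, (hiff θ.1.1).mpr ⟨θ.1.2, congrArg Subtype.val θ.2⟩⟩
          left_inv := fun θ => rfl
          right_inv := fun θ => rfl }
    have hY : Nat.card {C : ConjClasses ↥K // g • classInvMap K C = C}
        = Nat.card (MulAction.fixedBy YR g) := by
      have hiff : ∀ C : ConjClasses ↥K, g • classInvMap K C = C ↔ C ∈ YR ∧ g • C = C := by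
        intro C
        constructor
        · intro h
          exact fixed_of_twist K hodd (classInvMap K)
            (fun x => by
              obtain ⟨k, rfl⟩ := x.exists_rep
              rw [classInvMap_mk, classInvMap_mk, inv_inv])
            hYmem (fun k hk x => mem_smul_class K x hk) h
        · rintro ⟨h1, h2⟩
          rw [show classInvMap K C = C from h1, h2]
      exact Nat.card_congr
        { toFun := fun C => ⟨⟨C.1, ((hiff C.1).mp C.2).1⟩, Subtype.ext ((hiff C.1).mp C.2).2⟩
          invFun := fun C => ⟨C.1.1, (hiff C.1.1).mpr ⟨C.1.2, congrArg Subtype.val C.2⟩⟩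
          left_inv := fun C => rfl
          right_inv := fun C => rfl }
    rw [← hX, ← hY]
    exact hB
  haveI := Fintype.ofFinite XR
  haveI := Fintype.ofFinite YR
  haveI := Fintype.ofFinite (MulAction.orbitRel.Quotient G XR)
  haveI := Fintype.ofFinite (MulAction.orbitRel.Quotient G YR)
  have horb : Nat.card (MulAction.orbitRel.Quotient G XR)
      = Nat.card (MulAction.orbitRel.Quotient G YR) := by
    have hX := MulAction.sum_card_fixedBy_eq_card_orbits_mul_card_group G XR
    have hY := MulAction.sum_card_fixedBy_eq_card_orbits_mul_card_group G YR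
    simp only [← Nat.card_eq_fintype_card] at hX hY
    exact Nat.eq_of_mul_eq_mul_right Nat.card_pos
      (hX.symm.trans ((Finset.sum_congr rfl fun g _ => hfix g).trans hY))
  refine Eq.trans (Nat.card_congr (Quot.congr (Equiv.refl XR) ?_)) (horb.trans (Nat.card_congr ?_))
  · intro θ η
    rw [MulAction.orbitRel_apply, MulAction.mem_orbit_iff]
    constructor
    · rintro ⟨g, hg⟩
      refine ⟨g⁻¹, Subtype.ext (Subtype.ext (funext fun k => ?_))⟩
      show (η.1 : ↥K → ℂ) (cj K g⁻¹⁻¹ k) = (θ.1 : ↥K → ℂ) k
      exact hg k _ (by simp)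
    · rintro ⟨g, hg⟩
      refine ⟨g⁻¹, fun k k' hk => ?_⟩
      have := congrFun (congrArg (fun x : XR => ((x : IrrCharacter ↥K) : ↥K → ℂ)) hg) k
      refine Eq.trans ?_ this
      show (η.1 : ↥K → ℂ) k' = (η.1 : ↥K → ℂ) (cj K g⁻¹ k)
      exact congrArg _ (Subtype.ext (by simpa using hk))
  · let T := {x : ↥K // IsConj x x⁻¹}
    let r : T → T → Prop := fun x y => ∃ g : G, (y.1 : G) = g * x.1 * g⁻¹
    let φ : T → YR := fun x => ⟨ConjClasses.mk x.1, by
      show classInvMap K (ConjClasses.mk x.1) = ConjClasses.mk x.1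
      rw [classInvMap_mk, ConjClasses.mk_eq_mk_iff_isConj]
      exact x.2.symm⟩
    let ψ : Quot r → MulAction.orbitRel.Quotient G YR :=
      Quot.lift (fun x => Quotient.mk _ (φ x)) (by
        rintro x y ⟨g, hg⟩
        apply Quotient.sound
        change φ x ∈ MulAction.orbit G (φ y)
        refine ⟨g⁻¹, Subtype.ext ?_⟩
        show g⁻¹ • ConjClasses.mk y.1 = ConjClasses.mk x.1
        rw [class_smul_mk]
        exact congrArg ConjClasses.mk (Subtype.ext (by simp [hg, mul_assoc])))
    refine (Equiv.ofBijective ψ ⟨?_, ?_⟩).symm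
    · rintro ⟨x⟩ ⟨y⟩ h
      obtain ⟨g, hg⟩ : φ x ∈ MulAction.orbit G (φ y) := Quotient.exact h
      have h1 : g • ConjClasses.mk y.1 = ConjClasses.mk x.1 := congrArg Subtype.val hg
      rw [class_smul_mk, ConjClasses.mk_eq_mk_iff_isConj] at h1
      obtain ⟨c, hc⟩ := isConj_iff.mp h1
      refine (Quot.sound ?_).symm
      refine ⟨(c : G) * g, ?_⟩
      rw [← hc]
      simp [mul_assoc]
    · rintro ⟨C, hC⟩
      obtain ⟨k, rfl⟩ := C.exists_rep
      exact ⟨Quot.mk _ ⟨k, (ConjClasses.mk_eq_mk_iff_isConj.mp
        (show classInvMap K (ConjClasses.mk k) = ConjClasses.mk k from hC)).symm⟩, rfl⟩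

end Cfsg.Agent.S4866
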