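import Cfsg.Statements.S4870
import Cfsg.Agent.Lib.Block.LinearTwist
import Cfsg.Agent.Lib.Block.Basic

set_option autoImplicit false
open Cfsg Cfsg.Lib.Char Cfsg.Lib.Block

namespace Cfsg.Agent.S4870

/-- Let G be a finite group with a non-abelian minimal normal subgroup N, and let φ be an irreducible complex character of N with stabilizer I in G (the elements g with φ(g n g⁻¹) = φ(n) for all n ∈ N) such that φ extends to an irreducible character of I. Put d = φ(1)·[G : I]. Then the number of linear characters of G is at most [G : I] times the number of irreducible characters of G of degree d. -/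
theorem result {G : Type*} [Group G] [Finite G] (N : Subgroup G) (hN : N.Normal) (hN1 : N ≠ ⊥) (hmin : ∀ M : Subgroup G, M.Normal → M ≤ N → M = ⊥ ∨ M = N) (hna : ¬ IsMulCommutative ↥N) (φ : Cfsg.IrrCharacter ↥N) (I : Subgroup G) (hI : ∀ g : G, g ∈ I ↔ ∀ n n' : ↥N, (n' : G) = g * (n : G) * g⁻¹ → (φ : ↥N → ℂ) n' = (φ : ↥N → ℂ) n) (hNI : N ≤ I) (hext : ∃ ψ : Cfsg.IrrCharacter ↥I, ∀ n : ↥N, (ψ : ↥I → ℂ) (Subgroup.inclusion hNI n) = (φ : ↥N → ℂ) n) : Nat.card {χ : Cfsg.IrrCharacter G // Cfsg.charDegree (χ : G → ℂ) = 1} ≤ I.index * Nat.card {χ : Cfsg.IrrCharacter G // Cfsg.charDegree (χ : G → ℂ) = Cfsg.charDegree (φ : ↥N → ℂ) * I.index} := by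
  classical
  haveI := Fintype.ofFinite G
  haveI := Fintype.ofFinite N
  haveI := Fintype.ofFinite I
  haveI := hN
  obtain ⟨ψ, hres⟩ := hext
  have hI' : I = inertia N (φ : N → ℂ) := SetLike.ext fun g => by
    rw [hI g, mem_inertia_iff]
    exact ⟨fun h n => h n ⟨g * n * g⁻¹, hN.conj_mem n n.2 g⟩ rfl,
      fun h n n' e => by rw [← h n]; exact congrArg _ (Subtype.ext e)⟩
  have hker : ∀ μ : G →* ℂˣ, ∀ n ∈ N, μ n = 1 := fun μ _ hn =>
    hom_eq_one_of_minimal hN hmin hna μ hn
  have h1 : Nat.card {χ : IrrCharacter G // charDegree (χ : G → ℂ) = 1} = Nat.card {μ : G →* ℂˣ // True} := by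
    rw [Nat.card_congr (Equiv.subtypeUnivEquiv fun _ => trivial), card_linear_eq_index, ← card_degree_one]
    exact Nat.card_congr (Equiv.subtypeEquivRight fun χ => by
      rw [χ.2.apply_one_eq_charDegree, Nat.cast_eq_one])
  rw [h1]
  refine card_hom_le_mul hNI hI' φ.2 ψ.2 hres hker fun μ _ h => ?_
  refine Cfsg.Lib.Block.charDegree_eq_of_apply_one ?_
  show indFun I _ 1 = _
  rw [(twist_induce hNI hI' φ.2 ψ.2 hres (hker μ) (hker μ)).2.1, φ.2.apply_one_eq_charDegree,
    Nat.cast_mul]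

end Cfsg.Agent.S4870
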