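import Cfsg.Statements.S4871
import Cfsg.Agent.Lib.Char.RealOddDegree
import Cfsg.Agent.Lib.Char.RealOver
import Cfsg.Agent.Lib.Char.Indicator
import Mathlib.RingTheory.IntegralDomain
-- import your own Cfsg.Agent.* helpers here

set_option autoImplicit false
open Cfsg

namespace Cfsg.Agent.S4871

open Cfsg.Lib Cfsg.Lib.Char
open scoped ComplexConjugate commutatorElement

universe w

attribute [local instance 100] Fintype.ofFinite

/-- The sign characters. -/
abbrev Sign (H : Type w) [Group H] : Type w := {μ : H →* ℂˣ // ∀ h, μ h * μ h = 1}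

theorem card_sign_le {P : Type w} [Group P] [Finite P] (H : Subgroup P) :
    Nat.card (Sign P) ≤ H.index * Nat.card (Sign H) := by
  classical
  let res : Sign P → Sign H := fun μ => ⟨μ.1.comp H.subtype, fun h => μ.2 h⟩
  let M := H ⊔ commutator P
  haveI : M.Normal := ⟨fun x hx g => by
    have h : g * x * g⁻¹ = ⁅g, x⁆ * x := by simp [commutatorElement_def, mul_assoc]
    rw [h]
    exact M.mul_mem (le_sup_right (a := H)
      (Subgroup.commutator_mem_commutator (Subgroup.mem_top g) (Subgroup.mem_top x))) hx⟩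
  haveI : Finite (Sign P) := inferInstance
  have hfib : ∀ ν : Sign H, Nat.card {μ : Sign P // res μ = ν} ≤ H.index := by
    intro ν
    rcases isEmpty_or_nonempty {μ : Sign P // res μ = ν} with h | ⟨⟨μ₀, hμ₀⟩⟩
    · simp
    have hd : ∀ μ : {μ : Sign P // res μ = ν}, M ≤ (μ.1.1 * μ₀.1⁻¹).ker := fun μ =>
      sup_le (fun x hx => by
        have := DFunLike.congr_fun (congrArg Subtype.val (μ.2.trans hμ₀.symm)) ⟨x, hx⟩
        rw [MonoidHom.mem_ker, MonoidHom.mul_apply, MonoidHom.inv_apply]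
        exact mul_inv_eq_one.2 this) (Abelianization.commutator_subset_ker _)
    calc Nat.card {μ : Sign P // res μ = ν}
        ≤ Nat.card (P ⧸ M →* ℂˣ) := Nat.card_le_card_of_injective
          (fun μ => QuotientGroup.lift M (μ.1.1 * μ₀.1⁻¹) (hd μ)) fun a b hab => by
            refine Subtype.ext (Subtype.ext (MonoidHom.ext fun x => ?_))
            have := DFunLike.congr_fun hab (x : P ⧸ M)
            simpa using this
      _ = (commutator (P ⧸ M)).index := card_linear_eq_index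
      _ ≤ Nat.card (P ⧸ M) := Nat.le_of_dvd Nat.card_pos (Subgroup.index_dvd_card _)
      _ ≤ H.index := Nat.le_of_dvd (Nat.pos_of_ne_zero Subgroup.index_ne_zero_of_finite)
          (Subgroup.index_dvd_of_le le_sup_left)
  haveI : Finite (Sign H) := inferInstance
  haveI := Fintype.ofFinite (Sign H)
  calc Nat.card (Sign P) = Nat.card (Σ ν : Sign H, {μ : Sign P // res μ = ν}) :=
        Nat.card_congr (Equiv.sigmaFiberEquiv res).symm
    _ = ∑ ν : Sign H, Nat.card {μ : Sign P // res μ = ν} := Nat.card_sigma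
    _ ≤ ∑ _ν : Sign H, H.index := Finset.sum_le_sum fun ν _ => hfib ν
    _ = H.index * Nat.card (Sign H) := by
        rw [Finset.sum_const, Finset.card_univ, smul_eq_mul, Nat.card_eq_fintype_card, mul_comm]

variable {G : Type w} [Group G] [Finite G] {N P : Subgroup G} [hN : N.Normal] {q : ℕ}

theorem eq_one_of_sq (hodd : Odd (Nat.card N)) (l : N →* ℂˣ) (n : N) (h : l n * l n = 1) :
    l n = 1 := by
  have h1 : l n ^ Nat.card N = 1 := by rw [← map_pow, pow_card_eq_one', map_one]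
  obtain ⟨k, hk⟩ := hodd
  rw [hk, pow_succ, pow_mul, pow_two, h, one_pow, one_mul] at h1
  exact h1

/-- The characters attached to an orbit. -/
theorem exists_family (hdis : N ⊓ P = ⊥) (hsup : N ⊔ P = ⊤) (hodd : Odd (Nat.card N))
    (hP : IsPGroup 2 P) (z : G) (hzP : z ∈ P) (hz2 : z * z = 1) (hzc : ∀ c ∈ P, z * c = c * z)
    (hzN : ∀ n ∈ N, z * n * z⁻¹ = n⁻¹) (l : N →* ℂˣ) (hl : l ≠ 1) :
    ∃ (H : Subgroup P) (Φ : Sign H → IrrCharacter G), Function.Injective Φ ∧ 2 ∣ H.index ∧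
      ∀ μ, charDegree (Φ μ : G → ℂ) = H.index ∧
        (Nat.card G : ℂ)⁻¹ * ∑ᶠ g : G, (Φ μ : G → ℂ) (g * g) = 1 := by
  classical
  have hθ := isIrrCharacter_linear l
  set T := Cfsg.Lib.Char.inertia N (fun x : N => (l x : ℂ)) with hT
  have hNT : N ≤ T := hT ▸ le_inertia N hθ.isClassFunction
  have hdec : ∀ x : G, ∃ n : N, ∃ c : P, x = (n : G) * c := fun x => by
    obtain ⟨n, hn, c, hc, he⟩ :=
      Subgroup.mem_sup_of_normal_left.1 (hsup ▸ Subgroup.mem_top x : x ∈ N ⊔ P)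
    exact ⟨⟨n, hn⟩, ⟨c, hc⟩, he.symm⟩
  choose π κ hx using hdec
  have huniq : ∀ (x : G) (n : N) (c : P), x = (n : G) * c → π x = n ∧ κ x = c := by
    intro x n c he
    have h1 : (n : G) * c = (π x : G) * κ x := he.symm.trans (hx x)
    have h2 : (π x : G)⁻¹ * n = (κ x : G) * (c : G)⁻¹ := by
      rw [eq_mul_inv_iff_mul_eq, mul_assoc, h1, inv_mul_cancel_left]
    have h3 : (π x : G)⁻¹ * n ∈ N ⊓ P :=
      ⟨N.mul_mem (N.inv_mem (π x).2) n.2, h2 ▸ P.mul_mem (κ x).2 (P.inv_mem c.2)⟩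
    rw [hdis, Subgroup.mem_bot, inv_mul_eq_one] at h3
    refine ⟨Subtype.ext h3, Subtype.ext ?_⟩
    rw [← h3] at h1
    exact (mul_left_cancel h1).symm
  have hmul : ∀ x y : G, π (x * y) = π x * ⟨(κ x : G) * π y * (κ x : G)⁻¹, hN.conj_mem _ (π y).2 _⟩ ∧
      κ (x * y) = κ x * κ y := fun x y => huniq _ _ _ (by
    rw [Subgroup.coe_mul, Subgroup.coe_mul]
    nth_rw 1 [hx x, hx y]
    group)
  let H : Subgroup P := T.subgroupOf P
  have hκT : ∀ x, (κ x : G) ∈ T ↔ x ∈ T := fun x => by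
    conv_rhs => rw [hx x]
    exact (T.mul_mem_cancel_left (hNT (π x).2)).symm
  -- `[G : T] = [P : H]`
  have hidx : T.index = H.index := by
    symm
    refine Nat.card_congr (Equiv.ofBijective (fun a => Quotient.liftOn' a
      (fun c : P => ((c : G) : G ⧸ T)) fun a b hab => ?_) ⟨?_, ?_⟩)
    · rw [QuotientGroup.eq]
      exact (QuotientGroup.leftRel_apply.1 hab : _ ∈ H)
    · intro a b hab
      induction a using QuotientGroup.induction_on with
      | H a =>
      induction b using QuotientGroup.induction_on with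
      | H b =>
        have h : ((a : G) : G ⧸ T) = ((b : G) : G ⧸ T) := hab
        have h' := QuotientGroup.eq.1 h
        exact QuotientGroup.eq.2 h'
    · intro a
      induction a using QuotientGroup.induction_on with
      | H x =>
      refine ⟨(κ x : P ⧸ H), QuotientGroup.eq.2 ?_⟩
      have : (κ x : G)⁻¹ * x = (κ x : G)⁻¹ * (π x : G) * κ x := by
        conv_lhs => arg 2; rw [hx x]
        group
      rw [this]
      refine hNT ?_
      simpa using hN.conj_mem _ (π x).2 (κ x : G)⁻¹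
  have hinv : ∀ n : N, l ⟨z * n * z⁻¹, hN.conj_mem n n.2 z⟩ = (l n)⁻¹ := fun n => by
    rw [show (⟨z * n * z⁻¹, hN.conj_mem n n.2 z⟩ : N) = n⁻¹ from
      Subtype.ext (by simpa using hzN n n.2), map_inv]
  have hzT : z ∉ T := fun h => hl (MonoidHom.ext fun n =>
    eq_one_of_sq hodd l n (mul_eq_one_iff_eq_inv.2
      (((RealOver.mem_inertia_linear l z).1 h n).symm.trans (hinv n))))
  have hkey : ∀ (μ : Sign H), ∃ e : T →* ℂˣ, ∀ (x : G) (h : x ∈ T),
      e ⟨x, h⟩ = l (π x) * μ.1 ⟨κ x, (hκT x).2 h⟩ := fun μ => by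
    refine ⟨MonoidHom.mk' (fun x => l (π x) * μ.1 ⟨κ x, (hκT x).2 x.2⟩) fun x y => ?_,
      fun x h => rfl⟩
    obtain ⟨h1, h2⟩ := hmul x y
    show l (π ((x : G) * y)) * _ = _
    rw [show (⟨κ ((x * y : T) : G), (hκT _).2 (x * y).2⟩ : H) =
      ⟨κ x, (hκT x).2 x.2⟩ * ⟨κ y, (hκT y).2 y.2⟩ from Subtype.ext h2, h1, map_mul, map_mul,
      (RealOver.mem_inertia_linear l _).1 ((hκT x).2 x.2)]
    exact mul_mul_mul_comm _ _ _ _
  choose e he using hkey
  have hres : ∀ μ, (fun h : N => (fun y : T => (e μ y : ℂ)) ⟨h, hNT h.2⟩) =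
      fun x : N => (l x : ℂ) := fun μ => funext fun n => by
    show (e μ ⟨n, hNT n.2⟩ : ℂ) = _
    rw [he]
    obtain ⟨h1, h2⟩ := huniq (n : G) n 1 (by simp)
    rw [show (⟨κ (n : G), (hκT _).2 (hNT n.2)⟩ : H) = 1 from Subtype.ext h2, h1, map_one, mul_one]
  have hc1 : ∀ μ, classInner (fun h : N => (fun y : T => (e μ y : ℂ)) ⟨h, hNT h.2⟩)
      (fun x : N => (l x : ℂ)) ≠ 0 := fun μ => by
    rw [hres μ, classInner_irr_self hθ]; exact one_ne_zero
  refine ⟨H, fun μ => ⟨indFun T (fun y : T => (e μ y : ℂ)),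
    (clifford_induce N hθ hNT hT (isIrrCharacter_linear (e μ)) (hc1 μ)).1⟩, ?_, ?_, fun μ => ⟨?_, ?_⟩⟩
  · intro a b hab
    have h1 := clifford_injective N hθ hNT hT (isIrrCharacter_linear (e a))
      (isIrrCharacter_linear (e b)) (hc1 a) (hc1 b) (congrArg Subtype.val hab)
    refine Subtype.ext (MonoidHom.ext fun h => ?_)
    have hT' : ((h : P) : G) ∈ T := h.2
    have h2 := Units.ext (congrFun h1 ⟨_, hT'⟩)
    rw [he, he] at h2
    obtain ⟨h3, h4⟩ := huniq ((h : P) : G) 1 (h : P) (by simp)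
    have h5 := mul_left_cancel h2
    rwa [show (⟨κ ((h : P) : G), (hκT _).2 hT'⟩ : H) = h from Subtype.ext h4] at h5
  · obtain ⟨j, hj⟩ := IsPGroup.iff_card.1 hP
    haveI : Fact (Nat.Prime 2) := ⟨Nat.prime_two⟩
    obtain ⟨i, -, hi⟩ := (Nat.dvd_prime_pow Nat.prime_two).1 (hj ▸ H.index_dvd_card)
    rcases Nat.eq_zero_or_pos i with rfl | hi0
    · exfalso
      rw [pow_zero, Subgroup.index_eq_one] at hi
      exact hzT (show (⟨z, hzP⟩ : P) ∈ H from hi ▸ Subgroup.mem_top _)
    · exact hi ▸ dvd_pow_self 2 hi0.ne'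
  · have h := RealOdd.degree_eq ⟨_, (clifford_induce N hθ hNT hT (isIrrCharacter_linear (e μ)) (hc1 μ)).1⟩
    change indFun T _ 1 = _ at h
    rw [indFun_apply_one, map_one, Units.val_one, mul_one, hidx] at h
    exact_mod_cast h.symm
  · set f : T → ℂ := fun y => (e μ y : ℂ) with hf
    have hsq : ∀ n : N, ∀ c : P, ∀ hc : (c : G) * c ∈ T,
        ((n : G) * c) * ((n : G) * c) ∈ T ∧ ∀ h, f ⟨((n : G) * c) * ((n : G) * c), h⟩ =
          (l n : ℂ) * (l ⟨c * n * (c : G)⁻¹, hN.conj_mem n n.2 c⟩ : ℂ) *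
            (μ.1 ⟨c * c, hc⟩ : ℂ) := by
      intro n c hc
      obtain ⟨h1, h2⟩ := huniq (((n : G) * c) * ((n : G) * c))
        (n * ⟨c * n * (c : G)⁻¹, hN.conj_mem n n.2 c⟩) (c * c) (by
          simp only [Subgroup.coe_mul]; group)
      have hmem : ((n : G) * c) * ((n : G) * c) ∈ T := by
        rw [← hκT, h2]; exact hc
      refine ⟨hmem, fun h => ?_⟩
      show (e μ _ : ℂ) = _
      rw [he]
      simp only [h1, h2, map_mul, Units.val_mul]
    have hS : ∑ g : G, extendByZero T f (g * g) = (Nat.card N : ℂ) * Nat.card H := by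
      let eqv : N × P ≃ G := Equiv.ofBijective (fun a => (a.1 : G) * a.2)
        ⟨fun a b hab => Prod.ext ((huniq _ a.1 a.2 rfl).1.symm.trans (huniq _ b.1 b.2 hab).1)
          ((huniq _ a.1 a.2 rfl).2.symm.trans (huniq _ b.1 b.2 hab).2),
         fun x => ⟨(π x, κ x), (hx x).symm⟩⟩
      rw [← eqv.sum_comp, Fintype.sum_prod_type_right]
      have hc : ∀ c : P, ∑ n : N, extendByZero T f (eqv (n, c) * eqv (n, c)) =
          if (⟨z, hzP⟩ * c : P) ∈ H then (Nat.card N : ℂ) else 0 := by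
        intro c
        by_cases hcc : (c : G) * c ∈ T
        · let φ : N →* ℂ := (Units.coeHom ℂ).comp
            (MonoidHom.mk' (fun n => l n * l ⟨c * n * (c : G)⁻¹, hN.conj_mem n n.2 c⟩) fun a b => by
              rw [show (⟨c * (a * b : N) * (c : G)⁻¹, hN.conj_mem _ (a * b).2 c⟩ : N) =
                ⟨c * a * (c : G)⁻¹, hN.conj_mem a a.2 c⟩ * ⟨c * b * (c : G)⁻¹, hN.conj_mem b b.2 c⟩
                from Subtype.ext (by simp [mul_assoc]), map_mul, map_mul]
              exact mul_mul_mul_comm _ _ _ _)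
          have hiff : φ = 1 ↔ (⟨z, hzP⟩ * c : P) ∈ H := by
            rw [Subgroup.mem_subgroupOf, hT, RealOver.mem_inertia_linear, DFunLike.ext_iff]
            refine forall_congr' fun n => ?_
            rw [show (⟨((⟨z, hzP⟩ * c : P) : G) * n * ((⟨z, hzP⟩ * c : P) : G)⁻¹,
                hN.conj_mem n n.2 _⟩ : N) =
              ⟨z * (c * n * (c : G)⁻¹) * z⁻¹, hN.conj_mem _ (hN.conj_mem n n.2 c) z⟩ from
                Subtype.ext (by simp [mul_assoc]), hinv ⟨_, hN.conj_mem n n.2 c⟩]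
            show ((l n * l ⟨c * n * (c : G)⁻¹, hN.conj_mem n n.2 c⟩ : ℂˣ) : ℂ) = 1 ↔ _
            rw [Units.val_eq_one, mul_eq_one_iff_eq_inv, eq_comm]
          have hterm : ∀ n : N, extendByZero T f (eqv (n, c) * eqv (n, c)) =
              φ n * (μ.1 ⟨c * c, hcc⟩ : ℂ) := fun n => by
            obtain ⟨hm, hv⟩ := hsq n c hcc
            show extendByZero T f (((n : G) * c) * ((n : G) * c)) = _
            rw [extendByZero_of_mem _ _ hm, hv]
            rfl
          simp only [hterm, ← Finset.sum_mul, sum_hom_units φ]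
          by_cases h1 : φ = 1
          · rw [if_pos h1, if_pos (hiff.1 h1), ← Nat.card_eq_fintype_card]
            have hzc' : (⟨c * c, hcc⟩ : H) = ⟨⟨z, hzP⟩ * c, hiff.1 h1⟩ * ⟨⟨z, hzP⟩ * c, hiff.1 h1⟩ := by
              refine Subtype.ext (Subtype.ext ?_)
              show (c : G) * c = z * c * (z * c)
              rw [mul_assoc z, ← mul_assoc (c : G) z, ← hzc c c.2, ← mul_assoc, ← mul_assoc,
                hz2, one_mul]
            rw [hzc', map_mul, μ.2, Units.val_one, mul_one]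
          · rw [if_neg h1, if_neg fun h => h1 (hiff.2 h), Nat.cast_zero, zero_mul]
        · rw [if_neg, Finset.sum_eq_zero fun n _ => ?_]
          · refine extendByZero_of_notMem _ _ fun h => hcc ?_
            obtain ⟨-, h2⟩ := huniq (((n : G) * c) * ((n : G) * c))
              (n * ⟨c * n * (c : G)⁻¹, hN.conj_mem n n.2 c⟩) (c * c) (by
                simp only [Subgroup.coe_mul]; group)
            have h' := (hκT _).2 (show ((n : G) * c) * ((n : G) * c) ∈ T from h)
            rw [h2] at h'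
            exact h'
          · intro h
            apply hcc
            have h' : z * c * (z * c) ∈ T := T.mul_mem h h
            rwa [mul_assoc z, ← mul_assoc (c : G) z, ← hzc c c.2, ← mul_assoc, ← mul_assoc,
                hz2, one_mul] at h'
      simp only [hc]
      rw [Finset.sum_ite, Finset.sum_const_zero, add_zero, Finset.sum_const, nsmul_eq_mul,
        mul_comm]
      congr 2
      rw [← Fintype.card_subtype, ← Nat.card_eq_fintype_card]
      exact Nat.card_congr ((Equiv.mulLeft (⟨z, hzP⟩ : P)).subtypeEquiv fun c => Iff.rfl)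
    have hcard : Nat.card T = Nat.card N * Nat.card H := by
      refine Nat.eq_of_mul_eq_mul_left (Nat.pos_of_ne_zero (Subgroup.index_ne_zero_of_finite (H := T))) ?_
      rw [T.index_mul_card, mul_left_comm, hidx, H.index_mul_card, ← Nat.card_prod]
      exact Nat.card_congr (Equiv.ofBijective (fun x => (π x, κ x))
        ⟨fun a b hab => by
          simp only [Prod.ext_iff] at hab
          rw [hx a, hx b, hab.1, hab.2],
         fun a => ⟨(a.1 : G) * a.2, Prod.ext (huniq _ a.1 a.2 rfl).1 (huniq _ a.1 a.2 rfl).2⟩⟩)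
    rw [finsum_eq_sum_of_fintype]
    show _ * ∑ g : G, indFun T f (g * g) = 1
    simp only [indFun]
    have hin : ∀ x : G, ∑ g : G, extendByZero T f (x⁻¹ * (g * g) * x) =
        (Nat.card N : ℂ) * Nat.card H := fun x => by
      rw [← hS]
      refine Fintype.sum_equiv (MulAut.conj x⁻¹).toEquiv _ _ fun g => ?_
      congr 1
      simp [mul_assoc]
    rw [← Finset.mul_sum, Finset.sum_comm]
    simp only [hin]
    rw [Finset.sum_const, Finset.card_univ, nsmul_eq_mul, ← Nat.card_eq_fintype_card, hcard]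
    push_cast
    have h1 : (Nat.card G : ℂ) ≠ 0 := Nat.cast_ne_zero.2 Nat.card_pos.ne'
    have h2 : (Nat.card N : ℂ) ≠ 0 := Nat.cast_ne_zero.2 Nat.card_pos.ne'
    have h3 : (Nat.card H : ℂ) ≠ 0 := Nat.cast_ne_zero.2 Nat.card_pos.ne'
    field_simp

theorem exists_central_inverting (hdis : N ⊓ P = ⊥) (hsup : N ⊔ P = ⊤) (hP : IsPGroup 2 P)
    (hP1 : P ≠ ⊥) (hN1 : N ≠ ⊥) (hcomm : ∀ a ∈ N, ∀ b ∈ N, a * b = b * a)
    (hmin : ∀ M : Subgroup G, M.Normal → M ≠ ⊥ → N ≤ M) :
    ∃ z ∈ P, z * z = 1 ∧ (∀ c ∈ P, z * c = c * z) ∧ ∀ n ∈ N, z * n * z⁻¹ = n⁻¹ := by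
  haveI : Fact (Nat.Prime 2) := ⟨Nat.prime_two⟩
  haveI : Nontrivial P := (Subgroup.nontrivial_iff_ne_bot P).2 hP1
  haveI : Nontrivial (Subgroup.center P) := hP.center_nontrivial
  obtain ⟨j, hj⟩ := IsPGroup.iff_card.1 (hP.to_subgroup (Subgroup.center P))
  have hj0 : j ≠ 0 := fun h => by
    rw [h, pow_zero] at hj
    exact (Finite.one_lt_card (α := Subgroup.center P)).ne' hj
  obtain ⟨z, hz⟩ := exists_prime_orderOf_dvd_card' (G := Subgroup.center P) 2 (hj ▸ dvd_pow_self 2 hj0)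
  have hzz : z * z = 1 := by rw [← pow_two, ← hz, pow_orderOf_eq_one]
  set w : G := ((z : P) : G) with hw
  have hwP : w ∈ P := (z : P).2
  have hw2 : w * w = 1 := congrArg (fun a : Subgroup.center P => ((a : P) : G)) hzz
  have hwc : ∀ c ∈ P, w * c = c * w := fun c hc =>
    (congrArg Subtype.val (Subgroup.mem_center_iff.1 z.2 ⟨c, hc⟩)).symm
  have hw1 : w ≠ 1 := fun h => by
    have : z = 1 := Subtype.ext (Subtype.ext h)
    rw [this, orderOf_one] at hz
    norm_num at hz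
  refine ⟨w, hwP, hw2, hwc, ?_⟩
  have hdec : ∀ x : G, ∃ n ∈ N, ∃ c ∈ P, n * c = x := fun x =>
    Subgroup.mem_sup_of_normal_left.1 (hsup ▸ Subgroup.mem_top x : x ∈ N ⊔ P)
  have hwN : w ∉ Subgroup.centralizer (N : Set G) := by
    intro h
    let C := P ⊓ Subgroup.centralizer (N : Set G)
    have hC : C.Normal := ⟨fun y hy g => by
      obtain ⟨n, hn, c, hc, rfl⟩ := hdec g
      have hy' : c * y * c⁻¹ ∈ C := ⟨P.mul_mem (P.mul_mem hc hy.1) (P.inv_mem hc),
        (inferInstance : (Subgroup.centralizer (N : Set G)).Normal).conj_mem _ hy.2 c⟩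
      rw [show n * c * y * (n * c)⁻¹ = n * (c * y * c⁻¹) * n⁻¹ by group,
        Subgroup.mem_centralizer_iff.1 hy'.2 n hn, mul_inv_cancel_right]
      exact hy'⟩
    have hNC := hmin C hC fun hb => hw1 (Subgroup.mem_bot.1 (hb ▸ (⟨hwP, h⟩ : w ∈ C)))
    have : N = ⊥ := le_bot_iff.1 (hdis ▸ le_inf le_rfl (hNC.trans inf_le_left))
    exact hN1 this
  let D := N ⊓ Subgroup.centralizer ({w} : Set G)
  have hD : D.Normal := ⟨fun y hy g => by
    obtain ⟨n, hn, c, hc, rfl⟩ := hdec g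
    have hy' : c * y * c⁻¹ ∈ D := by
      refine ⟨hN.conj_mem _ hy.1 c, Subgroup.mem_centralizer_singleton_iff.2 ?_⟩
      have h1 := Subgroup.mem_centralizer_singleton_iff.1 hy.2
      have h2 := hwc c hc
      have h3 : c⁻¹ * w = w * c⁻¹ := ((show Commute w c from h2).inv_right).symm.eq
      calc c * y * c⁻¹ * w = c * (y * w) * c⁻¹ := by rw [mul_assoc, h3]; group
        _ = c * (w * y) * c⁻¹ := by rw [h1]
        _ = w * (c * y * c⁻¹) := by rw [← mul_assoc, ← h2]; group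
    rw [show n * c * y * (n * c)⁻¹ = n * (c * y * c⁻¹) * n⁻¹ by group,
      hcomm n hn _ hy'.1, mul_inv_cancel_right]
    exact hy'⟩
  have hDbot : D = ⊥ := by
    by_contra hne
    refine hwN (Subgroup.mem_centralizer_iff.2 fun y hy => ?_)
    exact Subgroup.mem_centralizer_singleton_iff.1 ((hmin D hD hne).trans inf_le_right hy)
  intro n hn
  have hm : n * (w * n * w⁻¹) ∈ D := by
    refine ⟨N.mul_mem hn (hN.conj_mem n hn w), Subgroup.mem_centralizer_singleton_iff.2 ?_⟩
    have hwi : w⁻¹ = w := inv_eq_of_mul_eq_one_right hw2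
    rw [hwi, hcomm n hn _ (by simpa [hwi] using hN.conj_mem n hn w)]
    simp only [mul_assoc, hw2, mul_one]
    rw [hcomm n hn (w * (n * w)) (by simpa [hwi, mul_assoc] using hN.conj_mem n hn w)]
    simp only [← mul_assoc, hw2, one_mul]
  rw [hDbot, Subgroup.mem_bot] at hm
  exact eq_inv_of_mul_eq_one_right hm

/-- Let G be a finite group that is the semidirect product of a normal elementary abelian subgroup N of odd order by a non-trivial 2-subgroup P, with N the unique minimal normal subgroup of G. Consider the strongly real irreducible complex characters of G (Frobenius–Schur indicator +1) whose degree is 1 or even. Then their average degree is at least 4/3: four times their number is at most three times the sum of their degrees. -/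
theorem result {G : Type*} [Group G] [Finite G] (N P : Subgroup G) (hN : N.Normal) (q : ℕ) [Fact q.Prime] (hq : q ≠ 2) (hNel : Cfsg.IsElementaryAbelian q N) (hP : IsPGroup 2 ↥P) (hP1 : P ≠ ⊥) (hdisj : N ⊓ P = ⊥) (hprod : N ⊔ P = ⊤) (hmin : N ≠ ⊥ ∧ ∀ M : Subgroup G, M.Normal → M ≠ ⊥ → N ≤ M) : 4 * Nat.card {χ : Cfsg.IrrCharacter G // (Cfsg.charDegree (χ : G → ℂ) = 1 ∨ 2 ∣ Cfsg.charDegree (χ : G → ℂ)) ∧ (Nat.card G : ℂ)⁻¹ * ∑ᶠ g : G, (χ : G → ℂ) (g * g) = 1} ≤ 3 * (∑ᶠ χ : {χ : Cfsg.IrrCharacter G // (Cfsg.charDegree (χ : G → ℂ) = 1 ∨ 2 ∣ Cfsg.charDegree (χ : G → ℂ)) ∧ (Nat.card G : ℂ)⁻¹ * ∑ᶠ g : G, (χ : G → ℂ) (g * g) = 1}, Cfsg.charDegree (χ.1 : G → ℂ)) := by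
  classical
  haveI := hN
  have hcomm : ∀ a ∈ N, ∀ b ∈ N, a * b = b * a := fun a ha b hb => by
    haveI := hNel.1
    exact congrArg Subtype.val (mul_comm' (⟨a, ha⟩ : N) ⟨b, hb⟩)
  have hodd : Odd (Nat.card N) := by
    obtain ⟨j, hj⟩ := (IsPGroup.iff_card (p := q)).1
      (fun x : N => ⟨1, Subtype.ext (by simpa using hNel.2 x x.2)⟩)
    exact hj ▸ ((Fact.out : q.Prime).odd_of_ne_two hq).pow
  obtain ⟨z, hzP, hz2, hzc, hzN⟩ := exists_central_inverting hdisj hprod hP hP1 hmin.1 hcomm hmin.2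
  obtain ⟨a, ha, ha1⟩ := N.bot_or_exists_ne_one.resolve_left hmin.1
  haveI : IsMulCommutative N := hNel.1
  obtain ⟨l, hl⟩ : ∃ l : N →* ℂˣ, l ≠ 1 := by
    by_contra hall
    push Not at hall
    have h1 : Nat.card (N →* ℂˣ) ≤ 1 := Finite.card_le_one_iff_subsingleton.2
      ⟨fun x y => (hall x).trans (hall y).symm⟩
    rw [Cfsg.Lib.Char.card_linear_eq_index, show commutator N = ⊥ from by
      rw [_root_.commutator_def, Subgroup.commutator_eq_bot_iff_le_centralizer]
      exact fun x _ => Subgroup.mem_centralizer_iff.2 fun y _ => mul_comm' y x,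
      Subgroup.index_bot] at h1
    exact hmin.1 (Subgroup.eq_bot_of_card_le N h1)
  obtain ⟨H, Φ, hinj, h2H, hΦ⟩ := exists_family hdisj hprod hodd hP z hzP hz2 hzc hzN l hl
  rw [Nat.card_eq_fintype_card, finsum_eq_sum_of_fintype]
  let X := {χ : Cfsg.IrrCharacter G // (Cfsg.charDegree (χ : G → ℂ) = 1 ∨
    2 ∣ Cfsg.charDegree (χ : G → ℂ)) ∧ (Nat.card G : ℂ)⁻¹ * ∑ᶠ g : G, (χ : G → ℂ) (g * g) = 1}
  let A : Finset X := Finset.univ.filter fun χ => Cfsg.charDegree (χ.1 : G → ℂ) = 1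
  let E₀ : Finset X := Finset.univ.image fun μ : Sign H =>
    (⟨Φ μ, Or.inr ((hΦ μ).1 ▸ h2H), (hΦ μ).2⟩ : X)
  have hk : 2 ≤ H.index := Nat.le_of_dvd (Nat.pos_of_ne_zero Subgroup.index_ne_zero_of_finite) h2H
  have hAcard : A.card ≤ H.index * Nat.card (Sign H) := by
    refine le_trans ?_ (card_sign_le H)
    rw [← Fintype.card_coe, ← Nat.card_eq_fintype_card]
    have hlin : ∀ χ : A, ∃ μ : G →* ℂˣ, (χ.1.1 : G → ℂ) = (fun g => (μ g : ℂ)) ∧
        ∀ g, μ g * μ g = 1 := fun χ => by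
      have h1 : Cfsg.charDegree (χ.1.1 : G → ℂ) = 1 := (Finset.mem_filter.1 χ.2).2
      obtain ⟨μ, hμ⟩ := exists_hom_of_degree_one χ.1.1.2.isCharacter (by
        rw [RealOdd.degree_eq, h1, Nat.cast_one])
      refine ⟨μ, hμ, RealOdd.sq_eq_one_of_real ?_⟩
      have hν := χ.1.2.2
      rcases indicator_cases χ.1.1.2 with ⟨-, h0⟩ | ⟨hr, -⟩
      · rw [finsum_eq_sum_of_fintype, h0, mul_zero] at hν
        exact absurd hν zero_ne_one
      · exact hμ ▸ RealOdd.isReal_iff_im.2 hr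
    choose μ hμ hμ2 using hlin
    refine Nat.card_le_card_of_injective
      (fun χ => (⟨(μ χ).comp P.subtype, fun x => hμ2 χ x⟩ : Sign P)) fun χ χ' h => ?_
    refine Subtype.ext (Subtype.ext (Subtype.ext ?_))
    rw [hμ χ, hμ χ']
    funext g
    obtain ⟨n, hn, c, hc, rfl⟩ :=
      Subgroup.mem_sup_of_normal_left.1 (hprod ▸ Subgroup.mem_top g : g ∈ N ⊔ P)
    have h1 : μ χ c = μ χ' c := DFunLike.congr_fun (congrArg Subtype.val h) ⟨c, hc⟩
    have h2 : ∀ χ : A, μ χ n = 1 := fun χ =>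
      eq_one_of_sq hodd ((μ χ).comp N.subtype) ⟨n, hn⟩ (hμ2 χ n)
    rw [map_mul, map_mul, h1, h2, h2]
  have hEcard : E₀.card = Nat.card (Sign H) := by
    rw [Finset.card_image_of_injective, Finset.card_univ, Nat.card_eq_fintype_card]
    exact fun a b h => hinj (congrArg Subtype.val h)
  have hpt : ∀ χ : X, 4 + (if χ ∈ E₀ then 3 * H.index - 4 else 0) ≤
      3 * Cfsg.charDegree (χ.1 : G → ℂ) + (if χ ∈ A then 1 else 0) := fun χ => by
    by_cases hA : Cfsg.charDegree (χ.1 : G → ℂ) = 1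
    · rw [if_neg, if_pos (show χ ∈ A from Finset.mem_filter.2 ⟨Finset.mem_univ _, hA⟩), hA]
      intro h
      obtain ⟨μ, -, rfl⟩ := Finset.mem_image.1 h
      have := (hΦ μ).1
      rw [show Cfsg.charDegree ((Φ μ) : G → ℂ) = 1 from hA] at this
      omega
    · rw [if_neg (show χ ∉ A from fun h => hA (Finset.mem_filter.1 h).2)]
      have h2 : 2 ∣ Cfsg.charDegree (χ.1 : G → ℂ) := χ.2.1.resolve_left hA
      have hpos : Cfsg.charDegree (χ.1 : G → ℂ) ≠ 0 := fun h => by
        have := χ.1.2.apply_one_ne_zero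
        rw [RealOdd.degree_eq, h, Nat.cast_zero] at this
        exact this rfl
      split_ifs with h
      · obtain ⟨μ, -, rfl⟩ := Finset.mem_image.1 h
        have := (hΦ μ).1
        show _ ≤ 3 * Cfsg.charDegree ((Φ μ) : G → ℂ) + 0
        omega
      · omega
  have hsum := Finset.sum_le_sum (s := (Finset.univ : Finset X)) fun χ _ => hpt χ
  simp only [Finset.sum_add_distrib, Finset.sum_const, Finset.sum_ite_mem, Finset.univ_inter,
    Finset.card_univ, smul_eq_mul, mul_one, ← Finset.mul_sum] at hsum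
  have h3 : H.index * Nat.card (Sign H) ≤ E₀.card * (3 * H.index - 4) := by
    rw [hEcard, mul_comm]
    exact Nat.mul_le_mul le_rfl (by omega)
  show 4 * Fintype.card X ≤ 3 * ∑ χ : X, Cfsg.charDegree (χ.1 : G → ℂ)
  rw [mul_comm 4]
  omega

end Cfsg.Agent.S4871
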