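import Cfsg.Statements.S4872
import Cfsg.Agent.Lib.Block.RealForm
import Cfsg.Agent.Lib.Block.RegInt
import Cfsg.Agent.Lib.Block.Defect
import Cfsg.Agent.Lib.Char.Ramification
import Mathlib.LinearAlgebra.Matrix.NonsingularInverse
import Mathlib.GroupTheory.Sylow

set_option autoImplicit false
open Cfsg Cfsg.Lib.Char Module Matrix
open scoped ComplexConjugate

namespace Cfsg.Agent.S4872

/-- A symplectic character contains the trivial character of a subgroup with even multiplicity. -/
theorem even_res_one {G : Type*} [Group G] [Fintype G] {χ : G → ℂ} (hχ : IsIrrCharacter G χ)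
    (hreal : ∀ g, (χ g).im = 0) (hs : ∑ s, χ (s * s) = -(Nat.card G : ℂ))
    (P : Subgroup G) [Fintype P] {m : ℕ}
    (hm : classInner (fun x : P => χ x) (fun _ => 1) = (m : ℂ)) : Even m := by
  classical
  obtain ⟨n, ρ, hρ, rfl⟩ := hχ
  obtain ⟨B, hB0, hinv, hform⟩ := Cfsg.Lib.Block.exists_invariant_form ρ hreal
  have hanti : Bᵀ = -B := by
    rw [hform B hinv, hs, mul_neg, inv_mul_cancel₀ card_cast_ne_zero, neg_one_smul]
  have hcomm : ∀ g : G, (repMat ρ g⁻¹)ᵀ * B = B * repMat ρ g := by
    intro g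
    calc (repMat ρ g⁻¹)ᵀ * B
        = (repMat ρ g⁻¹)ᵀ * ((repMat ρ g)ᵀ * B * repMat ρ g) := by rw [hinv]
      _ = ((repMat ρ g * repMat ρ g⁻¹)ᵀ * B) * repMat ρ g := by
          rw [Matrix.transpose_mul]; simp [Matrix.mul_assoc]
      _ = B * repMat ρ g := by
          rw [← repMat_mul, mul_inv_cancel, repMat_one, Matrix.transpose_one, one_mul]
  -- the form is nondegenerate
  have hdet : IsUnit B.det := by
    rw [isUnit_iff_ne_zero]
    intro h0
    obtain ⟨v, hv, hBv⟩ := Matrix.exists_mulVec_eq_zero_iff.mpr h0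
    let K : Submodule ℂ (Fin n → ℂ) := LinearMap.ker (Matrix.toLin' B)
    rcases ((isIrreducible_iff_submodule ρ).mp hρ).2 K (fun g x hx => by
      simp only [K, LinearMap.mem_ker, Matrix.toLin'_apply] at hx ⊢
      have hx' : ρ g x = repMat ρ g *ᵥ x := (LinearMap.toMatrix'_mulVec (ρ g) x).symm
      rw [hx', mulVec_mulVec, ← hcomm, ← mulVec_mulVec, hx, mulVec_zero]) with hK | hK
    · have : v ∈ K := by simpa [K] using hBv
      rw [hK, Submodule.mem_bot] at this
      exact hv this
    · apply hB0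
      have hlin : Matrix.toLin' B = 0 := LinearMap.ker_eq_top.mp hK
      simpa using hlin
  -- the projection on the fixed vectors
  set E : Matrix (Fin n) (Fin n) ℂ := (Nat.card P : ℂ)⁻¹ • ∑ x : P, repMat ρ (x : G) with hE
  have hPE : ∀ y : P, repMat ρ (y : G) * E = E := by
    intro y
    rw [hE, Matrix.mul_smul, Finset.mul_sum]
    congr 1
    exact Fintype.sum_equiv (Equiv.mulLeft y) _ _ fun x => by rw [← repMat_mul]; rfl
  have hEE : E * E = E := by
    nth_rw 1 [hE]
    rw [Matrix.smul_mul, Finset.sum_mul]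
    simp only [hPE, Finset.sum_const, Finset.card_univ, ← Nat.card_eq_fintype_card]
    rw [← Nat.cast_smul_eq_nsmul ℂ, smul_smul, inv_mul_cancel₀ card_cast_ne_zero, one_smul]
  have hEB : Eᵀ * B = B * E := by
    rw [hE, Matrix.transpose_smul, Matrix.transpose_sum, Matrix.smul_mul, Finset.sum_mul,
      Matrix.mul_smul, Finset.mul_sum]
    congr 1
    exact Fintype.sum_equiv (Equiv.inv P) _ _ fun x => by
      rw [← hcomm, Equiv.inv_apply, InvMemClass.coe_inv, inv_inv]
  -- coordinates of the fixed space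
  let W := LinearMap.range (Matrix.toLin' E)
  let b := Module.finBasis ℂ W
  set d := finrank ℂ W with hd
  let U := LinearMap.toMatrix' (W.subtype ∘ₗ b.equivFun.symm.toLinearMap)
  let L := LinearMap.toMatrix' (b.equivFun.toLinearMap ∘ₗ (Matrix.toLin' E).rangeRestrict)
  have hLU : L * U = 1 := by
    rw [← LinearMap.toMatrix'_comp, ← LinearMap.toMatrix'_id]
    congr 1
    refine LinearMap.ext fun c => ?_
    simp only [LinearMap.comp_apply, LinearEquiv.coe_coe, LinearMap.id_apply]
    have hfix : (Matrix.toLin' E).rangeRestrict (W.subtype (b.equivFun.symm c)) = b.equivFun.symm c := by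
      obtain ⟨u, hu⟩ := (b.equivFun.symm c).2
      apply Subtype.ext
      show Matrix.toLin' E ((b.equivFun.symm c : W) : Fin n → ℂ) = _
      rw [← hu, ← LinearMap.comp_apply, ← Matrix.toLin'_mul, hEE]
    rw [hfix, LinearEquiv.apply_symm_apply]
  have hUL : U * L = E := by
    rw [← LinearMap.toMatrix'_comp]
    apply Matrix.toLin'.injective
    rw [Matrix.toLin'_toMatrix']
    refine LinearMap.ext fun v => ?_
    simp only [LinearMap.comp_apply, LinearEquiv.coe_coe, LinearEquiv.symm_apply_apply]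
    rfl
  have hdm : d = m := by
    have h1 : E.trace = (d : ℂ) := by
      rw [← hUL, Matrix.trace_mul_comm, hLU, Matrix.trace_one, Fintype.card_fin]
    rw [hE, Matrix.trace_smul, Matrix.trace_sum] at h1
    rw [classInner_one_right] at hm
    simp only [← character_eq_trace, smul_eq_mul] at h1
    exact_mod_cast h1.symm.trans hm
  set Mat := Uᵀ * B * U with hMat
  have hMinv : Mat * (L * B⁻¹ * Lᵀ) = 1 := by
    calc Mat * (L * B⁻¹ * Lᵀ) = Uᵀ * B * (U * L) * B⁻¹ * Lᵀ := by
          simp only [hMat, Matrix.mul_assoc]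
      _ = Uᵀ * (Eᵀ * B) * B⁻¹ * Lᵀ := by rw [hUL, hEB]; simp only [Matrix.mul_assoc]
      _ = Uᵀ * Eᵀ * (B * B⁻¹) * Lᵀ := by simp only [Matrix.mul_assoc]
      _ = (L * (U * L) * U)ᵀ := by
          rw [Matrix.mul_nonsing_inv _ hdet, Matrix.mul_one, hUL]
          simp only [Matrix.transpose_mul, Matrix.mul_assoc]
      _ = 1 := by rw [← Matrix.mul_assoc L U L, hLU, Matrix.one_mul, hLU, Matrix.transpose_one]
  have hMdet : Mat.det ≠ 0 := by
    intro h
    have h2 := congrArg Matrix.det hMinv
    rw [Matrix.det_mul, h, zero_mul, Matrix.det_one] at h2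
    exact zero_ne_one h2
  have hManti : Matᵀ = (-1 : ℂ) • Mat := by
    rw [hMat, Matrix.transpose_mul, Matrix.transpose_mul, Matrix.transpose_transpose, hanti]
    simp [Matrix.mul_assoc]
  by_contra hodd
  apply hMdet
  have h2 := congrArg Matrix.det hManti
  rw [Matrix.det_transpose, Matrix.det_smul, Fintype.card_fin,
    (Nat.not_even_iff_odd.mp (hdm ▸ hodd : ¬ Even d)).neg_one_pow, neg_one_mul] at h2
  exact CharZero.eq_neg_self_iff.mp h2

/-- Let N be a normal subgroup of the finite group G with G/N a 2-group, and let φ be an irreducible complex character of N of 2-defect zero (the 2-part of #N divides φ(1)) whose complex conjugate is G-conjugate to φ. Then some irreducible character of G with Frobenius–Schur indicator +1 contains φ with multiplicity exactly one on restriction to N. -/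
theorem result {G : Type*} [Group G] [Finite G] (N : Subgroup G) [N.Normal] (h2 : IsPGroup 2 (G ⧸ N)) (φ : Cfsg.IrrCharacter ↥N) (hdef : 2 ^ (Nat.card ↥N).factorization 2 ∣ Cfsg.charDegree (φ : ↥N → ℂ)) (hconj : ∃ g : G, ∀ n n' : ↥N, (n' : G) = g * (n : G) * g⁻¹ → (φ : ↥N → ℂ) n' = (starRingEnd ℂ) ((φ : ↥N → ℂ) n)) : ∃ χ : Cfsg.IrrCharacter G, (Nat.card G : ℂ)⁻¹ * ∑ᶠ g : G, (χ : G → ℂ) (g * g) = 1 ∧ (Nat.card ↥N : ℂ)⁻¹ * ∑ᶠ n : ↥N, (χ : G → ℂ) n * (starRingEnd ℂ) ((φ : ↥N → ℂ) n) = 1 := by
  classical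
  haveI : Fact (Nat.Prime 2) := ⟨Nat.prime_two⟩
  haveI := Fintype.ofFinite G
  haveI := Fintype.ofFinite N
  set dφ := charDegree (φ : N → ℂ) with hdφ
  have hφ1 : (φ : N → ℂ) 1 = (dφ : ℂ) := φ.2.apply_one_eq_charDegree
  have hφpos : 0 < dφ := φ.2.charDegree_pos
  -- the character vanishes on 2-singular elements
  have hvan : ∀ n : N, 2 ∣ orderOf n → (φ : N → ℂ) n = 0 := by
    intro n hn
    obtain ⟨M, hM⟩ := Cfsg.Lib.Block.exists_isPModular Nat.prime_two
    have hI := Cfsg.Lib.Block.vInt_singleton hM φ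
      ((Nat.prime_two.pow_dvd_iff_le_factorization hφpos.ne').1 hdef)
    have h0 := Cfsg.Lib.Block.blockCoeff_eq_zero_of_dvd hM hI hn
    rw [Cfsg.blockCoeff, finsum_mem_singleton, mul_eq_zero, inv_eq_zero, mul_eq_zero] at h0
    rcases h0 with h0 | h0 | h0
    · exact absurd h0 card_cast_ne_zero
    · exact absurd h0 φ.2.apply_one_ne_zero
    · simpa using h0
  obtain ⟨P⟩ := (inferInstance : Nonempty (Sylow 2 G))
  haveI := Fintype.ofFinite ↥(P : Subgroup G)
  set ψ := indFun (P : Subgroup G) (fun _ => (1 : ℂ)) with hψdef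
  have hψ : IsCharacter G ψ := isCharacter_indFun _ isCharacter_one
  -- the value of the inner product
  obtain ⟨m, hm, hmodd⟩ : ∃ m : ℕ, classInner (fun n : N => ψ n) (φ : N → ℂ) = (m : ℂ) ∧ Odd m := by
    obtain ⟨j, hj⟩ := IsPGroup.iff_card.mp h2
    have hNP : Nat.card N * 2 ^ j = Nat.card G := by
      rw [← hj, ← Subgroup.index_eq_card, Subgroup.card_mul_index]
    have hfac : (Nat.card G).factorization 2 = (Nat.card N).factorization 2 + j := by
      rw [← hNP, Nat.factorization_mul Nat.card_pos.ne' (pow_ne_zero _ two_ne_zero),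
        Finsupp.add_apply, Nat.prime_two.factorization_pow, Finsupp.single_eq_same]
    obtain ⟨m, hm⟩ := hdef
    have hmodd : Odd m := by
      rw [← Nat.not_even_iff_odd, even_iff_two_dvd]
      intro hd
      have hdd : dφ ∣ Nat.card N := charDegree_dvd_card φ.2
      have h3 : 2 ^ ((Nat.card N).factorization 2 + 1) ∣ Nat.card N := by
        refine Dvd.dvd.trans ?_ hdd
        rw [hm, pow_succ]
        exact Nat.mul_dvd_mul_left _ hd
      exact Nat.pow_succ_factorization_not_dvd Nat.card_pos.ne' Nat.prime_two h3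
    refine ⟨m, ?_, hmodd⟩
    have hsum : ∑ n : N, ψ n * conj ((φ : N → ℂ) n)
        = (Nat.card (P : Subgroup G) : ℂ)⁻¹ * ((Nat.card G : ℂ) * dφ) := by
      simp only [hψdef, indFun, mul_assoc, ← Finset.mul_sum, Finset.sum_mul]
      congr 1
      rw [Finset.sum_comm]
      have hx : ∀ x : G, ∑ n : N, extendByZero (P : Subgroup G) (fun _ => (1 : ℂ))
          (x⁻¹ * ((n : G) * x)) * conj ((φ : N → ℂ) n) = (dφ : ℂ) := by
        intro x
        rw [Finset.sum_eq_single (1 : N)]
        · rw [OneMemClass.coe_one, one_mul, inv_mul_cancel,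
            extendByZero_of_mem _ _ (one_mem _), one_mul, hφ1, Complex.conj_natCast]
        · intro n _ hn
          by_cases hmem : x⁻¹ * ((n : G) * x) ∈ (P : Subgroup G)
          · rw [hvan n ?_, map_zero, mul_zero]
            obtain ⟨i, hi⟩ := (IsPGroup.iff_orderOf.mp P.isPGroup') ⟨_, hmem⟩
            rw [Subgroup.orderOf_mk, show x⁻¹ * ((n : G) * x) = MulAut.conj x⁻¹ (n : G) by
              simp [mul_assoc], MulEquiv.orderOf_eq, Subgroup.orderOf_coe] at hi
            rw [hi]
            exact dvd_pow_self 2 fun h0 => hn (orderOf_eq_one_iff.mp (by rw [hi, h0, pow_zero]))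
          · rw [extendByZero_of_notMem _ _ hmem, zero_mul]
        · intro h; exact absurd (Finset.mem_univ _) h
      simp only [hx, Finset.sum_const, Finset.card_univ, nsmul_eq_mul,
        ← Nat.card_eq_fintype_card]
    rw [classInner, hsum, P.card_eq_multiplicity, hfac, hm, ← hNP, pow_add]
    have hN0 : (Nat.card N : ℂ) ≠ 0 := card_cast_ne_zero
    push_cast
    field_simp
  -- parity
  choose a ha using fun χ : IrrCharacter G => hψ.exists_nat_classInner χ.2.isCharacter
  choose b hb using fun χ : IrrCharacter G =>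
    (χ.2.isCharacter.comp N.subtype).exists_nat_classInner φ.2.isCharacter
  have hexp : m = ∑ χ : IrrCharacter G, a χ * b χ := by
    have h : classInner (fun n : N => ψ n) (φ : N → ℂ)
        = ∑ χ : IrrCharacter G, (a χ : ℂ) * (b χ : ℂ) := by
      have hres : (fun n : N => ψ n) = ∑ χ : IrrCharacter G, (a χ : ℂ) • fun n : N => (χ : G → ℂ) n := by
        funext n
        conv_lhs => rw [eq_sum_classInner hψ.isClassFunction]
        simp only [Finset.sum_apply, Pi.smul_apply, ha]
      rw [hres, classInner_sum_left]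
      refine Finset.sum_congr rfl fun χ _ => ?_
      rw [classInner_smul_left]
      exact congrArg _ (hb χ)
    rw [hm] at h
    exact_mod_cast h
  obtain ⟨g₀, hg₀⟩ := hconj
  have hconj' : (fun n : N => conj ((φ : N → ℂ) n)) = conjTwist N (φ : N → ℂ) g₀ := funext fun n =>
    (hg₀ n ⟨g₀ * n * g₀⁻¹, ‹N.Normal›.conj_mem n n.2 g₀⟩ rfl).symm
  have hb' : ∀ χ : IrrCharacter G, b (irrConj χ) = b χ := by
    intro χ
    have h1 : classInner (fun n : N => ((irrConj χ : IrrCharacter G) : G → ℂ) n) (φ : N → ℂ)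
        = classInner (fun n : N => (χ : G → ℂ) n) (φ : N → ℂ) := by
      calc classInner (fun n : N => ((irrConj χ : IrrCharacter G) : G → ℂ) n) (φ : N → ℂ)
          = classInner (fun n : N => conj ((φ : N → ℂ) n)) (fun n : N => (χ : G → ℂ) n) := by
            simp only [classInner]
            congr 1
            refine Finset.sum_congr rfl fun n _ => ?_
            show conj ((χ : G → ℂ) n) * conj ((φ : N → ℂ) n) =
              conj ((φ : N → ℂ) n) * conj ((χ : G → ℂ) n)
            ring
        _ = conj (classInner (fun n : N => (χ : G → ℂ) n) (φ : N → ℂ)) := by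
            rw [classInner_conj_symm, hconj']
            conv_lhs => rw [← conjTwist_res N χ.2.isClassFunction g₀, classInner_conjTwist]
        _ = classInner (fun n : N => (χ : G → ℂ) n) (φ : N → ℂ) := by
            rw [show classInner (fun n : N => (χ : G → ℂ) n) (φ : N → ℂ) = (b χ : ℂ) from hb χ,
              Complex.conj_natCast]
    have h2 : ((b (irrConj χ) : ℕ) : ℂ) = ((b χ : ℕ) : ℂ) := (hb _).symm.trans (h1.trans (hb χ))
    exact_mod_cast h2
  have ha' : ∀ χ : IrrCharacter G, a (irrConj χ) = a χ := by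
    intro χ
    have h1 : classInner ψ ((irrConj χ : IrrCharacter G) : G → ℂ) = conj (classInner ψ (χ : G → ℂ)) := by
      rw [hψdef, classInner_indFun _ _ (irrConj χ).2.isClassFunction,
        classInner_indFun _ _ χ.2.isClassFunction]
      simp only [classInner, map_mul, map_sum, map_inv₀, Complex.conj_natCast, map_one, one_mul]
      exact congrArg _ (Finset.sum_congr rfl fun x _ => rfl)
    have h2 : ((a (irrConj χ) : ℕ) : ℂ) = ((a χ : ℕ) : ℂ) := by
      rw [← ha, h1, ha, Complex.conj_natCast]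
    exact_mod_cast h2
  obtain ⟨χ, hχreal, hab⟩ : ∃ χ : IrrCharacter G, irrConj χ = χ ∧ Odd (a χ * b χ) := by
    by_contra hcon
    push Not at hcon
    have h0 : ∑ χ : IrrCharacter G, ((a χ * b χ : ℕ) : ZMod 2) = 0 := by
      refine Finset.sum_involution (fun χ _ => irrConj χ) (fun χ _ => ?_) (fun χ _ hne h => hne ?_)
        (fun χ _ => Finset.mem_univ _)
        (fun χ _ => Subtype.ext (funext fun g => Complex.conj_conj _))
      · rw [ha', hb']; exact CharTwo.add_self_eq_zero _
      · exact ZMod.natCast_eq_zero_iff_even.mpr (Nat.not_odd_iff_even.mp (hcon χ h))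
    rw [← Nat.cast_sum, ← hexp, ZMod.natCast_eq_zero_iff_even] at h0
    exact (Nat.not_even_iff_odd.mpr hmodd) h0
  have hreal : ∀ g, ((χ : G → ℂ) g).im = 0 := (irrConj_eq_iff χ).mp hχreal
  rw [Nat.odd_mul] at hab
  refine ⟨χ, ?_, ?_⟩
  · rcases indicator_cases χ.2 with ⟨h, -⟩ | ⟨-, h | ⟨h, -⟩⟩
    · exact absurd hreal h
    · rw [finsum_eq_sum_of_fintype, h, inv_mul_cancel₀ card_cast_ne_zero]
    · exfalso
      refine (Nat.not_even_iff_odd.mpr hab.1) (even_res_one χ.2 hreal h (P : Subgroup G) ?_)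
      have h1 := ha χ
      rw [hψdef, classInner_indFun _ _ χ.2.isClassFunction, ← classInner_conj_symm] at h1
      have h2 := congrArg conj h1
      rwa [Complex.conj_conj, Complex.conj_natCast] at h2
  · have hbχ : classInner (fun n : N => (χ : G → ℂ) n) (φ : N → ℂ) = (b χ : ℂ) := hb χ
    have hc : classInner (fun n : N => (χ : G → ℂ) n) (φ : N → ℂ) ≠ 0 := by
      rw [hbχ, Nat.cast_ne_zero]; exact Nat.ne_of_odd_add (by simpa using hab.2)
    have hdeg := clifford_degree N χ.2 φ.2 hc
    rw [hbχ, hφ1, χ.2.apply_one_eq_charDegree, ← Nat.cast_mul, ← Nat.cast_mul, Nat.cast_inj] at hdeg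
    obtain ⟨-, hdvd⟩ := degree_ratio_dvd_index N χ.2 φ.2 hc χ.2.apply_one_eq_charDegree hφ1
    rw [hdeg, Nat.mul_div_cancel _ hφpos, Subgroup.index_eq_card N] at hdvd
    obtain ⟨j, hj⟩ := IsPGroup.iff_card.mp h2
    rw [hj] at hdvd
    obtain ⟨i, -, hi⟩ := (Nat.dvd_prime_pow Nat.prime_two).mp ((dvd_mul_right _ _).trans hdvd)
    have hb1 : b χ = 1 := by
      rcases Nat.eq_zero_or_pos i with h0 | h0
      · rw [hi, h0, pow_zero]
      · exact absurd (hi ▸ (Nat.even_pow.mpr ⟨even_two, h0.ne'⟩)) (Nat.not_even_iff_odd.mpr hab.2)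
    rw [finsum_eq_sum_of_fintype]
    show classInner (fun n : N => (χ : G → ℂ) n) (φ : N → ℂ) = 1
    rw [hbχ, hb1, Nat.cast_one]

end Cfsg.Agent.S4872
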