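import Cfsg.Statements.S4873
import Cfsg.Agent.S4866
import Cfsg.Agent.Lib.Char.Indicator

set_option autoImplicit false
open Cfsg Cfsg.Lib.Char
open scoped ComplexConjugate

namespace Cfsg.Agent.S4873

variable {G : Type*} [Group G]

theorem finsum_mul_conj_eq [Fintype G] (N : Subgroup G) [Fintype N] (χ : G → ℂ) (φ : N → ℂ) :
    ∑ᶠ n : ↥N, χ n * conj (φ n) = (Nat.card N : ℂ) * classInner (fun n : N => χ n) φ := by
  rw [finsum_eq_sum_of_fintype, classInner, ← mul_assoc, mul_inv_cancel₀ card_cast_ne_zero, one_mul]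

/-- The indicator sum over the characters above `φ`. -/
theorem indicator_sum [Fintype G] (N : Subgroup G) [N.Normal] [Fintype N] (hodd : Odd N.index)
    (φ : IrrCharacter ↥N) :
    ∑ χ : IrrCharacter G, classInner (fun n : N => (χ : G → ℂ) n) (φ : N → ℂ) *
        ∑ g : G, (χ : G → ℂ) (g * g)
      = (N.index : ℂ) * ∑ n : N, (φ : N → ℂ) (n * n) := by
  classical
  set θ := indFun N (φ : N → ℂ) with hθdef
  have hθ : IsCharacter G θ := isCharacter_indFun N φ.2.isCharacter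
  have hcoef : ∀ χ : IrrCharacter G,
      classInner (fun n : N => (χ : G → ℂ) n) (φ : N → ℂ) = classInner θ (χ : G → ℂ) := by
    intro χ
    obtain ⟨m, hm⟩ := hθ.exists_nat_classInner χ.2.isCharacter
    rw [← classInner_conj_symm, ← classInner_indFun N _ χ.2.isClassFunction, ← hθdef, hm,
      Complex.conj_natCast]
  simp only [hcoef, Finset.mul_sum]
  rw [Finset.sum_comm]
  have hexp : ∀ g : G, ∑ χ : IrrCharacter G, classInner θ (χ : G → ℂ) * (χ : G → ℂ) (g * g)
      = θ (g * g) := by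
    intro g
    conv_rhs => rw [eq_sum_classInner hθ.isClassFunction]
    simp only [Finset.sum_apply, Pi.smul_apply, smul_eq_mul]
  simp only [hexp]
  have hin : ∀ g : G, g * g ∈ N → g ∈ N := by
    intro g hg
    obtain ⟨m, hm⟩ := hodd
    have h1 := Subgroup.pow_index_mem N g
    rw [hm, pow_succ, pow_mul, pow_two] at h1
    exact (Subgroup.mul_mem_cancel_left N (N.pow_mem hg m)).mp h1
  rw [← Finset.sum_filter_add_sum_filter_not Finset.univ (fun g => g ∈ N),
    Finset.sum_eq_zero (s := Finset.univ.filter fun g => g ∉ N) (fun g hg => by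
      rw [hθdef, indFun_normal_of_notMem N _ fun h => (Finset.mem_filter.mp hg).2 (hin g h)]),
    add_zero, Finset.sum_subtype (p := fun g => g ∈ N) (F := inferInstanceAs (Fintype N)) _ (fun g => by simp) fun g => θ (g * g)]
  simp only [hθdef, indFun]
  rw [← Finset.mul_sum, Finset.sum_comm]
  have hx : ∀ x : G, ∑ n : N, extendByZero N (φ : N → ℂ) (x⁻¹ * ((n : G) * n) * x)
      = ∑ n : N, (φ : N → ℂ) (n * n) := by
    intro x
    refine Fintype.sum_equiv ((MulAut.conjNormal (H := N) x⁻¹).toEquiv) _ _ fun n => ?_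
    rw [← extendByZero_coe N (φ : N → ℂ)]
    congr 1
    simp [mul_assoc]
  simp only [hx, Finset.sum_const, Finset.card_univ, nsmul_eq_mul, ← Nat.card_eq_fintype_card]
  rw [← mul_assoc, ← Finset.mul_sum]
  congr 1
  rw [← Subgroup.card_mul_index N, Nat.cast_mul, inv_mul_cancel_left₀ card_cast_ne_zero]

/-- Every real character of `N` lies under exactly one real character of `G`. -/
theorem existsUnique_real [Finite G] (N : Subgroup G) [N.Normal] (hodd : Odd N.index) :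
    ∀ φ : IrrCharacter ↥N, (∀ n : N, ((φ : N → ℂ) n).im = 0) →
    ∃! χ : IrrCharacter G, (∀ g : G, ((χ : G → ℂ) g).im = 0) ∧
      (∑ᶠ n : ↥N, (χ : G → ℂ) n * conj ((φ : ↥N → ℂ) n)) ≠ 0 := by
  classical
  haveI := Fintype.ofFinite G
  let X := {φ : IrrCharacter ↥N // ∀ n : N, ((φ : N → ℂ) n).im = 0}
  let r : X → X → Prop := fun θ η => ∃ g : G, ∀ k k' : ↥N, (k' : G) = g * (k : G) * g⁻¹ →
    (η.1 : ↥N → ℂ) k' = (θ.1 : ↥N → ℂ) k
  let Y := {χ : IrrCharacter G // ∀ g : G, ((χ : G → ℂ) g).im = 0}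
  let over' : IrrCharacter G → X → Prop := fun χ φ =>
    classInner (fun n : N => (χ : G → ℂ) n) (φ.1 : N → ℂ) ≠ 0
  have hex : ∀ φ : X, ∃ χ : Y, over' χ.1 φ := by
    intro φ
    have hne : ∑ n : N, (φ.1 : N → ℂ) (n * n) ≠ 0 := by
      rcases indicator_cases φ.1.2 with ⟨h, -⟩ | ⟨-, h | ⟨h, -⟩⟩
      · exact absurd φ.2 h
      · rw [h]; exact card_cast_ne_zero
      · rw [h, neg_ne_zero]; exact card_cast_ne_zero
    have hsum := indicator_sum N hodd φ.1
    obtain ⟨χ, -, hχ⟩ : ∃ χ ∈ (Finset.univ : Finset (IrrCharacter G)),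
        classInner (fun n : N => (χ : G → ℂ) n) (φ.1 : N → ℂ) * ∑ g : G, (χ : G → ℂ) (g * g) ≠ 0 := by
      apply Finset.exists_ne_zero_of_sum_ne_zero
      rw [hsum]
      exact mul_ne_zero (Nat.cast_ne_zero.mpr Subgroup.index_ne_zero_of_finite) hne
    refine ⟨⟨χ, ?_⟩, left_ne_zero_of_mul hχ⟩
    rcases indicator_cases χ.2 with ⟨-, h⟩ | ⟨h, -⟩
    · exact absurd h (right_ne_zero_of_mul hχ)
    · exact h
  choose F hF using hex
  -- conjugacy of two characters below the same character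
  have hrel : ∀ φ φ' : X, ∀ χ : IrrCharacter G, over' χ φ → over' χ φ' → r φ φ' := by
    intro φ φ' χ h h'
    obtain ⟨g, hg⟩ := (mem_twistOrbit N).mp
      (mem_twistOrbit_of_constituent N χ.2 φ'.1.2 φ.1.2 h' h)
    refine ⟨g, fun k k' hk => ?_⟩
    rw [← hg, conjTwist_apply]
    exact congrArg _ (Subtype.ext hk)
  have hsymm : ∀ φ φ' : X, r φ φ' → r φ' φ := by
    rintro φ φ' ⟨g, hg⟩
    refine ⟨g⁻¹, fun k k' hk => (hg k' k ?_).symm⟩
    rw [hk]; group
  let Q := Quot r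
  let Φ : Q → Y := fun q => F q.out
  have hinj : Function.Injective Φ := by
    intro a b hab
    rw [← Quot.out_eq a, ← Quot.out_eq b]
    refine Quot.sound (hrel _ _ (F a.out).1 (hF a.out) ?_)
    rw [show F a.out = F b.out from hab]
    exact hF b.out
  have hcard : Nat.card Y = Nat.card Q := by
    rw [show Nat.card Q = _ from Cfsg.Agent.S4866.result N hodd, card_real_irr]
    let T := {x : ↥N // IsConj x x⁻¹}
    let s : T → T → Prop := fun x y => ∃ g : G, (y.1 : G) = g * x.1 * g⁻¹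
    let ψ : Quot s → {C : ConjClasses G // ∀ g : G, ConjClasses.mk g = C → IsConj g g⁻¹} :=
      Quot.lift (fun x => ⟨ConjClasses.mk (x.1 : G), fun g hg => by
          obtain ⟨c, hc⟩ := isConj_iff.mp (ConjClasses.mk_eq_mk_iff_isConj.mp hg)
          obtain ⟨d, hd⟩ := isConj_iff.mp x.2
          refine isConj_iff.mpr ⟨c⁻¹ * d * c, ?_⟩
          have hd' : (d : G) * (x.1 : G) * (d : G)⁻¹ = (x.1 : G)⁻¹ := congrArg Subtype.val hd
          rw [← hc] at hd'
          calc c⁻¹ * d * c * g * (c⁻¹ * d * c)⁻¹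
              = c⁻¹ * ((d : G) * (c * g * c⁻¹) * (d : G)⁻¹) * c := by group
            _ = g⁻¹ := by rw [hd']; group⟩)
        (by
          rintro x y ⟨g, hg⟩
          exact Subtype.ext (ConjClasses.mk_eq_mk_iff_isConj.mpr (isConj_iff.mpr ⟨g, hg.symm⟩)))
    refine (Nat.card_congr (Equiv.ofBijective ψ ⟨?_, ?_⟩)).symm
    · rintro ⟨x⟩ ⟨y⟩ h
      obtain ⟨c, hc⟩ := isConj_iff.mp (ConjClasses.mk_eq_mk_iff_isConj.mp (congrArg Subtype.val h))
      exact Quot.sound ⟨c, hc.symm⟩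
    · rintro ⟨C, hC⟩
      obtain ⟨g, rfl⟩ := C.exists_rep
      obtain ⟨c, hc⟩ := isConj_iff.mp (hC g rfl)
      -- real elements lie in `N`
      have hgN : g ∈ N := by
        rw [← QuotientGroup.eq_one_iff]
        refine eq_one_of_isConj_inv (by rwa [← Subgroup.index_eq_card]) (isConj_iff.mpr ⟨(c : G ⧸ N), ?_⟩)
        rw [← QuotientGroup.mk_inv, ← QuotientGroup.mk_mul, ← QuotientGroup.mk_mul, hc,
          QuotientGroup.mk_inv]
      -- the inverting element may be taken in `N`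
      have hpow : ∀ m : ℕ, c ^ (2 * m + 1) * g * (c ^ (2 * m + 1))⁻¹ = g⁻¹ := by
        intro m
        induction m with
        | zero => simpa using hc
        | succ m ih =>
          have h2 : c * c * g * (c * c)⁻¹ = g := by
            calc c * c * g * (c * c)⁻¹ = c * (c * g * c⁻¹) * c⁻¹ := by group
              _ = c * g⁻¹ * c⁻¹ := by rw [hc]
              _ = (c * g * c⁻¹)⁻¹ := by group
              _ = g := by rw [hc, inv_inv]
          calc c ^ (2 * (m + 1) + 1) * g * (c ^ (2 * (m + 1) + 1))⁻¹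
              = c ^ (2 * m + 1) * (c * c * g * (c * c)⁻¹) * (c ^ (2 * m + 1))⁻¹ := by group
            _ = g⁻¹ := by rw [h2, ih]
      obtain ⟨m, hm⟩ := hodd
      have hcN : c ^ (2 * m + 1) ∈ N := hm ▸ Subgroup.pow_index_mem N c
      exact ⟨Quot.mk s ⟨⟨g, hgN⟩, isConj_iff.mpr ⟨⟨_, hcN⟩, Subtype.ext (hpow m)⟩⟩, rfl⟩
  have hsurj : Function.Surjective Φ :=
    ((Nat.bijective_iff_injective_and_card Φ).mpr ⟨hinj, hcard.symm⟩).2
  intro φ hφ
  refine ⟨(F ⟨φ, hφ⟩).1, ⟨(F ⟨φ, hφ⟩).2, ?_⟩, ?_⟩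
  · rw [finsum_mul_conj_eq]
    exact mul_ne_zero card_cast_ne_zero (hF ⟨φ, hφ⟩)
  · rintro χ ⟨hreal, hne⟩
    rw [finsum_mul_conj_eq] at hne
    have hov : over' χ ⟨φ, hφ⟩ := right_ne_zero_of_mul hne
    -- both characters come from the class of `φ`
    have key : ∀ χ' : Y, over' χ'.1 ⟨φ, hφ⟩ → χ' = Φ (Quot.mk r ⟨φ, hφ⟩) := by
      intro χ' h'
      obtain ⟨q, hq⟩ := hsurj χ'
      have h1 : r q.out ⟨φ, hφ⟩ := hrel _ _ χ'.1 (by rw [← hq]; exact hF q.out) h'
      rw [← hq, ← Quot.out_eq q, Quot.sound h1]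
    have e1 := key ⟨χ, hreal⟩ hov
    have e2 := key (F ⟨φ, hφ⟩) (hF ⟨φ, hφ⟩)
    exact congrArg Subtype.val (e1.trans e2.symm)

/-- Let N be a normal subgroup of odd index in the finite group G. Then every irreducible complex character of N with Frobenius–Schur indicator +1 lies under exactly one irreducible character of G with Frobenius–Schur indicator +1. -/
theorem result {G : Type*} [Group G] [Finite G] (N : Subgroup G) [N.Normal] (hodd : Odd N.index) (φ : Cfsg.IrrCharacter ↥N) (hφ : (Nat.card ↥N : ℂ)⁻¹ * ∑ᶠ g : ↥N, (φ : ↥N → ℂ) (g * g) = 1) : ∃! χ : Cfsg.IrrCharacter G, (Nat.card G : ℂ)⁻¹ * ∑ᶠ g : G, (χ : G → ℂ) (g * g) = 1 ∧ (∑ᶠ n : ↥N, (χ : G → ℂ) n * (starRingEnd ℂ) ((φ : ↥N → ℂ) n)) ≠ 0 := by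
  classical
  haveI := Fintype.ofFinite G
  rw [finsum_eq_sum_of_fintype, inv_mul_eq_one₀ card_cast_ne_zero] at hφ
  have hone : ∀ χ : IrrCharacter G, (Nat.card G : ℂ)⁻¹ * ∑ᶠ g : G, (χ : G → ℂ) (g * g) = 1 →
      ∀ g : G, ((χ : G → ℂ) g).im = 0 := by
    intro χ h
    rcases indicator_cases χ.2 with ⟨-, h0⟩ | ⟨h', -⟩
    · rw [finsum_eq_sum_of_fintype, h0, mul_zero] at h
      exact absurd h zero_ne_one
    · exact h'
  have hreal : ∀ n : N, ((φ : N → ℂ) n).im = 0 := by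
    rcases indicator_cases φ.2 with ⟨-, h⟩ | ⟨h, -⟩
    · exact absurd (hφ.trans h) card_cast_ne_zero
    · exact h
  obtain ⟨χ, ⟨hχr, hχo⟩, huniq⟩ := existsUnique_real N hodd φ hreal
  refine ⟨χ, ⟨?_, hχo⟩, fun ψ hψ => huniq ψ ⟨hone ψ hψ.1, hψ.2⟩⟩
  have hsum := indicator_sum N hodd φ
  rw [Finset.sum_eq_single χ (fun ψ _ hne => ?_) (fun h => absurd (Finset.mem_univ _) h), ← hφ,
    mul_comm (N.index : ℂ), ← Nat.cast_mul, Subgroup.card_mul_index] at hsum
  · obtain ⟨m, hm⟩ :=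
      (χ.2.isCharacter.comp N.subtype).exists_nat_classInner φ.2.isCharacter
    rw [finsum_eq_sum_of_fintype, inv_mul_eq_one₀ card_cast_ne_zero]
    have hm' : classInner (fun n : N => (χ : G → ℂ) n) (φ : N → ℂ) = (m : ℂ) := hm
    rcases indicator_cases χ.2 with ⟨h, -⟩ | ⟨-, h | ⟨h, -⟩⟩
    · exact absurd hχr h
    · exact h.symm
    · exfalso
      rw [hm', h] at hsum
      have hG : (Nat.card G : ℂ) ≠ 0 := card_cast_ne_zero
      have h2 : ((m : ℂ) + 1) * Nat.card G = 0 := by linear_combination -hsum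
      have h3 := (mul_eq_zero.mp h2).resolve_right hG
      exact absurd h3 (by exact_mod_cast Nat.succ_ne_zero m)
  · by_cases h0 : classInner (fun n : N => (ψ : G → ℂ) n) (φ : N → ℂ) = 0
    · rw [h0, zero_mul]
    rcases indicator_cases ψ.2 with ⟨-, h⟩ | ⟨h, -⟩
    · rw [h, mul_zero]
    · refine absurd (huniq ψ ⟨h, ?_⟩) hne
      rw [finsum_mul_conj_eq]
      exact mul_ne_zero card_cast_ne_zero h0

end Cfsg.Agent.S4873
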