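import Cfsg.Statements.S4878
import Cfsg.Agent.Lib.Linear.CoprimeTrans.CoreFusion
-- import your own Cfsg.Agent.* helpers here

set_option autoImplicit false
open Cfsg Cfsg.Lib.Linear.CoprimeTrans

namespace Cfsg.Agent.S4878

/-- Let p be a prime and G a finite p-solvable group of order divisible by p in which all non-identity p-elements are conjugate. Then G has at least p conjugacy classes of p-regular elements; or G has exactly p − 1 of them and is isomorphic to the one-dimensional affine group over the field with p elements; or p = 11, G has exactly 9 of them, G has order 121·120 and G is a Frobenius group whose complement is isomorphic to SL(2,5). -/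
theorem result {G : Type*} [Group G] [Finite G] (p : ℕ) [Fact p.Prime] (hsolv : Cfsg.IsPSolvable p G) (hdiv : p ∣ Nat.card G) (hconj : ∀ x y : G, x ≠ 1 → y ≠ 1 → (∃ k : ℕ, orderOf x = p ^ k) → (∃ k : ℕ, orderOf y = p ^ k) → IsConj x y) : p ≤ Nat.card {c : ConjClasses G // ∃ g : G, ConjClasses.mk g = c ∧ ¬ p ∣ orderOf g} ∨ (Nat.card {c : ConjClasses G // ∃ g : G, ConjClasses.mk g = c ∧ ¬ p ∣ orderOf g} = p - 1 ∧ Nonempty (G ≃* ↥(Cfsg.affineGroup (ZMod p)))) ∨ (p = 11 ∧ Nat.card {c : ConjClasses G // ∃ g : G, ConjClasses.mk g = c ∧ ¬ p ∣ orderOf g} = 9 ∧ (Nat.card G = 121 * 120 ∧ ∃ H : Subgroup G, Cfsg.IsFrobeniusComplement H ∧ Nonempty (↥H ≃* Matrix.SpecialLinearGroup (Fin 2) (ZMod 5)))) := by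
  classical
  show p ≤ Nat.card (RegClass p G) ∨ (Nat.card (RegClass p G) = p - 1 ∧ _) ∨ (p = 11 ∧ Nat.card (RegClass p G) = 9 ∧ _)
  have hone : OnePClass p G := hconj
  by_cases hK : Cfsg.pPrimeCore p G = ⊥
  · obtain ⟨V, H, hVn, hc, hne, hexp, hcopH, hself, htrans⟩ := setup hsolv hdiv hone hK
    haveI := hVn
    have hlow := card_le_reg (p := p) hc hcopH
    rcases complement_cases hc hne hexp hcopH hself htrans with
      h | ⟨hV, hH, hk, hfree⟩ | ⟨h11, hV, hH, hk, hfree, -, -, hiso⟩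
    · exact Or.inl (h.trans hlow)
    · refine Or.inr (Or.inl ⟨le_antisymm ((reg_le_of_free hc hexp hfree).trans hk.le) (hk ▸ hlow),
        iso_affine hc hV hH hfree hself⟩)
    · refine Or.inr (Or.inr ⟨h11, le_antisymm ((reg_le_of_free hc hexp hfree).trans hk.le) (hk ▸ hlow), ?_,
        H, frobenius_of_free hc hne (fun e => ?_) hfree, hiso⟩)
      · rw [← hc.card_mul_card, hV, hH, h11]; norm_num
      · rw [e, Subgroup.card_bot] at hH; omega
  · have hcore : ¬ p ∣ Nat.card (Cfsg.pPrimeCore p G) :=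
      (Fact.out : p.Prime).coprime_iff_not_dvd.1 (Cfsg.Lib.Core.pPrimeCore_coprime p G).symm
    have hdivQ : p ∣ Nat.card (G ⧸ Cfsg.pPrimeCore p G) := by
      have := hdiv
      rw [Subgroup.card_eq_card_quotient_mul_card_subgroup (Cfsg.pPrimeCore p G)] at this
      exact ((Fact.out : p.Prime).dvd_mul.1 this).resolve_right hcore
    obtain ⟨V, H, hVn, hc, hne, hexp, hcopH, hself, htrans⟩ :=
      setup (Cfsg.Lib.Core.isPSolvable_quotient hsolv _) hdivQ (onePClass_quotient hone _)
        Cfsg.Lib.Core.pPrimeCore_quotient_eq_bot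
    haveI := hVn
    obtain ⟨hlow, heq⟩ := count_lifts hcore hK hc hcopH
    left
    rcases complement_cases hc hne hexp hcopH hself htrans with
      h | ⟨-, -, hk, -⟩ | ⟨h11, hV, hH, hk, hfree, hns, huniq, -⟩
    · omega
    · omega
    by_contra hlt
    obtain ⟨hA, hB⟩ := heq (by omega)
    obtain ⟨hKab, r, hr, hKr, hKexp⟩ := elementary_of_one_class hK hA
    have hVab : ∀ a ∈ V, ∀ b ∈ V, a * b = b * a := fun a ha b hb =>
      ((hself.symm ▸ ha : a ∈ Subgroup.centralizer (V : Set (G ⧸ Cfsg.pPrimeCore p G))) b hb).symm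
    have hcent := centralizes_core hone hcore hA hKab hc hV hexp hVab hcopH
    obtain ⟨ret, hret, hretV, hretm⟩ := exists_retraction hc
    set π := (QuotientGroup.mk' (Cfsg.pPrimeCore p G)).subgroupComap H with hπdef
    have hker : ∀ x : ↥(H.comap (QuotientGroup.mk' (Cfsg.pPrimeCore p G))),
        x ∈ π.ker ↔ (x : G) ∈ Cfsg.pPrimeCore p G := fun x => by
      rw [MonoidHom.mem_ker, Subtype.ext_iff]
      exact QuotientGroup.eq_one_iff (x : G)
    have hKle : ∀ k ∈ Cfsg.pPrimeCore p G, k ∈ H.comap (QuotientGroup.mk' (Cfsg.pPrimeCore p G)) := fun k hk => by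
      rw [Subgroup.mem_comap, show QuotientGroup.mk' (Cfsg.pPrimeCore p G) k = 1 from (QuotientGroup.eq_one_iff k).2 hk]
      exact H.one_mem
    refine no_coset_fusion π
      (fun h => by
        obtain ⟨g, hg⟩ := QuotientGroup.mk'_surjective (Cfsg.pPrimeCore p G) (h : G ⧸ Cfsg.pPrimeCore p G)
        exact ⟨⟨g, by rw [Subgroup.mem_comap, hg]; exact h.2⟩, Subtype.ext hg⟩)
      ?_ (fun a ha b hb => Subtype.ext (hKab _ ((hker a).1 ha) _ ((hker b).1 hb))) hr
      (fun a => by
        obtain ⟨j, hj⟩ := hKr ⟨(a : G), (hker a).1 a.2⟩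
        exact ⟨j, Subtype.ext (Subtype.ext (by simpa using congrArg Subtype.val hj))⟩)
      (fun a ha => Subtype.ext (by simpa using hKexp _ ((hker a).1 ha))) ?_ ?_ hH hns huniq ?_
    · obtain ⟨k, hk, hk1⟩ := (Cfsg.pPrimeCore p G).bot_or_exists_ne_one.resolve_left hK
      intro e
      have h := (hker ⟨k, hKle k hk⟩).2 hk
      rw [e, Subgroup.mem_bot] at h
      exact hk1 (congrArg Subtype.val h)
    · intro a ha b hb ha1 hb1
      obtain ⟨g, hg⟩ := isConj_iff.1 (hA _ ((hker a).1 ha) _ ((hker b).1 hb)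
        (fun e => ha1 (Subtype.ext e)) (fun e => hb1 (Subtype.ext e)))
      obtain ⟨m, hm⟩ := QuotientGroup.mk'_surjective (Cfsg.pPrimeCore p G)
        (ret (QuotientGroup.mk' (Cfsg.pPrimeCore p G) g) : G ⧸ Cfsg.pPrimeCore p G)
      have hmM : m ∈ H.comap (QuotientGroup.mk' (Cfsg.pPrimeCore p G)) := by
        rw [Subgroup.mem_comap, hm]; exact (ret _).2
      refine isConj_iff.2 ⟨⟨m, hmM⟩, Subtype.ext ?_⟩
      have hu := hcent (g * m⁻¹) (by rw [map_mul, map_inv, hm]; exact hretm _) (m * (a : G) * m⁻¹)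
        ((inferInstance : (Cfsg.pPrimeCore p G).Normal).conj_mem _ ((hker a).1 ha) m)
      show m * (a : G) * m⁻¹ = b
      rw [← hg]
      calc m * (a : G) * m⁻¹ = m * (a : G) * m⁻¹ * (g * m⁻¹) * (g * m⁻¹)⁻¹ := (mul_inv_cancel_right _ _).symm
        _ = g * m⁻¹ * (m * (a : G) * m⁻¹) * (g * m⁻¹)⁻¹ := by rw [hu]
        _ = g * (a : G) * g⁻¹ := by group
    · intro x y hx1 hxy
      have hxy' : QuotientGroup.mk' (Cfsg.pPrimeCore p G) (x : G) = QuotientGroup.mk' (Cfsg.pPrimeCore p G) (y : G) :=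
        congrArg Subtype.val hxy
      obtain ⟨g, hg⟩ := isConj_iff.1 (hB x y x.2 (fun e => hx1 (Subtype.ext e)) hxy')
      have hgH : g ∈ H.comap (QuotientGroup.mk' (Cfsg.pPrimeCore p G)) := by
        rw [Subgroup.mem_comap]
        set gb := QuotientGroup.mk' (Cfsg.pPrimeCore p G) g
        set xb : H := π x
        have e : gb * (xb : G ⧸ Cfsg.pPrimeCore p G) * gb⁻¹ = xb := by
          show gb * QuotientGroup.mk' _ (x : G) * gb⁻¹ = QuotientGroup.mk' _ (x : G)
          rw [← map_inv, ← map_mul, ← map_mul, hg, hxy']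
        have e2 : ret gb * xb * (ret gb)⁻¹ = xb := by
          have := congrArg ret e
          rwa [map_mul, map_mul, map_inv, hret] at this
        have e3 : (ret gb : G ⧸ Cfsg.pPrimeCore p G) * xb = xb * ret gb := by
          have := congrArg Subtype.val (mul_inv_eq_iff_eq_mul.1 e2)
          exact this
        set v := gb * (ret gb : G ⧸ Cfsg.pPrimeCore p G)⁻¹ with hv
        have hgb : gb = v * ret gb := (inv_mul_cancel_right _ _).symm
        have hvx : (xb : G ⧸ Cfsg.pPrimeCore p G) * v * (xb : G ⧸ Cfsg.pPrimeCore p G)⁻¹ = v := by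
          rw [hgb, mul_inv_eq_iff_eq_mul] at e
          rw [mul_inv_eq_iff_eq_mul]
          have e4 : v * xb * ret gb = xb * v * ret gb := by
            rw [mul_assoc v, ← e3, ← mul_assoc, e, ← mul_assoc]
          exact (mul_right_cancel e4).symm
        by_cases hv1 : v = 1
        · rw [hgb, hv1, one_mul]; exact (ret gb).2
        · exact absurd (Subtype.ext (hfree _ xb.2 v (hretm gb) hv1 hvx)) hx1
      exact isConj_iff.2 ⟨⟨g, hgH⟩, Subtype.ext hg⟩
    · intro e
      have e1 : Nat.card π.ker = Nat.card (Cfsg.pPrimeCore p G) := Nat.card_congr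
        { toFun := fun x => ⟨(x.1 : G), (hker x.1).1 x.2⟩
          invFun := fun k => ⟨⟨(k : G), hKle k k.2⟩, (hker _).2 k.2⟩
          left_inv := fun _ => rfl
          right_inv := fun _ => rfl }
      exact hcore (e1 ▸ e ▸ (h11 ▸ by norm_num : p ∣ 121))

end Cfsg.Agent.S4878
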