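import Cfsg.Statements.S4886
import Cfsg.Agent.Lib.Char.TwoPrimeCore
import Cfsg.Agent.Lib.Block.DegreesPPrime

set_option autoImplicit false
open Cfsg
open scoped commutatorElement

namespace Cfsg.Agent.S4886

open Cfsg.Lib Cfsg.Lib.Char in
/-- A centralizing Sylow `q`-subgroup lies in the core prime to `p`. -/
theorem degrees_of_commute {G : Type*} [Group G] [Finite G] {p q : ℕ} [Fact p.Prime] [Fact q.Prime]
    (hpq : p ≠ q) {M : Ideal Cfsg.AlgInt} (hM : Cfsg.IsPModular p M) (hps : Cfsg.IsPSolvable p G)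
    (P : Sylow p G) (Q : Sylow q G)
    (hc : ∀ x ∈ (P : Subgroup G), ∀ y ∈ (Q : Subgroup G), x * y = y * x) (χ : Cfsg.IrrCharacter G)
    (hχ : χ ∈ Cfsg.principalBlock M G) : ¬ q ∣ Cfsg.charDegree (χ : G → ℂ) := by
  classical
  haveI := Fintype.ofFinite G
  set O := Cfsg.pPrimeCore p G with hO
  have hπs := QuotientGroup.mk'_surjective O
  let P' : Sylow p (G ⧸ O) := P.mapSurjective hπs
  haveI := Fintype.ofFinite (G ⧸ O)
  have hcen : (Q : Subgroup G).map (QuotientGroup.mk' O) ≤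
      Subgroup.centralizer (Cfsg.pCore p (G ⧸ O) : Set (G ⧸ O)) := by
    rintro _ ⟨y, hy, rfl⟩
    refine Subgroup.mem_centralizer_iff.2 fun z hz => ?_
    obtain ⟨x, hx, rfl⟩ := (Core.pCore_le_sylow P' hz : z ∈ (P : Subgroup G).map (QuotientGroup.mk' O))
    rw [← map_mul, ← map_mul, hc x hx y hy]
  have hle := hcen.trans (Core.centralizer_pCore_le_of_isPSolvable
    (Core.isPSolvable_quotient hps O) Core.pPrimeCore_quotient_eq_bot)
  have hQO : (Q : Subgroup G) ≤ O := by
    intro y hy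
    rw [← QuotientGroup.eq_one_iff]
    have h1 := IsPGroup.disjoint_of_ne p q hpq _ _ (Core.pCore_isPGroup p (G ⧸ O))
      (Q.isPGroup'.map (QuotientGroup.mk' O))
    exact Subgroup.disjoint_def.1 h1 (hle ⟨y, hy, rfl⟩) ⟨y, hy, rfl⟩
  obtain ⟨ψ, hψ, hψe⟩ := exists_deflate_irr O χ.2 ((Block.mem_principal_iff_core hM hps χ).1 hχ)
  intro hd
  have he : Cfsg.charDegree ψ = Cfsg.charDegree (χ : G → ℂ) := by simp [Cfsg.charDegree, ← hψe 1]
  have h2 := (he ▸ hd).trans (degree_dvd_card hψ hψ.apply_one_eq_charDegree)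
  rw [← Subgroup.index_eq_card] at h2
  exact Q.not_dvd_index (h2.trans (Subgroup.index_dvd_of_le hQO))

open Cfsg.Lib Cfsg.Lib.Char in
theorem core_index {G : Type*} [Group G] [Finite G] {p q : ℕ} [Fact p.Prime] [Fact q.Prime]
    (hpq : p ≠ q) {M : Ideal Cfsg.AlgInt} (hM : Cfsg.IsPModular p M) (hps : Cfsg.IsPSolvable p G)
    (hqs : Cfsg.IsPSolvable q G)
    (h : ∀ χ : Cfsg.IrrCharacter G, χ ∈ Cfsg.principalBlock M G → ¬ p ∣ Cfsg.charDegree (χ : G → ℂ) →
      ¬ q ∣ Cfsg.charDegree (χ : G → ℂ)) : ¬ q ∣ (Cfsg.pPrimeCore p G).index := by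
  classical
  haveI := Fintype.ofFinite G
  set O := Cfsg.pPrimeCore p G with hO
  haveI := Fintype.ofFinite (G ⧸ O)
  have hdeg : DegProp p q (G ⧸ O) := by
    intro ψ hp'
    have hmem := (Block.mem_principal_iff_core hM hps
      ⟨_, isIrrCharacter_inflate O ψ.2⟩).2 fun n hn => by
        show (ψ : G ⧸ O → ℂ) (n : G ⧸ O) = (ψ : G ⧸ O → ℂ) ((1 : G) : G ⧸ O)
        rw [(QuotientGroup.eq_one_iff n).2 hn, QuotientGroup.mk_one]
    exact h _ hmem hp'
  have h1 := not_dvd_index_pPrimeCore hpq _ (G ⧸ O) rfl (Core.isPSolvable_quotient hps O)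
    (Core.isPSolvable_quotient hqs O) hdeg
  rwa [Core.pPrimeCore_quotient_eq_bot, Subgroup.index_bot, ← Subgroup.index_eq_card] at h1

/-- Let p ≠ q be primes and G a finite group that is p-solvable and q-solvable. Fix maximal ideals of the algebraic integers containing p and q, defining the principal p-block and the principal q-block. Then every irreducible character of degree prime to p in the principal p-block has degree prime to q and every irreducible character of degree prime to q in the principal q-block has degree prime to p, if and only if some Sylow p-subgroup of G commutes elementwise with some Sylow q-subgroup. -/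
theorem result {G : Type*} [Group G] [Finite G] (p q : ℕ) [Fact p.Prime] [Fact q.Prime] (hpq : p ≠ q) (Mp Mq : Ideal Cfsg.AlgInt) (hMp : Cfsg.IsPModular p Mp) (hMq : Cfsg.IsPModular q Mq) (hps : Cfsg.IsPSolvable p G) (hqs : Cfsg.IsPSolvable q G) : ((∀ χ : Cfsg.IrrCharacter G, χ ∈ Cfsg.principalBlock Mp G → ¬ p ∣ Cfsg.charDegree (χ : G → ℂ) → ¬ q ∣ Cfsg.charDegree (χ : G → ℂ)) ∧ (∀ χ : Cfsg.IrrCharacter G, χ ∈ Cfsg.principalBlock Mq G → ¬ q ∣ Cfsg.charDegree (χ : G → ℂ) → ¬ p ∣ Cfsg.charDegree (χ : G → ℂ))) ↔ ∃ (P : Sylow p G) (Q : Sylow q G), ∀ x ∈ (P : Subgroup G), ∀ y ∈ (Q : Subgroup G), x * y = y * x := by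
  classical
  constructor
  · rintro ⟨h1, h2⟩
    have hA := core_index hpq hMp hps hqs h1
    have hB := core_index (Ne.symm hpq) hMq hqs hps h2
    obtain ⟨P⟩ : Nonempty (Sylow p G) := inferInstance
    set A := Cfsg.pPrimeCore p G
    set B := Cfsg.pPrimeCore q G
    have hp : p.Prime := Fact.out
    have hq : q.Prime := Fact.out
    have hPB : (P : Subgroup G) ≤ B := by
      intro x hx
      obtain ⟨k, hk⟩ := P.isPGroup'.exists_card_eq
      have e1 : ((x : G) : G ⧸ B) ^ (p ^ k) = 1 := by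
        rw [← QuotientGroup.mk_pow, ← hk, orderOf_dvd_iff_pow_eq_one.1 (Subgroup.orderOf_dvd_natCard _ hx),
          QuotientGroup.mk_one]
      have e2 : ((x : G) : G ⧸ B) ^ B.index = 1 := by
        rw [Subgroup.index_eq_card]; exact pow_card_eq_one'
      have e3 := pow_gcd_eq_one.2 ⟨e1, e2⟩
      rw [(Nat.Coprime.pow_left k (hp.coprime_iff_not_dvd.2 hB)), pow_one] at e3
      exact (QuotientGroup.eq_one_iff x).1 e3
    have hPA : (P : Subgroup G) ≤ Subgroup.normalizer (A : Set G) := by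
      rw [Subgroup.normalizer_eq_top_iff.2 inferInstance]; exact le_top
    have hcop : (Nat.card (P : Subgroup G)).Coprime (Nat.card A) := by
      rw [P.card_eq_multiplicity]
      exact Nat.Coprime.pow_left _ (hp.coprime_iff_not_dvd.2 (Cfsg.Lib.Core.pPrimeCore_not_dvd p G))
    haveI := P.isPGroup'.isNilpotent
    obtain ⟨Q₀, hQ₀⟩ := Cfsg.Lib.Coprime.exists_invariant_sylow hPA hcop (Or.inl inferInstance) q
    set Q₁ := (Q₀ : Subgroup A).map A.subtype with hQ₁
    have hcard : Nat.card Q₁ = q ^ (Nat.card G).factorization q := by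
      rw [hQ₁, Subgroup.card_map_of_injective A.subtype_injective, Q₀.card_eq_multiplicity,
        ← A.card_mul_index, Nat.factorization_mul Nat.card_pos.ne' Subgroup.index_ne_zero_of_finite,
        Finsupp.add_apply, Nat.factorization_eq_zero_of_not_dvd hA, add_zero]
    refine ⟨P, Sylow.ofCard Q₁ hcard, fun x hx y hy => ?_⟩
    rw [Sylow.coe_ofCard] at hy
    rw [← commutatorElement_eq_one_iff_mul_comm]
    have c1 : ⁅x, y⁆ ∈ Q₁ := by
      rw [commutatorElement_def]
      exact mul_mem ((Subgroup.mem_normalizer_iff.1 (hQ₀ hx) y).1 hy) (inv_mem hy)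
    have c2 : ⁅x, y⁆ ∈ B := by
      rw [commutatorElement_def, mul_assoc, mul_assoc, ← mul_assoc y]
      exact mul_mem (hPB hx) ((inferInstance : B.Normal).conj_mem _ (inv_mem (hPB hx)) y)
    refine Subgroup.disjoint_def.1 (Cfsg.Lib.Coprime.disjoint_of_coprime_card ?_) c1 c2
    rw [hcard]
    exact Nat.Coprime.pow_left _ (hq.coprime_iff_not_dvd.2 (Cfsg.Lib.Core.pPrimeCore_not_dvd q G))
  · rintro ⟨P, Q, hc⟩
    exact ⟨fun χ hχ _ => degrees_of_commute hpq hMp hps P Q hc χ hχ,
      fun χ hχ _ => degrees_of_commute (Ne.symm hpq) hMq hqs Q P (fun y hy x hx => (hc x hx y hy).symm) χ hχ⟩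

end Cfsg.Agent.S4886
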