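import Cfsg.Statements.S4892
import Cfsg.Agent.Lib.Block.RationalExtension
-- import your own Cfsg.Agent.* helpers here

set_option autoImplicit false
open Cfsg

namespace Cfsg.Agent.S4892

/-- Let p be an odd prime, M a maximal ideal of the algebraic integers containing p, N a normal subgroup of the finite group G, and θ an irreducible character of N that is G-invariant, of degree prime to p, p-rational (values in the field generated over ℚ by a root of unity of order prime to p) and lies in the principal p-block of N. Let Q be a Sylow p-subgroup of N and suppose the index of N·C_G(Q) in G is a power of p. Then θ extends to a p-rational irreducible character of G lying in the principal p-block of G. -/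
theorem result {G : Type*} [Group G] [Finite G] (p : ℕ) [Fact p.Prime] (hp : p ≠ 2) (M : Ideal Cfsg.AlgInt) (hM : Cfsg.IsPModular p M) (N : Subgroup G) [N.Normal] (θ : Cfsg.IrrCharacter ↥N) (hinv : ∀ g : G, ∀ n n' : ↥N, (n' : G) = g * (n : G) * g⁻¹ → (θ : ↥N → ℂ) n' = (θ : ↥N → ℂ) n) (hdeg : ¬ p ∣ Cfsg.charDegree (θ : ↥N → ℂ)) (hrat : ∃ m : ℕ, ¬ p ∣ m ∧ ∀ n : ↥N, (θ : ↥N → ℂ) n ∈ IntermediateField.adjoin ℚ ({Complex.exp (2 * Real.pi * Complex.I / m)} : Set ℂ)) (hB : θ ∈ Cfsg.principalBlock M ↥N) (Q : Sylow p ↥N) (hidx : ∃ a : ℕ, (N ⊔ Subgroup.centralizer (((Q : Subgroup ↥N).map N.subtype : Subgroup G) : Set G)).index = p ^ a) : ∃ χ : Cfsg.IrrCharacter G, χ ∈ (Cfsg.principalBlock M G) ∧ (∃ n : ℕ, ¬ p ∣ n ∧ ∀ g : G, (χ : G → ℂ) g ∈ IntermediateField.adjoin ℚ ({Complex.exp (2 * Real.pi * Complex.I / n)} : Set ℂ)) ∧ ∀ n : ↥N, (χ : G → ℂ) n = (θ : ↥N → ℂ) n := by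
  classical
  haveI := Fintype.ofFinite G
  haveI := Fintype.ofFinite N
  have hpp : p.Prime := Fact.out
  obtain ⟨a, ha⟩ := hidx
  obtain ⟨m₀, hm₀, hval⟩ := hrat
  obtain ⟨d, σ, hσ, hσθ⟩ := θ.2
  haveI := hσ
  have hd1 : (θ : ↥N → ℂ) 1 = (d : ℂ) := by
    rw [← hσθ, Representation.char_one, Module.finrank_fintype_fun_eq_card, Fintype.card_fin]
  have hd : ¬ p ∣ d := by
    rwa [Cfsg.charDegree, hd1, Complex.natCast_re, Nat.floor_natCast] at hdeg
  -- the determinant of `θ`
  have hoσ : ¬ p ∣ orderOf (Lib.Char.detHom σ) := fun h =>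
    Nat.not_dvd_ordCompl hpp (Nat.card_pos (α := ↥N)).ne' (h.trans (orderOf_dvd_of_pow_eq_one
      (MonoidHom.ext fun x => (MonoidHom.pow_apply _ _ _).trans
        (Lib.Block.detHom_pow_ordCompl_eq_one hp σ (fun k hk hk1 y => by
          rw [hσθ]; exact Lib.Block.apply_pow_of_pRational hm₀ θ.2.isCharacter hval hk hk1 y) x))))
  set Q' : Subgroup G := (Q : Subgroup ↥N).map N.subtype with hQ'
  set C : Subgroup G := Subgroup.centralizer (Q' : Set G) with hC
  set K : Subgroup G := N ⊔ C with hK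
  -- the normalizer of the Sylow subgroup normalizes the centralizer
  have hCx : ∀ x ∈ Subgroup.normalizer (Q' : Set G), ∀ c ∈ C, x * c * x⁻¹ ∈ C := by
    intro x hx c hc
    rw [hC, Subgroup.mem_centralizer_iff]
    intro q hq
    have h1 : x⁻¹ * q * x⁻¹⁻¹ ∈ Q' :=
      (Subgroup.mem_normalizer_iff.mp (inv_mem hx) q).mp hq
    have h2 := Subgroup.mem_centralizer_iff.mp hc _ h1
    rw [inv_inv] at h2
    calc q * (x * c * x⁻¹) = x * (x⁻¹ * q * x * c) * x⁻¹ := by group
      _ = x * (c * (x⁻¹ * q * x)) * x⁻¹ := by rw [h2]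
      _ = x * c * x⁻¹ * q := by group
  have hfrat : ∀ g : G, ∃ x ∈ Subgroup.normalizer (Q' : Set G), ∃ n ∈ N, x * n = g := by
    intro g
    have hg : g ∈ (Subgroup.normalizer (Q' : Set G) ⊔ N : Subgroup G) := by
      rw [hQ', Sylow.normalizer_sup_eq_top Q]; exact Subgroup.mem_top g
    rw [← SetLike.mem_coe, Subgroup.mul_normal] at hg
    exact Set.mem_mul.mp hg
  haveI hKn : K.Normal := by
    refine ⟨fun y hy g => ?_⟩
    obtain ⟨x, hx, n, hn, rfl⟩ := hfrat g
    have hny : n * y * n⁻¹ ∈ K :=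
      K.mul_mem (K.mul_mem (Subgroup.mem_sup_left hn) hy) (Subgroup.mem_sup_left (N.inv_mem hn))
    have hle : K ≤ K.comap (MulAut.conj x).toMonoidHom := sup_le
      (fun z hz => Subgroup.mem_sup_left (Subgroup.Normal.conj_mem inferInstance z hz x))
      (fun z hz => Subgroup.mem_sup_right (hCx x hx z hz))
    have := hle hny
    rw [show x * n * y * (x * n)⁻¹ = x * (n * y * n⁻¹) * x⁻¹ by group]
    exact this
  have hNK : N ≤ K := le_sup_left
  obtain ⟨P', hmemC, hcov'⟩ := Lib.Block.exists_sylow_subgroupOf N Q K hNK le_rfl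
  haveI := Fintype.ofFinite K
  haveI := Fintype.ofFinite (N.subgroupOf K)
  let e := Subgroup.subgroupOfEquivOfLe hNK
  let θ' : Cfsg.IrrCharacter ↥(N.subgroupOf K) := Lib.Block.compIrr e θ
  let σ' : Representation ℂ ↥(N.subgroupOf K) (Fin d → ℂ) := σ.comp e.toMonoidHom
  haveI hσ'irr : σ'.IsIrreducible := by
    rw [Lib.Char.isIrreducible_iff_submodule] at hσ ⊢
    refine ⟨hσ.1, fun q hq => hσ.2 q fun n x hx => ?_⟩
    have h : σ' (e.symm n) x ∈ q := hq (e.symm n) x hx
    have he : σ' (e.symm n) = σ n := congrArg σ (e.apply_symm_apply n)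
    rwa [he] at h
  have hσ'θ : σ'.character = (θ' : ↥(N.subgroupOf K) → ℂ) :=
    funext fun n => congrFun hσθ (e n)
  have hdet' : ¬ p ∣ orderOf (Lib.Char.detHom σ') := fun h => hoσ (h.trans
    (orderOf_dvd_of_pow_eq_one (MonoidHom.ext fun n => by
      have h1 : Lib.Char.detHom σ' n = Lib.Char.detHom σ (e n) := Units.ext rfl
      rw [MonoidHom.pow_apply, h1, ← MonoidHom.pow_apply, pow_orderOf_eq_one]
      rfl)))
  obtain ⟨ρ, hρ, hρdet, hu, χK, hχK, hχKB⟩ := Lib.Block.exists_normalized_rep (N.subgroupOf K) hM P'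
    hcov' θ' (Lib.Block.compIrr_mem_principal e hB) σ' hσ'θ hd hdet'
  haveI hρirr := Lib.Char.isIrreducible_of_extension hρ
  set C' := Subgroup.centralizer (((P' : Subgroup ↥(N.subgroupOf K)).map (N.subgroupOf K).subtype :
    Subgroup K) : Set K) with hC'
  -- invariance under the whole group
  have hinvx : ∀ x ∈ Subgroup.normalizer (Q' : Set G), ∀ y : K,
      ρ.character (MulAut.conjNormal x y) = ρ.character y := by
    intro x hx
    let cj : K ≃* K := MulAut.conjNormal x
    obtain ⟨ρ', hρ', hρ'χ⟩ := Lib.Char.exists_rep_of_res_eq (N.subgroupOf K).subtype σ'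
      ((Lib.Char.isCharacter_character ρ).comp cj.toMonoidHom) (fun n => by
        have hn : cj (n : K) ∈ N.subgroupOf K := by
          rw [Subgroup.mem_subgroupOf]
          exact Subgroup.Normal.conj_mem (inferInstance : N.Normal) _ (Subgroup.mem_subgroupOf.1 n.2) x
        show LinearMap.trace ℂ _ (ρ (cj (n : K))) = σ'.character n
        rw [show ρ (cj (n : K)) = σ' ⟨cj n, hn⟩ from hρ ⟨cj n, hn⟩]
        show σ'.character ⟨cj n, hn⟩ = σ'.character n
        rw [hσ'θ]
        exact hinv x _ _ rfl)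
    obtain ⟨m, hm, hdm⟩ := hρdet
    have heq : ρ' = ρ := by
      refine Lib.Block.eq_of_normalized hM C' hcov' hd hρ hρ' ⟨m, hm, hdm⟩ ⟨m, hm, fun y => ?_⟩ hu ?_
      · have h1 := Lib.Block.detHom_of_char_pow (k := 1) (ρ.comp cj.toMonoidHom) ρ' (fun z => by
          rw [pow_one, hρ'χ]; rfl) y
        rw [pow_one] at h1
        rw [h1, show Lib.Char.detHom (ρ.comp cj.toMonoidHom) y = Lib.Char.detHom ρ (cj y) from
          Units.ext rfl, hdm]
      · intro c hc
        rw [hρ'χ]
        exact hu (cj c) ((hmemC _).2 (hCx x hx c ((hmemC c).1 hc)))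
    intro y
    conv_rhs => rw [← heq, hρ'χ]
    rfl
  have hinvK : ∀ (g : G) (y : K), ρ.character (MulAut.conjNormal g y) = ρ.character y := by
    intro g y
    obtain ⟨x, hx, n, hn, rfl⟩ := hfrat g
    rw [map_mul, MulAut.mul_apply, hinvx x hx]
    have : MulAut.conjNormal n y = (⟨n, hNK hn⟩ : K) * y * (⟨n, hNK hn⟩ : K)⁻¹ :=
      Subtype.ext rfl
    rw [this]
    exact ρ.char_conj y _
  -- extension to the group
  obtain ⟨m, hm, hdm⟩ := hρdet
  have hcopd : Nat.Coprime K.index (Module.finrank ℂ (Fin d → ℂ)) := by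
    rw [Module.finrank_fintype_fun_eq_card, Fintype.card_fin, ha]
    exact Nat.Coprime.pow_left _ (hpp.coprime_iff_not_dvd.2 hd)
  have hdinv : ∀ (g : G) (y : K),
      Lib.Char.detHom ρ (MulAut.conjNormal g y) = Lib.Char.detHom ρ y := by
    intro g y
    obtain ⟨φ⟩ := Lib.Char.nonempty_equiv_of_character_eq ρ
      (ρ.comp (MulAut.conjNormal g : K ≃* K).toMonoidHom) (funext fun z => (hinvK g z).symm)
    exact Units.ext (Lib.Char.det_eq_of_equiv φ y)
  obtain ⟨μ, hμ, hμo⟩ := Lib.Char.exists_linear_extension_coprime (Lib.Char.detHom ρ) hdinv (by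
    rw [ha]
    exact Nat.Coprime.pow_left _ (hpp.coprime_iff_not_dvd.2 fun h => hm (h.trans
      (orderOf_dvd_of_pow_eq_one (MonoidHom.ext fun y =>
        (MonoidHom.pow_apply _ _ _).trans (hdm y))))))
  obtain ⟨ρ₀, hρ₀⟩ := Lib.Char.exists_extension_of_det ρ hinvK hcopd μ hμ
  obtain ⟨ρG, hρG, hρGdet⟩ := Lib.Char.exists_extension_det_eq hρ₀ hcopd μ hμ
  haveI := Lib.Char.isIrreducible_of_extension hρG
  let χ : Cfsg.IrrCharacter G := ⟨ρG.character, Lib.Char.isIrrCharacter_character ρG⟩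
  have hres : ∀ y : K, (χ : G → ℂ) y = ρ.character y := fun y =>
    congrArg (LinearMap.trace ℂ _) (hρG y)
  refine ⟨χ, ?_, ⟨Nat.card G / p ^ (Nat.card G).factorization p,
    Nat.not_dvd_ordCompl hpp Nat.card_pos.ne', fun g => ?_⟩, fun n => ?_⟩
  · rw [Lib.Block.mem_principal_iff_regSum hM] at hχKB ⊢
    refine fun h0 => hχKB (Eq.trans ?_ h0)
    rw [← Finset.sum_filter_of_ne (p := fun g : G => g ∈ K) (s := Finset.univ), Finset.sum_subtype
      (Finset.univ.filter fun g : G => g ∈ K) (p := fun g : G => g ∈ K) (by simp)]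
    · refine Finset.sum_congr rfl fun y _ => ?_
      have hiff : Cfsg.IsPRegular p (y : G) ↔ Cfsg.IsPRegular p y := by
        simp only [Cfsg.IsPRegular, Subgroup.orderOf_coe]
      by_cases hy : Cfsg.IsPRegular p y
      · rw [Lib.Block.pRegularPart_of_reg hy, Lib.Block.pRegularPart_of_reg (hiff.2 hy), hχK]
        exact (hres y).symm
      · rw [Lib.Block.pRegularPart_of_sing hy, Lib.Block.pRegularPart_of_sing (mt hiff.1 hy)]
    · intro g _ hne
      have hg : Cfsg.IsPRegular p g := by_contra fun h => hne (Lib.Block.pRegularPart_of_sing h)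
      rw [← QuotientGroup.eq_one_iff]
      refine orderOf_eq_one_iff.1 (Nat.eq_one_of_dvd_coprimes
        (Nat.Coprime.pow_left a (hpp.coprime_iff_not_dvd.2 hg)) ?_
        (orderOf_map_dvd (QuotientGroup.mk' K) g))
      rw [← ha, Subgroup.index_eq_card]
      exact orderOf_dvd_natCard _
  · -- rationality
    refine Lib.Block.mem_adjoin_of_apply_pow χ.2.isCharacter (fun k hk hk1 => ?_) g
    have hkK : k.Coprime (Nat.card K) := hk.coprime_dvd_right (Subgroup.card_subgroup_dvd_card K)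
    obtain ⟨ρ', hρ', hρ'χ⟩ := Lib.Char.exists_rep_of_res_eq (N.subgroupOf K).subtype σ'
      (Lib.Char.isCharacter_comp_pow hkK (Lib.Char.isCharacter_character ρ)) (fun n => by
        rw [hσ'θ]
        show ρ.character ((n : K) ^ k) = (θ : ↥N → ℂ) (e n)
        rw [← SubgroupClass.coe_pow, show ρ.character ((n ^ k : ↥(N.subgroupOf K)) : K) =
          σ'.character (n ^ k) from congrArg (LinearMap.trace ℂ _) (hρ (n ^ k)), hσ'θ]
        show (θ : ↥N → ℂ) (e (n ^ k)) = _
        rw [map_pow]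
        exact Lib.Block.apply_pow_of_pRational hm₀ θ.2.isCharacter hval
          (hk.coprime_dvd_right (Subgroup.card_subgroup_dvd_card N))
          (hk1.of_dvd (Nat.ordCompl_dvd_ordCompl_of_dvd (Subgroup.card_subgroup_dvd_card N) p)) _)
    have heq : ρ' = ρ := by
      refine Lib.Block.eq_of_normalized hM C' hcov' hd hρ hρ' ⟨m, hm, hdm⟩ ⟨m, hm, fun y => ?_⟩ hu ?_
      · rw [Lib.Block.detHom_of_char_pow ρ ρ' (fun z => by rw [hρ'χ]) y, ← pow_mul, mul_comm,
          pow_mul, hdm, one_pow]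
      · intro c hc
        rw [hρ'χ]
        exact hu _ (pow_mem hc k)
    obtain ⟨ρG', hρG', hρG'χ⟩ := Lib.Char.exists_rep_of_res_eq K.subtype ρ
      (Lib.Char.isCharacter_comp_pow hk χ.2.isCharacter) (fun y => by
        show (χ : G → ℂ) ((y : G) ^ k) = ρ.character y
        rw [← SubgroupClass.coe_pow, hres]
        conv_rhs => rw [← heq, hρ'χ])
    obtain ⟨c, hcK, hc⟩ := Lib.Char.exists_hom_of_two_extensions hρG hρG'
    have hc1 : ∀ x, c x = 1 := by
      intro x
      have h1 : c x ^ K.index = 1 := Lib.Char.pow_index_eq_one_of_trivial c hcK x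
      have h2 : Lib.Char.detHom ρG' x = c x ^ d * μ x := Units.ext (by
        rw [Lib.Char.detHom_apply, hc x, LinearMap.det_smul, Module.finrank_fintype_fun_eq_card,
          Fintype.card_fin, Units.val_mul, Units.val_pow_eq_pow_val, ← hρGdet,
          Lib.Char.detHom_apply])
      have h3 : Lib.Char.detHom ρG' x = μ x ^ k := by
        rw [Lib.Block.detHom_of_char_pow ρG ρG' (fun z => by rw [hρG'χ]) x, hρGdet]
      have h4 : μ x ^ k = μ x := by
        have hm1 : orderOf (μ x) ∣ m := orderOf_dvd_of_pow_eq_one (by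
          have : orderOf μ ∣ m := by
            rw [hμo]
            exact orderOf_dvd_of_pow_eq_one (MonoidHom.ext fun y =>
              (MonoidHom.pow_apply _ _ _).trans (hdm y))
          rw [← MonoidHom.pow_apply, orderOf_dvd_iff_pow_eq_one.1 this]
          rfl)
        have hG1 : orderOf (μ x) ∣ Nat.card G := orderOf_dvd_of_pow_eq_one (by
          rw [← map_pow, pow_card_eq_one', map_one])
        have hn' : orderOf (μ x) ∣ Nat.card G / p ^ (Nat.card G).factorization p :=
          Nat.Coprime.dvd_of_dvd_mul_left (Nat.Coprime.pow_right _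
            (hpp.coprime_iff_not_dvd.2 fun h => hm (h.trans hm1)).symm)
            ((Nat.ordProj_mul_ordCompl_eq_self (Nat.card G) p).symm ▸ hG1)
        conv_rhs => rw [← pow_one (μ x)]
        exact pow_eq_pow_iff_modEq.2 (hk1.of_dvd hn')
      rw [h3, h4] at h2
      have h5 : c x ^ d = 1 := right_eq_mul.1 h2
      exact orderOf_eq_one_iff.1 (Nat.eq_one_of_dvd_coprimes
        (ha ▸ Nat.Coprime.pow_left a (hpp.coprime_iff_not_dvd.2 hd) : Nat.Coprime K.index d)
        (orderOf_dvd_of_pow_eq_one h1) (orderOf_dvd_of_pow_eq_one h5))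
    intro x
    show ρG.character (x ^ k) = ρG.character x
    refine (congrFun hρG'χ x).symm.trans ?_
    show LinearMap.trace ℂ _ (ρG' x) = _
    rw [hc x, hc1 x, Units.val_one, one_smul]
    rfl
  · have h := hres ⟨(n : G), hNK n.2⟩
    refine h.trans ?_
    show LinearMap.trace ℂ _ (ρ ((⟨⟨(n : G), hNK n.2⟩, n.2⟩ : ↥(N.subgroupOf K)) : K)) = _
    rw [hρ]
    exact (congrFun hσ'θ _).trans (congrArg (θ : ↥N → ℂ) (Subtype.ext rfl))

end Cfsg.Agent.S4892
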