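import Cfsg.Statements.S4911
import Cfsg.Agent.Lib.Char.GlaubermanSolv
import Cfsg.Agent.Lib.Char.PermLemma

set_option autoImplicit false
open Cfsg
open scoped ComplexConjugate

namespace Cfsg.Agent.S4911

/-- Let P and K be subgroups of a finite group with P a p-group normalizing K and K of order prime to p. Then the number of P-invariant real-valued irreducible complex characters of K equals the number of conjugacy classes of K that are real (closed under inversion) and P-invariant. Moreover, if every real-valued irreducible character of K is P-invariant, then every real element of K (one conjugate in K to its inverse) is conjugate in K to an element centralized by P. -/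
theorem result {G : Type*} [Group G] [Finite G] (p : ℕ) [Fact p.Prime] (P K : Subgroup G) (hP : IsPGroup p ↥P) (hK : ¬ p ∣ Nat.card ↥K) (hPK : P ≤ Subgroup.normalizer (K : Set G)) : Nat.card {θ : Cfsg.IrrCharacter ↥K // (∀ k : ↥K, ((θ : ↥K → ℂ) k).im = 0) ∧ (∀ x ∈ P, ∀ k k' : ↥K, (k' : G) = x * (k : G) * x⁻¹ → (θ : ↥K → ℂ) k' = (θ : ↥K → ℂ) k)} = Nat.card {c : ConjClasses ↥K // (∀ k : ↥K, ConjClasses.mk k = c → IsConj k k⁻¹) ∧ ∀ k : ↥K, ConjClasses.mk k = c → ∀ x ∈ P, ∀ k' : ↥K, (k' : G) = x * (k : G) * x⁻¹ → ConjClasses.mk k' = c} ∧ ((∀ θ : Cfsg.IrrCharacter ↥K, (∀ k : ↥K, ((θ : ↥K → ℂ) k).im = 0) → (∀ x ∈ P, ∀ k k' : ↥K, (k' : G) = x * (k : G) * x⁻¹ → (θ : ↥K → ℂ) k' = (θ : ↥K → ℂ) k)) → ∀ k : ↥K, IsConj k k⁻¹ → ∃ k' : ↥K, IsConj k k' ∧ ∀ x ∈ P, x * (k' : G) * x⁻¹ = (k' : G)) := by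
  classical
  haveI := Fintype.ofFinite G
  haveI := Fintype.ofFinite K
  have hp : p.Prime := Fact.out
  set C : Subgroup G := K ⊓ Subgroup.centralizer (P : Set G) with hC
  haveI := Fintype.ofFinite C
  haveI : Finite (ConjClasses K) := Quotient.finite _
  have hcop : (Nat.card K).Coprime (Nat.card P) := Cfsg.Lib.Char.coprime_card_pGroup hP hK
  have hcor := Cfsg.Lib.Char.isCorrespondence_pGroup hp P hP K C hPK hcop inf_le_left fun x => Iff.rfl
  set ι : C →* K := Subgroup.inclusion (inf_le_left : C ≤ K) with hι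
  have hnat : ∀ (χ : Cfsg.IrrCharacter K) (η : C → ℂ), Cfsg.IsIrrCharacter C η →
      ∃ m : ℕ, Cfsg.classInner (fun c => (χ : K → ℂ) (ι c)) η = m := fun χ η hη =>
    (χ.2.isCharacter.comp ι).exists_nat_classInner hη.isCharacter
  -- the correspondence commutes with complex conjugation
  have hconj : ∀ (χ : K → ℂ) (β : C → ℂ), Cfsg.IsIrrCharacter K χ → Cfsg.Lib.Char.HasCorr ι p χ β →
      Cfsg.Lib.Char.HasCorr ι p (fun k => conj (χ k)) (fun c => conj (β c)) := by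
    intro χ β hχ h
    obtain ⟨hβ, ε, hε, hall⟩ := h
    refine ⟨Cfsg.Lib.Char.isIrrCharacter_conjFn hβ, ε, hε, fun η m hη hm => ?_⟩
    have hm' : Cfsg.classInner (fun c => χ (ι c)) (fun c => conj (η c)) = m := by
      obtain ⟨m', hm'⟩ := hnat ⟨χ, hχ⟩ _ (Cfsg.Lib.Char.isIrrCharacter_conjFn hη)
      have h2 := Cfsg.Lib.Char.classInner_conjFn (fun c => χ (ι c)) (fun c => conj (η c))
      simp only [Complex.conj_conj] at h2
      rw [hm, ← Cfsg.Lib.Char.classInner_conj_symm (fun c => χ (ι c))] at h2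
      simp only at hm'
      rw [hm'] at h2 ⊢
      rw [Complex.conj_natCast] at h2
      exact h2.symm
    obtain ⟨h1, h2⟩ := hall _ m (Cfsg.Lib.Char.isIrrCharacter_conjFn hη) hm'
    refine ⟨fun e => h1 ?_, fun e => h2 fun e' => e ?_⟩
    · rw [e]; simp
    · rw [← e']; simp
  -- invariant real characters against real characters of the centralizer
  choose f hf using fun χ : {χ : Cfsg.IrrCharacter K // Cfsg.Lib.Char.IsInvOn P K (χ : K → ℂ)} =>
    hcor.exists_corr _ χ.1.2 χ.2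
  have hinvconj : ∀ χ : K → ℂ, Cfsg.Lib.Char.IsInvOn P K χ →
      Cfsg.Lib.Char.IsInvOn P K (fun k => conj (χ k)) := fun χ h s hs g g' hg => by
    simp only [h s hs g g' hg]
  let A := {θ : Cfsg.IrrCharacter K // (∀ k : K, ((θ : K → ℂ) k).im = 0) ∧
    Cfsg.Lib.Char.IsInvOn P K (θ : K → ℂ)}
  let B := {β : Cfsg.IrrCharacter C // ∀ c : C, ((β : C → ℂ) c).im = 0}
  have hfreal : ∀ θ : A, ∀ c : C, (f ⟨θ.1, θ.2.2⟩ c).im = 0 := by
    intro θ c
    have h := hconj _ _ θ.1.2 (hf ⟨θ.1, θ.2.2⟩)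
    rw [show (fun k => conj ((θ.1 : K → ℂ) k)) = (θ.1 : K → ℂ) from
      funext fun k => Complex.conj_eq_iff_im.2 (θ.2.1 k)] at h
    have e := h.eq_of_not_dvd hp θ.1.2.isCharacter (hf ⟨θ.1, θ.2.2⟩)
    exact Complex.conj_eq_iff_im.1 (congrFun e c)
  have eA : Nat.card A = Nat.card B := by
    refine Nat.card_congr (Equiv.ofBijective (fun θ : A =>
      (⟨⟨f ⟨θ.1, θ.2.2⟩, (hf ⟨θ.1, θ.2.2⟩).1⟩, hfreal θ⟩ : B)) ⟨fun a b hab => ?_, fun β => ?_⟩)
    · apply Subtype.ext; apply Subtype.ext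
      have he : f ⟨a.1, a.2.2⟩ = f ⟨b.1, b.2.2⟩ := congrArg (fun x : B => (x.1 : C → ℂ)) hab
      exact hcor.injective _ _ _ a.1.2 a.2.2 b.1.2 b.2.2 (hf ⟨a.1, a.2.2⟩) (he ▸ hf ⟨b.1, b.2.2⟩)
    · obtain ⟨χ, hχ, hχi, hχc⟩ := hcor.surjective _ β.1.2
      have h := hconj _ _ hχ hχc
      rw [show (fun c => conj ((β.1 : C → ℂ) c)) = (β.1 : C → ℂ) from
        funext fun c => Complex.conj_eq_iff_im.2 (β.2 c)] at h
      have e := hcor.injective _ _ _ (Cfsg.Lib.Char.isIrrCharacter_conjFn hχ) (hinvconj _ hχi)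
        hχ hχi h hχc
      refine ⟨⟨⟨χ, hχ⟩, fun k => Complex.conj_eq_iff_im.1 (congrFun e k), hχi⟩, ?_⟩
      exact Subtype.ext (Subtype.ext
        ((hf ⟨⟨χ, hχ⟩, hχi⟩).eq_of_not_dvd hp hχ.isCharacter hχc))
  -- real classes of the centralizer against invariant real classes
  let R := {c : ConjClasses K // (∀ k : K, ConjClasses.mk k = c → IsConj k k⁻¹) ∧
    ∀ k : K, ConjClasses.mk k = c → ∀ x ∈ P, ∀ k' : K, (k' : G) = x * (k : G) * x⁻¹ →
      ConjClasses.mk k' = c}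
  let S := {D : ConjClasses C // ∀ c : C, ConjClasses.mk c = D → IsConj c c⁻¹}
  have hdesc : ∀ c d : C, IsConj (ι c) (ι d) → IsConj c d := by
    intro c d h
    obtain ⟨g, hg⟩ := isConj_iff.1 h
    obtain ⟨w, hw, hwC, he⟩ := Cfsg.Lib.Char.exists_conj_fixed_conj hP hPK hK
      (c := (c : G)) (d := (d : G)) c.2.2 d.2.2 g.2 (congrArg Subtype.val hg)
    exact isConj_iff.2 ⟨⟨w, hw, hwC⟩, Subtype.ext he⟩
  have hreal : ∀ (c : C) (k : K), IsConj (ι c) k → IsConj c c⁻¹ → IsConj k k⁻¹ := by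
    intro c k hk hc
    have hk' : IsConj (ι c)⁻¹ k⁻¹ := by
      obtain ⟨g, hg⟩ := isConj_iff.1 hk
      exact isConj_iff.2 ⟨g, by rw [← hg]; group⟩
    refine hk.symm.trans (IsConj.trans ?_ hk')
    rw [← map_inv]
    exact ι.map_isConj hc
  have hfix : ∀ (c : C) (k : K), IsConj (ι c) k → ∀ x ∈ P, ∀ k' : K,
      (k' : G) = x * (k : G) * x⁻¹ → IsConj (ι c) k' := by
    intro c k hk x hx k' hk'
    obtain ⟨g, hg⟩ := isConj_iff.1 hk
    have hxg : x * (g : G) * x⁻¹ ∈ K := (Subgroup.mem_normalizer_iff.1 (hPK hx) _).1 g.2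
    refine isConj_iff.2 ⟨⟨_, hxg⟩, Subtype.ext ?_⟩
    have hxc : x * (c : G) = (c : G) * x := Subgroup.mem_centralizer_iff.1 c.2.2 x hx
    have hg' : (g : G) * (c : G) * (g : G)⁻¹ = (k : G) := congrArg Subtype.val hg
    rw [hk', ← hg']
    show x * (g : G) * x⁻¹ * (c : G) * (x * (g : G) * x⁻¹)⁻¹ = _
    calc x * (g : G) * x⁻¹ * (c : G) * (x * (g : G) * x⁻¹)⁻¹
        = x * (g : G) * x⁻¹ * ((c : G) * x) * (g : G)⁻¹ * x⁻¹ := by group
      _ = _ := by rw [← hxc]; group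
  have eR : Nat.card R = Nat.card S := by
    have hfwd : ∀ D : S, ∃ r : R, r.1 = ConjClasses.mk (ι D.1.out) := by
      intro D
      have hD := D.2 _ (Quotient.out_eq D.1)
      exact ⟨⟨_, fun k hk => hreal _ k (ConjClasses.mk_eq_mk_iff_isConj.1 hk).symm hD,
        fun k hk x hx k' hk' => (ConjClasses.mk_eq_mk_iff_isConj.2
          (hfix _ k (ConjClasses.mk_eq_mk_iff_isConj.1 hk).symm x hx k' hk')).symm⟩, rfl⟩
    choose F hF using hfwd
    refine (Nat.card_congr (Equiv.ofBijective F ⟨fun a b hab => ?_, fun r => ?_⟩)).symm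
    · apply Subtype.ext
      have he := congrArg Subtype.val hab
      rw [hF, hF, ConjClasses.mk_eq_mk_iff_isConj] at he
      have he' := ConjClasses.mk_eq_mk_iff_isConj.2 (hdesc _ _ he)
      rwa [show ConjClasses.mk a.1.out = a.1 from Quotient.out_eq _,
        show ConjClasses.mk b.1.out = b.1 from Quotient.out_eq _] at he'
    · obtain ⟨c, hcC, hc⟩ := Cfsg.Lib.Char.exists_fixed_in_class hP hPK hK (K := r.1)
        fun s hs g g' hg hgK => r.2.2 g hgK s hs g' hg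
      have hrc : IsConj c c⁻¹ := r.2.1 c hc
      refine ⟨⟨ConjClasses.mk ⟨(c : G), c.2, hcC⟩, fun d hd => ?_⟩, Subtype.ext ?_⟩
      · obtain ⟨w, hw⟩ := isConj_iff.1 (ConjClasses.mk_eq_mk_iff_isConj.1 hd).symm
        have h1 : IsConj (⟨(c : G), c.2, hcC⟩ : C) (⟨(c : G), c.2, hcC⟩ : C)⁻¹ := hdesc _ _ hrc
        refine (ConjClasses.mk_eq_mk_iff_isConj.1 hd).trans (h1.trans ?_)
        exact isConj_iff.2 ⟨w, by rw [← hw]; group⟩
      · rw [hF, ← hc, ConjClasses.mk_eq_mk_iff_isConj]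
        exact ι.map_isConj (ConjClasses.mk_eq_mk_iff_isConj.1 (Quotient.out_eq
          (ConjClasses.mk (⟨(c : G), c.2, hcC⟩ : C))))
  have hcount : Nat.card A = Nat.card R := by
    rw [eA, eR]; exact Cfsg.Lib.Char.card_real_irr
  refine ⟨hcount, fun hall k hk => ?_⟩
  have h2 : Nat.card {C : ConjClasses K // ∀ g : K, ConjClasses.mk g = C → IsConj g g⁻¹} = Nat.card R := by
    rw [← Cfsg.Lib.Char.card_real_irr, ← hcount]
    exact Nat.card_congr (Equiv.subtypeEquivRight fun θ => ⟨fun h => ⟨h, hall θ h⟩, fun h => h.1⟩)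
  have hmem : (∀ g : K, ConjClasses.mk g = ConjClasses.mk k → IsConj g g⁻¹) := fun g hg => by
    obtain ⟨w, rfl⟩ := isConj_iff.1 (ConjClasses.mk_eq_mk_iff_isConj.1 hg).symm
    refine IsConj.trans (isConj_iff.2 ⟨w⁻¹, by group⟩) (hk.trans ?_)
    exact isConj_iff.2 ⟨w, by group⟩
  haveI : Finite R := inferInstance
  obtain ⟨r, hr⟩ := ((Function.Injective.bijective_of_nat_card_le
    (f := fun r : R => (⟨r.1, r.2.1⟩ : {C : ConjClasses K // ∀ g : K, ConjClasses.mk g = C → IsConj g g⁻¹}))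
    (fun a b h => Subtype.ext (congrArg (fun x : {C : ConjClasses K // ∀ g : K, ConjClasses.mk g = C → IsConj g g⁻¹} => x.1) h)) h2.le).2 ⟨_, hmem⟩)
  obtain ⟨c, hcC, hc⟩ := Cfsg.Lib.Char.exists_fixed_in_class hP hPK hK (K := r.1)
    fun s hs g g' hg hgK => r.2.2 g hgK s hs g' hg
  rw [congrArg Subtype.val hr] at hc
  refine ⟨c, (ConjClasses.mk_eq_mk_iff_isConj.1 hc).symm, fun x hx => ?_⟩
  rw [Subgroup.mem_centralizer_iff.1 hcC x hx, mul_inv_cancel_right]

end Cfsg.Agent.S4911
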