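import Cfsg.Statements.S4912
import Cfsg.Agent.Lib.Block.LinearTwist
import Cfsg.Agent.Lib.Block.Basic

set_option autoImplicit false
open Cfsg Cfsg.Lib.Char Cfsg.Lib.Block

namespace Cfsg.Agent.S4912

/-- Let G be a finite group with a non-abelian minimal normal subgroup N, and let φ be an irreducible complex character of N with stabilizer I in G such that φ extends to an irreducible character of I with Frobenius–Schur indicator +1. Put d = φ(1)·[G : I]. Then the number of linear characters of G with Frobenius–Schur indicator +1 is at most [G : I] times the number of irreducible characters of G of degree d with Frobenius–Schur indicator +1. -/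
theorem result {G : Type*} [Group G] [Finite G] (N : Subgroup G) (hN : N.Normal) (hN1 : N ≠ ⊥) (hmin : ∀ M : Subgroup G, M.Normal → M ≤ N → M = ⊥ ∨ M = N) (hna : ¬ IsMulCommutative ↥N) (φ : Cfsg.IrrCharacter ↥N) (I : Subgroup G) (hI : ∀ g : G, g ∈ I ↔ ∀ n n' : ↥N, (n' : G) = g * (n : G) * g⁻¹ → (φ : ↥N → ℂ) n' = (φ : ↥N → ℂ) n) (hNI : N ≤ I) (hext : ∃ ψ : Cfsg.IrrCharacter ↥I, (Nat.card ↥I : ℂ)⁻¹ * ∑ᶠ g : ↥I, (ψ : ↥I → ℂ) (g * g) = 1 ∧ ∀ n : ↥N, (ψ : ↥I → ℂ) (Subgroup.inclusion hNI n) = (φ : ↥N → ℂ) n) : Nat.card {χ : Cfsg.IrrCharacter G // Cfsg.charDegree (χ : G → ℂ) = 1 ∧ (Nat.card G : ℂ)⁻¹ * ∑ᶠ g : G, (χ : G → ℂ) (g * g) = 1} ≤ I.index * Nat.card {χ : Cfsg.IrrCharacter G // Cfsg.charDegree (χ : G → ℂ) = Cfsg.charDegree (φ : ↥N → ℂ) * I.index ∧ (Nat.card G : ℂ)⁻¹ * ∑ᶠ g : G, (χ : G → ℂ) (g * g) = 1} := by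
  classical
  haveI := Fintype.ofFinite G
  haveI := Fintype.ofFinite N
  haveI := Fintype.ofFinite I
  haveI := hN
  obtain ⟨ψ, hν, hres⟩ := hext
  have hI' : I = inertia N (φ : N → ℂ) := SetLike.ext fun g => by
    rw [hI g, mem_inertia_iff]
    exact ⟨fun h n => h n ⟨g * n * g⁻¹, hN.conj_mem n n.2 g⟩ rfl,
      fun h n n' e => by rw [← h n]; exact congrArg _ (Subtype.ext e)⟩
  have hker : ∀ μ : G →* ℂˣ, ∀ n ∈ N, μ n = 1 := fun μ _ hn =>
    hom_eq_one_of_minimal hN hmin hna μ hn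
  have h1 : Nat.card {χ : IrrCharacter G // charDegree (χ : G → ℂ) = 1 ∧
      (Nat.card G : ℂ)⁻¹ * ∑ᶠ g : G, (χ : G → ℂ) (g * g) = 1}
      = Nat.card {μ : G →* ℂˣ // ∀ g, μ g * μ g = 1} := by
    refine (Nat.card_congr (Equiv.ofBijective (fun μ : {μ : G →* ℂˣ // ∀ g, μ g * μ g = 1} =>
      (⟨⟨fun g => (μ.1 g : ℂ), isIrrCharacter_linear μ.1⟩, ?_, ?_⟩ :
        {χ : IrrCharacter G // charDegree (χ : G → ℂ) = 1 ∧
          (Nat.card G : ℂ)⁻¹ * ∑ᶠ g : G, (χ : G → ℂ) (g * g) = 1})) ⟨?_, ?_⟩)).symm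
    · simp [charDegree]
    · simp [finsum_eq_sum_of_fintype, map_mul, μ.2, ← Nat.card_eq_fintype_card]
    · intro a b h
      exact Subtype.ext (MonoidHom.ext fun g => Units.ext
        (congrFun (congrArg (fun t => ((t.1 : IrrCharacter G) : G → ℂ)) h) g))
    · rintro ⟨χ, hd, hχν⟩
      obtain ⟨μ, hμ⟩ := exists_hom_of_degree_one χ.2.isCharacter
        (by rw [χ.2.apply_one_eq_charDegree, hd, Nat.cast_one])
      refine ⟨⟨μ, ?_⟩, Subtype.ext (Subtype.ext hμ.symm)⟩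
      have hreal : ∀ g, ((χ : G → ℂ) g).im = 0 := by
        rcases indicator_cases χ.2 with ⟨-, h0⟩ | ⟨h', -⟩
        · rw [finsum_eq_sum_of_fintype, h0, mul_zero] at hχν
          exact absurd hχν zero_ne_one
        · exact h'
      intro g
      have h3 := χ.2.isCharacter.apply_inv g
      rw [Complex.conj_eq_iff_im.mpr (hreal g), hμ] at h3
      have h4 : μ g⁻¹ = μ g := Units.ext h3
      rw [map_inv, inv_eq_iff_mul_eq_one] at h4
      exact h4
  rw [h1]
  refine card_hom_le_mul hNI hI' φ.2 ψ.2 hres hker fun μ hμ h => ⟨?_, ?_⟩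
  · refine Cfsg.Lib.Block.charDegree_eq_of_apply_one ?_
    show indFun I _ 1 = _
    rw [(twist_induce hNI hI' φ.2 ψ.2 hres (hker μ) (hker μ)).2.1, φ.2.apply_one_eq_charDegree,
      Nat.cast_mul]
  · rw [finsum_eq_sum_of_fintype] at hν ⊢
    have hψμ := isIrrCharacter_mul_linear ψ.2 (μ.comp I.subtype)
    refine indicator_induced hNI hI' φ.2 hψμ (fun n => ?_) ?_ h ?_
    · show (ψ : I → ℂ) (Subgroup.inclusion hNI n) * (μ (n : G) : ℂ) = _
      rw [hker μ _ n.2, Units.val_one, mul_one, hres]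
    · rw [← hν]
      congr 1
      refine Finset.sum_congr rfl fun x _ => ?_
      show (ψ : I → ℂ) (x * x) * (μ ((x : G) * x) : ℂ) = _
      rw [map_mul, hμ, Units.val_one, mul_one]
    · rw [← classInner_conj_symm, ← classInner_indFun I _ h.isClassFunction]
      intro e
      have h5 := classInner_irr_self h
      rw [map_eq_zero] at e
      exact one_ne_zero (h5.symm.trans e)

end Cfsg.Agent.S4912
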