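import Cfsg.Statements.S4916
import Cfsg.Agent.Lib.Block.Principal

set_option autoImplicit false
open Cfsg

namespace Cfsg.Agent.S4916

/-- Let G be a finite group, p a prime and M a maximal ideal of the algebraic integers containing p. Then the principal character is the only irreducible character of degree prime to p in the principal p-block of G if and only if p does not divide the order of G. -/
theorem result {G : Type*} [Group G] [Finite G] (p : ℕ) [Fact p.Prime] (M : Ideal Cfsg.AlgInt) (hM : Cfsg.IsPModular p M) : (∀ χ : Cfsg.IrrCharacter G, χ ∈ Cfsg.principalBlock M G → ¬ p ∣ Cfsg.charDegree (χ : G → ℂ) → (χ : G → ℂ) = fun _ => (1 : ℂ)) ↔ ¬ p ∣ Nat.card G := by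
  haveI := Fintype.ofFinite G
  classical
  have hp : p.Prime := Fact.out
  have hB := Lib.Block.isPBlock_principal (M := M) (G := G)
  have ht := Lib.Block.trivChar_mem_principal (G := G) hM
  have hdeg : charDegree ((Lib.Block.trivChar G : IrrCharacter G) : G → ℂ) = 1 :=
    Lib.Block.charDegree_eq_of_apply_one (n := 1) (by rw [Nat.cast_one]; rfl)
  constructor
  · intro h hdvd
    have hmin : Lib.Block.minVal p (principalBlock M G) = 0 := by
      have := Lib.Block.minVal_le (p := p) ht
      rw [hdeg] at this
      simpa using this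
    have ha : 0 < (Nat.card G).factorization p := hp.factorization_pos_of_dvd Nat.card_pos.ne' hdvd
    have hv := Lib.Block.factorization_sum_sq hM hB
    rw [Lib.Block.blockDefect_eq, hmin, Nat.sub_zero] at hv
    have hS : p ∣ ∑ χ ∈ (principalBlock M G).toFinset, charDegree (χ : G → ℂ) ^ 2 :=
      Nat.dvd_of_factorization_pos (by rw [hv]; omega)
    rw [← Finset.add_sum_erase _ _ (Set.mem_toFinset.2 ht), hdeg, one_pow] at hS
    refine hp.not_dvd_one ((Nat.dvd_add_left (Finset.dvd_sum fun χ hχ => ?_)).1 hS)
    rw [Finset.mem_erase, Set.mem_toFinset] at hχ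
    refine Dvd.dvd.pow ?_ two_ne_zero
    by_contra hn
    exact hχ.1 (Subtype.ext (h χ hχ.2 hn))
  · intro hndvd χ hχ _
    have h1 : blockOf M ((Lib.Block.trivChar G : IrrCharacter G) : G → ℂ) =
        {Lib.Block.trivChar G} :=
      Lib.Block.blockOf_eq_singleton_of_full hM _ (by
        rw [Nat.factorization_eq_zero_of_not_dvd hndvd]; exact Nat.zero_le _)
    have h2 : χ ∈ blockOf M ((Lib.Block.trivChar G : IrrCharacter G) : G → ℂ) := hχ
    rw [h1, Set.mem_singleton_iff] at h2
    rw [h2]; rfl

end Cfsg.Agent.S4916
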