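import Cfsg.Statements.S4923
import Cfsg.Agent.Lib.Char.ColumnField
import Cfsg.Agent.Lib.TwoGroup.MaximalClass

set_option autoImplicit false
set_option linter.style.haveILetI false
open Cfsg

namespace Cfsg.Agent.S4923

open Subgroup

theorem fix_plus {m : ℕ} {z : ℂ} (hz : IsPrimitiveRoot z m) (hm : 0 < m) (k : ℕ) :
    z ^ k + (z ^ k)⁻¹ = z + z⁻¹ ↔ z ^ k = z ∨ z ^ (k + 1) = 1 := by
  have h0 : z ≠ 0 := hz.ne_zero hm.ne'
  have hk0 : z ^ k ≠ 0 := pow_ne_zero _ h0
  rw [← sub_eq_zero, show z ^ k + (z ^ k)⁻¹ - (z + z⁻¹) =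
      (z ^ k - z) * (z ^ (k + 1) - 1) / (z ^ k * z) by rw [pow_succ]; field_simp; ring,
    div_eq_zero_iff, mul_eq_zero, sub_eq_zero, sub_eq_zero, or_iff_left (mul_ne_zero hk0 h0)]

theorem fix_minus {m : ℕ} {z : ℂ} (hz : IsPrimitiveRoot z m) (hm : 0 < m) (k : ℕ) :
    z ^ k - (z ^ k)⁻¹ = z - z⁻¹ ↔ z ^ k = z ∨ z ^ (k + 1) = -1 := by
  have h0 : z ≠ 0 := hz.ne_zero hm.ne'
  have hk0 : z ^ k ≠ 0 := pow_ne_zero _ h0
  rw [← sub_eq_zero, show z ^ k - (z ^ k)⁻¹ - (z - z⁻¹) =
      (z ^ k - z) * (z ^ (k + 1) + 1) / (z ^ k * z) by rw [pow_succ]; field_simp; ring,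
    div_eq_zero_iff, mul_eq_zero, sub_eq_zero, add_eq_zero_iff_eq_neg,
    or_iff_left (mul_ne_zero hk0 h0)]

theorem pow_eq_iff {m : ℕ} {z : ℂ} (hz : IsPrimitiveRoot z m) (hm : m ≠ 0) (a b : ℕ) :
    z ^ a = z ^ b ↔ a ≡ b [MOD m] := by
  obtain ⟨u, rfl⟩ := hz.isUnit hm
  rw [← Units.val_pow_eq_pow_val, ← Units.val_pow_eq_pow_val, Units.val_inj, pow_eq_pow_iff_modEq,
    ← orderOf_units, ← hz.eq_orderOf]

/-- An element of a Sylow 2-subgroup whose class is odd is central in a Sylow 2-subgroup. -/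
theorem exists_central_of_odd {G : Type*} [Group G] [Finite G] (P : Sylow 2 G) {g : G}
    (hg : ∃ i, orderOf g = 2 ^ i) (hodd : ¬ 2 ∣ (centralizer ({g} : Set G)).index) :
    ∃ x : (P : Subgroup G), orderOf x = orderOf g ∧ x ∈ center (P : Subgroup G) := by
  haveI := Fact.mk Nat.prime_two
  obtain ⟨S⟩ : Nonempty (Sylow 2 (centralizer ({g} : Set G))) := inferInstance
  set Q : Subgroup G := (S : Subgroup _).map (centralizer ({g} : Set G)).subtype with hQdef
  have hQp : IsPGroup 2 Q := S.2.map _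
  have hQi : ¬ 2 ∣ Q.index := by
    rw [hQdef, index_map_subtype]
    exact Nat.prime_two.not_dvd_mul S.not_dvd_index hodd
  let Q' : Sylow 2 G := hQp.toSylow hQi
  have hQc : ∀ y ∈ Q, y * g = g * y := by
    rintro _ ⟨y, -, rfl⟩
    exact mem_centralizer_singleton_iff.1 y.2
  have hgQ : g ∈ Q := by
    have hgN : zpowers g ≤ normalizer (Q : Set G) := by
      refine zpowers_le.2 (Subgroup.mem_normalizer_iff.2 fun y => ⟨fun hy => ?_, fun hy => ?_⟩)
      · rwa [← hQc y hy, mul_inv_cancel_right]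
      · have h2 := hQc _ hy
        have h3 : g * y * g⁻¹ = y := by
          have h4 : g * y = g * (g * y * g⁻¹) := by rw [← h2, inv_mul_cancel_right]
          exact (mul_left_cancel h4).symm
        rwa [h3] at hy
    obtain ⟨i, hi⟩ := hg
    have hgp : IsPGroup 2 (zpowers g) := IsPGroup.of_card (n := i) (by rw [Nat.card_zpowers, hi])
    have hsup := hgp.to_sup_of_normal_right' hQp hgN
    have h5 := (le_sup_left (a := zpowers g) (b := Q)) (mem_zpowers g)
    rw [Q'.is_maximal' hsup le_sup_right] at h5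
    exact h5
  obtain ⟨c, hc⟩ := MulAction.exists_smul_eq G Q' P
  have hmem : ∀ y ∈ (P : Subgroup G), c⁻¹ * y * c ∈ Q := by
    intro y hy
    rw [← hc, Sylow.coe_subgroup_smul, mem_pointwise_smul_iff_inv_smul_mem] at hy
    simpa [Q'] using hy
  have hcg : c * g * c⁻¹ ∈ (P : Subgroup G) := by
    rw [← hc, Sylow.coe_subgroup_smul, mem_pointwise_smul_iff_inv_smul_mem]
    simpa [Q', mul_assoc] using hgQ
  refine ⟨⟨_, hcg⟩, ?_, mem_center_iff.2 fun y => Subtype.ext ?_⟩
  · rw [orderOf_mk]; exact (MulAut.conj c).orderOf_eq g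
  · have h := hQc _ (hmem y y.2)
    show (y : G) * (c * g * c⁻¹) = c * g * c⁻¹ * y
    calc (y : G) * (c * g * c⁻¹) = c * ((c⁻¹ * y * c) * g) * c⁻¹ := by group
      _ = c * (g * (c⁻¹ * y * c)) * c⁻¹ := by rw [h]
      _ = c * g * c⁻¹ * y := by group

/-- Let G be a finite group with Sylow 2-subgroup P of order 2^n ≥ 8, and let ζ be a primitive 2^(n−1)-th root of unity in ℂ. Then the commutator subgroup of P has index 4 in P if and only if there is an element g of P whose conjugacy class in G has even size and such that the field generated over ℚ by the values at g of all irreducible complex characters of G equals ℚ(ζ + ζ⁻¹) or ℚ(ζ − ζ⁻¹). -/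
theorem result {G : Type*} [Group G] [Finite G] (P : Sylow 2 G) (n : ℕ) (hn : 3 ≤ n) (hP : Nat.card P = 2 ^ n) (ζ : ℂ) (hζ : IsPrimitiveRoot ζ (2 ^ (n - 1))) :
    (commutator ↥P).index = 4 ↔
      ∃ g : G, g ∈ (P : Subgroup G) ∧ 2 ∣ (Subgroup.centralizer ({g} : Set G)).index ∧
        (IntermediateField.adjoin ℚ {z : ℂ | ∃ χ : Cfsg.IrrCharacter G, (χ : G → ℂ) g = z} = IntermediateField.adjoin ℚ ({ζ + ζ⁻¹} : Set ℂ) ∨
          IntermediateField.adjoin ℚ {z : ℂ | ∃ χ : Cfsg.IrrCharacter G, (χ : G → ℂ) g = z} = IntermediateField.adjoin ℚ ({ζ - ζ⁻¹} : Set ℂ)) := by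
  haveI := Fact.mk Nat.prime_two
  set N := 2 ^ (n - 1) with hN
  haveI : NeZero N := ⟨by positivity⟩
  have hNh : N = 2 * 2 ^ (n - 2) := by rw [hN, ← pow_succ']; congr 1; omega
  have hζK : ζ ∈ Lib.Char.cycField N := Lib.Char.mem_cycField hζ.pow_eq_one
  set wp : Lib.Char.cycField N := ⟨ζ, hζK⟩ + ⟨ζ, hζK⟩⁻¹ with hwp
  set wm : Lib.Char.cycField N := ⟨ζ, hζK⟩ - ⟨ζ, hζK⟩⁻¹ with hwm
  have hneg : ζ ^ 2 ^ (n - 2) = -1 := by
    have h2 := hζ.pow (NeZero.pos N) (show N = 2 ^ (n - 2) * 2 by rw [hNh, mul_comm])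
    exact h2.eq_neg_one_of_two_right
  have hsplus : ∀ (σ : Lib.Char.cycField N →ₐ[ℚ] ℂ) (k : ℕ), Lib.Char.ActsAsPow σ k →
      (σ wp = wp ↔ k ≡ 1 [MOD N] ∨ k + 1 ≡ 0 [MOD N]) := by
    intro σ k hk
    have h := hk ⟨ζ, hζK⟩ hζ.pow_eq_one
    rw [hwp, map_add, map_inv₀, h]
    push_cast
    rw [fix_plus hζ (NeZero.pos N) k, ← pow_eq_iff hζ (NeZero.ne N), pow_one,
      ← pow_eq_iff hζ (NeZero.ne N), pow_zero]
  have hsminus : ∀ (σ : Lib.Char.cycField N →ₐ[ℚ] ℂ) (k : ℕ), Lib.Char.ActsAsPow σ k →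
      (σ wm = wm ↔ k ≡ 1 [MOD N] ∨ k + 1 ≡ 2 ^ (n - 2) [MOD N]) := by
    intro σ k hk
    have h := hk ⟨ζ, hζK⟩ hζ.pow_eq_one
    rw [hwm, map_sub, map_inv₀, h]
    push_cast
    rw [fix_minus hζ (NeZero.pos N) k, ← hneg, ← pow_eq_iff hζ (NeZero.ne N), pow_one,
      ← pow_eq_iff hζ (NeZero.ne N)]
  constructor
  · intro hidx
    have hcl := Lib.TwoGroup.MaximalClass.class_of_index_four n hn (P : Subgroup G) hP hidx
    obtain ⟨a, b, ha, hb, -, hrel⟩ :=
      Lib.TwoGroup.MaximalClass.exists_generators_of_class hn hP hcl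
    have hZ := Lib.TwoGroup.MaximalClass.card_center_eq_two hn hP hcl
    set g : G := (a : G) with hgdef
    have hgo : orderOf g = N := by rw [hgdef, orderOf_coe, ha]
    have heven : 2 ∣ (centralizer ({g} : Set G)).index := by
      by_contra hodd
      obtain ⟨x, hxo, hxc⟩ := exists_central_of_odd P ⟨n - 1, hgo⟩ hodd
      have hd : orderOf (⟨x, hxc⟩ : center (P : Subgroup G)) ∣ Nat.card (center (P : Subgroup G)) :=
        orderOf_dvd_natCard _
      rw [orderOf_mk, hxo, hgo, hZ.1] at hd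
      have h4 : 2 ^ 2 ≤ N := Nat.pow_le_pow_right (by norm_num) (by omega)
      have := Nat.le_of_dvd (by norm_num) hd
      omega
    obtain ⟨r, hbab, hr⟩ : ∃ r : ℕ, b * a * b⁻¹ = a ^ r ∧
        (r + 1 ≡ 0 [MOD N] ∨ (4 ≤ n ∧ r + 1 ≡ 2 ^ (n - 2) [MOD N])) := by
      have hinv : a ^ (N - 1) = a⁻¹ := by
        refine (inv_eq_of_mul_eq_one_left ?_).symm
        rw [← pow_succ, Nat.sub_add_cancel (NeZero.pos N), hN, ← ha, pow_orderOf_eq_one]
      have hz : N - 1 + 1 ≡ 0 [MOD N] := by
        rw [Nat.sub_add_cancel (NeZero.pos N)]; exact Nat.modEq_zero_iff_dvd.2 dvd_rfl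
      rcases hrel with ⟨-, h⟩ | ⟨-, h⟩ | ⟨h4, -, h⟩
      · exact ⟨N - 1, by rw [h, hinv], Or.inl hz⟩
      · exact ⟨N - 1, by rw [h, hinv], Or.inl hz⟩
      · refine ⟨2 ^ (n - 2) - 1, h, Or.inr ⟨h4, ?_⟩⟩
        rw [Nat.sub_add_cancel (Nat.one_le_two_pow)]
    have hbab' : (b : G) * g * (b : G)⁻¹ = g ^ r := by
      have := congrArg Subtype.val hbab
      simpa using this
    have hr1 : ¬ r ≡ 1 [MOD N] := by
      intro h1
      rcases hr with h | ⟨h4, h⟩
      · have h2 := (Nat.ModEq.add_right 1 h1).symm.trans h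
        have := Nat.le_of_dvd (by norm_num) (Nat.modEq_zero_iff_dvd.1 h2)
        have h8 : 2 ^ 2 ≤ N := Nat.pow_le_pow_right (by norm_num) (by omega)
        omega
      · have h2 := (Nat.ModEq.add_right 1 h1).symm.trans h
        have h8 : 2 ^ 2 ≤ 2 ^ (n - 2) := Nat.pow_le_pow_right (by norm_num) (by omega)
        rw [Nat.ModEq, Nat.mod_eq_of_lt (by omega), Nat.mod_eq_of_lt (by omega)] at h2
        omega
    -- the conjugates of `g` among its powers
    let Φ : normalizer (zpowers g : Set G) →* MulAut (zpowers g) := (zpowers g).normalizerMonoidHom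
    have hker : Nat.card Φ.ker = Nat.card (centralizer ({g} : Set G)) := by
      have hle : centralizer ({g} : Set G) ≤ normalizer (zpowers g : Set G) := by
        intro c hc
        refine Subgroup.mem_normalizer_iff.2 fun y => ?_
        rw [mem_centralizer_singleton_iff] at hc
        have hcy : ∀ i : ℤ, c * g ^ i * c⁻¹ = g ^ i := fun i => by
          rw [(show Commute c g from hc).zpow_right i, mul_inv_cancel_right]
        constructor
        · rintro ⟨i, rfl⟩; exact ⟨i, (hcy i).symm⟩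
        · rintro ⟨i, hi⟩
          refine ⟨i, ?_⟩
          have h5 : c * y * c⁻¹ = c * g ^ i * c⁻¹ := by rw [hcy, ← hi]
          exact (mul_left_cancel (mul_right_cancel h5)).symm
      have heq : Φ.ker = (centralizer ({g} : Set G)).subgroupOf _ := by
        ext c
        rw [MonoidHom.mem_ker, mem_subgroupOf, mem_centralizer_singleton_iff]
        constructor
        · intro h
          have h5 : (c : G) * g * (c : G)⁻¹ = g := congrArg Subtype.val
            (DFunLike.congr_fun h (⟨g, mem_zpowers g⟩ : zpowers g))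
          exact mul_inv_eq_iff_eq_mul.1 h5
        · intro h
          refine MulEquiv.ext fun ⟨y, hy⟩ => Subtype.ext ?_
          obtain ⟨i, rfl⟩ := mem_zpowers_iff.1 hy
          show (c : G) * g ^ i * (c : G)⁻¹ = g ^ i
          rw [(show Commute (c : G) g from h).zpow_right i, mul_inv_cancel_right]
      rw [heq, Nat.card_congr (subgroupOfEquivOfLe hle).toEquiv]
    have hgC : 2 ^ (n - 1) ∣ Nat.card (centralizer ({g} : Set G)) := by
      rw [← hN, ← hgo, ← Nat.card_zpowers]
      exact card_dvd_of_le (zpowers_le.2 (mem_centralizer_singleton_iff.2 rfl))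
    have hrange : Nat.card Φ.range ∣ 2 := by
      have h1 : Nat.card Φ.range ∣ 2 ^ (n - 1) := by
        refine (card_subgroup_dvd_card _).trans ?_
        haveI : IsCyclic (zpowers g) := inferInstance
        rw [IsCyclic.card_mulAut, Nat.card_zpowers, hgo, hN,
          Nat.totient_prime_pow Nat.prime_two (by omega), show 2 - 1 = 1 from rfl, mul_one]
        exact pow_dvd_pow 2 (Nat.sub_le _ _)
      obtain ⟨i, -, hi⟩ := (Nat.dvd_prime_pow Nat.prime_two).1 h1
      have h2 : Nat.card Φ.range * Nat.card (centralizer ({g} : Set G)) ∣ Nat.card G := by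
        rw [← hker, ← index_ker, index_mul_card]
        exact card_subgroup_dvd_card _
      have h3 : 2 ^ (i + (n - 1)) ∣ Nat.card G :=
        dvd_trans (by rw [pow_add, hi]; exact mul_dvd_mul_left _ hgC) h2
      have h4 := (Nat.prime_two.pow_dvd_iff_le_factorization Nat.card_pos.ne').1 h3
      have h5 : n = (Nat.card G).factorization 2 :=
        Nat.pow_right_injective le_rfl (hP.symm.trans P.card_eq_multiplicity)
      rw [hi]
      exact (pow_dvd_pow 2 (show i ≤ 1 by omega)).trans (by norm_num)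
    have hclass : ∀ k : ℕ, IsConj g (g ^ k) → k.Coprime N → k ≡ 1 [MOD N] ∨ k ≡ r [MOD N] := by
      intro k hk hcop
      obtain ⟨c, hc⟩ := isConj_iff.1 hk
      have hcN : c ∈ normalizer (zpowers g : Set G) := by
        obtain ⟨m, hm⟩ := exists_pow_eq_self_of_coprime (x := g) (n := k) (by rw [hgo]; exact hcop)
        refine Subgroup.mem_normalizer_iff.2 fun y => ⟨?_, ?_⟩
        · rintro ⟨i, rfl⟩
          refine ⟨(k : ℤ) * i, ?_⟩
          show g ^ ((k : ℤ) * i) = c * g ^ i * c⁻¹
          rw [← conj_zpow, hc, zpow_mul, zpow_natCast]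
        · rintro ⟨i, hi⟩
          refine ⟨(m : ℤ) * i, ?_⟩
          have h5 : c * g ^ ((m : ℤ) * i) * c⁻¹ = c * y * c⁻¹ := by
            rw [← conj_zpow, hc, ← zpow_natCast g k, ← zpow_mul, ← mul_assoc, zpow_mul, ← hi]
            congr 1
            rw [zpow_mul, zpow_natCast, zpow_natCast, hm]
          exact mul_left_cancel (mul_right_cancel h5)
      have hbN : (b : G) ∈ normalizer (zpowers g : Set G) := by
        refine Subgroup.mem_normalizer_iff.2 fun y => ?_
        have hidxa : (zpowers a).index = 2 := by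
          have h1 := (zpowers a).card_mul_index
          rw [Nat.card_zpowers, ha, hP, show n = (n - 1) + 1 by omega, pow_succ] at h1
          exact Nat.eq_of_mul_eq_mul_left (by positivity) h1
        haveI := normal_of_index_eq_two hidxa
        constructor
        · rintro ⟨i, rfl⟩
          refine ⟨(r : ℤ) * i, ?_⟩
          show g ^ ((r : ℤ) * i) = (b : G) * g ^ i * (b : G)⁻¹
          rw [← conj_zpow, hbab', zpow_mul, zpow_natCast]
        · rintro ⟨i, hi⟩
          have h6 : (b⁻¹ * a ^ i * b⁻¹⁻¹ : (P : Subgroup G)) ∈ zpowers a :=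
            (inferInstance : (zpowers a).Normal).conj_mem _ (zpow_mem (mem_zpowers a) i) b⁻¹
          obtain ⟨j, hj⟩ := mem_zpowers_iff.1 h6
          refine ⟨j, ?_⟩
          have h7 := congrArg Subtype.val hj
          simp only [SubgroupClass.coe_zpow, coe_mul, InvMemClass.coe_inv, inv_inv] at h7
          show g ^ j = y
          have hi' : g ^ i = (b : G) * y * (b : G)⁻¹ := hi
          rw [hgdef, h7, ← hgdef, hi']; group
      have hkval : ((Φ ⟨c, hcN⟩ ⟨g, mem_zpowers g⟩ : zpowers g) : G) = g ^ k := hc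
      have hbval : ((Φ ⟨b, hbN⟩ ⟨g, mem_zpowers g⟩ : zpowers g) : G) = g ^ r := hbab'
      have hbne : Φ ⟨b, hbN⟩ ≠ 1 := fun h => hr1 (by
        rw [h, MulAut.one_apply] at hbval
        rw [← hgo, ← pow_eq_pow_iff_modEq, pow_one]
        exact hbval.symm)
      have hb2 : Φ.range = zpowers (Φ ⟨b, hbN⟩) := by
        refine (eq_of_le_of_card_ge (zpowers_le.2 (show Φ ⟨b, hbN⟩ ∈ Φ.range from ⟨_, rfl⟩)) ?_).symm
        rw [Nat.card_zpowers]
        refine (Nat.le_of_dvd (by norm_num) hrange).trans ?_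
        have := orderOf_pos (Φ ⟨b, hbN⟩)
        have := mt orderOf_eq_one_iff.1 hbne
        omega
      have hor : orderOf (Φ ⟨b, hbN⟩) ∣ 2 := by
        rw [← Nat.card_zpowers, ← hb2]; exact hrange
      have hcr : Φ ⟨c, hcN⟩ ∈ Φ.range := ⟨_, rfl⟩
      rw [hb2] at hcr
      obtain ⟨e, he⟩ := mem_powers_iff_mem_zpowers.2 hcr
      simp only at he
      have he' : Φ ⟨b, hbN⟩ ^ (e % 2) = Φ ⟨c, hcN⟩ := by
        rw [← he]
        conv_rhs => rw [← Nat.mod_add_div e 2]
        rw [pow_add, pow_mul, orderOf_dvd_iff_pow_eq_one.1 hor, one_pow, mul_one]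
      rcases Nat.mod_two_eq_zero_or_one e with h | h <;> rw [h] at he'
      · left
        rw [← he', pow_zero, MulAut.one_apply] at hkval
        rw [← hgo, ← pow_eq_pow_iff_modEq, pow_one]
        exact hkval.symm
      · right
        rw [pow_one] at he'
        rw [he', hkval] at hbval
        rw [← hgo, ← pow_eq_pow_iff_modEq]
        exact hbval
    have hconjr : IsConj g (g ^ r) := isConj_iff.2 ⟨b, hbab'⟩
    have hiffk : ∀ (σ : Lib.Char.cycField N →ₐ[ℚ] ℂ) (k : ℕ), Lib.Char.ActsAsPow σ k →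
        (IsConj g (g ^ k) ↔ k ≡ 1 [MOD N] ∨ k ≡ r [MOD N]) := by
      intro σ k hσ
      constructor
      · intro hk
        refine hclass k hk ?_
        obtain ⟨j, hj, hσj⟩ := Lib.Char.exists_actsAsPow σ
        have h1 := hσ ⟨ζ, hζK⟩ hζ.pow_eq_one
        have h2 := hσj ⟨ζ, hζK⟩ hζ.pow_eq_one
        rw [h1] at h2
        simp only at h2
        rw [pow_eq_iff hζ (NeZero.ne N)] at h2
        rw [Nat.Coprime, Nat.ModEq.gcd_eq h2]
        exact hj
      · rintro (h | h) <;> rw [← hgo, ← pow_eq_pow_iff_modEq] at h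
        · rw [h, pow_one]
        · rw [h]; exact hconjr
    refine ⟨g, a.2, heven, ?_⟩
    rcases hr with hr | ⟨-, hr⟩
    · refine Or.inl ((Lib.Char.adjoin_column_eq_iff (N := N) hgo.dvd wp).2 fun σ k hσ => ?_)
      rw [hiffk σ k hσ, hsplus σ k hσ]
      exact or_congr Iff.rfl ⟨fun h => (h.add_right 1).trans hr,
        fun h => Nat.ModEq.add_right_cancel' 1 (h.trans hr.symm)⟩
    · refine Or.inr ((Lib.Char.adjoin_column_eq_iff (N := N) hgo.dvd wm).2 fun σ k hσ => ?_)
      rw [hiffk σ k hσ, hsminus σ k hσ]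
      exact or_congr Iff.rfl ⟨fun h => (h.add_right 1).trans hr,
        fun h => Nat.ModEq.add_right_cancel' 1 (h.trans hr.symm)⟩
  · rintro ⟨g, hgP, heven, hfield⟩
    set x : (P : Subgroup G) := ⟨g, hgP⟩ with hx
    have hnot : ¬ (P : Subgroup G) ≤ centralizer ({g} : Set G) := fun h =>
      P.not_dvd_index (heven.trans (index_dvd_of_le h))
    have hnab : ∃ b : (P : Subgroup G), b * x ≠ x * b := by
      by_contra h
      push Not at h
      exact hnot fun y hy => mem_centralizer_singleton_iff.2 (congrArg Subtype.val (h ⟨y, hy⟩))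
    obtain ⟨b, hb⟩ := hnab
    obtain ⟨m, hm⟩ := IsPGroup.iff_orderOf.1 P.2 x
    have hPp : IsPGroup 2 (P : Subgroup G) := P.2
    have hm1 : m ≤ n - 1 := by
      have hlt : zpowers x ≠ ⊤ := fun h => hb (by
        obtain ⟨i, hi⟩ := mem_zpowers_iff.1 (h ▸ mem_top b : b ∈ zpowers x)
        rw [← hi]; exact (Commute.refl x).zpow_left i)
      have hd : 2 ^ m ∣ 2 ^ n := by rw [← hm, ← hP]; exact orderOf_dvd_natCard x
      have hmn : m ≤ n := (Nat.pow_dvd_pow_iff_le_right (by norm_num)).1 hd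
      by_contra h
      refine hlt (eq_top_of_card_eq _ ?_)
      rw [Nat.card_zpowers, hm, hP, show m = n by omega]
    have hgo : orderOf g = 2 ^ m := by rw [← hm, hx, orderOf_mk]
    have hgdvd : orderOf g ∣ N := by rw [hgo, hN]; exact pow_dvd_pow 2 hm1
    have hstab : ∃ w : Lib.Char.cycField N, (w = wp ∨ w = wm) ∧
        ∀ (σ : Lib.Char.cycField N →ₐ[ℚ] ℂ) (k : ℕ), Lib.Char.ActsAsPow σ k →
          (IsConj g (g ^ k) ↔ σ w = w) := by
      rcases hfield with h | h
      · exact ⟨wp, Or.inl rfl, (Lib.Char.adjoin_column_eq_iff hgdvd wp).1 h⟩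
      · exact ⟨wm, Or.inr rfl, (Lib.Char.adjoin_column_eq_iff hgdvd wm).1 h⟩
    obtain ⟨w, hw, hst⟩ := hstab
    have hmods : ∀ (σ : Lib.Char.cycField N →ₐ[ℚ] ℂ) (k : ℕ), Lib.Char.ActsAsPow σ k → σ w = w →
        k ≡ 1 [MOD N] ∨ k + 1 ≡ 0 [MOD N] ∨ k + 1 ≡ 2 ^ (n - 2) [MOD N] := by
      intro σ k hσ h
      rcases hw with rfl | rfl
      · exact ((hsplus σ k hσ).1 h).imp id Or.inl
      · exact ((hsminus σ k hσ).1 h).imp id Or.inr
    have hcomm_le : ∀ K : Subgroup (P : Subgroup G), K.Normal → K.index = 4 →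
        commutator (P : Subgroup G) ≤ K := by
      intro K hK hK4
      haveI := hK
      haveI : IsMulCommutative ((P : Subgroup G) ⧸ K) :=
        IsPGroup.isMulCommutative_of_card_eq_prime_sq (p := 2) (by rw [← index_eq_card, hK4]; norm_num)
      exact Normal.quotient_commutative_iff_commutator_le.1 ⟨⟨fun a c => mul_comm' a c⟩⟩
    rcases Nat.lt_or_ge n 4 with hn4 | hn4
    · obtain rfl : n = 3 := by omega
      haveI : Nontrivial (P : Subgroup G) := ⟨⟨b, 1, fun h => hb (by rw [h, one_mul, mul_one])⟩⟩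
      haveI := hPp.center_nontrivial
      obtain ⟨i, hi⟩ := IsPGroup.iff_card.1 (hPp.to_subgroup (center (P : Subgroup G)))
      have hZ1 : 1 < Nat.card (center (P : Subgroup G)) := Finite.one_lt_card
      have hi0 : 1 ≤ i := by
        by_contra h
        rw [hi, show i = 0 by omega] at hZ1
        omega
      have hq := (center (P : Subgroup G)).card_mul_index
      have hncyc : ¬ IsCyclic ((P : Subgroup G) ⧸ center (P : Subgroup G)) := fun h => by
        letI := commGroupOfCyclicCenterQuotient (QuotientGroup.mk' (center (P : Subgroup G)))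
          (le_of_eq (QuotientGroup.ker_mk' _))
        exact hb (mul_comm b x)
      obtain ⟨j, -, hj⟩ := (Nat.dvd_prime_pow Nat.prime_two).1
        (hP ▸ (center (P : Subgroup G)).index_dvd_card : (center (P : Subgroup G)).index ∣ 2 ^ 3)
      have hj2 : 2 ≤ j := by
        by_contra h
        apply hncyc
        rcases (show j = 0 ∨ j = 1 by omega) with rfl | rfl
        · haveI : Subsingleton ((P : Subgroup G) ⧸ center (P : Subgroup G)) :=
            (Nat.card_eq_one_iff_unique.1 (by rw [← index_eq_card, hj, pow_zero])).1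
          infer_instance
        · exact isCyclic_of_prime_card (p := 2) (by rw [← index_eq_card, hj, pow_one])
      rw [hi, hj, hP, ← pow_add] at hq
      have hij := Nat.pow_right_injective le_rfl hq
      have hle := hcomm_le (center (P : Subgroup G)) inferInstance (by rw [hj, show j = 2 by omega]; norm_num)
      have hne : commutator (P : Subgroup G) ≠ ⊥ := fun h => hb (by
        have h1 : b * x * b⁻¹ * x⁻¹ ∈ commutator (P : Subgroup G) :=
          commutator_mem_commutator (mem_top b) (mem_top x)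
        rw [h, mem_bot, mul_inv_eq_one, mul_inv_eq_iff_eq_mul] at h1
        exact h1)
      have heq : commutator (P : Subgroup G) = center (P : Subgroup G) := by
        refine eq_of_le_of_card_ge hle ?_
        haveI := (nontrivial_iff_ne_bot _).2 hne
        have := Finite.one_lt_card (α := commutator (P : Subgroup G))
        rw [hi, show i = 1 by omega]
        omega
      show (commutator ↥(P : Subgroup G)).index = 4
      rw [heq, hj, show j = 2 by omega]; norm_num
    · have h8 : 2 ^ 2 ≤ 2 ^ (n - 2) := Nat.pow_le_pow_right (by norm_num) (by omega)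
      have hm' : m = n - 1 := by
        by_contra hne
        have hcop : (2 ^ (n - 2) + 1).Coprime N := by
          rw [hN]
          refine Nat.Coprime.pow_right _ (Nat.coprime_two_right.2 ?_)
          exact ((Nat.even_pow.2 ⟨even_two, by omega⟩).add_one)
        obtain ⟨σ, hσ⟩ := Lib.Char.exists_of_coprime hcop
        have hgk : g ^ (2 ^ (n - 2) + 1) = g := by
          rw [pow_succ, orderOf_dvd_iff_pow_eq_one.1 (by rw [hgo]; exact pow_dvd_pow 2 (by omega)),
            one_mul]
        have hfix := (hst σ _ hσ).1 (by rw [hgk])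
        rcases hmods σ _ hσ hfix with h | h | h
        · rw [Nat.ModEq, Nat.mod_eq_of_lt (by omega), Nat.mod_eq_of_lt (by omega)] at h; omega
        · rw [Nat.ModEq, Nat.mod_eq_of_lt (by omega), Nat.zero_mod] at h; omega
        · rw [Nat.ModEq, Nat.mod_eq_of_lt (by omega), Nat.mod_eq_of_lt (by omega)] at h; omega
      have hxo : orderOf x = N := by rw [hm, hm']
      have hidx : (zpowers x).index = 2 := by
        have h1 := (zpowers x).card_mul_index
        rw [Nat.card_zpowers, hxo, hP, hN, show n = (n - 1) + 1 by omega, pow_succ] at h1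
        exact Nat.eq_of_mul_eq_mul_left (by positivity) h1
      haveI := normal_of_index_eq_two hidx
      obtain ⟨k, hk⟩ := mem_powers_iff_mem_zpowers.2
        ((inferInstance : (zpowers x).Normal).conj_mem x (mem_zpowers x) b)
      simp only at hk
      have hkcop : k.Coprime N := by
        have h1 : orderOf (x ^ k) = N := by
          rw [hk, ← hxo]; exact (MulAut.conj b).orderOf_eq x
        rw [orderOf_pow, hxo] at h1
        rw [Nat.Coprime, Nat.gcd_comm]
        by_contra hg
        have hgd := Nat.gcd_dvd_left N k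
        have hgpos : 0 < N.gcd k := Nat.gcd_pos_of_pos_left _ (NeZero.pos N)
        have := Nat.div_lt_self (NeZero.pos N) (show 1 < N.gcd k by omega)
        omega
      obtain ⟨σ, hσ⟩ := Lib.Char.exists_of_coprime hkcop
      have hgk : IsConj g (g ^ k) := isConj_iff.2 ⟨b, by
        have h1 := congrArg Subtype.val hk
        simpa [hx] using h1.symm⟩
      have hk1 : ¬ k ≡ 1 [MOD N] := fun h => hb (by
        rw [← hxo, ← pow_eq_pow_iff_modEq, hk, pow_one] at h
        exact mul_inv_eq_iff_eq_mul.1 h)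
      have hkm : k + 1 ≡ 0 [MOD N] ∨ k + 1 ≡ 2 ^ (n - 2) [MOD N] :=
        (hmods σ k hσ ((hst σ k hσ).1 hgk)).resolve_left hk1
      have hxk : x ^ (k + 1) * (x ^ 2)⁻¹ ∈ commutator (P : Subgroup G) := by
        have h1 : b * x * b⁻¹ * x⁻¹ ∈ commutator (P : Subgroup G) :=
          commutator_mem_commutator (mem_top b) (mem_top x)
        rw [← hk] at h1
        rw [pow_succ, pow_two, mul_inv_rev, mul_assoc, mul_inv_cancel_left]
        exact h1
      have hsq : x ^ 2 ∈ commutator (P : Subgroup G) := by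
        rcases hkm with h | h <;> rw [← hxo, ← pow_eq_pow_iff_modEq] at h <;> rw [h] at hxk
        · rwa [pow_zero, one_mul, inv_mem_iff] at hxk
        · have h2 : x ^ 2 ^ (n - 2) * (x ^ 2)⁻¹ = (x ^ 2) ^ (2 ^ (n - 3) - 1) := by
            rw [← pow_mul, eq_comm, eq_mul_inv_iff_mul_eq, ← pow_add]
            congr 1
            have e : 2 ^ (n - 2) = 2 * 2 ^ (n - 3) := by rw [← pow_succ']; congr 1; omega
            have := Nat.one_le_two_pow (n := n - 3)
            omega
          rw [h2] at hxk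
          have hodd : (2 ^ (n - 3) - 1).Coprime (orderOf (x ^ 2)) := by
            refine Nat.Coprime.coprime_dvd_right (orderOf_dvd_of_pow_eq_one
              (n := 2 ^ (n - 1)) (by rw [← pow_mul, mul_comm, pow_mul, ← hN, ← hxo,
                pow_orderOf_eq_one, one_pow])) ?_
            refine Nat.Coprime.pow_right _ (Nat.coprime_two_right.2 ?_)
            exact Nat.Even.sub_odd Nat.one_le_two_pow (Nat.even_pow.2 ⟨even_two, by omega⟩) odd_one
          obtain ⟨t, ht⟩ := exists_pow_eq_self_of_coprime hodd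
          rw [← ht]
          exact pow_mem hxk t
      have h4 : (zpowers (x ^ 2)).index = 4 := by
        have h1 := (zpowers (x ^ 2)).card_mul_index
        rw [Nat.card_zpowers, orderOf_pow, hxo, hP] at h1
        have h2 : N.gcd 2 = 2 := Nat.gcd_eq_right ⟨2 ^ (n - 2), hNh⟩
        rw [h2, hNh, Nat.mul_div_cancel_left _ two_pos, show n = (n - 2) + 2 by omega,
          pow_add] at h1
        simp only [Nat.add_sub_cancel] at h1
        exact (Nat.eq_of_mul_eq_mul_left (by positivity) h1).trans (by norm_num)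
      haveI : (zpowers (x ^ 2)).Normal := by
        refine ⟨fun y hy c => ?_⟩
        obtain ⟨i, rfl⟩ := mem_zpowers_iff.1 hy
        obtain ⟨j, hj⟩ := mem_zpowers_iff.1
          ((inferInstance : (zpowers x).Normal).conj_mem x (mem_zpowers x) c)
        refine ⟨j * i, ?_⟩
        show (x ^ 2) ^ (j * i) = c * (x ^ 2) ^ i * c⁻¹
        rw [← conj_zpow, ← conj_pow, ← hj, ← zpow_natCast, ← zpow_natCast, ← zpow_mul, ← zpow_mul,
          ← zpow_mul]
        congr 1; ring
      show (commutator ↥(P : Subgroup G)).index = 4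
      rw [le_antisymm (hcomm_le _ inferInstance h4) (zpowers_le.2 hsq), h4]

end Cfsg.Agent.S4923
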