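import Cfsg.Statements.S4930
import Cfsg.Agent.Lib.Char.OddSquareSum
-- import your own Cfsg.Agent.* helpers here

set_option autoImplicit false
open Cfsg

namespace Cfsg.Agent.S4930

open scoped ComplexConjugate

universe u

variable {G : Type u} [Group G] [Fintype G]

/-- The derived subgroup of the Sylow subgroup, as a subgroup of `G`. -/
def derSub (P : Sylow 2 G) : Subgroup G :=
  (commutator ↥(P : Subgroup G)).map (P : Subgroup G).subtype

theorem derSub_le (P : Sylow 2 G) : derSub P ≤ (P : Subgroup G) := Subgroup.map_subtype_le _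

theorem card_derSub (P : Sylow 2 G) : Nat.card (derSub P) = Nat.card (commutator ↥P) :=
  Subgroup.card_map_of_injective (P : Subgroup G).subtype_injective

theorem derSub_eq (P : Sylow 2 G) : derSub P = ⁅(P : Subgroup G), (P : Subgroup G)⁆ := by
  rw [derSub, commutator_def, Subgroup.map_commutator, ← MonoidHom.range_eq_map,
    Subgroup.range_subtype]

theorem conj_mem_derSub (P : Sylow 2 G) {n : G} (hn : n ∈ Subgroup.normalizer ((P : Subgroup G) : Set G))
    {d : G} (hd : d ∈ derSub P) : n * d * n⁻¹ ∈ derSub P := by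
  rw [derSub_eq] at hd ⊢
  have hmap : ((P : Subgroup G)).map (MulAut.conj n).toMonoidHom ≤ (P : Subgroup G) := by
    rintro _ ⟨y, hy, rfl⟩
    exact (Subgroup.mem_normalizer_iff.mp hn y).mp hy
  have h : n * d * n⁻¹ ∈ (⁅(P : Subgroup G), (P : Subgroup G)⁆).map (MulAut.conj n).toMonoidHom :=
    ⟨d, hd, rfl⟩
  rw [Subgroup.map_commutator] at h
  exact Subgroup.commutator_mono hmap hmap h

/-- The characters of odd degree. -/
abbrev OddChar (G : Type u) [Group G] := {χ : Cfsg.IrrCharacter G // ¬ 2 ∣ Cfsg.charDegree (χ : G → ℂ)}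

theorem core {P : Sylow 2 G} :
    let N := Subgroup.normalizer ((P : Subgroup G) : Set G)
    ∀ [Fintype N] [Fintype (OddChar G)],
    ((derSub P).subgroupOf N).index ≤ ∑ χ : OddChar G, Cfsg.charDegree (χ.1 : G → ℂ) ^ 2 ∧
    (((derSub P).subgroupOf N).index = ∑ χ : OddChar G, Cfsg.charDegree (χ.1 : G → ℂ) ^ 2 ↔
      ∃ K : Subgroup G, K.Normal ∧ K ⊓ N = ⊥ ∧ K ⊔ N = ⊤) := by
  classical
  intro N _ _
  have hPN : (P : Subgroup G) ≤ N := Subgroup.le_normalizer
  have hDN : derSub P ≤ N := (derSub_le P).trans hPN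
  set D := (derSub P).subgroupOf N with hD
  haveI hDn : D.Normal := ⟨fun d hd n => Subgroup.mem_subgroupOf.2
    (conj_mem_derSub P n.2 (Subgroup.mem_subgroupOf.1 hd))⟩
  set P' := (P : Subgroup G).subgroupOf N with hP'
  haveI hP'n : P'.Normal := Subgroup.normal_in_normalizer
  have hNodd : Odd N.index := by
    rw [← Nat.not_even_iff_odd, even_iff_two_dvd]
    exact fun h => P.not_dvd_index (h.trans (Subgroup.index_dvd_of_le hPN))
  have hP'odd : Odd P'.index := by
    rw [← Nat.not_even_iff_odd, even_iff_two_dvd]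
    exact fun h => P.not_dvd_index (h.trans (Subgroup.relIndex_dvd_index_of_le hPN))
  -- the characters of the quotient
  let S := {ψ : Cfsg.IrrCharacter N // ∀ d ∈ D, (ψ : N → ℂ) d = (ψ : N → ℂ) 1}
  have hSodd : ∀ ψ : S, Odd (Cfsg.charDegree (ψ.1 : N → ℂ)) := by
    intro ψ
    obtain ⟨η, hη, hval⟩ := Lib.Char.exists_deflate_irr D ψ.1.2 ψ.2
    haveI := Fintype.ofFinite (N ⧸ D)
    set Pb := P'.map (QuotientGroup.mk' D) with hPb
    haveI : Pb.Normal := Subgroup.Normal.map hP'n _ (QuotientGroup.mk'_surjective D)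
    have hcomm : ∀ a ∈ Pb, ∀ b ∈ Pb, a * b = b * a := by
      rintro _ ⟨a, ha, rfl⟩ _ ⟨b, hb, rfl⟩
      rw [← map_mul, ← map_mul]
      refine QuotientGroup.eq.2 (Subgroup.mem_subgroupOf.2 ?_)
      rw [derSub_eq]
      have h := Subgroup.commutator_mem_commutator
        ((P : Subgroup G).inv_mem (Subgroup.mem_subgroupOf.1 hb))
        ((P : Subgroup G).inv_mem (Subgroup.mem_subgroupOf.1 ha))
      rw [commutatorElement_def, inv_inv, inv_inv] at h
      simpa [mul_assoc] using h
    have hdvd := Lib.Char.degree_dvd_index_of_comm Pb hcomm hη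
      (d := Cfsg.charDegree (ψ.1 : N → ℂ)) ((hval 1).trans (Lib.Char.cast_charDegree ψ.1).symm)
    exact hP'odd.of_dvd_nat (hdvd.trans (P'.index_map_dvd (QuotientGroup.mk'_surjective D)))
  have hex : ∀ ψ : S, ∃ χ : OddChar G,
      Cfsg.classInner (fun x : N => (χ.1 : G → ℂ) x) (ψ.1 : N → ℂ) ≠ 0 := by
    intro ψ
    obtain ⟨χ, hχ, h⟩ := Lib.Char.exists_odd_over N hNodd ψ.1 (hSodd ψ)
    exact ⟨⟨χ, fun h2 => Nat.not_even_iff_odd.2 hχ (even_iff_two_dvd.2 h2)⟩, h⟩
  choose f hf using hex
  choose m hm hmdeg hmexp using fun χ : OddChar G => Lib.Char.exists_res_expansion N χ.1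
  let w : S → ℕ := fun ψ => Cfsg.charDegree (ψ.1 : N → ℂ)
  let fib : OddChar G → Finset S := fun χ => Finset.univ.filter fun ψ => f ψ = χ
  have hm1 : ∀ (χ : OddChar G) (ψ : S), ψ ∈ fib χ → 1 ≤ m χ ψ.1 := by
    intro χ ψ hψ
    have h := hf ψ
    rw [(Finset.mem_filter.1 hψ).2, hm] at h
    exact Nat.pos_of_ne_zero fun h0 => h (by rw [h0, Nat.cast_zero])
  have hfibdeg : ∀ χ : OddChar G, ∑ ψ ∈ fib χ, w ψ ≤ Cfsg.charDegree (χ.1 : G → ℂ) := by
    intro χ
    rw [← hmdeg χ]
    calc ∑ ψ ∈ fib χ, w ψ ≤ ∑ ψ ∈ fib χ, m χ ψ.1 * w ψ :=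
          Finset.sum_le_sum fun ψ hψ => Nat.le_mul_of_pos_left _ (hm1 χ ψ hψ)
      _ = ∑ φ ∈ (fib χ).map (Function.Embedding.subtype _), m χ φ * Cfsg.charDegree (φ : N → ℂ) :=
          (Finset.sum_map (fib χ) (Function.Embedding.subtype _) fun φ : Cfsg.IrrCharacter N => m χ φ * Cfsg.charDegree (φ : N → ℂ)).symm
      _ ≤ _ := Finset.sum_le_sum_of_subset (Finset.subset_univ _)
  have hsq : ∀ χ : OddChar G, ∑ ψ ∈ fib χ, w ψ ^ 2 ≤ Cfsg.charDegree (χ.1 : G → ℂ) ^ 2 := fun χ =>
    (Finset.sum_sq_le_sq_sum_of_nonneg fun _ _ => Nat.zero_le _).trans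
      (Nat.pow_le_pow_left (hfibdeg χ) 2)
  have hindex : D.index = ∑ χ : OddChar G, ∑ ψ ∈ fib χ, w ψ ^ 2 := by
    rw [Finset.sum_fiberwise, Lib.Char.sum_sq_charDegree_quotient D]
  have hle : D.index ≤ ∑ χ : OddChar G, Cfsg.charDegree (χ.1 : G → ℂ) ^ 2 :=
    hindex ▸ Finset.sum_le_sum fun χ _ => hsq χ
  refine ⟨hle, fun heq => ?_, ?_⟩
  · -- restriction is a bijection
    have heach : ∀ χ : OddChar G, ∑ ψ ∈ fib χ, w ψ ^ 2 = Cfsg.charDegree (χ.1 : G → ℂ) ^ 2 :=
      fun χ => (Finset.sum_eq_sum_iff_of_le fun c _ => hsq c).1 (hindex.symm.trans heq) χ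
        (Finset.mem_univ _)
    have hsingle : ∀ χ : OddChar G, ∃ ψ : S, fib χ = {ψ} ∧
        ∀ x : N, (χ.1 : G → ℂ) x = (ψ.1 : N → ℂ) x := by
      intro χ
      have hd := Lib.Char.charDegree_pos' χ.1
      have hne : (fib χ).Nonempty := Finset.nonempty_of_sum_ne_zero (f := fun ψ => w ψ ^ 2) (by
        rw [heach]; exact pow_ne_zero _ hd.ne')
      obtain ⟨ψ, hψ⟩ := hne
      have hrest : ∑ φ ∈ (fib χ).erase ψ, w φ = 0 := by
        by_contra hpos
        have h1 := Finset.add_sum_erase _ w hψ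
        have h2 := Finset.add_sum_erase _ (fun φ => w φ ^ 2) hψ
        have h3 := Finset.sum_sq_le_sq_sum_of_nonneg (s := (fib χ).erase ψ) (f := w)
          fun _ _ => Nat.zero_le _
        have h4 := hfibdeg χ
        have h5 : 0 < w ψ := Lib.Char.charDegree_pos' ψ.1
        rw [heach χ] at h2
        have h6 : 0 < ∑ φ ∈ (fib χ).erase ψ, w φ := Nat.pos_of_ne_zero hpos
        nlinarith [Nat.mul_pos h5 h6, Nat.pow_le_pow_left (h1 ▸ h4) 2]
      have hfibψ : fib χ = {ψ} := by
        refine Finset.eq_singleton_iff_unique_mem.2 ⟨hψ, fun φ hφ => ?_⟩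
        by_contra hφψ
        exact (Lib.Char.charDegree_pos' φ.1).ne'
          (Finset.sum_eq_zero_iff.1 hrest φ (Finset.mem_erase.2 ⟨hφψ, hφ⟩))
      have hwd : w ψ = Cfsg.charDegree (χ.1 : G → ℂ) := by
        have h := heach χ
        rw [hfibψ, Finset.sum_singleton] at h
        exact Nat.pow_left_injective two_ne_zero h
      refine ⟨ψ, hfibψ, ?_⟩
      have h1 := hmdeg χ
      rw [← Finset.add_sum_erase _ _ (Finset.mem_univ ψ.1), ← hwd] at h1
      have h2 := hm1 χ ψ hψ
      have h5 : 0 < w ψ := Lib.Char.charDegree_pos' ψ.1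
      have h6 : m χ ψ.1 = 1 := by
        by_contra hne1
        have : 2 * w ψ ≤ m χ ψ.1 * w ψ := Nat.mul_le_mul_right _ (by omega)
        change m χ ψ.1 * w ψ + _ = w ψ at h1
        omega
      intro x
      rw [hmexp χ x, Finset.sum_eq_single ψ.1 (fun φ _ hφ => ?_)
        (fun h => absurd (Finset.mem_univ _) h), h6, Nat.cast_one, one_mul]
      rw [h6, one_mul] at h1
      have h7 : ∑ φ ∈ Finset.univ.erase ψ.1, m χ φ * Cfsg.charDegree (φ : N → ℂ) = 0 := by
        change w ψ + _ = w ψ at h1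
        omega
      have h8 := Finset.sum_eq_zero_iff.1 h7 φ (Finset.mem_erase.2 ⟨hφ, Finset.mem_univ _⟩)
      rw [(Nat.mul_eq_zero.1 h8).resolve_right (Lib.Char.charDegree_pos' φ).ne', Nat.cast_zero,
        zero_mul]
    have hover : ∀ ψ : S, ∀ x : N, ((f ψ).1 : G → ℂ) x = (ψ.1 : N → ℂ) x := by
      intro ψ
      obtain ⟨φ, hφ, hval⟩ := hsingle (f ψ)
      have h : ψ ∈ fib (f ψ) := Finset.mem_filter.2 ⟨Finset.mem_univ _, rfl⟩
      rw [hφ, Finset.mem_singleton] at h
      rw [h] at hval ⊢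
      exact hval
    -- the two normal subgroups
    let K0 : Subgroup G := ⨅ χ : OddChar G, Lib.Char.charKer χ.1.2.isCharacter
    let L0 : Subgroup G := ⨅ χ : {χ : OddChar G // ∀ x ∈ (P : Subgroup G), (χ.1 : G → ℂ) x = (χ.1 : G → ℂ) 1},
      Lib.Char.charKer χ.1.1.2.isCharacter
    haveI hK0n : K0.Normal := Subgroup.normal_iInf_normal fun χ => Lib.Char.charKer_normal _
    haveI hL0n : L0.Normal := Subgroup.normal_iInf_normal fun χ => Lib.Char.charKer_normal _
    have hKL : K0 ≤ L0 := le_iInf fun χ => iInf_le _ χ.1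
    have hPL : (P : Subgroup G) ≤ L0 := le_iInf fun χ => fun x hx => χ.2 x hx
    have hK0N : ∀ x : N, (x : G) ∈ K0 ↔ x ∈ D := by
      intro x
      refine ⟨fun hx => Lib.Char.mem_of_forall_quotient_irr D fun ψ hψ => ?_, fun hx => ?_⟩
      · have h1 : ((f ⟨ψ, hψ⟩).1 : G → ℂ) x = ((f ⟨ψ, hψ⟩).1 : G → ℂ) 1 :=
          (Subgroup.mem_iInf.1 hx (f ⟨ψ, hψ⟩) :)
        have h2 := hover ⟨ψ, hψ⟩ x
        have h3 := hover ⟨ψ, hψ⟩ 1
        rw [Subgroup.coe_one] at h3
        rw [← h2, h1, h3]
      · refine Subgroup.mem_iInf.2 fun χ => ?_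
        obtain ⟨ψ, -, hval⟩ := hsingle χ
        show (χ.1 : G → ℂ) x = (χ.1 : G → ℂ) 1
        have h3 := hval 1
        rw [Subgroup.coe_one] at h3
        rw [hval x, h3, ψ.2 x hx]
    have hL0N : L0 ⊓ N = (P : Subgroup G) := by
      refine le_antisymm (fun x hx => ?_) (le_inf hPL hPN)
      refine Subgroup.mem_subgroupOf.1
        (Lib.Char.mem_of_forall_quotient_irr P' (x := ⟨x, hx.2⟩) fun ψ hψ => ?_)
      let φ : S := ⟨ψ, fun d hd => hψ d (Subgroup.mem_subgroupOf.2
        (derSub_le P (Subgroup.mem_subgroupOf.1 hd)))⟩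
      have h3 := hover φ 1
      rw [Subgroup.coe_one] at h3
      have hP0 : ∀ y ∈ (P : Subgroup G), ((f φ).1 : G → ℂ) y = ((f φ).1 : G → ℂ) 1 := fun y hy => by
        have h2 := hover φ ⟨y, hPN hy⟩
        rw [h3]
        exact h2.trans (hψ _ (Subgroup.mem_subgroupOf.2 hy))
      have h1 : ((f φ).1 : G → ℂ) x = ((f φ).1 : G → ℂ) 1 :=
        (Subgroup.mem_iInf.1 hx.1 ⟨f φ, hP0⟩ :)
      rw [h3] at h1
      exact (hover φ ⟨x, hx.2⟩).symm.trans h1
    -- transfer in the quotient
    set K0' := K0.subgroupOf L0 with hK0'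
    let P0 : Sylow 2 L0 := P.subtype hPL
    let Pb := P0.mapSurjective (QuotientGroup.mk'_surjective K0')
    have hPb : (Pb : Subgroup (L0 ⧸ K0')) = (P0 : Subgroup L0).map (QuotientGroup.mk' K0') := rfl
    have hnorm : Subgroup.normalizer ((Pb : Subgroup (L0 ⧸ K0')) : Set (L0 ⧸ K0')) ≤
        (Pb : Subgroup (L0 ⧸ K0')) := by
      intro q hq
      obtain ⟨x, rfl⟩ := QuotientGroup.mk_surjective q
      set H := (P0 : Subgroup L0) ⊔ K0' with hH
      have hPH : (P0 : Subgroup L0) ≤ H := le_sup_left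
      have hcomap : H = (Pb : Subgroup (L0 ⧸ K0')).comap (QuotientGroup.mk' K0') := by
        rw [hPb, Subgroup.comap_map_eq, QuotientGroup.ker_mk']
      have hconjH : ((P0 : Subgroup L0)).map (MulAut.conj x).toMonoidHom ≤ H := by
        rintro _ ⟨y, hy, rfl⟩
        rw [hcomap, Subgroup.mem_comap]
        have h := (Subgroup.mem_normalizer_iff.mp hq (QuotientGroup.mk' K0' y)).1 ⟨y, hy, rfl⟩
        simpa [MulAut.conj_apply] using h
      let R : Sylow 2 L0 := x • P0
      have hR : (R : Subgroup L0) ≤ H := hconjH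
      obtain ⟨h, hh⟩ := MulAction.exists_smul_eq H (R.subtype hR) (P0.subtype hPH)
      rw [Sylow.smul_subtype] at hh
      have hfix : ((h : L0) * x) • P0 = P0 := by
        rw [mul_smul]; exact Sylow.subtype_injective hh
      have hmemP : (h : L0) * x ∈ (P0 : Subgroup L0) := by
        have hn : ((h : L0) * x) ∈ Subgroup.normalizer ((P0 : Subgroup L0) : Set L0) :=
          Sylow.smul_eq_iff_mem_normalizer.mp hfix
        rw [Subgroup.mem_normalizer_iff] at hn
        have hmem : (((h : L0) * x : L0) : G) ∈ L0 ⊓ N := by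
          refine ⟨((h : L0) * x).2, Subgroup.mem_normalizer_iff.2 fun y => ?_⟩
          constructor
          · intro hy
            exact (hn ⟨y, hPL hy⟩).1 hy
          · intro hy
            have hyL : y ∈ L0 := by
              have h' := L0.mul_mem (L0.mul_mem (L0.inv_mem ((h : L0) * x).2) (hPL hy))
                ((h : L0) * x).2
              simpa [mul_assoc] using h'
            exact (hn ⟨y, hyL⟩).2 hy
        rw [hL0N] at hmem
        exact hmem
      have hxH : x ∈ H := by
        have := H.mul_mem (H.inv_mem h.2) (hPH hmemP)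
        rwa [inv_mul_cancel_left] at this
      rw [hcomap] at hxH
      exact hxH
    have hPbcomm : (Pb : Subgroup (L0 ⧸ K0')) ≤
        Subgroup.centralizer ((Pb : Subgroup (L0 ⧸ K0')) : Set (L0 ⧸ K0')) := by
      intro a ha
      rw [Subgroup.mem_centralizer_iff]
      intro b hb
      rw [hPb] at ha
      rw [SetLike.mem_coe, hPb] at hb
      obtain ⟨a, ha, rfl⟩ := ha
      obtain ⟨b, hb, rfl⟩ := hb
      rw [← map_mul, ← map_mul]
      refine QuotientGroup.eq.2 (Subgroup.mem_subgroupOf.2 ?_)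
      have h := Subgroup.commutator_mem_commutator ((P : Subgroup G).inv_mem (show (a : G) ∈ (P : Subgroup G) from ha))
        ((P : Subgroup G).inv_mem (show (b : G) ∈ (P : Subgroup G) from hb))
      rw [commutatorElement_def, inv_inv, inv_inv, ← derSub_eq] at h
      have h2 := (hK0N ⟨_, hDN h⟩).2 (Subgroup.mem_subgroupOf.2 h)
      simpa [mul_assoc] using h2
    have hNC := hnorm.trans hPbcomm
    set Kb := (MonoidHom.transferSylow Pb hNC).ker with hKb
    have hcomp := MonoidHom.ker_transferSylow_isComplement' Pb hNC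
    set K1 : Subgroup L0 := Kb.comap (QuotientGroup.mk' K0') with hK1
    haveI : K1.Normal := Subgroup.Normal.comap inferInstance _
    have hK1P : K1 ⊓ (P0 : Subgroup L0) ≤ (frattini P0).map (P0 : Subgroup L0).subtype := by
      rintro y ⟨hy1, hy2⟩
      have h1 : QuotientGroup.mk' K0' y ∈ Kb ⊓ (Pb : Subgroup (L0 ⧸ K0')) := ⟨hy1, y, hy2, rfl⟩
      rw [disjoint_iff.1 hcomp.disjoint, Subgroup.mem_bot, QuotientGroup.mk'_apply,
        QuotientGroup.eq_one_iff] at h1
      have hyD : (y : G) ∈ derSub P := Subgroup.mem_subgroupOf.1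
        ((hK0N ⟨(y : G), hPN hy2⟩).1 h1)
      rw [derSub] at hyD
      obtain ⟨z, hz, hzy⟩ := hyD
      let e : (P : Subgroup G) ≃* (P0 : Subgroup L0) := (Subgroup.subgroupOfEquivOfLe hPL).symm
      exact ⟨e z, frattini_le_comap_frattini_of_surjective (φ := e.toMonoidHom) e.surjective
        (Lib.PGroup.commutator_le_frattini P.2 hz), Subtype.ext hzy⟩
    have hK1c : Cfsg.HasNormalPComplement 2 K1 := Cfsg.Agent.S0081.result P0 K1 hK1P
    -- the complement
    set R := (Cfsg.pResidual 2 K1).map K1.subtype with hR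
    haveI : (Cfsg.pResidual 2 K1).Characteristic :=
      Subgroup.characteristic_iff_map_eq.mpr fun φ => Lib.Fusion.map_pResidual_equiv φ
    haveI hRn : R.Normal := inferInstance
    have hcopR : (Nat.card R).Coprime 2 := by
      rw [hR, Subgroup.card_map_of_injective K1.subtype_injective]
      exact Lib.Fusion.hasNormalPComplement_iff_coprime.1 hK1c
    have hpQ : IsPGroup 2 (L0 ⧸ R) := by
      intro q
      obtain ⟨y, rfl⟩ := QuotientGroup.mk_surjective q
      obtain ⟨j, hj⟩ := (show IsPGroup 2 ↥(Pb : Subgroup (L0 ⧸ K0')) from Pb.2) ⟨_,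
        Subtype.mem (MonoidHom.transferSylow Pb hNC (QuotientGroup.mk' K0' y))⟩
      have hy1 : y ^ 2 ^ j ∈ K1 := by
        rw [hK1, Subgroup.mem_comap, hKb, MonoidHom.mem_ker, map_pow, map_pow]
        exact Subtype.ext (congrArg Subtype.val hj)
      obtain ⟨i, hi⟩ := Lib.Fusion.isPGroup_quotient_pResidual (p := 2) (G := K1)
        (QuotientGroup.mk ⟨y ^ 2 ^ j, hy1⟩)
      rw [← QuotientGroup.mk_pow, QuotientGroup.eq_one_iff] at hi
      refine ⟨j + i, ?_⟩
      rw [← QuotientGroup.mk_pow, QuotientGroup.eq_one_iff, pow_add, pow_mul]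
      exact ⟨_, hi, rfl⟩
    have hL0c := Lib.Fusion.hasNormalPComplement_of_normal R hcopR hpQ
    set K := (Cfsg.pResidual 2 L0).map L0.subtype with hKdef
    haveI : (Cfsg.pResidual 2 L0).Characteristic :=
      Subgroup.characteristic_iff_map_eq.mpr fun φ => Lib.Fusion.map_pResidual_equiv φ
    have hKn : K.Normal := inferInstance
    have hKcop : (Nat.card K).Coprime 2 := by
      rw [hKdef, Subgroup.card_map_of_injective L0.subtype_injective]
      exact Lib.Fusion.hasNormalPComplement_iff_coprime.1 hL0c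
    refine ⟨K, hKn, ?_, ?_⟩
    · obtain ⟨j, hj⟩ := IsPGroup.iff_card.1 P.2
      have h := Subgroup.inf_eq_bot_of_coprime (H := K) (K := (P : Subgroup G))
        (by rw [hj]; exact hKcop.pow_right j)
      refine eq_bot_iff.2 (le_trans (le_inf inf_le_left ?_) h.le)
      exact (inf_le_inf_right N (Subgroup.map_subtype_le _)).trans hL0N.le
    · rw [eq_top_iff, ← Sylow.normalizer_sup_eq_top' P hPL]
      refine sup_le le_sup_right fun y hy => ?_
      have hq := Lib.Fusion.isPGroup_quotient_pResidual (p := 2) (G := L0)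
      have hsup : Cfsg.pResidual 2 L0 ⊔ (P0 : Subgroup L0) = ⊤ := by
        refine Subgroup.index_eq_one.1 (Nat.dvd_one.1 ?_)
        obtain ⟨j, hj⟩ := IsPGroup.iff_card.1 hq
        have h1 : (Cfsg.pResidual 2 L0 ⊔ (P0 : Subgroup L0)).index ∣ 2 ^ j := by
          rw [← hj, ← Subgroup.index_eq_card]
          exact Subgroup.index_dvd_of_le le_sup_left
        exact (Nat.Coprime.pow_left j (Nat.prime_two.coprime_iff_not_dvd.2 fun h =>
          P0.not_dvd_index (h.trans (Subgroup.index_dvd_of_le le_sup_right)))).symm.dvd_of_dvd_mul_left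
          (by rw [mul_one]; exact h1)
      have h2 : (⟨y, hy⟩ : L0) ∈ Cfsg.pResidual 2 L0 ⊔ (P0 : Subgroup L0) := hsup ▸ Subgroup.mem_top _
      obtain ⟨a, ha, b, hb, hab⟩ := Subgroup.mem_sup_of_normal_left.1 h2
      rw [show y = (a : G) * (b : G) from (congrArg Subtype.val hab).symm]
      exact Subgroup.mul_mem _ (Subgroup.mem_sup_left ⟨a, ha, rfl⟩)
        (Subgroup.mem_sup_right (hPN hb))
  · rintro ⟨K, hKn, hKN, hsup⟩
    haveI := hKn
    haveI := Fintype.ofFinite K
    refine le_antisymm hle ?_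
    have hdec : ∀ g : G, ∃ k ∈ K, ∃ n ∈ N, k * n = g := fun g =>
      Subgroup.mem_sup_of_normal_left.1 (hsup ▸ Subgroup.mem_top g)
    have hKP : Subgroup.normalizer (K : Set G) = ⊤ := Subgroup.normalizer_eq_top_iff.2 hKn
    letI act : MulAction (P : Subgroup G) K :=
      { smul := fun a k => ⟨(a : G) * k * (a : G)⁻¹, hKn.conj_mem k k.2 a⟩
        one_smul := fun k => Subtype.ext (by show ((1 : (P : Subgroup G)) : G) * _ * _ = _; simp)
        mul_smul := fun a b k => Subtype.ext (by
          show ((a * b : (P : Subgroup G)) : G) * _ * _ = (a : G) * ((b : G) * k * (b : G)⁻¹) * _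
          push_cast; group) }
    have hfixK : ∀ k : K, (∀ a : (P : Subgroup G), a • k = k) ↔ k = 1 := by
      intro k
      constructor
      · intro h
        have hk : (k : G) ∈ N := Subgroup.mem_normalizer_iff.2 fun y => by
          have hc : ∀ a ∈ (P : Subgroup G), (k : G) * a * (k : G)⁻¹ = a := fun a ha => by
            have h1 : a * (k : G) * a⁻¹ = k := congrArg Subtype.val (h ⟨a, ha⟩)
            have h2 : a * (k : G) = (k : G) * a := mul_inv_eq_iff_eq_mul.1 h1
            rw [← h2, mul_assoc, mul_inv_cancel, mul_one]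
          refine ⟨fun hy => by rw [hc y hy]; exact hy, fun hy => ?_⟩
          have h3 := hc _ hy
          have h4 : (k : G) * y * (k : G)⁻¹ = y :=
            mul_left_cancel (a := (k : G)) (mul_right_cancel (b := (k : G)⁻¹) h3)
          rwa [h4] at hy
        have h5 : (k : G) ∈ K ⊓ N := ⟨k.2, hk⟩
        rw [hKN, Subgroup.mem_bot] at h5
        exact Subtype.ext h5
      · rintro rfl a
        exact Subtype.ext (by show (a : G) * 1 * (a : G)⁻¹ = 1; simp)
    have hker : ∀ χ : OddChar G, ∀ k ∈ K, (χ.1 : G → ℂ) k = (χ.1 : G → ℂ) 1 := by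
      intro χ
      obtain ⟨w, hw, hsum⟩ := Lib.Char.exists_sum_eq_fixed (P.2) (fun k : K => (χ.1 : G → ℂ) k)
        (fun a k => χ.1.2.isCharacter.conj_invariant (k : G) (a : G))
        (fun k => χ.1.2.isCharacter.isIntegral _) 1 hfixK
      have hne : Cfsg.classInner (fun k : K => (χ.1 : G → ℂ) k) (fun _ => 1) ≠ 0 := by
        intro h0
        rw [Cfsg.classInner] at h0
        simp only [map_one, mul_one] at h0
        have h1 : ∑ k : K, (χ.1 : G → ℂ) k = 0 := by
          exact (mul_eq_zero.1 h0).resolve_left (inv_ne_zero (Nat.cast_ne_zero.2 Nat.card_pos.ne'))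
        rw [h1] at hsum
        simp only [Subgroup.coe_one, ← Lib.Char.cast_charDegree] at hsum
        have h2 : ((-(Cfsg.charDegree (χ.1 : G → ℂ) : ℚ) / 2 : ℚ) : ℂ) = w := by
          push_cast
          push_cast at hsum
          linear_combination (1 / 2 : ℂ) * hsum
        obtain ⟨z, hz⟩ := Lib.Char.exists_int_of_isIntegral_rat (h2 ▸ hw)
        have h3 : ((Cfsg.charDegree (χ.1 : G → ℂ) : ℤ) : ℚ) = ((-2 * z : ℤ) : ℚ) := by
          push_cast; linarith
        exact χ.2 (Int.natCast_dvd_natCast.1 ⟨-z, by rw [Int.cast_inj.1 h3]; ring⟩)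
      intro k hk
      refine Lib.Char.apply_eq_of_constituent (Lib.Char.isCharacter_indFun K Lib.Char.isIrrCharacter_one.isCharacter) χ.1.2 ?_
        (Lib.Char.indFun_one_apply K ⟨k, hk⟩)
      rw [Lib.Char.classInner_indFun K _ χ.1.2.isClassFunction, ← Lib.Char.classInner_conj_symm]
      exact fun h => hne ((map_eq_zero _).1 h)
    have hresirr : ∀ χ : OddChar G, ∃ ψ : S, ∀ x : N, (χ.1 : G → ℂ) x = (ψ.1 : N → ℂ) x := by
      intro χ
      obtain ⟨n, ρ, hρ, hρχ⟩ := χ.1.2
      have hρk : ∀ k ∈ K, ρ k = LinearMap.id := fun k hk => by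
        have h := hker χ k hk
        rw [← hρχ, Representation.char_one] at h
        exact (Lib.Char.character_eq_finrank_iff ρ k).1 h
      have hirr : Representation.IsIrreducible (ρ.comp N.subtype : Representation ℂ N (Fin n → ℂ)) := by
        rw [Lib.Char.isIrreducible_iff_submodule] at hρ ⊢
        refine ⟨hρ.1, fun q hq => hρ.2 q fun g x hx => ?_⟩
        obtain ⟨k, hk, y, hy, rfl⟩ := hdec g
        rw [map_mul, hρk k hk]
        exact hq ⟨y, hy⟩ x hx
      haveI := hirr
      let ψ : Cfsg.IrrCharacter N :=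
        ⟨_, Lib.Char.isIrrCharacter_character (ρ.comp N.subtype : Representation ℂ N (Fin n → ℂ))⟩
      have hval : ∀ x : N, (χ.1 : G → ℂ) x = (ψ : N → ℂ) x := fun x => (congrFun hρχ (x : G)).symm
      have hψ1 : Cfsg.charDegree (ψ : N → ℂ) = Cfsg.charDegree (χ.1 : G → ℂ) := by
        have h := hval 1
        rw [Subgroup.coe_one, ← Lib.Char.cast_charDegree, ← Lib.Char.cast_charDegree] at h
        exact (Nat.cast_inj.1 h).symm
      haveI := Fintype.ofFinite P'
      haveI := Fintype.ofFinite D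
      obtain ⟨m', hm', hdeg', hexp'⟩ := Lib.Char.exists_res_expansion P' ψ
      -- a linear constituent on the Sylow subgroup
      obtain ⟨μ, hμ⟩ : ∃ μ : Cfsg.IrrCharacter P', Odd (m' μ * Cfsg.charDegree (μ : P' → ℂ)) := by
        by_contra hcon
        push Not at hcon
        refine χ.2 (hψ1 ▸ hdeg' ▸ Finset.dvd_sum fun μ _ => ?_)
        exact even_iff_two_dvd.1 (Nat.not_odd_iff_even.1 (hcon μ))
      have hμ1 : Cfsg.charDegree (μ : P' → ℂ) = 1 := by
        obtain ⟨j, hj⟩ := IsPGroup.iff_card.1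
          (P.2.of_equiv (Subgroup.subgroupOfEquivOfLe hPN).symm : IsPGroup 2 P')
        have h1 := Lib.Char.degree_dvd_card μ.2 (Lib.Char.cast_charDegree μ).symm
        rw [hj] at h1
        obtain ⟨i, -, hi⟩ := (Nat.dvd_prime_pow Nat.prime_two).1 h1
        rcases Nat.eq_zero_or_pos i with rfl | hpos
        · rw [hi, pow_zero]
        · have := (Nat.odd_mul.1 hμ).2
          rw [hi] at this
          exact absurd (even_two.pow_of_ne_zero hpos.ne') (Nat.not_even_iff_odd.2 this)
      have hμD : ∀ x : P', (x : N) ∈ D → (μ : P' → ℂ) x = (μ : P' → ℂ) 1 := by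
        intro x hx
        obtain ⟨nμ, ρμ, hρμ, hρμv⟩ := μ.2
        have hn1 : nμ = 1 := by
          have h := congrFun hρμv 1
          rw [Representation.char_one, Module.finrank_fintype_fun_eq_card, Fintype.card_fin,
            ← Lib.Char.cast_charDegree, hμ1] at h
          exact_mod_cast h
        subst hn1
        obtain ⟨z, hz, hzx⟩ := (Subgroup.mem_subgroupOf.1 hx : ((x : N) : G) ∈ derSub P)
        let e : (P : Subgroup G) ≃* P' := (Subgroup.subgroupOfEquivOfLe hPN).symm
        have hxz : e z = x := Subtype.ext (Subtype.ext hzx)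
        have hker' : commutator (P : Subgroup G) ≤ (ρμ.comp e.toMonoidHom).toHomUnits.ker := by
          rw [commutator_def, Subgroup.commutator_le]
          intro a _ b _
          rw [MonoidHom.mem_ker, map_commutatorElement, commutatorElement_eq_one_iff_mul_comm]
          apply Units.ext
          refine LinearMap.ext fun v => ?_
          show ρμ (e a) (ρμ (e b) v) = ρμ (e b) (ρμ (e a) v)
          have hsmul : ∀ (T : Module.End ℂ (Fin 1 → ℂ)) (v : Fin 1 → ℂ), T v = T (fun _ => 1) 0 • v := by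
            intro T v
            have hv : v = v 0 • (fun _ : Fin 1 => (1 : ℂ)) := funext fun i => by
              rw [Fin.fin_one_eq_zero i]; simp
            funext i
            rw [Fin.fin_one_eq_zero i]
            conv_lhs => rw [hv, map_smul]
            simp [mul_comm]
          rw [hsmul (ρμ (e b)) v, map_smul, hsmul (ρμ (e a)) v, map_smul, smul_comm,
            hsmul (ρμ (e b)) v]
        have hone : ρμ x = 1 := hxz ▸ congrArg Units.val (MonoidHom.mem_ker.1 (hker' hz))
        rw [← hρμv]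
        show LinearMap.trace ℂ _ (ρμ x) = LinearMap.trace ℂ _ (ρμ 1)
        rw [hone, show ρμ 1 = 1 from map_one ρμ]
      have hψD : ∀ y ∈ D, (ψ : N → ℂ) y = (ψ : N → ℂ) 1 := by
        intro y hy
        have hDP : D ≤ P' := fun z hz => Subgroup.mem_subgroupOf.2
          (derSub_le P (Subgroup.mem_subgroupOf.1 hz))
        refine Lib.Char.apply_eq_of_constituent
          (Lib.Char.isCharacter_indFun D Lib.Char.isIrrCharacter_one.isCharacter) ψ.2 ?_
          (Lib.Char.indFun_one_apply D ⟨y, hy⟩)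
        rw [Lib.Char.classInner_indFun D _ ψ.2.isClassFunction, ← Lib.Char.classInner_conj_symm]
        refine fun h => ?_
        have h0 := (map_eq_zero _).1 h
        rw [Cfsg.classInner] at h0
        simp only [map_one, mul_one] at h0
        have hsumD : ∑ z : D, (ψ : N → ℂ) z = 0 := by
          exact (mul_eq_zero.1 h0).resolve_left (inv_ne_zero (Nat.cast_ne_zero.2 Nat.card_pos.ne'))
        choose mD hmD using fun κ : Cfsg.IrrCharacter P' =>
          (κ.2.isCharacter.comp (Subgroup.inclusion hDP)).exists_nat_classInner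
            (Lib.Char.isIrrCharacter_one (G := D)).isCharacter
        have hmD' : ∀ κ : Cfsg.IrrCharacter P',
            ∑ z : D, (κ : P' → ℂ) (Subgroup.inclusion hDP z) = (Fintype.card D : ℂ) * mD κ := by
          intro κ
          have h := hmD κ
          rw [Cfsg.classInner] at h
          simp only [map_one, mul_one] at h
          rw [inv_mul_eq_iff_eq_mul₀ (Nat.cast_ne_zero.2 Nat.card_pos.ne'),
            Nat.card_eq_fintype_card] at h
          exact h
        have hsum2 : ((∑ κ, m' κ * (Fintype.card D * mD κ) : ℕ) : ℂ) = ((0 : ℕ) : ℂ) := by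
          push_cast
          simp only [← hmD', Finset.mul_sum]
          rw [Finset.sum_comm, ← hsumD]
          exact Finset.sum_congr rfl fun z _ => (hexp' (Subgroup.inclusion hDP z)).symm
        have h7 := Finset.sum_eq_zero_iff.1 (Nat.cast_inj.1 hsum2) μ (Finset.mem_univ _)
        rcases Nat.mul_eq_zero.1 h7 with h8 | h8
        · exact (Nat.odd_mul.1 hμ).1.pos.ne' h8
        rcases Nat.mul_eq_zero.1 h8 with h9 | h9
        · exact Fintype.card_ne_zero h9
        have h10 := hmD' μ
        rw [h9, Nat.cast_zero, mul_zero, Finset.sum_congr rfl fun z _ =>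
          hμD (Subgroup.inclusion hDP z) z.2, Finset.sum_const, nsmul_eq_mul,
          ← Lib.Char.cast_charDegree, hμ1, Nat.cast_one, mul_one] at h10
        exact Nat.cast_ne_zero.2 Finset.univ_nonempty.card_pos.ne' h10
      exact ⟨⟨ψ, hψD⟩, hval⟩
    choose r hr using hresirr
    have hrinj : Function.Injective r := by
      intro χ χ' h
      refine Subtype.ext (Subtype.ext (funext fun g => ?_))
      obtain ⟨k, hk, y, hy, rfl⟩ := hdec g
      rw [χ.1.2.isCharacter.apply_mul_of_mem_ker (hker χ k hk),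
        χ'.1.2.isCharacter.apply_mul_of_mem_ker (hker χ' k hk)]
      exact (hr χ ⟨y, hy⟩).trans ((h ▸ hr χ' ⟨y, hy⟩).symm)
    calc ∑ χ : OddChar G, Cfsg.charDegree (χ.1 : G → ℂ) ^ 2 = ∑ χ : OddChar G, w (r χ) ^ 2 :=
          Finset.sum_congr rfl fun χ _ => by
            have h := hr χ 1
            rw [Subgroup.coe_one, ← Lib.Char.cast_charDegree, ← Lib.Char.cast_charDegree] at h
            rw [Nat.cast_inj.1 h]
      _ = ∑ ψ ∈ Finset.univ.map ⟨r, hrinj⟩, w ψ ^ 2 := (Finset.sum_map _ ⟨r, hrinj⟩ fun ψ => w ψ ^ 2).symm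
      _ ≤ ∑ ψ : S, w ψ ^ 2 := Finset.sum_le_sum_of_subset (Finset.subset_univ _)
      _ = D.index := Lib.Char.sum_sq_charDegree_quotient D


/-- Let G be a finite group, P a Sylow 2-subgroup of G with normalizer N, and P′ the commutator subgroup of P. Then the sum of the squares of the degrees of the irreducible complex characters of G of odd degree is at least the index of P′ in N (the order of N divided by the order of P′), and equality holds if and only if N has a normal complement in G: a normal subgroup K of G with K ∩ N = 1 and KN = G. -/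
theorem result {G : Type*} [Group G] [Finite G] (P : Sylow 2 G) :
    Nat.card (Subgroup.normalizer ((P : Subgroup G) : Set G)) ≤ Nat.card (commutator ↥P) * (∑ᶠ χ : {χ : Cfsg.IrrCharacter G // ¬ 2 ∣ Cfsg.charDegree (χ : G → ℂ)}, Cfsg.charDegree (χ.1 : G → ℂ) ^ 2) ∧
    (Nat.card (Subgroup.normalizer ((P : Subgroup G) : Set G)) = Nat.card (commutator ↥P) * (∑ᶠ χ : {χ : Cfsg.IrrCharacter G // ¬ 2 ∣ Cfsg.charDegree (χ : G → ℂ)}, Cfsg.charDegree (χ.1 : G → ℂ) ^ 2) ↔
      ∃ K : Subgroup G, K.Normal ∧ K ⊓ Subgroup.normalizer ((P : Subgroup G) : Set G) = ⊥ ∧ K ⊔ Subgroup.normalizer ((P : Subgroup G) : Set G) = ⊤) := by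
  classical
  haveI := Fintype.ofFinite G
  haveI := Fintype.ofFinite (Subgroup.normalizer ((P : Subgroup G) : Set G))
  haveI := Fintype.ofFinite (OddChar G)
  obtain ⟨h1, h2⟩ := core (P := P)
  have hDN : derSub P ≤ Subgroup.normalizer ((P : Subgroup G) : Set G) :=
    (derSub_le P).trans Subgroup.le_normalizer
  have hcard : Nat.card (Subgroup.normalizer ((P : Subgroup G) : Set G)) =
      Nat.card (commutator ↥P) * ((derSub P).subgroupOf (Subgroup.normalizer ((P : Subgroup G) : Set G))).index := by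
    rw [← Subgroup.card_mul_index ((derSub P).subgroupOf
      (Subgroup.normalizer ((P : Subgroup G) : Set G))),
      Nat.card_congr (Subgroup.subgroupOfEquivOfLe hDN).toEquiv, card_derSub]
  rw [finsum_eq_sum_of_fintype, hcard]
  exact ⟨Nat.mul_le_mul_left _ h1,
    (Nat.mul_left_cancel_iff Nat.card_pos).trans h2⟩

end Cfsg.Agent.S4930
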