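import Cfsg.Statements.S4937
import Cfsg.Agent.Lib.Block.CentralizerTwist

set_option autoImplicit false
open Cfsg

set_option linter.style.haveILetI false

namespace Cfsg.Agent.S4937

/-- Let G be a finite group, p a prime, M a maximal ideal of the algebraic integers containing p, N a normal subgroup of G and P a Sylow p-subgroup of N such that G = N·C_G(P). Let θ be an irreducible character in the principal p-block of N that is the restriction of some irreducible character of G. Then θ is the restriction of an irreducible character χ of G lying in the principal p-block of G such that, for every subgroup J of G containing N, the restriction of χ to J is an irreducible character of J lying in the principal p-block of J. -/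
theorem result {G : Type*} [Group G] [Finite G] (p : ℕ) [Fact p.Prime] (M : Ideal Cfsg.AlgInt) (hM : Cfsg.IsPModular p M) (N : Subgroup G) [N.Normal] (P : Sylow p ↥N)
    (hcov : N ⊔ Subgroup.centralizer (((P : Subgroup ↥N).map N.subtype : Subgroup G) : Set G) = ⊤)
    (θ : Cfsg.IrrCharacter ↥N) (hθ : θ ∈ Cfsg.principalBlock M ↥N)
    (hext : ∃ ψ : Cfsg.IrrCharacter G, ∀ x : ↥N, (ψ : G → ℂ) x = (θ : ↥N → ℂ) x) :
    ∃ χ : Cfsg.IrrCharacter G, χ ∈ Cfsg.principalBlock M G ∧ (∀ x : ↥N, (χ : G → ℂ) x = (θ : ↥N → ℂ) x) ∧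
      ∀ J : Subgroup G, N ≤ J → ∃ ξ : Cfsg.IrrCharacter ↥J, ξ ∈ Cfsg.principalBlock M ↥J ∧ ∀ y : ↥J, (ξ : ↥J → ℂ) y = (χ : G → ℂ) y := by
  classical
  haveI := Fintype.ofFinite G
  haveI := Fintype.ofFinite N
  obtain ⟨χ, hres, hJ⟩ := Lib.Block.exists_principal_extension N hM P hcov θ hθ hext
  refine ⟨χ, ?_, hres, hJ⟩
  obtain ⟨ξ, hξ, hval⟩ := hJ ⊤ le_top
  -- transport from the whole group seen as a subgroup
  intro g
  have h := hξ (⟨g, Subgroup.mem_top g⟩ : (⊤ : Subgroup G))
  have hidx : (Subgroup.centralizer ({(⟨g, Subgroup.mem_top g⟩ : (⊤ : Subgroup G))} : Set (⊤ : Subgroup G))).index =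
      (Subgroup.centralizer ({g} : Set G)).index := by
    rw [← Subgroup.index_map_equiv (Subgroup.centralizer
      ({(⟨g, Subgroup.mem_top g⟩ : (⊤ : Subgroup G))} : Set (⊤ : Subgroup G))) Subgroup.topEquiv]
    congr 1
    ext x
    simp only [Subgroup.mem_map, Subgroup.mem_centralizer_singleton_iff]
    constructor
    · rintro ⟨y, hy, rfl⟩
      exact congrArg Subtype.val hy
    · intro hx
      exact ⟨⟨x, Subgroup.mem_top x⟩, Subtype.ext hx, rfl⟩
  simp only [centralChar, hidx, hval] at h ⊢
  exact h

end Cfsg.Agent.S4937
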