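import Cfsg.Statements.S4955
import Cfsg.Agent.Lib.Block.CycEstimate
import Cfsg.Agent.Lib.Block.RegInt
import Cfsg.Agent.Lib.Block.LocalRing
import Cfsg.Agent.Lib.Char.Ito
import Cfsg.Agent.Lib.Char.Quotient
import Mathlib.GroupTheory.Complement

set_option autoImplicit false
open Cfsg

namespace Cfsg.Agent.S4955

/-- Let X be a finite group with an abelian normal Sylow p-subgroup V (a normal p-subgroup of index prime to p in which any two elements commute), and let G be a complement to V in X. Then for every v in V, writing C for the centralizer of v in G, the number k(X) of conjugacy classes of X satisfies k(X) ≤ (order of C)·(order of V) − ((order of G) − k(G)); the statement is written with the subtracted term moved to the left. In particular, if some v in V is centralized by no nonidentity element of G, then k(X) is at most the order of V. -/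
theorem result {X : Type*} [Group X] [Finite X] (p : ℕ) [Fact p.Prime] (V : Subgroup X) [V.Normal] (hVp : IsPGroup p V) (hidx : ¬ p ∣ V.index) (hab : ∀ a ∈ V, ∀ b ∈ V, a * b = b * a) (G : Subgroup X) (hGV : Subgroup.IsComplement' V G) (v : X) (hv : v ∈ V) : Nat.card (ConjClasses X) + Nat.card G ≤ Nat.card ↥(G ⊓ Subgroup.centralizer ({v} : Set X)) * Nat.card V + Nat.card (ConjClasses G) := by
  classical
  haveI := Fintype.ofFinite X
  haveI : NeZero (Nat.card X) := ⟨Nat.card_pos.ne'⟩
  obtain ⟨M, hM⟩ := Cfsg.Lib.Block.exists_isPModular (Fact.out : p.Prime)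
  obtain ⟨k, hk⟩ := hVp ⟨v, hv⟩
  have hvk : v ^ p ^ k = 1 := congrArg Subtype.val hk
  have hne : ∀ χ : Cfsg.IrrCharacter X, (χ : X → ℂ) v ≠ 0 := by
    intro χ h0
    obtain ⟨n, μ, hμ, hval⟩ := Cfsg.Lib.Char.exists_sum_roots χ.2.isCharacter v
    have h1 : (χ : X → ℂ) v = ∑ i, μ i := by simpa using hval 1
    have hn : (χ : X → ℂ) 1 = (n : ℂ) := by simpa using hval 0
    have h2 : Cfsg.MemLocalIdeal M (∑ i, (μ i - 1)) :=
      Cfsg.Lib.Block.memLocalIdeal_sum hM _ _ fun i _ =>
        Cfsg.Lib.Block.memLocalIdeal_sub_one_of_pow_prime_pow hM (k := k)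
          (orderOf_dvd_iff_pow_eq_one.1 ((orderOf_dvd_of_pow_eq_one (hμ i)).trans
            (orderOf_dvd_of_pow_eq_one hvk)))
    rw [Finset.sum_sub_distrib, ← h1, h0, zero_sub] at h2
    have h3 := Cfsg.Lib.Block.memLocalIdeal_neg hM h2
    simp only [Finset.sum_const, Finset.card_univ, Fintype.card_fin, nsmul_eq_mul, mul_one,
      neg_neg] at h3
    exact hidx (((Cfsg.Lib.Block.memLocalIdeal_natCast_iff hM n).1 h3).trans
      (Cfsg.Lib.Char.degree_dvd_index_of_comm V hab χ.2 hn))
  let T : Finset (Cfsg.IrrCharacter X) :=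
    Finset.univ.filter fun χ => ∀ u ∈ V, (χ : X → ℂ) u = (χ : X → ℂ) 1
  let eG : G ≃* X ⧸ V := (Subgroup.IsComplement'.QuotientMulEquiv hGV.symm).symm
  have hTcard : T.card = Nat.card (ConjClasses G) := by
    rw [← Cfsg.Lib.Char.card_irr_eq_card_conjClasses (G := G)]
    have e1 : Nat.card (Cfsg.IrrCharacter (X ⧸ V)) = T.card := by
      rw [Nat.card_congr (Cfsg.Lib.Char.irrQuotientEquiv V), Nat.card_eq_fintype_card,
        Fintype.card_subtype]
    rw [← e1, Cfsg.Lib.Char.card_irr_eq_card_conjClasses, Cfsg.Lib.Char.card_irr_eq_card_conjClasses]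
    refine Nat.card_congr (Equiv.ofBijective (ConjClasses.map eG.symm.toMonoidHom) ⟨?_, ?_⟩)
    · intro A B h
      induction A using Quotient.inductionOn with | _ a => ?_
      induction B using Quotient.inductionOn with | _ b => ?_
      obtain ⟨c, hc⟩ := isConj_iff.1 (ConjClasses.mk_eq_mk_iff_isConj.1 h)
      refine Quotient.sound (isConj_iff.2 ⟨eG c, eG.symm.injective ?_⟩)
      simpa using hc
    · exact ConjClasses.map_surjective eG.symm.surjective
  have hTsum : ∑ χ ∈ T, (χ : X → ℂ) v * (starRingEnd ℂ) ((χ : X → ℂ) v) = (Nat.card G : ℂ) := by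
    rw [Nat.card_congr eG.toEquiv, ← Cfsg.Lib.Char.sum_sq_degree (G := X ⧸ V),
      ← Equiv.sum_comp (Cfsg.Lib.Char.irrQuotientEquiv V).symm, ← Finset.sum_coe_sort]
    refine Fintype.sum_equiv (Equiv.subtypeEquivRight (by simp [T])) _ _ fun χ => ?_
    obtain ⟨n, hn⟩ := χ.1.2.isCharacter.exists_degree
    have hχ := (Finset.mem_filter.1 χ.2).2 v hv
    generalize hψ : (Cfsg.Lib.Char.irrQuotientEquiv V).symm _ = ψ
    have e : (χ : Cfsg.IrrCharacter X).1 1 = (ψ : X ⧸ V → ℂ) 1 := by
      rw [← hψ]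
      have := congrArg (fun a => ((a.1 : Cfsg.IrrCharacter X) : X → ℂ) 1)
        ((Cfsg.Lib.Char.irrQuotientEquiv V).apply_symm_apply ((Equiv.subtypeEquivRight
          (by simp [T])) χ))
      exact this.symm
    rw [hχ, ← e, hn, Complex.conj_natCast, sq]
  -- the centraliser of `v`
  have hcent : Nat.card (Subgroup.centralizer ({v} : Set X)) =
      Nat.card ↥(G ⊓ Subgroup.centralizer ({v} : Set X)) * Nat.card V := by
    have hVC : ∀ u ∈ V, u ∈ Subgroup.centralizer ({v} : Set X) :=
      fun u hu => Subgroup.mem_centralizer_singleton_iff.2 (hab u hu v hv)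
    rw [mul_comm, ← Nat.card_prod]
    refine (Nat.card_congr (Equiv.ofBijective (fun P : V × ↥(G ⊓ Subgroup.centralizer ({v} : Set X)) =>
      (⟨(P.1 : X) * P.2, mul_mem (hVC _ P.1.2) P.2.2.2⟩ : Subgroup.centralizer ({v} : Set X))) ⟨?_, ?_⟩)).symm
    · intro P Q h
      have h' : (P.1 : X) * P.2 = Q.1 * Q.2 := congrArg Subtype.val h
      have := @hGV.1 (⟨P.1, P.1.2⟩, ⟨P.2, P.2.2.1⟩) (⟨Q.1, Q.1.2⟩, ⟨Q.2, Q.2.2.1⟩) h'
      simp only [Prod.mk.injEq, Subtype.mk.injEq] at this
      exact Prod.ext (Subtype.ext this.1) (Subtype.ext this.2)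
    · rintro ⟨x, hx⟩
      obtain ⟨⟨⟨u, hu⟩, ⟨g, hg⟩⟩, hxe, -⟩ := hGV.existsUnique x
      have hxe' : u * g = x := hxe
      have hgc : g ∈ Subgroup.centralizer ({v} : Set X) := by
        have e : g = u⁻¹ * x := by rw [← hxe']; group
        rw [e]; exact mul_mem (inv_mem (hVC u hu)) hx
      exact ⟨(⟨u, hu⟩, ⟨g, hg, hgc⟩), Subtype.ext hxe'⟩
  -- column orthogonality
  have htot := Cfsg.Lib.Char.column_orthogonality v v
  rw [if_pos (IsConj.refl v), hcent] at htot
  rw [← Finset.sum_filter_add_sum_filter_not Finset.univ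
    (fun χ : Cfsg.IrrCharacter X => ∀ u ∈ V, (χ : X → ℂ) u = (χ : X → ℂ) 1), hTsum] at htot
  set S := Finset.univ.filter fun χ : Cfsg.IrrCharacter X =>
    ¬ ∀ u ∈ V, (χ : X → ℂ) u = (χ : X → ℂ) 1 with hS
  set q := Nat.card ↥(G ⊓ Subgroup.centralizer ({v} : Set X)) * Nat.card V with hq
  have hge : Nat.card G ≤ q := by
    have h1 : (Nat.card G : ℝ) + ∑ χ ∈ S, ‖(χ : X → ℂ) v‖ ^ 2 = (q : ℝ) := by
      have := congrArg Complex.re htot
      simp only [Complex.mul_conj', Complex.add_re, Complex.re_sum, Complex.natCast_re,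
        ← Complex.ofReal_pow, Complex.ofReal_re] at this
      exact this
    exact_mod_cast le_of_le_of_eq (le_add_of_nonneg_right (by positivity)) h1
  have hle : S.card ≤ q - Nat.card G := by
    refine Cfsg.Lib.Block.card_le_of_sum_sq S
      (fun χ => Cfsg.Lib.Char.charVal (dvd_refl (Nat.card X)) χ.2.isCharacter v)
      (fun χ _ => χ.2.isCharacter.isIntegral v)
      (fun χ _ h => hne χ (congrArg Subtype.val h)) ?_
    rw [Nat.cast_sub hge, ← htot]
    exact (add_sub_cancel_left _ _).symm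
  have hcount : T.card + S.card = Nat.card (ConjClasses X) := by
    rw [Finset.card_filter_add_card_filter_not, Finset.card_univ,
      ← Cfsg.Lib.Char.card_irr_eq_card_conjClasses, Nat.card_eq_fintype_card]
  omega

end Cfsg.Agent.S4955
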