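import Cfsg.Statements.S4956
import Mathlib.GroupTheory.Complement
import Mathlib.Tactic

set_option autoImplicit false
open Cfsg

namespace Cfsg.Agent.S4956

/-- Let X be a finite group, V an abelian normal subgroup of X (any two elements of V commute) and G a complement to V in X whose order is coprime to that of V. Let S be a set of representatives of the orbits of G on V under conjugation: S lies in V and every element of V is conjugate under G to exactly one member of S. Then the number of conjugacy classes of X equals the sum, over s in S, of the number of conjugacy classes of the centralizer of s in G. -/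
theorem result {X : Type*} [Group X] [Finite X] (V : Subgroup X) [V.Normal] (hab : ∀ a ∈ V, ∀ b ∈ V, a * b = b * a) (G : Subgroup X) (hGV : Subgroup.IsComplement' V G) (hcop : (Nat.card V).Coprime (Nat.card G)) (S : Finset X) (hSV : ∀ s ∈ S, s ∈ V) (hrep : ∀ v ∈ V, ∃! s, s ∈ S ∧ ∃ g ∈ G, g * v * g⁻¹ = s) : Nat.card (ConjClasses X) = ∑ s ∈ S, Nat.card (ConjClasses ↥(G ⊓ Subgroup.centralizer ({s} : Set X))) := by
  classical
  obtain ⟨m, hm1, hm0⟩ := Nat.chineseRemainder hcop 1 0
  have hVn : ∀ x : X, ∀ v ∈ V, x * v * x⁻¹ ∈ V := fun x v hv => Subgroup.Normal.conj_mem ‹_› v hv x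
  have hdis : ∀ x ∈ V, x ∈ G → x = 1 := fun x h1 h2 =>
    Subgroup.disjoint_def.mp hGV.disjoint h1 h2
  have hpart : ∀ v ∈ V, ∀ g ∈ G, Commute v g → (v * g) ^ m = v := by
    intro v hv g hg hc
    rw [hc.mul_pow]
    have h1 : v ^ m = v := by
      have := pow_eq_pow_iff_modEq.2 (hm1.of_dvd (V.orderOf_dvd_natCard hv))
      simpa using this
    have h2 : g ^ m = 1 := by
      have := pow_eq_pow_iff_modEq.2 (hm0.of_dvd (G.orderOf_dvd_natCard hg))
      simpa using this
    rw [h1, h2, mul_one]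
  -- every element is conjugate to a commuting product
  have hexists : ∀ x : X, ∃ v ∈ V, ∃ g ∈ G, Commute v g ∧ IsConj (v * g) x := by
    intro x
    obtain ⟨⟨⟨v, hv⟩, ⟨g, hg⟩⟩, hx, -⟩ := hGV.existsUnique x
    let ψ : ↥V →* ↥V := MonoidHom.mk' (fun u => ⟨(u : X) * (g * (u : X)⁻¹ * g⁻¹),
        V.mul_mem u.2 (hVn g _ (V.inv_mem u.2))⟩) (by
      intro a b
      apply Subtype.ext
      show (a : X) * b * (g * ((a : X) * b)⁻¹ * g⁻¹) =
        (a : X) * (g * (a : X)⁻¹ * g⁻¹) * ((b : X) * (g * (b : X)⁻¹ * g⁻¹))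
      have h1 := hab _ (hVn g _ (V.inv_mem b.2)) _ (hVn g _ (V.inv_mem a.2))
      have h2 := hab _ b.2 _ (hVn g _ (V.inv_mem a.2))
      calc (a : X) * b * (g * ((a : X) * b)⁻¹ * g⁻¹)
          = (a : X) * b * ((g * (b : X)⁻¹ * g⁻¹) * (g * (a : X)⁻¹ * g⁻¹)) := by group
        _ = (a : X) * ((b : X) * (g * (a : X)⁻¹ * g⁻¹)) * (g * (b : X)⁻¹ * g⁻¹) := by
          rw [h1]; group
        _ = _ := by rw [h2]; group)
    have hker : ∀ c : ↥V, c ∈ ψ.ker → g * (c : X) * g⁻¹ = c := by
      intro c hc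
      have h : (c : X) * (g * (c : X)⁻¹ * g⁻¹) = 1 := congrArg Subtype.val (MonoidHom.mem_ker.1 hc)
      have h' := (mul_eq_one_iff_inv_eq.1 h)
      have h'' := congrArg (fun t => t⁻¹) h'
      simp only [inv_inv, mul_inv_rev] at h''
      rw [mul_assoc]; exact h''.symm
    have hzero : ∀ c : ↥V, c ∈ ψ.ker → c ∈ ψ.range → c = 1 := by
      intro c hc hc'
      obtain ⟨u, hu⟩ := hc'
      have hu' : (u : X) * (g * (u : X)⁻¹ * g⁻¹) = c := congrArg Subtype.val hu
      have hit : ∀ n : ℕ, g ^ n * (u : X)⁻¹ * (g ^ n)⁻¹ = (u : X)⁻¹ * (c : X) ^ n := by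
        intro n
        induction n with
        | zero => simp
        | succ k ih =>
          rw [pow_succ' g k, pow_succ' (c : X) k]
          calc g * g ^ k * (u : X)⁻¹ * (g * g ^ k)⁻¹
              = g * (g ^ k * (u : X)⁻¹ * (g ^ k)⁻¹) * g⁻¹ := by group
            _ = (g * (u : X)⁻¹ * g⁻¹) * (g * (c : X) ^ k * g⁻¹) := by rw [ih]; group
            _ = (u : X)⁻¹ * ((c : X) * (c : X) ^ k) := by
              rw [← conj_pow, hker c hc, ← mul_assoc]
              congr 1
              rw [← hu']; group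
      have h1 := hit (Nat.card G)
      rw [orderOf_dvd_iff_pow_eq_one.1 (G.orderOf_dvd_natCard hg)] at h1
      simp only [inv_one, one_mul, mul_one, left_eq_mul] at h1
      have h2 : (c : X) ^ Nat.card V = 1 :=
        orderOf_dvd_iff_pow_eq_one.1 (V.orderOf_dvd_natCard c.2)
      have := (pow_gcd_eq_one (a := (c : X))).2 ⟨h2, h1⟩
      rw [hcop, pow_one] at this
      exact Subtype.ext this
    let Φ : ψ.ker × ψ.range → ↥V := fun P => (P.1 : ↥V) * (P.2 : ↥V)
    have hΦ : Function.Injective Φ := by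
      rintro ⟨a, b⟩ ⟨a', b'⟩ h
      have h' : (a : ↥V) * b = a' * b' := h
      have h1 : (a' : ↥V)⁻¹ * a = b' * (b : ↥V)⁻¹ := by
        rw [inv_mul_eq_iff_eq_mul, ← mul_assoc, ← h', mul_inv_cancel_right]
      have h2 := hzero _ (ψ.ker.mul_mem (ψ.ker.inv_mem a'.2) a.2)
        (h1 ▸ ψ.range.mul_mem b'.2 (ψ.range.inv_mem b.2))
      have h3 : a' = a := Subtype.ext (inv_mul_eq_one.1 h2)
      subst h3
      exact Prod.ext rfl (Subtype.ext (mul_left_cancel h'))
    have hsurj : Function.Surjective Φ := by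
      refine (Nat.bijective_iff_injective_and_card Φ).2 ⟨hΦ, ?_⟩ |>.2
      rw [Nat.card_prod, mul_comm, ← Nat.card_congr (QuotientGroup.quotientKerEquivRange ψ).toEquiv]
      exact (Subgroup.card_eq_card_quotient_mul_card_subgroup _).symm
    obtain ⟨⟨c, r⟩, hcr⟩ := hsurj ⟨v, hv⟩
    obtain ⟨u, hu⟩ := r.2
    have hu' : (u : X) * (g * (u : X)⁻¹ * g⁻¹) = ((r : ↥V) : X) := congrArg Subtype.val hu
    have hv' : ((c : ↥V) : X) * ((r : ↥V) : X) = v := congrArg Subtype.val hcr
    refine ⟨((c : ↥V) : X), (c : ↥V).2, g, hg, ?_, ?_⟩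
    · have hk := hker _ c.2
      exact (mul_inv_eq_iff_eq_mul.1 hk).symm
    · refine isConj_iff.2 ⟨(u : X), ?_⟩
      rw [← hx]
      show (u : X) * (((c : ↥V) : X) * g) * (u : X)⁻¹ = v * g
      have hcu := hab _ (c : ↥V).2 _ u.2
      calc (u : X) * (((c : ↥V) : X) * g) * (u : X)⁻¹
          = ((c : ↥V) : X) * ((u : X) * (g * (u : X)⁻¹ * g⁻¹)) * g := by
            rw [← mul_assoc (u : X), ← hcu]; group
        _ = v * g := by rw [hu', hv']
  let Ψ : (Σ s : S, ConjClasses ↥(G ⊓ Subgroup.centralizer ({(s : X)} : Set X))) → ConjClasses X :=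
    fun P => Quotient.liftOn P.2 (fun h => ConjClasses.mk ((P.1 : X) * (h : X))) (by
      intro a b hab'
      obtain ⟨c, hc⟩ := isConj_iff.1 hab'
      refine ConjClasses.mk_eq_mk_iff_isConj.2 (isConj_iff.2 ⟨(c : X), ?_⟩)
      have h1 : (c : X) * (P.1 : X) = (P.1 : X) * c := Subgroup.mem_centralizer_singleton_iff.1 c.2.2
      rw [← hc, Subgroup.coe_mul, Subgroup.coe_mul, Subgroup.coe_inv]
      calc (c : X) * ((P.1 : X) * (a : X)) * (c : X)⁻¹
          = ((c : X) * (P.1 : X)) * (a : X) * (c : X)⁻¹ := by group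
        _ = (P.1 : X) * ((c : X) * (a : X) * (c : X)⁻¹) := by rw [h1]; group)
  have hbij : Function.Bijective Ψ := by
    constructor
    · rintro ⟨⟨s, hs⟩, A⟩ ⟨⟨t, ht⟩, B⟩ h
      induction A using Quotient.inductionOn with | _ a => ?_
      induction B using Quotient.inductionOn with | _ b => ?_
      change ConjClasses.mk (s * (a : X)) = ConjClasses.mk (t * (b : X)) at h
      obtain ⟨y, hy⟩ := isConj_iff.1 (ConjClasses.mk_eq_mk_iff_isConj.1 h)
      have has : Commute s (a : X) := (Subgroup.mem_centralizer_singleton_iff.1 a.2.2).symm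
      have hbt : Commute t (b : X) := (Subgroup.mem_centralizer_singleton_iff.1 b.2.2).symm
      have hyv : y * s * y⁻¹ = t := by
        rw [← hpart s (hSV s hs) a a.2.1 has, ← conj_pow, hy, hpart t (hSV t ht) b b.2.1 hbt]
      have hyg : y * (a : X) * y⁻¹ = b := by
        apply mul_left_cancel (a := t)
        rw [← hy, ← hyv]
        group
      obtain ⟨⟨⟨u, hu⟩, ⟨k, hk⟩⟩, hyk, -⟩ := hGV.existsUnique y
      have hyk' : u * k = y := hyk
      subst hyk'
      have hks : k * s * k⁻¹ = t := by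
        rw [← hyv]
        have := hab _ hu _ (hVn k s (hSV s hs))
        calc k * s * k⁻¹ = u * (k * s * k⁻¹) * u⁻¹ := by rw [this]; group
          _ = u * k * s * (u * k)⁻¹ := by group
      have hst : s = t := by
        obtain ⟨s', -, hu'⟩ := hrep s (hSV s hs)
        rw [hu' s ⟨hs, 1, G.one_mem, by group⟩, hu' t ⟨ht, k, hk, hks⟩]
      subst hst
      have hkc : k ∈ G ⊓ Subgroup.centralizer ({s} : Set X) :=
        ⟨hk, Subgroup.mem_centralizer_singleton_iff.2 (by
          calc k * s = k * s * k⁻¹ * k := by group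
            _ = s * k := by rw [hks])⟩
      have hka : k * (a : X) * k⁻¹ = b := by
        have h1 : k * (a : X) * k⁻¹ * (b : X)⁻¹ ∈ V := by
          have e : k * (a : X) * k⁻¹ * (b : X)⁻¹ = u⁻¹ * ((b : X) * u * (b : X)⁻¹) := by
            rw [← hyg]; group
          rw [e]
          exact V.mul_mem (V.inv_mem hu) (hVn _ _ hu)
        have h2 := hdis _ h1
          (G.mul_mem (G.mul_mem (G.mul_mem hk a.2.1) (G.inv_mem hk)) (G.inv_mem b.2.1))
        exact mul_inv_eq_one.1 h2
      refine Sigma.ext rfl (heq_of_eq (Quotient.sound (isConj_iff.2 ⟨⟨k, hkc⟩, ?_⟩)))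
      exact Subtype.ext hka
    · intro C
      induction C using Quotient.inductionOn with | _ x => ?_
      obtain ⟨v, hv, g, hg, hc, hx⟩ := hexists x
      obtain ⟨s, ⟨hs, k, hk, hks⟩, -⟩ := hrep v hv
      have hcg : k * g * k⁻¹ ∈ G ⊓ Subgroup.centralizer ({s} : Set X) :=
        ⟨G.mul_mem (G.mul_mem hk hg) (G.inv_mem hk), Subgroup.mem_centralizer_singleton_iff.2 (by
          have hc' : v * g = g * v := hc
          calc k * g * k⁻¹ * s = k * (g * v) * k⁻¹ := by rw [← hks]; group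
            _ = s * (k * g * k⁻¹) := by rw [← hc', ← hks]; group)⟩
      refine ⟨⟨⟨s, hs⟩, ConjClasses.mk ⟨_, hcg⟩⟩, ConjClasses.mk_eq_mk_iff_isConj.2 ?_⟩
      refine IsConj.trans (IsConj.symm (isConj_iff.2 ⟨k, ?_⟩)) hx
      show k * (v * g) * k⁻¹ = s * (k * g * k⁻¹)
      rw [← hks]; group
  rw [← Nat.card_congr (Equiv.ofBijective Ψ hbij), Nat.card_sigma]
  exact Finset.sum_coe_sort S fun s => Nat.card (ConjClasses ↥(G ⊓ Subgroup.centralizer ({s} : Set X)))

end Cfsg.Agent.S4956
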