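import Cfsg.Statements.S4957
import Cfsg.Agent.Lib.Linear.CoprimeTrans.Main
import Cfsg.Agent.S4956
-- import your own Cfsg.Agent.* helpers here

set_option autoImplicit false
open Cfsg

namespace Cfsg.Agent.S4957

/-- Let X be a finite group and V a normal subgroup of X in which every element has order dividing the prime p, whose index in X is prime to p and which is its own centralizer in X; so V is an elementary abelian normal Sylow p-subgroup, and any complement G to V in X is a group of order prime to p acting faithfully on the vector space V by conjugation (the coprime linear setting of the k(GV) problem). Suppose a complement G to V in X is transitive by conjugation on the nonidentity elements of V. Then X has at most (order of V) conjugacy classes, and if equality holds then G is cyclic (hence, being transitive, a Singer cycle), or V has order 8 and G has order 21 (the nonabelian group of order 21 inside the simple group of order 168), or V has order 9 and G has order 16 (a semidihedral Sylow 2-subgroup of the 2-dimensional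 general linear group over the field with 3 elements). -/
theorem result {X : Type*} [Group X] [Finite X] (p : ℕ) [Fact p.Prime] (V : Subgroup X) [V.Normal] (hVexp : ∀ v ∈ V, v ^ p = 1) (hidx : ¬ p ∣ V.index) (hself : Subgroup.centralizer (V : Set X) = V) (G : Subgroup X) (hGV : Subgroup.IsComplement' V G) (htrans : ∀ v ∈ V, ∀ w ∈ V, v ≠ 1 → w ≠ 1 → ∃ g ∈ G, g * v * g⁻¹ = w) : Nat.card (ConjClasses X) ≤ Nat.card V ∧ (Nat.card (ConjClasses X) = Nat.card V → (IsCyclic G ∨ (Nat.card V = 8 ∧ Nat.card G = 21) ∨ (Nat.card V = 9 ∧ Nat.card G = 16))) := by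
  classical
  have hab : ∀ a ∈ V, ∀ b ∈ V, a * b = b * a := fun a ha b hb =>
    ((hself.symm ▸ ha : a ∈ Subgroup.centralizer (V : Set X)) b hb).symm
  by_cases hVbot : V = ⊥
  · subst hVbot
    have htop : (⊤ : Subgroup X) = ⊥ := by
      rw [← hself]
      refine (eq_top_iff.2 fun x _ => ?_).symm
      intro y hy
      rw [Subgroup.mem_bot.1 hy, one_mul, mul_one]
    haveI : Subsingleton X := ⟨fun a b => by
      have ha : a ∈ (⊥ : Subgroup X) := htop ▸ Subgroup.mem_top a
      have hb : b ∈ (⊥ : Subgroup X) := htop ▸ Subgroup.mem_top b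
      rw [Subgroup.mem_bot.1 ha, Subgroup.mem_bot.1 hb]⟩
    refine ⟨?_, fun _ => Or.inl inferInstance⟩
    rw [Subgroup.card_bot]
    exact (Nat.card_le_card_of_surjective ConjClasses.mk ConjClasses.mk_surjective).trans Nat.card_unique.le
  letI : CommGroup V := { (inferInstance : Group V) with
    mul_comm := fun a b => Subtype.ext (hab a a.2 b b.2) }
  letI : Module (ZMod p) (Additive V) := AddCommGroup.zmodModule (n := p) fun a =>
    Subtype.ext (hVexp _ (Additive.toMul a).2)
  haveI : Nontrivial V := (Subgroup.nontrivial_iff_ne_bot V).2 hVbot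
  haveI : Nontrivial (Additive V) := inferInstanceAs (Nontrivial V)
  haveI : Finite (Additive V) := inferInstanceAs (Finite V)
  have hVn : V.Normal := inferInstance
  let act : G → Additive V →+ Additive V := fun g =>
    MonoidHom.toAdditive
      { toFun := fun v => (⟨(g : X) * v * (g : X)⁻¹, hVn.conj_mem v v.2 g⟩ : V)
        map_one' := Subtype.ext (by simp)
        map_mul' := fun a b => Subtype.ext (by simp [mul_assoc]) }
  have hact : ∀ (g : G) (v : Additive V),
      ((Additive.toMul (act g v) : V) : X) = (g : X) * (Additive.toMul v : V) * (g : X)⁻¹ := fun g v => rfl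
  let ι : G →* Module.End (ZMod p) (Additive V) :=
    { toFun := fun g => (act g).toZModLinearMap p
      map_one' := LinearMap.ext fun v => Subtype.ext (by
        show ((Additive.toMul (act 1 v) : V) : X) = _
        rw [hact]; simp; rfl)
      map_mul' := fun a b => LinearMap.ext fun v => Subtype.ext (by
        show ((Additive.toMul (act (a * b) v) : V) : X) = ((Additive.toMul (act a (act b v)) : V) : X)
        rw [hact, hact, hact]; push_cast; group) }
  have hι : Function.Injective ι := by
    intro g h e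
    have hz : ((g : X)⁻¹ * (h : X)) ∈ V := by
      rw [← hself]
      intro v hv
      have e1 := congrArg (fun f : Module.End (ZMod p) (Additive V) =>
        ((Additive.toMul (f (Additive.ofMul ⟨v, hv⟩)) : V) : X)) e
      change (g : X) * v * (g : X)⁻¹ = (h : X) * v * (h : X)⁻¹ at e1
      calc v * ((g : X)⁻¹ * h) = (g : X)⁻¹ * ((g : X) * v * (g : X)⁻¹) * h := by group
        _ = (g : X)⁻¹ * h * v := by rw [e1]; group
    have hd := hGV.disjoint.le_bot ⟨hz, G.mul_mem (G.inv_mem g.2) h.2⟩
    exact Subtype.ext (inv_mul_eq_one.1 (Subgroup.mem_bot.1 hd))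
  have htrans' : Cfsg.Lib.Recog.SolvTrans.Trans ι := by
    intro v w hv hw
    obtain ⟨g, hg, e⟩ := htrans (Additive.toMul v : V) (Additive.toMul v).2 (Additive.toMul w : V)
      (Additive.toMul w).2 (fun h => hv (Subtype.ext h)) (fun h => hw (Subtype.ext h))
    exact ⟨⟨g, hg⟩, Subtype.ext e⟩
  have hcopG : ¬ p ∣ Nat.card G := hGV.symm.index_eq_card ▸ hidx
  obtain ⟨v₀, hv₀V, hv₀1⟩ : ∃ v ∈ V, v ≠ (1 : X) := by
    obtain ⟨v, hv, h⟩ := V.bot_or_exists_ne_one.resolve_left hVbot
    exact ⟨v, hv, h⟩
  have hstab : ∀ v : Additive V, v ≠ 0 → Nat.card {g : G // ι g v = v} =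
      Nat.card ↥(G ⊓ Subgroup.centralizer ({v₀} : Set X)) := by
    intro v hv
    obtain ⟨k, hk, hkv⟩ := htrans v₀ hv₀V (Additive.toMul v : V) (Additive.toMul v).2 hv₀1
      (fun h => hv (Subtype.ext h))
    have hiff : ∀ g : G, ι g v = v ↔ (g : X) * (Additive.toMul v : V) * (g : X)⁻¹ = (Additive.toMul v : V) :=
      fun g => ⟨fun h => congrArg (fun w : Additive V => ((Additive.toMul w : V) : X)) h, fun h => Subtype.ext h⟩
    refine Nat.card_congr
      { toFun := fun g => ⟨k⁻¹ * (g.1 : X) * k, G.mul_mem (G.mul_mem (G.inv_mem hk) g.1.2) hk,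
          Subgroup.mem_centralizer_singleton_iff.2 ?_⟩
        invFun := fun g => ⟨⟨k * (g : X) * k⁻¹, G.mul_mem (G.mul_mem hk g.2.1) (G.inv_mem hk)⟩, (hiff _).2 ?_⟩
        left_inv := fun g => Subtype.ext (Subtype.ext (by simp [mul_assoc]))
        right_inv := fun g => Subtype.ext (by simp [mul_assoc]) }
    · have e := (hiff g.1).1 g.2
      rw [← hkv] at e
      calc k⁻¹ * (g.1 : X) * k * v₀ = k⁻¹ * ((g.1 : X) * (k * v₀ * k⁻¹) * (g.1 : X)⁻¹) * (g.1 : X) * k := by group
        _ = k⁻¹ * (k * v₀ * k⁻¹) * (g.1 : X) * k := by rw [e]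
        _ = v₀ * (k⁻¹ * (g.1 : X) * k) := by group
    · have e := Subgroup.mem_centralizer_singleton_iff.1 g.2.2
      show k * (g : X) * k⁻¹ * (Additive.toMul v : V) * (k * (g : X) * k⁻¹)⁻¹ = (Additive.toMul v : V)
      rw [← hkv]
      calc k * (g : X) * k⁻¹ * (k * v₀ * k⁻¹) * (k * (g : X) * k⁻¹)⁻¹
          = k * ((g : X) * v₀) * (g : X)⁻¹ * k⁻¹ := by group
        _ = k * v₀ * k⁻¹ := by rw [e]; group
  obtain ⟨hle, heq⟩ := Cfsg.Lib.Linear.CoprimeTrans.linear_bound hι htrans' hstab hcopG
  have hcardV : Nat.card (Additive V) = Nat.card V := Nat.card_congr Additive.toMul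
  rw [hcardV] at hle heq
  haveI := Fintype.ofFinite X
  have hpV : IsPGroup p V := fun a => ⟨1, Subtype.ext (by simpa using hVexp a a.2)⟩
  have hcop : (Nat.card V).Coprime (Nat.card G) := by
    obtain ⟨n, hn⟩ := IsPGroup.iff_card.1 hpV
    rw [hn]
    exact (((Fact.out : p.Prime).coprime_iff_not_dvd).2 hcopG).pow_left n
  have hk : Nat.card (ConjClasses X) = Nat.card (ConjClasses G) +
      Nat.card (ConjClasses ↥(G ⊓ Subgroup.centralizer ({v₀} : Set X))) := by
    rw [Cfsg.Agent.S4956.result V hab G hGV hcop {1, v₀}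
      (fun x hx => by
        rcases Finset.mem_insert.1 hx with h | h
        · rw [h]; exact one_mem _
        · rw [Finset.mem_singleton.1 h]; exact hv₀V)
      (fun v hv => ?_), Finset.sum_pair (Ne.symm hv₀1)]
    · congr 1
      rw [show G ⊓ Subgroup.centralizer ({1} : Set X) = G from inf_eq_left.2 fun g _ =>
        Subgroup.mem_centralizer_singleton_iff.2 (by rw [mul_one, one_mul])]
    by_cases hv1 : v = 1
    · refine ⟨1, ⟨Finset.mem_insert_self _ _, 1, one_mem _, by rw [hv1]; simp⟩, ?_⟩
      rintro y ⟨-, g, -, hy⟩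
      rw [← hy, hv1]; simp
    · obtain ⟨g, hg, e⟩ := htrans v hv v₀ hv₀V hv1 hv₀1
      refine ⟨v₀, ⟨Finset.mem_insert_of_mem (Finset.mem_singleton_self _), g, hg, e⟩, ?_⟩
      rintro y ⟨hy, g', -, hy'⟩
      rcases Finset.mem_insert.1 hy with h | h
      · exact absurd (conj_eq_one_iff.1 (hy'.trans h)) hv1
      · exact Finset.mem_singleton.1 h
  have hks : Nat.card (ConjClasses ↥(G ⊓ Subgroup.centralizer ({v₀} : Set X))) ≤
      Nat.card ↥(G ⊓ Subgroup.centralizer ({v₀} : Set X)) :=
    Nat.card_le_card_of_surjective ConjClasses.mk ConjClasses.mk_surjective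
  exact ⟨by omega, fun h => heq (by omega)⟩

end Cfsg.Agent.S4957
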