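import Cfsg.Statements.S4958
import Cfsg.Agent.Lib.Char.ClassBoundCriterion
import Cfsg.Agent.Lib.Solv.FixedPointFree
import Cfsg.Agent.Lib.Coprime.Generation
import Mathlib.NumberTheory.GaussSum
import Mathlib.NumberTheory.MulChar.Lemmas
import Mathlib.FieldTheory.Finite.Trace
import Mathlib.FieldTheory.Finite.GaloisField
-- import your own Cfsg.Agent.* helpers here

set_option autoImplicit false
open Cfsg

namespace Cfsg.Agent.S4958

open scoped ComplexConjugate

/-- A nontrivial additive character of a finite field of order `p ^ a`. -/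
theorem exists_addChar (p : ℕ) [Fact p.Prime] (F : Type) [Field F] [Fintype F] [CharP F p] :
    ∃ e : AddChar F ℂ, e.IsPrimitive ∧ ∀ x, e x ^ p = 1 := by
  haveI : NeZero p := ⟨(Fact.out : p.Prime).ne_zero⟩
  obtain rfl : ringChar F = p := ringChar.eq F p
  letI : Algebra (ZMod (ringChar F)) F := ZMod.algebra F _
  have hζ := Complex.isPrimitiveRoot_exp (ringChar F) (NeZero.ne _)
  set e₀ := AddChar.zmodChar (ringChar F) hζ.pow_eq_one with he₀
  refine ⟨e₀.compAddMonoidHom (Algebra.trace (ZMod (ringChar F)) F).toAddMonoidHom,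
    AddChar.IsPrimitive.of_ne_one ?_, fun x => ?_⟩
  · obtain ⟨b, hb⟩ := FiniteField.trace_to_zmod_nondegenerate F (one_ne_zero (α := F))
    rw [one_mul] at hb
    intro h
    have h1 := DFunLike.congr_fun h b
    rw [AddChar.compAddMonoidHom_apply, AddChar.one_apply] at h1
    have h2 : e₀ (Algebra.trace (ZMod (ringChar F)) F b) = 1 := h1
    rw [he₀, AddChar.zmodChar_apply, hζ.pow_eq_one_iff_dvd] at h2
    exact hb ((ZMod.val_eq_zero _).1 (Nat.eq_zero_of_dvd_of_lt h2 (ZMod.val_lt _)))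
  · rw [AddChar.compAddMonoidHom_apply, ← AddChar.map_nsmul_eq_pow]
    simp

/-- The data we build for a subgroup `U` normalised by the abelian group `H`. -/
def HasWeight {X : Type*} [Group X] (M : Ideal Cfsg.AlgInt) (N : ℕ) (H U : Subgroup X) : Prop :=
  ∃ (ι : Type) (_ : Fintype ι) (a : ι → ℂ) (μ : ι → ↥H →* ℂˣ), (∀ i, a i ∈ Cfsg.Lib.Char.cycInt N) ∧
    ∀ f : ↥H → ℂ, (f = fun h => ∑ i, a i * (μ i h : ℂ)) → f 1 = 1 ∧
      (∀ h : ↥H, f h * conj (f h) *
        (Nat.card ↥(U ⊓ Subgroup.centralizer ({(h : X)} : Set X)) : ℂ) = (Nat.card U : ℂ)) ∧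
      (∀ h : ↥H, ¬ (∀ u ∈ U, (h : X) * u = u * (h : X)) → Cfsg.MemLocalIdeal M (f h))

theorem hasWeight_of_centralizes {X : Type*} [Group X] [Finite X] {M : Ideal Cfsg.AlgInt} {N : ℕ}
    {H U : Subgroup X} (h : ∀ h ∈ H, ∀ u ∈ U, h * u = u * h) : HasWeight M N H U := by
  refine ⟨Unit, inferInstance, fun _ => 1, fun _ => 1, fun _ => one_mem _, ?_⟩
  rintro f rfl
  refine ⟨by simp, fun g => ?_, fun g hg => absurd (h g g.2) hg⟩
  have e : U ⊓ Subgroup.centralizer ({(g : X)} : Set X) = U :=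
    inf_eq_left.2 fun u hu => Subgroup.mem_centralizer_singleton_iff.2 (h g g.2 u hu).symm
  rw [e]; simp

/-- The fixed-point-free case: Gauss sums. -/
theorem hasWeight_of_fpf {X : Type*} [Group X] [Finite X] {p : ℕ} [Fact p.Prime]
    {M : Ideal Cfsg.AlgInt} (hM : Cfsg.IsPModular p M) {N : ℕ} [NeZero N] (hpN : p ∣ N)
    {H U : Subgroup X} (hHN : Nat.card H ∣ N) (hHab : ∀ a ∈ H, ∀ b ∈ H, a * b = b * a)
    (hUab : ∀ a ∈ U, ∀ b ∈ U, a * b = b * a) (hUp : IsPGroup p U) (hU : U ≠ ⊥)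
    (hinv : H ≤ Subgroup.normalizer (U : Set X))
    (hfpf : ∀ h ∈ H, (∀ u ∈ U, h * u = u * h) ∨ ∀ u ∈ U, h * u = u * h → u = 1) :
    HasWeight M N H U := by
  classical
  letI : CommGroup U := { (inferInstance : Group U) with
    mul_comm := fun a b => Subtype.ext (hUab a a.2 b b.2) }
  let φ := Cfsg.Lib.Solv.conjAut hinv
  have hφ : ∀ (h : H) (u : U), ((φ h u : U) : X) = (h : X) * u * (h : X)⁻¹ := fun h u => rfl
  have hker : ∀ h : H, φ h = 1 ↔ ∀ u ∈ U, (h : X) * u = u * (h : X) := by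
    intro h
    constructor
    · intro hh u hu
      have h1 := hφ h ⟨u, hu⟩
      rw [hh, MulAut.one_apply] at h1
      exact mul_inv_eq_iff_eq_mul.1 h1.symm
    · intro hh
      ext ⟨u, hu⟩
      rw [hφ, MulAut.one_apply, hh u hu, mul_inv_cancel_right]
  let B := φ.range
  have hBfpf : ∀ b : B, b ≠ 1 → ∀ u : U, (b : MulAut U) u = u → u = 1 := by
    rintro ⟨_, h, rfl⟩ hb u hu
    rcases hfpf h h.2 with h1 | h1
    · exact absurd (Subtype.ext ((hker h).2 h1)) hb
    · refine Subtype.ext (h1 u u.2 ?_)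
      have h2 := congrArg Subtype.val hu
      simp only at h2
      rw [hφ] at h2
      exact mul_inv_eq_iff_eq_mul.1 h2
  letI : CommGroup B := { (inferInstance : Group B) with
    mul_comm := by
      rintro ⟨_, a, rfl⟩ ⟨_, b, rfl⟩
      refine Subtype.ext ?_
      show φ a * φ b = φ b * φ a
      rw [← map_mul, ← map_mul]
      exact congrArg φ (Subtype.ext (hHab a a.2 b b.2)) }
  haveI : IsCyclic B := by
    by_contra hnc
    obtain ⟨r, a, b, hr, ha1, ha, hb, hind⟩ :=
      Cfsg.Lib.Coprime.exists_two_independent_of_not_isCyclic hnc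
    have hne : ∀ i j : ℕ, i < r → j < r → a ^ i * b ^ j = 1 → i = 0 ∧ j = 0 := by
      intro i j hi hj h
      have hj0 : j = 0 := by
        by_contra hj0
        apply hind
        have hcop : (orderOf b).Coprime j := Nat.Coprime.coprime_dvd_left (orderOf_dvd_of_pow_eq_one hb)
          ((hr.coprime_iff_not_dvd).2 fun hd' => absurd (Nat.le_of_dvd (Nat.pos_of_ne_zero hj0) hd') (by omega))
        obtain ⟨m, hm⟩ := exists_pow_eq_self_of_coprime hcop.symm
        rw [← hm]
        refine Subgroup.pow_mem _ ?_ m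
        rw [eq_inv_of_mul_eq_one_right h]
        exact inv_mem (Subgroup.npow_mem_zpowers a i)
      subst hj0
      rw [pow_zero, mul_one] at h
      refine ⟨?_, rfl⟩
      by_contra hi0
      have := Fact.mk hr
      have hd := orderOf_dvd_of_pow_eq_one h
      rw [orderOf_eq_prime ha ha1] at hd
      exact absurd (Nat.le_of_dvd (Nat.pos_of_ne_zero hi0) hd) (by omega)
    have hpow := fun u : U => Cfsg.Lib.Solv.pow_eq_one_of_commuting_fpf B.subtype hBfpf
      (Commute.all a b) hr ha hb hne u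
    have hco := Cfsg.Lib.Solv.coprime_of_fpf_hom B.subtype hBfpf
    refine hU (eq_bot_iff.2 fun u hu => ?_)
    have := Fact.mk hr
    have hd : orderOf (⟨u, hu⟩ : U) ∣ Nat.gcd (Nat.card B) (Nat.card U) :=
      Nat.dvd_gcd ((orderOf_dvd_of_pow_eq_one (hpow _)).trans
        (orderOf_eq_prime ha ha1 ▸ orderOf_dvd_natCard a)) (orderOf_dvd_natCard _)
    rw [hco, Nat.dvd_one, orderOf_eq_one_iff] at hd
    exact Subgroup.mem_bot.2 (congrArg Subtype.val hd)
  obtain ⟨k, hk⟩ := IsPGroup.iff_card.1 hUp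
  have hk0 : k ≠ 0 := fun h => hU (Subgroup.card_eq_one.1 (by rw [hk, h, pow_zero]))
  let F := GaloisField p k
  letI : Fintype F := Fintype.ofFinite F
  have hF : Fintype.card F = Nat.card U := by
    rw [hk, ← GaloisField.card p k hk0, Nat.card_eq_fintype_card]
  -- `|B|` divides `|U| - 1`
  have hdvd : Nat.card B ∣ Fintype.card F - 1 := by
    rw [hF]
    let Ω := {u : U // u ≠ 1}
    letI : MulAction B Ω :=
      { smul := fun b u => ⟨(b : MulAut U) u.1, fun h => u.2 ((b : MulAut U).injective (h.trans (map_one _).symm))⟩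
        one_smul := fun u => rfl
        mul_smul := fun b c u => rfl }
    have hstab : ∀ u : Ω, MulAction.stabilizer B u = ⊥ := by
      intro u
      refine (Subgroup.eq_bot_iff_forall _).2 fun b hb => ?_
      by_contra hb1
      exact u.2 (hBfpf b hb1 u.1 (congrArg Subtype.val (MulAction.mem_stabilizer_iff.1 hb)))
    have h1 : Nat.card Ω = Nat.card U - 1 := by
      haveI := Fintype.ofFinite U
      rw [Nat.card_eq_fintype_card, Nat.card_eq_fintype_card]
      simp [Ω, Fintype.card_subtype_compl]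
    rw [← h1, Nat.card_congr (MulAction.selfEquivOrbitsQuotientProd hstab), Nat.card_prod]
    exact dvd_mul_left _ _
  obtain ⟨χ, hχ⟩ := MulChar.exists_mulChar_orderOf F hdvd
    (Complex.isPrimitiveRoot_exp (Nat.card B) Nat.card_pos.ne')
  have hcard : Nat.card B = Nat.card (Subgroup.zpowers χ) := by rw [Nat.card_zpowers, hχ]
  let E : B ≃* Subgroup.zpowers χ := mulEquivOfCyclicCardEq hcard
  let τ : H →* MulChar F ℂ := (Subgroup.zpowers χ).subtype.comp (E.toMonoidHom.comp φ.rangeRestrict)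
  have hτ : ∀ h : H, τ h = 1 ↔ ∀ u ∈ U, (h : X) * u = u * (h : X) := by
    intro h
    rw [← hker h]
    constructor
    · intro h1
      have h2 : E (φ.rangeRestrict h) = 1 := Subtype.ext h1
      rw [map_eq_one_iff E E.injective] at h2
      exact congrArg Subtype.val h2
    · intro h1
      have h2 : φ.rangeRestrict h = 1 := Subtype.ext h1
      simp [τ, h2]
  obtain ⟨e, he, hep⟩ := exists_addChar p F
  let ι := {x : F // x ≠ 0}
  let ev : ι → H →* ℂ := fun x =>
    { toFun := fun h => τ h x.1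
      map_one' := by rw [map_one]; exact MulChar.one_apply (isUnit_iff_ne_zero.2 x.2)
      map_mul' := fun a b => by rw [map_mul, MulChar.mul_apply] }
  have hep' : ∀ x, e x ∈ Cfsg.Lib.Char.cycInt N := fun x => by
    obtain ⟨d, hd⟩ := hpN
    exact Cfsg.Lib.Char.root_mem_cycInt (by rw [hd, pow_mul, hep, one_pow])
  refine ⟨ι, inferInstance, fun x => -(e x.1), fun x => (ev x).toHomUnits,
    fun x => neg_mem (hep' _), ?_⟩
  rintro f rfl
  have hsum : ∀ h : H, ∑ x : ι, -(e x.1) * ((ev x).toHomUnits h : ℂ) = -gaussSum (τ h) e := by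
    intro h
    simp only [MonoidHom.coe_toHomUnits]
    rw [gaussSum, ← Finset.sum_erase (Finset.univ : Finset F) (a := (0 : F))
      (f := fun x => τ h x * e x) (by rw [MulChar.map_zero, zero_mul]),
      ← Finset.sum_neg_distrib, Finset.sum_subtype (Finset.univ.erase (0 : F)) (p := fun x => x ≠ 0)
        (by simp)]
    exact Finset.sum_congr rfl fun x _ => by simp [ev, mul_comm]
  have he1 : e ≠ 1 := fun h => by
    have := he (one_ne_zero (α := F))
    rw [h] at this
    exact this (by ext; simp [AddChar.mulShift_apply])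
  simp only [hsum]
  have hcentU : ∀ h : H, τ h = 1 →
      U ⊓ Subgroup.centralizer ({(h : X)} : Set X) = U := fun h h1 =>
    inf_eq_left.2 fun u hu =>
      Subgroup.mem_centralizer_singleton_iff.2 (((hτ h).1 h1 u hu).symm)
  refine ⟨by rw [map_one, gaussSum_one_left he1, neg_neg], fun h => ?_, fun h hh => ?_⟩
  · by_cases h1 : τ h = 1
    · rw [h1, gaussSum_one_left he1, hcentU h h1]; simp
    · have h2 : U ⊓ Subgroup.centralizer ({(h : X)} : Set X) = ⊥ := by
        refine (Subgroup.eq_bot_iff_forall _).2 fun u hu => ?_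
        rcases hfpf h h.2 with h3 | h3
        · exact absurd ((hτ h).2 h3) h1
        · exact h3 u hu.1 (Subgroup.mem_centralizer_singleton_iff.1 hu.2).symm
      rw [h2, Subgroup.card_bot, Nat.cast_one, mul_one, map_neg, neg_mul_neg,
        show conj (gaussSum (τ h) e) = star (gaussSum (τ h) e) from rfl, star_gaussSum_eq,
        gaussSum_mul_gaussSum_eq_card h1 he, hF]
  · have h1 : τ h ≠ 1 := fun h1 => hh ((hτ h).1 h1)
    refine Cfsg.Lib.Block.memLocalIdeal_neg hM ?_
    have h0 : gaussSum (τ h) e = ∑ x : F, τ h x * (e x - 1) := by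
      simp only [gaussSum, mul_sub, mul_one, Finset.sum_sub_distrib,
        MulChar.sum_eq_zero_of_ne_one h1, sub_zero]
    rw [h0]
    refine Cfsg.Lib.Block.memLocalIdeal_sum hM _ _ fun x _ =>
      Cfsg.Lib.Block.memLocalIdeal_mul_left hM ?_
        (Cfsg.Lib.Block.memLocalIdeal_sub_one_of_pow_prime_pow hM (k := 1) (by rw [pow_one]; exact hep x))
    by_cases hx : x = 0
    · rw [hx, MulChar.map_zero]; exact zero_mem _
    · refine Cfsg.Lib.Block.isIntegral_mem_locRing hM ?_
      refine IsIntegral.of_pow (n := Nat.card H) Nat.card_pos ?_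
      have := congrArg (fun z : ℂ => z) ((map_pow (ev ⟨x, hx⟩) h (Nat.card H)).symm)
      rw [pow_card_eq_one', map_one] at this
      have e1 : (τ h x) ^ Nat.card H = 1 := this
      rw [e1]; exact isIntegral_one

/-- Existence of the weight for every normalised subgroup. -/
theorem hasWeight {X : Type*} [Group X] [Finite X] {p : ℕ} [Fact p.Prime]
    {M : Ideal Cfsg.AlgInt} (hM : Cfsg.IsPModular p M) {N : ℕ} [NeZero N] (hpN : p ∣ N)
    {H : Subgroup X} (hHN : Nat.card H ∣ N) (hHab : ∀ a ∈ H, ∀ b ∈ H, a * b = b * a)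
    (hHp : ¬ p ∣ Nat.card H) : ∀ (n : ℕ) (U : Subgroup X), Nat.card U = n →
      (∀ a ∈ U, ∀ b ∈ U, a * b = b * a) → IsPGroup p U → (∀ h ∈ H, ∀ u ∈ U, h * u * h⁻¹ ∈ U) →
      HasWeight M N H U := by
  intro n
  induction n using Nat.strong_induction_on with
  | _ n ih =>
  intro U hn hUab hUp hUinv
  by_cases hcent : ∀ h ∈ H, ∀ u ∈ U, h * u = u * h
  · exact hasWeight_of_centralizes hcent
  by_cases hfpf : ∀ h ∈ H, (∀ u ∈ U, h * u = u * h) ∨ ∀ u ∈ U, h * u = u * h → u = 1
  · refine hasWeight_of_fpf hM hpN hHN hHab hUab hUp ?_ ?_ hfpf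
    · rintro rfl
      exact hcent fun h _ u hu => by rw [Subgroup.mem_bot.1 hu, mul_one, one_mul]
    · intro h hh
      rw [Subgroup.mem_normalizer_iff]
      refine fun u => ⟨hUinv h hh u, fun hu => ?_⟩
      have := hUinv h⁻¹ (inv_mem hh) _ hu
      simpa [mul_assoc] using this
  push Not at hfpf
  obtain ⟨t, ht, ⟨u₁, hu₁, hu₁t⟩, u₂, hu₂, hu₂t, hu₂1⟩ := hfpf
  -- `U = C × D`
  let C : Subgroup X := U ⊓ Subgroup.centralizer ({t} : Set X)
  let δ : U →* U :=
    { toFun := fun u => ⟨t * u * t⁻¹ * (u : X)⁻¹, mul_mem (hUinv t ht u u.2) (inv_mem u.2)⟩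
      map_one' := Subtype.ext (by simp)
      map_mul' := fun a b => Subtype.ext <| by
        show t * ((a : X) * b) * t⁻¹ * ((a : X) * b)⁻¹ =
          t * a * t⁻¹ * (a : X)⁻¹ * (t * b * t⁻¹ * (b : X)⁻¹)
        have hc : Commute (a : X)⁻¹ (t * b * t⁻¹ * (b : X)⁻¹) :=
          Commute.inv_left (hUab a a.2 _ (mul_mem (hUinv t ht b b.2) (inv_mem b.2)))
        rw [mul_assoc _ (a : X)⁻¹, hc.eq]
        group }
  let D : Subgroup X := δ.range.map U.subtype
  have hDU : D ≤ U := Subgroup.map_subtype_le _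
  have hCU : C ≤ U := inf_le_left
  have hCinv : ∀ h ∈ H, ∀ u ∈ C, h * u * h⁻¹ ∈ C := by
    intro h hh u hu
    refine ⟨hUinv h hh u hu.1, Subgroup.mem_centralizer_singleton_iff.2 ?_⟩
    have h1 : Commute h t := hHab h hh t ht
    have h2 : Commute u t := Subgroup.mem_centralizer_singleton_iff.1 hu.2
    exact ((h1.mul_left h2).mul_left h1.inv_left).eq
  have hDinv : ∀ h ∈ H, ∀ u ∈ D, h * u * h⁻¹ ∈ D := by
    rintro h hh _ ⟨_, ⟨a, rfl⟩, rfl⟩
    refine ⟨δ ⟨h * a * h⁻¹, hUinv h hh a a.2⟩, ⟨_, rfl⟩, ?_⟩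
    show t * (h * a * h⁻¹) * t⁻¹ * (h * (a : X) * h⁻¹)⁻¹ = h * (t * a * t⁻¹ * (a : X)⁻¹) * h⁻¹
    have h1 : Commute t h := hHab t ht h hh
    calc t * (h * a * h⁻¹) * t⁻¹ * (h * (a : X) * h⁻¹)⁻¹
        = (t * h) * a * (t * h)⁻¹ * (h * (a : X) * h⁻¹)⁻¹ := by group
      _ = h * (t * a * t⁻¹ * (a : X)⁻¹) * h⁻¹ := by rw [h1.eq]; group
  have hdisj : C ⊓ D = ⊥ := by
    refine (Subgroup.eq_bot_iff_forall _).2 ?_
    rintro x ⟨hxC, _, ⟨a, rfl⟩, rfl⟩
    set d := ((δ a : U) : X) with hd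
    have hdt : Commute t d := (Subgroup.mem_centralizer_singleton_iff.1 hxC.2).symm
    have hstep : ∀ i : ℕ, t ^ i * (a : X) * (t ^ i)⁻¹ = d ^ i * a := by
      intro i
      induction i with
      | zero => simp
      | succ i ih =>
        rw [pow_succ', pow_succ]
        calc t * t ^ i * (a : X) * (t * t ^ i)⁻¹ = t * (t ^ i * a * (t ^ i)⁻¹) * t⁻¹ := by group
          _ = t * d ^ i * a * t⁻¹ := by rw [ih]; group
          _ = d ^ i * (t * a * t⁻¹) := by rw [(hdt.pow_right i).eq]; group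
          _ = d ^ i * d * a := by
            show _ = d ^ i * (t * a * t⁻¹ * (a : X)⁻¹) * a
            group
    have h1 := hstep (orderOf t)
    rw [pow_orderOf_eq_one, one_mul, inv_one, mul_one] at h1
    have h2 : d ^ orderOf t = 1 := by simpa using h1.symm
    obtain ⟨j, hj⟩ := hUp (δ a)
    have h3 : d ^ p ^ j = 1 := congrArg Subtype.val hj
    have h4 : orderOf d ∣ Nat.gcd (orderOf t) (p ^ j) :=
      Nat.dvd_gcd (orderOf_dvd_of_pow_eq_one h2) (orderOf_dvd_of_pow_eq_one h3)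
    have h5 : (orderOf t).Coprime (p ^ j) := by
      refine (Nat.Coprime.pow_left j ((Fact.out : p.Prime).coprime_iff_not_dvd.2 ?_)).symm
      exact fun hd' => hHp (hd'.trans ((Subgroup.orderOf_mk t ht).symm ▸ orderOf_dvd_natCard (⟨t, ht⟩ : H)))
    rw [h5.gcd_eq_one, Nat.dvd_one, orderOf_eq_one_iff] at h4
    exact h4
  have hkerC : δ.ker.map U.subtype = C := by
    ext x
    constructor
    · rintro ⟨a, ha, rfl⟩
      refine ⟨a.2, Subgroup.mem_centralizer_singleton_iff.2 ?_⟩
      have h1 : t * (a : X) * t⁻¹ * (a : X)⁻¹ = 1 := congrArg Subtype.val (MonoidHom.mem_ker.1 ha)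
      rw [mul_inv_eq_one] at h1
      exact (mul_inv_eq_iff_eq_mul.1 h1).symm
    · intro hx
      refine ⟨⟨x, hx.1⟩, MonoidHom.mem_ker.2 (Subtype.ext ?_), rfl⟩
      show t * x * t⁻¹ * x⁻¹ = 1
      rw [← (Subgroup.mem_centralizer_singleton_iff.1 hx.2), mul_inv_cancel_right, mul_inv_cancel]
  have hcard : Nat.card U = Nat.card C * Nat.card D := by
    rw [← hkerC, Subgroup.card_map_of_injective U.subtype_injective,
      Subgroup.card_map_of_injective U.subtype_injective,
      Subgroup.card_eq_card_quotient_mul_card_subgroup δ.ker, mul_comm,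
      Nat.card_congr (QuotientGroup.quotientKerEquivRange δ).toEquiv]
  -- products
  have hsplit : ∀ h : H, Nat.card ↥(U ⊓ Subgroup.centralizer ({(h : X)} : Set X)) =
      Nat.card ↥(C ⊓ Subgroup.centralizer ({(h : X)} : Set X)) *
        Nat.card ↥(D ⊓ Subgroup.centralizer ({(h : X)} : Set X)) := by
    intro h
    let m : C × D → U := fun z => ⟨(z.1 : X) * z.2, mul_mem (hCU z.1.2) (hDU z.2.2)⟩
    have hm : Function.Bijective m := by
      refine (Nat.bijective_iff_injective_and_card m).2 ⟨?_, by rw [Nat.card_prod, hcard]⟩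
      intro z w hzw
      have h1 : (z.1 : X) * z.2 = w.1 * w.2 := congrArg Subtype.val hzw
      have h2 : (w.1 : X)⁻¹ * z.1 = w.2 * (z.2 : X)⁻¹ := by
        rw [eq_mul_inv_iff_mul_eq, mul_assoc, h1, inv_mul_cancel_left]
      have h3 : (w.1 : X)⁻¹ * z.1 ∈ C ⊓ D :=
        Subgroup.mem_inf.2 ⟨mul_mem (inv_mem w.1.2) z.1.2, h2 ▸ mul_mem w.2.2 (inv_mem z.2.2)⟩
      rw [hdisj, Subgroup.mem_bot] at h3
      have h4 : (z.1 : X) = w.1 := (inv_mul_eq_one.1 h3).symm
      rw [h3, eq_comm, mul_inv_eq_one] at h2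
      exact Prod.ext (Subtype.ext h4) (Subtype.ext h2.symm)
    rw [← Nat.card_prod]
    refine (Nat.card_congr (Equiv.ofBijective (fun z : ↥(C ⊓ Subgroup.centralizer ({(h : X)} : Set X)) ×
        ↥(D ⊓ Subgroup.centralizer ({(h : X)} : Set X)) =>
      (⟨(z.1 : X) * z.2, mul_mem (hCU z.1.2.1) (hDU z.2.2.1), mul_mem z.1.2.2 z.2.2.2⟩ :
        ↥(U ⊓ Subgroup.centralizer ({(h : X)} : Set X)))) ⟨?_, ?_⟩)).symm
    · intro z w hzw
      have h1 := @hm.1 (⟨z.1, z.1.2.1⟩, ⟨z.2, z.2.2.1⟩) (⟨w.1, w.1.2.1⟩, ⟨w.2, w.2.2.1⟩)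
        (Subtype.ext (by exact congrArg (fun a => (a.1 : X)) hzw))
      simp only [Prod.mk.injEq, Subtype.mk.injEq] at h1
      exact Prod.ext (Subtype.ext h1.1) (Subtype.ext h1.2)
    · rintro ⟨x, hxU, hxh⟩
      obtain ⟨⟨c, d⟩, hz⟩ := hm.2 ⟨x, hxU⟩
      have hz' : (c : X) * d = x := congrArg Subtype.val hz
      have hxh' : (h : X) * x * (h : X)⁻¹ = x := by
        rw [← Subgroup.mem_centralizer_singleton_iff.1 hxh, mul_inv_cancel_right]
      have h1 := @hm.1 (⟨(h : X) * c * (h : X)⁻¹, hCinv h h.2 c c.2⟩,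
        ⟨(h : X) * d * (h : X)⁻¹, hDinv h h.2 d d.2⟩) (c, d) (Subtype.ext (by
          show (h : X) * c * (h : X)⁻¹ * ((h : X) * d * (h : X)⁻¹) = (c : X) * d
          rw [hz']
          calc _ = (h : X) * ((c : X) * d) * (h : X)⁻¹ := by group
            _ = x := by rw [hz', hxh']))
      simp only [Prod.mk.injEq] at h1
      exact ⟨(⟨c, c.2, Subgroup.mem_centralizer_singleton_iff.2
          (mul_inv_eq_iff_eq_mul.1 (congrArg Subtype.val h1.1)).symm⟩,
        ⟨d, d.2, Subgroup.mem_centralizer_singleton_iff.2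
          (mul_inv_eq_iff_eq_mul.1 (congrArg Subtype.val h1.2)).symm⟩), Subtype.ext hz'⟩
  have hClt : Nat.card C < n := by
    rw [← hn]
    refine Set.Finite.card_lt_card (Set.toFinite _) (Set.ssubset_iff_subset_ne.2 ⟨hCU, fun h => ?_⟩)
    have : u₁ ∈ C := by rw [← SetLike.mem_coe, h]; exact hu₁
    exact hu₁t (Subgroup.mem_centralizer_singleton_iff.1 this.2).symm
  have hDlt : Nat.card D < n := by
    rw [← hn, hcard]
    have h2 : 1 < Nat.card C := by
      rw [Subgroup.one_lt_card_iff_ne_bot]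
      intro hb
      refine hu₂1 ?_
      rw [← Subgroup.mem_bot, ← hb]
      exact ⟨hu₂, Subgroup.mem_centralizer_singleton_iff.2 hu₂t.symm⟩
    exact lt_mul_left Nat.card_pos h2
  obtain ⟨ι, hι, a, μ, ha, hf⟩ := ih _ hClt C rfl (fun x hx y hy => hUab x (hCU hx) y (hCU hy))
    (hUp.to_le hCU) hCinv
  obtain ⟨κ, hκ, b, ν, hb, hg⟩ := ih _ hDlt D rfl (fun x hx y hy => hUab x (hDU hx) y (hDU hy))
    (hUp.to_le hDU) hDinv
  obtain ⟨f1, f2, f3⟩ := hf _ rfl
  obtain ⟨g1, g2, g3⟩ := hg _ rfl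
  refine ⟨ι × κ, inferInstance, fun z => a z.1 * b z.2, fun z => μ z.1 * ν z.2,
    fun z => mul_mem (ha _) (hb _), ?_⟩
  rintro F hF
  have hFeq : ∀ h, F h = (∑ i, a i * (μ i h : ℂ)) * ∑ j, b j * (ν j h : ℂ) := by
    intro h
    simp only [hF]
    rw [Fintype.sum_mul_sum, Fintype.sum_prod_type]
    exact Finset.sum_congr rfl fun i _ => Finset.sum_congr rfl fun j _ => by
      simp only [MonoidHom.mul_apply, Units.val_mul]; ring
  refine ⟨by rw [hFeq, f1, g1, one_mul], fun h => ?_, fun h hh => ?_⟩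
  · rw [hFeq, hsplit, hcard, Nat.cast_mul, Nat.cast_mul, ← f2 h, ← g2 h, map_mul]
    ring
  · rw [hFeq]
    have hint : ∀ {κ' : Type} [Fintype κ'] (a' : κ' → ℂ) (μ' : κ' → ↥H →* ℂˣ),
        (∀ i, a' i ∈ Cfsg.Lib.Char.cycInt N) → (∑ i, a' i * (μ' i h : ℂ)) ∈ Cfsg.Lib.Block.locRing hM := by
      intro κ' _ a' μ' ha'
      refine Cfsg.Lib.Block.isIntegral_mem_locRing hM (Cfsg.Lib.Char.mem_cycInt.1 (sum_mem fun i _ =>
        mul_mem (ha' i) (Cfsg.Lib.Char.root_mem_cycInt ?_))).2
      obtain ⟨d, hd⟩ := hHN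
      rw [hd, pow_mul, ← Units.val_pow_eq_pow_val, ← map_pow, pow_card_eq_one', map_one,
        Units.val_one, one_pow]
    by_cases hc : ∀ u ∈ C, (h : X) * u = u * (h : X)
    · refine Cfsg.Lib.Block.memLocalIdeal_mul_left hM (hint a μ ha) (g3 h fun hd => hh fun u hu => ?_)
      have h1 := hsplit h
      have e1 : C ⊓ Subgroup.centralizer ({(h : X)} : Set X) = C := inf_eq_left.2 fun u hu =>
        Subgroup.mem_centralizer_singleton_iff.2 (hc u hu).symm
      have e2 : D ⊓ Subgroup.centralizer ({(h : X)} : Set X) = D := inf_eq_left.2 fun u hu =>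
        Subgroup.mem_centralizer_singleton_iff.2 (hd u hu).symm
      rw [e1, e2, ← hcard] at h1
      have h2 := Subgroup.eq_of_le_of_card_ge (inf_le_left : U ⊓ _ ≤ U) h1.ge
      exact (Subgroup.mem_centralizer_singleton_iff.1 (h2.ge hu).2).symm
    · exact Cfsg.Lib.Block.memLocalIdeal_mul_right hM (f3 h hc) (hint b ν hb)

/-- Let X be a finite group and V a normal subgroup of X in which every element has order dividing the prime p, whose index in X is prime to p and which is its own centralizer in X; so V is an elementary abelian normal Sylow p-subgroup, and any complement G to V in X is a group of order prime to p acting faithfully on the vector space V by conjugation (the coprime linear setting of the k(GV) problem). Let G be a complement to V in X and suppose that for some v in V the centralizer of v in G is abelian. Then the number of conjugacy classes of X is at most the order of V (the abelian-stabilizer criterion for the k(GV) problem). -/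
theorem result {X : Type*} [Group X] [Finite X] (p : ℕ) [Fact p.Prime] (V : Subgroup X) [V.Normal] (hVexp : ∀ v ∈ V, v ^ p = 1) (hidx : ¬ p ∣ V.index) (hself : Subgroup.centralizer (V : Set X) = V) (G : Subgroup X) (hGV : Subgroup.IsComplement' V G) (v : X) (hv : v ∈ V) (hab : ∀ a ∈ G ⊓ Subgroup.centralizer ({v} : Set X), ∀ b ∈ G ⊓ Subgroup.centralizer ({v} : Set X), a * b = b * a) : Nat.card (ConjClasses X) ≤ Nat.card V := by
  classical
  haveI := Fintype.ofFinite X
  obtain ⟨M, hM⟩ := Cfsg.Lib.Block.exists_isPModular (Fact.out : p.Prime)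
  have hVp : IsPGroup p V := fun x => ⟨1, Subtype.ext (by
    rw [pow_one, Subgroup.coe_pow]; exact hVexp x x.2)⟩
  have habV : ∀ a ∈ V, ∀ b ∈ V, a * b = b * a := fun a ha b hb => by
    have : a ∈ Subgroup.centralizer (V : Set X) := hself.symm ▸ ha
    exact (Subgroup.mem_centralizer_iff.1 this b hb).symm
  let H : Subgroup X := G ⊓ Subgroup.centralizer ({v} : Set X)
  have hHp : ¬ p ∣ Nat.card H := fun hd =>
    hidx (hGV.symm.index_eq_card.symm ▸ hd.trans (Subgroup.card_dvd_of_le inf_le_left))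
  haveI : NeZero (p * Nat.card X) := ⟨Nat.mul_ne_zero (Fact.out : p.Prime).ne_zero Nat.card_pos.ne'⟩
  have hHN : Nat.card H ∣ p * Nat.card X := H.card_subgroup_dvd_card.trans (dvd_mul_left _ _)
  obtain ⟨ι, hι, a, μ, ha, hf⟩ := hasWeight hM (dvd_mul_right p (Nat.card X)) (H := H) hHN
    hab hHp _ V rfl habV hVp (fun h _ u hu => Subgroup.Normal.conj_mem ‹V.Normal› u hu h)
  haveI : Fintype H := Fintype.ofFinite H
  set ψ : H → ℂ := fun h => ∑ i, a i * (μ i h : ℂ) with hψ
  obtain ⟨h1, h2, h3⟩ := hf ψ hψ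
  have hsplit : ∀ h : H, Nat.card V = Nat.card ↥(V ⊓ Subgroup.centralizer ({(h : X)} : Set X)) *
      (Nat.card V / Nat.card ↥(V ⊓ Subgroup.centralizer ({(h : X)} : Set X))) := fun h =>
    (Nat.mul_div_cancel' (Subgroup.card_dvd_of_le inf_le_left)).symm
  refine Cfsg.Lib.Char.card_conjClasses_le_of_weight hM hVp hidx habV hGV hv (H := H) rfl
    (dvd_mul_left (Nat.card X) p) ψ (fun l => Cfsg.classInner ψ (l : H → ℂ)) (fun l => ?_) ?_ h1
    (fun h hh => h3 h fun hc => hh ?_)
    (fun h => Nat.card V / Nat.card ↥(V ⊓ Subgroup.centralizer ({(h : X)} : Set X))) (fun h => ?_)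
    (fun h => ?_)
  · have e : ψ = ∑ i, a i • (fun h => (μ i h : ℂ)) := by
      funext h; simp [hψ]
    rw [e, Cfsg.Lib.Char.classInner_sum_left]
    refine sum_mem fun i _ => ?_
    rw [Cfsg.Lib.Char.classInner_smul_left]
    refine mul_mem (ha i) ?_
    obtain ⟨m, hm⟩ := (Cfsg.Lib.Char.isIrrCharacter_linear (μ i)).isCharacter.exists_nat_classInner
      l.2.isCharacter
    rw [hm]
    exact natCast_mem _ m
  · refine Cfsg.Lib.Char.eq_sum_classInner fun x y => ?_
    simp only [hψ, map_mul, Units.val_mul, map_inv, mul_comm (μ _ y), mul_inv_cancel_right]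
  · have hhV : (h : X) ∈ V := hself ▸ Subgroup.mem_centralizer_iff.2 fun u hu => (hc u hu).symm
    exact Subtype.ext (Subgroup.mem_bot.1 (hGV.disjoint.le_bot ⟨hhV, h.2.1⟩))
  · have := h2 h
    conv_rhs at this => rw [hsplit h, Nat.cast_mul, mul_comm]
    exact mul_right_cancel₀ (Nat.cast_ne_zero.2 Nat.card_pos.ne') this
  · rw [mul_comm, ← hsplit h]

end Cfsg.Agent.S4958
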