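import Cfsg.Statements.S4959
import Cfsg.Agent.Lib.Char.RealVector.Weights
import Cfsg.Agent.Lib.Block.RegInt

set_option autoImplicit false
open Cfsg

namespace Cfsg.Agent.S4959

universe u

open Cfsg.Lib.Char.RealVector

/-- An action by additive maps is linear over the prime field. -/
def linRep {p : ℕ} {H A : Type*} [Group H] [AddCommGroup A] [Module (ZMod p) A] (f : H → A →+ A)
    (h1 : ∀ x, f 1 x = x) (hm : ∀ a b x, f (a * b) x = f a (f b x)) : H →* (A ≃ₗ[ZMod p] A) where
  toFun h :=
    { (f h).toZModLinearMap p with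
      invFun := f h⁻¹
      left_inv := fun x => by
        show f h⁻¹ (f h x) = x
        rw [← hm, inv_mul_cancel, h1]
      right_inv := fun x => by
        show f h (f h⁻¹ x) = x
        rw [← hm, mul_inv_cancel, h1] }
  map_one' := LinearEquiv.ext h1
  map_mul' a b := LinearEquiv.ext (hm a b)

theorem linRep_apply {p : ℕ} {H A : Type*} [Group H] [AddCommGroup A] [Module (ZMod p) A] (f : H → A →+ A)
    (h1 : ∀ x, f 1 x = x) (hm : ∀ a b x, f (a * b) x = f a (f b x)) (h : H) (x : A) :
    linRep (p := p) f h1 hm h x = f h x := rfl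

/-- A biadditive pairing is bilinear over the prime field. -/
def bilOf {p : ℕ} {A : Type*} [AddCommGroup A] [Module (ZMod p) A] (b : A →+ A →+ ZMod p) :
    A →ₗ[ZMod p] A →ₗ[ZMod p] ZMod p :=
  (AddMonoidHom.mk' (fun x => (b x).toZModLinearMap p)
    (fun x y => LinearMap.ext fun z => DFunLike.congr_fun (map_add b x y) z)).toZModLinearMap p

/-- The bound from an action on an exponent `p` group inside `V`. -/
theorem bound_of_rep {X : Type u} [Group X] [Finite X] {p : ℕ} [Fact p.Prime] {V G H : Subgroup X} [V.Normal]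
    (hVexp : ∀ v ∈ V, v ^ p = 1) (hidx : ¬ p ∣ V.index) (hab : ∀ a ∈ V, ∀ b ∈ V, a * b = b * a)
    (hGV : Subgroup.IsComplement' V G) {v : X} (hv : v ∈ V) (hH : H = G ⊓ Subgroup.centralizer ({v} : Set X))
    (hpH : ¬ p ∣ Nat.card H) {A : Type u} [AddCommGroup A] [Module (ZMod p) A] [Finite A] (ι : A → X)
    (hιadd : ∀ a b, ι (a + b) = ι a * ι b) (hιinj : Function.Injective ι) (hιV : ∀ a, ι a ∈ V)
    (ρ : H →* (A ≃ₗ[ZMod p] A)) (hρ : ∀ (h : H) a, ι (ρ h a) = (h : X) * ι a * (h : X)⁻¹)
    (hfaith : ∀ h : H, (∀ a, ρ h a = a) → h = 1)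
    (B : A →ₗ[ZMod p] A →ₗ[ZMod p] ZMod p) (hinv : ∀ h a b, B (ρ h a) (ρ h b) = B a b)
    (hnd : ∀ a, (∀ b, B a b = 0) → a = 0) : Nat.card (ConjClasses X) ≤ Nat.card V := by
  classical
  have hp : p.Prime := Fact.out
  haveI := Fintype.ofFinite X
  haveI : Fintype H := Fintype.ofFinite H
  obtain ⟨M, hM⟩ := Cfsg.Lib.Block.exists_isPModular hp
  haveI : NeZero (Nat.card X * p) := ⟨Nat.mul_ne_zero Nat.card_pos.ne' hp.ne_zero⟩
  obtain ⟨ψ, ⟨c, hc, hψ⟩, h1, hn, hmem⟩ := weight_of_pairing (H := H) (N := Nat.card X * p) hM hpH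
    (H.card_subgroup_dvd_card.trans (dvd_mul_right _ _)) (dvd_mul_left _ _) _ A rfl ρ B hinv hnd
  have hmov : ∀ h : H, Nat.card (fixSub ρ h) * Nat.card (movSub ρ h) = Nat.card A := fun h => by
    rw [← Nat.card_prod]
    exact Nat.card_congr (Submodule.prodEquivOfIsCompl _ _ (isCompl_fix_mov hpH ρ h)).toEquiv
  refine Cfsg.Lib.Char.card_conjClasses_le_of_weight hM (fun x => ⟨1, by
      rw [pow_one]; exact Subtype.ext (hVexp _ x.2)⟩) hidx hab hGV hv (H := H) hH (dvd_mul_right _ p) ψ c hc
    (by rw [hψ, finsum_eq_sum_of_fintype]) h1 (fun h hh => hmem h ?_)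
    (fun h => Nat.card (movSub ρ h)) (fun h => ?_) (fun h => ?_)
  · by_contra hcon
    push Not at hcon
    exact hh (hfaith h hcon)
  · refine mul_right_cancel₀ (b := (Nat.card (fixSub ρ h) : ℂ)) (Nat.cast_ne_zero.2 Nat.card_pos.ne') ?_
    rw [hn, ← hmov h, Nat.cast_mul, mul_comm]
  · rw [← Nat.card_prod]
    refine Nat.card_le_card_of_injective (fun z : movSub ρ h × ↥(V ⊓ Subgroup.centralizer ({(h : X)} : Set X)) =>
      (⟨ι z.1 * (z.2 : X), mul_mem (hιV _) z.2.2.1⟩ : V)) ?_
    intro z w hzw
    have h2 : ι z.1 * (z.2 : X) = ι w.1 * (w.2 : X) := congrArg Subtype.val hzw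
    have e : ι ((z.1 : A) - w.1) * ι w.1 = ι z.1 := by rw [← hιadd, sub_add_cancel]
    have h3 : ι ((z.1 : A) - w.1) = (w.2 : X) * (z.2 : X)⁻¹ := by
      rw [eq_mul_inv_iff_mul_eq]
      refine mul_left_cancel (a := ι w.1) ?_
      rw [← mul_assoc, hab _ (hιV _) _ (hιV _), e, h2]
    have h4 : (z.1 : A) - w.1 ∈ fixSub ρ h := mem_fixSub.2 (hιinj (by
      rw [hρ, h3, ← Subgroup.mem_centralizer_singleton_iff.1 (mul_mem w.2.2.2 (inv_mem z.2.2.2)),
        mul_inv_cancel_right]))
    have h5 : (z.1 : A) - w.1 = 0 := Submodule.disjoint_def.1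
      (isCompl_fix_mov hpH ρ h).disjoint _ h4 (sub_mem z.1.2 w.1.2)
    have h6 : z.1 = w.1 := Subtype.ext (sub_eq_zero.1 h5)
    refine Prod.ext h6 (Subtype.ext ?_)
    rw [h6] at h2
    exact mul_left_cancel h2

/-- Let X be a finite group and V a normal subgroup of X in which every element has order dividing the prime p, whose index in X is prime to p and which is its own centralizer in X; so V is an elementary abelian normal Sylow p-subgroup, and any complement G to V in X is a group of order prime to p acting faithfully on the vector space V by conjugation (the coprime linear setting of the k(GV) problem). Let G be a complement to V in X, let v be in V and let H be the centralizer of v in G. Suppose there is a subgroup U of V normalized by H, on which H acts faithfully, and carrying an H-invariant bi-additive pairing β with values in the integers modulo p that is nondegenerate on U (equivalently: the restriction of the module V to H has a faithful self-dual submodule; such a v is called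 a real vector for G). Then the number of conjugacy classes of X is at most the order of V (the real-vector criterion for the k(GV) problem). The pairing is given as a function on X whose relevant values are those on pairs from U. -/
theorem result {X : Type*} [Group X] [Finite X] (p : ℕ) [Fact p.Prime] (V : Subgroup X) [V.Normal] (hVexp : ∀ v ∈ V, v ^ p = 1) (hidx : ¬ p ∣ V.index) (hself : Subgroup.centralizer (V : Set X) = V) (G : Subgroup X) (hGV : Subgroup.IsComplement' V G) (v : X) (hv : v ∈ V) (U : Subgroup X) (hUV : U ≤ V) (hUinv : ∀ h ∈ G, h * v * h⁻¹ = v → ∀ u ∈ U, h * u * h⁻¹ ∈ U) (hUfaith : ∀ h ∈ G, h * v * h⁻¹ = v → (∀ u ∈ U, h * u * h⁻¹ = u) → h = 1) (β : X → X → ZMod p) (hβl : ∀ u ∈ U, ∀ u' ∈ U, ∀ w ∈ U, β (u * u') w = β u w + β u' w) (hβr : ∀ u ∈ U, ∀ w ∈ U, ∀ w' ∈ U, β u (w * w') = β u w + β u w') (hβinv : ∀ h ∈ G, h * v * h⁻¹ = v → ∀ u ∈ U, ∀ w ∈ U, β (h * u * h⁻¹) (h * w * h⁻¹) = β u w) (hβnd : ∀ u ∈ U, (∀ w ∈ U, β u w = 0) → u = 1) : Nat.card (ConjClasses X) ≤ Nat.card V :=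 by
  classical
  have hp : p.Prime := Fact.out
  haveI := Fintype.ofFinite X
  have hab : ∀ a ∈ V, ∀ b ∈ V, a * b = b * a := fun a ha b hb =>
    (Subgroup.mem_centralizer_iff.1 (hself.ge hb) a ha)
  let H : Subgroup X := G ⊓ Subgroup.centralizer ({v} : Set X)
  haveI : Fintype H := Fintype.ofFinite H
  have hHv : ∀ h : H, (h : X) * v * (h : X)⁻¹ = v := fun h => by
    rw [Subgroup.mem_centralizer_singleton_iff.1 h.2.2, mul_inv_cancel_right]
  have hpH : ¬ p ∣ Nat.card H := fun hd => hidx (hGV.symm.index_eq_card.symm ▸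
    hd.trans (Subgroup.card_dvd_of_le (inf_le_left : H ≤ G)))
  letI : CommGroup U := { (inferInstance : Group U) with
    mul_comm := fun a b => Subtype.ext (hab a (hUV a.2) b (hUV b.2)) }
  have hexp : ∀ x : Additive U, p • x = 0 := fun x => by
    have : (x.toMul) ^ p = 1 := Subtype.ext (hVexp _ (hUV x.toMul.2))
    exact congrArg Additive.ofMul this
  letI : Module (ZMod p) (Additive U) := AddCommGroup.zmodModule hexp
  have hconj : ∀ (h : H) (u : U), (h : X) * (u : X) * (h : X)⁻¹ ∈ U := fun h u => hUinv h h.2.1 (hHv h) u u.2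
  let act : H → Additive U → Additive U := fun h x => Additive.ofMul ⟨_, hconj h x.toMul⟩
  have hact : ∀ a b : H, ∀ x, act (a * b) x = act a (act b x) := fun a b x =>
    congrArg Additive.ofMul (Subtype.ext (by simp [act, mul_assoc]))
  have hone : ∀ x, act 1 x = x := fun x => by
    apply Additive.toMul.injective
    exact Subtype.ext (by simp [act])
  let φ : H → (Additive U →+ Additive U) := fun h =>
    AddMonoidHom.mk' (act h) fun x y => congrArg Additive.ofMul (Subtype.ext (by simp [act, mul_assoc]))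
  let B0 : Additive U →+ Additive U →+ ZMod p := AddMonoidHom.mk' (fun x : Additive U =>
      AddMonoidHom.mk' (fun y : Additive U => β (x.toMul : X) (y.toMul : X))
        (fun y z => hβr _ x.toMul.2 _ y.toMul.2 _ z.toMul.2))
      (fun x y => AddMonoidHom.ext fun z => hβl _ x.toMul.2 _ y.toMul.2 _ z.toMul.2)
  refine bound_of_rep hVexp hidx hab hGV hv (H := H) rfl hpH (A := Additive U) (fun x => (x.toMul : X))
    (fun a b => rfl) (fun a b h => Additive.toMul.injective (Subtype.ext h)) (fun a => hUV a.toMul.2)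
    (linRep (p := p) φ hone hact) (fun h x => rfl) (fun h hh => ?_)
    (bilOf B0)
    (fun h a b => hβinv h h.2.1 (hHv h) _ a.toMul.2 _ b.toMul.2) (fun a ha => ?_)
  · refine Subtype.ext (hUfaith h h.2.1 (hHv h) fun u hu => ?_)
    exact congrArg (fun x : Additive U => (x.toMul : X)) (hh (Additive.ofMul ⟨u, hu⟩))
  · apply Additive.toMul.injective
    exact Subtype.ext (hβnd _ a.toMul.2 fun w hw => ha (Additive.ofMul ⟨w, hw⟩))

end Cfsg.Agent.S4959
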