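import Cfsg.Statements.S4964
import Cfsg.Agent.Lib.Block.InflateRegular
import Cfsg.Agent.Lib.Coprime.Action
import Cfsg.Agent.Lib.PGroup.Basic

set_option autoImplicit false
open Cfsg

namespace Cfsg.Agent.S4964

/-- Let D be a normal p-subgroup of the finite group G, let D′ be its commutator subgroup (normal in G), and fix a maximal ideal M of the algebraic integers containing p. Then (i) two irreducible characters of G ⧸ D′ lie in the same p-block if and only if their inflations to G do, and (ii) every p-block of G contains the inflation of some irreducible character of G ⧸ D′; so inflation induces a bijection between the p-blocks of G ⧸ D′ and the p-blocks of G. -/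
theorem result {G : Type*} [Group G] [Finite G] (p : ℕ) [Fact p.Prime] (M : Ideal Cfsg.AlgInt) (hM : Cfsg.IsPModular p M) (D : Subgroup G) [D.Normal] (hD : IsPGroup p D) : (∀ χ ψ : Cfsg.IrrCharacter (G ⧸ ⁅D, D⁆), Cfsg.SameBlock M (χ : G ⧸ ⁅D, D⁆ → ℂ) (ψ : G ⧸ ⁅D, D⁆ → ℂ) ↔ Cfsg.SameBlock M ((χ : G ⧸ ⁅D, D⁆ → ℂ) ∘ QuotientGroup.mk) ((ψ : G ⧸ ⁅D, D⁆ → ℂ) ∘ QuotientGroup.mk)) ∧ ∀ B : Set (Cfsg.IrrCharacter G), Cfsg.IsPBlock M B → ∃ χ : Cfsg.IrrCharacter (G ⧸ ⁅D, D⁆), ∃ θ ∈ B, (θ : G → ℂ) = (χ : G ⧸ ⁅D, D⁆ → ℂ) ∘ QuotientGroup.mk := by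
  classical
  haveI := Fintype.ofFinite G
  have hle : ⁅D, D⁆ ≤ D := Subgroup.commutator_le_right D D
  refine ⟨Cfsg.Lib.Block.sameBlock_inflate_iff hM ⁅D, D⁆ D hD hle fun g hg hgD => ?_,
    fun B hB => Cfsg.Lib.Block.exists_inflate_mem hM ⁅D, D⁆ D hD hle hB⟩
  have hnD : ∀ x : G, x ∈ Subgroup.normalizer (D : Set G) := fun x => by
    rw [Subgroup.normalizer_eq_top]; exact Subgroup.mem_top x
  have hcop : (Nat.card (Subgroup.zpowers g)).Coprime (Nat.card D) := by
    obtain ⟨n, hn⟩ := IsPGroup.iff_card.1 hD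
    rw [Nat.card_zpowers, hn]
    exact (Nat.Coprime.pow_left n ((Fact.out : p.Prime).coprime_iff_not_dvd.2 hg)).symm
  have h := Cfsg.Lib.Coprime.le_centralizer_of_commutator_le_frattini (A := Subgroup.zpowers g) (G := D)
    (fun x _ => hnD x) hcop (Or.inl (Group.isSolvable_of_comm fun ⟨a, m, ha⟩ ⟨b, n, hb⟩ => Subtype.ext (by subst ha; subst hb; exact ((Commute.refl g).zpow_zpow m n).eq))) ?_
  · exact h (Subgroup.mem_zpowers g)
  · refine le_trans ?_ (Subgroup.map_mono (Cfsg.Lib.PGroup.commutator_le_frattini hD))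
    rw [Subgroup.map_subtype_commutator, Subgroup.commutator_le]
    intro d hd a ha
    obtain ⟨m, rfl⟩ := Subgroup.mem_zpowers_iff.1 ha
    have hc : Commute ((g ^ m : G) : G ⧸ ⁅D, D⁆) (d : G ⧸ ⁅D, D⁆) := by
      rw [QuotientGroup.mk_zpow]
      exact (show Commute ((g : G) : G ⧸ ⁅D, D⁆) (d : G ⧸ ⁅D, D⁆) from
        (Subgroup.mem_centralizer_iff.1 hgD _ ⟨d, hd, rfl⟩).symm).zpow_left m
    rw [← QuotientGroup.eq_one_iff, commutatorElement_def, QuotientGroup.mk_mul, QuotientGroup.mk_mul,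
      QuotientGroup.mk_mul, QuotientGroup.mk_inv, QuotientGroup.mk_inv, ← hc.eq]
    group

end Cfsg.Agent.S4964
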