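import Cfsg.Statements.S4965
import Mathlib.GroupTheory.GroupAction.CardCommute
import Mathlib.GroupTheory.SemidirectProduct
import Mathlib.Tactic

set_option autoImplicit false
open Cfsg

namespace Cfsg.Agent.S4965

/-- Let X be a finite group with an abelian normal subgroup V (any two elements of V commute), and let φ be the action of X ⧸ V on V induced by conjugation (well defined because V is abelian; the hypothesis hφ says that the class of x acts as conjugation by x). Then X has at most as many conjugacy classes as the semidirect product of V by X ⧸ V formed with this action: the split extension has the largest class number among extensions with the given action. -/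
theorem result {X : Type*} [Group X] [Finite X] (V : Subgroup X) [V.Normal] (hab : ∀ a ∈ V, ∀ b ∈ V, a * b = b * a) (φ : X ⧸ V →* MulAut ↥V) (hφ : ∀ (x : X) (v : ↥V), ((φ (QuotientGroup.mk x) v : ↥V) : X) = x * v * x⁻¹) : Nat.card (ConjClasses X) ≤ Nat.card (ConjClasses (SemidirectProduct ↥V (X ⧸ V) φ)) := by
  classical
  haveI : Finite (SemidirectProduct ↥V (X ⧸ V) φ) :=
    Finite.of_equiv _ SemidirectProduct.equivProd.symm
  have hcard : Nat.card (SemidirectProduct ↥V (X ⧸ V) φ) = Nat.card X := by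
    rw [SemidirectProduct.card, mul_comm, Subgroup.card_eq_card_quotient_mul_card_subgroup V]
  let π : X →* X ⧸ V := QuotientGroup.mk' V
  have hsub : ∀ x x0 : X, π x = π x0 → x * x0⁻¹ ∈ V := fun x x0 h => by
    rw [← QuotientGroup.eq_one_iff]
    show π (x * x0⁻¹) = 1
    rw [map_mul, map_inv, h, mul_inv_cancel]
  -- a chosen commuting pair over each pair of cosets
  have hbase : ∀ P : (X ⧸ V) × (X ⧸ V), ∃ b : X × X, ∀ x y : X, Commute x y → π x = P.1 → π y = P.2 →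
      Commute b.1 b.2 ∧ π b.1 = P.1 ∧ π b.2 = P.2 := by
    intro P
    by_cases h : ∃ b : X × X, Commute b.1 b.2 ∧ π b.1 = P.1 ∧ π b.2 = P.2
    · obtain ⟨b, hb⟩ := h
      exact ⟨b, fun _ _ _ _ _ => hb⟩
    · exact ⟨(1, 1), fun x y hc hx hy => absurd ⟨(x, y), hc, hx, hy⟩ h⟩
  choose b hb using hbase
  have hbs : ∀ a : {q : X × X // Commute q.1 q.2}, Commute (b (π a.1.1, π a.1.2)).1 (b (π a.1.1, π a.1.2)).2 ∧
      π (b (π a.1.1, π a.1.2)).1 = π a.1.1 ∧ π (b (π a.1.1, π a.1.2)).2 = π a.1.2 :=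
    fun a => hb _ _ _ a.2 rfl rfl
  let u : {q : X × X // Commute q.1 q.2} → SemidirectProduct ↥V (X ⧸ V) φ := fun a =>
    ⟨⟨a.1.1 * (b (π a.1.1, π a.1.2)).1⁻¹, hsub _ _ (hbs a).2.1.symm⟩, π a.1.1⟩
  let w : {q : X × X // Commute q.1 q.2} → SemidirectProduct ↥V (X ⧸ V) φ := fun a =>
    ⟨⟨a.1.2 * (b (π a.1.1, π a.1.2)).2⁻¹, hsub _ _ (hbs a).2.2.symm⟩, π a.1.2⟩
  have key : ∀ (q : X ⧸ V) (x0 : X) (v : ↥V), π x0 = q → ((φ q v : ↥V) : X) = x0 * v * x0⁻¹ := by
    intro q x0 v h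
    subst h
    exact hφ x0 v
  have hcomm : ∀ a, Commute (u a) (w a) := by
    intro a
    obtain ⟨hc, hx, hy⟩ := hbs a
    set x0 := (b (π a.1.1, π a.1.2)).1 with hx0
    set y0 := (b (π a.1.1, π a.1.2)).2 with hy0
    have hxy : a.1.1 * a.1.2 = a.1.2 * a.1.1 := a.2
    have h0 : x0 * y0 = y0 * x0 := hc
    refine SemidirectProduct.ext ?_ ?_
    · apply Subtype.ext
      rw [SemidirectProduct.mul_left, SemidirectProduct.mul_left, Subgroup.coe_mul,
        Subgroup.coe_mul]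
      show a.1.1 * x0⁻¹ * ((φ (π a.1.1) ⟨a.1.2 * y0⁻¹, _⟩ : ↥V) : X) =
        a.1.2 * y0⁻¹ * ((φ (π a.1.2) ⟨a.1.1 * x0⁻¹, _⟩ : ↥V) : X)
      rw [key _ x0 _ hx, key _ y0 _ hy]
      show a.1.1 * x0⁻¹ * (x0 * (a.1.2 * y0⁻¹) * x0⁻¹) = a.1.2 * y0⁻¹ * (y0 * (a.1.1 * x0⁻¹) * y0⁻¹)
      calc a.1.1 * x0⁻¹ * (x0 * (a.1.2 * y0⁻¹) * x0⁻¹)
          = a.1.1 * a.1.2 * (x0 * y0)⁻¹ := by group
        _ = a.1.2 * a.1.1 * (y0 * x0)⁻¹ := by rw [hxy, h0]
        _ = a.1.2 * y0⁻¹ * (y0 * (a.1.1 * x0⁻¹) * y0⁻¹) := by group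
    · show π a.1.1 * π a.1.2 = π a.1.2 * π a.1.1
      rw [← map_mul, ← map_mul, show a.1.1 * a.1.2 = a.1.2 * a.1.1 from a.2]
  let F : {q : X × X // Commute q.1 q.2} →
      {q : SemidirectProduct ↥V (X ⧸ V) φ × SemidirectProduct ↥V (X ⧸ V) φ // Commute q.1 q.2} :=
    fun a => ⟨(u a, w a), hcomm a⟩
  have hinj : Function.Injective F := by
    intro a a' h
    have h1 : u a = u a' := congrArg (fun q => q.1.1) h
    have h2 : w a = w a' := congrArg (fun q => q.1.2) h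
    have e1 : π a.1.1 = π a'.1.1 := congrArg SemidirectProduct.right h1
    have e2 : π a.1.2 = π a'.1.2 := congrArg SemidirectProduct.right h2
    have eb : b (π a.1.1, π a.1.2) = b (π a'.1.1, π a'.1.2) := by rw [e1, e2]
    have f1 : a.1.1 * (b (π a.1.1, π a.1.2)).1⁻¹ = a'.1.1 * (b (π a'.1.1, π a'.1.2)).1⁻¹ :=
      congrArg (fun s : SemidirectProduct ↥V (X ⧸ V) φ => ((s.left : ↥V) : X)) h1
    have f2 : a.1.2 * (b (π a.1.1, π a.1.2)).2⁻¹ = a'.1.2 * (b (π a'.1.1, π a'.1.2)).2⁻¹ :=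
      congrArg (fun s : SemidirectProduct ↥V (X ⧸ V) φ => ((s.left : ↥V) : X)) h2
    rw [eb] at f1 f2
    exact Subtype.ext (Prod.ext (mul_right_cancel f1) (mul_right_cancel f2))
  have h := Nat.card_le_card_of_injective F hinj
  rw [card_comm_eq_card_conjClasses_mul_card, card_comm_eq_card_conjClasses_mul_card, hcard] at h
  exact Nat.le_of_mul_le_mul_right h Nat.card_pos

end Cfsg.Agent.S4965
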