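import Cfsg.Statements.S4967
import Mathlib.FieldTheory.Normal.Basic
import Mathlib.RingTheory.Trace.Basic
import Mathlib.FieldTheory.Finite.GaloisField
-- import your own Cfsg.Agent.* helpers here

set_option autoImplicit false
open Cfsg

namespace Cfsg.Agent.S4967

/-- Core: the module is the field `K` with `H` acting by multiplication through `ι`. -/
theorem core {F : Type*} [Field F] [Fintype F] {H : Type*} [CommGroup H] [Finite H]
    {V : Type*} [AddCommGroup V] [Module F V] (ρ : Representation F H V)
    {K : Type*} [Field K] [Algebra F K] [FiniteDimensional F K]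
    (e : V ≃ₗ[F] K) (ι : H →* K) (hι : Function.Injective ι)
    (he : ∀ h x, e (ρ h x) = ι h * e x) (hadj : Algebra.adjoin F (Set.range ι) = ⊤) :
    (Module.finrank F V = 1 → (∃ B : LinearMap.BilinForm F V, B.Nondegenerate ∧
      ∀ h : H, ∀ x y : V, B (ρ h x) (ρ h y) = B x y) → Nat.card H ≤ 2) ∧
    (2 ≤ Module.finrank F V → ((∃ B : LinearMap.BilinForm F V, B.Nondegenerate ∧
      ∀ h : H, ∀ x y : V, B (ρ h x) (ρ h y) = B x y) ↔
      (Even (Module.finrank F V) ∧
        Nat.card H ∣ Fintype.card F ^ (Module.finrank F V / 2) + 1))) := by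
  classical
  haveI : Finite K := Module.finite_of_finite F
  have hn : Module.finrank F V = Module.finrank F K := e.finrank_eq
  rw [hn]
  haveI : IsCyclic H := isCyclic_of_subgroup_isDomain ι hι
  obtain ⟨g, hg⟩ := IsCyclic.exists_generator (α := H)
  set ζ := ι g with hζ
  have hpow : ∀ h, ∃ k : ℕ, g ^ k = h := fun h => by
    have := hg h
    rwa [← mem_powers_iff_mem_zpowers] at this
  have hord : orderOf ζ = Nat.card H := by
    rw [hζ, orderOf_injective ι hι, orderOf_eq_card_of_forall_mem_zpowers hg]
  have hgen : Algebra.adjoin F {ζ} = (⊤ : Subalgebra F K) := by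
    rw [eq_top_iff, ← hadj]
    apply Algebra.adjoin_le
    rintro _ ⟨h, rfl⟩
    obtain ⟨k, rfl⟩ := hpow h
    rw [map_pow]
    exact Subalgebra.pow_mem _ (Algebra.self_mem_adjoin_singleton F ζ) k
  have hζ0 : ζ ≠ 0 := by
    intro h0
    have h2 : ι g * ι g⁻¹ = 1 := by rw [← map_mul, mul_inv_cancel, map_one]
    rw [← hζ, h0, zero_mul] at h2
    exact zero_ne_one h2
  let φ := FiniteField.frobeniusAlgEquivOfAlgebraic F K
  have hφ : ∀ (j : ℕ) (x : K), (φ ^ j) x = x ^ Fintype.card F ^ j := by
    intro j x
    have h1 := congrFun (FiniteField.coe_frobeniusAlgEquivOfAlgebraic_iterate F K j) x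
    rw [← h1]
    exact congrFun (AlgEquiv.coe_pow φ j) x
  have forward : (∃ B : LinearMap.BilinForm F V, B.Nondegenerate ∧
      ∀ h : H, ∀ x y : V, B (ρ h x) (ρ h y) = B x y) →
      ∃ j, j < Module.finrank F K ∧ ζ ^ Fintype.card F ^ j = ζ⁻¹ ∧ Module.finrank F K ∣ 2 * j := by
    rintro ⟨B, hB, hinv⟩
    have key : ∀ a b : K, B (e.symm (ζ * a)) (e.symm b) = B (e.symm a) (e.symm (ζ⁻¹ * b)) := by
      intro a b
      have h1 : ∀ c, ρ g (e.symm c) = e.symm (ζ * c) := by
        intro c
        apply e.injective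
        rw [he, LinearEquiv.apply_symm_apply, LinearEquiv.apply_symm_apply]
      have h2 := hinv g (e.symm a) (e.symm (ζ⁻¹ * b))
      rwa [h1, h1, ← mul_assoc, mul_inv_cancel₀ hζ0, one_mul] at h2
    have keyp : ∀ (k : ℕ) (a b : K),
        B (e.symm (ζ ^ k * a)) (e.symm b) = B (e.symm a) (e.symm (ζ⁻¹ ^ k * b)) := by
      intro k
      induction k with
      | zero => intro a b; rw [pow_zero, pow_zero, one_mul, one_mul]
      | succ k ih =>
        intro a b
        rw [pow_succ, mul_assoc, ih, key, ← mul_assoc, pow_succ']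
    have keyP : ∀ (P : Polynomial F) (a b : K),
        B (e.symm (Polynomial.aeval ζ P * a)) (e.symm b)
          = B (e.symm a) (e.symm (Polynomial.aeval ζ⁻¹ P * b)) := by
      intro P
      induction P using Polynomial.induction_on' with
      | add P Q hP hQ =>
        intro a b
        simp only [map_add, add_mul, LinearMap.add_apply, hP, hQ]
      | monomial k c =>
        intro a b
        rw [Polynomial.aeval_monomial, Polynomial.aeval_monomial, mul_assoc, mul_assoc,
          ← Algebra.smul_def, ← Algebra.smul_def]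
        simp only [map_smul, LinearMap.smul_apply, keyp]
    have hroot : Polynomial.aeval ζ⁻¹ (minpoly F ζ) = 0 := by
      have h1 : ∀ x : V, B x (e.symm (Polynomial.aeval ζ⁻¹ (minpoly F ζ))) = 0 := by
        intro x
        have h := keyP (minpoly F ζ) (e x) 1
        rw [minpoly.aeval, zero_mul, map_zero, map_zero, LinearMap.zero_apply, mul_one,
          LinearEquiv.symm_apply_apply] at h
        exact h.symm
      have h2 := hB.2 _ h1
      simpa using h2
    have hmin : minpoly F ζ = minpoly F ζ⁻¹ :=
      minpoly.eq_of_irreducible_of_monic (minpoly.irreducible (Algebra.IsIntegral.isIntegral ζ))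
        hroot (minpoly.monic (Algebra.IsIntegral.isIntegral ζ))
    obtain ⟨σ, hσ⟩ := (Normal.minpoly_eq_iff_mem_orbit (F := F) (E := K)).mp hmin.symm
    obtain ⟨j, hj⟩ := (FiniteField.bijective_frobeniusAlgEquivOfAlgebraic_pow F K).2 σ
    have hσζ : (φ ^ (j : ℕ)) ζ = ζ⁻¹ := by
      rw [← hσ, ← hj]
      rfl
    refine ⟨j, j.2, by rw [← hφ, hσζ], ?_⟩
    refine (FiniteField.orderOf_frobeniusAlgEquivOfAlgebraic F K).symm.dvd.trans
      (orderOf_dvd_of_pow_eq_one ?_)
    have h3 : (φ ^ (2 * (j : ℕ))) ζ = ζ := by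
      rw [two_mul, pow_add, AlgEquiv.mul_apply, hσζ, map_inv₀, hσζ, inv_inv]
    apply AlgEquiv.ext
    intro x
    have h4 := AlgHom.ext_of_adjoin_eq_top (φ₁ := (φ ^ (2 * (j : ℕ))).toAlgHom)
      (φ₂ := AlgHom.id F K) hgen (by
        rintro y (rfl : y = ζ)
        exact h3)
    exact congrFun (congrArg DFunLike.coe h4) x
  refine ⟨?_, ?_⟩
  · intro h1 hB
    obtain ⟨j, hj, hj2, -⟩ := forward hB
    have hj0 : j = 0 := by omega
    rw [hj0, pow_zero, pow_one] at hj2
    have h2 : ζ ^ 2 = 1 := by
      rw [pow_two]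
      nth_rewrite 2 [hj2]
      rw [mul_inv_cancel₀ hζ0]
    rw [← hord]
    exact Nat.le_of_dvd (by norm_num) (orderOf_dvd_of_pow_eq_one h2)
  intro h2
  constructor
  · intro hB
    obtain ⟨j, hj, hj2, hdvd⟩ := forward hB
    have hjne : j ≠ 0 := by
      intro hj0
      rw [hj0, pow_zero, pow_one] at hj2
      have hsq : ζ * ζ = 1 := by
        nth_rewrite 2 [hj2]
        rw [mul_inv_cancel₀ hζ0]
      have hbot : ζ ∈ (⊥ : Subalgebra F K) := by
        rcases mul_self_eq_one_iff.mp hsq with h | h <;> rw [h]
        · exact one_mem _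
        · exact neg_mem (one_mem _)
      have : (⊥ : Subalgebra F K) = ⊤ := by
        rw [eq_top_iff, ← hgen]
        exact Algebra.adjoin_le (by rintro y (rfl : y = ζ); exact hbot)
      have hf := Subalgebra.bot_eq_top_iff_finrank_eq_one.mp this
      omega
    obtain ⟨c, hc⟩ := hdvd
    have hc1 : c = 1 := by
      rcases Nat.lt_or_ge c 2 with hlt | hge
      · interval_cases c
        · omega
        · rfl
      · nlinarith
    rw [hc1, mul_one] at hc
    refine ⟨⟨j, by omega⟩, ?_⟩
    rw [show Module.finrank F K / 2 = j by omega, ← hord]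
    apply orderOf_dvd_of_pow_eq_one
    rw [pow_succ, hj2, inv_mul_cancel₀ hζ0]
  · rintro ⟨⟨m, hm⟩, hdvd⟩
    rw [show Module.finrank F K / 2 = m by omega, ← hord] at hdvd
    have hτζ : (φ ^ m) ζ = ζ⁻¹ := by
      rw [hφ]
      apply eq_inv_of_mul_eq_one_left
      rw [← pow_succ]
      exact orderOf_dvd_iff_pow_eq_one.mp hdvd
    let τ : K →ₗ[F] K := (φ ^ m).toLinearMap
    let B : LinearMap.BilinForm F V :=
      (Algebra.traceForm F K).compl₁₂ e.toLinearMap (τ.comp e.toLinearMap)
    have hBap : ∀ x y, B x y = Algebra.trace F K (e x * (φ ^ m) (e y)) := fun x y => rfl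
    refine ⟨B, ⟨?_, ?_⟩, ?_⟩
    · intro x hx
      have hnd := (traceForm_nondegenerate F K).1 (e x)
      have := hnd (fun y => by
        obtain ⟨z, rfl⟩ := (φ ^ m).surjective y
        have h5 := hx (e.symm z)
        rw [hBap, LinearEquiv.apply_symm_apply] at h5
        exact h5)
      exact e.map_eq_zero_iff.mp this
    · intro y hy
      have hnd := (traceForm_nondegenerate F K).2 ((φ ^ m) (e y))
      have := hnd (fun x => by
        have h5 := hy (e.symm x)
        rw [hBap, LinearEquiv.apply_symm_apply] at h5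
        exact h5)
      exact e.map_eq_zero_iff.mp ((map_eq_zero (φ ^ m)).mp this)
    · intro h x y
      obtain ⟨k, rfl⟩ := hpow h
      rw [hBap, hBap, he, he, map_pow, ← hζ, map_mul (φ ^ m), map_pow, hτζ, mul_mul_mul_comm,
        ← mul_pow, mul_inv_cancel₀ hζ0, one_pow, one_mul]


/-- Let F be a finite field with r elements and of characteristic p, H a finite abelian group of order prime to p, and V a faithful irreducible representation of H over F of dimension n (faithful: distinct elements act differently; irreducible: the only H-invariant subspaces are 0 and V). Call V self-dual when it carries a nondegenerate H-invariant bilinear form. If n = 1 and V is self-dual then H has order at most 2. If n ≥ 2 then V is self-dual if and only if n is even and the order of H divides r^(n/2) + 1. -/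
theorem result {F : Type*} [Field F] [Fintype F] (p : ℕ) [Fact p.Prime] [CharP F p] {H : Type*} [CommGroup H] [Finite H] (hcop : ¬ p ∣ Nat.card H) {V : Type*} [AddCommGroup V] [Module F V] [FiniteDimensional F V] (ρ : Representation F H V) (hfaith : Function.Injective ρ) (hirr : ∀ U : Submodule F V, (∀ h : H, ∀ u ∈ U, ρ h u ∈ U) → U = ⊥ ∨ U = ⊤) : (Module.finrank F V = 1 → (∃ B : LinearMap.BilinForm F V, B.Nondegenerate ∧ ∀ h : H, ∀ x y : V, B (ρ h x) (ρ h y) = B x y) → Nat.card H ≤ 2) ∧ (2 ≤ Module.finrank F V → ((∃ B : LinearMap.BilinForm F V, B.Nondegenerate ∧ ∀ h : H, ∀ x y : V, B (ρ h x) (ρ h y) = B x y) ↔ (Even (Module.finrank F V) ∧ Nat.card H ∣ Fintype.card F ^ (Module.finrank F V / 2) + 1))) := by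
  classical
  rcases Nat.eq_zero_or_pos (Module.finrank F V) with h0 | h0
  · exact ⟨fun h => absurd h (by omega), fun h => absurd h (by omega)⟩
  haveI : Nontrivial V := Module.nontrivial_of_finrank_pos h0
  let K : Subalgebra F (Module.End F V) := Algebra.adjoin F (Set.range ρ)
  have hcomm : ∀ a ∈ K, ∀ b ∈ K, Commute a b := by
    intro a ha b hb
    apply Algebra.commute_of_mem_adjoin_of_forall_mem_commute hb
    rintro _ ⟨h, rfl⟩
    refine (Algebra.commute_of_mem_adjoin_of_forall_mem_commute ha ?_).symm
    rintro _ ⟨h', rfl⟩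
    show ρ h * ρ h' = ρ h' * ρ h
    rw [← map_mul, ← map_mul, mul_comm]
  have hρK : ∀ h, ρ h ∈ K := fun h => Algebra.subset_adjoin ⟨h, rfl⟩
  have hinj : ∀ a ∈ K, a ≠ 0 → Function.Injective a := by
    intro a ha hane
    have hk := hirr (LinearMap.ker a) (by
      intro h u hu
      rw [LinearMap.mem_ker] at hu ⊢
      have hc : a * ρ h = ρ h * a := hcomm a ha _ (hρK h)
      have h1 := LinearMap.congr_fun hc u
      simp only [Module.End.mul_apply] at h1
      rw [h1, hu, map_zero])
    rcases hk with hk | hk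
    · exact LinearMap.ker_eq_bot.mp hk
    · exact absurd (LinearMap.ker_eq_top.mp hk) hane
  have hfield : IsField K :=
    { exists_pair_ne := ⟨0, 1, fun h => zero_ne_one (α := Module.End F V) (congrArg Subtype.val h)⟩
      mul_comm := fun a b => Subtype.ext (hcomm a.1 a.2 b.1 b.2)
      mul_inv_cancel := by
        intro a ha
        have hai := hinj a.1 a.2 (fun h => ha (Subtype.ext h))
        have hli : Function.Injective (LinearMap.mulLeft F a) := by
          intro b c hbc
          apply Subtype.ext
          refine LinearMap.ext fun x => hai ?_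
          exact LinearMap.congr_fun (congrArg Subtype.val hbc) x
        obtain ⟨b, hb⟩ := LinearMap.surjective_of_injective hli 1
        exact ⟨b, hb⟩ }
  obtain ⟨v, hv⟩ := exists_ne (0 : V)
  let f : K →ₗ[F] V :=
    { toFun := fun a => a.1 v
      map_add' := fun a b => rfl
      map_smul' := fun c a => rfl }
  have hfi : Function.Injective f := by
    intro a b hab
    by_contra hne
    have hab2 : (a - b).1 v = 0 := by
      show a.1 v - b.1 v = 0
      exact sub_eq_zero.mpr hab
    exact hv (hinj _ (a - b).2 (fun h => hne (sub_eq_zero.mp (Subtype.ext h)))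
      (hab2.trans (map_zero _).symm))
  have hfs : Function.Surjective f := by
    rw [← LinearMap.range_eq_top]
    refine (hirr (LinearMap.range f) ?_).resolve_left ?_
    · rintro h _ ⟨a, rfl⟩
      exact ⟨⟨ρ h, hρK h⟩ * a, rfl⟩
    · intro hbot
      have h1 : f 1 ∈ LinearMap.range f := LinearMap.mem_range_self _ _
      rw [hbot, Submodule.mem_bot] at h1
      exact hv h1
  let e : V ≃ₗ[F] K := (LinearEquiv.ofBijective f ⟨hfi, hfs⟩).symm
  let ι : H →* K :=
    { toFun := fun h => ⟨ρ h, hρK h⟩
      map_one' := Subtype.ext (map_one ρ)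
      map_mul' := fun a b => Subtype.ext (map_mul ρ a b) }
  have hι : Function.Injective ι := fun a b hab => hfaith (congrArg Subtype.val hab)
  have he : ∀ h x, e (ρ h x) = ι h * e x := by
    intro h x
    apply e.symm.injective
    rw [LinearEquiv.symm_apply_apply]
    show ρ h x = ρ h ((e x).1 v)
    congr 1
    exact ((LinearEquiv.ofBijective f ⟨hfi, hfs⟩).apply_symm_apply x).symm
  have hadj : Algebra.adjoin F (Set.range ι) = ⊤ := by
    rw [← Algebra.adjoin_adjoin_coe_preimage (R := F) (s := Set.range ρ)]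
    congr 1
    ext a
    constructor
    · rintro ⟨h, rfl⟩
      exact ⟨h, rfl⟩
    · rintro ⟨h, hh⟩
      exact ⟨h, Subtype.ext hh⟩
  letI : Field K := hfield.toField
  exact core ρ e ι hι he hadj

end Cfsg.Agent.S4967
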