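import Cfsg.Statements.S4978
import Cfsg.Agent.Lib.Block.StarCount
import Cfsg.Agent.Lib.Block.Correspondence
import Cfsg.Agent.Lib.Block.Defect
import Cfsg.Agent.Lib.Block.BlockFusionSys
import Cfsg.Agent.Lib.FusionSys.FocalProper
import Cfsg.Agent.S4677
import Cfsg.Agent.S4684
import Cfsg.Agent.S5252
import Mathlib.NumberTheory.LegendreSymbol.Basic
-- import your own Cfsg.Agent.* helpers here

set_option autoImplicit false
open Cfsg

namespace Cfsg.Agent.S4978

/-- Let p be a prime and B a p-block of the finite group G (relative to a maximal ideal M of the algebraic integers containing p) with a nontrivial defect group D whose automorphism group is a p-group (for a p-group D this is the same as its outer automorphism group being a p-group). Then the number of irreducible characters of height zero in B is divisible by p; if p > 3 this number is at least 2p, and if moreover p ≡ 3 (mod 4) it is at least 3p. -/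
theorem result {G : Type*} [Group G] [Finite G] (p : ℕ) [Fact p.Prime] (M : Ideal Cfsg.AlgInt) (hM : Cfsg.IsPModular p M) (B : Set (Cfsg.IrrCharacter G)) (hB : Cfsg.IsPBlock M B) (D : Subgroup G) (hD : Cfsg.IsDefectGroup p M B D) (hD1 : D ≠ ⊥) (hAut : IsPGroup p (MulAut ↥D)) : p ∣ Nat.card {χ : Cfsg.IrrCharacter G // χ ∈ B ∧ Cfsg.blockHeight p B (χ : G → ℂ) = 0} ∧ (3 < p → 2 * p ≤ Nat.card {χ : Cfsg.IrrCharacter G // χ ∈ B ∧ Cfsg.blockHeight p B (χ : G → ℂ) = 0}) ∧ (3 < p → p % 4 = 3 → 3 * p ≤ Nat.card {χ : Cfsg.IrrCharacter G // χ ∈ B ∧ Cfsg.blockHeight p B (χ : G → ℂ) = 0}) := by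
  classical
  haveI := Fintype.ofFinite G
  have hpp : p.Prime := Fact.out
  obtain ⟨e, hmax⟩ := Lib.Block.exists_pair_at_defect hM hB hD
  set S0 := {χ : Cfsg.IrrCharacter G // χ ∈ B ∧ Cfsg.blockHeight p B (χ : G → ℂ) = 0} with hS0
  haveI := Fintype.ofFinite S0
  set m := Lib.Block.minVal p B with hm
  set d := Cfsg.blockDefect p B with hd
  have hne : B.Nonempty := Lib.Block.nonempty_of_isPBlock hM hB
  have hadd : d + m = (Nat.card G).factorization p := Lib.Block.blockDefect_add_minVal hne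
  have hcardD : Nat.card D = p ^ d := Lib.Block.card_defectGroup hM hB hD
  have hd1 : 1 ≤ d := by
    rw [Nat.one_le_iff_ne_zero]
    intro h0
    rw [h0, pow_zero] at hcardD
    exact hD1 (Subgroup.eq_bot_of_card_eq D hcardD)
  -- the degrees divided by the common power
  set r : Cfsg.IrrCharacter G → ℕ := fun χ => Cfsg.charDegree (χ : G → ℂ) / p ^ m with hr
  have hdeg : ∀ χ ∈ B, Cfsg.charDegree (χ : G → ℂ) = p ^ m * r χ := fun χ hχ =>
    (Nat.mul_div_cancel' ((hpp.pow_dvd_iff_le_factorization (Lib.Block.charDegree_pos χ).ne').2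
      (Lib.Block.minVal_le hχ))).symm
  have hr0 : ∀ χ ∈ B, Cfsg.blockHeight p B (χ : G → ℂ) = 0 ↔ ¬ p ∣ r χ := by
    intro χ hχ
    have hpos : r χ ≠ 0 := fun h => (Lib.Block.charDegree_pos χ).ne' (by rw [hdeg χ hχ, h, mul_zero])
    have hfac : (Cfsg.charDegree (χ : G → ℂ)).factorization p = m + (r χ).factorization p := by
      rw [hdeg χ hχ, Nat.factorization_mul (pow_ne_zero _ hpp.ne_zero) hpos, Finsupp.add_apply,
        Nat.Prime.factorization_pow hpp, Finsupp.single_eq_same]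
    rw [Lib.Block.blockHeight_eq_zero_iff hχ, hfac, hpp.dvd_iff_one_le_factorization hpos]
    omega
  have hall : p ^ d ∣ ∑ χ ∈ B.toFinset, r χ ^ 2 := by
    have hfac := Lib.Block.factorization_sum_sq hM hB
    have hS : ∑ χ ∈ B.toFinset, Cfsg.charDegree (χ : G → ℂ) ^ 2 =
        p ^ (2 * m) * ∑ χ ∈ B.toFinset, r χ ^ 2 := by
      rw [Finset.mul_sum]
      refine Finset.sum_congr rfl fun χ hχ => ?_
      rw [hdeg χ (Set.mem_toFinset.1 hχ), mul_pow, ← pow_mul, mul_comm m]
    have hT : ∑ χ ∈ B.toFinset, r χ ^ 2 ≠ 0 := fun h => by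
      obtain ⟨χ, hχ⟩ := hne
      have h1 := Finset.sum_eq_zero_iff.1 h χ (Set.mem_toFinset.2 hχ)
      exact (Lib.Block.charDegree_pos χ).ne' (by
        rw [hdeg χ hχ, pow_eq_zero_iff (by norm_num) |>.1 h1, mul_zero])
    rw [hS, Nat.factorization_mul (pow_ne_zero _ hpp.ne_zero) hT, Finsupp.add_apply,
      Nat.Prime.factorization_pow hpp, Finsupp.single_eq_same, ← hd] at hfac
    rw [hpp.pow_dvd_iff_le_factorization hT]
    omega
  have hzero : ∀ k, k ≤ d → k ≤ 2 → p ^ k ∣ ∑ s : S0, r s.1 ^ 2 := by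
    intro k hk hk2
    have hsplit := Finset.sum_filter_add_sum_filter_not B.toFinset
      (fun χ : Cfsg.IrrCharacter G => Cfsg.blockHeight p B (χ : G → ℂ) = 0) (fun χ => r χ ^ 2)
    have hrest : p ^ k ∣ ∑ χ ∈ B.toFinset.filter
        (fun χ : Cfsg.IrrCharacter G => ¬ Cfsg.blockHeight p B (χ : G → ℂ) = 0), r χ ^ 2 := by
      refine Finset.dvd_sum fun χ hχ => (pow_dvd_pow p hk2).trans (pow_dvd_pow_of_dvd ?_ 2)
      rw [Finset.mem_filter, Set.mem_toFinset] at hχ
      by_contra h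
      exact hχ.2 ((hr0 χ hχ.1).2 h)
    have := (pow_dvd_pow p hk).trans hall
    rw [← hsplit] at this
    have h0 := (Nat.dvd_add_left hrest).1 this
    convert h0 using 1
    rw [← Finset.sum_subtype (B.toFinset.filter
      (fun χ : Cfsg.IrrCharacter G => Cfsg.blockHeight p B (χ : G → ℂ) = 0))
      (fun χ => by simp) (fun χ => r χ ^ 2)]
  -- the fusion system
  obtain ⟨F, hF, hsat⟩ := Cfsg.Agent.S4677.result p M hM B D e hmax
  have hdvd := Cfsg.Agent.S4684.result p M hM B D e hmax F hF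
  have hfoc : 5 ≤ p → F.focalSubgroup < D := fun h5 =>
    Cfsg.Agent.S5252.result p (Lib.Block.isPGroup_defectGroup hM hD) F hsat h5 hD1
      (hAut.to_subgroup _)
  set N := F.focalSubgroup.subgroupOf D with hN
  have hjp : 5 ≤ p → p ∣ N.index := by
    intro h5
    obtain ⟨i, hi⟩ := (IsPGroup.iff_card.1 (Lib.Block.isPGroup_defectGroup hM hD))
    obtain ⟨l, -, hl⟩ := (Nat.dvd_prime_pow hpp).1 (hi ▸ N.index_dvd_card)
    rcases Nat.eq_zero_or_pos l with rfl | hl0
    · rw [pow_zero, Subgroup.index_eq_one, hN, Subgroup.subgroupOf_eq_top] at hl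
      exact absurd ((hfoc h5).le.antisymm hl) (hfoc h5).ne
    · rw [hl]; exact dvd_pow_self p hl0.ne'
  have hk0 : p ∣ Nat.card S0 := by
    by_cases h5 : 5 ≤ p
    · exact (hjp h5).trans hdvd
    · have hp23 : p = 2 ∨ p = 3 := by
        have := hpp.two_le
        have h4 : p ≠ 4 := fun h => absurd hpp (by rw [h]; norm_num)
        omega
      have h1 := hzero 1 hd1 (by norm_num)
      rw [pow_one, ← ZMod.natCast_eq_zero_iff] at h1
      rw [← ZMod.natCast_eq_zero_iff, Nat.card_eq_fintype_card]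
      rw [Nat.cast_sum, Finset.sum_congr rfl (g := fun _ => (1 : ZMod p)) fun s _ => ?_,
        Finset.sum_const, Finset.card_univ, nsmul_eq_mul, mul_one] at h1
      · exact h1
      · have hu : (r s.1 : ZMod p) ≠ 0 := fun h =>
          (hr0 s.1 s.2.1).1 s.2.2 ((ZMod.natCast_eq_zero_iff _ _).1 h)
        push_cast
        rcases hp23 with rfl | rfl
        · have h := ZMod.pow_card_sub_one_eq_one hu
          rw [show (2 - 1 : ℕ) = 1 from rfl, pow_one] at h
          rw [h, one_pow]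
        · exact ZMod.pow_card_sub_one_eq_one hu
  refine ⟨hk0, ?_⟩
  suffices key : 3 < p → ∃ t, Nat.card S0 = p * t ∧ 2 ≤ t ∧ (p % 4 = 3 → 3 ≤ t) by
    refine ⟨fun h => ?_, fun h h4 => ?_⟩ <;> obtain ⟨t, ht, ht2, ht3⟩ := key h <;>
      rw [ht, mul_comm p]
    · exact Nat.mul_le_mul_right _ ht2
    · exact Nat.mul_le_mul_right _ (ht3 h4)
  intro h3
  have h5 : 5 ≤ p := by
    have h4 : p ≠ 4 := fun h => absurd hpp (by rw [h]; norm_num)
    omega
  -- the defect is at least two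
  have hd2 : 2 ≤ d := by
    by_contra hlt
    have hd' : d = 1 := by omega
    rw [hd', pow_one] at hcardD
    haveI := isCyclic_of_prime_card hcardD
    obtain ⟨i, hi⟩ := IsPGroup.iff_card.1 hAut
    rw [IsCyclic.card_mulAut, hcardD, Nat.totient_prime hpp] at hi
    rcases Nat.eq_zero_or_pos i with rfl | hi0
    · rw [pow_zero] at hi; omega
    · have : p ≤ p ^ i := Nat.le_self_pow hi0.ne' p
      omega
  -- a linear character of order p acting freely
  have hNle : commutator D ≤ N := Lib.Block.commutator_le_focal hF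
  haveI : N.Normal := Subgroup.Normal.of_commutator_le _ hNle
  letI : CommGroup (D ⧸ N) :=
    { (inferInstance : Group (D ⧸ N)) with
      mul_comm := fun a b => ((Subgroup.Normal.quotient_commutative_iff_commutator_le).2 hNle).is_comm.comm a b }
  have hcardL : Nat.card ((D ⧸ N) →* ℂˣ) = N.index := by
    rw [Lib.Char.card_monoidHom_units, Subgroup.index]
  haveI : Finite ((D ⧸ N) →* ℂˣ) := Nat.finite_of_card_ne_zero (by
    rw [hcardL]; exact Subgroup.index_ne_zero_of_finite)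
  obtain ⟨φ, hφ⟩ := exists_prime_orderOf_dvd_card' p (hcardL ▸ hjp h5)
  letI actB := Lib.Block.starMulAction hM hF (le_refl N)
  letI act : MulAction ((D ⧸ N) →* ℂˣ) S0 :=
    { smul := fun ψ s => ⟨(ψ • (⟨s.1, s.2.1⟩ : B) : B).1, (ψ • (⟨s.1, s.2.1⟩ : B) : B).2, by
        show Cfsg.blockHeight p B (((Lib.Block.starAct hM hF (le_refl N) ψ ⟨s.1, s.2.1⟩ : B) :
          Cfsg.IrrCharacter G) : G → ℂ) = 0
        rw [Lib.Block.blockHeight_starAct, s.2.2]⟩
      one_smul := fun s => by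
        apply Subtype.ext
        exact (congrArg (fun t : B => t.1) (actB.one_smul (⟨s.1, s.2.1⟩ : B)) :)
      mul_smul := fun a b s => by
        apply Subtype.ext
        exact (congrArg (fun t : B => t.1) (actB.mul_smul a b (⟨s.1, s.2.1⟩ : B)) :) }
  have hfree : ∀ (ψ : (D ⧸ N) →* ℂˣ) (s : S0), ψ • s = s → ψ = 1 := by
    intro ψ s hs
    have h1 : (((Lib.Block.starAct hM hF (le_refl N) ψ ⟨s.1, s.2.1⟩ : B) :
        Cfsg.IrrCharacter G) : G → ℂ) = (s.1 : G → ℂ) :=
      congrArg (fun t : S0 => (t.1 : G → ℂ)) hs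
    rw [Lib.Block.starAct_spec] at h1
    refine MonoidHom.ext fun a => ?_
    obtain ⟨x, rfl⟩ := QuotientGroup.mk_surjective a
    have h2 := Lib.Block.fixed_height_zero hM hF.1
      (Lib.Block.isFocChar_lamOf hM hF (le_refl N) ψ) s.2.1 h1 s.2.2 x x.2
    rw [Lib.Block.lamOf_mem _ x.2] at h2
    exact Units.ext h2
  have hrinv : ∀ (ψ : (D ⧸ N) →* ℂˣ) (s : S0), r (ψ • s).1 = r s.1 := by
    intro ψ s
    have h1 : (((Lib.Block.starAct hM hF (le_refl N) ψ ⟨s.1, s.2.1⟩ : B) :
        Cfsg.IrrCharacter G) : G → ℂ) 1 = (s.1 : G → ℂ) 1 := by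
      rw [Lib.Block.starAct_spec]
      exact Lib.Block.starFn_reg hM hF.1 (Lib.Block.isFocChar_lamOf hM hF (le_refl N) ψ) s.2.1
        (by simp [Cfsg.IsPRegular, hpp.ne_one])
    show Cfsg.charDegree _ / p ^ m = Cfsg.charDegree _ / p ^ m
    rw [Cfsg.charDegree, Cfsg.charDegree]
    exact congrArg (fun z : ℂ => ⌊z.re⌋₊ / p ^ m) h1
  let Z := Subgroup.zpowers φ
  let Ω := Quotient (MulAction.orbitRel Z S0)
  haveI : Finite Ω := Quotient.finite _
  haveI := Fintype.ofFinite Ω
  haveI := fun ω : Ω => Fintype.ofFinite (MulAction.orbit Z ω.out)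
  have horb : ∀ ω : Ω, Nat.card (MulAction.orbit Z ω.out) = p := by
    intro ω
    rw [Nat.card_congr (MulAction.orbitEquivQuotientStabilizer Z ω.out)]
    have hb : MulAction.stabilizer Z ω.out = ⊥ := by
      rw [eq_bot_iff]
      intro z hz
      exact Subgroup.mem_bot.2 (Subtype.ext (hfree z.1 ω.out hz))
    rw [hb, ← Subgroup.index, Subgroup.index_bot, Nat.card_zpowers, hφ]
  let eS := (MulAction.selfEquivSigmaOrbits Z S0)
  have hcard : Nat.card S0 = p * Fintype.card Ω := by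
    rw [Nat.card_congr eS, Nat.card_sigma, Finset.sum_congr rfl fun ω _ => horb ω,
      Finset.sum_const, Finset.card_univ, smul_eq_mul, mul_comm]
  have hsum : ∑ s : S0, r s.1 ^ 2 = p * ∑ ω : Ω, r (ω.out : S0).1 ^ 2 := by
    rw [← Equiv.sum_comp eS.symm, Fintype.sum_sigma, Finset.mul_sum]
    refine Finset.sum_congr rfl fun ω _ => ?_
    have hc : ∀ x : MulAction.orbit Z ω.out, r (eS.symm ⟨ω, x⟩).1 ^ 2 = r (ω.out : S0).1 ^ 2 := by
      rintro ⟨x, z, rfl⟩
      show r (z • ω.out : S0).1 ^ 2 = _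
      rw [show (z • ω.out : S0) = (z.1 • ω.out : S0) from rfl, hrinv]
    rw [Finset.sum_congr rfl fun x _ => hc x, Finset.sum_const, Finset.card_univ,
      ← Nat.card_eq_fintype_card, horb, smul_eq_mul]
  have hdvd2 : p ∣ ∑ ω : Ω, r (ω.out : S0).1 ^ 2 := by
    have h := hzero 2 hd2 le_rfl
    rw [hsum, sq] at h
    exact Nat.dvd_of_mul_dvd_mul_left hpp.pos h
  have hunit : ∀ s : S0, ¬ p ∣ r s.1 := fun s => (hr0 s.1 s.2.1).1 s.2.2
  have hS0ne : Nonempty S0 := by
    obtain ⟨χ, hχ, hv⟩ := Lib.Block.exists_minVal (p := p) hne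
    exact ⟨⟨χ, hχ, (Lib.Block.blockHeight_eq_zero_iff hχ).2 hv⟩⟩
  have ht1 : 1 ≤ Fintype.card Ω := by
    haveI : Nonempty Ω := ⟨Quotient.mk'' hS0ne.some⟩
    exact Fintype.card_pos
  have ht2 : Fintype.card Ω ≠ 1 := by
    intro h1
    obtain ⟨ω, hω⟩ := Fintype.card_eq_one_iff.1 h1
    rw [Fintype.sum_eq_single ω (fun x hx => absurd (hω x) hx)] at hdvd2
    exact hunit ω.out (hpp.dvd_of_dvd_pow hdvd2)
  refine ⟨Fintype.card Ω, hcard, by omega, fun h4 => ?_⟩
  by_contra hlt
  have h2 : Fintype.card Ω = 2 := by omega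
  obtain ⟨a, b, hab, huniv⟩ := Finset.card_eq_two.1 (Finset.card_univ.trans h2)
  rw [huniv, Finset.sum_pair hab, ← ZMod.natCast_eq_zero_iff] at hdvd2
  push_cast at hdvd2
  have hb : (r (b.out : S0).1 : ZMod p) ≠ 0 := fun h =>
    hunit b.out ((ZMod.natCast_eq_zero_iff _ _).1 h)
  refine ZMod.mod_four_ne_three_of_sq_eq_neg_one
    (y := (r (a.out : S0).1 : ZMod p) / (r (b.out : S0).1 : ZMod p)) ?_ h4
  rw [div_pow, div_eq_iff (pow_ne_zero _ hb)]
  linear_combination hdvd2

end Cfsg.Agent.S4978
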