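import Cfsg.Statements.S4989
import Cfsg.Agent.Lib.Block.CosetAverage

set_option autoImplicit false
open Cfsg

namespace Cfsg.Agent.S4989

/-- Let H be a subgroup of the finite group G and χ an irreducible complex character of G. Then the inner product of the restriction of χ to H with itself, (1/#H)·Σ_{h ∈ H} |χ(h)|², is at most 1 + #(Z ∖ H)/#H, where Z is the set of zeros of χ in G. -/
theorem result {G : Type*} [Group G] [Finite G] (H : Subgroup G) (χ : Cfsg.IrrCharacter G) : (Nat.card ↥H : ℝ)⁻¹ * ∑ᶠ h : ↥H, ‖(χ : G → ℂ) h‖ ^ 2 ≤ 1 + (Set.ncard ({x : G | (χ : G → ℂ) x = 0} \ (H : Set G)) : ℝ) / (Nat.card ↥H : ℝ) := by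
  classical
  haveI := Fintype.ofFinite G
  have hψ := Cfsg.Lib.Block.isCharacter_normSq χ.2.isCharacter
  obtain ⟨Z, hZ⟩ : ∃ Z : Finset G, Z = Finset.univ.filter fun x : G => x ∉ H ∧ (χ : G → ℂ) x ≠ 0 :=
    ⟨_, rfl⟩
  have hle : (Z.card : ℝ) ≤ ∑ g ∈ Z, ‖(χ : G → ℂ) g‖ ^ 2 := by
    have h := Cfsg.Lib.Block.card_le_sum_of_nonneg hψ (fun g => by simp [← Complex.ofReal_pow])
      (fun g => by simp [← Complex.ofReal_pow]) Z (fun g hg => by
        subst hZ
        simp only [ne_eq, Complex.ofReal_eq_zero]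
        exact pow_ne_zero _ (norm_ne_zero_iff.2 (Finset.mem_filter.1 hg).2.2)) (fun g hg k hk => by
        subst hZ
        obtain ⟨-, hgH, hg0⟩ := Finset.mem_filter.1 hg
        refine Finset.mem_filter.2 ⟨Finset.mem_univ _, ?_, ?_⟩
        · intro h
          apply hgH
          have e : g = (powCoprime hk.symm).symm (g ^ k) := (Equiv.symm_apply_apply (powCoprime hk.symm) g).symm
          rw [e]
          show (g ^ k) ^ Nat.gcdB (Nat.card G) k ∈ H
          exact H.zpow_mem h _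
        · haveI : NeZero (Nat.card G) := ⟨Nat.card_pos.ne'⟩
          obtain ⟨σ, hσ⟩ := Cfsg.Lib.Char.exists_of_coprime hk
          rw [← Cfsg.Lib.Char.galois_charVal dvd_rfl hσ χ.2.isCharacter g]
          intro h
          exact hg0 (congrArg Subtype.val (σ.toRingHom.injective (h.trans (map_zero σ).symm))))
    simpa [← Complex.ofReal_pow] using h
  have htot : ∑ g : G, ‖(χ : G → ℂ) g‖ ^ 2 = (Nat.card G : ℝ) := by
    have h := Cfsg.Lib.Char.classInner_irr_self χ.2
    rw [Cfsg.Lib.Char.classInner_self] at h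
    have h' : (Nat.card G : ℝ)⁻¹ * ∑ g, ‖(χ : G → ℂ) g‖ ^ 2 = 1 := by exact_mod_cast h
    rw [inv_mul_eq_iff_eq_mul₀ (Nat.cast_ne_zero.2 Nat.card_pos.ne'), mul_one] at h'
    exact h'
  have hsplit : ∑ g ∈ (Finset.univ.filter fun x : G => x ∈ H), ‖(χ : G → ℂ) g‖ ^ 2 +
      ∑ g ∈ Z, ‖(χ : G → ℂ) g‖ ^ 2 = ∑ g : G, ‖(χ : G → ℂ) g‖ ^ 2 := by
    rw [← Finset.sum_filter_add_sum_filter_not Finset.univ (fun x : G => x ∈ H)]
    congr 1
    refine Finset.sum_subset (fun x hx => ?_) fun x hx hx' => ?_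
    · subst hZ
      simp_all
    · subst hZ
      simp only [Finset.mem_filter, Finset.mem_univ, true_and] at hx hx'
      push_neg at hx'
      rw [hx' hx, norm_zero]
      simp
  have hcount : (Nat.card G : ℝ) ≤ (Nat.card H : ℝ) + Z.card +
      (Set.ncard ({x : G | (χ : G → ℂ) x = 0} \ (H : Set G)) : ℝ) := by
    rw [Set.ncard_eq_toFinset_card', Nat.card_eq_fintype_card (α := G),
      Nat.card_eq_fintype_card (α := H), Fintype.card_subtype]
    norm_cast
    subst hZ
    rw [← Finset.card_univ]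
    refine (Finset.card_le_card (fun x _ => ?_)).trans
      ((Finset.card_union_le _ _).trans (Nat.add_le_add_right (Finset.card_union_le _ _) _))
    by_cases h1 : x ∈ H <;> by_cases h2 : (χ : G → ℂ) x = 0 <;> simp [h1, h2]
  have hH : (0 : ℝ) < Nat.card H := Nat.cast_pos.2 Nat.card_pos
  have hfs : (∑ᶠ h : H, ‖(χ : G → ℂ) h‖ ^ 2) =
      ∑ g ∈ (Finset.univ.filter fun x : G => x ∈ H), ‖(χ : G → ℂ) g‖ ^ 2 := by
    rw [finsum_eq_sum_of_fintype]
    exact (Finset.sum_subtype _ (by simp) fun g => ‖(χ : G → ℂ) g‖ ^ 2).symm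
  rw [hfs, inv_mul_le_iff₀ hH, mul_add, mul_one, mul_div_cancel₀ _ hH.ne']
  linarith

end Cfsg.Agent.S4989
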