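import Cfsg.Statements.S4993
import Cfsg.Agent.Lib.Char.PrimitiveTwoPrime
import Cfsg.Agent.Lib.Block.Basic

set_option autoImplicit false
open Cfsg

namespace Cfsg.Agent.S4993

/-- Let G be a group of odd order whose order has exactly two prime divisors and whose quotient by its Fitting subgroup is nilpotent (G is metanilpotent), and let χ be a primitive irreducible complex character of G (not induced from a character of any proper subgroup). Then χ(1) divides the size of some conjugacy class of G. -/
theorem result {G : Type*} [Group G] [Fintype G] (hodd : Odd (Nat.card G)) (h2 : (Nat.card G).primeFactors.card = 2) [hF : (Cfsg.fittingSubgroup G).Normal] (hmeta : Group.IsNilpotent (G ⧸ Cfsg.fittingSubgroup G)) (χ : Cfsg.IrrCharacter G) (hprim : ¬ ∃ (H : Subgroup G), H ≠ ⊤ ∧ ∃ θ : ↥H → ℂ, Cfsg.IsCharacter ↥H θ ∧ Cfsg.indFun H θ = (χ : G → ℂ)) : ∃ g : G, Cfsg.charDegree (χ : G → ℂ) ∣ (Subgroup.centralizer ({g} : Set G)).index := by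
  obtain ⟨c, -, hc⟩ := χ.2.exists_degree
  rw [Cfsg.Lib.Block.charDegree_eq_of_apply_one hc]
  obtain ⟨p, q, hpq, hs⟩ := Finset.card_eq_two.1 h2
  have hp : p.Prime := Nat.prime_of_mem_primeFactors (by rw [hs]; simp)
  have hq : q.Prime := Nat.prime_of_mem_primeFactors (by rw [hs]; simp)
  haveI := Fact.mk hp
  haveI := Fact.mk hq
  have hG : Nat.card G = p ^ (Nat.card G).factorization p * q ^ (Nat.card G).factorization q := by
    conv_lhs => rw [← Nat.prod_factorization_pow_eq_self (Nat.card_pos (α := G)).ne']
    rw [Finsupp.prod, Nat.support_factorization, hs, Finset.prod_pair hpq]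
  exact Cfsg.Lib.Char.PrimitiveTwoPrime.dvd_class_size hpq hG hF hmeta χ.2 hprim hc

end Cfsg.Agent.S4993
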