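import Cfsg.Statements.S4996
import Cfsg.Agent.Lib.Block.CosetAverage
import Cfsg.Agent.Lib.Char.Linear

set_option autoImplicit false
open Cfsg

namespace Cfsg.Agent.S4996

/-- Let N be a normal subgroup of the finite group G and χ an irreducible complex character of G. Then the restriction of χ to N is not irreducible if and only if χ vanishes on some whole coset Nx of N in G. -/
theorem result {G : Type*} [Group G] [Finite G] (N : Subgroup G) [N.Normal] (χ : Cfsg.IrrCharacter G) : ¬ Cfsg.IsIrrCharacter ↥N (fun n : ↥N => (χ : G → ℂ) n) ↔ ∃ x : G, ∀ n : ↥N, (χ : G → ℂ) ((n : G) * x) = 0 := by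
  classical
  haveI := Fintype.ofFinite G
  have hres : Cfsg.IsCharacter N (fun n : N => (χ : G → ℂ) n) := χ.2.isCharacter.comp N.subtype
  obtain ⟨ψ, hψ, havg⟩ := Cfsg.Lib.Block.exists_coset_average
    (Cfsg.Lib.Block.isCharacter_normSq χ.2.isCharacter) N
  have hNc : (Nat.card N : ℂ) ≠ 0 := Nat.cast_ne_zero.2 Nat.card_pos.ne'
  let f : G → ℝ := fun x => (Nat.card N : ℝ)⁻¹ * ∑ n : N, ‖(χ : G → ℂ) ((n : G) * x)‖ ^ 2
  have hval : ∀ x : G, ψ x = (f x : ℂ) := by
    intro x
    apply mul_left_cancel₀ hNc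
    rw [havg]
    simp only [f]
    push_cast
    rw [← mul_assoc, mul_inv_cancel₀ hNc, one_mul]
  have hf0 : ∀ x, 0 ≤ f x := fun x => by positivity
  have hzero : ∀ x : G, f x = 0 ↔ ∀ n : N, (χ : G → ℂ) ((n : G) * x) = 0 := by
    intro x
    rw [mul_eq_zero, or_iff_right (inv_ne_zero (Nat.cast_ne_zero.2 Nat.card_pos.ne')),
      Finset.sum_eq_zero_iff_of_nonneg (fun (n : N) (_ : n ∈ Finset.univ) => sq_nonneg ‖(χ : G → ℂ) ((n : G) * x)‖)]
    constructor
    · intro h n
      simpa using h n (Finset.mem_univ _)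
    · intro h n _
      simp [h n]
  have hone : ψ 1 = Cfsg.classInner (fun n : N => (χ : G → ℂ) n) (fun n : N => (χ : G → ℂ) n) := by
    rw [Cfsg.Lib.Char.classInner_self, show (1 : G ⧸ N) = ((1 : G) : G ⧸ N) from rfl, hval]
    simp [f]
  have hirr : Cfsg.IsIrrCharacter N (fun n : N => (χ : G → ℂ) n) ↔ ψ 1 = 1 := by
    rw [hone, Cfsg.Lib.Char.isIrrCharacter_iff_norm]
    exact ⟨fun h => h.2, fun h => ⟨hres, h⟩⟩
  constructor
  · intro hnot
    by_contra hcon
    obtain ⟨d, hd⟩ := hψ.exists_degree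
    have hd1 : d ≠ 1 := fun h => hnot (hirr.2 (by rw [hd, h, Nat.cast_one]))
    have hne : ∀ x : G, f x ≠ 0 := fun x h => hcon ⟨x, (hzero x).1 h⟩
    have hd0 : d ≠ 0 := by
      intro h
      apply hne 1
      have : ψ ((1 : G) : G ⧸ N) = 0 := by rw [QuotientGroup.mk_one, hd, h, Nat.cast_zero]
      rw [hval] at this
      exact_mod_cast this
    haveI := Fintype.ofFinite (G ⧸ N)
    have hq : ∀ q : G ⧸ N, ψ q = ((ψ q).re : ℂ) ∧ 0 ≤ (ψ q).re ∧ ψ q ≠ 0 := by
      intro q
      induction q using QuotientGroup.induction_on with | _ x => ?_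
      rw [hval]
      exact ⟨by simp, by simpa using hf0 x, by exact_mod_cast hne x⟩
    have hle := Cfsg.Lib.Block.card_le_sum_of_nonneg hψ (fun q => (hq q).1) (fun q => (hq q).2.1)
      (Finset.univ.erase 1) (fun q _ => (hq q).2.2) (fun q hqm k hk => by
        refine Finset.mem_erase.2 ⟨fun h => (Finset.mem_erase.1 hqm).1 ?_, Finset.mem_univ _⟩
        exact (powCoprime hk.symm).injective (h.trans (one_pow k).symm))
    rw [Finset.card_erase_of_mem (Finset.mem_univ _), Finset.card_univ] at hle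
    have hsum : ∑ q : G ⧸ N, ψ q = (Nat.card (G ⧸ N) : ℂ) := by
      have h := Cfsg.Lib.Char.classInner_irr_self χ.2
      rw [Cfsg.classInner, inv_mul_eq_one₀ Cfsg.Lib.Char.card_cast_ne_zero] at h
      apply mul_left_cancel₀ hNc
      rw [← Nat.cast_mul, mul_comm (Nat.card N),
        ← Subgroup.card_eq_card_quotient_mul_card_subgroup, Finset.mul_sum, h]
      rw [← Finset.sum_fiberwise Finset.univ (fun g : G => (g : G ⧸ N))]
      refine Finset.sum_congr rfl fun q _ => ?_
      induction q using QuotientGroup.induction_on with | _ x => ?_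
      rw [havg x]
      refine Finset.sum_bij (fun (n : N) _ => (n : G) * x) ?_ ?_ ?_ ?_
      · intro n _
        refine Finset.mem_filter.2 ⟨Finset.mem_univ _, ?_⟩
        rw [QuotientGroup.mk_mul, (QuotientGroup.eq_one_iff (n : G)).2 n.2, one_mul]
      · intro a _ b _ hab
        exact Subtype.ext (mul_right_cancel hab)
      · intro g hg
        have hg' := (Finset.mem_filter.1 hg).2
        refine ⟨⟨g * x⁻¹, ?_⟩, Finset.mem_univ _, inv_mul_cancel_right g x⟩
        rw [← QuotientGroup.eq_one_iff, QuotientGroup.mk_mul, QuotientGroup.mk_inv, hg', mul_inv_cancel]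
      · intro n _
        rw [Complex.mul_conj']
        push_cast
        rfl
    have h1 := congrArg Complex.re hsum
    rw [Complex.re_sum, Complex.natCast_re, ← Finset.add_sum_erase _ _ (Finset.mem_univ 1), hd,
      Complex.natCast_re, Nat.card_eq_fintype_card] at h1
    have hpos : 1 ≤ Fintype.card (G ⧸ N) := Fintype.card_pos
    rw [Nat.cast_sub hpos, Nat.cast_one] at hle
    have hd2 : (2 : ℝ) ≤ d := by exact_mod_cast (show 2 ≤ d by omega)
    linarith
  · rintro ⟨x, hx⟩ hI
    obtain ⟨φ, hφ⟩ := Cfsg.Lib.Char.exists_hom_of_degree_one hψ (hirr.1 hI)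
    have h0 : ψ (x : G ⧸ N) = 0 := by rw [hval, (hzero x).2 hx, Complex.ofReal_zero]
    rw [hφ] at h0
    exact (φ _).ne_zero h0

end Cfsg.Agent.S4996
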