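import Cfsg.Statements.S4997
import Cfsg.Agent.Lib.Char.SingularVanishing

set_option autoImplicit false
open Cfsg

namespace Cfsg.Agent.S4997

/-- Let p be an odd prime and G a finite solvable group with exactly one conjugacy class consisting of vanishing elements (elements at which some irreducible complex character is zero) of order divisible by p. Let P be a Sylow p-subgroup of G. Then the order of P is at most p times the order of the largest normal p-subgroup of G. -/
theorem result {G : Type*} [Group G] [Finite G] (hsolv : Group.IsSolvable G) (p : ℕ) [Fact p.Prime] (hp : p ≠ 2) (h1 : Set.ncard {C : ConjClasses G | (∀ g ∈ C.carrier, ∃ χ : Cfsg.IrrCharacter G, (χ : G → ℂ) g = 0) ∧ ∃ g ∈ C.carrier, p ∣ orderOf g} = 1) (P : Sylow p G) : Nat.card ↥(P : Subgroup G) ≤ p * Nat.card ↥(Cfsg.pCore p G) := by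
  haveI := hsolv
  obtain ⟨C₀, hC₀⟩ := Set.ncard_eq_one.1 h1
  have hmem : ∀ x : G, p ∣ orderOf x → (∃ χ : Cfsg.IrrCharacter G, (χ : G → ℂ) x = 0) →
      ConjClasses.mk x = C₀ := by
    rintro x hx ⟨χ, hχ⟩
    have h2 : ConjClasses.mk x ∈ ({C₀} : Set (ConjClasses G)) := by
      rw [← hC₀]
      refine ⟨fun y hy => ⟨χ, ?_⟩, x, ConjClasses.mem_carrier_mk, hx⟩
      obtain ⟨c, rfl⟩ := isConj_iff.1 (ConjClasses.mk_eq_mk_iff_isConj.1
        (ConjClasses.mem_carrier_iff_mk_eq.1 hy).symm)
      rw [χ.2.isClassFunction x c, hχ]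
    exact h2
  have hord : ∀ g h : G, p ∣ orderOf g → p ∣ orderOf h →
      (∃ χ : Cfsg.IrrCharacter G, (χ : G → ℂ) g = 0) → (∃ χ : Cfsg.IrrCharacter G, (χ : G → ℂ) h = 0) →
      orderOf g = orderOf h := by
    intro g h hg hh hg0 hh0
    obtain ⟨c, rfl⟩ := isConj_iff.1 (ConjClasses.mk_eq_mk_iff_isConj.1
      ((hmem g hg hg0).trans (hmem h hh hh0).symm))
    exact ((MulAut.conj c).orderOf_eq g).symm
  set π := QuotientGroup.mk' (Cfsg.pCore p G) with hπ
  have hd := Cfsg.Lib.Char.SingularVanishing.sylow_image_dvd hord P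
  let f : (P : Subgroup G) →* G ⧸ Cfsg.pCore p G := π.comp (P : Subgroup G).subtype
  have h2 := f.ker.card_mul_index
  rw [Subgroup.index_ker] at h2
  have h3 : f.range = (P : Subgroup G).map π := by
    rw [MonoidHom.range_comp, Subgroup.range_subtype]
  have h4 : Nat.card f.ker ≤ Nat.card (Cfsg.pCore p G) :=
    Nat.card_le_card_of_injective (fun x : f.ker => (⟨((x : (P : Subgroup G)) : G),
      (QuotientGroup.eq_one_iff _).1 x.2⟩ : Cfsg.pCore p G))
      fun a b hab => Subtype.ext (Subtype.ext (congrArg (fun z : Cfsg.pCore p G => (z : G)) hab))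
  rw [← h2, h3, mul_comm p]
  exact Nat.mul_le_mul h4 (Nat.le_of_dvd (Fact.out : p.Prime).pos hd)

end Cfsg.Agent.S4997
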