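import Cfsg.Statements.S5011

set_option autoImplicit false
open Cfsg

namespace Cfsg.Agent.S5011

/-- Let G be a finite non-abelian simple group and ρ an irreducible complex representation of G on a space of dimension greater than one (irreducible in the sense that the only subspaces invariant under every ρ(x) are 0 and the whole space). Then for every non-identity element g of G, the centralizer of g does not act irreducibly: there is a non-zero proper subspace invariant under ρ(c) for every c commuting with g. -/
theorem result {G : Type*} [Group G] [Finite G] [IsSimpleGroup G]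
    (hG : ¬ IsMulCommutative G) {V : Type*} [AddCommGroup V] [Module ℂ V] [FiniteDimensional ℂ V]
    (ρ : Representation ℂ G V)
    (hirr : ∀ W : Submodule ℂ V, (∀ x : G, ∀ v ∈ W, ρ x v ∈ W) → W = ⊥ ∨ W = ⊤)
    (hdim : 1 < Module.finrank ℂ V) (g : G) (hg : g ≠ 1) :
    ∃ W : Submodule ℂ V, W ≠ ⊥ ∧ W ≠ ⊤ ∧ ∀ c ∈ Subgroup.centralizer ({g} : Set G), ∀ v ∈ W, ρ c v ∈ W := by
  by_contra hno
  simp only [not_exists, not_and] at hno
  haveI : Nontrivial V := Module.nontrivial_of_finrank_pos (R := ℂ) (by omega)
  obtain ⟨μ, hμ⟩ := Module.End.exists_eigenvalue (ρ g : Module.End ℂ V)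
  set W := Module.End.eigenspace (ρ g : Module.End ℂ V) μ with hW
  have hinv : ∀ c ∈ Subgroup.centralizer ({g} : Set G), ∀ v ∈ W, ρ c v ∈ W := by
    intro c hc v hv
    rw [hW, Module.End.mem_eigenspace_iff] at hv ⊢
    have hcg := Subgroup.mem_centralizer_iff.1 hc g rfl
    rw [← Module.End.mul_apply, ← map_mul, hcg, map_mul, Module.End.mul_apply, hv, map_smul]
  have htop : W = ⊤ := by
    by_contra h
    exact hno W hμ h hinv
  have hscal : ∀ v : V, ρ g v = μ • v := fun v => by
    have : v ∈ W := htop ▸ Submodule.mem_top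
    exact Module.End.mem_eigenspace_iff.1 this
  rcases IsSimpleGroup.eq_bot_or_eq_top_of_normal ρ.ker inferInstance with hk | hk
  · have hcen : g ∈ Subgroup.center G := by
      rw [Subgroup.mem_center_iff]
      intro c
      apply (MonoidHom.ker_eq_bot_iff ρ).1 hk
      refine LinearMap.ext fun v => ?_
      rw [map_mul, map_mul, Module.End.mul_apply, Module.End.mul_apply, hscal, hscal, map_smul]
    rcases IsSimpleGroup.eq_bot_or_eq_top_of_normal (Subgroup.center G) inferInstance with h | h
    · rw [h, Subgroup.mem_bot] at hcen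
      exact hg hcen
    · exact hG ⟨⟨fun a b => Subgroup.mem_center_iff.1 (h ▸ Subgroup.mem_top b) a⟩⟩
  · have h1 : ∀ x : G, ρ x = 1 := fun x => MonoidHom.mem_ker.1 (hk ▸ Subgroup.mem_top x)
    obtain ⟨v, hv⟩ := exists_ne (0 : V)
    rcases hirr (Submodule.span ℂ {v}) fun x w hw => by rwa [h1 x] with h | h
    · exact hv (Submodule.span_singleton_eq_bot.1 h)
    · have h2 := finrank_span_singleton (K := ℂ) hv
      rw [h, finrank_top] at h2
      omega

end Cfsg.Agent.S5011
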