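import Cfsg.Statements.S5013
import Cfsg.Agent.Lib.RankOne.RootSets

set_option autoImplicit false
open Cfsg

namespace Cfsg.Agent.S5013

open Cfsg.Agent.Lib.RankOne

/-- In a rank one group with unipotent subgroups A and B (conjugation written g H g⁻¹), for every non-identity a in A the non-identity b in B with b⁻¹ A b = a⁻¹ B a is unique, every non-identity b in B arises in this way from exactly one such a (so a ↦ b(a) is a bijection between the non-identity elements of A and of B), and no non-identity element of A normalizes B (and vice versa). -/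
theorem result {G : Type*} [Group G] {A B : Subgroup G} (h : Cfsg.IsRankOnePair A B) :
    (∀ a ∈ A, a ≠ 1 → ∃! b : G, b ∈ B ∧ b ≠ 1 ∧ Cfsg.conjBy A b⁻¹ = Cfsg.conjBy B a⁻¹) ∧
    (∀ b ∈ B, b ≠ 1 → ∃! a : G, a ∈ A ∧ a ≠ 1 ∧ Cfsg.conjBy A b⁻¹ = Cfsg.conjBy B a⁻¹) ∧
    A ⊓ Subgroup.normalizer (B : Set G) = ⊥ ∧ B ⊓ Subgroup.normalizer (A : Set G) = ⊥ := by
  have uniq : ∀ {A B : Subgroup G}, Cfsg.IsRankOnePair A B → ∀ a ∈ A, a ≠ 1 → ∀ b ∈ B, ∀ b' ∈ B,
      Cfsg.conjBy A b⁻¹ = Cfsg.conjBy B a⁻¹ → Cfsg.conjBy A b'⁻¹ = Cfsg.conjBy B a⁻¹ → b = b' := by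
    intro A B h a _ _ b hb b' hb' e e'
    have e2 := conjBy_eq_iff.mp (e.trans e'.symm)
    rw [inv_inv] at e2
    have := eq_one_of_normalizes (Cfsg.RankOnePair_symm h) (mul_mem hb' (inv_mem hb)) e2
    exact (mul_inv_eq_one.mp this).symm
  refine ⟨fun a ha ha1 => ?_, fun b hb hb1 => ?_, inf_normalizer h, inf_normalizer (Cfsg.RankOnePair_symm h)⟩
  · obtain ⟨b, hb, hb1, e⟩ := h.cond_left a ha ha1
    exact ⟨b, ⟨hb, hb1, e⟩, fun b' hb' => uniq h a ha ha1 b' hb'.1 b hb hb'.2.2 e⟩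
  · obtain ⟨a, ha, ha1, e⟩ := h.cond_right b hb hb1
    exact ⟨a, ⟨ha, ha1, e.symm⟩,
      fun a' ha' => uniq (Cfsg.RankOnePair_symm h) b hb hb1 a' ha'.1 a ha ha'.2.2.symm e⟩

end Cfsg.Agent.S5013
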