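import Cfsg.Statements.S5015
import Cfsg.Agent.Lib.RankOne.RootSets

set_option autoImplicit false
open Cfsg

namespace Cfsg.Agent.S5015

open Cfsg.Agent.Lib.RankOne

/-- Let a group Y act doubly transitively on a set Ω with at least three points, and suppose that the stabilizer of a point α contains a nilpotent subgroup A, normalized by that stabilizer, which acts regularly on the points other than α. Then for any y in Y moving α, the subgroups A and y A y⁻¹ are the unipotent subgroups of a rank one group, and the normal closure of A in Y (the subgroup generated by all conjugates of A) is generated by A and y A y⁻¹ alone. -/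
theorem result {Y Ω : Type*} [Group Y] [MulAction Y Ω]
    (h2 : MulAction.IsMultiplyPretransitive Y Ω 2) (hΩ : 3 ≤ ENat.card Ω) (α : Ω) (A : Subgroup Y)
    (hA : A ≤ MulAction.stabilizer Y α) (hAn : ∀ y ∈ MulAction.stabilizer Y α, Cfsg.conjBy A y = A)
    (hnil : Group.IsNilpotent A) (hreg : ∀ β γ : Ω, β ≠ α → γ ≠ α → ∃! a : Y, a ∈ A ∧ a • β = γ)
    (y : Y) (hy : y ∉ MulAction.stabilizer Y α) :
    Cfsg.IsRankOnePair A (Cfsg.conjBy A y) ∧ Subgroup.normalClosure (A : Set Y) = A ⊔ Cfsg.conjBy A y := by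
  have hβ : y • α ≠ α := hy
  have hB : ∀ {C : Subgroup Y}, C = Cfsg.conjBy A y →
      (∀ c ∈ C, c • (y • α) = y • α) ∧
      ∀ γ δ : Ω, γ ≠ y • α → δ ≠ y • α → ∃! c : Y, c ∈ C ∧ c • γ = δ := by
    rintro C rfl
    refine ⟨fun c hc => ?_, fun γ δ hγ hδ => ?_⟩
    · have := MulAction.mem_stabilizer_iff.mp (hA (mem_conjBy.mp hc))
      rwa [mul_smul, mul_smul, inv_smul_eq_iff] at this
    · obtain ⟨a, ⟨ha, hae⟩, hu⟩ := hreg (y⁻¹ • γ) (y⁻¹ • δ) (by rwa [ne_eq, inv_smul_eq_iff]) (by rwa [ne_eq, inv_smul_eq_iff])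
      refine ⟨y * a * y⁻¹, ⟨conj_mem_conjBy ha, by rw [mul_smul, mul_smul, hae, smul_inv_smul]⟩, ?_⟩
      rintro c ⟨hc, hce⟩
      have := hu (y⁻¹ * c * y) ⟨mem_conjBy.mp hc, by rw [mul_smul, mul_smul, smul_inv_smul, hce]⟩
      rw [← this]
      group
  obtain ⟨hBfix, hBreg⟩ := hB rfl
  have same : ∀ g k : Y, g • α = k • α → Cfsg.conjBy A g = Cfsg.conjBy A k := fun g k e =>
    conjBy_eq_iff.mpr (hAn _ (MulAction.mem_stabilizer_iff.mpr (by rw [mul_smul, e, inv_smul_smul])))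
  have moveA : ∀ a ∈ A, a ≠ 1 → a⁻¹ • (y • α) ≠ y • α := by
    intro a ha ha1 e
    obtain ⟨c, -, hu⟩ := hreg (y • α) (y • α) hβ hβ
    exact ha1 (inv_eq_one.mp ((hu a⁻¹ ⟨inv_mem ha, e⟩).trans (hu 1 ⟨one_mem A, one_smul _ _⟩).symm))
  have moveB : ∀ b ∈ Cfsg.conjBy A y, b ≠ 1 → b⁻¹ • α ≠ α := by
    intro b hb hb1 e
    obtain ⟨c, -, hu⟩ := hBreg α α (Ne.symm hβ) (Ne.symm hβ)
    exact hb1 (inv_eq_one.mp ((hu b⁻¹ ⟨inv_mem hb, e⟩).trans (hu 1 ⟨one_mem _, one_smul _ _⟩).symm))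
  have fixA : ∀ a ∈ A, a • α = α := fun a ha => MulAction.mem_stabilizer_iff.mp (hA ha)
  refine ⟨⟨?_, hnil, ?_, ?_, ?_⟩, le_antisymm ?_ (sup_le ?_ ?_)⟩
  · intro e
    obtain ⟨γ, hγα, hγβ⟩ : ∃ γ : Ω, γ ≠ α ∧ γ ≠ y • α := by
      by_contra! hh
      have hu : (Set.univ : Set Ω) ⊆ {α, y • α} := fun γ _ => by
        by_cases hγ : γ = α
        · exact Or.inl hγ
        · exact Or.inr (hh γ hγ)
      have h3 := hΩ.trans ((Set.encard_univ Ω).symm.trans_le ((Set.encard_le_encard hu).trans (Set.encard_pair (Ne.symm hβ)).le))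
      norm_num at h3
    obtain ⟨a, ⟨ha, hae⟩, -⟩ := hreg (y • α) γ hβ hγα
    exact hγβ (hae.symm.trans (hBfix a (e ▸ ha)))
  · haveI := hnil
    exact Group.nilpotent_of_mulEquiv (Subgroup.equivMapOfInjective A _ (MulAut.conj y).injective)
  · intro a ha ha1
    have hγα : a⁻¹ • (y • α) ≠ α := fun e => hβ (by rwa [inv_smul_eq_iff, fixA a ha] at e)
    obtain ⟨c, ⟨hc, hce⟩, -⟩ := hBreg α (a⁻¹ • (y • α)) (Ne.symm hβ) (moveA a ha ha1)
    refine ⟨c⁻¹, inv_mem hc, fun e => ?_, ?_⟩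
    · rw [inv_eq_one.mp e, one_smul] at hce
      exact hγα hce.symm
    · rw [inv_inv, conjBy_conjBy]
      exact same _ _ (hce.trans (mul_smul _ _ _).symm)
  · intro b hb hb1
    have hγβ : b⁻¹ • α ≠ y • α := fun e => hβ (by
      rw [inv_smul_eq_iff, hBfix b hb] at e
      exact e.symm)
    obtain ⟨a, ⟨ha, hae⟩, -⟩ := hreg (y • α) (b⁻¹ • α) hβ (moveB b hb hb1)
    refine ⟨a⁻¹, inv_mem ha, fun e => ?_, ?_⟩
    · rw [inv_eq_one.mp e, one_smul] at hae
      exact hγβ hae.symm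
    · rw [inv_inv, conjBy_conjBy]
      exact same _ _ ((mul_smul _ _ _).trans hae)
  · rw [Subgroup.normalClosure, Subgroup.closure_le]
    intro x hx
    obtain ⟨a₀, ha₀, hconj⟩ := Group.mem_conjugatesOfSet_iff.mp hx
    obtain ⟨g, rfl⟩ := isConj_iff.mp hconj
    have hmem : g * a₀ * g⁻¹ ∈ Cfsg.conjBy A g := conj_mem_conjBy ha₀
    by_cases hg : g • α = α
    · rw [hAn g (MulAction.mem_stabilizer_iff.mpr hg)] at hmem
      exact Subgroup.mem_sup_left hmem
    · obtain ⟨a, ⟨ha, hae⟩, -⟩ := hreg (y • α) (g • α) hβ hg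
      rw [same g (a * y) (hae.symm.trans (mul_smul _ _ _).symm), ← conjBy_conjBy] at hmem
      obtain ⟨z, hz, hze⟩ := hmem
      rw [← hze]
      exact mul_mem (mul_mem (Subgroup.mem_sup_left ha) (Subgroup.mem_sup_right hz)) (inv_mem (Subgroup.mem_sup_left ha))
  · exact Subgroup.le_normalClosure
  · rintro _ ⟨a, ha, rfl⟩
    exact Subgroup.normalClosure_normal.conj_mem a (Subgroup.subset_normalClosure ha) y

end Cfsg.Agent.S5015
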