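import Cfsg.Statements.S5016
import Cfsg.Agent.Lib.RankOne.RootSets

set_option autoImplicit false
open Cfsg

namespace Cfsg.Agent.S5016

open Cfsg.Agent.Lib.RankOne

variable {k : Type*} [Field k]

def L1 (s : k) : Matrix.SpecialLinearGroup (Fin 2) k := ⟨!![1, 0; s, 1], by simp [Matrix.det_fin_two]⟩

def U1 (t : k) : Matrix.SpecialLinearGroup (Fin 2) k := ⟨!![1, t; 0, 1], by simp [Matrix.det_fin_two]⟩

theorem L1_zero : L1 (0 : k) = 1 := Subtype.ext (by simp [L1, Matrix.one_fin_two])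

theorem U1_zero : U1 (0 : k) = 1 := Subtype.ext (by simp [U1, Matrix.one_fin_two])

theorem L1_ne {s : k} (hs : s ≠ 0) : L1 s ≠ 1 := fun e => hs (by
  simpa [L1] using congrArg (fun g : Matrix.SpecialLinearGroup (Fin 2) k => (g : Matrix (Fin 2) (Fin 2) k) 1 0) e)

theorem U1_ne {t : k} (ht : t ≠ 0) : U1 t ≠ 1 := fun e => ht (by
  simpa [U1] using congrArg (fun g : Matrix.SpecialLinearGroup (Fin 2) k => (g : Matrix (Fin 2) (Fin 2) k) 0 1) e)

theorem eq_L1 {g : Matrix.SpecialLinearGroup (Fin 2) k} {s : k} (h : (g : Matrix (Fin 2) (Fin 2) k) = !![1, 0; s, 1]) :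
    g = L1 s := Subtype.ext h

theorem eq_U1 {g : Matrix.SpecialLinearGroup (Fin 2) k} {t : k} (h : (g : Matrix (Fin 2) (Fin 2) k) = !![1, t; 0, 1]) :
    g = U1 t := Subtype.ext h

theorem L1_add (s t : k) : L1 (s + t) = L1 s * L1 t := Matrix.SpecialLinearGroup.ext _ _ fun i j => by
  rw [Matrix.SpecialLinearGroup.coe_mul]
  fin_cases i <;> fin_cases j <;> simp [L1, Matrix.mul_apply, Fin.sum_univ_two]

theorem U1_add (s t : k) : U1 (s + t) = U1 s * U1 t := Matrix.SpecialLinearGroup.ext _ _ fun i j => by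
  rw [Matrix.SpecialLinearGroup.coe_mul]
  fin_cases i <;> fin_cases j <;> simp [U1, Matrix.mul_apply, Fin.sum_univ_two, add_comm]

theorem L1_inv (s : k) : (L1 s)⁻¹ = L1 (-s) := inv_eq_of_mul_eq_one_right (by rw [← L1_add, add_neg_cancel, L1_zero])

theorem U1_inv (t : k) : (U1 t)⁻¹ = U1 (-t) := inv_eq_of_mul_eq_one_right (by rw [← U1_add, add_neg_cancel, U1_zero])

theorem mem_lower (g : Matrix.SpecialLinearGroup (Fin 2) k) :
    g ∈ Cfsg.lowerUnipotentSL2 k ↔ ∃ s : k, (g : Matrix (Fin 2) (Fin 2) k) = !![1, 0; s, 1] := by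
  constructor
  · intro hg
    let H : Subgroup (Matrix.SpecialLinearGroup (Fin 2) k) :=
      { carrier := {g | ∃ s : k, g = L1 s}
        one_mem' := ⟨0, L1_zero.symm⟩
        mul_mem' := by rintro _ _ ⟨s, rfl⟩ ⟨t, rfl⟩; exact ⟨s + t, (L1_add s t).symm⟩
        inv_mem' := by rintro _ ⟨s, rfl⟩; exact ⟨-s, L1_inv s⟩ }
    have hle : Cfsg.lowerUnipotentSL2 k ≤ H := by
      rw [Cfsg.lowerUnipotentSL2, Subgroup.closure_le]
      rintro g ⟨h01, h00, h11⟩
      exact ⟨(g : Matrix (Fin 2) (Fin 2) k) 1 0, Subtype.ext (by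
        ext i j; fin_cases i <;> fin_cases j <;> simp [L1, h01, h00, h11])⟩
    obtain ⟨s, rfl⟩ := hle hg
    exact ⟨s, rfl⟩
  · rintro ⟨s, hs⟩
    exact Subgroup.subset_closure (by simp [hs])

theorem mem_upper (g : Matrix.SpecialLinearGroup (Fin 2) k) :
    g ∈ Cfsg.upperUnipotentSL2 k ↔ ∃ t : k, (g : Matrix (Fin 2) (Fin 2) k) = !![1, t; 0, 1] := by
  constructor
  · intro hg
    let H : Subgroup (Matrix.SpecialLinearGroup (Fin 2) k) :=
      { carrier := {g | ∃ t : k, g = U1 t}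
        one_mem' := ⟨0, U1_zero.symm⟩
        mul_mem' := by rintro _ _ ⟨s, rfl⟩ ⟨t, rfl⟩; exact ⟨s + t, (U1_add s t).symm⟩
        inv_mem' := by rintro _ ⟨s, rfl⟩; exact ⟨-s, U1_inv s⟩ }
    have hle : Cfsg.upperUnipotentSL2 k ≤ H := by
      rw [Cfsg.upperUnipotentSL2, Subgroup.closure_le]
      rintro g ⟨h10, h00, h11⟩
      exact ⟨(g : Matrix (Fin 2) (Fin 2) k) 0 1, Subtype.ext (by
        ext i j; fin_cases i <;> fin_cases j <;> simp [U1, h10, h00, h11])⟩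
    obtain ⟨s, rfl⟩ := hle hg
    exact ⟨s, rfl⟩
  · rintro ⟨s, hs⟩
    exact Subgroup.subset_closure (by simp [hs])

theorem key_prod {s : k} (hs : s ≠ 0) : L1 s * (U1 s⁻¹)⁻¹ * L1 s = (U1 s⁻¹)⁻¹ * L1 s * (U1 s⁻¹)⁻¹ := by
  rw [U1_inv]
  refine Matrix.SpecialLinearGroup.ext _ _ fun i j => ?_
  simp only [Matrix.SpecialLinearGroup.coe_mul]
  fin_cases i <;> fin_cases j <;> simp [L1, U1, Matrix.mul_apply, Fin.sum_univ_two, hs] <;> field_simp <;> ring

theorem cond_LU {s : k} (hs : s ≠ 0) :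
    Cfsg.conjBy (Cfsg.lowerUnipotentSL2 k) (U1 s⁻¹)⁻¹ = Cfsg.conjBy (Cfsg.upperUnipotentSL2 k) (L1 s)⁻¹ := by
  rw [conjBy_eq_iff, inv_inv, U1_inv]
  have hprod : ∀ w, (L1 s * U1 (-s⁻¹)) * L1 w = U1 (-(w / s ^ 2)) * (L1 s * U1 (-s⁻¹)) := fun w =>
    Matrix.SpecialLinearGroup.ext _ _ fun i j => by
    simp only [Matrix.SpecialLinearGroup.coe_mul]
    fin_cases i <;> fin_cases j <;> simp [L1, U1, Matrix.mul_apply, Fin.sum_univ_two] <;> (try field_simp) <;> (try ring) <;> simp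
  refine le_antisymm ?_ fun x hx => ?_
  · rintro _ ⟨l, hl, rfl⟩
    obtain ⟨w, hw⟩ := (mem_lower l).mp hl
    obtain rfl := eq_L1 hw
    show (L1 s * U1 (-s⁻¹)) * L1 w * (L1 s * U1 (-s⁻¹))⁻¹ ∈ _
    rw [hprod, mul_inv_cancel_right]
    exact (mem_upper _).mpr ⟨_, rfl⟩
  · obtain ⟨t, ht⟩ := (mem_upper x).mp hx
    obtain rfl := eq_U1 ht
    refine ⟨L1 (-(t * s ^ 2)), (mem_lower _).mpr ⟨_, rfl⟩, ?_⟩
    show (L1 s * U1 (-s⁻¹)) * L1 (-(t * s ^ 2)) * (L1 s * U1 (-s⁻¹))⁻¹ = U1 t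
    rw [hprod, mul_inv_cancel_right]
    congr 1
    field_simp
    try ring

theorem special_LU {s : k} (hs : s ≠ 0) : (U1 s⁻¹)⁻¹ * L1 s * U1 s⁻¹ = (L1 s)⁻¹ * (U1 s⁻¹)⁻¹ * L1 s := by
  rw [U1_inv, L1_inv]
  refine Matrix.SpecialLinearGroup.ext _ _ fun i j => ?_
  simp only [Matrix.SpecialLinearGroup.coe_mul]
  fin_cases i <;> fin_cases j <;> simp [L1, U1, Matrix.mul_apply, Fin.sum_univ_two, hs] <;> field_simp <;> ring

theorem gen_top (k : Type*) [Field k] : Cfsg.lowerUnipotentSL2 k ⊔ Cfsg.upperUnipotentSL2 k = ⊤ := by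
  refine eq_top_iff.mpr fun g _ => ?_
  set M := Cfsg.lowerUnipotentSL2 k ⊔ Cfsg.upperUnipotentSL2 k
  have hl : ∀ s, L1 s ∈ M := fun s => Subgroup.mem_sup_left ((mem_lower _).mpr ⟨s, rfl⟩)
  have hu : ∀ t, U1 t ∈ M := fun t => Subgroup.mem_sup_right ((mem_upper _).mpr ⟨t, rfl⟩)
  have main : ∀ g : Matrix.SpecialLinearGroup (Fin 2) k, (g : Matrix (Fin 2) (Fin 2) k) 1 0 ≠ 0 → g ∈ M := by
    intro g hc
    set a := (g : Matrix (Fin 2) (Fin 2) k) 0 0
    set b := (g : Matrix (Fin 2) (Fin 2) k) 0 1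
    set c := (g : Matrix (Fin 2) (Fin 2) k) 1 0
    set d := (g : Matrix (Fin 2) (Fin 2) k) 1 1
    have hdet : a * d - b * c = 1 := by
      have := g.2
      rwa [Matrix.det_fin_two] at this
    have : g = U1 ((a - 1) / c) * L1 c * U1 ((d - 1) / c) := Matrix.SpecialLinearGroup.ext _ _ fun i j => (by
      simp only [Matrix.SpecialLinearGroup.coe_mul]
      fin_cases i <;> fin_cases j <;> simp [L1, U1, Matrix.mul_apply, Fin.sum_univ_two] <;> (try simp only [a, b, c, d] at *) <;>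
        (try field_simp) <;> first | ring1 | linear_combination hdet | linear_combination -hdet)
    rw [this]
    exact mul_mem (mul_mem (hu _) (hl _)) (hu _)
  by_cases hc : (g : Matrix (Fin 2) (Fin 2) k) 1 0 = 0
  · have ha : (g : Matrix (Fin 2) (Fin 2) k) 0 0 ≠ 0 := fun h => by
      have := g.2
      rw [Matrix.det_fin_two, h, hc] at this
      simp at this
    have h1 := main (L1 1 * g) (by rw [Matrix.SpecialLinearGroup.coe_mul]; simp [L1, Matrix.mul_apply, Fin.sum_univ_two, hc, ha])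
    simpa [mul_assoc] using mul_mem (inv_mem (hl 1)) h1
  · exact main g hc

/-- For any field k, the special linear group SL₂(k) is a special rank one group with abelian unipotent subgroups, the unipotent subgroups being the group of lower unitriangular matrices and the group of upper unitriangular matrices. -/
theorem result (k : Type*) [Field k] :
    Cfsg.IsRankOneGroup (Matrix.SpecialLinearGroup (Fin 2) k) (Cfsg.lowerUnipotentSL2 k) (Cfsg.upperUnipotentSL2 k) ∧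
    Cfsg.IsSpecialRankOnePair (Cfsg.lowerUnipotentSL2 k) (Cfsg.upperUnipotentSL2 k) ∧
    Cfsg.HasAbelianUnipotents (Cfsg.lowerUnipotentSL2 k) (Cfsg.upperUnipotentSL2 k) := by
  have hL : ∀ g, g ∈ Cfsg.lowerUnipotentSL2 k ↔ ∃ s : k, (g : Matrix (Fin 2) (Fin 2) k) = !![1, 0; s, 1] := mem_lower
  have hU : ∀ g, g ∈ Cfsg.upperUnipotentSL2 k ↔ ∃ t : k, (g : Matrix (Fin 2) (Fin 2) k) = !![1, t; 0, 1] := mem_upper
  have commL : IsMulCommutative (Cfsg.lowerUnipotentSL2 k) := ⟨⟨fun x y => by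
    obtain ⟨s, hs⟩ := (hL _).mp x.2
    obtain ⟨t, ht⟩ := (hL _).mp y.2
    apply Subtype.ext
    apply Matrix.SpecialLinearGroup.ext
    intro i j
    show ((x.1 * y.1 : Matrix.SpecialLinearGroup (Fin 2) k) : Matrix (Fin 2) (Fin 2) k) i j =
      ((y.1 * x.1 : Matrix.SpecialLinearGroup (Fin 2) k) : Matrix (Fin 2) (Fin 2) k) i j
    rw [Matrix.SpecialLinearGroup.coe_mul, Matrix.SpecialLinearGroup.coe_mul, hs, ht]
    fin_cases i <;> fin_cases j <;> simp [Matrix.mul_apply, Fin.sum_univ_two, add_comm]⟩⟩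
  have commU : IsMulCommutative (Cfsg.upperUnipotentSL2 k) := ⟨⟨fun x y => by
    obtain ⟨s, hs⟩ := (hU _).mp x.2
    obtain ⟨t, ht⟩ := (hU _).mp y.2
    apply Subtype.ext
    apply Matrix.SpecialLinearGroup.ext
    intro i j
    show ((x.1 * y.1 : Matrix.SpecialLinearGroup (Fin 2) k) : Matrix (Fin 2) (Fin 2) k) i j =
      ((y.1 * x.1 : Matrix.SpecialLinearGroup (Fin 2) k) : Matrix (Fin 2) (Fin 2) k) i j
    rw [Matrix.SpecialLinearGroup.coe_mul, Matrix.SpecialLinearGroup.coe_mul, hs, ht]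
    fin_cases i <;> fin_cases j <;> simp [Matrix.mul_apply, Fin.sum_univ_two, add_comm]⟩⟩
  have hne : Cfsg.lowerUnipotentSL2 k ≠ Cfsg.upperUnipotentSL2 k := by
    intro e
    obtain ⟨t, ht⟩ := (hU _).mp (e ▸ (hL (L1 (1 : k))).mpr ⟨1, rfl⟩)
    have := congrFun₂ ht 1 0
    simp [L1] at this
  have hpair : Cfsg.IsRankOnePair (Cfsg.lowerUnipotentSL2 k) (Cfsg.upperUnipotentSL2 k) := by
    haveI := commL
    haveI := commU
    refine ⟨hne, ⟨⟨1, ?n1⟩⟩, ⟨⟨1, ?n2⟩⟩, ?_, ?_⟩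
    case n1 =>
      rw [Subgroup.upperCentralSeries_one]
      exact eq_top_iff.mpr fun x _ => Subgroup.mem_center_iff.mpr fun y => mul_comm' y x
    case n2 =>
      rw [Subgroup.upperCentralSeries_one]
      exact eq_top_iff.mpr fun x _ => Subgroup.mem_center_iff.mpr fun y => mul_comm' y x
    · intro a ha ha1
      obtain ⟨s, hs⟩ := (hL a).mp ha
      obtain rfl : a = L1 s := eq_L1 hs
      have hs0 : s ≠ 0 := fun h0 => ha1 (by rw [h0]; exact L1_zero)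
      exact ⟨U1 s⁻¹, (hU _).mpr ⟨s⁻¹, rfl⟩, U1_ne (inv_ne_zero hs0), cond_LU hs0⟩
    · intro b hb hb1
      obtain ⟨t, ht⟩ := (hU b).mp hb
      obtain rfl : b = U1 t := eq_U1 ht
      have ht0 : t ≠ 0 := fun h0 => hb1 (by rw [h0]; exact U1_zero)
      refine ⟨L1 t⁻¹, (hL _).mpr ⟨t⁻¹, rfl⟩, L1_ne (inv_ne_zero ht0), ?_⟩
      have := cond_LU (inv_ne_zero ht0)
      rw [inv_inv] at this
      exact this.symm
  refine ⟨⟨gen_top k, hpair⟩, ⟨hpair, ?_⟩, commL, commU⟩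
  intro a ha ha1 b hb hb1 e
  obtain ⟨s, hs⟩ := (hL a).mp ha
  obtain rfl : a = L1 s := eq_L1 hs
  obtain ⟨t, ht⟩ := (hU b).mp hb
  obtain rfl : b = U1 t := eq_U1 ht
  have hs0 : s ≠ 0 := fun h0 => ha1 (by rw [h0]; exact L1_zero)
  have h2 := (cond_LU hs0).trans e.symm
  rw [conjBy_eq_iff, inv_inv] at h2
  have h3 := eq_one_of_normalizes (Cfsg.RankOnePair_symm hpair) (mul_mem hb (inv_mem ((hU (U1 s⁻¹)).mpr ⟨s⁻¹, rfl⟩))) h2
  rw [mul_inv_eq_one] at h3
  rw [h3]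
  exact special_LU hs0

end Cfsg.Agent.S5016
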