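import Cfsg.Statements.S5017
import Cfsg.Agent.Lib.RankOne.RootSets

set_option autoImplicit false
open Cfsg

namespace Cfsg.Agent.S5017

open Cfsg.Agent.Lib.RankOne

/-- Let X be a rank one group with unipotent subgroups A and B and N a normal subgroup of X. Then either X = N A or N lies in the centre of X. Consequently a perfect rank one group is quasisimple. -/
theorem result {X : Type*} [Group X] {A B : Subgroup X} (h : Cfsg.IsRankOneGroup X A B) :
    (∀ N : Subgroup X, N.Normal → N ⊔ A = ⊤ ∨ N ≤ Subgroup.center X) ∧
    (Group.IsPerfect X → Cfsg.IsQuasisimple X) := by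
  refine ⟨fun N hN => normal_dichotomy h.1 h.2 N hN, fun hperf => ⟨hperf, ?_⟩⟩
  haveI := h.2.nilpotent_left
  have hcov : ∀ N : Subgroup X, N.Normal → N ⊔ A = ⊤ → N = ⊤ := by
    intro N hN e
    haveI := hN
    let f := (QuotientGroup.mk' N).comp A.subtype
    have hsurj : Function.Surjective f := by
      rw [← MonoidHom.range_eq_top, MonoidHom.range_comp, Subgroup.range_subtype]
      apply Subgroup.comap_injective (QuotientGroup.mk'_surjective N)
      rw [Subgroup.comap_map_eq, Subgroup.comap_top, QuotientGroup.ker_mk', sup_comm, e]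
    haveI := Group.nilpotent_of_surjective f hsurj
    by_contra hne
    haveI : Nontrivial (X ⧸ N) := QuotientGroup.nontrivial_iff.mpr hne
    have h1 : commutator (X ⧸ N) = ⊤ := by
      rw [commutator_def, ← Subgroup.map_top_of_surjective _ (QuotientGroup.mk'_surjective N),
        ← Subgroup.map_commutator, ← commutator_def, Group.IsPerfect.commutator_eq_top]
    exact absurd h1 (Group.IsSolvable.commutator_lt_top_of_nontrivial (X ⧸ N)).ne
  have hc : Subgroup.center X ≠ ⊤ := by
    intro e
    refine left_ne_bot h.2 ((Subgroup.eq_bot_iff_forall A).mpr fun a ha => eq_one_of_normalizes h.2 ha ?_)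
    exact conjBy_eq_self_of_commute fun b _ => (Subgroup.mem_center_iff.mp (e ▸ Subgroup.mem_top a) b).symm
  haveI : Nontrivial (X ⧸ Subgroup.center X) := QuotientGroup.nontrivial_iff.mpr hc
  refine ⟨fun M hM => ?_⟩
  rcases normal_dichotomy h.1 h.2 _ (hM.comap (QuotientGroup.mk' (Subgroup.center X))) with e | e
  · refine Or.inr ?_
    have := hcov _ (hM.comap _) e
    rw [← Subgroup.map_comap_eq_self_of_surjective (QuotientGroup.mk'_surjective _) M, this,
      Subgroup.map_top_of_surjective _ (QuotientGroup.mk'_surjective _)]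
  · refine Or.inl ?_
    rw [← Subgroup.map_comap_eq_self_of_surjective (QuotientGroup.mk'_surjective _) M, Subgroup.map_eq_bot_iff,
      QuotientGroup.ker_mk']
    exact e

end Cfsg.Agent.S5017
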