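import Cfsg.Statements.S5018
import Cfsg.Agent.Lib.RankOne.RootSets

set_option autoImplicit false
open Cfsg

namespace Cfsg.Agent.S5018

open Cfsg.Agent.Lib.RankOne

theorem nilpotent_of_upper_quotient {X : Type*} [Group X] (i : ℕ)
    (h : Group.IsNilpotent (X ⧸ Subgroup.upperCentralSeries X i)) : Group.IsNilpotent X := by
  obtain ⟨c, hc⟩ := h.nilpotent
  refine ⟨⟨i + c, ?_⟩⟩
  have key : ∀ j, (Subgroup.upperCentralSeries (X ⧸ Subgroup.upperCentralSeries X i) j).comap
      (QuotientGroup.mk' _) ≤ Subgroup.upperCentralSeries X (i + j) := by
    intro j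
    induction j with
    | zero => rw [Subgroup.upperCentralSeries_zero, MonoidHom.comap_bot, QuotientGroup.ker_mk', Nat.add_zero]
    | succ j ih =>
      intro x hx
      rw [← add_assoc, Subgroup.mem_upperCentralSeries_succ_iff]
      intro y
      refine ih ?_
      have := Subgroup.mem_upperCentralSeries_succ_iff.mp hx (QuotientGroup.mk' _ y)
      simpa [Subgroup.mem_comap] using this
  exact eq_top_iff.mpr (by simpa [hc] using key c)

/-- A rank one group is not nilpotent, and its second centre equals its centre. -/
theorem result {X : Type*} [Group X] {A B : Subgroup X} (h : Cfsg.IsRankOneGroup X A B) :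
    Subgroup.upperCentralSeries X 2 = Subgroup.center X ∧ ¬ Group.IsNilpotent X := by
  refine ⟨le_antisymm ?_ ?_, not_nilpotent h.1 h.2⟩
  · rcases normal_dichotomy h.1 h.2 (Subgroup.upperCentralSeries X 2) inferInstance with e | e
    · refine absurd ?_ (not_nilpotent h.1 h.2)
      haveI := h.2.nilpotent_left
      let f := (QuotientGroup.mk' (Subgroup.upperCentralSeries X 2)).comp A.subtype
      have hsurj : Function.Surjective f := by
        rw [← MonoidHom.range_eq_top, MonoidHom.range_comp, Subgroup.range_subtype]
        apply Subgroup.comap_injective (QuotientGroup.mk'_surjective _)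
        rw [Subgroup.comap_map_eq, Subgroup.comap_top, QuotientGroup.ker_mk', sup_comm, e]
      exact nilpotent_of_upper_quotient 2 (Group.nilpotent_of_surjective f hsurj)
    · exact e
  · rw [← Subgroup.upperCentralSeries_one]
    exact Subgroup.upperCentralSeries_mono X (by norm_num)

end Cfsg.Agent.S5018
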