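import Cfsg.Statements.S5019
import Cfsg.Agent.Lib.RankOne.Quadratic

set_option autoImplicit false
open Cfsg

namespace Cfsg.Agent.S5019

open Cfsg.Agent.Lib.RankOne

/-- Let X be a rank one group with abelian unipotent subgroups A and B, and suppose X acts on an abelian group N (written additively) in such a way that A acts quadratically, meaning a' • (a • n − n) = a • n − n for all a, a' in A and n in N, while X as a whole does not: y • (x • n − n) ≠ x • n − n for some x, y in X and n in N. Then X is a special rank one group. -/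
theorem result {X : Type*} [Group X] {A B : Subgroup X} (h : Cfsg.IsRankOneGroup X A B)
    (hab : Cfsg.HasAbelianUnipotents A B) {N : Type*} [AddCommGroup N] [DistribMulAction X N]
    (hq : ∀ a ∈ A, ∀ a' ∈ A, ∀ n : N, a' • (a • n - n) = a • n - n)
    (hX : ∃ x y : X, ∃ n : N, y • (x • n - n) ≠ x • n - n) : Cfsg.IsSpecialRankOnePair A B := by
  refine ⟨h.2, fun a ha _ b hb _ e => ?_⟩
  let P : Subgroup X → AddSubgroup N := fun C =>
    AddSubgroup.closure {v | ∃ c ∈ C, ∃ n : N, v = c • n - n}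
  have hgen : ∀ (C : Subgroup X), ∀ c ∈ C, ∀ n : N, c • n - n ∈ P C := fun C c hc n =>
    AddSubgroup.subset_closure ⟨c, hc, n, rfl⟩
  have hPmap : ∀ (C : Subgroup X) (x : X), ∀ v ∈ P C, x • v ∈ P (conjBy C x) := by
    intro C x v hv
    induction hv using AddSubgroup.closure_induction with
    | mem v hv =>
      obtain ⟨c, hc, n, rfl⟩ := hv
      have h1 := hgen (conjBy C x) _ (conj_mem_conjBy hc) (x • n)
      rw [← mul_smul, inv_mul_cancel_right, mul_smul, ← smul_sub] at h1
      exact h1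
    | zero => rw [smul_zero]; exact zero_mem _
    | add u w _ _ hu hw => rw [smul_add]; exact add_mem hu hw
    | neg u _ hu => rw [smul_neg]; exact neg_mem hu
  have hPfix : ∀ v ∈ P A, ∀ a ∈ A, a • v = v := by
    intro v hv
    induction hv using AddSubgroup.closure_induction with
    | mem v hv => obtain ⟨c, hc, n, rfl⟩ := hv; exact fun a ha => hq c hc a ha n
    | zero => exact fun a _ => smul_zero a
    | add u w _ _ hu hw => exact fun a ha => by rw [smul_add, hu a ha, hw a ha]
    | neg u _ hu => exact fun a ha => by rw [smul_neg, hu a ha]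
  obtain ⟨x₀, -, hx₀⟩ := mem_unip_right h.2
  have hQfix : ∀ v ∈ P B, ∀ b ∈ B, b • v = v := by
    intro v hv b hb
    have h1 : x₀⁻¹ • v ∈ P A := by
      have := hPmap B x₀⁻¹ v hv
      rwa [hx₀, conjBy_conjBy, inv_mul_cancel, conjBy_one] at this
    have h2 := hPfix _ h1 (x₀⁻¹ * b * x₀) (mem_conjBy.mp (hx₀ ▸ hb))
    rwa [← mul_smul, mul_inv_cancel_right, mul_smul, smul_left_cancel_iff] at h2
  let S : Subgroup X :=
    { carrier := {x | ∀ n : N, x • n - n ∈ P A ⊔ P B}
      one_mem' := fun n => by rw [one_smul, sub_self]; exact zero_mem _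
      mul_mem' := fun {x y} hx hy n => by
        rw [mul_smul, ← sub_add_sub_cancel _ (y • n)]
        exact add_mem (hx _) (hy n)
      inv_mem' := fun {x} hx n => by
        have := neg_mem (hx (x⁻¹ • n))
        rwa [smul_inv_smul, neg_sub] at this }
  have hS : ∀ x, x ∈ S := fun x => by
    have : A ⊔ B ≤ S := sup_le (fun a ha n => AddSubgroup.mem_sup_left (hgen A a ha n))
      fun b hb n => AddSubgroup.mem_sup_right (hgen B b hb n)
    rw [h.1] at this
    exact this (Subgroup.mem_top x)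
  have hWinv : ∀ (x : X), ∀ w ∈ P A ⊔ P B, x • w ∈ P A ⊔ P B := fun x w hw => by
    have := add_mem (hS x w) hw
    rwa [sub_add_cancel] at this
  let K : Subgroup X :=
    { carrier := {x | ∀ w ∈ P A ⊔ P B, x • w = w}
      one_mem' := fun w _ => one_smul _ _
      mul_mem' := fun {x y} hx hy w hw => by rw [mul_smul, hy w hw, hx w hw]
      inv_mem' := fun {x} hx w hw => by conv_lhs => rw [← hx w hw, inv_smul_smul] }
  haveI hKn : K.Normal := ⟨fun x hx g w hw => by
    rw [mul_smul, mul_smul, hx _ (hWinv g⁻¹ w hw), smul_inv_smul]⟩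
  have hKof : ∀ y, (∀ p ∈ P A, y • p = p) → (∀ q ∈ P B, y • q = q) → y ∈ K := by
    intro y h1 h2 w hw
    obtain ⟨u, hu, v, hv, rfl⟩ := AddSubgroup.mem_sup.mp hw
    rw [smul_add, h1 u hu, h2 v hv]
  obtain ⟨hA', hB'⟩ := hab
  have hKB : ∀ z ∈ B, z ∈ K → z = 1 := by
    intro z hz hzK
    by_contra hz1
    have hsym : IsRankOneGroup X B A := ⟨by rw [sup_comm]; exact h.1, RankOnePair_symm h.2⟩
    have hBc : ∀ u ∈ B, ∀ v ∈ B, u * v = v * u := fun u hu v hv =>
      congrArg Subtype.val (hB'.is_comm.comm ⟨u, hu⟩ ⟨v, hv⟩)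
    have hder := commutator_mem_of_normal hsym hBc K hz hzK hz1
    have hw : ∀ x, x ∈ K := by
      have hAK : A ≤ K := fun a₁ ha₁ => by
        refine hKof _ (fun p hp => hPfix p hp a₁ ha₁) fun q hq' => ?_
        have hb₁ := hQfix q hq' (x₀ * a₁ * x₀⁻¹) (hx₀ ▸ conj_mem_conjBy ha₁)
        have h3 : (x₀ * a₁ * x₀⁻¹ * a₁⁻¹) • (a₁ • q) = a₁ • q :=
          hder x₀ a₁ _ (hWinv a₁ q (AddSubgroup.mem_sup_right hq'))
        rw [← mul_smul, inv_mul_cancel_right, hb₁] at h3
        exact h3.symm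
      have hBK : B ≤ K := fun b₁ hb₁ => by
        rw [hx₀] at hb₁
        simpa [mul_assoc] using hKn.conj_mem _ (hAK (mem_conjBy.mp hb₁)) x₀
      have : A ⊔ B ≤ K := sup_le hAK hBK
      rw [h.1] at this
      exact fun x => this (Subgroup.mem_top x)
    obtain ⟨x, y, n, hne⟩ := hX
    exact hne (hw y _ (hS x n))
  have hb1B : a * b⁻¹ * a * b * a⁻¹ ∈ B := by
    have h1 : b⁻¹ * a * b⁻¹⁻¹ ∈ conjBy B a⁻¹ := e ▸ conj_mem_conjBy ha
    rw [mem_conjBy] at h1
    simpa [mul_assoc] using h1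
  have hz := hKB _ (mul_mem hb1B hb) (hKof _ (fun p hp => ?_) fun q hq' => by
    rw [mul_smul, hQfix q hq' b hb, hQfix q hq' _ hb1B])
  · calc b⁻¹ * a * b = a⁻¹ * (a * b⁻¹ * a * b * a⁻¹ * b) * b⁻¹ * a := by group
      _ = a⁻¹ * b⁻¹ * a := by rw [hz, mul_one]
  set r := b⁻¹ • p - p with hr
  have hrQ : r ∈ P B := hgen B _ (inv_mem hb) p
  have hbp : b⁻¹ • p = p + r := by rw [hr]; abel
  have hbr : b • r = r := hQfix r hrQ b hb
  have hb'r : b⁻¹ • r = r := hQfix r hrQ _ (inv_mem hb)
  have hf : p + (a • r - r) ∈ P A ∧ p + (a • r - r) ∈ P B := by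
    refine ⟨add_mem hp (hgen A a ha r), ?_⟩
    have h1 := hPmap A b⁻¹ p hp
    rw [e] at h1
    have h2 := hPmap _ a _ h1
    rw [conjBy_conjBy, mul_inv_cancel, conjBy_one, hbp, smul_add, hPfix p hp a ha] at h2
    have h3 := sub_mem h2 hrQ
    rwa [add_sub_assoc] at h3
  set f := p + (a • r - r) with hfdef
  have har : a • r = r - p + f := by rw [hfdef]; abel
  have haf : a • f = f := hPfix f hf.1 a ha
  have hbf : b⁻¹ • f = f := hQfix f hf.2 _ (inv_mem hb)
  have hbp' : b • p = p - r := by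
    have h1 := congrArg (b • ·) hbp
    simp only [smul_inv_smul, smul_add, hbr] at h1
    exact eq_sub_of_add_eq h1.symm
  have hap : a • p = p := hPfix p hp a ha
  have ha'p : a⁻¹ • p = p := hPfix p hp _ (inv_mem ha)
  rw [mul_smul, hbp', smul_sub, hQfix r hrQ _ hb1B]
  simp only [mul_smul, ha'p, hbp', smul_sub, hap, har, smul_add, haf, hbp, hb'r, hbf]
  abel

end Cfsg.Agent.S5019
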