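import Cfsg.Statements.S5022
import Cfsg.Agent.Lib.RankOne.Special
import Cfsg.Agent.Lib.RankOne.SLTwoPrime

set_option autoImplicit false
open Cfsg

namespace Cfsg.Agent.S5022

open Cfsg.Agent.Lib.RankOne Matrix
open scoped MatrixGroups

theorem minimal_sl_two {X : Type*} [Group X] {A B : Subgroup X} (hs : Cfsg.IsSpecialRankOnePair A B)
    (hA : ∀ x ∈ A, ∀ y ∈ A, x * y = y * x) {p : ℕ} [Fact p.Prime] (hexp : ∀ a ∈ A, a ^ p = 1)
    {a v : X} (h : Braid A B a v) :
    Nonempty (↥(Subgroup.closure ({a, v} : Set X)) ≃* SL(2, ZMod p)) ∨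
    Nonempty (↥(Subgroup.closure ({a, v} : Set X)) ≃* Matrix.ProjectiveSpecialLinearGroup (Fin 2) (ZMod p)) := by
  classical
  have hp := hs.1
  have hpp : p.Prime := Fact.out
  set w := a * v * a with hw
  have hap := hexp a h.ha
  have hav : ∀ i j : ℕ, (i : ZMod p) = j → a ^ i = a ^ j := fun i j hij =>
    pow_eq_pow_iff_modEq.mpr (((ZMod.natCast_eq_natCast_iff _ _ _).mp hij).of_dvd (orderOf_dvd_of_pow_eq_one hap))
  let φ : ZMod p → X := fun t => a ^ t.val
  have hφA : ∀ t, φ t ∈ A := fun t => pow_mem h.ha _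
  have hφ1 : φ 1 = a := (hav _ 1 (by simp)).trans (pow_one a)
  have hφ0 : φ 0 = 1 := by simp [φ]
  have hφadd : ∀ s t, φ (s + t) = φ s * φ t := fun s t => by
    rw [← pow_add]; exact hav _ _ (by simp)
  let pt : (Fin 2 → ZMod p) → Subgroup X := fun x =>
    if x 1 = 0 then A else Cfsg.conjBy B (φ (x 0 / x 1))
  have himage : ∀ t : ZMod p, t ≠ 0 → Cfsg.conjBy (Cfsg.conjBy B (φ t)) w = Cfsg.conjBy B (φ (-t⁻¹)) := by
    intro t ht
    have hne : a ^ t.val ≠ 1 := by
      intro e
      have h1 := Nat.Prime.eq_one_or_self_of_dvd hpp _ (orderOf_dvd_of_pow_eq_one hap)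
      rcases h1 with h1 | h1
      · exact h.ha1 (orderOf_eq_one_iff.mp h1)
      · have h2 := orderOf_dvd_of_pow_eq_one e
        rw [h1] at h2
        exact ht ((ZMod.val_eq_zero t).mp (Nat.eq_zero_of_dvd_of_lt h2 (ZMod.val_lt t)))
    obtain ⟨z, hz, -, ez⟩ := h.exists_image hp (pow_mem h.ha _) hne
    have hz' := image_pow hs hA t.val a v h hne z hz ez
    rw [ez]
    congr 1
    have hzp := hexp z hz
    have h1 : (z ^ t.val) ^ (t⁻¹).val = z := by
      rw [← pow_mul]
      refine (pow_eq_pow_iff_modEq.mpr (((ZMod.natCast_eq_natCast_iff _ 1 p).mp ?_).of_dvd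
        (orderOf_dvd_of_pow_eq_one hzp))).trans (pow_one z)
      simp [mul_inv_cancel₀ ht]
    rw [← h1, hz', inv_pow]
    refine (eq_inv_of_mul_eq_one_left ?_).symm
    rw [show a ^ (t⁻¹).val = φ t⁻¹ from rfl, ← hφadd, neg_add_cancel, hφ0]
  -- the pairs compatible with the action on the points
  let S : Subgroup (X × SL(2, ZMod p)) :=
    { carrier := {e | ∀ x : Fin 2 → ZMod p, x ≠ 0 → Cfsg.conjBy (pt x) e.1 = pt ((e.2 : Matrix _ _ _) *ᵥ x)}
      one_mem' := fun x _ => by simp [conjBy_one]
      mul_mem' := fun {e f} he hf x hx => by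
        have hfx : (f.2 : Matrix (Fin 2) (Fin 2) (ZMod p)) *ᵥ x ≠ 0 := fun h0 => hx (by
          have := congrArg ((↑(f.2⁻¹) : Matrix (Fin 2) (Fin 2) (ZMod p)) *ᵥ ·) h0
          rwa [Matrix.mulVec_mulVec, ← Matrix.SpecialLinearGroup.coe_mul, inv_mul_cancel,
            Matrix.SpecialLinearGroup.coe_one, Matrix.one_mulVec, Matrix.mulVec_zero] at this)
        rw [Prod.fst_mul, ← conjBy_conjBy, hf x hx, he _ hfx, Matrix.mulVec_mulVec, Prod.snd_mul,
          Matrix.SpecialLinearGroup.coe_mul]
      inv_mem' := fun {e} he x hx => by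
        have hx' : (↑(e.2⁻¹) : Matrix (Fin 2) (Fin 2) (ZMod p)) *ᵥ x ≠ 0 := fun h0 => hx (by
          have := congrArg ((e.2 : Matrix (Fin 2) (Fin 2) (ZMod p)) *ᵥ ·) h0
          rwa [Matrix.mulVec_mulVec, ← Matrix.SpecialLinearGroup.coe_mul, mul_inv_cancel,
            Matrix.SpecialLinearGroup.coe_one, Matrix.one_mulVec, Matrix.mulVec_zero] at this)
        have h1 := he _ hx'
        rw [Matrix.mulVec_mulVec, ← Matrix.SpecialLinearGroup.coe_mul, mul_inv_cancel,
          Matrix.SpecialLinearGroup.coe_one, Matrix.one_mulVec] at h1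
        rw [Prod.fst_inv, Prod.snd_inv, ← h1, conjBy_conjBy, inv_mul_cancel, conjBy_one] }
  set U := slU p 1 with hU
  set V := slL p (-1) with hV
  have hW : ((U * V * U : SL(2, ZMod p)) : Matrix (Fin 2) (Fin 2) (ZMod p)) = !![0, 1; -1, 0] := by
    rw [Matrix.SpecialLinearGroup.coe_mul, Matrix.SpecialLinearGroup.coe_mul]
    simp [hU, hV, slU, slL, Matrix.mul_fin_two]
  have hSU : ((a, U) : X × SL(2, ZMod p)) ∈ S := by
    intro x _
    have hx : (U : Matrix (Fin 2) (Fin 2) (ZMod p)) *ᵥ x = ![x 0 + x 1, x 1] := by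
      funext i; fin_cases i <;> simp [hU, slU, Matrix.mulVec, dotProduct, Fin.sum_univ_two]
    show Cfsg.conjBy (pt x) a = pt _
    rw [hx]
    by_cases h1 : x 1 = 0
    · simp [pt, h1, conjBy_eq_self_of_mem h.ha]
    · simp only [pt, h1, Matrix.cons_val_one, Matrix.cons_val_zero, if_false]
      rw [add_div, div_self h1, conjBy_conjBy, add_comm, hφadd, hφ1]
  have hSW : ((w, U * V * U) : X × SL(2, ZMod p)) ∈ S := by
    intro x hx
    have hxm : ((U * V * U : SL(2, ZMod p)) : Matrix (Fin 2) (Fin 2) (ZMod p)) *ᵥ x = ![x 1, -x 0] := by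
      rw [hW]; funext i; fin_cases i <;> simp [Matrix.mulVec, dotProduct, Fin.sum_univ_two]
    show Cfsg.conjBy (pt x) w = pt _
    rw [hxm]
    by_cases h1 : x 1 = 0
    · have h0 : x 0 ≠ 0 := fun h0 => hx (by funext i; fin_cases i <;> simp [h0, h1])
      simp [pt, h1, h0, hφ0, conjBy_one]
      exact h.map_left
    · by_cases h0 : x 0 = 0
      · simp [pt, h1, h0, hφ0, conjBy_one]
        exact h.map_right hp
      · simp only [pt, h1, h0, Matrix.cons_val_one, Matrix.cons_val_zero, if_false, neg_eq_zero]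
        rw [himage _ (div_ne_zero h0 h1), inv_div, div_neg]
  have hUV : U * V * U * U * (U * V * U)⁻¹ = V := by
    rw [mul_inv_eq_iff_eq_mul]
    refine Subtype.ext ?_
    simp only [Matrix.SpecialLinearGroup.coe_mul]
    simp [hU, hV, slU, slL, Matrix.mul_fin_two]
  have hSV : ((v, V) : X × SL(2, ZMod p)) ∈ S := by
    have := mul_mem (mul_mem hSW hSU) (inv_mem hSW)
    rwa [Prod.mk_mul_mk, Prod.inv_mk, Prod.mk_mul_mk, hw, h.conj_a, hUV] at this
  -- the group of pairs
  let ea : X × SL(2, ZMod p) := (a, U)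
  let ev : X × SL(2, ZMod p) := (v, V)
  let E : Subgroup (X × SL(2, ZMod p)) := Subgroup.closure {ea, ev}
  have hES : E ≤ S := (Subgroup.closure_le S).mpr (by rintro x (rfl | rfl) <;> assumption)
  have hea : ea ∈ E := Subgroup.subset_closure (Or.inl rfl)
  have hev : ev ∈ E := Subgroup.subset_closure (Or.inr rfl)
  let σ : E →* SL(2, ZMod p) := (MonoidHom.snd X SL(2, ZMod p)).comp E.subtype
  have hσ : Function.Surjective σ := by
    rw [← MonoidHom.range_eq_top]
    exact sl_gen_eq_top p ⟨⟨ea, hea⟩, rfl⟩ ⟨⟨ev, hev⟩, rfl⟩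
  have hca : ∀ y : X, (y, (1 : SL(2, ZMod p))) ∈ S → y * a = a * y := by
    intro y hy
    have hpt : ∀ x, x ≠ 0 → Cfsg.conjBy (pt x) y = pt x := fun x hx => by
      simpa using hy x hx
    have h01 : Cfsg.conjBy A y = A := by simpa [pt] using hpt ![1, 0] (by simp)
    have h10 : Cfsg.conjBy B y = B := by simpa [pt, hφ0, conjBy_one] using hpt ![0, 1] (by simp)
    have h11 : Cfsg.conjBy (Cfsg.conjBy B a) y = Cfsg.conjBy B a := by
      simpa [pt, hφ1] using hpt ![1, 1] (by simp)
    have hmem : y * a * y⁻¹ ∈ A := by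
      have := conj_mem_conjBy (g := y) h.ha
      rwa [h01] at this
    have h2 := point_inj hp hmem h.ha (by
      conv_rhs => rw [← h11, conjBy_conjBy]
      conv_lhs => rw [← h10, conjBy_conjBy, inv_mul_cancel_right])
    exact eq_mul_of_mul_inv_eq h2
  have hcen : ∀ e : E, σ e = 1 → e ∈ Subgroup.center E := by
    intro e he
    have he2 : e.1.2 = 1 := he
    have heS : ((e.1.1, (1 : SL(2, ZMod p))) : X × SL(2, ZMod p)) ∈ S := by
      rw [← he2]; exact hES e.2
    have h1 := hca _ heS
    have h2 : e.1.1 * v = v * e.1.1 := by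
      have h3 := mul_mem (mul_mem (inv_mem hSW) heS) hSW
      rw [Prod.inv_mk, Prod.mk_mul_mk, Prod.mk_mul_mk, mul_one, inv_mul_cancel] at h3
      have h4 := hca _ h3
      rw [← h.conj_a, ← hw]
      calc e.1.1 * (w * a * w⁻¹) = w * ((w⁻¹ * e.1.1 * w) * a) * w⁻¹ := by group
        _ = w * a * w⁻¹ * e.1.1 := by rw [h4]; group
    have hle : E ≤ Subgroup.centralizer ({e.1} : Set (X × SL(2, ZMod p))) := by
      refine (Subgroup.closure_le _).mpr ?_
      rintro x (rfl | rfl) <;> refine Subgroup.mem_centralizer_singleton_iff.mpr (Prod.ext ?_ ?_)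
      · exact h1.symm
      · show _ * e.1.2 = e.1.2 * _
        rw [he2, mul_one, one_mul]
      · exact h2.symm
      · show _ * e.1.2 = e.1.2 * _
        rw [he2, mul_one, one_mul]
    refine Subgroup.mem_center_iff.mpr fun g => Subtype.ext ?_
    exact Subgroup.mem_centralizer_singleton_iff.mp (hle g.2)
  -- the abelianization
  let ga : E := ⟨ea, hea⟩
  let gv : E := ⟨ev, hev⟩
  have hbrE : ga * gv * ga = gv * ga * gv := Subtype.ext (Prod.ext h.braid (by
    show U * V * U = V * U * V
    refine Subtype.ext ?_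
    simp only [Matrix.SpecialLinearGroup.coe_mul]
    simp [hU, hV, slU, slL, Matrix.mul_fin_two]))
  let α : Abelianization E := Abelianization.of ga
  have hαv : Abelianization.of gv = α := by
    have h1 := congrArg Abelianization.of hbrE
    simp only [map_mul] at h1
    rw [show Abelianization.of gv * Abelianization.of ga = Abelianization.of ga * Abelianization.of gv from
      mul_comm _ _] at h1
    exact (mul_left_cancel h1).symm
  have hαp : α ^ p = 1 := by
    have h1 : ga ^ p = 1 := Subtype.ext (Prod.ext hap (by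
      show U ^ p = 1
      rw [hU, slU_pow, ZMod.natCast_self]
      exact Subtype.ext (by simp [slU, Matrix.one_fin_two])))
    rw [← map_pow, h1, map_one]
  have hgen : ∀ e : E, Abelianization.of e ∈ Subgroup.zpowers α := by
    rintro ⟨e, he⟩
    induction he using Subgroup.closure_induction with
    | mem x hx =>
      rcases hx with rfl | rfl
      · exact Subgroup.mem_zpowers _
      · exact (show Abelianization.of gv ∈ _ from hαv ▸ Subgroup.mem_zpowers _)
    | one =>
      show Abelianization.of (1 : E) ∈ _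
      rw [map_one]
      exact one_mem _
    | mul x y hx hy ihx ihy =>
      show Abelianization.of ((⟨x, hx⟩ : E) * ⟨y, hy⟩) ∈ _
      rw [map_mul]
      exact mul_mem ihx ihy
    | inv x hx ihx =>
      show Abelianization.of ((⟨x, hx⟩ : E)⁻¹) ∈ _
      rw [map_inv]
      exact inv_mem ihx
  have hker : σ.ker ≤ commutator E := by
    intro e he
    rw [← Abelianization.ker_of E, MonoidHom.mem_ker]
    obtain ⟨i, hi⟩ := Subgroup.mem_zpowers_iff.mp (hgen e)
    by_cases hperf : commutator SL(2, ZMod p) = ⊤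
    · -- the group of pairs is perfect
      have hp3 : 3 < p := by
        by_contra hle
        exact commutator_ne_top_of_le_three p (not_lt.mp hle) hperf
      suffices α = 1 by rw [← hi, this, _root_.one_zpow]
      set k : ZMod p := (2 : ZMod p)⁻¹ with hk
      have h2 : (2 : ZMod p) ≠ 0 := by
        intro e2
        have := (ZMod.natCast_eq_zero_iff 2 p).mp (by exact_mod_cast e2)
        have := Nat.le_of_dvd (by norm_num) this
        omega
      -- a second braid
      have hk0 : k ≠ 0 := inv_ne_zero h2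
      have hne : φ k ≠ 1 := by
        intro e
        have h3 := himage k hk0
        rw [e, conjBy_one, h.map_right hp] at h3
        exact point_ne hp (hφA _) h3.symm
      have hz1 : φ (-k⁻¹) ≠ 1 := by
        intro e
        have h3 := himage k hk0
        rw [e, conjBy_one] at h3
        exact point_ne hp (hφA _) (conjBy_inj (h3.trans h.map_left.symm))
      have hb2 := (h.image_braid hs (hφA k) hne (hφA _) hz1 (himage k hk0)).braid
      have hz2 : (φ (-k⁻¹))⁻¹ = a ^ 2 := by
        refine inv_eq_of_mul_eq_one_right ?_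
        rw [← hav (2 : ZMod p).val 2 (by simp), show a ^ (2 : ZMod p).val = φ 2 from rfl, ← hφadd, hk, inv_inv,
          neg_add_cancel, hφ0]
      have hvk : a * v * a * φ k * (a * v * a)⁻¹ = v ^ k.val := by
        rw [show φ k = a ^ k.val from rfl, ← conj_pow, h.conj_a]
      rw [hz2, hvk] at hb2
      have hkk : (k.val : ZMod p) = k := ZMod.natCast_rightInverse k
      have hb2E : ga ^ 2 * gv ^ k.val * ga ^ 2 = gv ^ k.val * ga ^ 2 * gv ^ k.val := by
        refine Subtype.ext (Prod.ext hb2 ?_)
        show U ^ 2 * V ^ k.val * U ^ 2 = V ^ k.val * U ^ 2 * V ^ k.val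
        rw [hU, hV, slU_pow, slL_pow, hkk]
        refine Subtype.ext ?_
        simp only [Matrix.SpecialLinearGroup.coe_mul]
        have h2k : (2 : ZMod p) * k = 1 := mul_inv_cancel₀ h2
        ext i j
        fin_cases i <;> fin_cases j <;> simp [slU, slL, Matrix.mul_fin_two] <;> grind
      have h4 : α ^ 2 = α ^ k.val := by
        have h1 := congrArg Abelianization.of hb2E
        simp only [map_mul, map_pow, hαv] at h1
        rw [show Abelianization.of ga = α from rfl, mul_comm (α ^ k.val) (α ^ 2)] at h1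
        exact mul_left_cancel h1
      have h5 : α ^ (2 * k.val) = α := by
        refine (pow_eq_pow_iff_modEq.mpr (((ZMod.natCast_eq_natCast_iff _ 1 p).mp ?_).of_dvd
          (orderOf_dvd_of_pow_eq_one hαp))).trans (pow_one α)
        push_cast
        rw [hkk, mul_inv_cancel₀ h2]
      have h6 : α ^ 3 = 1 := by
        have h7 : α ^ 4 = α := by
          calc α ^ 4 = (α ^ 2) ^ 2 := by rw [← pow_mul]
            _ = α := by rw [h4, ← pow_mul, mul_comm, h5]
        have h8 : α ^ 3 * α = 1 * α := by rw [← pow_succ, h7, one_mul]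
        exact mul_right_cancel h8
      have h9 : Nat.Coprime 3 p := (Nat.coprime_primes Nat.prime_three hpp).mpr (by omega)
      exact orderOf_eq_one_iff.mp (Nat.eq_one_of_dvd_coprimes h9 (orderOf_dvd_of_pow_eq_one h6)
        (orderOf_dvd_of_pow_eq_one hαp))
    · -- the image of `U` generates a nontrivial quotient
      let f : Abelianization E →* Abelianization SL(2, ZMod p) := Abelianization.map σ
      have hf : Function.Surjective f := by
        intro y
        obtain ⟨x, rfl⟩ := QuotientGroup.mk'_surjective _ y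
        obtain ⟨e', rfl⟩ := hσ x
        exact ⟨Abelianization.of e', rfl⟩
      have hfα : f α ≠ 1 := by
        intro e1
        refine hperf (eq_top_iff.mpr fun x _ => ?_)
        rw [← Abelianization.ker_of, MonoidHom.mem_ker]
        obtain ⟨e', rfl⟩ := hσ x
        obtain ⟨j, hj⟩ := Subgroup.mem_zpowers_iff.mp (hgen e')
        show f (Abelianization.of e') = 1
        rw [← hj, map_zpow, e1, _root_.one_zpow]
      have h1 : f α ^ i = 1 := by
        rw [← map_zpow, hi]
        show Abelianization.of (σ e) = 1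
        rw [MonoidHom.mem_ker.mp he, map_one]
      have hord : orderOf (f α) = p := orderOf_eq_prime (by rw [← map_pow, hαp, map_one]) hfα
      rw [← orderOf_dvd_iff_zpow_eq_one, hord] at h1
      obtain ⟨j, rfl⟩ := h1
      rw [← hi, _root_.zpow_mul, zpow_natCast, hαp, _root_.one_zpow]
  have hinj : Function.Injective σ := by
    obtain ⟨ψ, hψ⟩ := Cfsg.Lib.Schur.exists_mult_surjection (Cfsg.Lib.Schur.canon SL(2, ZMod p))
      (⟨hσ, fun e he => hcen e he, hker⟩ : Cfsg.IsStemExtension σ) Cfsg.Lib.Schur.canon_surjective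
    haveI : Subsingleton (Cfsg.Lib.Schur.M SL(2, ZMod p)) := mult_sl_two_prime p
    haveI : Subsingleton σ.ker := hψ.subsingleton
    rw [← MonoidHom.ker_eq_bot_iff, Subgroup.eq_bot_iff_forall]
    exact fun x hx => congrArg Subtype.val (Subsingleton.elim (⟨x, hx⟩ : σ.ker) 1)
  let eS : SL(2, ZMod p) ≃* E := (MulEquiv.ofBijective σ ⟨hinj, hσ⟩).symm
  let ψ : SL(2, ZMod p) →* X := ((MonoidHom.fst X SL(2, ZMod p)).comp E.subtype).comp eS.toMonoidHom
  have hrange : ψ.range = Subgroup.closure ({a, v} : Set X) := by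
    rw [MonoidHom.range_comp, MonoidHom.range_eq_top.mpr eS.surjective, ← MonoidHom.range_eq_map,
      MonoidHom.range_comp, E.range_subtype, MonoidHom.map_closure, Set.image_pair]
    rfl
  have hkc : ψ.ker ≤ Subgroup.center SL(2, ZMod p) := by
    intro g hg
    have h1 : (eS g).1.1 = 1 := hg
    have h2 : (eS g).1.2 = g := (MulEquiv.ofBijective σ ⟨hinj, hσ⟩).apply_symm_apply g
    have h3 := hES (eS g).2
    rw [Matrix.SpecialLinearGroup.mem_center_iff]
    have hfix : ∀ x : Fin 2 → ZMod p, x ≠ 0 → pt ((g : Matrix (Fin 2) (Fin 2) (ZMod p)) *ᵥ x) = pt x := by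
      intro x hx
      have := h3 x hx
      rw [h1, h2, conjBy_one] at this
      exact this.symm
    have hg10 : g 1 0 = 0 := by
      have := hfix ![1, 0] (by simp)
      by_contra hc
      simp [pt, Matrix.mulVec, dotProduct, Fin.sum_univ_two, hc] at this
      exact point_ne hp (hφA _) this
    have hg11 : g 1 1 ≠ 0 := fun e => by
      have hdet := g.2
      rw [Matrix.det_fin_two, hg10, e, mul_zero, mul_zero, sub_zero] at hdet
      exact zero_ne_one hdet
    have hinjφ : ∀ s t, φ s = φ t → s = t := by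
      intro s t e
      by_contra hst
      have h5 := himage (s - t) (sub_ne_zero.mpr hst)
      have h6 : φ (s - t) * φ t = φ t := by rw [← hφadd, sub_add_cancel, e]
      rw [mul_eq_right.mp h6, conjBy_one, h.map_right hp] at h5
      exact point_ne hp (hφA _) h5.symm
    have hg01 : g 0 1 = 0 := by
      have := hfix ![0, 1] (by simp)
      simp [pt, Matrix.mulVec, dotProduct, Fin.sum_univ_two, hg11] at this
      have h7 := hinjφ _ _ (point_inj hp (hφA _) (hφA _) this)
      simpa [hg11] using h7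
    have hg00 : g 0 0 = g 1 1 := by
      have := hfix ![1, 1] (by simp)
      simp [pt, Matrix.mulVec, dotProduct, Fin.sum_univ_two, hg11, hg10, hg01] at this
      have h7 := hinjφ _ _ (point_inj hp (hφA _) (hφA _) this)
      simpa [div_eq_one_iff_eq hg11] using h7
    refine ⟨g 1 1, ?_, ?_⟩
    · have hdet := g.2
      rw [Matrix.det_fin_two, hg10, hg00, mul_zero, sub_zero] at hdet
      simpa [pow_two] using hdet
    · ext i j
      fin_cases i <;> fin_cases j <;> simp [Matrix.scalar, hg10, hg01, hg00]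
  rw [← hrange]
  by_cases hbot : ψ.ker = ⊥
  · exact Or.inl ⟨(MonoidHom.ofInjective (ψ.ker_eq_bot_iff.mp hbot)).symm⟩
  · refine Or.inr ⟨(QuotientGroup.quotientKerEquivRange ψ).symm.trans (QuotientGroup.quotientMulEquivOfEq ?_)⟩
    refine hkc.antisymm fun g hg => ?_
    obtain ⟨x, hx, hx1⟩ := (Subgroup.bot_or_exists_ne_one ψ.ker).resolve_left hbot
    have hscal : ∀ y ∈ Subgroup.center SL(2, ZMod p), y = 1 ∨ y = -1 := by
      intro y hy
      obtain ⟨r, hr, he⟩ := Matrix.SpecialLinearGroup.mem_center_iff.mp hy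
      rcases sq_eq_one_iff.mp (show r ^ 2 = 1 from hr) with rfl | rfl
      · left; exact Subtype.ext (by rw [← he, Matrix.SpecialLinearGroup.coe_one, map_one])
      · right; exact Subtype.ext (by rw [← he, Matrix.SpecialLinearGroup.coe_neg,
          Matrix.SpecialLinearGroup.coe_one, map_neg, map_one])
    rcases hscal g hg with rfl | rfl
    · exact one_mem _
    · rcases hscal x (hkc hx) with rfl | rfl
      · exact absurd rfl hx1
      · exact hx

/-- Let X be a special rank one group with abelian unipotent subgroups A and B, where A is an elementary abelian p-group for the prime p. Then for every non-identity a in A and the non-identity b in B with b⁻¹ A b = a⁻¹ B a, the subgroup generated by a and b is isomorphic to SL₂(p) or to PSL₂(p). -/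
theorem result {X : Type*} [Group X] {A B : Subgroup X} (h : Cfsg.IsRankOneGroup X A B)
    (hs : Cfsg.IsSpecialRankOnePair A B) (hab : Cfsg.HasAbelianUnipotents A B)
    {p : ℕ} [Fact p.Prime] (hA : Cfsg.IsElementaryAbelian p A)
    {a b : X} (ha : a ∈ A) (ha1 : a ≠ 1) (hb : b ∈ B) (hb1 : b ≠ 1) (hab' : Cfsg.conjBy A b⁻¹ = Cfsg.conjBy B a⁻¹) :
    Nonempty (↥(Subgroup.closure ({a, b} : Set X)) ≃* Matrix.SpecialLinearGroup (Fin 2) (ZMod p)) ∨
    Nonempty (↥(Subgroup.closure ({a, b} : Set X)) ≃* Matrix.ProjectiveSpecialLinearGroup (Fin 2) (ZMod p)) := by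
  obtain ⟨hA', hexp⟩ := hA
  have hA : ∀ x ∈ A, ∀ y ∈ A, x * y = y * x := fun x hx y hy =>
    congrArg Subtype.val (hA'.is_comm.comm ⟨x, hx⟩ ⟨y, hy⟩)
  have hp := hs.1
  have hpp : p.Prime := Fact.out
  have hbr := braid_of_special hs ha ha1 hb hb1 hab'
  have hcl : Subgroup.closure ({a, b} : Set X) = Subgroup.closure {a, b⁻¹} := by
    refine le_antisymm ?_ ?_ <;> rw [Subgroup.closure_le] <;> rintro x (rfl | rfl)
    · exact Subgroup.subset_closure (Or.inl rfl)
    · simpa using inv_mem (Subgroup.subset_closure (Or.inr rfl) : x⁻¹ ∈ Subgroup.closure ({a, x⁻¹} : Set X))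
    · exact Subgroup.subset_closure (Or.inl rfl)
    · exact inv_mem (Subgroup.subset_closure (Or.inr rfl))
  rw [hcl]
  exact minimal_sl_two hs hA hexp hbr

end Cfsg.Agent.S5022
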