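import Cfsg.Statements.S5020
import Cfsg.Agent.Lib.RankOne.Structure
import Cfsg.Agent.S5022

set_option autoImplicit false
open Cfsg

namespace Cfsg.Agent.S5020

open Cfsg.Agent.Lib.RankOne

/-- Let X be a special rank one group with abelian unipotent subgroups A and B, and H = N(A) ∩ N(B) its diagonal subgroup. Then either A has at most three elements and X is isomorphic to SL₂(2), SL₂(3) or PSL₂(3); or X = X' A with the commutator subgroup X' quasisimple and the commutator subgroup ⁅A, H⁆ having more than three elements. -/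
theorem result {X : Type*} [Group X] {A B : Subgroup X} (h : Cfsg.IsRankOneGroup X A B)
    (hs : Cfsg.IsSpecialRankOnePair A B) (hab : Cfsg.HasAbelianUnipotents A B) :
    (ENat.card A ≤ 3 ∧ (Nonempty (X ≃* Matrix.SpecialLinearGroup (Fin 2) (ZMod 2)) ∨
        Nonempty (X ≃* Matrix.SpecialLinearGroup (Fin 2) (ZMod 3)) ∨
        Nonempty (X ≃* Matrix.ProjectiveSpecialLinearGroup (Fin 2) (ZMod 3)))) ∨
    (commutator X ⊔ A = ⊤ ∧ Cfsg.IsQuasisimple (commutator X) ∧
      3 < ENat.card ↥(⁅A, Cfsg.rankOneDiagonal A B⁆ : Subgroup X)) := by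
  obtain ⟨hA', hB'⟩ := hab
  have hA : ∀ x ∈ A, ∀ y ∈ A, x * y = y * x := fun x hx y hy =>
    congrArg Subtype.val (hA'.is_comm.comm ⟨x, hx⟩ ⟨y, hy⟩)
  by_cases hcard : ENat.card A ≤ 3
  · left
    refine ⟨hcard, ?_⟩
    haveI : Finite A := ENat.card_lt_top.mp (lt_of_le_of_lt hcard (by decide))
    have hle : Nat.card A ≤ 3 := by rw [ENat.card_eq_coe_natCard] at hcard; exact_mod_cast hcard
    have hne : Nat.card A ≠ 1 := fun e => left_ne_bot h.2 (Subgroup.card_eq_one.mp e)
    have hpos : 0 < Nat.card A := Nat.card_pos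
    obtain ⟨a, ha, ha1⟩ := (Subgroup.bot_or_exists_ne_one A).resolve_left (left_ne_bot h.2)
    obtain ⟨v, hv⟩ := exists_braid hs ha ha1
    have hexp : ∀ x ∈ A, x ^ Nat.card A = 1 := fun x hx =>
      congrArg Subtype.val (pow_card_eq_one' (G := A) (x := ⟨x, hx⟩))
    have hAz : A = Subgroup.zpowers a := by
      refine ((Subgroup.eq_of_le_of_card_ge (Subgroup.zpowers_le.mpr ha)) ?_).symm
      have hd : orderOf a ∣ Nat.card A := orderOf_dvd_of_pow_eq_one (hexp a ha)
      have h1 : orderOf a ≠ 1 := fun e => ha1 (orderOf_eq_one_iff.mp e)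
      rw [Nat.card_zpowers]
      rcases (show Nat.card A = 2 ∨ Nat.card A = 3 by omega) with e | e <;> rw [e] at hd ⊢
      · rcases Nat.prime_two.eq_one_or_self_of_dvd _ hd with h2 | h2 <;> omega
      · rcases Nat.prime_three.eq_one_or_self_of_dvd _ hd with h2 | h2 <;> omega
    have htop : Subgroup.closure ({a, v} : Set X) = ⊤ := by
      have ha' : a ∈ Subgroup.closure ({a, v} : Set X) := Subgroup.subset_closure (Or.inl rfl)
      have hv' : v ∈ Subgroup.closure ({a, v} : Set X) := Subgroup.subset_closure (Or.inr rfl)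
      rw [eq_top_iff, ← h.1, ← hv.map_left, sup_le_iff, hAz, Subgroup.zpowers_le]
      refine ⟨ha', ?_⟩
      unfold Cfsg.conjBy
      rw [MonoidHom.map_zpowers, Subgroup.zpowers_le]
      show a * v * a * a * (a * v * a)⁻¹ ∈ _
      rw [hv.conj_a]
      exact hv'
    have htr : ∀ {G : Type} [Group G], Nonempty (↥(Subgroup.closure ({a, v} : Set X)) ≃* G) → Nonempty (X ≃* G) :=
      fun ⟨e⟩ => ⟨(Subgroup.topEquiv.symm.trans (MulEquiv.subgroupCongr htop.symm)).trans e⟩
    rcases (show Nat.card A = 2 ∨ Nat.card A = 3 by omega) with e | e <;> rw [e] at hexp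
    · rcases Cfsg.Agent.S5022.minimal_sl_two hs hA hexp hv with e2 | e2
      · exact Or.inl (htr e2)
      · obtain ⟨e3⟩ := htr e2
        refine Or.inl ⟨e3.trans ((QuotientGroup.quotientMulEquivOfEq ?_).trans QuotientGroup.quotientBot)⟩
        rw [Subgroup.eq_bot_iff_forall]
        intro y hy
        obtain ⟨r, hr, he⟩ := Matrix.SpecialLinearGroup.mem_center_iff.mp hy
        have hr1 : r = 1 := by
          have hall : ∀ r : ZMod 2, r ^ 2 = 1 → r = 1 := by decide
          exact hall r hr
        exact Subtype.ext (by rw [← he, hr1, map_one, Matrix.SpecialLinearGroup.coe_one])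
    · rcases Cfsg.Agent.S5022.minimal_sl_two hs hA hexp hv with e2 | e2
      · exact Or.inr (Or.inl (htr e2))
      · exact Or.inr (Or.inr (htr e2))
  · right
    have hbig : 3 < (A : Set X).encard := not_le.mp hcard
    have hnc := commutator_not_central h hA
    refine ⟨normal_sup_top h _ hnc, ⟨?_, ?_⟩, commutator_diag_big h hs hA hbig⟩
    · rw [Group.isPerfect_def]
      apply Subgroup.map_injective (commutator X).subtype_injective
      rw [Subgroup.map_subtype_commutator, ← MonoidHom.range_eq_map, Subgroup.range_subtype]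
      exact derived_perfect h hs hA hbig
    · set Y := commutator X with hY
      have hZ : Subgroup.center ↥Y ≠ ⊤ := by
        intro e
        have h1 : ⁅Y, Y⁆ = ⊥ := commutator_eq_bot_iff.mpr fun x hx y hy =>
          congrArg Subtype.val (Subgroup.mem_center_iff.mp (e ▸ Subgroup.mem_top (⟨y, hy⟩ : Y)) ⟨x, hx⟩)
        rw [derived_perfect h hs hA hbig] at h1
        exact hnc (h1.le.trans bot_le)
      haveI : Nontrivial (↥Y ⧸ Subgroup.center ↥Y) := QuotientGroup.nontrivial_iff.mpr hZ
      refine ⟨fun N hN => ?_⟩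
      set π := QuotientGroup.mk' (Subgroup.center ↥Y)
      set M := (N.comap π).map Y.subtype with hM
      rcases normal_derived h hs hA hbig M (Subgroup.map_subtype_le _) (by
          rintro x hx _ ⟨m, hm, rfl⟩
          exact ⟨⟨x, hx⟩ * m * ⟨x, hx⟩⁻¹, (hN.comap π).conj_mem m hm ⟨x, hx⟩, rfl⟩) with hc | hc
      · left
        rw [← Subgroup.map_comap_eq_self_of_surjective (f := π) (QuotientGroup.mk'_surjective _) N,
          Subgroup.map_eq_bot_iff, QuotientGroup.ker_mk']
        intro m hm
        refine Subgroup.mem_center_iff.mpr fun g => Subtype.ext ?_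
        exact Subgroup.mem_center_iff.mp (hc ⟨m, hm, rfl⟩) g
      · right
        rw [← Subgroup.map_comap_eq_self_of_surjective (f := π) (QuotientGroup.mk'_surjective _) N,
          show N.comap π = ⊤ from ?_, Subgroup.map_top_of_surjective _ (QuotientGroup.mk'_surjective _)]
        rw [eq_top_iff]
        intro m _
        obtain ⟨m', hm', e⟩ := hc m.2
        rwa [← show m' = m from Subtype.ext e]

end Cfsg.Agent.S5020
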