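import Cfsg.Statements.S5021
import Cfsg.Agent.Lib.RankOne.Special

set_option autoImplicit false
open Cfsg

namespace Cfsg.Agent.S5021

open Cfsg.Agent.Lib.RankOne

/-- In a special rank one group with abelian unipotent subgroups A and B, either A is an elementary abelian p-group for some prime p, or A is torsion-free and divisible (every element of A has an n-th root in A for every positive n). -/
theorem result {X : Type*} [Group X] {A B : Subgroup X} (h : Cfsg.IsRankOneGroup X A B)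
    (hs : Cfsg.IsSpecialRankOnePair A B) (hab : Cfsg.HasAbelianUnipotents A B) :
    (∃ p : ℕ, p.Prime ∧ Cfsg.IsElementaryAbelian p A) ∨
    ((∀ a ∈ A, a ≠ 1 → ¬ IsOfFinOrder a) ∧ ∀ a ∈ A, ∀ n : ℕ, 0 < n → ∃ c ∈ A, c ^ n = a) := by
  obtain ⟨hA', -⟩ := hab
  have hA : ∀ x ∈ A, ∀ y ∈ A, x * y = y * x := fun x hx y hy =>
    congrArg Subtype.val (hA'.is_comm.comm ⟨x, hx⟩ ⟨y, hy⟩)
  have hp := hs.1
  have hroot : ∀ a ∈ A, ∀ n : ℕ, a ^ n ≠ 1 → ∃ c ∈ A, c ^ n = a := by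
    intro a ha n hn
    have ha1 : a ≠ 1 := fun e => hn (by rw [e, one_pow])
    obtain ⟨v, hv⟩ := exists_braid hs ha ha1
    obtain ⟨z, hz, -, ez⟩ := hv.exists_image hp (pow_mem ha n) hn
    exact ⟨z⁻¹, inv_mem hz, by rw [inv_pow, image_pow hs hA n a v hv hn z hz ez, inv_inv]⟩
  by_cases htf : ∀ a ∈ A, a ≠ 1 → ¬ IsOfFinOrder a
  · refine Or.inr ⟨htf, fun a ha n hn => ?_⟩
    by_cases ha1 : a = 1
    · exact ⟨1, one_mem _, by rw [one_pow, ha1]⟩
    exact hroot a ha n fun e => htf a ha ha1 (isOfFinOrder_iff_pow_eq_one.mpr ⟨n, hn, e⟩)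
  push Not at htf
  obtain ⟨a₁, ha₁, hne₁, hfin⟩ := htf
  obtain ⟨p, hpp, hpd⟩ := Nat.exists_prime_and_dvd (n := orderOf a₁) (by rwa [Ne, orderOf_eq_one_iff])
  refine Or.inl ⟨p, hpp, hA', fun c hc => ?_⟩
  by_contra hc1
  set e := a₁ ^ (orderOf a₁ / p) with hedef
  have he : e ∈ A := pow_mem ha₁ _
  have hep : e ^ p = 1 := by rw [hedef, ← pow_mul, Nat.div_mul_cancel hpd, pow_orderOf_eq_one]
  have he1 : e ≠ 1 := by
    intro h1
    have h2 := orderOf_dvd_of_pow_eq_one h1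
    have h3 : 0 < orderOf a₁ / p := Nat.div_pos (Nat.le_of_dvd hfin.orderOf_pos hpd) hpp.pos
    exact absurd (Nat.le_of_dvd h3 h2) (Nat.div_lt_self hfin.orderOf_pos hpp.one_lt).not_ge
  obtain ⟨y', hy', ey'⟩ := hroot c hc p hc1
  obtain ⟨y, hy, eyy⟩ := hroot (e * c) (mul_mem he hc) p (by
    rwa [(show Commute e c from hA e he c hc).mul_pow, hep, one_mul])
  set d := y * y'⁻¹ with hd
  have hdA : d ∈ A := mul_mem hy (inv_mem hy')
  have hde : d ^ p = e := by
    rw [hd, (show Commute y y'⁻¹ from hA y hy _ (inv_mem hy')).mul_pow, eyy, inv_pow, ey', mul_inv_cancel_right]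
  obtain ⟨u, hu⟩ := exists_braid hs he he1
  have hd1 : d ≠ 1 := fun h1 => he1 (by rw [← hde, h1, one_pow])
  obtain ⟨s, hs', hs1, es⟩ := hu.exists_image hp hdA hd1
  have := homog hs (image_pow hs hA p) hu hdA (by rwa [hde]) hs' es (z := e⁻¹) (inv_mem he)
    (by rw [hde]; exact hu.image_self hp)
  rw [inv_pow, hep, inv_one] at this
  exact hs1 this.symm

end Cfsg.Agent.S5021
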