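import Cfsg.Statements.S5023
import Cfsg.Agent.Lib.RankOne.Quadratic

set_option autoImplicit false
open Cfsg

namespace Cfsg.Agent.S5023

open Cfsg.Agent.Lib.RankOne

/-- Let X be a rank one group with unipotent subgroups A and B that acts faithfully on an abelian group V (written additively) with A acting quadratically: a' • (a • v − v) = a • v − v for all a, a' in A and v in V. Then A is either torsion-free or an elementary abelian p-group for some prime p. -/
theorem result {X : Type*} [Group X] {A B : Subgroup X} (h : Cfsg.IsRankOneGroup X A B)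
    {V : Type*} [AddCommGroup V] [DistribMulAction X V] (hf : ∀ x : X, (∀ v : V, x • v = v) → x = 1)
    (hq : ∀ a ∈ A, ∀ a' ∈ A, ∀ v : V, a' • (a • v - v) = a • v - v) :
    (∀ a ∈ A, a ≠ 1 → ¬ IsOfFinOrder a) ∨ ∃ p : ℕ, p.Prime ∧ Cfsg.IsElementaryAbelian p A := by
  have hA : ∀ a ∈ A, ∀ a' ∈ A, a * a' = a' * a := fun a ha a' ha' => quad_comm hf hq ha ha'
  by_cases htf : ∀ a ∈ A, a ≠ 1 → ¬ IsOfFinOrder a
  · exact Or.inl htf
  push_neg at htf
  obtain ⟨a₁, ha₁, hne₁, hfin⟩ := htf
  obtain ⟨p, hp, hpd⟩ := Nat.exists_prime_and_dvd (n := orderOf a₁) (by rwa [Ne, orderOf_eq_one_iff])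
  refine Or.inr ⟨p, hp, ⟨⟨fun u v => Subtype.ext (hA _ u.2 _ v.2)⟩⟩, fun a' ha' => ?_⟩
  by_contra hc1
  set a := a₁ ^ (orderOf a₁ / p) with hadef
  have ha : a ∈ A := pow_mem ha₁ _
  have hap : a ^ p = 1 := by rw [hadef, ← pow_mul, Nat.div_mul_cancel hpd, pow_orderOf_eq_one]
  have ha1 : a ≠ 1 := by
    intro e
    have h1 := orderOf_dvd_of_pow_eq_one e
    have h2 : 0 < orderOf a₁ / p := Nat.div_pos (Nat.le_of_dvd hfin.orderOf_pos hpd) hp.pos
    exact absurd (Nat.le_of_dvd h2 h1) (Nat.div_lt_self hfin.orderOf_pos hp.one_lt).not_ge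
  have hsn : ∀ (x : X) (v : V), x • (p • v) = p • (x • v) := fun x v =>
    map_nsmul (DistribMulAction.toAddMonoidHom V x) p v
  let K : Subgroup X :=
    { carrier := {x | ∀ v : V, x • (p • v) = p • v}
      one_mem' := fun v => one_smul _ _
      mul_mem' := fun {x y} hx hy v => by rw [mul_smul, hy, hx]
      inv_mem' := fun {x} hx v => by conv_lhs => rw [← hx v, inv_smul_smul] }
  haveI hKn : K.Normal := ⟨fun x hx g v => by
    rw [mul_smul, mul_smul, hsn g⁻¹ v, hx, ← hsn, smul_inv_smul]⟩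
  let M : Subgroup X :=
    { carrier := {x | ∀ v : V, p • v = 0 → x • v = v}
      one_mem' := fun v _ => one_smul _ _
      mul_mem' := fun {x y} hx hy v hv => by rw [mul_smul, hy v hv, hx v hv]
      inv_mem' := fun {x} hx v hv => by conv_lhs => rw [← hx v hv, inv_smul_smul] }
  haveI hMn : M.Normal := ⟨fun x hx g v hv => by
    rw [mul_smul, mul_smul, hx _ (by rw [← hsn, hv, smul_zero]), smul_inv_smul]⟩
  have haK : a ∈ K := fun v => by
    have h1 := quad_pow_smul hq ha p v
    rw [hap, one_smul, left_eq_add, nsmul_sub, sub_eq_zero] at h1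
    rw [hsn, h1]
  have hcM : a' ^ p ∈ M := fun v hv => by
    rw [quad_pow_smul hq ha' p v, nsmul_sub, ← hsn, hv, smul_zero, sub_zero, add_zero]
  refine not_commutator_square_zero h hf hq (K ⊓ M) ?_ fun x y =>
    ⟨commutator_mem_of_normal h hA K ha haK ha1 x y,
      commutator_mem_of_normal h hA M (pow_mem ha' p) hcM hc1 x y⟩
  intro m hm n hn v
  exact hm.2 _ (by rw [nsmul_sub, ← hsn, hn.1 v, sub_self])

end Cfsg.Agent.S5023
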