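import Cfsg.Statements.S5024
import Cfsg.Agent.Lib.RankOne.RootSets

set_option autoImplicit false
open Cfsg

namespace Cfsg.Agent.S5024

open Cfsg.Agent.Lib.RankOne

/-- Let S be a set of abstract root subgroups of G, A and C members of S, B a rank one partner of A in S and D a rank one partner of C in S. If the rank one group ⟨A, B⟩ is contained in ⟨C, D⟩ then the two coincide, and C and D are conjugates of A inside ⟨A, B⟩. -/
theorem result {G : Type*} [Group G] {S : Set (Subgroup G)} (hS : Cfsg.IsRootSubgroupSet S)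
    {A B C D : Subgroup G} (hA : A ∈ S) (hC : C ∈ S) (hB : B ∈ Cfsg.rankOnePartners S A) (hD : D ∈ Cfsg.rankOnePartners S C)
    (hle : A ⊔ B ≤ C ⊔ D) : A ⊔ B = C ⊔ D ∧ C ∈ Cfsg.unipotentSubgroups A B ∧ D ∈ Cfsg.unipotentSubgroups A B := by
  have hAU := mem_unip_of_le hS hA hC hD.2 (le_sup_left.trans hle) (le_sup_right.trans hle) hB.2
  have hBU := mem_unip_of_le hS hB.1 hC hD.2 (le_sup_right.trans hle) (le_sup_left.trans hle)
    (Cfsg.RankOnePair_symm hB.2)
  obtain ⟨x, hx, e1, e2⟩ := exists_map_pair hD.2 hAU hBU hB.2.ne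
  have heq : A ⊔ B = C ⊔ D := by
    rw [← e1, ← e2, ← conjBy_sup]
    exact conjBy_eq_self_of_mem hx
  refine ⟨heq, mem_unip_of_le hS hC hA hB.2 ?_ ?_ hD.2,
    mem_unip_of_le hS hD.1 hA hB.2 ?_ ?_ (Cfsg.RankOnePair_symm hD.2)⟩
  all_goals rw [heq]
  exacts [le_sup_left, le_sup_right, le_sup_right, le_sup_left]

end Cfsg.Agent.S5024
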