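import Cfsg.Statements.S5027
import Cfsg.Agent.Lib.RankOne.RootSets

set_option autoImplicit false
open Cfsg

namespace Cfsg.Agent.S5027

open Cfsg.Agent.Lib.RankOne

/-- Let S be a set of abstract root subgroups of G such that every member of S has a rank one partner in S (the graph of rank one pairs on S has no isolated vertex). Then the second centre of G equals its centre. -/
theorem result {G : Type*} [Group G] {S : Set (Subgroup G)} (hS : Cfsg.IsRootSubgroupSet S)
    (hF : ∀ A ∈ S, ¬ Cfsg.IsIsolatedIn (Cfsg.FAdj S) S A) : Subgroup.upperCentralSeries G 2 = Subgroup.center G := by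
  refine le_antisymm (fun z hz => ?_) ?_
  · refine Subgroup.mem_center_iff.mpr fun x => ?_
    have hle : (⨆ A ∈ S, A) ≤ Subgroup.centralizer ({z} : Set G) := by
      refine iSup₂_le fun A hA a ha => Subgroup.mem_centralizer_singleton_iff.mpr ?_
      obtain ⟨B, hB, hp⟩ := exists_partner hS (hF A hA) hA
      by_cases ha1 : a = 1
      · rw [ha1, mul_one, one_mul]
      have hc := Subgroup.mem_upperCentralSeries_succ_iff.mp hz a
      rw [Subgroup.upperCentralSeries_one] at hc
      by_cases hc1 : z * a * z⁻¹ * a⁻¹ = 1
      · calc a * z = 1 * (a * z) := (one_mul _).symm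
          _ = z * a * z⁻¹ * a⁻¹ * (a * z) := by rw [hc1]
          _ = z * a := by group
      refine absurd ?_ (translate hS hA hB hp (fun x _ => (Subgroup.mem_center_iff.mp hc x).symm) hc1 ha ha1
        (hS.conj_mem A hA z))
      have : z * a * z⁻¹ * a⁻¹ * a = z * a * z⁻¹ := by group
      rw [commutatorElement_def, this]
      exact conj_mem_conjBy ha
    exact Subgroup.mem_centralizer_singleton_iff.mp (hle (hS.generates ▸ Subgroup.mem_top x))
  · rw [← Subgroup.upperCentralSeries_one]
    exact Subgroup.upperCentralSeries_mono G (by norm_num)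

end Cfsg.Agent.S5027
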