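import Cfsg.Statements.S5035
import Cfsg.Agent.Lib.RankOne.RootSets

set_option autoImplicit false
open Cfsg

namespace Cfsg.Agent.S5035

open Cfsg.Agent.Lib.RankOne

/-- Let S be a set of abstract root subgroups of G whose graph of rank one pairs is connected, and f a homomorphism from G onto a group H. Then either the images of the members of S form a set of abstract root subgroups of H whose graph of rank one pairs is again connected, or H equals the image of a member of S. -/
theorem result {G H : Type*} [Group G] [Group H] {S : Set (Subgroup G)} (hS : Cfsg.IsRootSubgroupSet S)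
    (hc : Cfsg.IsConnectedFamily (Cfsg.FAdj S) S) (f : G →* H) (hf : Function.Surjective f) :
    (Cfsg.IsRootSubgroupSet ((fun A : Subgroup G => A.map f) '' S) ∧
      Cfsg.IsConnectedFamily (Cfsg.FAdj ((fun A : Subgroup G => A.map f) '' S)) ((fun A : Subgroup G => A.map f) '' S)) ∨
    ∃ A ∈ S, A.map f = ⊤ := by
  by_cases hbot : ∃ A ∈ S, A.map f = ⊥
  · right
    obtain ⟨A, hA, hAb⟩ := hbot
    have hstep : ∀ C D, Relation.ReflTransGen (FAdj S) C D → C.map f = ⊥ → D.map f = ⊥ := by
      intro C D hCD
      induction hCD with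
      | refl => exact id
      | tail _ hadj ih =>
        intro h0
        rename_i D E _
        have hD := ih h0
        obtain ⟨-, -, hp⟩ := hadj
        rw [Subgroup.map_eq_bot_iff] at hD ⊢
        intro e he
        by_cases he1 : e = 1
        · rw [he1]; exact one_mem _
        obtain ⟨d, -, -, eq⟩ := hp.cond_right e he he1
        have h1 : d⁻¹ * e * d⁻¹⁻¹ ∈ conjBy D e⁻¹ := eq ▸ conj_mem_conjBy he
        have h2 := hD (mem_conjBy.mp h1)
        rw [MonoidHom.mem_ker] at h2 ⊢
        simp only [map_mul, map_inv, inv_inv] at h2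
        have h3 : (f e * (f d)⁻¹) * f e * (f e * (f d)⁻¹)⁻¹ = 1 := by
          rw [← h2]; group
        exact (conj_eq_one_iff).mp h3
    refine ⟨A, hA, eq_top_iff.mpr ?_⟩
    rw [← MonoidHom.range_eq_top.mpr hf, MonoidHom.range_eq_map, ← hS.generates]
    simp only [Subgroup.map_iSup]
    exact iSup₂_le fun B hB => (hstep A B (hc A hA B hB) hAb).le.trans bot_le
  · left
    push Not at hbot
    have hcommS : ∀ A ∈ S, ∀ x ∈ A.map f, ∀ y ∈ A.map f, x * y = y * x := by
      rintro A hA _ ⟨x, hx, rfl⟩ _ ⟨y, hy, rfl⟩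
      rw [← map_mul, commute_of_mem hS hA hx hy, map_mul]
    have hmap : ∀ (A : Subgroup G) (g : G), (conjBy A g).map f = conjBy (A.map f) (f g) := by
      intro A g
      show (A.map _).map f = (A.map f).map _
      rw [Subgroup.map_map, Subgroup.map_map]
      congr 1
      ext x
      simp
    have hpair : ∀ A B : Subgroup G, IsRankOnePair A B → A.map f ≠ B.map f →
        IsRankOnePair (A.map f) (B.map f) := by
      intro A B hp hne
      have hcond : ∀ {A B : Subgroup G}, RankOneCondition A B → A.map f ≠ B.map f →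
          RankOneCondition (A.map f) (B.map f) := by
        intro A B hc hne a' ha' ha1
        obtain ⟨a, ha, rfl⟩ := ha'
        obtain ⟨b, hb, -, e⟩ := hc a ha (fun h => ha1 (by rw [h, map_one]))
        have e' := congrArg (Subgroup.map f) e
        rw [hmap, hmap, map_inv, map_inv] at e'
        refine ⟨f b, Subgroup.mem_map_of_mem f hb, fun h => hne ?_, e'⟩
        rw [h, inv_one, conjBy_one] at e'
        have h2 := congrArg (fun C => conjBy C (f a)) e'
        rwa [conjBy_conjBy, mul_inv_cancel, conjBy_one, conjBy_eq_self_of_mem (Subgroup.mem_map_of_mem f ha)] at h2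
      haveI := hp.nilpotent_left
      haveI := hp.nilpotent_right
      exact ⟨hne, Group.nilpotent_of_surjective _ (f.subgroupMap_surjective A),
        Group.nilpotent_of_surjective _ (f.subgroupMap_surjective B),
        hcond hp.cond_left hne, hcond hp.cond_right (Ne.symm hne)⟩
    refine ⟨⟨?_, ?_, ?_, ?_, ?_⟩, ?_⟩
    · rintro _ ⟨A, hA, rfl⟩
      exact ⟨⟨fun x y => Subtype.ext (hcommS A hA _ x.2 _ y.2)⟩⟩
    · rintro _ ⟨A, hA, rfl⟩
      exact hbot A hA
    · rw [iSup_image, ← MonoidHom.range_eq_top.mpr hf, MonoidHom.range_eq_map, ← hS.generates]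
      simp only [Subgroup.map_iSup]
    · rintro _ ⟨A, hA, rfl⟩ g
      obtain ⟨g, rfl⟩ := hf g
      exact ⟨conjBy A g, hS.conj_mem A hA g, hmap A g⟩
    · rintro _ ⟨A, hA, rfl⟩ _ ⟨B, hB, rfl⟩
      by_cases hcm : ⁅A.map f, B.map f⁆ = ⊥
      · exact Or.inl hcm
      rcases hS.pair A hA B hB with h | h | ⟨hC, hcen, hla, hlb⟩
      · exact absurd (by rw [← Subgroup.map_commutator, h, Subgroup.map_bot]) hcm
      · refine Or.inr (Or.inl (hpair A B h fun e => hcm ?_))
        rw [e]
        exact commutator_eq_bot_iff.mpr (hcommS B hB)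
      · refine Or.inr (Or.inr ⟨⟨_, hC, Subgroup.map_commutator _ _ f⟩, ?_, ?_, ?_⟩)
        · rw [← Subgroup.map_commutator, ← Subgroup.map_sup]
          rintro _ ⟨c, hc, rfl⟩ _ ⟨x, hx, rfl⟩
          rw [← map_mul, hcen c hc x hx, map_mul]
        · rintro _ ⟨a, ha, rfl⟩ h1
          rw [← Subgroup.map_commutator, ← hla a ha (fun h => h1 (by rw [h, map_one])), MonoidHom.map_closure]
          simp only [Subgroup.coe_map, Set.image_image, map_mul, map_inv]
        · rintro _ ⟨b, hb, rfl⟩ h1
          rw [← Subgroup.map_commutator, ← hlb b hb (fun h => h1 (by rw [h, map_one])), MonoidHom.map_closure]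
          simp only [Subgroup.coe_map, Set.image_image, map_mul, map_inv]
    · rintro _ ⟨A, hA, rfl⟩ _ ⟨B, hB, rfl⟩
      induction hc A hA B hB with
      | refl => exact Relation.ReflTransGen.refl
      | tail _ hadj ih =>
        rename_i C D _
        obtain ⟨hC, hD, hp⟩ := hadj
        by_cases e : C.map f = D.map f
        · simpa [e] using ih hC
        · exact (ih hC).tail ⟨⟨C, hC, rfl⟩, ⟨D, hD, rfl⟩, hpair C D hp e⟩

end Cfsg.Agent.S5035
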