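import Cfsg.Statements.S5039
import Cfsg.Agent.Lib.RankOne.SpecialPair
import Cfsg.Agent.Lib.RankOne.TwinMain
import Cfsg.Agent.Lib.RankOne.TwinPSL

set_option autoImplicit false
universe u
open Cfsg

namespace Cfsg.Agent.S5039

open Cfsg.Agent.Lib.RankOne

/-- Let S be a class of abstract root subgroups of G containing two different commuting members. Suppose that, in case S is degenerate and every element of every member of S has order at most 3, the following holds: for every A ∈ S and every rank one partner B of A there are subgroups A₀ ≤ A and B₀ ≤ B generating an image of SL₂(k) with central kernel, k a field with at least four elements, A₀ and B₀ being the images of the unitriangular subgroups. Then every rank one pair A, B in S is special. -/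
theorem result {G : Type u} [Group G] {S : Set (Subgroup G)} (hS : Cfsg.IsRootSubgroupClass S)
    (hcomm : ∃ A ∈ S, ∃ C ∈ S, A ≠ C ∧ ⁅A, C⁆ = ⊥)
    (hH : Cfsg.IsDegenerateRootSet S → (∀ A ∈ S, ∀ a ∈ A, 0 < orderOf a ∧ orderOf a ≤ 3) →
      ∀ A ∈ S, ∀ B ∈ Cfsg.rankOnePartners S A, ∃ A₀ B₀ : Subgroup G, A₀ ≤ A ∧ B₀ ≤ B ∧
        ∃ (k : Type u) (_ : Field k), 3 < ENat.card k ∧ Cfsg.IsPSL2PairOver k A₀ B₀)
    {A B : Subgroup G} (hA : A ∈ S) (hB : B ∈ Cfsg.rankOnePartners S A) : Cfsg.IsSpecialRankOnePair A B := by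
  by_cases hdeg : Cfsg.IsDegenerateRootSet S
  swap
  · have hcc : ∃ P ∈ S, ∃ Q ∈ S, Cfsg.RootCommutatorCase S P Q := by
      by_contra h
      exact hdeg fun P hP Q hQ hPQ => h ⟨P, hP, Q, hQ, hPQ⟩
    exact (pair_special hS ⟨hcomm, ⟨A, hA, B, hB.1, hB.2⟩, hcc⟩ hA hB.1 hB.2).2
  by_cases htw : Cfsg.commutingPartners S A = Cfsg.commutingPartners S B
  swap
  · exact Twin.special_of_not_twin hS.1 hdeg hA hB.1 hB.2 htw
  exfalso
  obtain ⟨D, hD, hp, hnt⟩ := Twin.exists_not_twin hS hdeg hcomm hA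
  have F : Twin.Frame S A D := ⟨hS.1, hdeg, hA, hD, hp, hnt⟩
  by_cases hsmall : ∀ A ∈ S, ∀ a ∈ A, 0 < orderOf a ∧ orderOf a ≤ 3
  · obtain ⟨A₀, B₀, hA₀, hB₀, k, _, hk, hpsl⟩ := hH hdeg hsmall A hA B hB
    exact F.not_psl hB.1 htw hA₀ hB₀ hk hpsl
  simp only [not_forall] at hsmall
  obtain ⟨P, hP, x, hx, hxo⟩ := hsmall
  have hx2 : ∀ n : ℕ, n = 2 ∨ n = 3 → x ^ n ≠ 1 := fun n hn e => hxo
    ⟨(isOfFinOrder_iff_pow_eq_one.mpr ⟨n, by omega, e⟩).orderOf_pos,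
      (Nat.le_of_dvd (by omega) (orderOf_dvd_of_pow_eq_one e)).trans (by omega)⟩
  have hbig : ∀ E ∈ S, ∃ e ∈ E, e ^ 2 ≠ 1 ∧ e ^ 3 ≠ 1 := by
    intro E hE
    obtain ⟨g, rfl⟩ := hS.2.2 P hP E hE
    refine ⟨g * x * g⁻¹, conj_mem_conjBy hx, ?_, ?_⟩
    · rw [conj_pow, Ne, conj_eq_one_iff]; exact hx2 2 (Or.inl rfl)
    · rw [conj_pow, Ne, conj_eq_one_iff]; exact hx2 3 (Or.inr rfl)
  obtain ⟨hroot, hA2⟩ := Twin.pow_facts (Twin.special_of_not_twin hS.1 hdeg hA hD hp hnt)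
    (fun x hx y hy => commute_of_mem hS.1 hA hx hy) (hbig A hA)
  refine F.no_twin (fun E hE => ?_) hroot hA2 hB.1 hB.2.ne.symm htw
  obtain ⟨e, he, h2, -⟩ := hbig E hE
  exact ⟨e, he, by rwa [← pow_two]⟩

end Cfsg.Agent.S5039
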