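import Cfsg.Statements.S5043
import Cfsg.Agent.Lib.Transv.Family
import Cfsg.Agent.Lib.Linear.SLPerfect

set_option autoImplicit false
open Matrix
open Cfsg

namespace Cfsg.Agent.S5043

open Cfsg.Agent.Lib.Transv Matrix

section
variable {k : Type*} [Field k] {n : ℕ}

/-- The action on column vectors. -/
def act : Matrix.SpecialLinearGroup (Fin (n + 3)) k →* ((Fin (n + 3) → k) ≃ₗ[k] (Fin (n + 3) → k)) :=
  Matrix.SpecialLinearGroup.toLin'

theorem act_apply (g : Matrix.SpecialLinearGroup (Fin (n + 3)) k) (v : Fin (n + 3) → k) :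
    act g v = (g : Matrix (Fin (n + 3)) (Fin (n + 3)) k) *ᵥ v := Matrix.toLin'_apply _ _

/-- All incident pairs. -/
def pairs : Set (Module.Dual k (Fin (n + 3) → k) × (Fin (n + 3) → k)) := {x | x.1 x.2 = 0 ∧ x.1 ≠ 0 ∧ x.2 ≠ 0}

theorem trG_le_range {φ : Module.Dual k (Fin (n + 3) → k)} {v : Fin (n + 3) → k} (h : φ v = 0) :
    trG h ≤ (act (k := k) (n := n)).range := by
  intro g hg
  obtain ⟨c, rfl⟩ := exists_tre hg
  set a : Fin (n + 3) → k := fun i => c * φ (Pi.single i 1) with ha
  have hdot : ∀ x, a ⬝ᵥ x = c * φ x := by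
    intro x
    conv_rhs => rw [pi_eq_sum_univ' x]
    simp only [map_sum, map_smul, smul_eq_mul, Finset.mul_sum, dotProduct, ha]
    exact Finset.sum_congr rfl fun i _ => by ring
  refine ⟨⟨1 + Matrix.vecMulVec v a, ?_⟩, LinearEquiv.ext fun x => ?_⟩
  · rw [Matrix.vecMulVec_eq Unit, Matrix.det_one_add_replicateCol_mul_replicateRow, hdot, h, mul_zero, add_zero]
  · refine (act_apply _ x).trans ?_
    rw [tre_apply]
    show (1 + Matrix.vecMulVec v a) *ᵥ x = _
    rw [Matrix.add_mulVec, Matrix.one_mulVec, Matrix.vecMulVec_mulVec, hdot, op_smul_eq_smul]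

theorem incidences : Incidences (act (k := k) (n := n)) pairs where
  inj := Matrix.SpecialLinearGroup.toLin'_injective
  incident := fun x hx => hx.1
  left_ne := fun x hx => hx.2.1
  right_ne := fun x hx => hx.2.2
  le_range := fun x _ h => trG_le_range h
  conj := fun x hx g => ⟨by
      show x.1 ((act g).symm (act g x.2)) = 0
      rw [LinearEquiv.symm_apply_apply, hx.1],
    fun e => hx.2.1 (LinearMap.ext fun u => by
      have := LinearMap.congr_fun e (act g u)
      rwa [LinearMap.comp_apply, LinearEquiv.coe_coe, LinearEquiv.symm_apply_apply] at this),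
    fun e => hx.2.2 ((act g).injective (e.trans (map_zero _).symm))⟩
  comm := fun x hx y hy _ h => ⟨h, hy.2.1, hx.2.2⟩
  comm' := fun x hx y hy h _ => ⟨h, hx.2.1, hy.2.2⟩

theorem connected : Cfsg.IsConnectedFamily (Cfsg.FAdj (rootSetOf (act (k := k) (n := n)) pairs))
    (rootSetOf act pairs) := by
  refine incidences.connected fun x hx y hy => ?_
  obtain ⟨u, hxu, hyu⟩ := exists_both_ne hx.2.1 hy.2.1
  have hnot : ∀ z : Module.Dual k (Fin (n + 3) → k) × (Fin (n + 3) → k), z ∈ pairs → z.1 u ≠ 0 →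
      z.2 ∉ Submodule.span k {u} := by
    intro z hz hzu hm
    obtain ⟨a, ha⟩ := Submodule.mem_span_singleton.mp hm
    have h0 := hz.1
    rw [← ha, map_smul, smul_eq_mul, mul_eq_zero] at h0
    exact hz.2.2 (by rw [← ha, h0.resolve_right hzu, zero_smul])
  set W := Submodule.span k {u}
  have hev : ∀ v, v ∉ W → Module.Dual.eval k ((Fin (n + 3) → k) ⧸ W) (W.mkQ v) ≠ 0 := fun v hv e => hv (by
    rw [Module.eval_apply_eq_zero_iff] at e
    exact (Submodule.Quotient.mk_eq_zero W).mp e)
  obtain ⟨f, f1, f2⟩ := exists_both_ne (hev _ (hnot x hx hxu)) (hev _ (hnot y hy hyu))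
  refine ⟨(f ∘ₗ W.mkQ, u), ⟨?_, fun e => f1 ?_, fun e => hxu ?_⟩, hxu, f1, hyu, f2⟩
  · show f (W.mkQ u) = 0
    rw [show W.mkQ u = 0 from (Submodule.Quotient.mk_eq_zero W).mpr (Submodule.mem_span_singleton_self u), map_zero]
  · exact LinearMap.congr_fun e x.2
  · rw [show u = 0 from e, map_zero]

/-- A coordinate incidence. -/
theorem coord_mem {i j : Fin (n + 3)} (h : i ≠ j) :
    ((LinearMap.proj j : Module.Dual k (Fin (n + 3) → k)), (Pi.single i 1 : Fin (n + 3) → k)) ∈ pairs :=
  ⟨by simp [h.symm], fun e => by simpa using LinearMap.congr_fun e (Pi.single j 1),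
    fun e => by simpa using congrFun e i⟩

theorem closure_eq {i j : Fin (n + 3)} (h : i ≠ j) :
    Subgroup.closure {t : Matrix.SpecialLinearGroup (Fin (n + 3)) k |
      ∃ c : k, (t : Matrix (Fin (n + 3)) (Fin (n + 3)) k) = Matrix.transvection i j c} =
      rootG act (incidences.incident _ (coord_mem h)) := by
  have key : ∀ (c : k) (x : Fin (n + 3) → k),
      Matrix.transvection i j c *ᵥ x = x + (c * x j) • Pi.single i 1 := by
    intro c x
    rw [Matrix.transvection, Matrix.add_mulVec, Matrix.one_mulVec, Matrix.single_mulVec]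
    congr 1
    ext l
    rcases eq_or_ne l i with rfl | hl
    · simp
    · simp [hl]
  refine le_antisymm ((Subgroup.closure_le _).mpr ?_) fun t ht => ?_
  · rintro t ⟨c, hc⟩
    exact ⟨c, fun x => by rw [act_apply, hc, key]; rfl⟩
  · obtain ⟨c, hc⟩ := Subgroup.mem_comap.mp ht
    refine Subgroup.subset_closure ⟨c, Matrix.toLin'.injective (LinearMap.ext fun x => ?_)⟩
    rw [Matrix.toLin'_apply, Matrix.toLin'_apply, key, ← act_apply, hc x]
    rfl

theorem generates : (⨆ A ∈ rootSetOf (act (k := k) (n := n)) pairs, A) = ⊤ := by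
  refine top_le_iff.mp ((le_of_eq Cfsg.Lib.Linear.closure_transvection_eq_top.symm).trans ?_)
  rw [Subgroup.closure_le]
  rintro _ ⟨i, j, hij, c, rfl⟩
  refine Subgroup.mem_iSup_of_mem _ (Subgroup.mem_iSup_of_mem (incidences.mem (coord_mem hij)) ?_)
  rw [← closure_eq hij]
  exact Subgroup.subset_closure ⟨c, rfl⟩

theorem set_eq : {A : Subgroup (Matrix.SpecialLinearGroup (Fin (n + 3)) k) |
    ∃ g : Matrix.SpecialLinearGroup (Fin (n + 3)) k,
      A = Cfsg.conjBy (Subgroup.closure {t : Matrix.SpecialLinearGroup (Fin (n + 3)) k |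
        ∃ c : k, (t : Matrix (Fin (n + 3)) (Fin (n + 3)) k) = Matrix.transvection 0 1 c}) g} =
      rootSetOf act pairs := by
  have h01 : (0 : Fin (n + 3)) ≠ 1 := by simp [Fin.ext_iff]
  rw [closure_eq h01]
  ext A
  constructor
  · rintro ⟨g, rfl⟩
    exact ⟨_, incidences.conj _ (coord_mem h01) g, _, rootG_conj g⟩
  · intro hA
    obtain ⟨g, e⟩ := conj_of_connected connected (incidences.mem (coord_mem h01)) hA
    exact ⟨g, e⟩

theorem nondegenerate : Cfsg.IsNondegenerateRootSet (rootSetOf (act (k := k) (n := n)) pairs) := by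
  have h01 : (0 : Fin (n + 3)) ≠ 1 := by simp [Fin.ext_iff]
  have h02 : (0 : Fin (n + 3)) ≠ 2 := by simp [Fin.ext_iff, Nat.mod_eq_of_lt]
  have h12 : (1 : Fin (n + 3)) ≠ 2 := by simp [Fin.ext_iff, Nat.mod_eq_of_lt]
  have m01 := coord_mem (k := k) h01
  have m10 := coord_mem (k := k) h01.symm
  have m02 := coord_mem (k := k) h02
  have m12 := coord_mem (k := k) h12
  refine ⟨⟨_, incidences.mem m01, _, incidences.mem m02, ?_, ?_⟩, ⟨_, incidences.mem m01, _, incidences.mem m10, ?_⟩,
    ⟨_, incidences.mem m01, _, incidences.mem m12, ?_⟩⟩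
  · intro e
    obtain ⟨g, hg⟩ := trG_le_range (incidences.incident _ m01) (tre_mem (incidences.incident _ m01) (1 : k))
    have h1 : g ∈ rootG act (incidences.incident _ m02) := e ▸ (show g ∈ rootG act (incidences.incident _ m01) by
      rw [Subgroup.mem_comap, hg]; exact tre_mem _ _)
    obtain ⟨c, hc⟩ := exists_tre (Subgroup.mem_comap.mp h1)
    rw [hg] at hc
    have h2 := LinearEquiv.congr_fun hc (Pi.single 1 1)
    simp [tre_apply, h12] at h2
  · exact rootG_comm incidences.inj (by simp [h01.symm]) (by simp [h02.symm])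
  · exact (rootG_pair incidences.inj (trG_le_range _) (trG_le_range _) (by simp) (by simp)).1
  · rcases incidences.cases m01 m12 with h | h | h
    · exact absurd h.2.1 (by simp)
    · exact absurd h.2.2.2 (by simp [h02.symm])
    · exact h.1

end

/-- Let k be a field and n a natural number. In SL_{n+3}(k) (so in every dimension at least 3) the conjugates of the root subgroup of elementary transvections 1 + c E₁₂ (c ∈ k) — that is, the groups of transvections attached to an incident point–hyperplane pair — form a non-degenerate class of abstract k-root subgroups of SL_{n+3}(k) whose graph of rank one pairs is connected. -/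
theorem result (k : Type*) [Field k] (n : ℕ) :
    Cfsg.IsRootSubgroupClass {A : Subgroup (Matrix.SpecialLinearGroup (Fin (n + 3)) k) |
        ∃ g : Matrix.SpecialLinearGroup (Fin (n + 3)) k,
          A = Cfsg.conjBy (Subgroup.closure {t : Matrix.SpecialLinearGroup (Fin (n + 3)) k |
            ∃ c : k, (t : Matrix (Fin (n + 3)) (Fin (n + 3)) k) = Matrix.transvection 0 1 c}) g} ∧
    Cfsg.IsNondegenerateRootSet {A : Subgroup (Matrix.SpecialLinearGroup (Fin (n + 3)) k) |
        ∃ g : Matrix.SpecialLinearGroup (Fin (n + 3)) k,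
          A = Cfsg.conjBy (Subgroup.closure {t : Matrix.SpecialLinearGroup (Fin (n + 3)) k |
            ∃ c : k, (t : Matrix (Fin (n + 3)) (Fin (n + 3)) k) = Matrix.transvection 0 1 c}) g} ∧
    Cfsg.IsKRootSubgroupSet k {A : Subgroup (Matrix.SpecialLinearGroup (Fin (n + 3)) k) |
        ∃ g : Matrix.SpecialLinearGroup (Fin (n + 3)) k,
          A = Cfsg.conjBy (Subgroup.closure {t : Matrix.SpecialLinearGroup (Fin (n + 3)) k |
            ∃ c : k, (t : Matrix (Fin (n + 3)) (Fin (n + 3)) k) = Matrix.transvection 0 1 c}) g} ∧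
    Cfsg.IsConnectedFamily (Cfsg.FAdj {A : Subgroup (Matrix.SpecialLinearGroup (Fin (n + 3)) k) |
        ∃ g : Matrix.SpecialLinearGroup (Fin (n + 3)) k,
          A = Cfsg.conjBy (Subgroup.closure {t : Matrix.SpecialLinearGroup (Fin (n + 3)) k |
            ∃ c : k, (t : Matrix (Fin (n + 3)) (Fin (n + 3)) k) = Matrix.transvection 0 1 c}) g})
      {A : Subgroup (Matrix.SpecialLinearGroup (Fin (n + 3)) k) |
        ∃ g : Matrix.SpecialLinearGroup (Fin (n + 3)) k,
          A = Cfsg.conjBy (Subgroup.closure {t : Matrix.SpecialLinearGroup (Fin (n + 3)) k |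
            ∃ c : k, (t : Matrix (Fin (n + 3)) (Fin (n + 3)) k) = Matrix.transvection 0 1 c}) g} := by
  rw [set_eq]
  exact ⟨incidences.rootClass generates connected ⟨_, coord_mem (show (0 : Fin (n + 3)) ≠ 1 by simp [Fin.ext_iff])⟩,
    nondegenerate, incidences.kRootSet generates, connected⟩

end Cfsg.Agent.S5043
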