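import Cfsg.Statements.S5049
import Cfsg.Agent.Lib.Core.Cores


set_option autoImplicit false
open Cfsg

namespace Cfsg.Agent.S5049

/-- Let G be a finite group generated by a set D of odd transpositions (root involutions with no product of order 4), Q = O₂(G), and for a ∈ D let Q_a be the commutator subgroup of Q with a. Then every member of D commuting with a centralizes Q_a; and for b ∈ D with ab of odd order greater than 1, the centralizer of ab in Q is the intersection of the centralizers of a and b in Q. -/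
theorem result {G : Type*} [Group G] [Finite G] {D : Set G} (hD : Cfsg.IsOddTranspositionSet D) {a : G} (ha : a ∈ D) :
    (∀ e ∈ Cfsg.commutingMembers D a, ∀ q ∈ ⁅Cfsg.pCore 2 G, Subgroup.zpowers a⁆, e * q = q * e) ∧
    (∀ b ∈ Cfsg.oddPartners D a,
      Cfsg.pCore 2 G ⊓ Subgroup.centralizer {a * b} = Cfsg.pCore 2 G ⊓ Subgroup.centralizer {a} ⊓ Subgroup.centralizer {b}) := by
  obtain ⟨hR, h4⟩ := hD
  have hinv : ∀ d ∈ D, d * d = 1 := fun d hd => by
    rw [← pow_two, ← hR.orderOf_eq d hd, pow_orderOf_eq_one]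
  have hcomm2 : ∀ d ∈ D, ∀ d' ∈ D, (∃ k : ℕ, (d * d') ^ 2 ^ k = 1) → d * d' = d' * d := by
    rintro d hd d' hd' ⟨k, hk⟩
    rcases hR.pair d hd d' hd' with h | h | h
    · exact h
    · obtain ⟨j, -, hj⟩ := (Nat.dvd_prime_pow Nat.prime_two).mp (orderOf_dvd_of_pow_eq_one hk)
      have h1 : d * d' = 1 := by
        rw [← orderOf_eq_one_iff, hj]
        rcases j with _ | j
        · rfl
        · rw [hj] at h
          exact absurd h (by simp [Nat.odd_iff, pow_succ])
      have h2 : d' = d := by
        calc d' = d⁻¹ * (d * d') := by group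
          _ = d := by rw [h1, mul_one, inv_eq_of_mul_eq_one_right (hinv d hd)]
      rw [h2]
    · exact absurd h.1 (h4 d hd d' hd')
  haveI : Fact (Nat.Prime 2) := ⟨Nat.prime_two⟩
  obtain ⟨Q, hQdef⟩ : ∃ Q, Q = Cfsg.pCore 2 G := ⟨_, rfl⟩
  rw [← hQdef]
  have hQn : Q.Normal := hQdef ▸ Cfsg.pCore_normal 2 G
  have hQp : IsPGroup 2 Q := hQdef ▸ Cfsg.Lib.Core.pCore_isPGroup 2 G
  have key : ∀ e ∈ D, e * a = a * e → ∀ q ∈ Q, e * (q * a * q⁻¹) = q * a * q⁻¹ * e := by
    intro e he hea q hq
    refine hcomm2 e he _ (hR.conj_mem a ha q) ?_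
    have h1 : (e * (q * a * q⁻¹)) ^ 2 ∈ Q := by
      have hmem : a * q * a * q⁻¹ ∈ Q := by
        have := hQn.conj_mem q hq a
        rw [inv_eq_of_mul_eq_one_right (hinv a ha)] at this
        exact mul_mem this (inv_mem hq)
      obtain ⟨x, hx, hxe⟩ : ∃ x ∈ Q, e * (q * a * q⁻¹) = e * a * x := by
        refine ⟨_, hmem, ?_⟩
        simp only [← mul_assoc]
        rw [mul_assoc e a a, hinv a ha, mul_one]
      have hea2 : e * a * (e * a) = 1 := by
        calc e * a * (e * a) = e * a * (a * e) := by rw [hea]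
          _ = e * (a * a) * e := by group
          _ = 1 := by rw [hinv a ha, mul_one, hinv e he]
      rw [hxe, pow_two]
      have h3 : e * a * x * (e * a * x) = (e * a * x * (e * a)⁻¹) * ((e * a) * (e * a)) * x := by group
      rw [h3, hea2, mul_one]
      exact mul_mem (hQn.conj_mem x hx _) hx
    obtain ⟨k, hk⟩ := hQp ⟨_, h1⟩
    refine ⟨k + 1, ?_⟩
    rw [pow_succ', pow_mul]
    exact congrArg Subtype.val hk
  refine ⟨fun e he x hx => ?_, fun b hb => ?_⟩
  · have hle : ⁅Q, Subgroup.zpowers a⁆ ≤ Subgroup.centralizer ({e} : Set G) := by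
      refine Subgroup.commutator_le.mpr fun q hq z hz => Subgroup.mem_centralizer_singleton_iff.mpr ?_
      have hqa : ∀ q ∈ Q, Commute e (q * a * q⁻¹) := fun q hq => key e he.1 he.2 q hq
      obtain ⟨i, rfl⟩ := Subgroup.mem_zpowers_iff.mp hz
      have h1 : q * a ^ i * q⁻¹ * (a ^ i)⁻¹ = (q * a * q⁻¹) ^ i * (a ^ i)⁻¹ := by rw [conj_zpow]
      rw [commutatorElement_def, h1]
      exact (((hqa q hq).zpow_right i).mul_right (((show Commute e a from he.2).zpow_right i).inv_right)).symm
    exact (Subgroup.mem_centralizer_singleton_iff.mp (hle hx)).symm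
  · obtain ⟨hbD, hba, hodd⟩ := hb
    ext q
    simp only [Subgroup.mem_inf, Subgroup.mem_centralizer_singleton_iff]
    constructor
    swap
    · rintro ⟨⟨hq, h1⟩, h2⟩
      exact ⟨hq, by rw [← mul_assoc, h1, mul_assoc, h2, mul_assoc]⟩
    rintro ⟨hq, ht⟩
    obtain ⟨t, htdef⟩ : ∃ t, t = a * b := ⟨_, rfl⟩
    rw [← htdef] at ht hodd
    have hai : a⁻¹ = a := inv_eq_of_mul_eq_one_right (hinv a ha)
    have hb' : b = a * t := by rw [htdef, ← mul_assoc, hinv a ha, one_mul]
    have hata : a * t * a = t⁻¹ := by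
      rw [htdef, mul_inv_rev, hai, inv_eq_of_mul_eq_one_right (hinv b hbD), ← mul_assoc, hinv a ha, one_mul]
    obtain ⟨c, hc⟩ : ∃ c, c = q * a * q⁻¹ * a := ⟨_, rfl⟩
    have hca : Commute a c := hc ▸ (Commute.mul_right (key a ha rfl q hq) (Commute.refl a))
    have hct : Commute t c := by
      have h1 : Commute t (a * q⁻¹ * a) := by
        have h2 : Commute t⁻¹ q⁻¹ := ((show Commute q t from ht).symm.inv_left).inv_right
        have := h2.map (MulAut.conj a).toMonoidHom
        simp only [MulEquiv.coe_toMonoidHom, MulAut.conj_apply, hai] at this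
        rwa [show a * t⁻¹ * a = t by rw [← hata]; simp only [← mul_assoc, hinv a ha, one_mul]; rw [mul_assoc, hinv a ha, mul_one]] at this
      have h3 := (show Commute q t from ht).symm.mul_right h1
      rwa [show q * (a * q⁻¹ * a) = c by rw [hc]; group] at h3
    have hc2 : c * c = 1 := by
      have h1 := key a ha rfl q hq
      calc c * c = q * a * q⁻¹ * (a * (q * a * q⁻¹)) * a := by rw [hc]; group
        _ = q * (a * a) * q⁻¹ * (a * a) := by rw [h1]; group
        _ = 1 := by rw [hinv a ha]; group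
    have hprod : a * (q * b * q⁻¹) = c * t := by
      have h1 : q * b * q⁻¹ = c * b := by
        have h2 : t * q⁻¹ = q⁻¹ * t := (show Commute q t from ht).symm.inv_right
        rw [hc, hb']
        calc q * (a * t) * q⁻¹ = q * a * (t * q⁻¹) := by group
          _ = q * a * q⁻¹ * t := by rw [h2]; group
          _ = q * a * q⁻¹ * (a * a) * t := by rw [hinv a ha, mul_one]
          _ = q * a * q⁻¹ * a * (a * t) := by group
      rw [h1, ← mul_assoc, hca.eq, mul_assoc, htdef]
    have hm : t ^ orderOf t = 1 := pow_orderOf_eq_one t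
    have hc1 : c = 1 := by
      rcases hR.pair a ha _ (hR.conj_mem b hbD q) with h | h | h
      · exfalso
        have h1 : (a * (q * b * q⁻¹)) ^ 2 = 1 := by
          rw [pow_two]
          nth_rewrite 2 [h]
          rw [mul_assoc, ← mul_assoc _ (q * b * q⁻¹) a, hinv _ (hR.conj_mem b hbD q), one_mul, hinv a ha]
        rw [hprod, hct.symm.mul_pow, pow_two, hc2, one_mul] at h1
        have h2 : orderOf t = 1 := Nat.eq_one_of_dvd_coprimes (Nat.coprime_two_left.mpr hodd).symm dvd_rfl
          (orderOf_dvd_of_pow_eq_one h1)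
        rw [orderOf_eq_one_iff, htdef] at h2
        exact hba (by rw [← inv_eq_of_mul_eq_one_right h2, hai])
      · have h1 := pow_orderOf_eq_one (a * (q * b * q⁻¹))
        obtain ⟨m, hm'⟩ := h
        rw [hm', hprod, hct.symm.mul_pow, pow_succ, pow_mul, pow_two, hc2, one_pow, one_mul] at h1
        have h2 : c = (t ^ (2 * m + 1))⁻¹ := eq_inv_of_mul_eq_one_left h1
        have hcn : c ^ orderOf t = 1 := by
          rw [h2, inv_pow, ← pow_mul, mul_comm (2 * m + 1), pow_mul, hm, one_pow, inv_one]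
        obtain ⟨j, hj⟩ := hodd
        rw [hj, pow_succ, pow_mul, pow_two, hc2, one_pow, one_mul] at hcn
        exact hcn
      · exact absurd h.1 (h4 a ha _ (hR.conj_mem b hbD q))
    have hqa : q * a = a * q := by
      rw [hc1] at hc
      calc q * a = q * a * q⁻¹ * a * a * q := by rw [mul_assoc _ a a, hinv a ha]; group
        _ = a * q := by rw [← hc, one_mul]
    refine ⟨⟨hq, hqa⟩, ?_⟩
    rw [hb', ← mul_assoc, hqa, mul_assoc, ht, ← mul_assoc]

end Cfsg.Agent.S5049
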