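import Cfsg.Statements.S5055
import Cfsg.Agent.Lib.RootInvol.ClassTwo
import Cfsg.Agent.Lib.RootInvol.Connected

set_option autoImplicit false
open Cfsg

namespace Cfsg.Agent.S5055

open Cfsg.Lib.RootInvol
open scoped commutatorElement

/-- The Root Structure Theorem for root involutions. Let G be a finite group with O₂(G) = 1 and trivial centre, generated by a non-degenerate class D of root involutions such that for every d ∈ D the members of D with the same commuting members as d, together with 1, form a subgroup E(d). For d ∈ D let M_d be the subgroup generated by d and the members e ≠ d of D commuting with d with ed ∈ D, let W_d be the set of members of D commuting with d that have no partner with product of odd order among the members commuting with d, and let N_d be the subgroup generated by W_d. Then N_d = M_d; the members of D in N_d are d and the e just described; the commutator subgroup of N_d is E(d); and the members of D central in N_d are exactly those with the same commuting members as d. -/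
theorem result {G : Type*} [Group G] [Finite G] {D : Set G} (hD : Cfsg.IsNondegenerateRootInvolutionSet D)
    (hcl : Cfsg.IsRootInvolutionClass D) (hO : Cfsg.pCore 2 G = ⊥) (hZ : Subgroup.center G = ⊥)
    (hE : ∀ d ∈ D, (Cfsg.sameCommutingSubgroup D d : Set G) = Cfsg.sameCommutingClass D d ∪ {1}) {d : G} (hd : d ∈ D) :
    Subgroup.closure {w | Cfsg.IsIsolatedElem (Cfsg.OddAdj (Cfsg.commutingMembers D d)) (Cfsg.commutingMembers D d) w} =
      Subgroup.closure (Cfsg.productPartners D d ∪ {d}) ∧
    D ∩ (Subgroup.closure (Cfsg.productPartners D d ∪ {d}) : Set G) = Cfsg.productPartners D d ∪ {d} ∧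
    ⁅Subgroup.closure (Cfsg.productPartners D d ∪ {d}), Subgroup.closure (Cfsg.productPartners D d ∪ {d})⁆ =
      Cfsg.sameCommutingSubgroup D d ∧
    Cfsg.sameCommutingClass D d = {e | e ∈ D ∧ e ∈ Subgroup.closure (Cfsg.productPartners D d ∪ {d}) ∧
      ∀ y ∈ Subgroup.closure (Cfsg.productPartners D d ∪ {d}), e * y = y * e} := by
  obtain ⟨hR, -, -, ⟨a, ha, b, hb, h4⟩⟩ := hD
  have hc := connected_of_pCore hcl hO
  have hset : ∀ d ∈ D, {w | Iso D d w} = productPartners D d ∪ {d} := fun d hd =>
    Set.ext fun y => iso_iff_partner hR hc hE hd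
  have hrad : Subgroup.closure (productPartners D d ∪ {d}) = rad D d := by rw [rad, hset d hd]
  have hiso : {w | IsIsolatedElem (OddAdj (commutingMembers D d)) (commutingMembers D d) w} =
      {w | Iso D d w} := by
    ext w
    constructor
    · rintro ⟨⟨hw, hwd⟩, h⟩
      exact ⟨hw, hwd, fun t ht htd h' => (h t).1 ⟨⟨hw, hwd⟩, ⟨ht, htd⟩, h'.2.2⟩⟩
    · rintro ⟨hw, hwd, h⟩
      refine ⟨⟨hw, hwd⟩, fun t => ⟨fun h' => h t h'.2.1.1 h'.2.1.2 ⟨hw, h'.2.1.1, h'.2.2⟩, fun h' => ?_⟩⟩
      exact h t h'.1.1 h'.1.2 (oddAdj_symm hR ⟨h'.1.1, hw, h'.2.2⟩)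
  refine ⟨by rw [hiso, hset d hd], ?_, ?_, ?_⟩
  · ext y
    rw [hrad, ← iso_iff_partner hR hc hE hd]
    exact ⟨fun h => iso_of_mem_rad hR h.2 h.1, fun h => ⟨h.1, Subgroup.subset_closure h⟩⟩
  · rw [hrad]
    refine le_antisymm (lower_one_le_sub hR hc hE hd) ((Subgroup.closure_le _).2 ?_)
    rintro e ⟨he, hde⟩
    -- conjugate a pair with product of order four so that its square is `e`
    obtain ⟨g, hg⟩ := hcl.2.2 _ (sq_mem_of_four hR ha hb h4) e he
    have haD := hR.conj_mem a ha g
    have hbD := hR.conj_mem b hb g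
    have h4' : orderOf (g * a * g⁻¹ * (g * b * g⁻¹)) = 4 := by
      rw [show g * a * g⁻¹ * (g * b * g⁻¹) = MulAut.conj g (a * b) by rw [MulAut.conj_apply]; group,
        MulEquiv.orderOf_eq, h4]
    have hsq : (g * a * g⁻¹ * (g * b * g⁻¹)) ^ 2 = e := by
      rw [hg, show g * a * g⁻¹ * (g * b * g⁻¹) = g * (a * b) * g⁻¹ by group, conj_pow]
    obtain ⟨a', ha'⟩ : ∃ a', g * a * g⁻¹ = a' := ⟨_, rfl⟩
    obtain ⟨b', hb'⟩ : ∃ b', g * b * g⁻¹ = b' := ⟨_, rfl⟩
    rw [ha'] at haD h4' hsq
    rw [hb'] at hbD h4' hsq
    have ha2 := mul_self_of_mem hR haD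
    have hb2 := mul_self_of_mem hR hbD
    have h44 := pow_four_of_four h4'
    have hae : Commute a' e := hsq ▸ (sq_commute_left ha2 hb2 h44).symm
    have hbe : Commute b' e := hsq ▸ (sq_commute_right ha2 hb2 h44).symm
    have har : a' ∈ rad D e := Subgroup.subset_closure (iso_of_mul_mem hR he haD hae.eq (by
      rw [← hsq, mul_sq_left ha2]; exact conj_mem' hR haD hb2))
    have hbr : b' ∈ rad D e := Subgroup.subset_closure (iso_of_mul_mem hR he hbD hbe.eq (by
      rw [hbe.eq, ← hsq, sq_mul_right hb2]; exact conj_mem' hR hbD ha2))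
    have hmem := Subgroup.commutator_mem_commutator har hbr
    rw [commutator_eq_sq hR haD hbD, hsq, rad_congr hde.symm] at hmem
    exact hmem
  · ext e
    rw [hrad]
    constructor
    · rintro ⟨he, hde⟩
      exact ⟨he, sub_le_rad hR d (class_mem_sub he hde),
        fun y hy => (sub_central (class_mem_sub he hde) hy).eq⟩
    · rintro ⟨he, her, hcen⟩
      rcases (iso_iff_partner hR hc hE hd).1 (iso_of_mem_rad hR her he) with h | h
      · by_contra hne
        obtain ⟨s, hs, hes, -⟩ := exists_partner_sq hR hc hd h hne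
        exact not_commute_of_four hR he hs.1.1 hes
          (hcen s (Subgroup.subset_closure (iso_of_partner hR hd hs)))
      · rw [Set.mem_singleton_iff] at h
        exact ⟨he, by rw [h]⟩

end Cfsg.Agent.S5055
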