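import Cfsg.Statements.S5057


set_option autoImplicit false
open Cfsg

namespace Cfsg.Agent.S5057

open Equiv Equiv.Perm

/-- A fixed double transposition. -/
def std : ↥(alternatingGroup (Fin 6)) := ⟨swap 0 1 * swap 2 3, by simp [Equiv.Perm.mem_alternatingGroup]⟩

theorem orderOf_std : orderOf std = 2 := orderOf_eq_prime (Subtype.ext (by decide)) (fun h => absurd (congrArg Subtype.val h) (by decide))

theorem order_le (x : ↥(alternatingGroup (Fin 6))) : orderOf x ≤ 5 := by
  rw [← Subgroup.orderOf_coe, ← Equiv.Perm.lcm_cycleType]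
  have h2 : ∀ n ∈ (x : Perm (Fin 6)).cycleType, 2 ≤ n := fun n hn => Equiv.Perm.two_le_of_mem_cycleType hn
  have hs : (x : Perm (Fin 6)).cycleType.sum ≤ 6 := by
    rw [Equiv.Perm.sum_cycleType]
    exact (Finset.card_le_univ _).trans (by simp)
  have hsign : Even ((x : Perm (Fin 6)).cycleType.sum + Multiset.card (x : Perm (Fin 6)).cycleType) := by
    have h := Equiv.Perm.sign_of_cycleType (x : Perm (Fin 6))
    rw [Equiv.Perm.mem_alternatingGroup.mp x.2] at h
    exact (neg_one_pow_eq_one_iff_even (by decide)).mp h.symm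
  generalize (x : Perm (Fin 6)).cycleType = M at *
  have hc : Multiset.card M ≤ 3 := by
    have := Multiset.card_nsmul_le_sum (a := 2) h2
    rw [smul_eq_mul] at this
    omega
  rcases Nat.lt_or_ge (Multiset.card M) 1 with h | h
  · rw [Multiset.card_eq_zero.mp (show Multiset.card M = 0 by omega)]; simp
  rcases Nat.lt_or_ge (Multiset.card M) 2 with h' | h'
  · obtain ⟨a, rfl⟩ := Multiset.card_eq_one.mp (by omega : Multiset.card M = 1)
    have := h2 a (by simp)
    simp at hs hsign ⊢
    interval_cases a <;> first | (rw [Nat.even_iff] at hsign; omega) | simp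
  rcases Nat.lt_or_ge (Multiset.card M) 3 with h'' | h''
  · obtain ⟨a, b, rfl⟩ := Multiset.card_eq_two.mp (by omega : Multiset.card M = 2)
    have := h2 a (by simp); have := h2 b (by simp)
    simp at hs hsign ⊢
    have : a ≤ 4 := by omega
    have : b ≤ 4 := by omega
    interval_cases a <;> interval_cases b <;> first | omega | decide | (rw [Nat.even_iff] at hsign; omega)
  · obtain ⟨a, b, c, rfl⟩ := Multiset.card_eq_three.mp (by omega : Multiset.card M = 3)
    have := h2 a (by simp); have := h2 b (by simp); have := h2 c (by simp)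
    simp at hs hsign ⊢
    obtain ⟨rfl, rfl, rfl⟩ : a = 2 ∧ b = 2 ∧ c = 2 := by omega
    decide

theorem exists_conj_std (d : ↥(alternatingGroup (Fin 6))) (hd : orderOf d = 2) : ∃ g, d = g * std * g⁻¹ := by
  have hcard : ∀ y : ↥(alternatingGroup (Fin 6)), orderOf y = 2 → (y : Perm (Fin 6)).cycleType = {2, 2} := by
    intro y hy
    have ho : orderOf (y : Perm (Fin 6)) = 2 := by rw [Subgroup.orderOf_coe]; exact hy
    obtain ⟨m, hm⟩ := Equiv.Perm.cycleType_prime_order (σ := (y : Perm (Fin 6))) (by rw [ho]; exact Nat.prime_two)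
    rw [ho] at hm
    have hs := Equiv.Perm.sum_cycleType (y : Perm (Fin 6))
    have hle : (y : Perm (Fin 6)).cycleType.sum ≤ 6 := hs ▸ (Finset.card_le_univ _).trans (by simp)
    rw [hm, Multiset.sum_replicate, smul_eq_mul] at hle
    have h := Equiv.Perm.sign_of_cycleType (y : Perm (Fin 6))
    rw [Equiv.Perm.mem_alternatingGroup.mp y.2, hm, Multiset.sum_replicate, Multiset.card_replicate, smul_eq_mul] at h
    have he := (neg_one_pow_eq_one_iff_even (by decide)).mp h.symm
    obtain ⟨r, hr⟩ := he
    obtain rfl : m = 1 := by omega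
    exact hm
  have hconj : IsConj (std : Perm (Fin 6)) (d : Perm (Fin 6)) :=
    Equiv.Perm.isConj_iff_cycleType_eq.mpr ((hcard std orderOf_std).trans (hcard d hd).symm)
  obtain ⟨c, hc⟩ := isConj_iff.mp hconj
  rcases Int.units_eq_one_or (Equiv.Perm.sign c) with h | h
  · exact ⟨⟨c, Equiv.Perm.mem_alternatingGroup.mpr h⟩, Subtype.ext hc.symm⟩
  · refine ⟨⟨c * swap 0 1, Equiv.Perm.mem_alternatingGroup.mpr (by simp [h])⟩, Subtype.ext ?_⟩
    show (d : Perm (Fin 6)) = c * swap 0 1 * (std : Perm (Fin 6)) * (c * swap 0 1)⁻¹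
    rw [mul_inv_rev, ← hc]
    have : swap (0 : Fin 6) 1 * (std : Perm (Fin 6)) * (swap (0 : Fin 6) 1)⁻¹ = std := by decide
    calc c * (std : Perm (Fin 6)) * c⁻¹ = c * (swap (0 : Fin 6) 1 * (std : Perm (Fin 6)) * (swap (0 : Fin 6) 1)⁻¹) * c⁻¹ := by rw [this]
      _ = _ := by group

/-- The involutions of the alternating group of degree 6 form a class of root involutions (a single conjugacy class of involutions generating the group, any two of which commute, have product of odd order, or have product of order 4 whose square is again an involution of the class), and the product of any two of them has order at most 5. -/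
theorem result :
    Cfsg.IsRootInvolutionClass {g : ↥(alternatingGroup (Fin 6)) | orderOf g = 2} ∧
    ∀ d ∈ {g : ↥(alternatingGroup (Fin 6)) | orderOf g = 2}, ∀ e ∈ {g : ↥(alternatingGroup (Fin 6)) | orderOf g = 2},
      orderOf (d * e) ≤ 5 := by
  classical
  have hconj : ∀ d e : ↥(alternatingGroup (Fin 6)), orderOf d = 2 → orderOf e = 2 → ∃ g, e = g * d * g⁻¹ := by
    intro d e hd he
    obtain ⟨g, hg⟩ := exists_conj_std d hd
    obtain ⟨k, hk⟩ := exists_conj_std e he
    exact ⟨k * g⁻¹, by rw [hk, hg]; group⟩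
  have hle : ∀ x : ↥(alternatingGroup (Fin 6)), orderOf x ≤ 5 := order_le
  refine ⟨⟨⟨fun d hd => hd, ?_, fun d hd g => ?_, fun a ha b hb => ?_⟩, ⟨std, orderOf_std⟩, fun a ha b hb => hconj a b ha hb⟩,
    fun d _ e _ => hle _⟩
  · haveI : IsSimpleGroup ↥(alternatingGroup (Fin 6)) := alternatingGroup.isSimpleGroup (by simp)
    set H := Subgroup.closure {g : ↥(alternatingGroup (Fin 6)) | orderOf g = 2}
    have hn : H.Normal := ⟨fun n hn g => by
      induction hn using Subgroup.closure_induction with
      | mem x hx =>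
        refine Subgroup.subset_closure ?_
        show orderOf (g * x * g⁻¹) = 2
        rw [← hx]
        exact orderOf_injective (MulAut.conj g).toMonoidHom (MulAut.conj g).injective x
      | one => simp
      | mul x y _ _ hx hy => simpa [mul_assoc] using mul_mem hx hy
      | inv x _ hx => simpa [mul_assoc] using inv_mem hx⟩
    refine (hn.eq_bot_or_eq_top).resolve_left fun hb => ?_
    have h1 : std ∈ H := Subgroup.subset_closure orderOf_std
    rw [hb, Subgroup.mem_bot] at h1
    have h2 := orderOf_std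
    rw [h1, orderOf_one] at h2
    omega
  · show orderOf (g * d * g⁻¹) = 2
    rw [← show orderOf d = 2 from hd]
    exact orderOf_injective (MulAut.conj g).toMonoidHom (MulAut.conj g).injective d
  · have ha2 : a⁻¹ = a := inv_eq_of_mul_eq_one_right (by rw [← pow_two, ← show orderOf a = 2 from ha, pow_orderOf_eq_one])
    have hb2 : b⁻¹ = b := inv_eq_of_mul_eq_one_right (by rw [← pow_two, ← show orderOf b = 2 from hb, pow_orderOf_eq_one])
    have h5 := hle (a * b)
    have h0 := orderOf_pos (a * b)
    interval_cases h : orderOf (a * b)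
    · exact Or.inr (Or.inl ⟨0, rfl⟩)
    · refine Or.inl ?_
      have h2 : (a * b) * (a * b) = 1 := by rw [← pow_two, ← h, pow_orderOf_eq_one]
      rw [← inv_eq_of_mul_eq_one_right h2, mul_inv_rev, ha2, hb2]
    · exact Or.inr (Or.inl ⟨1, rfl⟩)
    · exact Or.inr (Or.inr ⟨rfl, by show orderOf ((a * b) ^ 2) = 2; rw [orderOf_pow' _ two_ne_zero, h]; rfl⟩)
    · exact Or.inr (Or.inl ⟨2, rfl⟩)

end Cfsg.Agent.S5057
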