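import Cfsg.Statements.S5058
import Cfsg.Agent.S5043
import Cfsg.Agent.Lib.Linear.SLPerfect

set_option autoImplicit false
open Matrix
open Cfsg

namespace Cfsg.Agent.S5058

open Cfsg.Agent.Lib.Transv Cfsg.Agent.S5043 Matrix

section
variable {F : Type*} [Field F] [Fintype F] [CharP F 2] {n : ℕ}

omit [Fintype F] in
theorem two_eq : (2 : F) = 0 := CharP.cast_eq_zero F 2

/-- An element of `SL₂` of non-zero trace in characteristic two is fixed by the square of the Frobenius power. -/
theorem pow_card_sq {A : Matrix (Fin 2) (Fin 2) F} {s : F} (hs : s ≠ 0) (h : A * A + s • A + 1 = 0) :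
    A ^ (Fintype.card F * Fintype.card F) = A := by
  obtain ⟨m, hp, hm⟩ := FiniteField.card F 2
  have hfix : s ^ (2 ^ (m : ℕ)) = s := by rw [← hm]; exact FiniteField.pow_card s
  set q := 2 ^ (m : ℕ) with hq
  set B := A ^ q with hB
  have hneg : ∀ Z : Matrix (Fin 2) (Fin 2) F, Z + Z = 0 := fun Z => by
    rw [← two_smul F Z, two_eq, zero_smul]
  have frob : ∀ P Q : Matrix (Fin 2) (Fin 2) F, Commute P Q → (P + Q) ^ q = P ^ q + Q ^ q :=
    fun P Q hPQ => add_pow_char_pow_of_commute (p := 2) (m : ℕ) hPQ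
  have hBB : B * B + s • B + 1 = 0 := by
    have e := congrArg (· ^ q) h
    simp only [zero_pow (show q ≠ 0 by positivity)] at e
    rw [frob _ _ (Commute.one_right _), frob _ _ ((Commute.mul_left (Commute.refl A) (Commute.refl A)).smul_right s),
      one_pow, smul_pow, hfix, (Commute.refl A).mul_pow] at e
    exact e
  set D := A + B with hD
  have hAB : Commute A B := Commute.pow_right (Commute.refl A) q
  have hDD : D * D = s • D := by
    have e : D * D + s • D = (A * A + s • A + 1) + (B * B + s • B + 1) := by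
      rw [hD, add_mul, mul_add, mul_add, smul_add, hAB.eq]
      linear_combination (norm := abel) (hneg (B * A)) - (hneg (1 : Matrix (Fin 2) (Fin 2) F))
    rw [h, hBB, add_zero] at e
    calc D * D = D * D + s • D + s • D := by rw [add_assoc, hneg, add_zero]
      _ = s • D := by rw [e, zero_add]
  have hpow : ∀ j : ℕ, D ^ (j + 1) = s ^ j • D := by
    intro j
    induction j with
    | zero => rw [pow_one, pow_zero, one_smul]
    | succ j ih => rw [pow_succ, ih, smul_mul_assoc, hDD, smul_smul, pow_succ]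
  have hDq : D ^ q = D := by
    obtain ⟨j, hj⟩ : ∃ j, q = j + 1 := ⟨q - 1, by have : 0 < q := by positivity
                                                  omega⟩
    have hj' : s ^ j = 1 := by
      have e : s ^ j * s = 1 * s := by rw [← pow_succ, ← hj, hfix, one_mul]
      exact mul_right_cancel₀ hs e
    rw [hj, hpow, hj', one_smul]
  have hBq : B ^ q = A := by
    have e := frob A B hAB
    rw [← hD, hDq, ← hB] at e
    calc B ^ q = B + B + B ^ q := by rw [hneg, zero_add]
      _ = B + (A + B) := by rw [add_assoc, ← e, hD]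
      _ = A := by rw [add_left_comm, hneg, add_zero]
  rw [hm, pow_mul, ← hB, hBq]

/-- The order of such an element divides `q² - 1`. -/
theorem sl_pow_eq_one {g : Matrix.SpecialLinearGroup (Fin 2) F} {s : F} (hs : s ≠ 0)
    (htr : g 0 0 + g 1 1 = s) : g ^ (Fintype.card F * Fintype.card F - 1) = 1 := by
  have hch : (g : Matrix (Fin 2) (Fin 2) F) * g + s • (g : Matrix (Fin 2) (Fin 2) F) + 1 = 0 := by
    have hd := g.2
    rw [Matrix.det_fin_two] at hd
    have h2 := two_eq (F := F)
    ext i j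
    fin_cases i <;> fin_cases j <;> simp [Matrix.mul_apply, Fin.sum_univ_two, ← htr]
    · linear_combination (g 0 0 * g 0 0 + g 0 0 * g 1 1) * h2 - hd
    · linear_combination (g 0 0 * g 0 1 + g 0 1 * g 1 1) * h2
    · linear_combination (g 1 0 * g 0 0 + g 1 0 * g 1 1) * h2
    · linear_combination (g 1 1 * g 1 1 + g 0 0 * g 1 1) * h2 - hd
  have e := pow_card_sq hs hch
  have hcard : 1 ≤ Fintype.card F * Fintype.card F := Nat.one_le_iff_ne_zero.mpr (by simp)
  refine mul_right_cancel (b := g) ?_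
  rw [← pow_succ, Nat.sub_add_cancel hcard, one_mul]
  exact Subtype.ext (by rw [Matrix.SpecialLinearGroup.coe_pow]; exact e)

omit [Fintype F] [CharP F 2] in
theorem opposite_pair {x y : Module.Dual F (Fin (n + 3) → F) × (Fin (n + 3) → F)} (hx : x ∈ pairs (k := F) (n := n))
    (hy : y ∈ pairs (k := F) (n := n)) :
    ∃ z ∈ pairs (k := F) (n := n), x.1 z.2 ≠ 0 ∧ z.1 x.2 ≠ 0 ∧ y.1 z.2 ≠ 0 ∧ z.1 y.2 ≠ 0 := by
  obtain ⟨u, hxu, hyu⟩ := exists_both_ne hx.2.1 hy.2.1
  have hnot : ∀ z : Module.Dual F (Fin (n + 3) → F) × (Fin (n + 3) → F), z ∈ pairs → z.1 u ≠ 0 →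
      z.2 ∉ Submodule.span F {u} := by
    intro z hz hzu hm
    obtain ⟨a, ha⟩ := Submodule.mem_span_singleton.mp hm
    have h0 := hz.1
    rw [← ha, map_smul, smul_eq_mul, mul_eq_zero] at h0
    exact hz.2.2 (by rw [← ha, h0.resolve_right hzu, zero_smul])
  set W := Submodule.span F {u}
  have hev : ∀ v, v ∉ W → Module.Dual.eval F ((Fin (n + 3) → F) ⧸ W) (W.mkQ v) ≠ 0 := fun v hv e => hv (by
    rw [Module.eval_apply_eq_zero_iff] at e
    exact (Submodule.Quotient.mk_eq_zero W).mp e)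
  obtain ⟨f, f1, f2⟩ := exists_both_ne (hev _ (hnot x hx hxu)) (hev _ (hnot y hy hyu))
  refine ⟨(f ∘ₗ W.mkQ, u), ⟨?_, fun e => f1 ?_, fun e => hxu ?_⟩, hxu, f1, hyu, f2⟩
  · show f (W.mkQ u) = 0
    rw [show W.mkQ u = 0 from (Submodule.Quotient.mk_eq_zero W).mpr (Submodule.mem_span_singleton_self u), map_zero]
  · exact LinearMap.congr_fun e x.2
  · rw [show u = 0 from e, map_zero]

omit [Fintype F] [CharP F 2] in
theorem smul_pair {x : Module.Dual F (Fin (n + 3) → F) × (Fin (n + 3) → F)} (hx : x ∈ pairs (k := F) (n := n)) {c : F}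
    (hc : c ≠ 0) : (c • x.1, x.2) ∈ pairs (k := F) (n := n) :=
  ⟨by simp [hx.1], smul_ne_zero hc hx.2.1, hx.2.2⟩

/-- The transvections. -/
def tvs (n : ℕ) (F : Type*) [Field F] : Set (Matrix.SpecialLinearGroup (Fin (n + 3)) F) :=
  {t | ∃ x ∈ pairs (k := F) (n := n), ∀ u, act t u = u + x.1 u • x.2}

omit [Fintype F] in
theorem tv_sq {t : Matrix.SpecialLinearGroup (Fin (n + 3)) F} (ht : t ∈ tvs n F) : t * t = 1 := by
  obtain ⟨x, hx, e⟩ := ht
  refine incidences.inj (LinearEquiv.ext fun u => ?_)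
  rw [map_mul, map_one]
  show act t (act t u) = u
  rw [e, e, map_add, map_smul, hx.1, smul_zero, add_zero, add_assoc, ← two_smul F, two_eq, zero_smul, add_zero]

omit [Fintype F] [CharP F 2] in
theorem tv_ne_one {t : Matrix.SpecialLinearGroup (Fin (n + 3)) F} (ht : t ∈ tvs n F) : t ≠ 1 := by
  obtain ⟨x, hx, e⟩ := ht
  obtain ⟨u, hu⟩ := DFunLike.ne_iff.mp hx.2.1
  intro h
  have h1 := e u
  rw [h, map_one] at h1
  exact hu ((smul_eq_zero.mp (left_eq_add.mp h1)).resolve_right hx.2.2)

omit [Fintype F] in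
theorem tv_order {t : Matrix.SpecialLinearGroup (Fin (n + 3)) F} (ht : t ∈ tvs n F) : orderOf t = 2 :=
  orderOf_eq_prime (by rw [pow_two, tv_sq ht]) (tv_ne_one ht)

theorem odd_case {x y : Module.Dual F (Fin (n + 3) → F) × (Fin (n + 3) → F)} (hx : x ∈ pairs (k := F) (n := n))
    (hy : y ∈ pairs (k := F) (n := n)) {a b : Matrix.SpecialLinearGroup (Fin (n + 3)) F}
    (ha : ∀ u, act a u = u + x.1 u • x.2) (hb : ∀ u, act b u = u + y.1 u • y.2) (h1 : x.1 y.2 ≠ 0) (h2 : y.1 x.2 ≠ 0) :
    (a * b) ^ (Fintype.card F * Fintype.card F - 1) = 1 := by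
  have hφv : ((x.1 y.2)⁻¹ • x.1) x.2 = 0 := by simp [hx.1]
  have hψw : ((y.1 x.2)⁻¹ • y.1) y.2 = 0 := by simp [hy.1]
  have hφw : ((x.1 y.2)⁻¹ • x.1) y.2 = 1 := by simp [h1]
  have hψv : ((y.1 x.2)⁻¹ • y.1) x.2 = 1 := by simp [h2]
  set f := planeHom hφv hψw hφw hψv
  set U := Cfsg.Agent.S5016.U1 (x.1 y.2)
  set L := Cfsg.Agent.S5016.L1 (y.1 x.2)
  have ea : act a = f U := LinearEquiv.ext fun u => by
    rw [ha, planeHom_apply]
    simp [U, Cfsg.Agent.S5016.U1, h1]
  have eb : act b = f L := LinearEquiv.ext fun u => by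
    rw [hb, planeHom_apply]
    simp [L, Cfsg.Agent.S5016.L1, h2]
  refine incidences.inj ?_
  rw [map_pow, map_mul, ea, eb, ← map_mul, ← map_pow,
    sl_pow_eq_one (s := x.1 y.2 * y.1 x.2) (mul_ne_zero h1 h2) ?_, map_one, map_one]
  rw [Matrix.SpecialLinearGroup.coe_mul]
  simp [U, L, Cfsg.Agent.S5016.U1, Cfsg.Agent.S5016.L1, Matrix.mul_apply, Fin.sum_univ_two]
  linear_combination two_eq (F := F)

theorem odd_order {x y : Module.Dual F (Fin (n + 3) → F) × (Fin (n + 3) → F)} (hx : x ∈ pairs (k := F) (n := n))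
    (hy : y ∈ pairs (k := F) (n := n)) {a b : Matrix.SpecialLinearGroup (Fin (n + 3)) F}
    (ha : ∀ u, act a u = u + x.1 u • x.2) (hb : ∀ u, act b u = u + y.1 u • y.2) (h1 : x.1 y.2 ≠ 0) (h2 : y.1 x.2 ≠ 0) :
    Odd (orderOf (a * b)) := by
  refine Odd.of_dvd_nat ?_ (orderOf_dvd_of_pow_eq_one (odd_case hx hy ha hb h1 h2))
  obtain ⟨m, hp, hm⟩ := FiniteField.card F 2
  have he : Even (Fintype.card F * Fintype.card F) := Even.mul_right (by rw [hm]; exact (even_two).pow_of_ne_zero m.ne_zero) _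
  have hpos : 1 ≤ Fintype.card F * Fintype.card F := Nat.one_le_iff_ne_zero.mpr (by simp)
  exact Nat.Even.sub_odd hpos he odd_one

omit [Fintype F] in
theorem four_case {x y : Module.Dual F (Fin (n + 3) → F) × (Fin (n + 3) → F)} (hx : x ∈ pairs (k := F) (n := n))
    (hy : y ∈ pairs (k := F) (n := n)) {a b : Matrix.SpecialLinearGroup (Fin (n + 3)) F}
    (ha : ∀ u, act a u = u + x.1 u • x.2) (hb : ∀ u, act b u = u + y.1 u • y.2) (h1 : x.1 y.2 ≠ 0) (h2 : y.1 x.2 = 0) :
    orderOf (a * b) = 4 ∧ (a * b) ^ 2 ∈ tvs n F := by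
  have hz : (x.1 y.2 • y.1, x.2) ∈ pairs (k := F) (n := n) :=
    ⟨by simp [h2], smul_ne_zero h1 hy.2.1, hx.2.2⟩
  have hmem : (a * b) ^ 2 ∈ tvs n F := by
    refine ⟨_, hz, fun u => ?_⟩
    rw [map_pow, pow_two, map_mul]
    show act a (act b (act a (act b u))) = _
    simp only [ha, hb, map_add, map_smul, hx.1, hy.1, h2, smul_eq_mul, mul_zero, add_zero, LinearMap.smul_apply]
    linear_combination (norm := module) two_eq (F := F) • (x.1 u • x.2) + two_eq (F := F) • (y.1 u • y.2) +
      two_eq (F := F) • ((x.1 y.2 * y.1 u) • x.2)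
  refine ⟨?_, hmem⟩
  have h4 : (a * b) ^ 4 = 1 := by rw [show 4 = 2 * 2 from rfl, pow_mul, pow_two, tv_sq hmem]
  have hd := orderOf_dvd_of_pow_eq_one h4
  rw [show 4 = 2 ^ 2 from rfl, Nat.dvd_prime_pow Nat.prime_two] at hd
  obtain ⟨i, hi, e⟩ := hd
  interval_cases i
  · exact absurd (orderOf_eq_one_iff.mp (e.trans (pow_zero 2))) fun h => tv_ne_one hmem (by rw [h, one_pow])
  · exact absurd (by rw [← pow_orderOf_eq_one (a * b), e, pow_one]) (tv_ne_one hmem)
  · exact e

omit [Fintype F] in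
theorem set_eq_tvs : {t : Matrix.SpecialLinearGroup (Fin (n + 3)) F | ∃ c : F, c ≠ 0 ∧
    ∃ g : Matrix.SpecialLinearGroup (Fin (n + 3)) F, ((g⁻¹ * t * g : Matrix.SpecialLinearGroup (Fin (n + 3)) F) :
      Matrix (Fin (n + 3)) (Fin (n + 3)) F) = Matrix.transvection 0 1 c} = tvs n F := by
  have h01 : (0 : Fin (n + 3)) ≠ 1 := by simp [Fin.ext_iff]
  have key : ∀ (c : F) (u : Fin (n + 3) → F), Matrix.transvection 0 1 c *ᵥ u = u + (c * u 1) • Pi.single 0 1 := by
    intro c u
    rw [Matrix.transvection, Matrix.add_mulVec, Matrix.one_mulVec, Matrix.single_mulVec]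
    congr 1
    ext l
    rcases eq_or_ne l 0 with rfl | hl
    · simp
    · simp [hl]
  ext t
  constructor
  · rintro ⟨c, hc, g, e⟩
    refine ⟨_, incidences.conj _ (smul_pair (coord_mem h01) hc) g, fun u => ?_⟩
    have e1 : act (g⁻¹ * t * g) ((act g).symm u) = (act g).symm u + (c * ((act g).symm u) 1) • Pi.single 0 1 := by
      rw [act_apply, e, key]
    rw [map_mul, map_mul, map_inv] at e1
    have e2 := congrArg (act g) e1
    change act g ((act g).symm (act t (act g ((act g).symm u)))) = _ at e2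
    simpa using e2
  · rintro ⟨x, hx, e⟩
    obtain ⟨g, hg⟩ := conj_of_connected connected (incidences.mem (coord_mem h01)) (incidences.mem hx)
    have ht : t ∈ rootG act (incidences.incident x hx) := ⟨1, fun u => by rw [e]; simp⟩
    rw [hg, Cfsg.Agent.Lib.RankOne.mem_conjBy] at ht
    obtain ⟨c, hc⟩ := Subgroup.mem_comap.mp ht
    refine ⟨c, fun h0 => tv_ne_one ⟨x, hx, e⟩ ?_, g, Matrix.toLin'.injective (LinearMap.ext fun u => ?_)⟩
    · have : act (g⁻¹ * t * g) = 1 := LinearEquiv.ext fun u => by rw [hc, h0]; simp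
      rw [← map_one act] at this
      have := incidences.inj this
      calc t = g * (g⁻¹ * t * g) * g⁻¹ := by group
        _ = 1 := by rw [this]; group
    · rw [Matrix.toLin'_apply, Matrix.toLin'_apply, key, ← act_apply, hc u]
      rfl

omit [Fintype F] [CharP F 2] in
theorem tv_exists {x : Module.Dual F (Fin (n + 3) → F) × (Fin (n + 3) → F)} (hx : x ∈ pairs (k := F) (n := n)) :
    ∃ t ∈ tvs n F, ∀ u, act t u = u + x.1 u • x.2 := by
  obtain ⟨t, ht⟩ := trG_le_range hx.1 (tre_mem hx.1 (1 : F))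
  have e : ∀ u, act t u = u + x.1 u • x.2 := fun u => by rw [ht, tre_apply, one_mul]
  exact ⟨t, ⟨x, hx, e⟩, e⟩

theorem involution_set : Cfsg.IsRootInvolutionSet (tvs n F) where
  orderOf_eq := fun d hd => tv_order hd
  generates := by
    refine top_le_iff.mp ((le_of_eq Cfsg.Lib.Linear.closure_transvection_eq_top.symm).trans ?_)
    rw [Subgroup.closure_le]
    rintro _ ⟨i, j, hij, c, rfl⟩
    by_cases hc : c = 0
    · have : Matrix.SpecialLinearGroup.transvection hij c = 1 := Subtype.ext (by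
        show Matrix.transvection i j c = _; rw [hc, Matrix.transvection_zero]; rfl)
      rw [this]; exact one_mem _
    refine Subgroup.subset_closure ⟨_, smul_pair (coord_mem hij) hc, fun u => ?_⟩
    rw [act_apply]
    show Matrix.transvection i j c *ᵥ u = _
    rw [Matrix.transvection, Matrix.add_mulVec, Matrix.one_mulVec, Matrix.single_mulVec]
    congr 1
    ext l
    rcases eq_or_ne l i with rfl | hl
    · simp
    · simp [hl]
  conj_mem := by
    rintro d ⟨x, hx, e⟩ g
    refine ⟨_, incidences.conj x hx g, fun u => ?_⟩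
    rw [map_mul, map_mul, map_inv]
    show act g (act d ((act g).symm u)) = _
    rw [e, map_add, map_smul, LinearEquiv.apply_symm_apply]
    rfl
  pair := by
    rintro a ⟨x, hx, ha⟩ b ⟨y, hy, hb⟩
    by_cases h1 : x.1 y.2 = 0 <;> by_cases h2 : y.1 x.2 = 0
    · refine Or.inl (incidences.inj (LinearEquiv.ext fun u => ?_))
      rw [map_mul, map_mul]
      show act a (act b u) = act b (act a u)
      simp only [ha, hb, map_add, map_smul, h1, h2, smul_zero, add_zero]
      abel
    · obtain ⟨e4, hsq⟩ := four_case hy hx hb ha h2 h1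
      have einv : a * b = (b * a)⁻¹ := by
        rw [_root_.mul_inv_rev, inv_eq_of_mul_eq_one_right (tv_sq ⟨x, hx, ha⟩),
          inv_eq_of_mul_eq_one_right (tv_sq ⟨y, hy, hb⟩)]
      refine Or.inr (Or.inr ⟨by rw [einv, orderOf_inv, e4], ?_⟩)
      rw [einv, inv_pow, inv_eq_of_mul_eq_one_right (tv_sq hsq)]
      exact hsq
    · exact Or.inr (Or.inr (four_case hx hy ha hb h1 h2))
    · exact Or.inr (Or.inl (odd_order hx hy ha hb h1 h2))

/-- Two involutions with product of odd order are conjugate. -/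
theorem conj_of_odd {G : Type*} [Group G] {a b : G} (ha : a * a = 1) (hb : b * b = 1) (h : Odd (orderOf (a * b))) :
    ∃ g : G, b = g * a * g⁻¹ := by
  obtain ⟨m, hm⟩ := h
  have hai : a⁻¹ = a := inv_eq_of_mul_eq_one_right ha
  have hbi : b⁻¹ = b := inv_eq_of_mul_eq_one_right hb
  have hinv : ∀ i : ℕ, a * (a * b) ^ i * a = ((a * b) ^ i)⁻¹ := by
    intro i
    induction i with
    | zero => simp [ha]
    | succ i ih =>
      rw [pow_succ, _root_.mul_inv_rev, ← ih, _root_.mul_inv_rev, hai, hbi]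
      have : ∀ z : G, a * (a * z) = z := fun z => by rw [← mul_assoc, ha, one_mul]
      calc a * ((a * b) ^ i * (a * b)) * a = (a * (a * b) ^ i * a) * (b * a) := by
            simp only [mul_assoc, this]
        _ = b * a * (a * (a * b) ^ i * a) := by
            rw [ih, show b * a = (a * b)⁻¹ by rw [_root_.mul_inv_rev, hai, hbi]]
            exact ((Commute.refl (a * b)).pow_left i).inv_inv.eq
  refine ⟨(a * b) ^ m, ?_⟩
  have h1 := pow_orderOf_eq_one (a * b)
  rw [hm] at h1
  have h2 : (a * b) ^ m * a * ((a * b) ^ m)⁻¹ = (a * b) ^ (2 * m) * a := by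
    rw [← hinv m, two_mul, pow_add]
    have : ∀ z : G, a * (a * z) = z := fun z => by rw [← mul_assoc, ha, one_mul]
    simp only [mul_assoc, this]
  rw [h2]
  rw [pow_succ] at h1
  rw [eq_inv_of_mul_eq_one_left h1, _root_.mul_inv_rev, hai, hbi, mul_assoc, ha, mul_one]

theorem involution_class : Cfsg.IsRootInvolutionClass (tvs n F) := by
  obtain ⟨t, ht, -⟩ := tv_exists (coord_mem (k := F) (n := n) (show (0 : Fin (n + 3)) ≠ 1 by simp [Fin.ext_iff]))
  refine ⟨involution_set, ⟨t, ht⟩, ?_⟩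
  rintro a ⟨x, hx, ha⟩ b ⟨y, hy, hb⟩
  obtain ⟨z, hz, z1, z2, z3, z4⟩ := opposite_pair hx hy
  obtain ⟨c, hc, ec⟩ := tv_exists hz
  obtain ⟨g, rfl⟩ := conj_of_odd (tv_sq ⟨x, hx, ha⟩) (tv_sq hc) (odd_order hx hz ha ec z1 z2)
  obtain ⟨g', rfl⟩ := conj_of_odd (tv_sq hc) (tv_sq ⟨y, hy, hb⟩) (odd_order hz hy ec hb z4 z3)
  exact ⟨g' * g, by group⟩

end

/-- Let F be a finite field of characteristic 2 and n a natural number. Then the transvections of SL_{n+3}(F) (so in every dimension at least 3) (the conjugates of the elementary matrices 1 + c E₁₂, c ≠ 0) form a class of root involutions of SL_{n+3}(F); when F has two elements they form a class of {3,4}⁺-transpositions (every product of odd order has order 1 or 3). -/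
theorem result (F : Type*) [Field F] [Fintype F] [CharP F 2] (n : ℕ) :
    Cfsg.IsRootInvolutionClass {t : Matrix.SpecialLinearGroup (Fin (n + 3)) F | ∃ c : F, c ≠ 0 ∧
        ∃ g : Matrix.SpecialLinearGroup (Fin (n + 3)) F, ((g⁻¹ * t * g : Matrix.SpecialLinearGroup (Fin (n + 3)) F) :
          Matrix (Fin (n + 3)) (Fin (n + 3)) F) = Matrix.transvection 0 1 c} ∧
    (Fintype.card F = 2 → Cfsg.IsThreeFourPlusTranspositionSet {t : Matrix.SpecialLinearGroup (Fin (n + 3)) F | ∃ c : F, c ≠ 0 ∧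
        ∃ g : Matrix.SpecialLinearGroup (Fin (n + 3)) F, ((g⁻¹ * t * g : Matrix.SpecialLinearGroup (Fin (n + 3)) F) :
          Matrix (Fin (n + 3)) (Fin (n + 3)) F) = Matrix.transvection 0 1 c}) := by
  rw [set_eq_tvs]
  refine ⟨involution_class, fun h2 => ⟨involution_set, ?_⟩⟩
  rintro a ha b hb hodd
  obtain ⟨x, hx, hax⟩ := ha
  obtain ⟨y, hy, hby⟩ := hb
  rcases involution_set.pair a ⟨x, hx, hax⟩ b ⟨y, hy, hby⟩ with h | h | h
  · left
    have h4 : (a * b) ^ 2 = 1 := by
      rw [pow_two, mul_assoc, ← mul_assoc b a b, ← h, mul_assoc a b b, tv_sq ⟨y, hy, hby⟩, mul_one, tv_sq ⟨x, hx, hax⟩]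
    rcases (Nat.dvd_prime Nat.prime_two).mp (orderOf_dvd_of_pow_eq_one h4) with e | e
    · exact e
    · rw [e] at hodd; exact absurd hodd (by decide)
  · by_cases h1 : x.1 y.2 = 0
    · by_cases h3 : y.1 x.2 = 0
      · left
        have hc : a * b = b * a := incidences.inj (LinearEquiv.ext fun u => by
          rw [map_mul, map_mul]
          show act a (act b u) = act b (act a u)
          simp only [hax, hby, map_add, map_smul, h1, h3, smul_zero, add_zero]
          abel)
        have h4 : (a * b) ^ 2 = 1 := by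
          rw [pow_two, mul_assoc, ← mul_assoc b a b, ← hc, mul_assoc a b b, tv_sq ⟨y, hy, hby⟩, mul_one,
            tv_sq ⟨x, hx, hax⟩]
        rcases (Nat.dvd_prime Nat.prime_two).mp (orderOf_dvd_of_pow_eq_one h4) with e | e
        · exact e
        · rw [e] at hodd; exact absurd hodd (by decide)
      · obtain ⟨e, -⟩ := four_case hy hx hby hax h3 h1
        have e' : orderOf (a * b) = 4 := by
          rw [show a * b = a * (b * a) * a⁻¹ by group, ← e]
          exact (MulAut.conj a).orderOf_eq (b * a)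
        rw [e'] at hodd; exact absurd hodd (by decide)
    · by_cases h3 : y.1 x.2 = 0
      · rw [(four_case hx hy hax hby h1 h3).1] at hodd; exact absurd hodd (by decide)
      · have hd := orderOf_dvd_of_pow_eq_one (odd_case hx hy hax hby h1 h3)
        rw [h2] at hd
        exact (Nat.dvd_prime Nat.prime_three).mp hd
  · rw [h.1] at hodd; exact absurd hodd (by decide)

end Cfsg.Agent.S5058
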