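import Cfsg.Statements.S5059


set_option autoImplicit false
universe u
open Cfsg

namespace Cfsg.Agent.S5059

/-- Let k be a field of characteristic not 2 with k not of order 3, M a finite-dimensional k-vector space and G ≤ GL(M) such that (G, M) is a quadratic pair (M irreducible for G, and G generated by its quadratically acting elements σ whose scalar family 1 + c(σ − 1), c ∈ k, lies in G). Write 𝒬_d for the quadratic elements of G of minimal commutator rank, E(σ) for the subgroup generated by the members of 𝒬_d with the same fixed space and commutator space as σ, and Σ for the set of these subgroups. Then for σ ∈ 𝒬_d the subgroup E(σ) consists exactly of those members together with the identity, it is abelian, and if k has prime characteristic p every element of E(σ) has order dividing p. -/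
theorem result {k : Type u} [Field k] (hk2 : ringChar k ≠ 2) (hk3 : Nat.card k ≠ 3)
    {M : Type u} [AddCommGroup M] [Module k M] [FiniteDimensional k M]
    {G : Subgroup (LinearMap.GeneralLinearGroup k M)} (hG : Cfsg.IsQuadraticPair G)
    {σ : LinearMap.GeneralLinearGroup k M} (hσ : σ ∈ Cfsg.minimalQuadraticElements G) :
    (Cfsg.sameActionSubgroup G σ : Set (LinearMap.GeneralLinearGroup k M)) = Cfsg.sameActionClass G σ ∪ {1} ∧
    IsMulCommutative ↥(Cfsg.sameActionSubgroup G σ) ∧
    (∀ p : ℕ, p.Prime → ringChar k = p → ∀ x ∈ Cfsg.sameActionSubgroup G σ, x ^ p = 1) := by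
  classical
  obtain ⟨hσ𝒬, hσmin⟩ := id hσ
  let D : LinearMap.GeneralLinearGroup k M → (M →ₗ[k] M) := fun τ => (τ : M →ₗ[k] M) - 1
  have hcoe : ∀ τ : LinearMap.GeneralLinearGroup k M, (τ : M →ₗ[k] M) = 1 + D τ := fun τ => (add_sub_cancel _ _).symm
  set E := Cfsg.sameActionClass G σ
  have hz : ∀ τ ∈ E, ∀ τ' ∈ E, D τ * D τ' = 0 := by
    intro τ hτ τ' hτ'
    refine LinearMap.ext fun m => ?_
    show D τ (D τ' m) = 0
    rw [← LinearMap.mem_ker, show LinearMap.ker (D τ) = LinearMap.ker (D τ') from hτ.2.1.trans hτ'.2.1.symm,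
      LinearMap.mem_ker]
    exact LinearMap.congr_fun hτ'.1.1.2.1.1 m
  have hmul : ∀ τ ∈ E, ∀ τ' ∈ E, D (τ * τ') = D τ + D τ' := by
    intro τ hτ τ' hτ'
    show ((τ * τ' : LinearMap.GeneralLinearGroup k M) : M →ₗ[k] M) - 1 = _
    rw [Units.val_mul, hcoe τ, hcoe τ', mul_add, add_mul, add_mul, one_mul, mul_one, one_mul, hz τ hτ τ' hτ']
    abel
  have hscal : ∀ τ ∈ E, ∀ c : k, ∃ g ∈ G, (g : M →ₗ[k] M) = 1 + c • D τ := by
    intro τ hτ c
    have hsq := hτ.1.1.2.1.1
    let u : LinearMap.GeneralLinearGroup k M :=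
      ⟨1 + c • D τ, 1 - c • D τ, by
        rw [mul_sub, mul_one, add_mul, one_mul, smul_mul_smul_comm]
        simp only [D]; rw [hsq, smul_zero]; abel, by
        rw [mul_add, mul_one, sub_mul, one_mul, smul_mul_smul_comm]
        simp only [D]; rw [hsq, smul_zero]; abel⟩
    exact ⟨u, hτ.1.1.2.2 ⟨c, rfl⟩, rfl⟩
  have hclass : ∀ x : LinearMap.GeneralLinearGroup k M, x ∈ G → (∀ c : k, ∃ g ∈ G, (g : M →ₗ[k] M) = 1 + c • D x) →
      D x * D x = 0 → LinearMap.ker (D σ) ≤ LinearMap.ker (D x) → LinearMap.range (D x) ≤ LinearMap.range (D σ) →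
      x ∈ E ∪ {1} := by
    intro x hxG hxs hxx hker hran
    by_cases h0 : D x = 0
    · refine Or.inr (Units.ext ?_)
      rw [hcoe x, h0, add_zero]
      rfl
    have hx𝒬 : x ∈ Cfsg.quadraticElements G := ⟨hxG, ⟨hxx, h0⟩, by
      rintro τ ⟨c, hc⟩
      obtain ⟨g, hg, hge⟩ := hxs c
      rw [show τ = g from Units.ext (hc.trans hge.symm)]
      exact hg⟩
    have hge := hσmin x hx𝒬
    have hreq : LinearMap.range (D x) = LinearMap.range (D σ) := Submodule.eq_of_le_of_finrank_le hran hge
    have hkeq : LinearMap.ker (D σ) = LinearMap.ker (D x) := by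
      refine Submodule.eq_of_le_of_finrank_le hker ?_
      have e1 := LinearMap.finrank_range_add_finrank_ker (D x)
      have e2 := LinearMap.finrank_range_add_finrank_ker (D σ)
      rw [hreq] at e1
      omega
    refine Or.inl ⟨⟨hx𝒬, fun τ hτ => ?_⟩, hkeq.symm, hreq⟩
    show Module.finrank k (LinearMap.range (D x)) ≤ _
    rw [hreq]
    exact hσmin τ hτ
  have hσE : σ ∈ E := ⟨hσ, rfl, rfl⟩
  let H : Subgroup (LinearMap.GeneralLinearGroup k M) :=
    { carrier := E ∪ {1}
      one_mem' := Or.inr rfl
      mul_mem' := by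
        rintro x y (hx | rfl) hy
        swap
        · rwa [one_mul]
        rcases hy with hy | rfl
        swap
        · rw [mul_one]; exact Or.inl hx
        refine hclass _ (mul_mem hx.1.1.1 hy.1.1.1) (fun c => ?_) ?_ ?_ ?_
        · obtain ⟨g, hg, hge⟩ := hscal x hx c
          obtain ⟨g', hg', hge'⟩ := hscal y hy c
          refine ⟨g * g', mul_mem hg hg', ?_⟩
          rw [Units.val_mul, hge, hge', mul_add, add_mul, add_mul, one_mul, mul_one, one_mul, smul_mul_smul_comm,
            hz x hx y hy, smul_zero, hmul x hx y hy, smul_add]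
          abel
        · rw [hmul x hx y hy, add_mul, mul_add, mul_add, hz x hx x hx, hz x hx y hy, hz y hy x hx, hz y hy y hy]
          simp
        · intro m hm
          rw [hmul x hx y hy, LinearMap.mem_ker, LinearMap.add_apply,
            LinearMap.mem_ker.mp (show m ∈ LinearMap.ker (D x) from hx.2.1.ge hm),
            LinearMap.mem_ker.mp (show m ∈ LinearMap.ker (D y) from hy.2.1.ge hm), add_zero]
        · rw [hmul x hx y hy]
          rintro _ ⟨m, rfl⟩
          rw [LinearMap.add_apply]
          exact add_mem (hx.2.2.le ⟨m, rfl⟩) (hy.2.2.le ⟨m, rfl⟩)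
      inv_mem' := by
        rintro x (hx | rfl)
        swap
        · exact Or.inr inv_one
        have hinv : D x⁻¹ = -D x := by
          have h1 : ((x⁻¹ : LinearMap.GeneralLinearGroup k M) : M →ₗ[k] M) = 1 - D x := by
            refine Units.inv_eq_of_mul_eq_one_right ?_
            rw [hcoe x, mul_sub, mul_one, add_mul, one_mul, hz x hx x hx]
            abel
          show ((x⁻¹ : LinearMap.GeneralLinearGroup k M) : M →ₗ[k] M) - 1 = _
          rw [h1]
          abel
        refine hclass _ (inv_mem hx.1.1.1) (fun c => ?_) ?_ ?_ ?_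
        · obtain ⟨g, hg, hge⟩ := hscal x hx (-c)
          exact ⟨g, hg, by rw [hge, hinv, smul_neg, neg_smul]⟩
        · rw [hinv, neg_mul_neg, hz x hx x hx]
        · rw [hinv, LinearMap.ker_neg]; exact hx.2.1.ge
        · rw [hinv, LinearMap.range_neg]; exact hx.2.2.le }
  have hEH : Cfsg.sameActionSubgroup G σ = H := by
    refine le_antisymm ((Subgroup.closure_le _).mpr fun x hx => Or.inl hx) ?_
    rintro x (hx | rfl)
    · exact Subgroup.subset_closure hx
    · exact one_mem _
  have hcomm : ∀ x ∈ H, ∀ y ∈ H, x * y = y * x := by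
    rintro x (hx | rfl) y hy
    swap
    · rw [one_mul, mul_one]
    rcases hy with hy | rfl
    swap
    · rw [one_mul, mul_one]
    refine Units.ext ?_
    rw [hcoe (x * y), hcoe (y * x), hmul x hx y hy, hmul y hy x hx, add_comm (D x)]
  refine ⟨by rw [hEH]; rfl, ⟨⟨fun x y => Subtype.ext (hcomm x.1 (hEH ▸ x.2) y.1 (hEH ▸ y.2))⟩⟩, ?_⟩
  intro p hp hchar x hx
  rw [hEH] at hx
  rcases hx with hx | rfl
  swap
  · exact one_pow p
  have hpow : ∀ j : ℕ, ((x ^ j : LinearMap.GeneralLinearGroup k M) : M →ₗ[k] M) = 1 + (j : k) • D x := by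
    intro j
    induction j with
    | zero => simp
    | succ j ih =>
      rw [pow_succ, Units.val_mul, ih, hcoe x, mul_add, add_mul, add_mul, one_mul, mul_one, one_mul, smul_mul_assoc,
        hz x hx x hx, smul_zero, Nat.cast_succ, add_smul, one_smul]
      abel
  refine Units.ext ?_
  haveI : CharP k p := hchar ▸ ringChar.charP k
  rw [hpow, CharP.cast_eq_zero, zero_smul, add_zero]
  rfl

end Cfsg.Agent.S5059
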