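import Cfsg.Statements.S5060
import Cfsg.Agent.Lib.QPair.Generate

set_option autoImplicit false
open Cfsg

namespace Cfsg.Agent.S5060

open Matrix

/-- Let k ⊆ K be fields with the characteristic of k not 2 and k not of order 3, and let α ∈ K be a non-zero element algebraic over k. Then the subgroup of SL₂(K) generated by the upper unitriangular matrices with entry c and the lower unitriangular matrices with entry cα, c ranging over k, is exactly the group of matrices of SL₂(K) with all entries in k(α). -/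
theorem result {k K : Type*} [Field k] [Field K] [Algebra k K] (hk2 : ringChar k ≠ 2) (hk3 : Nat.card k ≠ 3)
    (α : K) (hα : IsAlgebraic k α) (hα0 : α ≠ 0) :
    (Subgroup.closure ({g : Matrix.SpecialLinearGroup (Fin 2) K | ∃ c : k, (g : Matrix (Fin 2) (Fin 2) K) = !![1, algebraMap k K c; 0, 1]} ∪
        {g : Matrix.SpecialLinearGroup (Fin 2) K | ∃ c : k, (g : Matrix (Fin 2) (Fin 2) K) = !![1, 0; algebraMap k K c * α, 1]}) :
      Set (Matrix.SpecialLinearGroup (Fin 2) K)) =
    {g : Matrix.SpecialLinearGroup (Fin 2) K | ∀ i j : Fin 2, (g : Matrix (Fin 2) (Fin 2) K) i j ∈ IntermediateField.adjoin k ({α} : Set K)} := by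
  classical
  set E := IntermediateField.adjoin k ({α} : Set K) with hE
  have hint : IsIntegral k α := hα.isIntegral
  let pb := IntermediateField.adjoin.powerBasis hint
  have hgen : (pb.gen : K) = α := by simp [pb]
  have hg0 : pb.gen ≠ 0 := fun h => hα0 (by rw [← hgen, h]; simp)
  set S : Subgroup (SpecialLinearGroup (Fin 2) K) := Subgroup.closure _ with hS
  set φ : SpecialLinearGroup (Fin 2) E →* SpecialLinearGroup (Fin 2) K :=
    SpecialLinearGroup.map (algebraMap E K) with hφ
  have htop : S.comap φ = ⊤ := Cfsg.Agent.Lib.QPair.eq_top_of_root_groups pb hg0 hk2 hk3 _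
    (fun c => Subgroup.subset_closure (Or.inl ⟨c, by
      ext i j; fin_cases i <;> fin_cases j <;> simp [hφ, Cfsg.Lib.Linear.Dickson.tU_coe]⟩))
    (fun c => Subgroup.subset_closure (Or.inr ⟨c, by
      ext i j; fin_cases i <;> fin_cases j <;>
        simp [hφ, Cfsg.Lib.Linear.Dickson.tL_coe, hgen] <;>
        rw [← hgen] <;> rfl⟩))
  have hrange : S ≤ φ.range := by
    rw [hS, Subgroup.closure_le]
    rintro g (⟨c, hc⟩ | ⟨c, hc⟩)
    · exact ⟨Cfsg.Lib.Linear.Dickson.tU (algebraMap k E c), by
        apply Subtype.ext; rw [hc]; ext i j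
        fin_cases i <;> fin_cases j <;> simp [hφ, Cfsg.Lib.Linear.Dickson.tU_coe]⟩
    · exact ⟨Cfsg.Lib.Linear.Dickson.tL (algebraMap k E c * pb.gen), by
        apply Subtype.ext; rw [hc]; ext i j
        fin_cases i <;> fin_cases j <;> simp [hφ, Cfsg.Lib.Linear.Dickson.tL_coe, hgen]⟩
  ext g
  constructor
  · intro hg i j
    obtain ⟨g', rfl⟩ := hrange hg
    exact (g' i j).2
  · intro hg
    let M : Matrix (Fin 2) (Fin 2) E := fun i j => ⟨g i j, hg i j⟩
    have hM : M.det = 1 := (algebraMap E K).injective (by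
      rw [RingHom.map_det, map_one]
      exact g.2)
    have hmem : φ ⟨M, hM⟩ ∈ S :=
      Subgroup.mem_comap.mp (htop.ge (Subgroup.mem_top _))
    have he : φ ⟨M, hM⟩ = g := Subtype.ext (by ext i j; rfl)
    exact he ▸ hmem

end Cfsg.Agent.S5060
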