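import Cfsg.Statements.S5061
import Cfsg.Agent.Lib.QPair.Unipotent

set_option autoImplicit false
open Cfsg

namespace Cfsg.Agent.S5061

/-- Let M be a finite-dimensional vector space over a field k, G ≤ GL(M), and 𝒲 a set of subgroups of G, invariant under conjugation by G, such that any two members of 𝒲 generate a subgroup acting unipotently on M (for some n all products of n endomorphisms g − 1 from it vanish). Then the subgroup generated by all members of 𝒲 acts unipotently on M and is normal in G. -/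
theorem result {k : Type*} [Field k] {M : Type*} [AddCommGroup M] [Module k M] [FiniteDimensional k M]
    {G : Subgroup (LinearMap.GeneralLinearGroup k M)} {W : Set (Subgroup (LinearMap.GeneralLinearGroup k M))} (hWG : ∀ A ∈ W, A ≤ G)
    (hWW : ∀ A ∈ W, ∀ B ∈ W, Cfsg.IsUnipotentOn (A ⊔ B)) (hWconj : ∀ A ∈ W, ∀ g ∈ G, Cfsg.conjBy A g ∈ W) :
    Cfsg.IsUnipotentOn (⨆ A ∈ W, A) ∧ ∀ g ∈ G, Cfsg.conjBy (⨆ A ∈ W, A) g = ⨆ A ∈ W, A := by
  have hu := Cfsg.Agent.Lib.QPair.gen_unipotent hWG hWW hWconj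
  have hle : ∀ g ∈ G, Cfsg.conjBy (⨆ A ∈ W, A) g ≤ ⨆ A ∈ W, A := by
    intro g hg
    show (⨆ A ∈ W, A).map _ ≤ _
    simp only [Subgroup.map_iSup]
    exact iSup₂_le fun A hA => le_iSup₂ (f := fun B _ => B) (Cfsg.conjBy A g) (hWconj A hA g hg)
  refine ⟨hu, fun g hg => le_antisymm (hle g hg) fun x hx => ?_⟩
  rw [Cfsg.Agent.Lib.RankOne.mem_conjBy]
  have := hle g⁻¹ (inv_mem hg) (Cfsg.Agent.Lib.RankOne.conj_mem_conjBy (g := g⁻¹) hx)
  simpa using this

end Cfsg.Agent.S5061
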