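import Cfsg.Statements.S5065
import Cfsg.Agent.Lib.QPair.Cases

set_option autoImplicit false
universe u
open Cfsg

namespace Cfsg.Agent.S5065

open Cfsg.Agent.Lib.QPair

/-- Let k be a field of characteristic not 2 with k not of order 3, M a finite-dimensional k-vector space and G ≤ GL(M) such that (G, M) is a quadratic pair (M irreducible for G, and G generated by its quadratically acting elements σ whose scalar family 1 + c(σ − 1), c ∈ k, lies in G). Write 𝒬_d for the quadratic elements of G of minimal commutator rank, E(σ) for the subgroup generated by the members of 𝒬_d with the same fixed space and commutator space as σ, and Σ for the set of these subgroups. For σ, τ ∈ 𝒬_d put A = E(σ), B = E(τ) and X = ⟨A, B⟩. Then either X acts unipotently on M, or A and B are the unipotent subgroups of a special rank one group X; in the latter case X contains exactly one central involution acting as −1 on the commutator space [M, X] and trivially on the fixed space C_M(X), and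 M is the direct sum of C_M(X) and [M, X]. -/
theorem result {k : Type u} [Field k] (hk2 : ringChar k ≠ 2) (hk3 : Nat.card k ≠ 3)
    {M : Type u} [AddCommGroup M] [Module k M] [FiniteDimensional k M]
    {G : Subgroup (LinearMap.GeneralLinearGroup k M)} (hG : Cfsg.IsQuadraticPair G)
    {σ τ : LinearMap.GeneralLinearGroup k M} (hσ : σ ∈ Cfsg.minimalQuadraticElements G) (hτ : τ ∈ Cfsg.minimalQuadraticElements G) :
    Cfsg.IsUnipotentOn (Cfsg.sameActionSubgroup G σ ⊔ Cfsg.sameActionSubgroup G τ) ∨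
    (Cfsg.IsSpecialRankOnePair (Cfsg.sameActionSubgroup G σ) (Cfsg.sameActionSubgroup G τ) ∧
      (∃! i : LinearMap.GeneralLinearGroup k M, i ∈ Cfsg.sameActionSubgroup G σ ⊔ Cfsg.sameActionSubgroup G τ ∧ i ≠ 1 ∧ i * i = 1 ∧
        (∀ x ∈ Cfsg.sameActionSubgroup G σ ⊔ Cfsg.sameActionSubgroup G τ, i * x = x * i) ∧
        (∀ m ∈ Cfsg.commutatorSubmodule (Cfsg.sameActionSubgroup G σ ⊔ Cfsg.sameActionSubgroup G τ), (i : M →ₗ[k] M) m = -m) ∧
        (∀ m ∈ Cfsg.fixedSubmodule (Cfsg.sameActionSubgroup G σ ⊔ Cfsg.sameActionSubgroup G τ), (i : M →ₗ[k] M) m = m)) ∧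
      IsCompl (Cfsg.fixedSubmodule (Cfsg.sameActionSubgroup G σ ⊔ Cfsg.sameActionSubgroup G τ))
        (Cfsg.commutatorSubmodule (Cfsg.sameActionSubgroup G σ ⊔ Cfsg.sameActionSubgroup G τ))) := by
  by_cases hN : IsNilpotent (dd σ * dd τ)
  · exact Or.inl (unipotent_groups hk2 hk3 hσ hτ hN)
  refine Or.inr ⟨rankOne_of hk2 hk3 hσ hτ hN, ?_⟩
  set A := Cfsg.sameActionSubgroup G σ with hA
  set B := Cfsg.sameActionSubgroup G τ with hB
  have hX := root_of_minimal hσ
  have hY := root_of_minimal hτ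
  obtain ⟨f, P⟩ := exists_good hk2 hk3 hX hY hN
  have : Fact (Irreducible f) := ⟨P.irr⟩
  obtain ⟨i, hi, hiX, hiY, hi0⟩ := P.exists_involution hk2 hk3
  set I := LinearMap.range (dd σ)
  set J := LinearMap.range (dd τ)
  set Z := LinearMap.ker (dd σ) ⊓ LinearMap.ker (dd τ)
  have hfix : Cfsg.fixedSubmodule (A ⊔ B) = Z := by
    refine le_antisymm (fun m hm => ?_) fun m hm => ?_
    · have h1 := (Submodule.mem_iInf _).mp ((Submodule.mem_iInf _).mp hm σ)
        (Subgroup.mem_sup_left ((mem_root_group hσ).mpr ⟨hσ.1.1, self_mem_sp hX⟩))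
      have h2 := (Submodule.mem_iInf _).mp ((Submodule.mem_iInf _).mp hm τ)
        (Subgroup.mem_sup_right ((mem_root_group hτ).mpr ⟨hτ.1.1, self_mem_sp hY⟩))
      exact ⟨h1, h2⟩
    · refine (Submodule.mem_iInf _).mpr fun g => (Submodule.mem_iInf _).mpr fun hg => ?_
      show dd g m = 0
      rw [Subgroup.sup_eq_closure] at hg
      induction hg using Subgroup.closure_induction with
      | mem g hg =>
        rcases hg with hg | hg
        · exact sp_ker ((mem_root_group hσ).mp hg).2 hm.1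
        · exact sp_ker ((mem_root_group hτ).mp hg).2 hm.2
      | one => rw [dd_one]; rfl
      | mul x y _ _ hx hy => simp [dd_mul, hx, hy]
      | inv x _ hx =>
        have h := dd_mul x⁻¹ x
        rw [inv_mul_cancel, dd_one] at h
        have h' := LinearMap.congr_fun h m
        simpa [hx] using h'.symm
  have hcom : Cfsg.commutatorSubmodule (A ⊔ B) = I ⊔ J := by
    refine le_antisymm (iSup₂_le fun g hg => ?_) (sup_le ?_ ?_)
    · show LinearMap.range (dd g) ≤ _
      rw [Subgroup.sup_eq_closure] at hg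
      induction hg using Subgroup.closure_induction with
      | mem g hg =>
        rcases hg with hg | hg
        · exact (sp_range ((mem_root_group hσ).mp hg).2).trans le_sup_left
        · exact (sp_range ((mem_root_group hτ).mp hg).2).trans le_sup_right
      | one => simp [dd_one]
      | mul x y _ _ hx hy =>
        rw [dd_mul]
        exact (LinearMap.range_add_le _ _).trans (sup_le ((LinearMap.range_add_le _ _).trans (sup_le hx hy))
          ((range_mul_le _ _).trans hx))
      | inv x _ hx =>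
        rintro _ ⟨m, rfl⟩
        have h := LinearMap.congr_fun (show dd x⁻¹ = -(dd x + dd x * dd x⁻¹) by
          have h := dd_mul x x⁻¹
          rw [mul_inv_cancel, dd_one] at h
          rw [eq_neg_iff_add_eq_zero, h]; abel) m
        rw [h]
        exact neg_mem (add_mem (hx ⟨m, rfl⟩) (hx ⟨_, rfl⟩))
    · exact le_iSup₂ (f := fun g (_ : g ∈ A ⊔ B) => LinearMap.range ((g : M →ₗ[k] M) - 1)) σ
        (Subgroup.mem_sup_left ((mem_root_group hσ).mpr ⟨hσ.1.1, self_mem_sp hX⟩))
    · exact le_iSup₂ (f := fun g (_ : g ∈ A ⊔ B) => LinearMap.range ((g : M →ₗ[k] M) - 1)) τ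
        (Subgroup.mem_sup_right ((mem_root_group hτ).mpr ⟨hτ.1.1, self_mem_sp hY⟩))
  have hiIJ : ∀ m ∈ I ⊔ J, (i : M →ₗ[k] M) m = -m := by
    intro m hm
    obtain ⟨a, ha, b, hb, rfl⟩ := Submodule.mem_sup.mp hm
    rw [map_add, hiX a ha, hiY b hb, neg_add]
  have hiZ : ∀ m ∈ Z, (i : M →ₗ[k] M) m = m := fun m hm => hi0 m hm.1 hm.2
  have h2 : (2 : k) ≠ 0 := Ring.two_ne_zero hk2
  have hcompl : IsCompl Z (I ⊔ J) := by
    refine ⟨disjoint_iff_inf_le.mpr ?_, codisjoint_iff_le_sup.mpr fun m _ => ?_⟩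
    · rintro m ⟨hm, hm'⟩
      have h := (hiZ m hm).symm.trans (hiIJ m hm')
      rw [eq_neg_iff_add_eq_zero, ← two_smul k, smul_eq_zero] at h
      exact h.resolve_left h2
    · obtain ⟨a, b, z, ha, hb, hz, hz', rfl⟩ := P.split m
      exact add_mem (Submodule.mem_sup_right (add_mem (Submodule.mem_sup_left ha) (Submodule.mem_sup_right hb)))
        (Submodule.mem_sup_left ⟨hz, hz'⟩)
  have hsplit : ∀ m, ∃ z ∈ Z, ∃ w ∈ I ⊔ J, m = z + w := fun m => by
    obtain ⟨z, hz, w, hw, e⟩ := Submodule.mem_sup.mp (hcompl.sup_eq_top.ge (Submodule.mem_top (x := m)))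
    exact ⟨z, hz, w, hw, e.symm⟩
  have hiAB : i ∈ A ⊔ B := by
    refine (Subgroup.closure_le _).mpr ?_ hi
    rintro g (⟨c, hc⟩ | ⟨c, hc⟩)
    · obtain ⟨g', hg', e⟩ := hX.fam c
      obtain rfl : g = g' := dd_injective (hc.trans e.symm)
      exact Subgroup.mem_sup_left ((mem_root_group hσ).mpr ⟨hg', hc ▸ Submodule.smul_mem _ c (self_mem_sp hX)⟩)
    · obtain ⟨g', hg', e⟩ := hY.fam c
      obtain rfl : g = g' := dd_injective (hc.trans e.symm)
      exact Subgroup.mem_sup_right ((mem_root_group hτ).mpr ⟨hg', hc ▸ Submodule.smul_mem _ c (self_mem_sp hY)⟩)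
  rw [hfix, hcom]
  refine ⟨⟨i, ⟨hiAB, ?_, ?_, ?_, hiIJ, hiZ⟩, ?_⟩, hcompl⟩
  · intro h
    obtain ⟨u, hu⟩ : ∃ u, dd σ u ≠ 0 := by
      by_contra h; push Not at h; exact hX.ne (LinearMap.ext h)
    have := hiX _ (LinearMap.mem_range_self (dd σ) u)
    rw [h, Units.val_one, Module.End.one_apply, eq_neg_iff_add_eq_zero, ← two_smul k, smul_eq_zero] at this
    exact hu (this.resolve_left h2)
  · refine Units.ext (LinearMap.ext fun m => ?_)
    obtain ⟨z, hz, w, hw, rfl⟩ := hsplit m
    show (i : M →ₗ[k] M) ((i : M →ₗ[k] M) (z + w)) = z + w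
    rw [map_add, hiZ z hz, hiIJ w hw, map_add, map_neg, hiZ z hz, hiIJ w hw, neg_neg]
  · intro x hx
    refine Units.ext (LinearMap.ext fun m => ?_)
    obtain ⟨z, hz, w, hw, rfl⟩ := hsplit m
    have hxw : (x : M →ₗ[k] M) w ∈ I ⊔ J := by
      rw [show (x : M →ₗ[k] M) w = dd x w + w by simp [dd]]
      refine add_mem ?_ hw
      have hle : LinearMap.range (dd x) ≤ I ⊔ J :=
        hcom ▸ le_iSup₂ (f := fun g (_ : g ∈ A ⊔ B) => LinearMap.range ((g : M →ₗ[k] M) - 1)) x hx
      exact hle ⟨w, rfl⟩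
    have hxz : (x : M →ₗ[k] M) z = z := by
      have h1 : z ∈ Cfsg.fixedSubmodule (A ⊔ B) := hfix ▸ hz
      exact sub_eq_zero.mp ((Submodule.mem_iInf _).mp ((Submodule.mem_iInf _).mp h1 x) hx)
    show (i : M →ₗ[k] M) ((x : M →ₗ[k] M) (z + w)) = (x : M →ₗ[k] M) ((i : M →ₗ[k] M) (z + w))
    rw [map_add, map_add, map_add, hiZ z hz, hiIJ w hw, hxz, map_add, map_neg, hiIJ _ hxw, hiZ z hz, hxz]
  · rintro j ⟨-, -, -, -, hj1, hj2⟩
    refine Units.ext (LinearMap.ext fun m => ?_)
    obtain ⟨z, hz, w, hw, rfl⟩ := hsplit m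
    rw [map_add, map_add, hj1 w hw, hj2 z hz, hiZ z hz, hiIJ w hw]

end Cfsg.Agent.S5065
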