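import Cfsg.Statements.S5066
import Cfsg.Agent.Lib.QPair.Cases

set_option autoImplicit false
universe u
open Cfsg

namespace Cfsg.Agent.S5066

open Cfsg.Agent.Lib.QPair

/-- Let k be a field of characteristic not 2 with k not of order 3, M a finite-dimensional k-vector space and G ≤ GL(M) such that (G, M) is a quadratic pair (M irreducible for G, and G generated by its quadratically acting elements σ whose scalar family 1 + c(σ − 1), c ∈ k, lies in G). Write 𝒬_d for the quadratic elements of G of minimal commutator rank, E(σ) for the subgroup generated by the members of 𝒬_d with the same fixed space and commutator space as σ, and Σ for the set of these subgroups. Let E, F ∈ Σ generate a subgroup that is nilpotent of class exactly two. Then D = ⁅E, F⁆ belongs to Σ, equals the subgroup generated by the commutators of e with F, and also of E with f, for every non-identity e ∈ E, f ∈ F, and ⟨E, F⟩ lies in U(D), the set of elements g of G normalizing D with (g − 1)M inside the fixed space of D, (g − 1) mapping that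 fixed space into the commutator space of D, and g acting trivially on the commutator space of D. -/
theorem result {k : Type u} [Field k] (hk2 : ringChar k ≠ 2) (hk3 : Nat.card k ≠ 3)
    {M : Type u} [AddCommGroup M] [Module k M] [FiniteDimensional k M]
    {G : Subgroup (LinearMap.GeneralLinearGroup k M)} (hG : Cfsg.IsQuadraticPair G)
    {E F : Subgroup (LinearMap.GeneralLinearGroup k M)} (hE : E ∈ Cfsg.quadraticRootSubgroups G) (hF : F ∈ Cfsg.quadraticRootSubgroups G)
    (h2 : ⁅E ⊔ F, E ⊔ F⁆ ≠ ⊥ ∧ ⁅⁅E ⊔ F, E ⊔ F⁆, E ⊔ F⁆ = ⊥) :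
    ⁅E, F⁆ ∈ Cfsg.quadraticRootSubgroups G ∧
    (∀ e ∈ E, e ≠ 1 → Subgroup.closure ((fun f : LinearMap.GeneralLinearGroup k M => e * f * e⁻¹ * f⁻¹) '' (F : Set (LinearMap.GeneralLinearGroup k M))) = ⁅E, F⁆) ∧
    (∀ f ∈ F, f ≠ 1 → Subgroup.closure ((fun e : LinearMap.GeneralLinearGroup k M => e * f * e⁻¹ * f⁻¹) '' (E : Set (LinearMap.GeneralLinearGroup k M))) = ⁅E, F⁆) ∧
    ((E ⊔ F : Subgroup (LinearMap.GeneralLinearGroup k M)) : Set (LinearMap.GeneralLinearGroup k M)) ⊆ Cfsg.quadraticUnipotentCore G ⁅E, F⁆ := by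
  obtain ⟨σ, hσ, rfl⟩ := hE
  obtain ⟨τ, hτ, rfl⟩ := hF
  have hN := nilpotent_of_class_two hk2 hk3 hσ hτ h2.2
  by_cases hne : dd σ * dd τ - dd τ * dd σ = 0
  · exfalso
    refine h2.1 ?_
    rw [sub_eq_zero] at hne
    rw [Subgroup.commutator_eq_bot_iff_le_centralizer]
    have hc : ∀ a ∈ Cfsg.sameActionSubgroup G σ, ∀ b ∈ Cfsg.sameActionSubgroup G τ, a * b = b * a := fun a ha b hb =>
      commute_iff.mpr (sp_commute_all hk2 (root_of_minimal hσ) (root_of_minimal hτ) hne ((mem_root_group hσ).mp ha).2
        ((mem_root_group hτ).mp hb).2)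
    refine sup_le ?_ ?_ <;>
      rw [Subgroup.le_centralizer_iff, sup_le_iff] <;> constructor <;> intro x hx <;>
        rw [Subgroup.mem_centralizer_iff] <;> intro y hy
    · exact comm_of_mem hσ hy hx
    · exact hc y hy x hx
    · exact (hc x hx y hy).symm
    · exact comm_of_mem hτ hy hx
  obtain ⟨a, b, c, -, -, -, d⟩ := core_of hk2 hk3 hG hσ hτ hN hne
  exact ⟨a, b, c, d⟩

end Cfsg.Agent.S5066
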