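import Cfsg.Statements.S5067
import Cfsg.Agent.Lib.PGroup.MaximalClass
-- import your own Cfsg.Agent.* helpers here

set_option autoImplicit false
open Cfsg
open scoped commutatorElement

namespace Cfsg.Agent.S5067


open Subgroup

theorem class_lt {P : Type*} [Group P] [Group.IsNilpotent P] (hna : ¬ IsMulCommutative P) {E : Subgroup P}
    (hE : IsMulCommutative ↥E) : Group.nilpotencyClass ↥(normalClosure (E : Set P)) < Group.nilpotencyClass P := by
  set M := normalClosure (E : Set P) with hM
  set c := Group.nilpotencyClass P with hc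
  have hc2 : 2 ≤ c := by
    by_contra h
    refine hna ⟨⟨fun a b => commutatorElement_eq_one_iff_mul_comm.1 ?_⟩⟩
    have h1 : (⊤ : Subgroup P).lowerCentralSeries 1 = ⊥ :=
      Subgroup.lowerCentralSeries_eq_bot_iff_nilpotencyClass_le.2 (by omega)
    rw [← mem_bot, ← h1, show (1 : ℕ) = 0 + 1 from rfl, Subgroup.lowerCentralSeries_succ]
    exact commutator_mem_commutator (mem_top a) (mem_top b)
  set D := (⊤ : Subgroup P).lowerCentralSeries 1 with hD
  set T := (⊤ : Subgroup P).lowerCentralSeries 2 with hT
  have hsup : M ≤ E ⊔ D := by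
    haveI : (E ⊔ D).Normal := by
      refine ⟨fun x hx g => ?_⟩
      rw [show g * x * g⁻¹ = ⁅g, x⁆ * x by rw [commutatorElement_def]; group]
      refine mul_mem (mem_sup_right ?_) hx
      rw [hD, show (1 : ℕ) = 0 + 1 from rfl, Subgroup.lowerCentralSeries_succ]
      exact commutator_mem_commutator (mem_top g) (mem_top x)
    exact normalClosure_le_normal fun x hx => mem_sup_left hx
  have hDT : ⁅D, (⊤ : Subgroup P)⁆ ≤ T := (Subgroup.lowerCentralSeries_succ _ 1).ge
  have hMM : ⁅M, M⁆ ≤ T := by
    refine (commutator_mono hsup hsup).trans ?_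
    refine Cfsg.Lib.PGroup.MaxClass.commutator_sup_le ?_ ((commutator_mono le_rfl le_top).trans hDT)
    rw [commutator_comm]
    refine Cfsg.Lib.PGroup.MaxClass.commutator_sup_le ?_ ((commutator_mono le_rfl le_top).trans hDT)
    rw [commutator_le]
    intro a ha b hb
    rw [commutatorElement_eq_one_iff_mul_comm.2
      (congrArg Subtype.val (hE.is_comm.comm (⟨a, ha⟩ : E) ⟨b, hb⟩))]
    exact one_mem _
  have hj : ∀ j, 1 ≤ j → M.lowerCentralSeries j ≤ (⊤ : Subgroup P).lowerCentralSeries (j + 1) := by
    intro j hj
    induction j, hj using Nat.le_induction with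
    | base => rw [show (1 : ℕ) = 0 + 1 from rfl, Subgroup.lowerCentralSeries_succ]; exact hMM
    | succ j hj ih =>
      rw [Subgroup.lowerCentralSeries_succ, Subgroup.lowerCentralSeries_succ _ (j + 1)]
      exact commutator_mono ih le_top
  have h1 : Group.nilpotencyClass ↥M ≤ c - 1 := by
    refine Subgroup.lowerCentralSeries_eq_bot_iff_nilpotencyClass_le.1 ?_
    rw [← Subgroup.map_eq_bot_iff_of_injective _ M.subtype_injective, Subgroup.top_subtype_lowerCentralSeries,
      ← le_bot_iff]
    refine (hj (c - 1) (by omega)).trans (le_of_eq ?_)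
    rw [show c - 1 + 1 = c by omega]
    exact Subgroup.lowerCentralSeries_nilpotencyClass
  omega

/-- Let P be a non-abelian nilpotent p-group (every element of p-power order; P possibly infinite) generated by two abelian subgroups E and F. Then the normal closure of E in P, and likewise that of F, has nilpotency class strictly smaller than that of P. -/
theorem result {P : Type*} [Group P] {p : ℕ} [Fact p.Prime] (hP : IsPGroup p P) [Group.IsNilpotent P]
    (hna : ¬ IsMulCommutative P) {E F : Subgroup P} (hE : IsMulCommutative ↥E) (hF : IsMulCommutative ↥F) (hgen : E ⊔ F = ⊤) :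
    Group.nilpotencyClass ↥(Subgroup.normalClosure (E : Set P)) < Group.nilpotencyClass P ∧
    Group.nilpotencyClass ↥(Subgroup.normalClosure (F : Set P)) < Group.nilpotencyClass P := by
  exact ⟨class_lt hna hE, class_lt hna hF⟩

end Cfsg.Agent.S5067
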