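import Cfsg.Statements.S5068
import Cfsg.Agent.Lib.QPair.Cases

set_option autoImplicit false
universe u
open Cfsg

namespace Cfsg.Agent.S5068

open Cfsg.Agent.Lib.QPair

/-- Let k be a field of characteristic not 2 with k not of order 3, M a finite-dimensional k-vector space and G ≤ GL(M) such that (G, M) is a quadratic pair (M irreducible for G, and G generated by its quadratically acting elements σ whose scalar family 1 + c(σ − 1), c ∈ k, lies in G). Write 𝒬_d for the quadratic elements of G of minimal commutator rank, E(σ) for the subgroup generated by the members of 𝒬_d with the same fixed space and commutator space as σ, and Σ for the set of these subgroups. Let E, F ∈ Σ generate a subgroup acting unipotently on M. Then either E and F commute elementwise, or L = ⁅E, F⁆ belongs to Σ, equals the subgroup generated by the commutators of e with F, and of E with f, for all non-identity e ∈ E, f ∈ F, the group ⟨E, F⟩ is nilpotent of class two, and ⟨E, F⟩ lies in U(L), the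 set of elements g of G normalizing L with (g − 1)M inside the fixed space of L, (g − 1) mapping that fixed space into the commutator space of L, and g acting trivially on the commutator space of L. -/
theorem result {k : Type u} [Field k] (hk2 : ringChar k ≠ 2) (hk3 : Nat.card k ≠ 3)
    {M : Type u} [AddCommGroup M] [Module k M] [FiniteDimensional k M]
    {G : Subgroup (LinearMap.GeneralLinearGroup k M)} (hG : Cfsg.IsQuadraticPair G)
    {E F : Subgroup (LinearMap.GeneralLinearGroup k M)} (hE : E ∈ Cfsg.quadraticRootSubgroups G) (hF : F ∈ Cfsg.quadraticRootSubgroups G)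
    (hu : Cfsg.IsUnipotentOn (E ⊔ F)) :
    ⁅E, F⁆ = ⊥ ∨
    (⁅E, F⁆ ∈ Cfsg.quadraticRootSubgroups G ∧
      (∀ e ∈ E, e ≠ 1 → Subgroup.closure ((fun f : LinearMap.GeneralLinearGroup k M => e * f * e⁻¹ * f⁻¹) '' (F : Set (LinearMap.GeneralLinearGroup k M))) = ⁅E, F⁆) ∧
      (∀ f ∈ F, f ≠ 1 → Subgroup.closure ((fun e : LinearMap.GeneralLinearGroup k M => e * f * e⁻¹ * f⁻¹) '' (E : Set (LinearMap.GeneralLinearGroup k M))) = ⁅E, F⁆) ∧
      ⁅E ⊔ F, E ⊔ F⁆ ≠ ⊥ ∧ ⁅⁅E ⊔ F, E ⊔ F⁆, E ⊔ F⁆ = ⊥ ∧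
      ((E ⊔ F : Subgroup (LinearMap.GeneralLinearGroup k M)) : Set (LinearMap.GeneralLinearGroup k M)) ⊆ Cfsg.quadraticUnipotentCore G ⁅E, F⁆) := by
  obtain ⟨σ, hσ, rfl⟩ := hE
  obtain ⟨τ, hτ, rfl⟩ := hF
  by_cases hN : IsNilpotent (dd σ * dd τ)
  · by_cases hne : dd σ * dd τ - dd τ * dd σ = 0
    · left
      rw [sub_eq_zero] at hne
      rw [Cfsg.Agent.Lib.RankOne.commutator_eq_bot_iff]
      exact fun a ha b hb =>
        commute_iff.mpr (sp_commute_all hk2 (root_of_minimal hσ) (root_of_minimal hτ) hne ((mem_root_group hσ).mp ha).2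
          ((mem_root_group hτ).mp hb).2)
    · obtain ⟨a, b, c, e1, e2, -, d⟩ := core_of hk2 hk3 hG hσ hτ hN hne
      exact Or.inr ⟨a, b, c, e1, e2, d⟩
  · exfalso
    obtain ⟨f, P⟩ := exists_good hk2 hk3 (root_of_minimal hσ) (root_of_minimal hτ) hN
    have : Fact (Irreducible f) := ⟨P.irr⟩
    obtain ⟨e, -, b, -, heG, hbG, hee, hb, hb0, -, -, hXbX, -⟩ := P.exists_swap hk2 hk3
    obtain ⟨n, hn⟩ := unipotent_iff.mp hu
    have hmem : dd e ∈ ddSpan (Cfsg.sameActionSubgroup G σ ⊔ Cfsg.sameActionSubgroup G τ) :=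
      dd_mem_span (Subgroup.mem_sup_left ((mem_root_group hσ).mpr ⟨heG, by rw [hee]; exact self_mem_sp (root_of_minimal hσ)⟩))
    have hmemb : dd b ∈ ddSpan (Cfsg.sameActionSubgroup G σ ⊔ Cfsg.sameActionSubgroup G τ) :=
      dd_mem_span (Subgroup.mem_sup_right ((mem_root_group hτ).mpr ⟨hbG, hb⟩))
    refine P.not_nilpotent (self_mem_sp (root_of_minimal hσ)) (root_of_minimal hσ).ne hb hb0 ⟨n, ?_⟩
    have h1 : (dd σ * dd b) ^ n ∈ (ddSpan (Cfsg.sameActionSubgroup G σ ⊔ Cfsg.sameActionSubgroup G τ)) ^ n :=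
      Submodule.pow_mem_pow _ (ddSpan_mul_self _ (Submodule.mul_mem_mul (hee ▸ hmem) hmemb)) n
    rwa [hn, Submodule.mem_bot] at h1

end Cfsg.Agent.S5068
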