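import Cfsg.Statements.S5070
import Cfsg.Agent.Lib.Transv.Family
import Cfsg.Agent.S0765

set_option autoImplicit false
open Matrix
open Cfsg

namespace Cfsg.Agent.S5070

open Cfsg.Agent.Lib.Transv Matrix

section
variable {F : Type*} [Field F] {m : ℕ}

/-- The action on column vectors. -/
noncomputable def act : ↥(Matrix.symplecticGroup (Fin m) F) →* ((Fin m ⊕ Fin m → F) ≃ₗ[F] (Fin m ⊕ Fin m → F)) :=
  (Cfsg.Lib.Linear.Symp.iso (Cfsg.Lib.Linear.Symp.spB m F)).subtype.comp Cfsg.Lib.Linear.Symp.spEquiv.toMonoidHom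

theorem act_apply (g : ↥(Matrix.symplecticGroup (Fin m) F)) (v : Fin m ⊕ Fin m → F) :
    act g v = (g : Matrix (Fin m ⊕ Fin m) (Fin m ⊕ Fin m) F) *ᵥ v := rfl

theorem act_injective : Function.Injective (act (F := F) (m := m)) :=
  Subtype.coe_injective.comp Cfsg.Lib.Linear.Symp.spEquiv.injective

/-- The functional of a vector. -/
noncomputable def phi (p : Fin m ⊕ Fin m → F) : Module.Dual F (Fin m ⊕ Fin m → F) := (Cfsg.Lib.Linear.Symp.spB m F).flip p

theorem phi_apply (p x : Fin m ⊕ Fin m → F) : phi p x = Cfsg.Lib.Linear.Symp.spB m F x p := rfl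

theorem phi_self (p : Fin m ⊕ Fin m → F) : phi p p = 0 := Cfsg.Lib.Linear.Symp.spB_isAlt m F p

theorem phi_symm (p q : Fin m ⊕ Fin m → F) : phi p q = 0 ↔ phi q p = 0 := by
  rw [phi_apply, phi_apply, ← LinearMap.IsAlt.neg (Cfsg.Lib.Linear.Symp.spB_isAlt m F) p q, neg_eq_zero]

theorem phi_ne {p : Fin m ⊕ Fin m → F} (hp : p ≠ 0) : phi p ≠ 0 := fun e =>
  hp ((Cfsg.Lib.Linear.Symp.spB_nondegenerate m F).2 p fun x => LinearMap.congr_fun e x)

/-- The symplectic incidences. -/
def pairs : Set (Module.Dual F (Fin m ⊕ Fin m → F) × (Fin m ⊕ Fin m → F)) := {x | x.2 ≠ 0 ∧ x.1 = phi x.2}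

theorem incidences : Incidences (act (F := F) (m := m)) pairs where
  inj := act_injective
  incident := fun x hx => by rw [hx.2]; exact phi_self _
  left_ne := fun x hx => hx.2 ▸ phi_ne hx.1
  right_ne := fun x hx => hx.1
  le_range := fun x hx h g hg => by
    obtain ⟨c, rfl⟩ := exists_tre hg
    refine ⟨⟨Cfsg.sympTransvection m x.2 c, Cfsg.Lib.Linear.Symp.sympTransvection_mem x.2 c⟩,
      LinearEquiv.ext fun u => ?_⟩
    rw [act_apply, tre_apply, Cfsg.Lib.Linear.Symp.sympTransvection_mulVec]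
    rw [hx.2]
    rfl
  conj := fun x hx g => ⟨fun e => hx.1 ((act g).injective (e.trans (map_zero _).symm)), by
    refine LinearMap.ext fun u => ?_
    show x.1 ((act g).symm u) = phi (act g x.2) u
    rw [hx.2, phi_apply, phi_apply]
    conv_rhs => rw [← (act g).apply_symm_apply u]
    exact ((Cfsg.Lib.Linear.Symp.mem_symplecticGroup_iff _).mp g.2 _ _).symm⟩
  comm := fun x hx y hy h h' => absurd ((phi_symm _ _).mp (by rwa [hy.2] at h')) (by rwa [hx.2] at h)
  comm' := fun x hx y hy h h' => absurd ((phi_symm _ _).mp (by rwa [hx.2] at h)) (by rwa [hy.2] at h')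

theorem connected : Cfsg.IsConnectedFamily (Cfsg.FAdj (rootSetOf (act (F := F) (m := m)) pairs))
    (rootSetOf act pairs) := by
  refine incidences.connected fun x hx y hy => ?_
  obtain ⟨u, hxu, hyu⟩ := exists_both_ne (incidences.left_ne x hx) (incidences.left_ne y hy)
  have hu : u ≠ 0 := fun e => hxu (by rw [e, map_zero])
  refine ⟨(phi u, u), ⟨hu, rfl⟩, hxu, fun e => hxu ?_, hyu, fun e => hyu ?_⟩
  · rw [hx.2]; exact (phi_symm _ _).mp e
  · rw [hy.2]; exact (phi_symm _ _).mp e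

theorem degenerate : Cfsg.IsDegenerateRootSet (rootSetOf (act (F := F) (m := m)) pairs) := by
  rintro _ ⟨x, hx, h, rfl⟩ _ ⟨y, hy, h', rfl⟩ hcc
  obtain ⟨hmem, hcen, hA, -⟩ := hcc
  by_cases h1 : x.1 y.2 = 0
  · have h2 : y.1 x.2 = 0 := by
      rw [hy.2]; rw [hx.2] at h1; exact (phi_symm _ _).mp h1
    obtain ⟨z, hz, h0, e⟩ := hmem
    have := rootG_ne_bot (incidences.le_range z hz h0) (incidences.left_ne z hz) hz.1
    exact this (e.symm.trans (rootG_comm act_injective h1 h2))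
  · have h2 : y.1 x.2 ≠ 0 := by
      rw [hy.2]; rw [hx.2] at h1; exact fun e => h1 ((phi_symm _ _).mp e)
    have hp := (rootG_pair act_injective (incidences.le_range x hx h) (incidences.le_range y hy h') h1 h2).1
    obtain ⟨z, hz, hz0, ez⟩ := hmem
    obtain ⟨a, ea⟩ := incidences.le_range x hx h (tre_mem h (1 : F))
    obtain ⟨b, eb⟩ := incidences.le_range y hy h' (tre_mem h' (1 : F))
    have ha : a ∈ rootG act h := by rw [Subgroup.mem_comap, ea]; exact tre_mem _ _
    have hb : b ∈ rootG act h' := by rw [Subgroup.mem_comap, eb]; exact tre_mem _ _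
    obtain ⟨t, et⟩ := exists_tre (Subgroup.mem_comap.mp (ez ▸ Subgroup.commutator_mem_commutator ha hb))
    have hcomm : ∀ w, ∀ hw : w.1 w.2 = 0, ∀ g ∈ rootG act h ⊔ rootG act h', act g = tre hw (1 : F) →
        t ≠ 0 → w ∈ pairs → w.1 z.2 = 0 := by
      intro w hw g hg eg ht hwP
      by_contra hne
      have hne' : z.1 w.2 ≠ 0 := by
        rw [hz.2]; rw [hwP.2] at hne; exact fun e => hne ((phi_symm _ _).mp e)
      have e := congrArg act (hcen _ (Subgroup.commutator_mem_commutator ha hb) g hg)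
      rw [map_mul, map_mul, et, eg] at e
      obtain ⟨u, hu1, hu2⟩ := exists_both_ne (incidences.left_ne w hwP) (incidences.left_ne z hz)
      have e1 := LinearEquiv.congr_fun e u
      simp only [LinearEquiv.mul_apply, tre_apply, map_add, map_smul, one_mul, smul_eq_mul] at e1
      have e2 : (t * (w.1 u * z.1 w.2)) • z.2 = (t * z.1 u * w.1 z.2) • w.2 := by
        linear_combination (norm := module) e1
      refine hne' ?_
      have e3 := congrArg z.1 e2
      rw [map_smul, map_smul, hz0, smul_zero, smul_eq_mul] at e3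
      exact ((mul_eq_zero.mp e3.symm).resolve_left (mul_ne_zero (mul_ne_zero ht hu2) hne))
    have ht : t ≠ 0 := by
      intro ht
      have e : act (a * b) = act (b * a) := by
        rw [commutatorElement_def, map_mul, map_mul, map_mul, map_inv, map_inv, ht] at et
        rw [show tre hz0 (0 : F) = 1 from LinearEquiv.ext fun u => by simp [tre_apply], mul_inv_eq_one,
          mul_inv_eq_iff_eq_mul] at et
        rw [map_mul, map_mul, et]
      have e1 := LinearEquiv.congr_fun e y.2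
      rw [map_mul, map_mul, ea, eb] at e1
      simp only [LinearEquiv.mul_apply, tre_apply, map_add, map_smul, one_mul, h', zero_smul, add_zero,
        smul_eq_mul] at e1
      have e2 : (x.1 y.2 * y.1 x.2) • y.2 = 0 := by
        linear_combination (norm := module) -e1
      exact mul_ne_zero h1 h2 ((smul_eq_zero.mp e2).resolve_right hy.1)
    have k1 := hcomm x h a (Subgroup.mem_sup_left ha) ea ht hx
    have k2 := hcomm y h' b (Subgroup.mem_sup_right hb) eb ht hy
    obtain ⟨u, hu⟩ := DFunLike.ne_iff.mp (incidences.left_ne z hz)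
    have hspan : ∃ α β : F, (t * z.1 u) • z.2 = α • x.2 + β • y.2 := by
      have e1 := LinearEquiv.congr_fun et u
      rw [commutatorElement_def, map_mul, map_mul, map_mul, map_inv, map_inv, ea, eb,
        show (tre h (1 : F))⁻¹ = tre h (-1 : F) from inv_eq_of_mul_eq_one_right (LinearEquiv.ext fun u => by
          simp [LinearEquiv.mul_apply, tre_apply, h]),
        show (tre h' (1 : F))⁻¹ = tre h' (-1 : F) from inv_eq_of_mul_eq_one_right (LinearEquiv.ext fun u => by
          simp [LinearEquiv.mul_apply, tre_apply, h'])] at e1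
      simp only [LinearEquiv.mul_apply, tre_apply, map_add, map_smul, one_mul, smul_eq_mul, h, h'] at e1
      refine ⟨y.1 u * x.1 y.2 - x.1 u * x.1 y.2 * y.1 x.2 + y.1 u * x.1 y.2 * x.1 y.2 * y.1 x.2,
        -(x.1 u * y.1 x.2) + y.1 u * x.1 y.2 * y.1 x.2, ?_⟩
      linear_combination (norm := module) -e1
    obtain ⟨α, β, e⟩ := hspan
    have e1 := congrArg x.1 e
    have e2 := congrArg y.1 e
    simp only [map_add, map_smul, k1, k2, h, h', smul_eq_mul, mul_zero, zero_add, add_zero] at e1 e2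
    have hb0 : β = 0 := (mul_eq_zero.mp e1.symm).resolve_right h1
    have ha0 : α = 0 := (mul_eq_zero.mp e2.symm).resolve_right h2
    rw [ha0, hb0, zero_smul, zero_smul, add_zero, smul_eq_zero] at e
    exact hz.1 (e.resolve_left (mul_ne_zero ht hu))
end

/-- Let F be a field, m a natural number and V = F^{2(m+1)} with the standard non-degenerate alternating form f(u, v) = uᵀ J v. For a non-zero vector p let T(p) be the group of symplectic transvections v ↦ v + c f(v, p) p, c ∈ F. Then the subgroups T(p), p ≠ 0, generate the symplectic group Sp_{2(m+1)}(F) and form a degenerate class of abstract F-root subgroups of it (any two of them either commute elementwise or are the unipotent subgroups of a rank one group that is an image of SL₂(F) with central kernel, never the commutator case), and their graph of rank one pairs is connected. -/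
theorem result (F : Type*) [Field F] (m : ℕ) :
    Cfsg.IsRootSubgroupClass {A : Subgroup ↥(Matrix.symplecticGroup (Fin (m + 1)) F) | ∃ p : Fin (m + 1) ⊕ Fin (m + 1) → F, p ≠ 0 ∧
        A = Subgroup.closure {g : ↥(Matrix.symplecticGroup (Fin (m + 1)) F) | ∃ c : F, ∀ v : Fin (m + 1) ⊕ Fin (m + 1) → F,
          (g : Matrix (Fin (m + 1) ⊕ Fin (m + 1)) (Fin (m + 1) ⊕ Fin (m + 1)) F) *ᵥ v =
            v + (c * (v ⬝ᵥ (Matrix.J (Fin (m + 1)) F *ᵥ p))) • p}} ∧
    Cfsg.IsDegenerateRootSet {A : Subgroup ↥(Matrix.symplecticGroup (Fin (m + 1)) F) | ∃ p : Fin (m + 1) ⊕ Fin (m + 1) → F, p ≠ 0 ∧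
        A = Subgroup.closure {g : ↥(Matrix.symplecticGroup (Fin (m + 1)) F) | ∃ c : F, ∀ v : Fin (m + 1) ⊕ Fin (m + 1) → F,
          (g : Matrix (Fin (m + 1) ⊕ Fin (m + 1)) (Fin (m + 1) ⊕ Fin (m + 1)) F) *ᵥ v =
            v + (c * (v ⬝ᵥ (Matrix.J (Fin (m + 1)) F *ᵥ p))) • p}} ∧
    Cfsg.IsKRootSubgroupSet F {A : Subgroup ↥(Matrix.symplecticGroup (Fin (m + 1)) F) | ∃ p : Fin (m + 1) ⊕ Fin (m + 1) → F, p ≠ 0 ∧
        A = Subgroup.closure {g : ↥(Matrix.symplecticGroup (Fin (m + 1)) F) | ∃ c : F, ∀ v : Fin (m + 1) ⊕ Fin (m + 1) → F,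
          (g : Matrix (Fin (m + 1) ⊕ Fin (m + 1)) (Fin (m + 1) ⊕ Fin (m + 1)) F) *ᵥ v =
            v + (c * (v ⬝ᵥ (Matrix.J (Fin (m + 1)) F *ᵥ p))) • p}} ∧
    Cfsg.IsConnectedFamily (Cfsg.FAdj {A : Subgroup ↥(Matrix.symplecticGroup (Fin (m + 1)) F) | ∃ p : Fin (m + 1) ⊕ Fin (m + 1) → F, p ≠ 0 ∧
        A = Subgroup.closure {g : ↥(Matrix.symplecticGroup (Fin (m + 1)) F) | ∃ c : F, ∀ v : Fin (m + 1) ⊕ Fin (m + 1) → F,
          (g : Matrix (Fin (m + 1) ⊕ Fin (m + 1)) (Fin (m + 1) ⊕ Fin (m + 1)) F) *ᵥ v =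
            v + (c * (v ⬝ᵥ (Matrix.J (Fin (m + 1)) F *ᵥ p))) • p}})
      {A : Subgroup ↥(Matrix.symplecticGroup (Fin (m + 1)) F) | ∃ p : Fin (m + 1) ⊕ Fin (m + 1) → F, p ≠ 0 ∧
        A = Subgroup.closure {g : ↥(Matrix.symplecticGroup (Fin (m + 1)) F) | ∃ c : F, ∀ v : Fin (m + 1) ⊕ Fin (m + 1) → F,
          (g : Matrix (Fin (m + 1) ⊕ Fin (m + 1)) (Fin (m + 1) ⊕ Fin (m + 1)) F) *ᵥ v =
            v + (c * (v ⬝ᵥ (Matrix.J (Fin (m + 1)) F *ᵥ p))) • p}} := by
  have hset : {A : Subgroup ↥(Matrix.symplecticGroup (Fin (m + 1)) F) | ∃ p : Fin (m + 1) ⊕ Fin (m + 1) → F, p ≠ 0 ∧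
        A = Subgroup.closure {g : ↥(Matrix.symplecticGroup (Fin (m + 1)) F) | ∃ c : F, ∀ v : Fin (m + 1) ⊕ Fin (m + 1) → F,
          (g : Matrix (Fin (m + 1) ⊕ Fin (m + 1)) (Fin (m + 1) ⊕ Fin (m + 1)) F) *ᵥ v =
            v + (c * (v ⬝ᵥ (Matrix.J (Fin (m + 1)) F *ᵥ p))) • p}} = rootSetOf act pairs := by
    have key : ∀ p : Fin (m + 1) ⊕ Fin (m + 1) → F, Subgroup.closure {g : ↥(Matrix.symplecticGroup (Fin (m + 1)) F) | ∃ c : F, ∀ v : Fin (m + 1) ⊕ Fin (m + 1) → F,
          (g : Matrix (Fin (m + 1) ⊕ Fin (m + 1)) (Fin (m + 1) ⊕ Fin (m + 1)) F) *ᵥ v =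
            v + (c * (v ⬝ᵥ (Matrix.J (Fin (m + 1)) F *ᵥ p))) • p} = rootG act (phi_self p) := by
      intro p
      have e : ∀ v, phi p v = v ⬝ᵥ (Matrix.J (Fin (m + 1)) F *ᵥ p) := fun v =>
        (phi_apply p v).trans (Cfsg.Lib.Linear.Symp.spB_apply _ _ v p)
      refine le_antisymm ((Subgroup.closure_le _).mpr ?_) fun g ⟨c, hc⟩ => Subgroup.subset_closure ⟨c, fun v => ?_⟩
      · rintro g ⟨c, hc⟩
        exact ⟨c, fun v => by rw [act_apply, hc v, e]⟩
      · rw [← act_apply, hc v, e]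
    ext A
    constructor
    · rintro ⟨p, hp, rfl⟩
      exact ⟨(phi p, p), ⟨hp, rfl⟩, phi_self p, key p⟩
    · rintro ⟨⟨f, p⟩, ⟨hp, hf⟩, h, rfl⟩
      refine ⟨p, hp, ?_⟩
      simp only at hf
      subst hf
      exact (key p).symm
  rw [hset]
  have hgen : (⨆ A ∈ rootSetOf (act (F := F) (m := m + 1)) pairs, A) = ⊤ := by
    refine top_le_iff.mp ((le_of_eq (Cfsg.Agent.S0765.result (F := F) (m + 1)).symm).trans ?_)
    rw [Subgroup.closure_le]
    rintro g ⟨w, c, hg⟩
    by_cases hw : w = 0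
    · have : g = 1 := Subtype.ext (by rw [hg, hw]; simp [Cfsg.sympTransvection])
      rw [this]; exact one_mem _
    · refine Subgroup.mem_iSup_of_mem _ (Subgroup.mem_iSup_of_mem (incidences.mem (x := (phi w, w)) ⟨hw, rfl⟩) ?_)
      exact ⟨c, fun v => by rw [act_apply, hg, Cfsg.Lib.Linear.Symp.sympTransvection_mulVec]; rfl⟩
  refine ⟨incidences.rootClass hgen connected ?_, degenerate, incidences.kRootSet hgen, connected⟩
  refine ⟨(phi (Pi.single (Sum.inl 0) 1), Pi.single (Sum.inl 0) 1), fun e => ?_, rfl⟩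
  simpa using congrFun e (Sum.inl 0)

end Cfsg.Agent.S5070
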