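import Cfsg.Statements.S5071
import Cfsg.Agent.Lib.Transv.Unitary
import Cfsg.Agent.Lib.Linear.HermStandard
-- import your own Cfsg.Agent.* helpers here

set_option autoImplicit false
open Matrix
open Cfsg

namespace Cfsg.Agent.S5071

open Cfsg.Agent.Lib.Transv Matrix
open Cfsg.Lib.Linear.Herm (hB hB_apply frob frob_apply frob_frob frob_ne_id)

section
variable {F : Type*} [Field F] [Fintype F] {q n : ℕ} (hF : Fintype.card F = q ^ 2)

/-- The action on column vectors. -/
def act : ↥(Cfsg.SU n F q) →* ((Fin n → F) ≃ₗ[F] (Fin n → F)) :=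
  Matrix.SpecialLinearGroup.toLin'.comp (Cfsg.SU n F q).subtype

omit [Fintype F] in
theorem act_apply (g : ↥(Cfsg.SU n F q)) (v : Fin n → F) :
    act g v = ((g : Matrix.SpecialLinearGroup (Fin n) F) : Matrix (Fin n) (Fin n) F) *ᵥ v := Matrix.toLin'_apply _ _

omit [Fintype F] in
theorem act_injective : Function.Injective (act (F := F) (q := q) (n := n)) :=
  Matrix.SpecialLinearGroup.toLin'_injective.comp Subtype.val_injective

theorem act_isometry (g : ↥(Cfsg.SU n F q)) : act g ∈ Cfsg.Lib.Linear.Herm.iso (hB hF n) := fun u v => by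
  rw [hB_apply, hB_apply, act_apply, act_apply]
  exact g.2 v u

include hF in
theorem tre_range (p : Fin n → F) (h : hB hF n p p = 0) (c : F) (hc : c + frob hF c = 0) :
    tre h c ∈ (act (F := F) (q := q) (n := n)).range := by
  set a : Fin n → F := fun i => c * hB hF n p (Pi.single i 1) with ha
  have hdot : ∀ x, a ⬝ᵥ x = c * hB hF n p x := by
    intro x
    conv_rhs => rw [pi_eq_sum_univ' x]
    simp only [map_sum, map_smul, smul_eq_mul, Finset.mul_sum, dotProduct, ha]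
    exact Finset.sum_congr rfl fun i _ => by ring
  let s : Matrix.SpecialLinearGroup (Fin n) F := ⟨1 + Matrix.vecMulVec p a, by
    rw [Matrix.vecMulVec_eq Unit, Matrix.det_one_add_replicateCol_mul_replicateRow, hdot, h, mul_zero, add_zero]⟩
  have hs : ∀ x, (s : Matrix (Fin n) (Fin n) F) *ᵥ x = tre h c x := fun x => by
    rw [tre_apply]
    show (1 + Matrix.vecMulVec p a) *ᵥ x = _
    rw [Matrix.add_mulVec, Matrix.one_mulVec, Matrix.vecMulVec_mulVec, hdot, op_smul_eq_smul]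
  refine ⟨⟨s, fun u v => ?_⟩, LinearEquiv.ext fun x => (act_apply _ x).trans (hs x)⟩
  show Cfsg.hermForm n F q ((s : Matrix (Fin n) (Fin n) F) *ᵥ u) ((s : Matrix (Fin n) (Fin n) F) *ᵥ v) = _
  rw [hs, hs, ← hB_apply hF, ← hB_apply hF, tre_apply, tre_apply]
  simp only [map_add, map_smul, LinearMap.map_smulₛₗ, LinearMap.add_apply, LinearMap.smul_apply, smul_eq_mul,
    map_mul, h, (Cfsg.Lib.Linear.Herm.hB_isSymm hF n).eq p v, RingHom.id_apply]
  linear_combination (hB hF n p u * hB hF n v p) * hc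

theorem root_eq {p : Fin n → F} (hp : p ≠ 0) (h : hB hF n p p = 0) :
    Subgroup.closure {g : ↥(Cfsg.SU n F q) |
      (∀ v : Fin n → F, ∃ c : F, ((g : Matrix.SpecialLinearGroup (Fin n) F) : Matrix (Fin n) (Fin n) F) *ᵥ v = v + c • p) ∧
        ∀ v : Fin n → F, Cfsg.hermForm n F q v p = 0 →
          ((g : Matrix.SpecialLinearGroup (Fin n) F) : Matrix (Fin n) (Fin n) F) *ᵥ v = v} = rootG act h := by
  refine le_antisymm ((Subgroup.closure_le _).mpr ?_) fun g hg => Subgroup.subset_closure ?_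
  · rintro g ⟨h1, h2⟩
    obtain ⟨u, hu⟩ : ∃ u, hB hF n p u ≠ 0 := by
      by_contra hno
      push Not at hno
      exact hp ((Cfsg.Lib.Linear.Herm.hB_nondegenerate hF n).1 p hno)
    set w := (hB hF n p u)⁻¹ • u with hw
    have hw1 : hB hF n p w = 1 := by rw [hw, map_smul, smul_eq_mul, inv_mul_cancel₀ hu]
    obtain ⟨c, hc⟩ := h1 w
    refine ⟨c, fun x => ?_⟩
    have h3 := h2 (x - hB hF n p x • w) (by
      rw [← hB_apply hF, map_sub, map_smul, hw1, smul_eq_mul, mul_one, sub_self])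
    rw [← act_apply, map_sub, map_smul, act_apply g w, hc] at h3
    linear_combination (norm := module) h3
  · obtain ⟨c, hc⟩ := Subgroup.mem_comap.mp hg
    exact ⟨fun v => ⟨c * hB hF n p v, by rw [← act_apply, hc v]⟩,
      fun v hv => by rw [← act_apply, hc v, hB_apply, hv, mul_zero, zero_smul, add_zero]⟩

/-- The fixed field of `x ↦ x ^ q`. -/
noncomputable def fixedField : Subfield F := (frob hF).eqLocusField (RingHom.id F)

theorem mem_fixedField {x : F} : x ∈ fixedField hF ↔ frob hF x = x := Iff.rfl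

theorem card_fixedField : Nat.card (fixedField hF) = q := by
  have hq := Cfsg.Lib.Linear.Herm.two_le_q hF
  have hu : Nat.card (fixedField hF)ˣ = q - 1 := by
    have hk : Nat.card (powMonoidHom (q - 1) : Fˣ →* Fˣ).ker = q - 1 := by
      rw [IsCyclic.card_powMonoidHom_ker, Cfsg.Lib.Linear.Herm.card_units_sq hF, Nat.gcd_mul_left_left]
    rw [← hk]
    have hmem : ∀ x : Fˣ, x ∈ (powMonoidHom (q - 1) : Fˣ →* Fˣ).ker ↔ (x : F) ∈ fixedField hF := by
      intro x
      rw [MonoidHom.mem_ker, powMonoidHom_apply, Units.ext_iff, Units.val_pow_eq_pow_val, Units.val_one,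
        mem_fixedField, frob_apply]
      nth_rewrite 2 [show q = q - 1 + 1 by omega]
      rw [pow_succ]
      exact ⟨fun h => by rw [h, one_mul], fun h => mul_right_cancel₀ x.ne_zero (h.trans (one_mul _).symm)⟩
    refine Nat.card_congr
      { toFun := fun u => ⟨Units.map (fixedField hF).subtype.toMonoidHom u, (hmem _).mpr (u : fixedField hF).2⟩
        invFun := fun x => Units.mk0 ⟨_, (hmem _).mp x.2⟩ fun e => x.1.ne_zero (congrArg Subtype.val e)
        left_inv := fun u => Units.ext (Subtype.ext rfl)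
        right_inv := fun x => Subtype.ext (Units.ext rfl) }
  rw [Nat.card_units] at hu
  have : 1 < Nat.card (fixedField hF) := Finite.one_lt_card
  omega

end

end Cfsg.Agent.S5071

namespace Cfsg.Agent.S5071

open Cfsg.Agent.Lib.Transv Matrix
open Cfsg.Lib.Linear.Herm (hB hB_apply frob frob_apply frob_frob frob_ne_id)

/-- Let F be a finite field with q² elements, n a natural number, and h the Hermitian form Σ uᵢ vᵢ^q on F^{n+2}. For a non-zero isotropic vector p let T(p) be the group of unitary transvections with centre ⟨p⟩: the elements of SU_{n+2}(q) moving every vector by a multiple of p and fixing every vector perpendicular to p. Let Σ be the set of these T(p) and G₀ the subgroup they generate. Then, viewed inside G₀, the members of Σ form a degenerate class of abstract k-root subgroups of G₀ for some field k with q elements (any two commute or are the unipotent subgroups of a rank one group that is an image of SL₂(k) with central kernel,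 never the commutator case), and their graph of rank one pairs is connected. -/
theorem result (F : Type*) [Field F] [Fintype F] (q n : ℕ) (hF : Fintype.card F = q ^ 2) :
    Cfsg.IsRootSubgroupClass ((fun A : Subgroup ↥(Cfsg.SU (n + 2) F q) => A.subgroupOf (⨆ B ∈ {A : Subgroup ↥(Cfsg.SU (n + 2) F q) | ∃ p : Fin (n + 2) → F, p ≠ 0 ∧ Cfsg.hermForm (n + 2) F q p p = 0 ∧
          A = Subgroup.closure {g : ↥(Cfsg.SU (n + 2) F q) |
            (∀ v : Fin (n + 2) → F, ∃ c : F, ((g : Matrix.SpecialLinearGroup (Fin (n + 2)) F) : Matrix (Fin (n + 2)) (Fin (n + 2)) F) *ᵥ v = v + c • p) ∧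
            ∀ v : Fin (n + 2) → F, Cfsg.hermForm (n + 2) F q v p = 0 →
              ((g : Matrix.SpecialLinearGroup (Fin (n + 2)) F) : Matrix (Fin (n + 2)) (Fin (n + 2)) F) *ᵥ v = v}}, B)) ''
      {A : Subgroup ↥(Cfsg.SU (n + 2) F q) | ∃ p : Fin (n + 2) → F, p ≠ 0 ∧ Cfsg.hermForm (n + 2) F q p p = 0 ∧
          A = Subgroup.closure {g : ↥(Cfsg.SU (n + 2) F q) |
            (∀ v : Fin (n + 2) → F, ∃ c : F, ((g : Matrix.SpecialLinearGroup (Fin (n + 2)) F) : Matrix (Fin (n + 2)) (Fin (n + 2)) F) *ᵥ v = v + c • p) ∧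
            ∀ v : Fin (n + 2) → F, Cfsg.hermForm (n + 2) F q v p = 0 →
              ((g : Matrix.SpecialLinearGroup (Fin (n + 2)) F) : Matrix (Fin (n + 2)) (Fin (n + 2)) F) *ᵥ v = v}}) ∧
    Cfsg.IsDegenerateRootSet ((fun A : Subgroup ↥(Cfsg.SU (n + 2) F q) => A.subgroupOf (⨆ B ∈ {A : Subgroup ↥(Cfsg.SU (n + 2) F q) | ∃ p : Fin (n + 2) → F, p ≠ 0 ∧ Cfsg.hermForm (n + 2) F q p p = 0 ∧
          A = Subgroup.closure {g : ↥(Cfsg.SU (n + 2) F q) |
            (∀ v : Fin (n + 2) → F, ∃ c : F, ((g : Matrix.SpecialLinearGroup (Fin (n + 2)) F) : Matrix (Fin (n + 2)) (Fin (n + 2)) F) *ᵥ v = v + c • p) ∧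
            ∀ v : Fin (n + 2) → F, Cfsg.hermForm (n + 2) F q v p = 0 →
              ((g : Matrix.SpecialLinearGroup (Fin (n + 2)) F) : Matrix (Fin (n + 2)) (Fin (n + 2)) F) *ᵥ v = v}}, B)) ''
      {A : Subgroup ↥(Cfsg.SU (n + 2) F q) | ∃ p : Fin (n + 2) → F, p ≠ 0 ∧ Cfsg.hermForm (n + 2) F q p p = 0 ∧
          A = Subgroup.closure {g : ↥(Cfsg.SU (n + 2) F q) |
            (∀ v : Fin (n + 2) → F, ∃ c : F, ((g : Matrix.SpecialLinearGroup (Fin (n + 2)) F) : Matrix (Fin (n + 2)) (Fin (n + 2)) F) *ᵥ v = v + c • p) ∧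
            ∀ v : Fin (n + 2) → F, Cfsg.hermForm (n + 2) F q v p = 0 →
              ((g : Matrix.SpecialLinearGroup (Fin (n + 2)) F) : Matrix (Fin (n + 2)) (Fin (n + 2)) F) *ᵥ v = v}}) ∧
    (∃ (L : Type) (_ : Field L) (_ : Fintype L), Fintype.card L = q ∧ Cfsg.IsKRootSubgroupSet L ((fun A : Subgroup ↥(Cfsg.SU (n + 2) F q) => A.subgroupOf (⨆ B ∈ {A : Subgroup ↥(Cfsg.SU (n + 2) F q) | ∃ p : Fin (n + 2) → F, p ≠ 0 ∧ Cfsg.hermForm (n + 2) F q p p = 0 ∧
          A = Subgroup.closure {g : ↥(Cfsg.SU (n + 2) F q) |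
            (∀ v : Fin (n + 2) → F, ∃ c : F, ((g : Matrix.SpecialLinearGroup (Fin (n + 2)) F) : Matrix (Fin (n + 2)) (Fin (n + 2)) F) *ᵥ v = v + c • p) ∧
            ∀ v : Fin (n + 2) → F, Cfsg.hermForm (n + 2) F q v p = 0 →
              ((g : Matrix.SpecialLinearGroup (Fin (n + 2)) F) : Matrix (Fin (n + 2)) (Fin (n + 2)) F) *ᵥ v = v}}, B)) ''
      {A : Subgroup ↥(Cfsg.SU (n + 2) F q) | ∃ p : Fin (n + 2) → F, p ≠ 0 ∧ Cfsg.hermForm (n + 2) F q p p = 0 ∧
          A = Subgroup.closure {g : ↥(Cfsg.SU (n + 2) F q) |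
            (∀ v : Fin (n + 2) → F, ∃ c : F, ((g : Matrix.SpecialLinearGroup (Fin (n + 2)) F) : Matrix (Fin (n + 2)) (Fin (n + 2)) F) *ᵥ v = v + c • p) ∧
            ∀ v : Fin (n + 2) → F, Cfsg.hermForm (n + 2) F q v p = 0 →
              ((g : Matrix.SpecialLinearGroup (Fin (n + 2)) F) : Matrix (Fin (n + 2)) (Fin (n + 2)) F) *ᵥ v = v}})) ∧
    Cfsg.IsConnectedFamily (Cfsg.FAdj ((fun A : Subgroup ↥(Cfsg.SU (n + 2) F q) => A.subgroupOf (⨆ B ∈ {A : Subgroup ↥(Cfsg.SU (n + 2) F q) | ∃ p : Fin (n + 2) → F, p ≠ 0 ∧ Cfsg.hermForm (n + 2) F q p p = 0 ∧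
          A = Subgroup.closure {g : ↥(Cfsg.SU (n + 2) F q) |
            (∀ v : Fin (n + 2) → F, ∃ c : F, ((g : Matrix.SpecialLinearGroup (Fin (n + 2)) F) : Matrix (Fin (n + 2)) (Fin (n + 2)) F) *ᵥ v = v + c • p) ∧
            ∀ v : Fin (n + 2) → F, Cfsg.hermForm (n + 2) F q v p = 0 →
              ((g : Matrix.SpecialLinearGroup (Fin (n + 2)) F) : Matrix (Fin (n + 2)) (Fin (n + 2)) F) *ᵥ v = v}}, B)) ''
      {A : Subgroup ↥(Cfsg.SU (n + 2) F q) | ∃ p : Fin (n + 2) → F, p ≠ 0 ∧ Cfsg.hermForm (n + 2) F q p p = 0 ∧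
          A = Subgroup.closure {g : ↥(Cfsg.SU (n + 2) F q) |
            (∀ v : Fin (n + 2) → F, ∃ c : F, ((g : Matrix.SpecialLinearGroup (Fin (n + 2)) F) : Matrix (Fin (n + 2)) (Fin (n + 2)) F) *ᵥ v = v + c • p) ∧
            ∀ v : Fin (n + 2) → F, Cfsg.hermForm (n + 2) F q v p = 0 →
              ((g : Matrix.SpecialLinearGroup (Fin (n + 2)) F) : Matrix (Fin (n + 2)) (Fin (n + 2)) F) *ᵥ v = v}})) ((fun A : Subgroup ↥(Cfsg.SU (n + 2) F q) => A.subgroupOf (⨆ B ∈ {A : Subgroup ↥(Cfsg.SU (n + 2) F q) | ∃ p : Fin (n + 2) → F, p ≠ 0 ∧ Cfsg.hermForm (n + 2) F q p p = 0 ∧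
          A = Subgroup.closure {g : ↥(Cfsg.SU (n + 2) F q) |
            (∀ v : Fin (n + 2) → F, ∃ c : F, ((g : Matrix.SpecialLinearGroup (Fin (n + 2)) F) : Matrix (Fin (n + 2)) (Fin (n + 2)) F) *ᵥ v = v + c • p) ∧
            ∀ v : Fin (n + 2) → F, Cfsg.hermForm (n + 2) F q v p = 0 →
              ((g : Matrix.SpecialLinearGroup (Fin (n + 2)) F) : Matrix (Fin (n + 2)) (Fin (n + 2)) F) *ᵥ v = v}}, B)) ''
      {A : Subgroup ↥(Cfsg.SU (n + 2) F q) | ∃ p : Fin (n + 2) → F, p ≠ 0 ∧ Cfsg.hermForm (n + 2) F q p p = 0 ∧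
          A = Subgroup.closure {g : ↥(Cfsg.SU (n + 2) F q) |
            (∀ v : Fin (n + 2) → F, ∃ c : F, ((g : Matrix.SpecialLinearGroup (Fin (n + 2)) F) : Matrix (Fin (n + 2)) (Fin (n + 2)) F) *ᵥ v = v + c • p) ∧
            ∀ v : Fin (n + 2) → F, Cfsg.hermForm (n + 2) F q v p = 0 →
              ((g : Matrix.SpecialLinearGroup (Fin (n + 2)) F) : Matrix (Fin (n + 2)) (Fin (n + 2)) F) *ᵥ v = v}}) := by
  set S := {A : Subgroup ↥(Cfsg.SU (n + 2) F q) | ∃ p : Fin (n + 2) → F, p ≠ 0 ∧ Cfsg.hermForm (n + 2) F q p p = 0 ∧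
          A = Subgroup.closure {g : ↥(Cfsg.SU (n + 2) F q) |
            (∀ v : Fin (n + 2) → F, ∃ c : F, ((g : Matrix.SpecialLinearGroup (Fin (n + 2)) F) : Matrix (Fin (n + 2)) (Fin (n + 2)) F) *ᵥ v = v + c • p) ∧
            ∀ v : Fin (n + 2) → F, Cfsg.hermForm (n + 2) F q v p = 0 →
              ((g : Matrix.SpecialLinearGroup (Fin (n + 2)) F) : Matrix (Fin (n + 2)) (Fin (n + 2)) F) *ᵥ v = v}} with hSdef
  set B := hB hF (n + 2) with hBdef
  have hmemS : ∀ A, A ∈ S ↔ A ∈ unitaryRoots B act := by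
    intro A
    constructor
    · rintro ⟨p, hp, h, rfl⟩
      exact ⟨p, hp, h, root_eq hF hp h⟩
    · rintro ⟨p, hp, h, rfl⟩
      exact ⟨p, hp, h, (root_eq hF hp h).symm⟩
  set G0 := ⨆ A ∈ S, A with hG0
  set ι := (act (F := F) (q := q) (n := n + 2)).comp G0.subtype with hι
  have hroot : ∀ (p : Fin (n + 2) → F) (h : B p p = 0), (rootG act h).subgroupOf G0 = rootG ι h :=
    fun p h => rfl
  have himg : (fun A : Subgroup ↥(Cfsg.SU (n + 2) F q) => A.subgroupOf G0) '' S = unitaryRoots B ι := by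
    ext A
    constructor
    · rintro ⟨A', hA', rfl⟩
      obtain ⟨p, hp, h, rfl⟩ := (hmemS A').mp hA'
      exact ⟨p, hp, h, hroot p h⟩
    · rintro ⟨p, hp, h, rfl⟩
      exact ⟨_, (hmemS _).mpr ⟨p, hp, h, rfl⟩, hroot p h⟩
  rw [himg]
  obtain ⟨e, he0, he⟩ := Cfsg.Lib.Linear.Herm.exists_trace_zero (frob_ne_id hF) (frob_frob hF)
  let L := Shrink.{0} (fixedField hF)
  let eL : L ≃+* fixedField hF := Shrink.ringEquiv _
  let θ : L →+* F := (fixedField hF).subtype.comp eL.toRingHom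
  have hfix : ∀ a, frob hF a = a ↔ a ∈ θ.range := by
    intro a
    constructor
    · intro h
      refine ⟨eL.symm ⟨a, h⟩, ?_⟩
      exact congrArg Subtype.val (eL.apply_symm_apply ⟨a, h⟩)
    · rintro ⟨t, rfl⟩
      exact (eL t).2
  have hU : UnitarySetting B ι θ e := by
    refine ⟨Cfsg.Lib.Linear.Herm.hB_isSymm hF _, Cfsg.Lib.Linear.Herm.hB_nondegenerate hF _,
      act_injective.comp Subtype.val_injective, fun g => act_isometry hF g.1, fun p h c hc => ?_, frob_frob hF,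
      hfix, he0, he, ?_⟩
    · obtain ⟨g, hg⟩ := tre_range hF p h c hc
      by_cases hp : p = 0
      · refine ⟨1, (map_one ι).trans (LinearEquiv.ext fun x => ?_)⟩
        show x = x + (c * B p x) • p
        rw [hp, smul_zero, add_zero]
      · refine ⟨⟨g, Subgroup.mem_iSup_of_mem _ (Subgroup.mem_iSup_of_mem ((hmemS _).mpr ⟨p, hp, h, rfl⟩) ?_)⟩, hg⟩
        rw [Subgroup.mem_comap, hg]
        exact tre_mem _ _
    · by_contra hno
      push Not at hno
      refine frob_ne_id hF (RingHom.ext fun a => ?_)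
      have h1 := hno 1
      rw [map_one] at h1
      rw [RingHom.id_apply]
      linear_combination hno a - a * h1
  have hgen : (⨆ A ∈ unitaryRoots B ι, A) = ⊤ := by
    rw [← himg, iSup_image]
    apply Subgroup.map_injective G0.subtype_injective
    rw [← MonoidHom.range_eq_map, Subgroup.range_subtype, Subgroup.map_iSup]
    simp only [Subgroup.map_iSup]
    refine (iSup_congr fun A => iSup_congr fun hA => ?_).trans hG0.symm
    exact Subgroup.map_subgroupOf_eq_of_le (le_iSup₂ (f := fun (A : Subgroup ↥(Cfsg.SU (n + 2) F q)) (_ : A ∈ S) => A) A hA)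
  have hne : (unitaryRoots B ι).Nonempty := by
    obtain ⟨x, hx⟩ := Cfsg.Lib.Linear.Herm.exists_norm_eq hF (μ := (-1 : F)) (by simp) (by
      rw [← frob_apply hF, map_neg, map_one])
    refine ⟨_, Pi.single 0 1 + Pi.single 1 (x : F), fun e0 => ?_, ?_, rfl⟩
    · simpa [show (0 : Fin (n + 2)) ≠ 1 by simp] using congrFun e0 0
    · rw [hBdef, hB_apply, Cfsg.Lib.Linear.Herm.hermForm_self, Fin.sum_univ_succ, Fin.sum_univ_succ,
        Finset.sum_eq_zero fun i _ => ?_]
      · simp [hx]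
      · simp [Fin.succ_ne_zero, show (i.succ.succ : Fin (n + 2)) ≠ 1 from fun e => Fin.succ_ne_zero i (Fin.succ_injective _ e)]
  refine ⟨hU.rootClass hgen hne, hU.degenerate, ⟨L, inferInstance, Fintype.ofFinite L, ?_, hU.kRootSet hgen⟩,
    hU.connected⟩
  rw [← @Nat.card_eq_fintype_card L (Fintype.ofFinite L), Nat.card_congr eL.toEquiv, card_fixedField]

end Cfsg.Agent.S5071
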