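import Cfsg.Statements.S5072
import Cfsg.Agent.Lib.Transv.Siegel
import Cfsg.Agent.Lib.Linear.OrthForms
-- import your own Cfsg.Agent.* helpers here

set_option autoImplicit false
open Matrix
open Cfsg

namespace Cfsg.Agent.S5072

open Cfsg.Lib.Linear.Orth
open Cfsg.Agent.Lib.Siegel
open scoped Matrix

theorem roots_kRootSet {F : Type*} [Field F] {ι : Type} [Fintype ι] [DecidableEq ι] {Q : (ι → F) → F}
    {B : LinearMap.BilinForm F (ι → F)} (C : Space Q B) (hdim : 5 ≤ Fintype.card ι)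
    (S : Set (Subgroup ↥(Cfsg.isometryGroup F Q))) (hS : S = roots C (Cfsg.isometryGroup F Q).subtype) :
    Cfsg.IsKRootSubgroupSet F ((fun A => A.subgroupOf (⨆ B ∈ S, B)) '' S) ∧
      Cfsg.IsConnectedFamily (Cfsg.FAdj S) S := by
  have hset : Setting C (Cfsg.isometryGroup F Q).subtype :=
    ⟨Subtype.coe_injective, fun g => g.2, fun p r h => by
      rintro g ⟨t, rfl⟩
      exact ⟨⟨_, rho_mem C h t⟩, rfl⟩⟩
  subst hS
  refine ⟨?_, connected hset hdim⟩
  generalize hG : (⨆ B ∈ roots C (Cfsg.isometryGroup F Q).subtype, B) = G₀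
  have hle : ∀ A ∈ roots C (Cfsg.isometryGroup F Q).subtype, A ≤ G₀ := fun A hA =>
    hG ▸ le_iSup₂_of_le A hA le_rfl
  have hset' : Setting C ((Cfsg.isometryGroup F Q).subtype.comp G₀.subtype) :=
    ⟨Subtype.coe_injective.comp Subtype.coe_injective, fun g => g.1.2, fun p r h => by
      rintro g hg
      obtain ⟨y, rfl⟩ := hset.root p r h hg
      exact ⟨⟨y, hle _ ⟨p, r, h, rfl⟩ hg⟩, rfl⟩⟩
  have e : (fun A => A.subgroupOf G₀) '' roots C (Cfsg.isometryGroup F Q).subtype =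
      roots C ((Cfsg.isometryGroup F Q).subtype.comp G₀.subtype) := by
    ext A
    constructor
    · rintro ⟨_, ⟨p, r, h, rfl⟩, rfl⟩
      exact ⟨p, r, h, rfl⟩
    · rintro ⟨p, r, h, rfl⟩
      exact ⟨_, ⟨p, r, h, rfl⟩, rfl⟩
  rw [e]
  refine kRootSet hset' ?_
  refine Subgroup.map_injective G₀.subtype_injective ?_
  rw [← MonoidHom.range_eq_map, Subgroup.range_subtype]
  refine le_antisymm (Subgroup.map_subtype_le _) ?_
  conv_lhs => rw [← hG]
  refine iSup₂_le fun A hA => ?_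
  obtain ⟨p, r, h, rfl⟩ := hA
  intro x hx
  exact ⟨⟨x, hle _ ⟨p, r, h, rfl⟩ hx⟩, Subgroup.mem_iSup_of_mem _ (Subgroup.mem_iSup_of_mem ⟨p, r, h, rfl⟩ hx), rfl⟩

theorem closure_eq_root {F : Type*} [Field F] {ι : Type} [Fintype ι] [DecidableEq ι] {Q : (ι → F) → F}
    {B : LinearMap.BilinForm F (ι → F)} (C : Space Q B) {p r : ι → F} (h : IsLine Q B p r) :
    Subgroup.closure {σ : ↥(Cfsg.isometryGroup F Q) | ∀ v : ι → F,
        Q (v + p) - Q v - Q p = 0 → Q (v + r) - Q v - Q r = 0 →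
          ((σ : Matrix.GeneralLinearGroup ι F) : Matrix ι ι F) *ᵥ v = v} =
      (rootGL C h).comap (Cfsg.isometryGroup F Q).subtype := by
  have hB : ∀ x y, Q (x + y) - Q x - Q y = B x y := C.polar
  refine le_antisymm ((Subgroup.closure_le _).mpr fun σ hσ => ?_) fun σ hσ => Subgroup.subset_closure ?_
  · exact exists_rho C h σ.2 fun x h1 h2 => hσ x (by rw [hB, h1]) (by rw [hB, h2])
  · obtain ⟨t, ht⟩ := hσ
    intro v h1 h2
    rw [show (σ : Matrix.GeneralLinearGroup ι F) = rho Q B p r t from ht, rho_act C h]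
    rw [hB] at h1 h2
    simp [C.symm p v, C.symm r v, h1, h2]

/-- Let F be a field, m a natural number and V = F^{2(m+3)} with the hyperbolic quadratic form q(x, y) = Σ xᵢ yᵢ (non-degenerate, Witt index m + 3 ≥ 3). For a singular line ℓ (a 2-dimensional subspace on which q vanishes) let T(ℓ) be the group of isometries of q fixing every vector of ℓ^⊥ (the Siegel transvection group of ℓ), let Σ be the set of these groups and G₀ the subgroup they generate. Then, viewed inside G₀, the members of Σ form a set of abstract F-root subgroups of G₀ (any two commute, or are the unipotent subgroups of a rank one group that is an image of SL₂(F) with central kernel, or satisfy the commutator case), and their graph of rank one pairs is connected. -/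
theorem result (F : Type*) [Field F] (m : ℕ) :
    Cfsg.IsKRootSubgroupSet F ((fun A : Subgroup ↥(Cfsg.isometryGroup F (Cfsg.quadFormPlus (m + 3) F)) => A.subgroupOf (⨆ B ∈ {A : Subgroup ↥(Cfsg.isometryGroup F (Cfsg.quadFormPlus (m + 3) F)) | ∃ p r : Fin (m + 3) ⊕ Fin (m + 3) → F, LinearIndependent F ![p, r] ∧
          Cfsg.quadFormPlus (m + 3) F p = 0 ∧ Cfsg.quadFormPlus (m + 3) F r = 0 ∧
          Cfsg.quadFormPlus (m + 3) F (p + r) = 0 ∧
          A = Subgroup.closure {σ : ↥(Cfsg.isometryGroup F (Cfsg.quadFormPlus (m + 3) F)) | ∀ v : Fin (m + 3) ⊕ Fin (m + 3) → F,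
            Cfsg.quadFormPlus (m + 3) F (v + p) - Cfsg.quadFormPlus (m + 3) F v - Cfsg.quadFormPlus (m + 3) F p = 0 →
            Cfsg.quadFormPlus (m + 3) F (v + r) - Cfsg.quadFormPlus (m + 3) F v - Cfsg.quadFormPlus (m + 3) F r = 0 →
              ((σ : Matrix.GeneralLinearGroup (Fin (m + 3) ⊕ Fin (m + 3)) F) : Matrix (Fin (m + 3) ⊕ Fin (m + 3)) (Fin (m + 3) ⊕ Fin (m + 3)) F) *ᵥ v = v}}, B)) ''
      {A : Subgroup ↥(Cfsg.isometryGroup F (Cfsg.quadFormPlus (m + 3) F)) | ∃ p r : Fin (m + 3) ⊕ Fin (m + 3) → F, LinearIndependent F ![p, r] ∧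
          Cfsg.quadFormPlus (m + 3) F p = 0 ∧ Cfsg.quadFormPlus (m + 3) F r = 0 ∧
          Cfsg.quadFormPlus (m + 3) F (p + r) = 0 ∧
          A = Subgroup.closure {σ : ↥(Cfsg.isometryGroup F (Cfsg.quadFormPlus (m + 3) F)) | ∀ v : Fin (m + 3) ⊕ Fin (m + 3) → F,
            Cfsg.quadFormPlus (m + 3) F (v + p) - Cfsg.quadFormPlus (m + 3) F v - Cfsg.quadFormPlus (m + 3) F p = 0 →
            Cfsg.quadFormPlus (m + 3) F (v + r) - Cfsg.quadFormPlus (m + 3) F v - Cfsg.quadFormPlus (m + 3) F r = 0 →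
              ((σ : Matrix.GeneralLinearGroup (Fin (m + 3) ⊕ Fin (m + 3)) F) : Matrix (Fin (m + 3) ⊕ Fin (m + 3)) (Fin (m + 3) ⊕ Fin (m + 3)) F) *ᵥ v = v}}) ∧
    Cfsg.IsConnectedFamily (Cfsg.FAdj {A : Subgroup ↥(Cfsg.isometryGroup F (Cfsg.quadFormPlus (m + 3) F)) | ∃ p r : Fin (m + 3) ⊕ Fin (m + 3) → F, LinearIndependent F ![p, r] ∧
          Cfsg.quadFormPlus (m + 3) F p = 0 ∧ Cfsg.quadFormPlus (m + 3) F r = 0 ∧
          Cfsg.quadFormPlus (m + 3) F (p + r) = 0 ∧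
          A = Subgroup.closure {σ : ↥(Cfsg.isometryGroup F (Cfsg.quadFormPlus (m + 3) F)) | ∀ v : Fin (m + 3) ⊕ Fin (m + 3) → F,
            Cfsg.quadFormPlus (m + 3) F (v + p) - Cfsg.quadFormPlus (m + 3) F v - Cfsg.quadFormPlus (m + 3) F p = 0 →
            Cfsg.quadFormPlus (m + 3) F (v + r) - Cfsg.quadFormPlus (m + 3) F v - Cfsg.quadFormPlus (m + 3) F r = 0 →
              ((σ : Matrix.GeneralLinearGroup (Fin (m + 3) ⊕ Fin (m + 3)) F) : Matrix (Fin (m + 3) ⊕ Fin (m + 3)) (Fin (m + 3) ⊕ Fin (m + 3)) F) *ᵥ v = v}})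
      {A : Subgroup ↥(Cfsg.isometryGroup F (Cfsg.quadFormPlus (m + 3) F)) | ∃ p r : Fin (m + 3) ⊕ Fin (m + 3) → F, LinearIndependent F ![p, r] ∧
          Cfsg.quadFormPlus (m + 3) F p = 0 ∧ Cfsg.quadFormPlus (m + 3) F r = 0 ∧
          Cfsg.quadFormPlus (m + 3) F (p + r) = 0 ∧
          A = Subgroup.closure {σ : ↥(Cfsg.isometryGroup F (Cfsg.quadFormPlus (m + 3) F)) | ∀ v : Fin (m + 3) ⊕ Fin (m + 3) → F,
            Cfsg.quadFormPlus (m + 3) F (v + p) - Cfsg.quadFormPlus (m + 3) F v - Cfsg.quadFormPlus (m + 3) F p = 0 →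
            Cfsg.quadFormPlus (m + 3) F (v + r) - Cfsg.quadFormPlus (m + 3) F v - Cfsg.quadFormPlus (m + 3) F r = 0 →
              ((σ : Matrix.GeneralLinearGroup (Fin (m + 3) ⊕ Fin (m + 3)) F) : Matrix (Fin (m + 3) ⊕ Fin (m + 3)) (Fin (m + 3) ⊕ Fin (m + 3)) F) *ᵥ v = v}} := by
  obtain ⟨B, C⟩ := exists_space_plus (F := F) (m + 3)
  refine roots_kRootSet C (by simp; omega) _ ?_
  ext A
  constructor
  · rintro ⟨p, r, hli, hp, hr, hpr, rfl⟩
    have h : IsLine _ B p r := ⟨hp, hr, by rw [← C.polar, QuadraticMap.polar, hpr, hp, hr, sub_zero, sub_zero], hli⟩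
    exact ⟨p, r, h, closure_eq_root C h⟩
  · rintro ⟨p, r, h, rfl⟩
    exact ⟨p, r, h.indep, h.left, h.right, by rw [C.add, h.left, h.right, h.orth, add_zero, add_zero],
      (closure_eq_root C h).symm⟩

end Cfsg.Agent.S5072
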