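import Cfsg.Statements.S5073
import Cfsg.Agent.Lib.QPair.Basic

set_option autoImplicit false
universe u
open Cfsg

namespace Cfsg.Agent.S5073

open Cfsg.Agent.Lib.QPair

/-- Let k be a field of characteristic not 2 with k not of order 3, M a finite-dimensional k-vector space and G ≤ GL(M) such that (G, M) is a quadratic pair (M irreducible for G, and G generated by its quadratically acting elements σ whose scalar family 1 + c(σ − 1), c ∈ k, lies in G). Write 𝒬_d for the quadratic elements of G of minimal commutator rank, E(σ) for the subgroup generated by the members of 𝒬_d with the same fixed space and commutator space as σ, and Σ for the set of these subgroups. Let E, F ∈ Σ. If some non-identity element of E commutes with some non-identity element of F, or some non-identity element of E normalizes F, then E and F commute elementwise. -/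
theorem result {k : Type u} [Field k] (hk2 : ringChar k ≠ 2) (hk3 : Nat.card k ≠ 3)
    {M : Type u} [AddCommGroup M] [Module k M] [FiniteDimensional k M]
    {G : Subgroup (LinearMap.GeneralLinearGroup k M)} (hG : Cfsg.IsQuadraticPair G)
    {E F : Subgroup (LinearMap.GeneralLinearGroup k M)} (hE : E ∈ Cfsg.quadraticRootSubgroups G) (hF : F ∈ Cfsg.quadraticRootSubgroups G)
    (h : (∃ e ∈ E, e ≠ 1 ∧ ∃ f ∈ F, f ≠ 1 ∧ e * f = f * e) ∨ E ⊓ Subgroup.normalizer (F : Set (LinearMap.GeneralLinearGroup k M)) ≠ ⊥) :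
    ⁅E, F⁆ = ⊥ := by
  obtain ⟨σ, hσ, rfl⟩ := hE
  obtain ⟨τ, hτ, rfl⟩ := hF
  have h0 : ∀ g : LinearMap.GeneralLinearGroup k M, g ≠ 1 → dd g ≠ 0 := fun g hg e => hg (dd_eq_zero.mp e)
  refine commutator_eq_bot hσ hτ ?_
  rcases h with ⟨e, he, he1, f, hf, hf1, hef⟩ | hn
  · exact commute_all hk2 hσ hτ ((mem_sameAction hσ).mp he).2 (h0 e he1) ((mem_sameAction hτ).mp hf).2 (h0 f hf1)
      (commute_iff.mp hef).symm
  obtain ⟨e, ⟨he, hen⟩, he1⟩ := (Subgroup.bot_or_exists_ne_one _).resolve_left hn
  obtain ⟨heG, hX⟩ := (mem_sameAction hσ).mp he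
  have hYX : ∀ Y ∈ qSpace G τ, dd e * Y = Y * dd e := by
    refine commute_of_stable hτ (qSpace_mul hσ hX hX) (two_ne_zero_of_ringChar hk2) fun Y hY => ?_
    obtain ⟨g, hg, eg⟩ := qSpace_exists hY 1
    rw [one_smul] at eg
    have h1 : e * g * e⁻¹ ∈ Cfsg.sameActionSubgroup G τ :=
      (Subgroup.mem_normalizer_iff.mp hen g).mp ((mem_sameAction hτ).mpr ⟨hg, eg ▸ hY⟩)
    have h2 := ((mem_sameAction hτ).mp h1).2
    rwa [dd_conj (qSpace_mul hσ hX hX), eg] at h2
  exact commute_all hk2 hσ hτ hX (h0 e he1) (self_mem_qSpace hτ) ((quadratic_iff G).mp hτ.1).2.2.1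
    (hYX _ (self_mem_qSpace hτ)).symm

end Cfsg.Agent.S5073
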