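import Cfsg.Statements.S5075
import Cfsg.Agent.Lib.Transv.McLaughlin

set_option autoImplicit false
open Cfsg

namespace Cfsg.Agent.S5075

open Cfsg.Agent.Lib.Transv

/-- The decomposition, given the enumerated pieces. -/
theorem assemble {p : ℕ} [Fact p.Prime] {V : Type*} [AddCommGroup V] [Module (ZMod p) V] [Finite V]
    (H : Subgroup (V ≃ₗ[ZMod p] V)) (hP : Engine.Closed (pairsOf H)) (hgen : ∀ h ∈ H, h ∈ Subgroup.closure
      {g : V ≃ₗ[ZMod p] V | ∃ x ∈ pairsOf H, x.1 ≠ 0 ∧ x.2 ≠ 0 ∧ ∀ y, g y = y + x.1 y • x.2})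
    {n : ℕ} (Ws Us : Fin n → Submodule (ZMod p) V) (hgood : ∀ j, Engine.Good (pairsOf H) (Ws j) (Us j))
    (horth : ∀ i j, i ≠ j → Ws i ≤ Us j)
    (hcov : ∀ x ∈ pairsOf H, x.1 ≠ 0 → x.2 ≠ 0 → ∃ j, Engine.Supp (Ws j) (Us j) x) :
    ∃ (W : Fin (n + 1) → Submodule (ZMod p) V) (K : Fin n → Subgroup (V ≃ₗ[ZMod p] V)),
      DirectSum.IsInternal W ∧
      (∀ h ∈ H, ∀ i, (W i).map (h : V →ₗ[ZMod p] V) = W i) ∧
      (∀ j, K j ≤ H ∧ ((K j).subgroupOf H).Normal) ∧ ⨆ j, K j = H ∧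
      (∀ j, K j ⊓ (⨆ j' ∈ {j' : Fin n | j' ≠ j}, K j') = ⊥) ∧
      (∀ j j', j ≠ j' → ∀ a ∈ K j, ∀ b ∈ K j', a * b = b * a) ∧
      (∀ j, ∀ h ∈ K j, ∀ i : Fin (n + 1), i ≠ j.succ → ∀ v ∈ W i, h v = v) ∧
      (∀ j, ∃ ρ : ↥(K j) →* (↥(W j.succ) ≃ₗ[ZMod p] ↥(W j.succ)),
        (∀ (h : ↥(K j)) (v : ↥(W j.succ)), ((ρ h v : ↥(W j.succ)) : V) = (h : V ≃ₗ[ZMod p] V) (v : V)) ∧
        ((ρ.range : Set (↥(W j.succ) ≃ₗ[ZMod p] ↥(W j.succ))) =
            {f : ↥(W j.succ) ≃ₗ[ZMod p] ↥(W j.succ) | LinearMap.det (f : ↥(W j.succ) →ₗ[ZMod p] ↥(W j.succ)) = 1} ∨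
          ∃ B : LinearMap.BilinForm (ZMod p) ↥(W j.succ), B.IsAlt ∧ B.Nondegenerate ∧
            (ρ.range : Set (↥(W j.succ) ≃ₗ[ZMod p] ↥(W j.succ))) = {f : ↥(W j.succ) ≃ₗ[ZMod p] ↥(W j.succ) | ∀ x y, B (f x) (f y) = B x y})) := by
  classical
  set W₀ : Submodule (ZMod p) V := ⨅ j, Us j with hW₀
  refine ⟨Fin.cons W₀ Ws, fun j => pieceGroup (pairsOf H) (Ws j) (Us j), ?_⟩
  have hin := fun j => pieceGroup_le_inPiece (pairsOf H) (Ws j) (Us j)
  have hle : ∀ j, pieceGroup (pairsOf H) (Ws j) (Us j) ≤ H := fun j =>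
    (Subgroup.closure_le _).mpr pieceGens_subset
  have hsup : ⨆ j, pieceGroup (pairsOf H) (Ws j) (Us j) = H := by
    refine le_antisymm (iSup_le hle) fun h hh => ?_
    refine (Subgroup.closure_le _).mpr ?_ (hgen h hh)
    rintro g ⟨x, hx, h1, h2, hg⟩
    obtain ⟨j, hj⟩ := hcov x hx h1 h2
    exact le_iSup (fun j => pieceGroup (pairsOf H) (Ws j) (Us j)) j (Subgroup.subset_closure ⟨x, hx, hj, hg⟩)
  -- independence
  have hsum : ∀ (w : Fin (n + 1) → V), (∀ i, w i ∈ (Fin.cons W₀ Ws : Fin (n + 1) → _) i) → ∑ i, w i = 0 →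
      ∀ i, w i = 0 := by
    intro w hw h0
    have hj : ∀ j : Fin n, w j.succ = 0 := by
      intro j
      have hjm : w j.succ ∈ Ws j := by simpa using hw j.succ
      refine Submodule.disjoint_def.mp (hgood j).compl.disjoint _ hjm ?_
      rw [Fin.sum_univ_succ, ← Finset.add_sum_erase _ _ (Finset.mem_univ j)] at h0
      have h00 : w 0 ∈ Us j := (Submodule.mem_iInf _).mp (show w 0 ∈ W₀ from hw 0) j
      have hr : ∑ k ∈ Finset.univ.erase j, w k.succ ∈ Us j := Submodule.sum_mem _ fun k hk =>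
        horth k j (Finset.ne_of_mem_erase hk) (by simpa using hw k.succ)
      have e : w j.succ = -(w 0 + ∑ k ∈ Finset.univ.erase j, w k.succ) :=
        eq_neg_of_add_eq_zero_left (by rw [← h0]; abel)
      rw [e]
      exact neg_mem (add_mem h00 hr)
    intro i
    refine Fin.cases ?_ hj i
    rw [Fin.sum_univ_succ, Finset.sum_eq_zero fun k _ => hj k, add_zero] at h0
    exact h0
  have hint : DirectSum.IsInternal (Fin.cons W₀ Ws : Fin (n + 1) → Submodule (ZMod p) V) := by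
    refine DirectSum.isInternal_submodule_of_iSupIndep_of_iSup_eq_top ?_ ?_
    · rw [iSupIndep_iff_finsetSum_eq_zero_imp_eq_zero]
      intro s v hv h0 i hi
      have := hsum (fun k => if k ∈ s then v k else 0) (fun k => by
        show (if k ∈ s then v k else 0) ∈ _
        split_ifs with hk
        exacts [hv k hk, zero_mem _]) (by simpa [Finset.sum_ite_mem] using h0) i
      simpa [hi] using this
    · refine eq_top_iff.mpr fun x _ => ?_
      choose a ha b hb e using fun j => Engine.decomp (hgood j).compl x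
      have hsplit : x = (x - ∑ j, a j) + ∑ j, a j := by abel
      rw [hsplit]
      refine add_mem (Submodule.mem_iSup_of_mem 0 ?_) (Submodule.sum_mem _ fun j _ =>
        Submodule.mem_iSup_of_mem j.succ (by simpa using ha j))
      rw [Fin.cons_zero, hW₀, Submodule.mem_iInf]
      intro k
      rw [← Finset.add_sum_erase _ _ (Finset.mem_univ k), ← sub_sub,
        show x - a k = b k by conv_lhs => rw [e k]
                              abel]
      exact sub_mem (hb k) (Submodule.sum_mem _ fun j hj => horth j k (Finset.ne_of_mem_erase hj) (ha j))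
  have hfix : ∀ j, ∀ h ∈ pieceGroup (pairsOf H) (Ws j) (Us j), ∀ i : Fin (n + 1), i ≠ j.succ →
      ∀ v ∈ (Fin.cons W₀ Ws : Fin (n + 1) → Submodule (ZMod p) V) i, h v = v := by
    intro j h hh i
    refine Fin.cases (fun _ v hv => ?_) (fun k hk v hv => ?_) i
    · exact (hin j hh).1 v ((Submodule.mem_iInf _).mp (show v ∈ W₀ from hv) j)
    · exact (hin j hh).1 v (horth k j (fun e => hk (by rw [e])) (by simpa using hv))
  have hmove : ∀ h ∈ H, ∀ i, ∀ v ∈ (Fin.cons W₀ Ws : Fin (n + 1) → Submodule (ZMod p) V) i,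
      h v ∈ (Fin.cons W₀ Ws : Fin (n + 1) → Submodule (ZMod p) V) i := by
    intro h hh
    rw [← hsup, Subgroup.iSup_eq_closure] at hh
    induction hh using Subgroup.closure_induction_left with
    | one => intro i v hv; exact hv
    | mul_left g hg y _ ih =>
      intro i v hv
      obtain ⟨j, hj⟩ := Set.mem_iUnion.mp hg
      rw [LinearEquiv.mul_apply]
      by_cases hi : i = j.succ
      · subst hi
        simpa using inPiece_map (hin j hj) (by simpa using ih _ v hv)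
      · rw [hfix j g hj i hi _ (ih i v hv)]
        exact ih i v hv
    | inv_mul_cancel g hg y _ ih =>
      intro i v hv
      obtain ⟨j, hj⟩ := Set.mem_iUnion.mp hg
      rw [LinearEquiv.mul_apply]
      by_cases hi : i = j.succ
      · subst hi
        simpa using inPiece_map (inv_mem (hin j hj)) (by simpa using ih _ v hv)
      · rw [hfix j g⁻¹ (inv_mem hj) i hi _ (ih i v hv)]
        exact ih i v hv
  have hcomm : ∀ j j', j ≠ j' → ∀ a ∈ pieceGroup (pairsOf H) (Ws j) (Us j),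
      ∀ b ∈ pieceGroup (pairsOf H) (Ws j') (Us j'), a * b = b * a := by
    intro j j' hne a ha b hb
    have key : ∀ (j j' : Fin n), j ≠ j' → ∀ a ∈ inPiece (Ws j) (Us j), ∀ b ∈ inPiece (Ws j') (Us j'),
        ∀ u ∈ Us j, a (b u) = b u := by
      intro j j' hne a ha b hb u hu
      refine ha.1 _ ?_
      have := add_mem (horth j' j hne.symm (hb.2 u)) hu
      rwa [sub_add_cancel] at this
    refine LinearEquiv.ext fun x => ?_
    obtain ⟨w, hw, u, hu, rfl⟩ := Engine.decomp (hgood j).compl x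
    rw [LinearEquiv.mul_apply, LinearEquiv.mul_apply, map_add, map_add, map_add, map_add,
      (hin j' hb).1 w (horth j j' hne hw), key j j' hne a (hin j ha) b (hin j' hb) u hu, (hin j ha).1 u hu,
      (hin j' hb).1 (a w) (horth j j' hne (inPiece_map (hin j ha) hw))]
  refine ⟨hint, fun h hh i => le_antisymm ?_ fun v hv => ?_, fun j => ⟨hle j, ?_⟩, hsup, fun j => ?_, hcomm,
    hfix, fun j => ?_⟩
  · rintro _ ⟨v, hv, rfl⟩
    exact hmove h hh i v hv
  · exact ⟨h⁻¹ v, hmove h⁻¹ (inv_mem hh) i v hv, h.apply_symm_apply v⟩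
  · refine ⟨fun a ha g => ?_⟩
    rw [Subgroup.mem_subgroupOf] at ha ⊢
    obtain ⟨g', hg⟩ := g
    show g' * a * g'⁻¹ ∈ pieceGroup (pairsOf H) (Ws j) (Us j)
    rw [← hsup, Subgroup.iSup_eq_closure] at hg
    induction hg using Subgroup.closure_induction_left with
    | one => simpa using ha
    | mul_left c hc y _ ih =>
      obtain ⟨k, hk⟩ := Set.mem_iUnion.mp hc
      rw [show c * y * a * (c * y)⁻¹ = c * (y * a * y⁻¹) * c⁻¹ by group]
      by_cases hkj : k = j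
      · subst hkj; exact mul_mem (mul_mem hk ih) (inv_mem hk)
      · rw [hcomm k j hkj c hk _ ih, mul_inv_cancel_right]; exact ih
    | inv_mul_cancel c hc y _ ih =>
      obtain ⟨k, hk⟩ := Set.mem_iUnion.mp hc
      rw [show c⁻¹ * y * a * (c⁻¹ * y)⁻¹ = c⁻¹ * (y * a * y⁻¹) * c by group]
      by_cases hkj : k = j
      · subst hkj; exact mul_mem (mul_mem (inv_mem hk) ih) hk
      · rw [hcomm k j hkj c⁻¹ (inv_mem hk) _ ih, inv_mul_cancel_right]; exact ih
  · refine (Subgroup.eq_bot_iff_forall _).mpr fun a ha => ?_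
    obtain ⟨ha1, ha2⟩ := Subgroup.mem_inf.mp ha
    have h2 : ∀ w ∈ Ws j, a w = w := by
      have : (⨆ j' ∈ {j' : Fin n | j' ≠ j}, pieceGroup (pairsOf H) (Ws j') (Us j')) ≤
          fixingSubgroup (V ≃ₗ[ZMod p] V) (Ws j : Set V) := iSup₂_le fun j' hj' b hb =>
        (mem_fixingSubgroup_iff _).mpr fun w hw => (hin j' hb).1 w (horth j j' (Ne.symm hj') hw)
      exact fun w hw => (mem_fixingSubgroup_iff _).mp (this ha2) w hw
    refine LinearEquiv.ext fun x => ?_
    obtain ⟨w, hw, u, hu, rfl⟩ := Engine.decomp (hgood j).compl x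
    rw [map_add, h2 w hw, (hin j ha1).1 u hu]
    rfl
  · exact ⟨restr (Ws j) (Us j) _ (hin j), restr_apply _ _ _ (hin j), range_restr hP (hgood j)⟩


/-- Let p be an odd prime, V a finite-dimensional vector space over the field with p elements, and H a group of linear automorphisms of V generated by transvections (elements of order p fixing a hyperplane pointwise) and having no nontrivial normal p-subgroup. Then for some n ≥ 1 there are a decomposition V = V₀ ⊕ V₁ ⊕ ⋯ ⊕ Vₙ into H-invariant subspaces and a decomposition of H as the internal direct product of normal subgroups H₁, …, Hₙ such that Hⱼ acts trivially on every Vᵢ with i ≠ j, and Hⱼ induces on Vⱼ exactly the special linear group of Vⱼ or exactly the isometry group of a non-degenerate alternating form on Vⱼ. -/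
theorem result {p : ℕ} [Fact p.Prime] (hp : Odd p) {V : Type*} [AddCommGroup V] [Module (ZMod p) V] [Finite V]
    (H : Subgroup (V ≃ₗ[ZMod p] V)) (T : Set (V ≃ₗ[ZMod p] V)) (hHT : H = Subgroup.closure T)
    (hT : ∀ t ∈ T, orderOf t = p ∧
      Module.finrank (ZMod p) ↥(LinearMap.ker ((t : V →ₗ[ZMod p] V) - LinearMap.id)) + 1 =
        Module.finrank (ZMod p) V)
    (hOp : Cfsg.pCore p ↥H = ⊥) :
    ∃ (n : ℕ) (W : Fin (n + 1) → Submodule (ZMod p) V) (K : Fin n → Subgroup (V ≃ₗ[ZMod p] V)),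
      1 ≤ n ∧ DirectSum.IsInternal W ∧
      (∀ h ∈ H, ∀ i, (W i).map (h : V →ₗ[ZMod p] V) = W i) ∧
      (∀ j, K j ≤ H ∧ ((K j).subgroupOf H).Normal) ∧ ⨆ j, K j = H ∧
      (∀ j, K j ⊓ (⨆ j' ∈ {j' : Fin n | j' ≠ j}, K j') = ⊥) ∧
      (∀ j j', j ≠ j' → ∀ a ∈ K j, ∀ b ∈ K j', a * b = b * a) ∧
      (∀ j, ∀ h ∈ K j, ∀ i : Fin (n + 1), i ≠ j.succ → ∀ v ∈ W i, h v = v) ∧
      (∀ j, ∃ ρ : ↥(K j) →* (↥(W j.succ) ≃ₗ[ZMod p] ↥(W j.succ)),
        (∀ (h : ↥(K j)) (v : ↥(W j.succ)), ((ρ h v : ↥(W j.succ)) : V) = (h : V ≃ₗ[ZMod p] V) (v : V)) ∧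
        ((ρ.range : Set (↥(W j.succ) ≃ₗ[ZMod p] ↥(W j.succ))) =
            {f : ↥(W j.succ) ≃ₗ[ZMod p] ↥(W j.succ) | LinearMap.det (f : ↥(W j.succ) →ₗ[ZMod p] ↥(W j.succ)) = 1} ∨
          ∃ B : LinearMap.BilinForm (ZMod p) ↥(W j.succ), B.IsAlt ∧ B.Nondegenerate ∧
            (ρ.range : Set (↥(W j.succ) ≃ₗ[ZMod p] ↥(W j.succ))) = {f : ↥(W j.succ) ≃ₗ[ZMod p] ↥(W j.succ) | ∀ x y, B (f x) (f y) = B x y})) := by
  classical
  obtain ⟨k, rfl⟩ := hp
  have hp2 : 2 * k + 1 ≠ 2 := by omega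
  have hP := closed_pairsOf H hp2 hOp
  have hgen : ∀ h ∈ H, h ∈ Subgroup.closure {g : V ≃ₗ[ZMod (2 * k + 1)] V |
      ∃ x ∈ pairsOf H, x.1 ≠ 0 ∧ x.2 ≠ 0 ∧ ∀ y, g y = y + x.1 y • x.2} := by
    intro h hh
    rw [hHT] at hh
    refine Subgroup.closure_mono (fun t ht => ?_) hh
    obtain ⟨φ, v, hv, h1, h2, rfl⟩ := exists_pair_of_transvection (hT t ht).1 (hT t ht).2
    exact ⟨(φ, v), ⟨hv, hHT ▸ Subgroup.subset_closure ht⟩, h1, h2, fun y => by rw [tre_apply, one_mul]⟩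
  have : Finite (Submodule (ZMod (2 * k + 1)) V) := Finite.of_injective _ SetLike.coe_injective
  let 𝒲 : Type _ := {z : Submodule (ZMod (2 * k + 1)) V × Submodule (ZMod (2 * k + 1)) V //
    Engine.Good (pairsOf H) z.1 z.2}
  obtain ⟨n, ⟨e⟩⟩ := Finite.exists_equiv_fin 𝒲
  have hcov : ∀ x ∈ pairsOf H, x.1 ≠ 0 → x.2 ≠ 0 →
      ∃ j, Engine.Supp (e.symm j).1.1 (e.symm j).1.2 x := by
    intro x hx h1 h2
    obtain ⟨W, U, hg, hs⟩ := Engine.exists_good hP (φ := x.1) (v := x.2) hx h1 h2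
    exact ⟨e ⟨(W, U), hg⟩, by simpa using hs⟩
  by_cases hn : n = 0
  · subst hn
    have hH : H = ⊥ := (Subgroup.eq_bot_iff_forall _).mpr fun h hh => by
      have h' := hgen h hh
      rw [show {g : V ≃ₗ[ZMod (2 * k + 1)] V | ∃ x ∈ pairsOf H, x.1 ≠ 0 ∧ x.2 ≠ 0 ∧
        ∀ y, g y = y + x.1 y • x.2} = ∅ from Set.eq_empty_of_forall_notMem fun g ⟨x, hx, h1, h2, _⟩ =>
          (hcov x hx h1 h2).choose.elim0, Subgroup.closure_empty] at h'
      exact h'
    subst hH
    refine ⟨1, ![⊤, ⊥], fun _ => ⊥, le_rfl, ?_, ?_, fun j => ⟨le_rfl, inferInstance⟩, ?_, fun j => bot_inf_eq _,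
      fun j j' _ a ha b hb => ?_, fun j h hh i _ v _ => ?_, fun j => ⟨1, ?_, Or.inl ?_⟩⟩
    · refine DirectSum.isInternal_submodule_of_iSupIndep_of_iSup_eq_top ?_ ?_
      · rw [iSupIndep_pair (i := 0) (j := 1) (by decide) (fun x => by fin_cases x <;> simp)]
        exact disjoint_bot_right
      · exact eq_top_iff.mpr (le_iSup (![⊤, ⊥] : Fin 2 → Submodule (ZMod (2 * k + 1)) V) 0)
    · intro h hh i
      rw [Subgroup.mem_bot] at hh
      subst hh
      exact Submodule.map_id _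
    · simp
    · rw [Subgroup.mem_bot.mp ha, Subgroup.mem_bot.mp hb]
    · rw [Subgroup.mem_bot.mp hh]; rfl
    · intro h v
      rw [Subgroup.mem_bot.mp h.2]; rfl
    · have : Subsingleton ↥((![⊤, ⊥] : Fin 2 → Submodule (ZMod (2 * k + 1)) V) j.succ) := by
        fin_cases j
        exact ⟨fun a b => Subtype.ext (((Submodule.mem_bot _).mp a.2).trans ((Submodule.mem_bot _).mp b.2).symm)⟩
      ext f
      simp only [SetLike.mem_coe, Set.mem_setOf_eq]
      exact ⟨fun _ => LinearMap.det_eq_one_of_subsingleton _,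
        fun _ => ⟨1, LinearEquiv.ext fun x => Subsingleton.elim _ _⟩⟩
  obtain ⟨W, K, h⟩ := assemble H hP hgen (fun j => (e.symm j).1.1) (fun j => (e.symm j).1.2)
    (fun j => (e.symm j).2) (fun i j hij => by
      rcases (e.symm i).2.trichotomy hP (e.symm j).2 with ⟨h1, h2⟩ | ⟨h1, -⟩
      · exact absurd (e.symm.injective (Subtype.ext (Prod.ext h1 h2))) hij
      · exact h1) hcov
  exact ⟨n, W, K, Nat.one_le_iff_ne_zero.mpr hn, h⟩

end Cfsg.Agent.S5075
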