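import Cfsg.Statements.S5083
import Cfsg.Agent.Lib.FusionSys.Alperin

set_option autoImplicit false
open Cfsg

namespace Cfsg.Agent.S5083

/-- If F is a saturated fusion system over a finite p-group S in which Aut_F(P) is a p-group for every P ≤ S, then F is the inner fusion system of S (all its maps are conjugations by elements of S). -/
theorem result {Ω : Type*} [Group Ω] {S : Subgroup Ω} [Finite S] (p : ℕ) [Fact p.Prime] (hS : IsPGroup p S) (F : Cfsg.FusionSystem S) (hF : F.IsSaturated p) (h : ∀ P : Subgroup Ω, P ≤ S → IsPGroup p (F.autGroup P)) : F = Cfsg.innerFusionSystem S := by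
  refine Cfsg.Lib.FusionSys.fusionSystem_le_antisymm ?_ (Cfsg.Lib.FusionSys.innerFusionSystem_le F)
  refine Cfsg.Lib.FusionSys.le_of_autGroup_le hS hF _ fun P hP => ?_
  rcases hP with rfl | hP
  · obtain ⟨-, R, hR⟩ := (Cfsg.Lib.FusionSys.isFullyAutomized_and_fc_of_fn hS hF
      (Cfsg.Lib.FusionSys.isFullyNormalized_top F)).2
    intro α hα
    have htop : (R : Subgroup (F.autGroup P)) = ⊤ :=
      (R.is_maximal' ((h P le_rfl).to_subgroup ⊤) le_top).symm
    have h1 : (⟨α, hα⟩ : F.autGroup P) ∈ (R : Subgroup (F.autGroup P)) :=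
      htop ▸ Subgroup.mem_top _
    rw [hR] at h1
    exact Cfsg.Lib.FusionSys.autInducedBy_le_autGroup le_rfl h1
  · exfalso
    obtain ⟨hc, -, hN, E, hE⟩ := hP
    haveI := hN
    haveI := Cfsg.Lib.FusionSys.finite_of_le hc.1
    have hq : IsPGroup p (F.autGroup P ⧸ (Inn P).subgroupOf (F.autGroup P)) :=
      (h P hc.1).to_quotient _
    have h1 := Cfsg.Lib.FusionSys.pCore_eq_bot_of_stronglyPEmbedded hE (N := ⊤) (hq.to_subgroup _)
    have h2 := hE.1
    rw [← Subgroup.card_top, h1, Subgroup.card_bot, Nat.dvd_one] at h2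
    exact (Fact.out : p.Prime).one_lt.ne' h2

end Cfsg.Agent.S5083
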