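import Cfsg.Statements.S5088
import Cfsg.Agent.Lib.FusionSys.Normal

set_option autoImplicit false
open Cfsg

namespace Cfsg.Agent.S5088

/-- In a saturated fusion system over a finite p-group, a subgroup Q is normal in the system if and only if there is a chain of subgroups 1 = Q₀ ≤ Q₁ ≤ ⋯ ≤ Qₙ = Q such that each Qᵢ with i ≥ 1 is strongly closed in the system and [Q, Qᵢ] ≤ Qᵢ₋₁. -/
theorem result {Ω : Type*} [Group Ω] {S : Subgroup Ω} [Finite S] (p : ℕ) [Fact p.Prime] (hS : IsPGroup p S) (F : Cfsg.FusionSystem S) (hF : F.IsSaturated p) (Q : Subgroup Ω) : F.IsNormal Q ↔ ∃ (n : ℕ) (Qs : Fin (n + 1) → Subgroup Ω), Qs 0 = ⊥ ∧ Qs (Fin.last n) = Q ∧ Monotone Qs ∧ ∀ i : Fin n, F.StronglyClosed (Qs i.succ) ∧ ⁅Q, Qs i.succ⁆ ≤ Qs (Fin.castSucc i) := by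
  constructor
  · intro hQ
    obtain ⟨Z, m, h0, hm, hmono, hchar, hcomm⟩ :=
      Cfsg.Lib.FusionSys.exists_series_of_nilpotent hS hQ.1
    refine ⟨m, fun i => Z i.val, h0, hm, fun i j hij => hmono hij, fun i => ⟨?_, ?_⟩⟩
    · exact Cfsg.Lib.FusionSys.isNormal_stronglyClosed
        (Cfsg.Lib.FusionSys.isNormal_of_characteristic hQ (hchar _).1 (hchar _).2)
    · exact Subgroup.commutator_le.2 fun g hg y hy => hcomm i.val g hg y hy
  · rintro ⟨n, Qs, h0, hn, -, h⟩
    refine Cfsg.Lib.FusionSys.isNormal_of_series hS hF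
      (fun i => Qs ⟨min i n, by omega⟩) n ?_ ?_ ?_ ?_
    · simpa using h0
    · simpa [Fin.last] using hn
    · intro i hi
      match i with
      | 0 => simpa [h0] using Cfsg.Lib.FusionSys.stronglyClosed_bot F
      | j + 1 =>
        have h1 := (h ⟨j, by omega⟩).1
        simpa [Nat.min_eq_left hi] using h1
    · intro i hi g hg y hy
      have h1 := (h ⟨i, hi⟩).2
      have hy' : y ∈ Qs (Fin.succ ⟨i, hi⟩) := by
        simpa [Nat.min_eq_left (Nat.succ_le_of_lt hi)] using hy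
      have h2 := h1 (Subgroup.commutator_mem_commutator hg hy')
      simpa [Nat.min_eq_left hi.le] using h2

end Cfsg.Agent.S5088
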