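import Cfsg.Statements.S5089
import Cfsg.Agent.Lib.FusionSys.Normal

set_option autoImplicit false
open Cfsg

namespace Cfsg.Agent.S5089

/-- A saturated fusion system over a finite p-group has a nontrivial subgroup that is normal in the system (O_p(F) ≠ 1) if and only if some nontrivial abelian subgroup is strongly closed in the system. -/
theorem result {Ω : Type*} [Group Ω] {S : Subgroup Ω} [Finite S] (p : ℕ) [Fact p.Prime] (hS : IsPGroup p S) (F : Cfsg.FusionSystem S) (hF : F.IsSaturated p) : F.core ≠ ⊥ ↔ ∃ Q : Subgroup Ω, Q ≠ ⊥ ∧ IsMulCommutative Q ∧ F.StronglyClosed Q := by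
  constructor
  · intro hne
    have hN := Cfsg.Lib.FusionSys.isNormal_core F
    haveI := Cfsg.Lib.FusionSys.finite_of_le hN.1
    haveI : Nontrivial F.core := (Subgroup.nontrivial_iff_ne_bot _).2 hne
    refine ⟨(Subgroup.center F.core).map F.core.subtype, ?_, ?_, ?_⟩
    · rw [Ne, Subgroup.map_eq_bot_iff_of_injective _ F.core.subtype_injective]
      exact ((Subgroup.nontrivial_iff_ne_bot _).1 (hS.to_le hN.1).center_nontrivial)
    · infer_instance
    · refine Cfsg.Lib.FusionSys.isNormal_stronglyClosed
        (Cfsg.Lib.FusionSys.isNormal_of_characteristic hN (Subgroup.map_subtype_le _) ?_)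
      rw [Subgroup.subgroupOf, Subgroup.comap_map_eq_self_of_injective F.core.subtype_injective]
      infer_instance
  · rintro ⟨Q, hQ, hab, hsc⟩ hcore
    have hN : F.IsNormal Q := Cfsg.Lib.FusionSys.isNormal_of_series hS hF
      (fun i => if i = 0 then ⊥ else Q) 1 rfl rfl
      (fun i _ => by
        match i with
        | 0 => exact Cfsg.Lib.FusionSys.stronglyClosed_bot F
        | j + 1 => exact hsc)
      (fun i hi g hg y hy => by
        obtain rfl : i = 0 := by omega
        have hy' : y ∈ Q := hy
        have h1 : g * y = y * g :=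
          congrArg Subtype.val (hab.1.comm (⟨g, hg⟩ : Q) ⟨y, hy'⟩)
        simp [commutatorElement_def, h1])
    have h2 : Q ≤ F.core := le_sSup hN
    rw [hcore, le_bot_iff] at h2
    exact hQ h2

end Cfsg.Agent.S5089
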