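import Cfsg.Statements.S5094
import Cfsg.Agent.Lib.ZStar.Fusion
-- import your own Cfsg.Agent.* helpers here

set_option autoImplicit false
open Cfsg

namespace Cfsg.Agent.S5094

/-- Glauberman's Z*-Theorem in fusion language: for a finite group G with Sylow 2-subgroup S, the centre of the fusion system of G on S is the set of elements of S whose image in G/O(G) is central, O(G) being the largest normal subgroup of odd order. -/
theorem result {G : Type*} [Group G] [Finite G] (S : Sylow 2 G) : (Cfsg.groupFusionSystem (S : Subgroup G)).center = (S : Subgroup G) ⊓ (Subgroup.center (G ⧸ Cfsg.oddCore G)).comap (QuotientGroup.mk' (Cfsg.oddCore G)) := by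
  refine le_antisymm (sSup_le ?_) (le_sSup ?_)
  · rintro Q ⟨hQS, hQ⟩ x hx
    refine Subgroup.mem_inf.2 ⟨hQS hx, ?_⟩
    have hclosed : Lib.ZStar.PowersClosed (S : Subgroup G) x := by
      intro y hy g hg
      have hyQ : y ∈ Q := Subgroup.zpowers_le.2 hx hy
      have hP : Subgroup.zpowers y ≤ (S : Subgroup G) := Subgroup.zpowers_le.2 (hQS hyQ)
      obtain ⟨ψ, -, h1, h2⟩ := hQ (Subgroup.zpowers y)
        ((MulAut.conj g).toMonoidHom.comp (Subgroup.zpowers y).subtype) ⟨hP, fun w => by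
          obtain ⟨i, hi⟩ := Subgroup.mem_zpowers_iff.1 w.2
          show g * (w : G) * g⁻¹ ∈ (S : Subgroup G)
          rw [← hi, ← conj_zpow]
          exact zpow_mem hg i, g, fun w => rfl⟩
      exact (h1 ⟨y, Subgroup.mem_zpowers y⟩).symm.trans (h2 ⟨y, hyQ⟩)
    rw [Subgroup.mem_comap, Subgroup.mem_center_iff]
    intro k
    obtain ⟨g, rfl⟩ := QuotientGroup.mk'_surjective _ k
    have h3 := Lib.ZStar.commutator_mem_oddCore_of_powersClosed S (hQS hx) hclosed g
    rw [← QuotientGroup.ker_mk' (Cfsg.oddCore G), MonoidHom.mem_ker, map_mul, map_mul, map_mul,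
      map_inv, map_inv, mul_inv_eq_one, mul_inv_eq_iff_eq_mul] at h3
    exact h3
  · refine ⟨inf_le_left, fun P φ hφ => ?_⟩
    obtain ⟨hP, hφS, g, hg⟩ := hφ
    set Q := (S : Subgroup G) ⊓
      (Subgroup.center (G ⧸ Cfsg.oddCore G)).comap (QuotientGroup.mk' (Cfsg.oddCore G)) with hQdef
    have hQ : ∀ q ∈ Q, ∀ k : G, k * q * k⁻¹ * q⁻¹ ∈ Cfsg.oddCore G := by
      intro q hq k
      rw [← QuotientGroup.ker_mk' (Cfsg.oddCore G), MonoidHom.mem_ker, map_mul, map_mul, map_mul,
        map_inv, map_inv, mul_inv_eq_one, mul_inv_eq_iff_eq_mul]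
      exact Subgroup.mem_center_iff.1 (Subgroup.mem_inf.1 hq).2 _
    obtain ⟨g', h1, h2⟩ := Lib.ZStar.exists_conj_fixing (Q := Q) (P := P) inf_le_left hQ hP g
      fun x hx => hg ⟨x, hx⟩ ▸ hφS ⟨x, hx⟩
    refine ⟨(MulAut.conj g').toMonoidHom.comp (P ⊔ Q).subtype, ⟨sup_le hP inf_le_left, fun w => ?_,
      g', fun w => rfl⟩, fun x => ?_, fun x => h2 x x.2⟩
    · show g' * (w : G) * g'⁻¹ ∈ (S : Subgroup G)
      have hle : P ⊔ Q ≤ (S : Subgroup G).comap (MulAut.conj g').toMonoidHom := by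
        refine sup_le (fun x hx => ?_) fun x hx => ?_
        · show g' * x * g'⁻¹ ∈ (S : Subgroup G)
          rw [h1 x hx, ← hg ⟨x, hx⟩]
          exact hφS _
        · show g' * x * g'⁻¹ ∈ (S : Subgroup G)
          rw [h2 x hx]
          exact (Subgroup.mem_inf.1 hx).1
      exact hle w.2
    · exact (h1 x x.2).trans (hg x).symm

end Cfsg.Agent.S5094
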