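import Cfsg.Statements.S5102
import Cfsg.Agent.Lib.FusionSys.OfGroup

set_option autoImplicit false
open Cfsg

namespace Cfsg.Agent.S5102

/-- A normal p-subgroup of a finite group G is normal in the fusion system of G on a Sylow p-subgroup. -/
theorem result {G : Type*} [Group G] [Finite G] (p : ℕ) [Fact p.Prime] (S : Sylow p G) (R : Subgroup G) [R.Normal] (hR : IsPGroup p R) : (Cfsg.groupFusionSystem (S : Subgroup G)).IsNormal R := by
  refine Cfsg.Lib.FusionSys.isNormal_groupFusionSystem S R ?_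
  obtain ⟨Q, hQ⟩ := hR.exists_le_sylow
  obtain ⟨g, hg⟩ := MulAction.exists_smul_eq G Q S
  intro x hx
  have hx' : g⁻¹ * x * g⁻¹⁻¹ ∈ R := Subgroup.Normal.conj_mem inferInstance x hx g⁻¹
  have h := Subgroup.smul_mem_pointwise_smul _ (MulAut.conj g) _ (hQ hx')
  rw [← hg, Sylow.coe_subgroup_smul]
  simpa [mul_assoc] using h

end Cfsg.Agent.S5102
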