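import Cfsg.Statements.S5107
import Cfsg.Agent.Lib.FusionSys.WeaklyClosedSeries
import Cfsg.Agent.Lib.FusionSys.OfGroup
import Cfsg.Agent.Lib.FusionSys.QdFree

set_option autoImplicit false
open Cfsg
open scoped commutatorElement

namespace Cfsg.Agent.S5107

/-- If a Sylow p-subgroup S of a finite group G has nilpotency class at most two and its centre is strongly closed in S with respect to G, then every map of the fusion system of G on S is conjugation by an element of N_G(S), and S is the largest subgroup normal in that fusion system. -/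
theorem result {G : Type*} [Group G] [Finite G] (p : ℕ) [Fact p.Prime] (S : Sylow p G) (hcl : ⁅(S : Subgroup G), (S : Subgroup G)⁆ ≤ (S : Subgroup G) ⊓ Subgroup.centralizer ((S : Subgroup G) : Set G)) (hZ : Cfsg.IsStronglyClosed ((S : Subgroup G) ⊓ Subgroup.centralizer ((S : Subgroup G) : Set G)) (S : Subgroup G)) : (∀ (P : Subgroup G) (φ : P →* G), φ ∈ (Cfsg.groupFusionSystem (S : Subgroup G)).Hom P → ∃ g ∈ Subgroup.normalizer ((S : Subgroup G) : Set G), ∀ x : P, φ x = g * (x : G) * g⁻¹) ∧ (Cfsg.groupFusionSystem (S : Subgroup G)).core = S := by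
  set P₀ : Subgroup G := (S : Subgroup G) with hP₀
  set Z : Subgroup G := P₀ ⊓ Subgroup.centralizer (P₀ : Set G) with hZdef
  set F := Cfsg.groupFusionSystem P₀ with hF
  have hsat : F.IsSaturated p := Lib.FusionSys.isSaturated_groupFusionSystem S
  have hN : F.IsNormal P₀ := by
    refine Lib.FusionSys.isNormal_of_series S.2 hsat
      (fun i => if i = 0 then ⊥ else if i = 1 then Z else P₀) 2 (by simp) (by simp) ?_ ?_
    · intro i _
      show F.StronglyClosed (if i = 0 then ⊥ else if i = 1 then Z else P₀)
      split_ifs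
      exacts [Lib.FusionSys.stronglyClosed_bot F, Lib.FusionSys.stronglyClosed_groupFusionSystem hZ,
        Lib.FusionSys.stronglyClosed_top F]
    · intro i hi g hg y hy
      match i with
      | 0 =>
        have hy' : y ∈ Z := by simpa using hy
        simp [commutatorElement_def, Subgroup.mem_centralizer_iff.1 hy'.2 g hg]
      | 1 =>
        have hy' : y ∈ P₀ := by simpa using hy
        simpa using hcl (Subgroup.commutator_mem_commutator hg hy')
      | j + 2 => omega
  constructor
  · intro P φ hφ
    obtain ⟨ψ, hψ, hψe, hψS⟩ := hN.2 P φ hφ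
    obtain ⟨-, -, g, hg⟩ := hψ
    refine ⟨g, ?_, fun x => ?_⟩
    · refine Subgroup.mem_normalizer_fintype fun s hs => ?_
      have h1 : ψ (Subgroup.inclusion le_sup_right ⟨s, hs⟩) ∈ P₀ :=
        hψS.le ⟨Subgroup.inclusion le_sup_right ⟨s, hs⟩, hs, rfl⟩
      rwa [hg] at h1
    · rw [← hψe, hg]; rfl
  · exact le_antisymm (sSup_le fun Q hQ => hQ.1) (le_sSup hN)

end Cfsg.Agent.S5107
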