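import Cfsg.Statements.S5112
import Cfsg.Agent.Lib.FusionSys.Abelian

set_option autoImplicit false
open Cfsg

namespace Cfsg.Agent.S5112

/-- If S is a dihedral or generalized quaternion 2-group of order at least 16, then in every saturated fusion system over S (at the prime 2) the automorphism group Aut_F(S) consists of the inner automorphisms of S. -/
theorem result {Ω : Type*} [Group Ω] {S : Subgroup Ω} [Finite S] (n : ℕ) (hn : 4 ≤ n) (hshape : Nonempty (S ≃* DihedralGroup (2 ^ (n - 1))) ∨ Nonempty (S ≃* QuaternionGroup (2 ^ (n - 2)))) (F : Cfsg.FusionSystem S) (hF : F.IsSaturated 2) : F.autGroup S = Cfsg.Inn S := by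
  haveI : Fact (Nat.Prime 2) := ⟨Nat.prime_two⟩
  have key : ∀ (G : Type) [Group G] (r s : G) (m : ℕ), 3 ≤ m → orderOf r = 2 ^ m →
      (∀ g : G, (∃ k : ℕ, g = r ^ k) ∨ ((∃ k : ℕ, g = s * r ^ k) ∧ orderOf g ≤ 4)) →
      ∀ (α : MulAut G) (k : ℕ), Odd k → α ^ k = 1 → α = 1 := by
    intro G _ r s m hm hr hall α k hk hαk
    have h8 : 8 ≤ orderOf r := hr ▸ (le_of_eq_of_le (by norm_num : (8 : ℕ) = 2 ^ 3)
      (Nat.pow_le_pow_right two_pos hm))
    obtain ⟨j, hj⟩ : ∃ j : ℕ, α r = r ^ j := by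
      rcases hall (α r) with h | ⟨-, h⟩
      · exact h
      · rw [MulEquiv.orderOf_eq] at h
        omega
    have hiter : ∀ i : ℕ, (α ^ i) r = r ^ (j ^ i) := by
      intro i
      induction i with
      | zero => simp
      | succ i ih => rw [pow_succ', MulAut.mul_apply, ih, map_pow, hj, ← pow_mul, pow_succ']
    have hfix : α r = r := by
      have h1 := hiter k
      rw [hαk, MulAut.one_apply] at h1
      have h2 : 1 ≡ j ^ k [MOD 2 ^ m] := by
        rw [← hr]
        exact pow_eq_pow_iff_modEq.1 (by rw [pow_one]; exact h1)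
      have h3 : ((j : ZMod (2 ^ m))) ^ k = 1 := by
        have h4 := (ZMod.natCast_eq_natCast_iff _ _ _).2 h2
        push_cast at h4
        exact h4.symm
      haveI : NeZero (2 ^ m) := ⟨pow_ne_zero _ two_ne_zero⟩
      have hcop : (orderOf (Units.ofPowEqOne _ k h3 hk.pos.ne')).Coprime
          (Fintype.card (ZMod (2 ^ m))ˣ) := by
        rw [ZMod.card_units_eq_totient, Nat.totient_prime_pow Nat.prime_two (by omega : 0 < m), show 2 - 1 = 1 from rfl, mul_one]
        refine Nat.Coprime.pow_right _ ?_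
        rw [Nat.coprime_two_right]
        exact Odd.of_dvd_nat hk (orderOf_dvd_of_pow_eq_one (Units.ext (by simpa using h3)))
      have h5 := orderOf_eq_one_iff.1
        (Nat.eq_one_of_dvd_coprimes hcop dvd_rfl orderOf_dvd_card)
      have h6 : (j : ZMod (2 ^ m)) = ((1 : ℕ) : ZMod (2 ^ m)) := by
        simpa using congrArg Units.val h5
      rw [hj]
      conv_rhs => rw [← pow_one r]
      rw [pow_eq_pow_iff_modEq, hr]
      exact (ZMod.natCast_eq_natCast_iff _ _ _).1 h6
    have hrk : ∀ i : ℕ, α (r ^ i) = r ^ i := fun i => by rw [map_pow, hfix]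
    have hs : α s = s := by
      rcases hall (α s) with ⟨i, hi⟩ | ⟨⟨i, hi⟩, -⟩
      · exact α.injective (hi.trans (hrk i).symm) |>.symm ▸ hrk i
      · have h1 : ∀ l : ℕ, (α ^ l) s = s * (r ^ i) ^ l := by
          intro l
          induction l with
          | zero => simp
          | succ l ih =>
            rw [pow_succ', MulAut.mul_apply, ih, map_mul, hi, map_pow, hrk, mul_assoc, ← pow_succ']
        have h2 := h1 k
        rw [hαk, MulAut.one_apply, left_eq_mul] at h2
        have h3 : orderOf (r ^ i) ∣ Nat.gcd k (2 ^ m) := Nat.dvd_gcd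
          (orderOf_dvd_of_pow_eq_one h2) (orderOf_dvd_of_pow_eq_one (by
            rw [pow_right_comm, ← hr, pow_orderOf_eq_one, one_pow]))
        rw [Nat.Coprime.pow_right m (Nat.coprime_two_right.2 hk), Nat.dvd_one,
          orderOf_eq_one_iff] at h3
        rw [hi, h3, mul_one]
    refine MulEquiv.ext fun g => ?_
    rw [MulAut.one_apply]
    rcases hall g with ⟨i, rfl⟩ | ⟨⟨i, rfl⟩, -⟩
    · exact hrk i
    · rw [map_mul, hs, hrk]
  have hD : ∀ (α : MulAut (DihedralGroup (2 ^ (n - 1)))) (k : ℕ), Odd k → α ^ k = 1 → α = 1 := by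
    haveI : NeZero (2 ^ (n - 1)) := ⟨pow_ne_zero _ two_ne_zero⟩
    refine key _ (DihedralGroup.r 1) (DihedralGroup.sr 0) (n - 1) (by omega)
      DihedralGroup.orderOf_r_one fun g => ?_
    cases g with
    | r i => exact Or.inl ⟨i.val, by rw [DihedralGroup.r_one_pow, ZMod.natCast_zmod_val]⟩
    | sr i =>
      refine Or.inr ⟨⟨i.val, ?_⟩, by rw [DihedralGroup.orderOf_sr]; norm_num⟩
      rw [DihedralGroup.r_one_pow, ZMod.natCast_zmod_val, DihedralGroup.sr_mul_r, zero_add]
  have hQ : ∀ (α : MulAut (QuaternionGroup (2 ^ (n - 2)))) (k : ℕ), Odd k → α ^ k = 1 → α = 1 := by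
    haveI : NeZero (2 ^ (n - 2)) := ⟨pow_ne_zero _ two_ne_zero⟩
    refine key _ (QuaternionGroup.a 1) (QuaternionGroup.xa 0) (n - 1) (by omega)
      (by rw [QuaternionGroup.orderOf_a_one, ← pow_succ', show n - 2 + 1 = n - 1 by omega])
      fun g => ?_
    cases g with
    | a i => exact Or.inl ⟨i.val, by rw [QuaternionGroup.a_one_pow, ZMod.natCast_zmod_val]⟩
    | xa i =>
      refine Or.inr ⟨⟨i.val, ?_⟩, (QuaternionGroup.orderOf_xa i).le⟩
      rw [QuaternionGroup.a_one_pow, ZMod.natCast_zmod_val, QuaternionGroup.xa_mul_a, zero_add]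
  have htriv : ∀ (α : MulAut S) (k : ℕ), Odd k → α ^ k = 1 → α = 1 := by
    intro α k hk hαk
    rcases hshape with ⟨⟨e⟩⟩ | ⟨⟨e⟩⟩
    · have := hD (MulAut.congr e α) k hk (by rw [← map_pow, hαk, map_one])
      exact (MulEquiv.map_eq_one_iff _).1 this
    · have := hQ (MulAut.congr e α) k hk (by rw [← map_pow, hαk, map_one])
      exact (MulEquiv.map_eq_one_iff _).1 this
  have hS : IsPGroup 2 S := by
    rcases hshape with ⟨⟨e⟩⟩ | ⟨⟨e⟩⟩
    · exact IsPGroup.of_card (n := n - 1 + 1)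
        (by rw [Nat.card_congr e.toEquiv, DihedralGroup.nat_card, pow_succ'])
    · haveI : NeZero (2 ^ (n - 2)) := ⟨pow_ne_zero _ two_ne_zero⟩
      exact IsPGroup.of_card (n := n - 2 + 2)
        (by rw [Nat.card_congr e.toEquiv, Nat.card_eq_fintype_card, QuaternionGroup.card, pow_add]
            ring)
  obtain ⟨-, -, R, hR⟩ := Cfsg.Lib.FusionSys.isFullyAutomized_and_fc_of_fn hS hF
    (Cfsg.Lib.FusionSys.isFullyNormalized_top F)
  have hA : IsPGroup 2 (F.autGroup S) := by
    rw [IsPGroup.iff_card]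
    obtain ⟨a, b, hb, hab⟩ := Nat.exists_eq_two_pow_mul_odd (n := Nat.card (F.autGroup S))
      Nat.card_pos.ne'
    refine ⟨a, ?_⟩
    suffices b = 1 by rw [hab, this, mul_one]
    by_contra hb1
    have hq := Nat.minFac_prime hb1
    haveI : Fact b.minFac.Prime := ⟨hq⟩
    obtain ⟨x, hx⟩ := exists_prime_orderOf_dvd_card' (G := F.autGroup S) b.minFac
      (hab ▸ Dvd.dvd.mul_left b.minFac_dvd _)
    have h1 := htriv x b.minFac (Odd.of_dvd_nat hb b.minFac_dvd)
      (by rw [← hx, ← SubmonoidClass.coe_pow, pow_orderOf_eq_one]; rfl)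
    rw [show x = 1 from Subtype.ext h1, orderOf_one] at hx
    exact hq.one_lt.ne hx
  have hinn : Inn ↥S = autInducedBy S S := by
    refine le_antisymm (Cfsg.Lib.FusionSys.inn_le_autInducedBy le_rfl) fun α hα => ?_
    obtain ⟨g, hg, h⟩ := Cfsg.Lib.FusionSys.mem_autInducedBy.1 hα
    exact ⟨⟨g, hg⟩, MulEquiv.ext fun x => Subtype.ext (h x).symm⟩
  rw [hinn]
  refine le_antisymm (fun α hα => ?_) (Cfsg.Lib.FusionSys.autInducedBy_le_autGroup le_rfl)
  have htop : (R : Subgroup (F.autGroup S)) = ⊤ := by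
    obtain ⟨T, hT⟩ := (hA.to_subgroup ⊤).exists_le_sylow
    rw [← R.3 (hA.to_subgroup ⊤) le_top]
  have h1 : (⟨α, hα⟩ : F.autGroup S) ∈ (R : Subgroup (F.autGroup S)) := htop ▸ trivial
  rw [hR] at h1
  exact h1

end Cfsg.Agent.S5112
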