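import Cfsg.Statements.S5114
import Cfsg.Agent.Lib.FusionSys.IndexPrime

set_option autoImplicit false
open Cfsg

namespace Cfsg.Agent.S5114

/-- Let F be a saturated fusion system over a finite p-group S and E a fusion system over S contained in F. If Aut_E(P) contains the subgroup of Aut_F(P) generated by its elements of p-power order for every subgroup P that is centric in F, then the same holds for every subgroup of S (E has index prime to p in F), every map of F with source a subgroup P of S is an element of Aut_F(S) composed with a map of E, and a subgroup is centric in E exactly when it is centric in F. -/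
theorem result {Ω : Type*} [Group Ω] {S : Subgroup Ω} [Finite S] (p : ℕ) [Fact p.Prime] (hS : IsPGroup p S) (F : Cfsg.FusionSystem S) (hF : F.IsSaturated p) (E : Cfsg.FusionSystem S) (hEF : E.IsSubsystemOf F) (h : ∀ P : Subgroup Ω, F.IsCentric P → (Subgroup.closure {α : ↥(F.autGroup P) | ∃ k : ℕ, orderOf α = p ^ k}).map (F.autGroup P).subtype ≤ E.autGroup P) : E.HasPrimeToPIndexIn F p ∧ (∀ (P : Subgroup Ω) (φ : P →* Ω), φ ∈ F.Hom P → ∃ α ∈ F.autGroup S, ∃ φ₀ ∈ E.Hom P, ∀ (x : P) (hx : φ₀ x ∈ S), φ x = ((α ⟨φ₀ x, hx⟩ : S) : Ω)) ∧ ∀ P : Subgroup Ω, E.IsCentric P ↔ F.IsCentric P := by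
  have h' : ∀ P : Subgroup Ω, F.IsCentric P → ∀ a ∈ F.autGroup P, (∃ k : ℕ, orderOf a = p ^ k) →
      a ∈ E.autGroup P := fun P hP a ha hk =>
    h P hP ⟨⟨a, ha⟩, Subgroup.subset_closure
      (hk.imp fun k e => (Subgroup.orderOf_mk a ha).trans e), rfl⟩
  refine ⟨⟨hEF, fun P hP => ?_⟩, fun P φ hφ => ?_, fun P => ⟨fun hcen => ⟨hcen.1, ?_⟩, fun hc => ?_⟩⟩
  · refine Subgroup.map_le_iff_le_comap.2 ((Subgroup.closure_le _).2 fun a ha => ?_)
    exact Cfsg.Lib.FusionSys.mem_autGroup_of_centric hS hF h' hP a.2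
      (ha.imp fun k e => (Subgroup.orderOf_coe a).trans e)
  · obtain ⟨α, hα, φ₀, hφ₀, he⟩ := Cfsg.Lib.FusionSys.exists_factor_of_centric hS hF h' hφ
    exact ⟨α, hα, φ₀, Cfsg.Lib.FusionSys.twistCore_le_right P hφ₀, he⟩
  · rintro Q ⟨φ, hφ, rfl⟩ c hc
    obtain ⟨α, -, φ₀, hφ₀, he⟩ := Cfsg.Lib.FusionSys.exists_factor_of_centric hS hF h' hφ
    have hφE := Cfsg.Lib.FusionSys.twistCore_le_right P hφ₀
    have hv := fun x => Cfsg.Lib.FusionSys.hom_mem hφE x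
    obtain ⟨hcS, hcC⟩ := Cfsg.Lib.FusionSys.mem_centralizerIn.1 hc
    have hd : ((α⁻¹ ⟨c, hcS⟩ : ↥S) : Ω) ∈ φ₀.range := by
      refine hcen.2 φ₀.range ⟨φ₀, hφE, rfl⟩ (Cfsg.Lib.FusionSys.mem_centralizerIn.2
        ⟨(α⁻¹ ⟨c, hcS⟩ : ↥S).2, ?_⟩)
      rintro _ ⟨x, rfl⟩
      have h1 : (⟨φ₀ x, hv x⟩ : ↥S) * α⁻¹ ⟨c, hcS⟩ = α⁻¹ ⟨c, hcS⟩ * ⟨φ₀ x, hv x⟩ := by
        apply α.injective
        rw [map_mul, map_mul, MulAut.apply_inv_self]
        apply Subtype.ext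
        show ((α ⟨φ₀ x, hv x⟩ : ↥S) : Ω) * c = c * ((α ⟨φ₀ x, hv x⟩ : ↥S) : Ω)
        rw [← he x (hv x)]
        exact (hcC _ ⟨x, rfl⟩).symm
      exact (congrArg Subtype.val h1).symm
    obtain ⟨x, hx⟩ := hd
    refine ⟨x, ?_⟩
    rw [he x (hv x), show (⟨φ₀ x, hv x⟩ : ↥S) = α⁻¹ ⟨c, hcS⟩ from Subtype.ext hx,
      MulAut.apply_inv_self]
  · exact ⟨hc.1, fun Q ⟨φ, hφ, hr⟩ => hc.2 Q ⟨φ, hEF P hφ, hr⟩⟩

end Cfsg.Agent.S5114
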