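import Cfsg.Statements.S5122
import Cfsg.Agent.Lib.FusionSys.OfGroup

set_option autoImplicit false
open Cfsg

namespace Cfsg.Agent.S5122

/-- Let G be a finite group with Sylow p-subgroup S. Every subgroup P of S has a G-conjugate Q ≤ S such that N_S(Q) is a Sylow p-subgroup of N_G(Q); and for any Q ≤ S with that property, C_S(Q) is a Sylow p-subgroup of C_G(Q) and the automorphisms of Q induced by N_S(Q) form a Sylow p-subgroup of those induced by N_G(Q). -/
theorem result {G : Type*} [Group G] [Finite G] (p : ℕ) [Fact p.Prime] (S : Sylow p G) : (∀ P : Subgroup G, P ≤ S → ∃ g : G, P.map (MulAut.conj g).toMonoidHom ≤ S ∧ (∃ R : Sylow p ↥(Subgroup.normalizer ((P.map (MulAut.conj g).toMonoidHom : Subgroup G) : Set G)), (R : Subgroup ↥(Subgroup.normalizer ((P.map (MulAut.conj g).toMonoidHom : Subgroup G) : Set G))) = (Cfsg.FusionSystem.normalizerIn (S : Subgroup G) (P.map (MulAut.conj g).toMonoidHom)).subgroupOf (Subgroup.normalizer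 ((P.map (MulAut.conj g).toMonoidHom : Subgroup G) : Set G)))) ∧ ∀ Q : Subgroup G, Q ≤ S → (∃ R : Sylow p ↥(Subgroup.normalizer (Q : Set G)), (R : Subgroup ↥(Subgroup.normalizer (Q : Set G))) = (Cfsg.FusionSystem.normalizerIn (S : Subgroup G) Q).subgroupOf (Subgroup.normalizer (Q : Set G))) → (∃ R : Sylow p ↥(Subgroup.centralizer (Q : Set G)), (R : Subgroup ↥(Subgroup.centralizer (Q : Set G))) = (Cfsg.FusionSystem.centralizerIn (S : Subgroup G) Q).subgroupOf (Subgroup.centralizer (Q : Set G))) ∧ (∃ R : Sylow p ↥(Cfsg.autInducedBy ⊤ Q), (R : Subgroup ↥(Cfsg.autInducedBy ⊤ Q)) = (Cfsg.autInducedBy (S : Subgroup G) Q).subgroupOf (Cfsg.autInducedBy ⊤ Q)) := by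
  have hK : ∀ (Q : Subgroup G) (g : G), g ∈ Subgroup.normalizer (Q : Set G) ↔
      g ∈ (⊤ : Subgroup G) ∧ g ∈ Subgroup.normalizer (Q : Set G) :=
    fun Q g => ⟨fun h => ⟨Subgroup.mem_top g, h⟩, And.right⟩
  constructor
  · intro P hP
    obtain ⟨Q, hQ, hn⟩ := Cfsg.Lib.FusionSys.exists_isFullyNormalized
      (fusionSystemOfSubgroup ⊤ (S : Subgroup G) le_top) hP
    obtain ⟨hQS, g, -, rfl⟩ := (Cfsg.Lib.FusionSys.isConj_ofSubgroup_iff hP).1 hQ
    exact ⟨g, hQS, Cfsg.Lib.FusionSys.exists_sylow_normalizer S.isPGroup'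
      (Cfsg.Lib.FusionSys.pConjInto_sylow S) (hK _) hn⟩
  · rintro Q hQ ⟨R, hR⟩
    have hn := Cfsg.Lib.FusionSys.isFullyNormalized_of_sylow (hTH := le_top) S.isPGroup' hQ
      (hK Q) R hR
    have hsat := Cfsg.Lib.FusionSys.isSaturated_ofSubgroup (hTH := le_top) S.isPGroup'
      (Cfsg.Lib.FusionSys.pConjInto_sylow S)
    refine ⟨Cfsg.Lib.FusionSys.exists_sylow_centralizer S.isPGroup'
      (Cfsg.Lib.FusionSys.pConjInto_sylow S)
      (fun g => ⟨fun h => ⟨Subgroup.mem_top g, h⟩, And.right⟩)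
      (Cfsg.Lib.FusionSys.isFullyAutomized_and_fc_of_fn S.isPGroup' hsat hn).1, ?_⟩
    exact Cfsg.Lib.FusionSys.exists_sylow_autInducedBy le_top (hK Q) R hR

end Cfsg.Agent.S5122
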