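import Cfsg.Statements.S5135
import Cfsg.Agent.Lib.FusionSys.Factor

set_option autoImplicit false
open Cfsg

namespace Cfsg.Agent.S5135

/-- Let G be a finite group, S a Sylow p-subgroup and H a normal subgroup of G. Then the fusion system of G/H on the image SH/H of S is the factor system of the fusion system of G on S modulo S ∩ H, read through the quotient map restricted to S: for each subgroup P' of SH/H, the conjugation maps by elements of G/H defined on P' with values in SH/H are exactly the homomorphisms induced by the conjugation maps by elements of G defined on the full preimage of P' in S with values in S. -/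
theorem result {G : Type*} [Group G] [Finite G] (p : ℕ) [Fact p.Prime] (S : Sylow p G) (H : Subgroup G) [H.Normal] : (Cfsg.groupFusionSystem (S : Subgroup G)).IsFactorSystem ((S : Subgroup G) ⊓ H) ((QuotientGroup.mk' H).comp (S : Subgroup G).subtype) (Cfsg.groupFusionSystem ((S : Subgroup G).map (QuotientGroup.mk' H))) := by
  classical
  set π := QuotientGroup.mk' H with hπ
  set θ := π.comp (S : Subgroup G).subtype with hθ
  have hrange : θ.range = (S : Subgroup G).map π := by
    rw [hθ, MonoidHom.range_comp, Subgroup.range_subtype]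
  have hker : ∀ s : (S : Subgroup G), θ s = 1 ↔ (s : G) ∈ (S : Subgroup G) ⊓ H := fun s =>
    ⟨fun h => ⟨s.2, (QuotientGroup.eq_one_iff _).1 h⟩, fun h => (QuotientGroup.eq_one_iff _).2 h.2⟩
  refine ⟨inf_le_left, hker, hrange, fun P' φ' => ⟨?_, ?_⟩⟩
  · rintro ⟨hP', hv, g', hg'⟩
    obtain ⟨g, rfl⟩ := QuotientGroup.mk'_surjective H g'
    refine ⟨hP', ?_⟩
    let P := Cfsg.FusionSystem.preimageAlong θ P'
    have hPS : P ≤ (S : Subgroup G) := Cfsg.Lib.FusionSys.preimageAlong_le
    let SH : Subgroup G := (S : Subgroup G) ⊔ H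
    let U : Subgroup G := P.map (MulAut.conj g).toMonoidHom
    have hU : U ≤ SH := by
      rintro _ ⟨x, hx, rfl⟩
      obtain ⟨hxS, hx'⟩ := Cfsg.Lib.FusionSys.mem_preimageAlong.1 hx
      have h1 := hv ⟨_, hx'⟩
      rw [hg' ⟨_, hx'⟩] at h1
      obtain ⟨s, hs, hse⟩ := h1
      have h2 : s⁻¹ * (g * x * g⁻¹) ∈ H := by
        refine (QuotientGroup.eq_one_iff _).1 ?_
        show π (s⁻¹ * (g * x * g⁻¹)) = 1
        rw [map_mul, map_inv, map_mul, map_mul, map_inv, hse]
        exact inv_mul_cancel _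
      have h3 := SH.mul_mem (Subgroup.mem_sup_left hs) (Subgroup.mem_sup_right h2)
      rwa [mul_inv_cancel_left] at h3
    have hUp : IsPGroup p (U.subgroupOf SH) :=
      ((S.isPGroup'.to_le hPS).map _).of_equiv (Subgroup.subgroupOfEquivOfLe hU).symm
    obtain ⟨R, hR⟩ := hUp.exists_le_sylow
    obtain ⟨l, hl⟩ := MulAction.exists_smul_eq SH R (S.subtype le_sup_left)
    have hl' : (l : G) ∈ (((S : Subgroup G) ⊔ H : Subgroup G) : Set G) := l.2
    rw [Subgroup.mul_normal] at hl'
    obtain ⟨s, hs, h, hh, hle⟩ := Set.mem_mul.1 hl'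
    have hin : ∀ x : P, h * g * (x : G) * (h * g)⁻¹ ∈ (S : Subgroup G) := by
      intro x
      have h1 : (⟨_, hU ⟨x, x.2, rfl⟩⟩ : SH) ∈ (R : Subgroup SH) := hR ⟨x, x.2, rfl⟩
      have h2 : MulAut.conj l (⟨_, hU ⟨x, x.2, rfl⟩⟩ : SH) ∈ ((l • R : Sylow p SH) : Subgroup SH) :=
        ⟨_, h1, rfl⟩
      rw [hl] at h2
      have h3 : (l : G) * (g * x * g⁻¹) * (l : G)⁻¹ ∈ (S : Subgroup G) := h2
      rw [← hle] at h3
      have h4 := (S : Subgroup G).mul_mem ((S : Subgroup G).mul_mem
        ((S : Subgroup G).inv_mem hs) h3) hs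
      simpa [mul_assoc, mul_inv_rev] using h4
    refine ⟨Cfsg.conjHom P (h * g), ⟨hPS, hin, h * g, fun _ => rfl⟩, hPS, hin,
      fun x => (Cfsg.Lib.FusionSys.mem_preimageAlong.1 x.2).2, fun x => ?_⟩
    rw [hg']
    show π g * π x * (π g)⁻¹ = π (h * g * x * (h * g)⁻¹)
    have hh' : π h = 1 := (QuotientGroup.eq_one_iff _).2 hh
    simp [map_mul, hh']
  · rintro ⟨hP', φ, ⟨hPS, hv, g, hg⟩, hi⟩
    refine ⟨hP', fun y => ?_, π g, fun y => ?_⟩
    · obtain ⟨x, hx⟩ := Cfsg.Lib.FusionSys.exists_lift_val hrange hP' y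
      rw [Cfsg.Lib.FusionSys.inducedAlong_apply hi hx.symm (hx' := hv x), ← hrange]
      exact ⟨_, rfl⟩
    · obtain ⟨x, hx⟩ := Cfsg.Lib.FusionSys.exists_lift_val hrange hP' y
      rw [Cfsg.Lib.FusionSys.inducedAlong_apply hi hx.symm (hx' := hv x), ← hx]
      show π (φ x) = π g * π x * (π g)⁻¹
      rw [hg, map_mul, map_mul, map_inv]

end Cfsg.Agent.S5135
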