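import Cfsg.Statements.S5138
import Cfsg.Agent.Lib.FusionSys.CentralProductNormal
-- import your own Cfsg.Agent.* helpers here

set_option autoImplicit false
open Cfsg

namespace Cfsg.Agent.S5138

open Cfsg.Lib.FusionSys Cfsg.FusionSystem

/-- Let F be a saturated fusion system over a finite p-group S and E₁, E₂ normal subsystems over T₁, T₂ with [T₁, T₂] = 1. Then there is a normal subsystem of F over T₁T₂ which, if moreover T₁ ∩ T₂ lies in the centre of E₁ and in the centre of E₂, is a central product of E₁ and E₂ (the factor system of a direct product of E₁ and E₂ modulo a subgroup of its centre meeting both factors trivially). -/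
theorem result {Ω : Type*} [Group Ω] {S : Subgroup Ω} [Finite S] (p : ℕ) [Fact p.Prime] (hS : IsPGroup p S) (F : Cfsg.FusionSystem S) (hF : F.IsSaturated p) {T₁ T₂ : Subgroup Ω} (E₁ : Cfsg.FusionSystem T₁) (E₂ : Cfsg.FusionSystem T₂) (hE₁ : E₁.IsNormalIn F p) (hE₂ : E₂.IsNormalIn F p) (hc : ⁅T₁, T₂⁆ = ⊥) : ∃ D : Cfsg.FusionSystem (T₁ ⊔ T₂), D.IsNormalIn F p ∧ (T₁ ⊓ T₂ ≤ E₁.center → T₁ ⊓ T₂ ≤ E₂.center → Cfsg.FusionSystem.IsCentralProductOf E₁ E₂ D) := by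
  classical
  have h1 : F.StronglyClosed T₁ := hE₁.1.2.2.2.1
  have h2 : F.StronglyClosed T₂ := hE₂.1.2.2.2.1
  haveI := finite_of_le h1.1
  haveI := finite_of_le h2.1
  have hcomm : ∀ a ∈ T₁, ∀ b ∈ T₂, a * b = b * a := fun a ha b hb => by
    have h := Subgroup.commutator_mem_commutator ha hb
    rw [hc, Subgroup.mem_bot] at h
    exact commutatorElement_eq_one_iff_mul_comm.1 h
  by_cases hz : T₁ ⊓ T₂ ≤ E₁.center ∧ T₁ ⊓ T₂ ≤ E₂.center
  · obtain ⟨D, hD, -⟩ := exists_centralProduct hS h1.1 h2.1 hE₁.1.1 hE₂.1.1 hcomm hz.1 hz.2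
    exact ⟨D, isNormalIn_of_centralProduct hS hE₁ hE₂ hD, fun _ _ => hD⟩
  · obtain ⟨R₁, hR₁⟩ := exists_pPrimeResidual (hS.to_le h1.1) hE₁.1.1
    obtain ⟨R₂, hR₂⟩ := exists_pPrimeResidual (hS.to_le h2.1) hE₂.1.1
    have h0 : F.StronglyClosed (T₁ ⊓ T₂) := stronglyClosed_inf h1 h2
    obtain ⟨D, hD, -⟩ := exists_centralProduct hS h1.1 h2.1 hR₁.1 hR₂.1 hcomm
      (le_center_residual (hS.to_le h1.1) hE₁.1.1 hR₁
        ⟨inf_le_left, fun R hR φ hφ x => h0.2 R hR φ (hE₁.1.2.2.1 R hφ) x⟩ fun t ht z hz' => hcomm t ht z hz'.2)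
      (le_center_residual (hS.to_le h2.1) hE₂.1.1 hR₂
        ⟨inf_le_right, fun R hR φ hφ x => h0.2 R hR φ (hE₂.1.2.2.1 R hφ) x⟩
        fun t ht z hz' => (hcomm z hz'.1 t ht).symm)
    exact ⟨D, isNormalIn_of_centralProduct hS (isNormalIn_residual hS hE₁.1 hR₁) (isNormalIn_residual hS hE₂.1 hR₂)
      hD, fun a b => absurd ⟨a, b⟩ hz⟩

end Cfsg.Agent.S5138
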