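import Cfsg.Statements.S5143
import Cfsg.Agent.Lib.FusionSys.ProductER.Unique

set_option autoImplicit false
open Cfsg

namespace Cfsg.Agent.S5143

open Cfsg.FusionSystem Cfsg.Lib.FusionSys

theorem residual_hom {Ω : Type*} [Group Ω] {S T R U : Subgroup Ω} [Finite S] {p : ℕ} [Fact p.Prime]
    {F : Cfsg.FusionSystem S} {E : Cfsg.FusionSystem T} (c : ProdCtx F E p) {D : Cfsg.FusionSystem R} (hRS : R ≤ S)
    (hED : E.IsSubsystemOf D)
    (hres : ∀ U, U ≤ T → ∀ a ∈ D.autGroup U, (orderOf a).Coprime p → a ∈ E.autGroup U)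
    (hU : U = T) {D₁ : Cfsg.FusionSystem U} (hD₁ : D₁.IsSaturated p) (hidx : D₁.HasPPowerIndexIn D p) :
    ∀ P : Subgroup Ω, D₁.Hom P = E.Hom P := by
  subst hU
  haveI := finite_of_le hRS
  have hUR : U ≤ R := hom_le (hED U (subtype_mem E le_rfl))
  intro P
  refine Set.Subset.antisymm (c.le_subsystem hD₁ (fun V hV a ha hc => hres V hV a
    ((mem_autGroup (hV.trans hUR)).2 (hidx.1 V ((mem_autGroup hV).1 ha))) hc) P) ?_
  exact subsystem_le_of_pPower (c.pS.to_le hRS) c.satE hED le_rfl hidx P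

/-- Let F be a saturated fusion system over a finite p-group S, E a normal subsystem over T, and R a subgroup with T ≤ R ≤ S. Then there is exactly one saturated subsystem D of F over R (exactly one family of map sets) whose p-residual subsystem is that of E: the hyperfocal subgroups of D and E coincide and the p-residual subsystems of D and of E have the same maps. -/
theorem result {Ω : Type*} [Group Ω] {S : Subgroup Ω} [Finite S] (p : ℕ) [Fact p.Prime] (hS : IsPGroup p S) (F : Cfsg.FusionSystem S) (hF : F.IsSaturated p) {T : Subgroup Ω} (E : Cfsg.FusionSystem T) (hE : E.IsNormalIn F p) (R : Subgroup Ω) (hTR : T ≤ R) (hRS : R ≤ S) : ∃ D : Cfsg.FusionSystem R, (D.IsSaturated p ∧ D.IsSubsystemOf F ∧ D.hyperfocalSubgroup p = E.hyperfocalSubgroup p ∧ ∀ (D₁ : Cfsg.FusionSystem (D.hyperfocalSubgroup p)) (E₁ : Cfsg.FusionSystem (E.hyperfocalSubgroup p)), D.IsPResidual p D₁ → E.IsPResidual p E₁ → ∀ P : Subgroup Ω, D₁.Hom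 P = E₁.Hom P) ∧ ∀ D' : Cfsg.FusionSystem R, D'.IsSaturated p → D'.IsSubsystemOf F → D'.hyperfocalSubgroup p = E.hyperfocalSubgroup p → (∀ (D₁ : Cfsg.FusionSystem (D'.hyperfocalSubgroup p)) (E₁ : Cfsg.FusionSystem (E.hyperfocalSubgroup p)), D'.IsPResidual p D₁ → E.IsPResidual p E₁ → ∀ P : Subgroup Ω, D₁.Hom P = E₁.Hom P) → ∀ P : Subgroup Ω, D'.Hom P = D.Hom P := by
  classical
  haveI := finite_of_le hRS
  have c : ProdCtx F E p := ⟨hS, hE⟩
  haveI := finite_of_le c.hTS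
  have hT₀T : E.hyperfocalSubgroup p ≤ T := hyperfocal_le E
  have hTp := hS.to_le c.hTS
  obtain ⟨E₁, hE₁, hE₁u⟩ := existsUnique_pPower hTp c.satE (E.hyperfocalSubgroup p) hT₀T le_rfl
  have c₁ : ProdCtx F E₁ p := ⟨hS, c.residual_isNormalIn hE₁⟩
  have hET : E₁.hyperfocalSubgroup p = E.hyperfocalSubgroup p :=
    hyperfocal_eq_of_pPower hTp (stronglyClosed_of_subsystem c.inv.1 c.closed_hyperfocal hT₀T) hE₁.2
  have hT₀R : E.hyperfocalSubgroup p ≤ R := hT₀T.trans hTR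
  obtain ⟨D, hD, hDF, hhyp, hED, hres⟩ := c₁.exists_system hET hT₀R hRS
  refine ⟨D, ⟨hD, hDF, hhyp, fun D₁ E₂ hD₁ hE₂ P => ?_⟩, fun D' hD' hD'F hhyp' hres' P => ?_⟩
  · rw [hE₁u E₂ hE₂.1 hE₂.2]
    exact residual_hom c₁ hRS hED hres hhyp hD₁.1 hD₁.2 P
  · have hR := hS.to_le hRS
    obtain ⟨D₂, hD₂, -⟩ := existsUnique_pPower hR hD' (D'.hyperfocalSubgroup p) (hyperfocal_le D') le_rfl
    have hD₂e : ∀ Q, D₂.Hom Q = E₁.Hom Q := hres' D₂ E₁ hD₂ hE₁
    have hED' : E₁.IsSubsystemOf D' := fun Q φ h => hD₂.2.1 Q ((hD₂e Q).symm ▸ h)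
    have hres₂ : ∀ U, U ≤ E.hyperfocalSubgroup p → ∀ a ∈ D'.autGroup U, (orderOf a).Coprime p →
        a ∈ E₁.autGroup U := by
      intro U hU a ha hc
      have hU' : U ≤ D'.hyperfocalSubgroup p := hhyp'.symm ▸ hU
      have h := hD₂.2.2.2 U hU' ⟨⟨a, ha⟩, Cfsg.Lib.Fusion.mem_pResidual_of_coprime
        (by rw [← Subgroup.orderOf_coe]; exact hc), rfl⟩
      refine (mem_autGroup hU).2 ?_
      show _ ∈ E₁.Hom U
      rw [← hD₂e U]
      exact (mem_autGroup hU').1 h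
    exact Set.Subset.antisymm (c₁.system_le hT₀R hRS hD hDF hhyp.le hED hD' hD'F hhyp'.le hED' hres₂ P)
      (c₁.system_le hT₀R hRS hD' hD'F hhyp'.le hED' hD hDF hhyp.le hED hres P)

end Cfsg.Agent.S5143
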