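import Cfsg.Statements.S5147
import Cfsg.Agent.Lib.FusionSys.Solvable
import Cfsg.Agent.Lib.FusionSys.ConstrainedSubnormal
import Cfsg.Agent.S5135

set_option autoImplicit false
open Cfsg

namespace Cfsg.Agent.S5147

/-- Let G be a finite group with Sylow 2-subgroup S whose 2-fusion system on S is constrained, and L a component of G (a subnormal quasisimple subgroup). Then the 2-fusion system of L/Z(L) on the image of S ∩ L is constrained. -/
theorem result {G : Type*} [Group G] [Finite G] (S : Sylow 2 G) (hF : (Cfsg.groupFusionSystem (S : Subgroup G)).IsConstrained 2) (L : Subgroup G) (hL : Cfsg.IsComponent L) : (Cfsg.groupFusionSystem (((S : Subgroup G).subgroupOf L).map (QuotientGroup.mk' (Subgroup.center L)))).IsConstrained 2 := by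
  obtain ⟨⟨R, hR⟩, hC⟩ := Lib.FusionSys.isConstrained_subnormal S hF hL.1
  rw [← hR] at hC ⊢
  set Z := Subgroup.center ↥L with hZ
  set X : Subgroup ↥L := (R : Subgroup ↥L) with hX
  have hcen : (Cfsg.groupFusionSystem X).IsCentral (X ⊓ Z) := by
    rw [Lib.FusionSys.isCentral_iff R.2 hC.1]
    refine ⟨inf_le_left, fun x hx y hy => ?_⟩
    obtain ⟨φ, ⟨-, -, g, hg⟩, rfl⟩ := hy
    rw [hg ⟨x, Subgroup.mem_zpowers x⟩]
    show g * x * g⁻¹ = x
    rw [Subgroup.mem_center_iff.1 hx.2 g, mul_inv_cancel_right]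
  exact Lib.FusionSys.isConstrained_factor_central R.2 hC hcen (S5135.result 2 R Z)

end Cfsg.Agent.S5147
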