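import Cfsg.Statements.S5152
import Cfsg.Agent.Lib.FusionSys.NormalizerTransport
import Cfsg.Agent.Lib.PGroup.Basic

set_option autoImplicit false
set_option linter.style.haveILetI false
open Cfsg Cfsg.FusionSystem Cfsg.Lib.FusionSys

namespace Cfsg.Agent.S5152

/-- Dichotomy for saturated fusion systems: a saturated fusion system over a finite p-group is of characteristic p-type (the normalizer system of every nontrivial fully normalized subgroup is constrained) or of component type (the centralizer system of some fully normalized subgroup of order p has a component). -/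
theorem result {Ω : Type*} [Group Ω] {S : Subgroup Ω} [Finite S] (p : ℕ) [Fact p.Prime] (hS : IsPGroup p S) (F : Cfsg.FusionSystem S) (hF : F.IsSaturated p) : F.IsOfCharacteristicPType p ∨ F.IsOfComponentType p := by
  by_cases hct : F.IsOfComponentType p
  · exact Or.inr hct
  refine Or.inl fun U hU1 hUn N hN => ?_
  have hnS : normalizerIn S U ≤ S := normalizerIn_le U
  haveI := finite_of_le hnS
  have hUN : U ≤ normalizerIn S U := le_normalizerIn hUn.1
  -- an element of order `p` of `U` central in its normalizer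
  have hnp : IsPGroup p (normalizerIn S U) := hS.to_le hnS
  haveI : (U.subgroupOf (normalizerIn S U)).Normal :=
    ⟨fun u hu g => (Subgroup.mem_normalizer_iff.1 g.2.2 u).1 hu⟩
  have hne : U.subgroupOf (normalizerIn S U) ≠ ⊥ := fun h => hU1 <| eq_bot_iff.2 fun u hu => by
    have := (Subgroup.subgroupOf_eq_bot.1 h).le_bot ⟨hu, hUN hu⟩
    exact this
  set Z := U.subgroupOf (normalizerIn S U) ⊓ Subgroup.center ↥(normalizerIn S U) with hZ
  have hZne : Z ≠ ⊥ := Cfsg.Lib.PGroup.inf_center_ne_bot hnp hne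
  haveI : Nontrivial Z := (Subgroup.nontrivial_iff_ne_bot Z).2 hZne
  obtain ⟨k, hk, hcard⟩ := (hnp.to_subgroup Z).nontrivial_iff_card.1 inferInstance
  obtain ⟨z, hz⟩ := exists_prime_orderOf_dvd_card' (G := Z) p (hcard ▸ dvd_pow_self p hk.ne')
  set x : Ω := (((z : Z) : ↥(normalizerIn S U)) : Ω) with hx
  have hxU : x ∈ U := (Subgroup.mem_inf.1 z.2).1
  have hxc : ∀ g ∈ normalizerIn S U, g * x = x * g := fun g hg =>
    congrArg Subtype.val (Subgroup.mem_center_iff.1 (Subgroup.mem_inf.1 z.2).2 ⟨g, hg⟩)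
  have hxp : orderOf x = p := by rw [hx, Subgroup.orderOf_coe, Subgroup.orderOf_coe, hz]
  set X₀ := Subgroup.zpowers x
  have hX₀S : X₀ ≤ S := Subgroup.zpowers_le.2 (hUn.1 hxU)
  obtain ⟨X, hX₀X, hXn⟩ := exists_isFullyNormalized F hX₀S
  obtain ⟨χ₀, hχ₀, hχ₀v, hχ₀X⟩ := exists_map_to_fn hS hF hXn hX₀X
  have hle : normalizerIn S U ≤ normalizerIn S X₀ := fun g hg => by
    refine mem_normalizerIn.2 ⟨hnS hg, Subgroup.centralizer_le_normalizer (X₀ : Set Ω) ?_⟩
    rw [Subgroup.mem_centralizer_iff]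
    rintro _ ⟨m, rfl⟩
    exact (Commute.zpow_right (hxc g hg) m).eq.symm
  have hχ := restrict_mem hχ₀ hle
  set χ := χ₀.comp (Subgroup.inclusion hle) with hχd
  set U' := (U.subgroupOf (normalizerIn S U)).map χ with hU'
  have hconj : F.IsConj U U' := ⟨_, restrict_mem hχ hUN, by
    ext y
    rw [mem_map_subgroupOf]
    exact ⟨fun ⟨u, hu⟩ => ⟨u, hUN u.2, u.2, hu⟩, fun ⟨u, _, hu, h⟩ => ⟨⟨u, hu⟩, h⟩⟩⟩
  have hU'S : U' ≤ S := (isConj_le hconj).2
  have hXS : X ≤ S := hXn.1
  have hXU' : X ≤ U' := by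
    rw [← hχ₀X]
    rintro _ ⟨⟨y, hy⟩, hyX, rfl⟩
    have hyU : y ∈ U := Subgroup.zpowers_le.2 hxU hyX
    exact ⟨⟨y, hUN hyU⟩, hyU, rfl⟩
  have hv : ∀ g, χ g ∈ normalizerIn S U' := fun g =>
    ⟨hom_mem hχ g, map_mem_normalizer χ g g.2.2⟩
  haveI := finite_of_le (normalizerIn_le (S := S) U')
  have hr : χ.range = normalizerIn S U' := range_eq_normalizerIn hUn hconj hχ hv
  have hU'n : F.IsFullyNormalized U' := by
    refine ⟨hU'S, fun R hR => ?_⟩
    refine (hUn.2 R (isConj_trans hconj hR)).trans (le_of_eq ?_)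
    rw [← hr, card_range hχ]
  -- the centralizer system of `X`
  have hcX : Nat.card X = p := by
    rw [← card_eq_of_isConj hX₀X, Nat.card_zpowers, hxp]
  have hXc := (isFullyAutomized_and_fc_of_fn hS hF hXn).1
  obtain ⟨C, hC⟩ := exists_centralizerSystem F hXS
  have hCsat := isSaturated_centralizerSystem hS hF hXc hC
  haveI := finite_of_le (centralizerIn_le (S := S) X)
  have hcS : IsPGroup p (centralizerIn S X) := hS.to_le (centralizerIn_le X)
  have hCcon : C.IsConstrained p := by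
    by_contra hnot
    exact hct ⟨X, hcX, hXn, C, hC, exists_component _ C rfl inferInstance hcS inferInstance hCsat hnot⟩
  -- the centralizer system of `U'` inside it
  have hU'C : U' ≤ centralizerIn S X := by
    rintro _ ⟨u, hu, rfl⟩
    refine mem_centralizerIn.2 ⟨hom_mem hχ u, fun y hy => ?_⟩
    obtain ⟨w, hw, hwX, rfl⟩ := mem_map_subgroupOf.1 (hχ₀X.ge hy)
    rw [hχd, MonoidHom.comp_apply, ← map_mul, ← map_mul]
    refine congrArg χ₀ (Subtype.ext ?_)
    obtain ⟨m, rfl⟩ := hwX
    exact (Commute.zpow_right (hxc u u.2) m).eq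
  have hcent : ∀ R : Subgroup Ω, centralizerIn (centralizerIn S X) R ≤ centralizerIn S R := fun R _ h =>
    mem_centralizerIn.2 ⟨(mem_centralizerIn.1 (mem_centralizerIn.1 h).1).1, (mem_centralizerIn.1 h).2⟩
  have heq : centralizerIn S U' = centralizerIn (centralizerIn S X) U' := by
    refine le_antisymm (fun c hc => ?_) (hcent U')
    obtain ⟨h1, h2⟩ := mem_centralizerIn.1 hc
    exact mem_centralizerIn.2 ⟨mem_centralizerIn.2 ⟨h1, fun y hy => h2 y (hXU' hy)⟩, h2⟩
  have hU'c : C.IsFullyCentralized U' := by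
    refine ⟨hU'C, fun R hR => ?_⟩
    rw [← heq]
    haveI := finite_of_le (centralizerIn_le (S := S) R)
    refine (Nat.card_le_card_of_injective _ (Subgroup.inclusion_injective (hcent R))).trans
      ((isFullyAutomized_and_fc_of_fn hS hF hU'n).1.2 R ?_)
    obtain ⟨φ, hφ, hφR⟩ := hR
    rw [hC] at hφ
    exact ⟨φ, hφ.1, hφR⟩
  obtain ⟨D₁, hD₁⟩ := exists_centralizerSystem C hU'C
  have hD₁c := isConstrained_centralizerSystem hcS hCcon hU'c hD₁
  obtain ⟨D, hD⟩ := exists_centralizerSystem F hU'S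
  have hDc : D.IsConstrained p := by
    refine isConstrained_copy heq (fun P => ?_) hD₁c
    ext φ
    rw [hD, hD₁]
    constructor
    · rintro ⟨hφ, hP, hvφ, ψ, hψ, hψe, hψU⟩
      have hPX : P ⊔ U' ≤ centralizerIn S X :=
        sup_le (hP.trans (heq.le.trans (centralizerIn_le U'))) hU'C
      have hψX : ∀ y, ψ y ∈ centralizerIn S X := by
        intro y
        refine mem_centralizerIn.2 ⟨hom_mem hψ y, fun w hw => ?_⟩
        have h := congrArg ψ (Subtype.ext ((mem_centralizerIn.1 (hPX y.2)).2 w hw) :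
          y * Subgroup.inclusion le_sup_right ⟨w, hXU' hw⟩ = Subgroup.inclusion le_sup_right ⟨w, hXU' hw⟩ * y)
        rw [map_mul, map_mul, hψU ⟨w, hXU' hw⟩] at h
        exact h
      have hψC : ψ ∈ C.Hom (P ⊔ U') := by
        rw [hC]
        have hs : (P ⊔ U') ⊔ X ≤ P ⊔ U' := sup_le le_rfl (hXU'.trans le_sup_right)
        exact ⟨hψ, hPX, hψX, ψ.comp (Subgroup.inclusion hs), restrict_mem hψ hs, fun _ => rfl,
          fun y => hψU ⟨y, hXU' y.2⟩⟩
      refine ⟨?_, hP.trans heq.le, fun y => heq.le (hvφ y), ψ, hψC, hψe, hψU⟩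
      exact hom_congr (restrict_mem hψC le_sup_left) fun y => (hψe y).symm
    · rintro ⟨hφ, hP, hvφ, ψ, hψ, hψe, hψU⟩
      rw [hC] at hφ hψ
      exact ⟨hφ.1, hP.trans heq.ge, fun y => heq.ge (hvφ y), ψ, hψ.1, hψe, hψU⟩
  -- back to the normalizer system
  obtain ⟨N', hN'⟩ := exists_normalizerSystem F hU'S
  have hN'sat := isSaturated_normalizerSystem hS hF hU'n hN'
  have hcN : centralizerIn (normalizerIn S U') U' = centralizerIn S U' := le_antisymm
    (fun c hc => mem_centralizerIn.2 ⟨normalizerIn_le U' (mem_centralizerIn.1 hc).1,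
      (mem_centralizerIn.1 hc).2⟩)
    (fun c hc => mem_centralizerIn.2 ⟨centralizerIn_le_normalizerIn U' hc, (mem_centralizerIn.1 hc).2⟩)
  obtain ⟨D', hD'⟩ := exists_centralizerSystem N' (le_normalizerIn hU'S)
  have hD'c : D'.IsConstrained p := by
    refine isConstrained_copy hcN (fun P => ?_) hDc
    ext φ
    rw [hD, hD']
    constructor
    · rintro ⟨hφ, hP, hvφ, ψ, hψ, hψe, hψU⟩
      exact ⟨subset_of_normalizerSystem hN' hφ, hP.trans hcN.le, fun y => hcN.le (hvφ y), ψ,
        subset_of_normalizerSystem hN' hψ, hψe, hψU⟩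
    · rintro ⟨hφ, hP, hvφ, ψ, hψ, hψe, hψU⟩
      have hPN : P ≤ normalizerIn S U' := hP.trans (centralizerIn_le_normalizerIn U')
      have hψN : ψ ∈ N'.Hom (P ⊔ U') := by
        refine mem_normalizerSystem_of_le hN' hψ le_sup_right (sup_le hPN (le_normalizerIn hU'S)) ?_
        ext y
        rw [mem_map_subgroupOf]
        constructor
        · rintro ⟨w, hw, hwU, rfl⟩
          rw [show ψ ⟨w, hw⟩ = w from hψU ⟨w, hwU⟩]
          exact hwU
        · exact fun hy => ⟨y, Subgroup.mem_sup_right hy, hy, hψU ⟨y, hy⟩⟩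
      refine ⟨?_, hP.trans hcN.ge, fun y => hcN.ge (hvφ y), ψ, hψN, hψe, hψU⟩
      exact hom_congr (restrict_mem hψN le_sup_left) fun y => (hψe y).symm
  exact isConstrained_normalizer_of_conj hS hUn hχ rfl hr hN hN'
    (isConstrained_of_centralizerSystem (hS.to_le (normalizerIn_le U')) hN'sat
      (isNormal_normalizerSystem hU'S hN') hD' hD'c)

end Cfsg.Agent.S5152
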