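import Cfsg.Statements.S5157
import Cfsg.Agent.Lib.FusionSys.Solvable

set_option autoImplicit false
open Cfsg
open scoped commutatorElement

namespace Cfsg.Agent.S5157

/-- A saturated fusion system F over a finite p-group S is solvable (for every subgroup R other than S that is strongly closed in F, the factor system of F modulo R has a nontrivial subgroup normal in it) if and only if there is a chain 1 = S₀ ≤ S₁ ≤ ⋯ ≤ Sₘ = S of subgroups strongly closed in F with every quotient Sᵢ₊₁/Sᵢ abelian. -/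
theorem result {Ω : Type*} [Group Ω] {S : Subgroup Ω} [Finite S] (p : ℕ) [Fact p.Prime] (hS : IsPGroup p S) (F : Cfsg.FusionSystem S) (hF : F.IsSaturated p) : F.IsSolvableSystem ↔ ∃ (n : ℕ) (T : Fin (n + 1) → Subgroup Ω), T 0 = ⊥ ∧ T (Fin.last n) = S ∧ Monotone T ∧ (∀ i, F.StronglyClosed (T i)) ∧ ∀ i : Fin n, ⁅T i.succ, T i.succ⁆ ≤ T (Fin.castSucc i) := by
  constructor
  · intro h
    obtain ⟨n, Z, h0, hn, hmono, hs, hab⟩ := Lib.FusionSys.exists_abelian_series hS hF h
    refine ⟨n, fun i => Z i, h0, hn, fun i j hij => hmono hij, fun i => hs i, fun i => ?_⟩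
    refine Subgroup.commutator_le.2 fun a ha b hb => ?_
    exact hab i a ha b hb
  · rintro ⟨n, T, h0, hn, -, hs, hab⟩
    refine Lib.FusionSys.isSolvableSystem_of_series hS hF (n := n)
      (Z := fun i => T ⟨min i n, by omega⟩) ?_ ?_ (fun i _ => hs _) ?_
    · rw [← h0]; exact congrArg T (Fin.ext (by simp))
    · rw [← hn]; exact congrArg T (Fin.ext (by simp))
    · intro i hi a ha b hb
      have h1 : (⟨min (i + 1) n, by omega⟩ : Fin (n + 1)) = (⟨i, hi⟩ : Fin n).succ :=
        Fin.ext (by simp; omega)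
      have h2 : (⟨min i n, by omega⟩ : Fin (n + 1)) = Fin.castSucc (⟨i, hi⟩ : Fin n) :=
        Fin.ext (by simp; omega)
      have ha' : a ∈ T ⟨min (i + 1) n, by omega⟩ := ha
      have hb' : b ∈ T ⟨min (i + 1) n, by omega⟩ := hb
      rw [h1] at ha' hb'
      show _ ∈ T ⟨min i n, _⟩
      rw [h2]
      exact hab ⟨i, hi⟩ (Subgroup.commutator_mem_commutator ha' hb')

end Cfsg.Agent.S5157
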