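import Cfsg.Statements.S5160
import Cfsg.Agent.Lib.FusionSys.Simple

set_option autoImplicit false
open Cfsg

namespace Cfsg.Agent.S5160

/-- Let G be a finite group with nontrivial Sylow p-subgroup S and F its fusion system on S. Suppose (a) no nontrivial proper subgroup of S is strongly closed in F, and (b) the automorphisms of S induced by G are generated by those induced, for R running over the fully normalized radical centric subgroups of F, by the subgroup of N_G(R) generated by its elements of p-power order. Then F is simple. -/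
theorem result {G : Type*} [Group G] [Finite G] (p : ℕ) [Fact p.Prime] (S : Sylow p G) (hS1 : (S : Subgroup G) ≠ ⊥) (ha : ∀ T : Subgroup G, (Cfsg.groupFusionSystem (S : Subgroup G)).StronglyClosed T → T = ⊥ ∨ T = (S : Subgroup G)) (hb : Cfsg.autInducedBy ⊤ (S : Subgroup G) = ⨆ (R : Subgroup G) (_ : (Cfsg.groupFusionSystem (S : Subgroup G)).IsFullyNormalized R ∧ (Cfsg.groupFusionSystem (S : Subgroup G)).IsRadical p R ∧ (Cfsg.groupFusionSystem (S : Subgroup G)).IsCentric R), Cfsg.autInducedBy (Subgroup.closure {g : G | g ∈ Subgroup.normalizer (R : Set G) ∧ ∃ k : ℕ, orderOf g = p ^ k}) (S : Subgroup G)) : (Cfsg.groupFusionSystem (S : Subgroup G)).IsSimple p := by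
  have hSp : IsPGroup p (S : Subgroup G) := S.isPGroup'
  have hF := Cfsg.Lib.FusionSys.isSaturated_groupFusionSystem S
  refine Cfsg.Lib.FusionSys.isSimple_of_forall hF hS1 ha fun E hE hEi => ?_
  rw [Cfsg.Lib.FusionSys.autGroup_groupFusionSystem _ le_rfl]
  refine hb.le.trans (iSup₂_le fun R hR α hα => ?_)
  obtain ⟨hfn, -, hRc⟩ := hR
  obtain ⟨g, hgK, hg⟩ := Cfsg.Lib.FusionSys.mem_autInducedBy.1 hα
  have hfa := (Cfsg.Lib.FusionSys.isFullyAutomized_and_fc_of_fn hSp hF hfn).2
  have key : ∀ x ∈ Subgroup.closure {g : G | g ∈ Subgroup.normalizer (R : Set G) ∧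
      ∃ k : ℕ, orderOf g = p ^ k}, ∃ hx : x ∈ Subgroup.normalizer (R : Set G),
        R.normalizerMonoidHom ⟨x, hx⟩ ∈ E.autGroup R := by
    intro x hx
    induction hx using Subgroup.closure_induction with
    | mem x hx =>
      obtain ⟨hxN, k, hk⟩ := hx
      refine ⟨hxN, Cfsg.Lib.FusionSys.autGroup_pElement_mem hEi hfa ?_ (k := k) ?_⟩
      · rw [Cfsg.Lib.FusionSys.autGroup_groupFusionSystem _ hRc.1]
        exact Cfsg.Lib.FusionSys.conjAut_mem_autInducedBy hxN (Subgroup.mem_top x)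
      · have h1 : (⟨x, hxN⟩ : Subgroup.normalizer (R : Set G)) ^ p ^ k = 1 :=
          Subtype.ext (by rw [SubgroupClass.coe_pow, ← hk, pow_orderOf_eq_one]; rfl)
        rw [← map_pow, h1, map_one]
    | one =>
      refine ⟨Subgroup.one_mem _, ?_⟩
      have h1 : (⟨1, Subgroup.one_mem _⟩ : Subgroup.normalizer (R : Set G)) = 1 := rfl
      rw [h1, map_one]
      exact Subgroup.one_mem _
    | mul x y _ _ hx hy =>
      obtain ⟨hxN, hx⟩ := hx
      obtain ⟨hyN, hy⟩ := hy
      refine ⟨Subgroup.mul_mem _ hxN hyN, ?_⟩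
      have h1 : (⟨x * y, Subgroup.mul_mem _ hxN hyN⟩ : Subgroup.normalizer (R : Set G)) =
          ⟨x, hxN⟩ * ⟨y, hyN⟩ := rfl
      rw [h1, map_mul]
      exact Subgroup.mul_mem _ hx hy
    | inv x _ hx =>
      obtain ⟨hxN, hx⟩ := hx
      refine ⟨Subgroup.inv_mem _ hxN, ?_⟩
      have h1 : (⟨x⁻¹, Subgroup.inv_mem _ hxN⟩ : Subgroup.normalizer (R : Set G)) =
          ⟨x, hxN⟩⁻¹ := rfl
      rw [h1, map_inv]
      exact Subgroup.inv_mem _ hx
  obtain ⟨hgN, hgE⟩ := key g hgK
  refine Cfsg.Lib.FusionSys.conj_mem_of_centric hSp hF hE hEi.1 ?_ hRc.1 hRc ?_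
  · rw [Cfsg.Lib.FusionSys.autGroup_groupFusionSystem _ le_rfl]
    exact Cfsg.Lib.FusionSys.autInducedBy_mono le_top hα
  · exact Cfsg.Lib.FusionSys.hom_congr ((Cfsg.Lib.FusionSys.mem_autGroup hRc.1).1 hgE)
      fun x => hg _

end Cfsg.Agent.S5160
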