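import Cfsg.Statements.S5165
import Cfsg.Agent.Lib.FusionSys.AltSimpleOddMain

set_option autoImplicit false
open Cfsg

namespace Cfsg.Agent.S5165

/-- For n ≥ 6, a prime p with p² ≤ n, and n congruent to 0 or 1 modulo p, the p-fusion system of the alternating group of degree n on a Sylow p-subgroup is simple. -/
theorem result (n p : ℕ) (hn : 6 ≤ n) [Fact p.Prime] (hnp : p ^ 2 ≤ n) (hb : n % p ≤ 1) (S : Sylow p (alternatingGroup (Fin n))) : (Cfsg.groupFusionSystem (S : Subgroup (alternatingGroup (Fin n)))).IsSimple p := by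
  have hpp := (Fact.out : p.Prime)
  set m := n / p with hm
  set r := n % p with hr
  have hn' : n = p * m + r := (Nat.div_add_mod n p).symm
  by_cases hp : p = 2
  · subst hp
    have hm3 : 3 ≤ m := by omega
    obtain ⟨e⟩ : Nonempty (Cfsg.Lib.FusionSys.AltWreath.Pt 2 (Fin m) (Fin r) ≃ Fin n) :=
      ⟨Finite.equivFinOfCardEq (by rw [Nat.card_sum, Nat.card_prod, Nat.card_zmod, Nat.card_fin, Nat.card_fin, ← hn'])⟩
    exact Cfsg.Lib.FusionSys.AltWreath.Two.isSimple_two hm3 hb e.altCongrHom S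
  · have hpm : p ≤ m := by
      rw [hm, Nat.le_div_iff_mul_le hpp.pos, ← pow_two]
      exact hnp
    obtain ⟨e⟩ : Nonempty (Cfsg.Lib.FusionSys.AltWreath.Pt p
        (Cfsg.Lib.FusionSys.AltWreath.Pt p (Fin (m / p)) (Fin (m % p))) (Fin r) ≃ Fin n) :=
      ⟨Finite.equivFinOfCardEq (by
        rw [Nat.card_sum, Nat.card_prod, Nat.card_zmod, Nat.card_sum, Nat.card_prod, Nat.card_zmod,
          Nat.card_fin, Nat.card_fin, Nat.card_fin, Nat.div_add_mod, ← hn'])⟩
    exact Cfsg.Lib.FusionSys.AltWreath.OddPrime.isSimple_odd hp ((Nat.one_le_div_iff hpp.pos).mpr hpm)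
      (Nat.mod_lt _ hpp.pos) hb e.altCongrHom S

end Cfsg.Agent.S5165
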