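import Cfsg.Statements.S5166
import Cfsg.Agent.Lib.FusionSys.SimpleTwo
import Cfsg.Agent.Lib.FusionSys.SylowTwoM11

set_option autoImplicit false
open Cfsg

namespace Cfsg.Agent.S5166

/-- The 2-fusion system of the Mathieu group M₁₁ (as the explicit permutation group carved out of the automorphism group of the binary Golay code) on a Sylow 2-subgroup is simple: saturated, over a nontrivial 2-group, with no normal subsystem other than the trivial one and itself. -/
theorem result (S : Sylow 2 Cfsg.Spor.M11) : (Cfsg.groupFusionSystem (S : Subgroup Cfsg.Spor.M11)).IsSimple 2 := by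
  haveI := Cfsg.Lib.Concrete.isSimple_sporM11
  refine Cfsg.Lib.FusionSys.isSimple_two_of_quasiDihedral (fun hc => ?_) S
    (Cfsg.Lib.FusionSys.isQuasiDihedral_sylow_sporM11 S)
  have hbot : commutator Cfsg.Spor.M11 = ⊥ :=
    (commutator_eq_bot_iff_center_eq_top _).2
      (eq_top_iff.2 fun x _ => Subgroup.mem_center_iff.2 fun y => hc.is_comm.comm y x)
  have : Nontrivial Cfsg.Spor.M11 := inferInstance
  exact absurd (Cfsg.Lib.Concrete.perfect_sporM11.symm.trans hbot) top_ne_bot

end Cfsg.Agent.S5166
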