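import Cfsg.Statements.S5178
import Cfsg.Agent.S5265
import Cfsg.Agent.Lib.SPEmbedded
import Cfsg.Agent.Lib.PGroup.AbelianIndexP

set_option autoImplicit false
universe u
open Cfsg

namespace Cfsg.Agent.S5178

open Cfsg.FusionSystem
open Cfsg.Lib.FusionSys
open Cfsg.Lib.PGroup
open Cfsg.Lib.FusionSys.RankTwo (basic map_center_eq)
open Cfsg.Agent.S5265 (center_facts ess_data)
open scoped commutatorElement Pointwise

variable {p : ℕ} [hp : Fact p.Prime] {Ω : Type u} [Group Ω] {S : Subgroup Ω} [Finite S] {F : FusionSystem S}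

/-- Without a nontrivial normal subgroup, a centre of index at most `p ^ 2` has order `p`, `p` odd. -/
theorem card_center_of_index_le_sq (hS : IsPGroup p S) (hF : F.IsSaturated p) (hcore : F.core = ⊥)
    (hp2 : p ≠ 2) (hna : ¬ IsMulCommutative ↥S) (hZ : (Subgroup.center ↥S).index ≤ p ^ 2) :
    Nat.card (Subgroup.center ↥S) = p := by
  classical
  obtain ⟨hQ, hxp, s, hsZ, hs1, hsp, hcomm⟩ := center_facts hS hZ hna
  have hab := hna
  by_cases hex : ∃ P, F.IsEssential p P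
  swap
  · exfalso
    push Not at hex
    have hn : F.IsNormal S := isNormal_of_forall_essential hS hF fun P hP => by
      rcases hP with rfl | hP
      · refine ⟨le_rfl, fun α _ => ?_⟩
        rw [Subgroup.subgroupOf_self, Subgroup.map_top_of_surjective _ α.surjective]
      · exact absurd hP (hex P)
    have hle : S ≤ F.core := le_sSup hn
    rw [hcore] at hle
    exact hs1 (Subtype.ext (Subgroup.mem_bot.mp (hle s.2)))
  obtain ⟨P₁, hP₁⟩ := hex
  obtain ⟨f₁, C, hf₁P, hf₁p, hf₁Z, hCZ, hCs, hCdec, hZP₁, hP₁dec, hCinv₁, hpl₁, hodd₁, htwo₁⟩ :=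
    ess_data hS hF hP₁ hQ hxp hsZ hs1 hsp hcomm
  haveI : Finite ↥(F.autGroup S) := Finite.of_injective
    (fun a : F.autGroup S => ((a : MulAut S) : S → S))
    (DFunLike.coe_injective.comp Subtype.val_injective)
  -- an automorphism of `S` has a power of index prime to `p` among the inner ones
  obtain ⟨m, hm, hinnpow⟩ : ∃ m : ℕ, ¬ p ∣ m ∧ ∀ γ ∈ F.autGroup S, γ ^ m ∈ Inn S := by
    obtain ⟨-, R₀, hR₀⟩ := (isFullyAutomized_and_fc_of_fn hS hF (isFullyNormalized_top F)).2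
    have heq : (R₀ : Subgroup ↥(F.autGroup S)) = (Inn ↥S).subgroupOf (F.autGroup S) := by
      rw [hR₀]
      refine le_antisymm (fun a ha => ?_) (Subgroup.subgroupOf_mono _ (inn_le_autInducedBy le_rfl))
      obtain ⟨n, hn, hna⟩ := mem_autInducedBy.1 (Subgroup.mem_subgroupOf.mp ha)
      exact ⟨⟨n, hn⟩, MulEquiv.ext fun x => Subtype.ext (hna x).symm⟩
    haveI := inn_subgroupOf_normal (P := S) (F.autGroup S)
    refine ⟨((Inn ↥S).subgroupOf (F.autGroup S)).index, heq ▸ R₀.not_dvd_index, fun γ hγ => ?_⟩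
    exact Subgroup.pow_index_mem ((Inn ↥S).subgroupOf (F.autGroup S)) (⟨γ, hγ⟩ : ↥(F.autGroup S))
  have hautZ : ∀ γ : MulAut S, ∀ z ∈ Subgroup.center S, γ z ∈ Subgroup.center S := fun γ z hz => by
    rw [← map_center_eq γ]; exact ⟨z, hz, rfl⟩
  -- automorphisms close to the identity on the centre are trivial on it
  have heqZ : ∀ γ ∈ F.autGroup S, γ s = s → ∀ z ∈ Subgroup.center S,
      z⁻¹ * γ z ∈ Subgroup.zpowers s → γ z = z := by
    intro γ hγ hγs z hz hd
    obtain ⟨y, hy⟩ := hinnpow γ hγ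
    obtain ⟨i, hi⟩ := mem_powers_iff_mem_zpowers.mpr hd
    have hi' : γ z = z * s ^ i := by rw [show s ^ i = _ from hi, mul_inv_cancel_left]
    have hiter : ∀ n : ℕ, (γ ^ n) z = z * s ^ (i * n) := by
      intro n
      induction n with
      | zero => simp
      | succ n ih =>
        rw [pow_succ', MulAut.mul_apply, ih, map_mul, map_pow, hγs, hi', mul_assoc, ← pow_add]
        ring_nf
    have h1 := hiter m
    rw [← hy, MulAut.conj_apply, Subgroup.mem_center_iff.mp hz y, mul_inv_cancel_right] at h1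
    have h2 : p ∣ i * m := by
      rw [← orderOf_eq_prime hsp hs1]
      exact orderOf_dvd_of_pow_eq_one (mul_eq_left.mp h1.symm)
    obtain ⟨t, rfl⟩ := ((Fact.out : p.Prime).dvd_mul.mp h2).resolve_right hm
    rw [hi', pow_mul, hsp, one_pow, mul_one]
  have hsaut : ∀ γ : MulAut S, γ s ∈ Subgroup.zpowers s := by
    intro γ
    obtain ⟨a, b, hne⟩ : ∃ a b : S, a * b ≠ b * a := by
      by_contra h
      push Not at h
      exact hab ⟨⟨h⟩⟩
    have h1 : ⁅a, b⁆ ≠ 1 := fun h => hne (commutatorElement_eq_one_iff_mul_comm.mp h)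
    obtain ⟨i, hi⟩ := mem_powers_iff_mem_zpowers.mpr (hcomm a b)
    have hi' : s ^ i = ⁅a, b⁆ := hi
    have hpi : ¬ p ∣ i := fun ⟨t, ht⟩ => h1 (by rw [← hi', ht, pow_mul, hsp, one_pow])
    refine Plane.mem_of_pow_mem (k := 1) (m := i) (by rw [pow_one, ← map_pow, hsp, map_one]) hpi ?_
    rw [← map_pow, hi', map_commutatorElement]
    exact hcomm _ _
  -- it is enough that `C` is trivial
  obtain ⟨D, hD, hDs, hDC, g, hgP, hgcoset, hgp⟩ := hodd₁ hp2
  have hp' : p.Prime := Fact.out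
  have hDz : ∀ z ∈ Subgroup.center S, D z = z → z ∈ C := by
    intro z hz hfix
    obtain ⟨i, c, hc, rfl⟩ := hCdec z hz
    rw [map_mul, map_pow, hDs, hDC c hc, ← pow_mul, mul_right_cancel_iff] at hfix
    have h1 := Plane.modEq_of_pow_eq hsp hs1 hfix
    have h2 : p ∣ i := by
      have h3 := (Nat.modEq_iff_dvd' (show i ≤ 2 * i by omega)).mp h1.symm
      rwa [show 2 * i - i = i by omega] at h3
    obtain ⟨t, rfl⟩ := h2
    rw [pow_mul, hsp, one_pow, one_mul]
    exact hc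
  -- an automorphism doubling `s` and trivial modulo it agrees with `D` on the centre
  have hagree : ∀ γ ∈ F.autGroup S, γ s = s ^ 2 →
      (∀ z ∈ Subgroup.center S, z⁻¹ * γ z ∈ Subgroup.zpowers s) → ∀ z ∈ Subgroup.center S, γ z = D z := by
    intro γ hγ hγs hγd z hz
    obtain ⟨i, c, hc, rfl⟩ := hCdec z hz
    rw [map_mul, map_mul, map_pow, map_pow, hγs, hDs, hDC c hc]
    congr 1
    obtain ⟨k, hk⟩ := mem_powers_iff_mem_zpowers.mpr (hγd c (hCZ hc))
    have hk' : γ c = c * s ^ k := by rw [show s ^ k = _ from hk, mul_inv_cancel_left]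
    have h1 := heqZ (D⁻¹ * γ) ((F.autGroup S).mul_mem ((F.autGroup S).inv_mem hD) hγ)
      (by rw [MulAut.mul_apply, hγs, ← hDs, Transvection.inv_app]) c (hCZ hc) ?_
    · rw [MulAut.mul_apply] at h1
      have h2 := congrArg D h1
      rw [← MulAut.mul_apply, mul_inv_cancel, MulAut.one_apply, hDC c hc] at h2
      exact h2
    · rw [MulAut.mul_apply, hk', map_mul, map_pow]
      have hDic : D⁻¹ c = c := by conv_lhs => rw [← hDC c hc]; rw [Transvection.inv_app]
      rw [hDic, inv_mul_cancel_left]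
      exact Subgroup.pow_mem _ (hsaut D⁻¹) k
  have hDdisp : ∀ z ∈ Subgroup.center S, z⁻¹ * D z ∈ Subgroup.zpowers s := by
    intro z hz
    obtain ⟨i, c, hc, rfl⟩ := hCdec z hz
    rw [map_mul, map_pow, hDs, hDC c hc, mul_inv_rev, mul_assoc, ← mul_assoc (s ^ i)⁻¹,
      ← (show Commute ((s ^ i)⁻¹ * (s ^ 2) ^ i) c from Subgroup.mem_center_iff.mp (hCZ hc) _).eq.symm,
      inv_mul_cancel_left]
    exact mul_mem (inv_mem (Subgroup.pow_mem _ (Subgroup.mem_zpowers s) i))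
      (Subgroup.pow_mem _ (Subgroup.pow_mem _ (Subgroup.mem_zpowers s) 2) i)
  have hinvS : ∀ γ ∈ F.autGroup S, ∀ c ∈ C, γ c ∈ C := by
    intro γ hγ c hc
    have hsym : ∀ x : S, γ (γ⁻¹ x) = x := fun x => by
      rw [← MulAut.mul_apply, mul_inv_cancel, MulAut.one_apply]
    refine hDz _ (hautZ γ c (hCZ hc)) ?_
    have h1 := hagree (γ * D * γ⁻¹) ((F.autGroup S).mul_mem ((F.autGroup S).mul_mem hγ hD)
      ((F.autGroup S).inv_mem hγ)) ?_ ?_ (γ c) (hautZ γ c (hCZ hc))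
    · rw [MulAut.mul_apply, MulAut.mul_apply, Transvection.inv_app, hDC c hc] at h1
      exact h1.symm
    · obtain ⟨k, hk⟩ := mem_powers_iff_mem_zpowers.mpr (hsaut γ⁻¹)
      have hk' : s ^ k = γ⁻¹ s := hk
      rw [MulAut.mul_apply, MulAut.mul_apply, ← hk', map_pow, hDs, ← pow_mul, mul_comm 2 k, pow_mul,
        hk', map_pow, hsym]
    · intro z hz
      obtain ⟨k, hk⟩ := hDdisp (γ⁻¹ z) (hautZ γ⁻¹ z hz)
      have h2 : z⁻¹ * (γ * D * γ⁻¹) z = γ ((γ⁻¹ z)⁻¹ * D (γ⁻¹ z)) := by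
        rw [map_mul, map_inv, hsym, MulAut.mul_apply, MulAut.mul_apply]
      rw [h2, ← (show s ^ k = _ from hk), map_zpow]
      exact zpow_mem (hsaut γ) k
  have hsame : ∀ P, F.IsEssential p P → (∀ z ∈ Subgroup.center S, (z : Ω) ∈ P) ∧
      ∀ α ∈ F.autGroup P, ∀ x : P, ∀ c ∈ C, (x : Ω) = c → ∃ c' ∈ C, ((α x : P) : Ω) = c' := by
    intro P hP
    obtain ⟨f, CP, -, -, -, hCPZ, -, hCPdec, hZP, -, hinv, -, hodd, -⟩ :=
      ess_data hS hF hP hQ hxp hsZ hs1 hsp hcomm
    obtain ⟨D', hD', hD's, hD'C, -⟩ := hodd hp2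
    have hd' : ∀ z ∈ Subgroup.center S, z⁻¹ * D' z ∈ Subgroup.zpowers s := by
      intro z hz
      obtain ⟨i, c, hc, rfl⟩ := hCPdec z hz
      rw [map_mul, map_pow, hD's, hD'C c hc, mul_inv_rev, mul_assoc, ← mul_assoc (s ^ i)⁻¹,
        ← (show Commute ((s ^ i)⁻¹ * (s ^ 2) ^ i) c from Subgroup.mem_center_iff.mp (hCPZ hc) _).eq.symm,
        inv_mul_cancel_left]
      exact mul_mem (inv_mem (Subgroup.pow_mem _ (Subgroup.mem_zpowers s) i))
        (Subgroup.pow_mem _ (Subgroup.pow_mem _ (Subgroup.mem_zpowers s) 2) i)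
    have heq := hagree D' hD' hD's hd'
    have hCP : CP = C := by
      refine le_antisymm (fun c hc => hDz c (hCPZ hc) (by rw [← heq c (hCPZ hc), hD'C c hc])) fun c hc => ?_
      obtain ⟨i, c', hc', hcc⟩ := hCPdec c (hCZ hc)
      have h1 : D' c = c := by rw [heq c (hCZ hc), hDC c hc]
      conv_lhs at h1 => rw [hcc, map_mul, map_pow, hD's, hD'C c' hc']
      rw [hcc, ← pow_mul, mul_right_cancel_iff] at h1
      have h2 := (Nat.modEq_iff_dvd' (show i ≤ 2 * i by omega)).mp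
        (Plane.modEq_of_pow_eq hsp hs1 h1).symm
      rw [show 2 * i - i = i by omega] at h2
      obtain ⟨t, rfl⟩ := h2
      rw [hcc, pow_mul, hsp, one_pow, one_mul]
      exact hc'
    exact ⟨hZP, hCP ▸ hinv⟩
  have hCbot : C = ⊥ := by
    have hn : F.IsNormal (C.map S.subtype) := isNormal_of_forall_essential hS hF fun P hP => by
      rcases hP with rfl | hP
      · refine ⟨by rintro _ ⟨c, -, rfl⟩; exact c.2, fun γ hγ => ?_⟩
        refine Subgroup.eq_of_le_of_card_ge ?_ (Subgroup.card_map_of_injective γ.injective).ge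
        rintro _ ⟨x, hx, rfl⟩
        obtain ⟨c, hc, hcx⟩ := hx
        obtain rfl : c = x := Subtype.ext hcx
        exact ⟨γ c, hinvS γ hγ c hc, rfl⟩
      · haveI := finite_of_le hP.1.1
        obtain ⟨hZP, hinv⟩ := hsame P hP
        refine ⟨by rintro _ ⟨c, hc, rfl⟩; exact hZP c (hCZ hc), fun α hα => ?_⟩
        refine Subgroup.eq_of_le_of_card_ge ?_ (Subgroup.card_map_of_injective α.injective).ge
        rintro _ ⟨x, ⟨c, hc, hcx⟩, rfl⟩
        obtain ⟨c', hc', hc'e⟩ := hinv α hα x c hc hcx.symm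
        exact ⟨c', hc', hc'e.symm⟩
    have hle : C.map S.subtype ≤ F.core := le_sSup hn
    rwa [hcore, le_bot_iff, Subgroup.map_eq_bot_iff_of_injective _ S.subtype_injective] at hle
  have hZs : Subgroup.center ↥S = Subgroup.zpowers s := by
    refine le_antisymm (fun z hz => ?_) (Subgroup.zpowers_le.mpr hsZ)
    obtain ⟨i, c, hc, rfl⟩ := hCdec z hz
    rw [hCbot, Subgroup.mem_bot] at hc
    rw [hc, mul_one]
    exact Subgroup.pow_mem _ (Subgroup.mem_zpowers s) i
  rw [hZs, Nat.card_zpowers, orderOf_eq_prime hsp hs1]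

omit [Finite S] in
theorem mem_zpowers_of_mem_of_prime {s x : S} (hsp : s ^ p = 1) (hx : x ∈ Subgroup.zpowers s) (hx1 : x ≠ 1) :
    s ∈ Subgroup.zpowers x := by
  obtain ⟨i, hi⟩ := hx
  have hi' : s ^ i = x := hi
  have hni : ¬ (p : ℤ) ∣ i := by
    rintro ⟨t, rfl⟩
    exact hx1 (by rw [← hi', zpow_mul, zpow_natCast, hsp, one_zpow])
  obtain ⟨a, b, hab⟩ := (Nat.prime_iff_prime_int.mp hp.out).coprime_iff_not_dvd.mpr hni
  refine ⟨b, ?_⟩
  show x ^ b = s
  rw [← hi', ← zpow_mul, show i * b = 1 - a * (p : ℤ) by linarith, zpow_sub, zpow_one, mul_comm a,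
    zpow_mul, zpow_natCast, hsp, one_zpow, inv_one, mul_one]


/-- Let p be an odd prime, S a finite p-group containing an extraspecial subgroup Q of index p, and F a saturated fusion system over S whose largest subgroup normal in F is trivial. Then the centre of S equals the centre of Q. -/
theorem result {Ω : Type u} [Group Ω] {S : Subgroup Ω} [Finite S] (p : ℕ) [Fact p.Prime] (hp : Odd p) (hS : IsPGroup p S)
    (Q : Subgroup Ω) (hQS : Q ≤ S) (hQ : Cfsg.IsExtraspecial p ↥Q) (hQi : (Q.subgroupOf S).index = p)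
    (F : Cfsg.FusionSystem S) (hF : F.IsSaturated p) (hO : F.core = ⊥) :
    S ⊓ Subgroup.centralizer (S : Set Ω) = Q ⊓ Subgroup.centralizer (Q : Set Ω) := by
  classical
  have hpp := (Fact.out : p.Prime)
  have hp2 : p ≠ 2 := by rintro rfl; exact absurd hp (by decide)
  obtain ⟨⟨-, hfrQ, hcomQ⟩, hZQc⟩ := hQ
  haveI := finite_of_le hQS
  set Q' := Q.subgroupOf S with hQ'
  haveI hQn : Q'.Normal := normal_of_index_eq hS hQi
  let ι : Q →* S := Subgroup.inclusion hQS
  set Z := (Subgroup.center ↥Q).map ι with hZdef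
  have hZc : Nat.card Z = p := by
    rw [hZdef, Subgroup.card_map_of_injective (Subgroup.inclusion_injective hQS), hZQc]
  have hmemZ : ∀ x : S, x ∈ Z ↔ (x : Ω) ∈ Q ∧ ∀ q ∈ Q, (x : Ω) * q = q * x := by
    intro x
    constructor
    · rintro ⟨y, hy, rfl⟩
      exact ⟨y.2, fun q hq => (congrArg Subtype.val (Subgroup.mem_center_iff.1 hy ⟨q, hq⟩)).symm⟩
    · rintro ⟨hxQ, hx⟩
      exact ⟨⟨x, hxQ⟩, Subgroup.mem_center_iff.2 fun q => Subtype.ext (hx q q.2).symm, rfl⟩
  haveI hZn : Z.Normal := by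
    refine ⟨fun x hx g => ?_⟩
    rw [hmemZ] at hx ⊢
    refine ⟨hQn.conj_mem x hx.1 g, fun q hq => ?_⟩
    have h0 : (g : Ω)⁻¹ * q * g ∈ Q := by
      simpa [hQ', Subgroup.mem_subgroupOf, mul_assoc] using hQn.conj_mem ⟨q, hQS hq⟩ hq g⁻¹
    have h1 := hx.2 _ h0
    simp only [Subgroup.coe_mul, InvMemClass.coe_inv]
    calc (g : Ω) * x * (g : Ω)⁻¹ * q = g * ((x : Ω) * ((g : Ω)⁻¹ * q * g)) * (g : Ω)⁻¹ := by group
      _ = g * (((g : Ω)⁻¹ * q * g) * x) * (g : Ω)⁻¹ := by rw [h1]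
      _ = q * (g * x * (g : Ω)⁻¹) := by group
  have hZcen : Z ≤ Subgroup.center ↥S := le_center_of_card_eq_prime hS hZc
  refine le_antisymm (fun x hx => ?_) fun x hx => ?_
  swap
  · have h1 : (⟨x, hQS hx.1⟩ : S) ∈ Z := (hmemZ _).2 ⟨hx.1, fun q hq =>
      (Subgroup.mem_centralizer_iff.1 hx.2 q hq).symm⟩
    exact ⟨hQS hx.1, Subgroup.mem_centralizer_iff.2 fun q hq =>
      congrArg Subtype.val (Subgroup.mem_center_iff.1 (hZcen h1) ⟨q, hq⟩)⟩
  suffices hxQ : x ∈ Q from ⟨hxQ, Subgroup.centralizer_le (SetLike.coe_subset_coe.2 hQS) hx.2⟩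
  by_contra hxQ
  set z : S := ⟨x, hx.1⟩ with hzdef
  have hzc : z ∈ Subgroup.center ↥S := Subgroup.mem_center_iff.2 fun g =>
    Subtype.ext (Subgroup.mem_centralizer_iff.1 hx.2 g g.2)
  obtain ⟨s, hsZ, hs1⟩ : ∃ s ∈ Z, s ≠ 1 := by
    by_contra h
    push Not at h
    rw [show Z = ⊥ from eq_bot_iff.2 fun y hy => Subgroup.mem_bot.2 (h y hy), Subgroup.card_bot] at hZc
    exact hpp.ne_one hZc.symm
  have hsp : s ^ p = 1 := by
    have := pow_card_eq_one' (x := (⟨s, hsZ⟩ : Z))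
    rw [hZc] at this
    exact congrArg Subtype.val this
  have hZs : Subgroup.zpowers s = Z := Subgroup.eq_of_le_of_card_ge (Subgroup.zpowers_le.2 hsZ)
    (by rw [hZc, Nat.card_zpowers, orderOf_eq_prime hsp hs1])
  have hscen : s ∈ Subgroup.center ↥S := hZcen hsZ
  have hgen : ∀ g : S, ∃ (q : Q) (i : ℤ), g = ι q * z ^ i := by
    intro g
    have h1 : g ∈ Q' ⊔ Subgroup.zpowers z := by
      rw [sup_zpowers_eq_top_of_index (p := p) hQi (t := z) hxQ]
      exact Subgroup.mem_top g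
    obtain ⟨q, hq, w, ⟨i, hi⟩, rfl⟩ := Subgroup.mem_sup_of_normal_left.1 h1
    exact ⟨⟨(q : Ω), hq⟩, i, by rw [← (hi : z ^ i = w)]; rfl⟩
  have hQcomm : ∀ a b : Q, ι ⁅a, b⁆ ∈ Z := fun a b => ⟨⁅a, b⁆, hcomQ ▸
    Subgroup.commutator_mem_commutator (Subgroup.mem_top a) (Subgroup.mem_top b), rfl⟩
  have hcomm : ∀ a b : S, ⁅a, b⁆ ∈ Subgroup.zpowers s := by
    intro a b
    obtain ⟨q, i, rfl⟩ := hgen a
    obtain ⟨r, j, rfl⟩ := hgen b
    have hzi : ∀ (k : ℤ) (w : S), w * z ^ k = z ^ k * w := fun k w =>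
      Subgroup.mem_center_iff.1 (zpow_mem hzc k) w
    have h1 : ⁅ι q * z ^ i, ι r * z ^ j⁆ = ⁅ι q, ι r⁆ := by
      rw [commutatorElement_def, commutatorElement_def, mul_inv_rev, mul_inv_rev]
      calc ι q * z ^ i * (ι r * z ^ j) * ((z ^ i)⁻¹ * (ι q)⁻¹) * ((z ^ j)⁻¹ * (ι r)⁻¹) =
            ι q * (z ^ i * ι r) * (z ^ j * (z ^ i)⁻¹) * (ι q)⁻¹ * ((z ^ j)⁻¹ * (ι r)⁻¹) := by group
        _ = ι q * (ι r * z ^ i) * (z ^ j * (z ^ i)⁻¹) * (ι q)⁻¹ * ((z ^ j)⁻¹ * (ι r)⁻¹) := by rw [hzi i]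
        _ = ι q * ι r * (z ^ j * (ι q)⁻¹) * (z ^ j)⁻¹ * (ι r)⁻¹ := by group
        _ = ι q * ι r * ((ι q)⁻¹ * z ^ j) * (z ^ j)⁻¹ * (ι r)⁻¹ := by rw [hzi j]
        _ = ι q * ι r * (ι q)⁻¹ * (ι r)⁻¹ := by group
    rw [h1, ← map_commutatorElement, hZs]
    exact hQcomm q r
  have hpow : ∀ a : S, a ^ p ∈ Subgroup.zpowers s := by
    intro a
    obtain ⟨q, i, rfl⟩ := hgen a
    rw [hZs, (show Commute (ι q) (z ^ i) from Subgroup.mem_center_iff.1 (zpow_mem hzc i) (ι q)).mul_pow]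
    refine Z.mul_mem ⟨q ^ p, ?_, map_pow ι q p⟩ ?_
    · rw [SetLike.mem_coe, ← hfrQ]
      exact pow_mem_frattini (hS.to_le hQS) q
    · rw [← zpow_natCast, ← zpow_mul, mul_comm, zpow_mul, zpow_natCast]
      refine Z.zpow_mem ((hmemZ _).2 ⟨?_, fun q hq => ?_⟩) i
      · have h1 := Subgroup.pow_index_mem Q' z
        rw [hQi] at h1
        exact h1
      · exact (congrArg Subtype.val (Subgroup.mem_center_iff.1 (pow_mem hzc p) ⟨q, hQS hq⟩)).symm
  have hna : ¬ IsMulCommutative ↥S := by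
    intro h
    apply hs1
    have h1 : commutator ↥Q = ⊥ := by
      rw [commutator_def, eq_bot_iff, Subgroup.commutator_le]
      intro a _ b _
      rw [Subgroup.mem_bot, commutatorElement_eq_one_iff_mul_comm]
      exact Subgroup.inclusion_injective hQS (by
        rw [map_mul, map_mul]; exact h.is_comm.comm _ _)
    obtain ⟨y, hy, rfl⟩ := hsZ
    rw [← hcomQ, h1, SetLike.mem_coe, Subgroup.mem_bot] at hy
    rw [hy, map_one]
  have hidx : p ^ 2 < (Subgroup.center ↥S).index := by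
    by_contra hle
    push Not at hle
    have h1 := card_center_of_index_le_sq hS hF hO hp2 hna hle
    apply hxQ
    have h2 : z ∈ Z := (Subgroup.eq_of_le_of_card_ge hZcen (by rw [h1, hZc])).ge hzc
    exact ((hmemZ z).1 h2).1
  have hn : F.IsNormal (Z.map S.subtype) := isNormal_of_forall_essential hS hF fun P hP => by
    have hPS : P ≤ S := by rcases hP with rfl | hP; exacts [le_rfl, hP.1.1]
    haveI := finite_of_le hPS
    have hcenP : ∀ w ∈ Subgroup.center ↥S, (w : Ω) ∈ P := by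
      rcases hP with rfl | hP
      · exact fun w _ => w.2
      · exact fun w hw => hP.1.2 P (isConj_refl F hPS) (mem_centralizerIn.2
          ⟨w.2, fun y hy => (congrArg Subtype.val (Subgroup.mem_center_iff.1 hw ⟨y, hPS hy⟩)).symm⟩)
    refine ⟨?_, fun α hα => ?_⟩
    · rintro _ ⟨w, hw, rfl⟩
      exact hcenP w (hZcen hw)
    have hsP : (s : Ω) ∈ P := hcenP s hscen
    suffices hsinv : ((α ⟨s, hsP⟩ : P) : Ω) ∈ Z.map S.subtype by
      refine Subgroup.eq_of_le_of_card_ge ?_ (Subgroup.card_map_of_injective α.injective).ge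
      rintro _ ⟨w, ⟨v, hv, hvw⟩, rfl⟩
      obtain ⟨i, hi⟩ := (hZs ▸ hv : v ∈ Subgroup.zpowers s)
      have hw : w = (⟨s, hsP⟩ : P) ^ i := Subtype.ext (by
        rw [SubgroupClass.coe_zpow, ← (show (v : Ω) = (w : Ω) from hvw), ← (hi : s ^ i = v)]; rfl)
      rw [hw, Subgroup.mem_subgroupOf]
      show ((α ((⟨s, hsP⟩ : P) ^ i) : P) : Ω) ∈ _
      rw [map_zpow, SubgroupClass.coe_zpow]
      exact zpow_mem hsinv i
    have hval : ∀ y : P, y ≠ 1 → (⟨(y : Ω), hPS y.2⟩ : S) ∈ Subgroup.zpowers s →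
        (⟨((α y : P) : Ω), hPS (α y).2⟩ : S) ∈ Subgroup.zpowers s →
        ((α ⟨s, hsP⟩ : P) : Ω) ∈ Z.map S.subtype := by
      intro y hy1 hy hαy
      obtain ⟨i, hi⟩ := mem_zpowers_of_mem_of_prime (p := p) hsp hy
        (fun h => hy1 (Subtype.ext (congrArg (fun w : S => (w : Ω)) h)))
      have he : (⟨s, hsP⟩ : P) = y ^ i := Subtype.ext (by
        rw [SubgroupClass.coe_zpow, ← (congrArg (fun w : S => (w : Ω)) hi)]; rfl)
      rw [he, map_zpow, SubgroupClass.coe_zpow]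
      exact zpow_mem (show ((α y : P) : Ω) ∈ Z.map S.subtype from ⟨_, hZs.le hαy, rfl⟩) i
    by_cases hab : ∀ a b : P, a * b = b * a
    swap
    · push Not at hab
      obtain ⟨a, b, hab⟩ := hab
      refine hval ⁅a, b⁆ (fun h => hab (commutatorElement_eq_one_iff_mul_comm.1 h)) ?_ ?_
      · exact hcomm ⟨a, hPS a.2⟩ ⟨b, hPS b.2⟩
      · have := hcomm ⟨α a, hPS (α a).2⟩ ⟨α b, hPS (α b).2⟩
        rw [show (⟨((α ⁅a, b⁆ : P) : Ω), hPS (α ⁅a, b⁆).2⟩ : S) =
          ⁅(⟨α a, hPS (α a).2⟩ : S), ⟨α b, hPS (α b).2⟩⁆ from Subtype.ext (by rw [map_commutatorElement]; rfl)]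
        exact this
    by_cases hexp : ∀ a : P, a ^ p = 1
    swap
    · push Not at hexp
      obtain ⟨a, ha⟩ := hexp
      refine hval (a ^ p) ha (hpow ⟨a, hPS a.2⟩) ?_
      rw [show (⟨((α (a ^ p) : P) : Ω), hPS (α (a ^ p)).2⟩ : S) = (⟨α a, hPS (α a).2⟩ : S) ^ p from
        Subtype.ext (by rw [map_pow]; rfl)]
      exact hpow _
    rcases hP with rfl | hP
    · exact absurd ⟨⟨hab⟩⟩ hna
    -- an abelian essential subgroup
    exfalso
    set A := F.autGroup P with hA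
    obtain ⟨hC, hfn, hN, Y, hY⟩ := hP
    have hcen : centralizerIn S P ≤ P := hC.2 P (isConj_refl F hPS)
    set I := (Inn ↥P).subgroupOf A with hI
    have hI1 : ∀ a ∈ I, a = 1 := by
      rintro a ⟨y, hy⟩
      refine Subtype.ext (MulEquiv.ext fun v => ?_)
      show (a : MulAut P) v = v
      rw [← (show MulAut.conj y = (a : MulAut P) from hy)]
      show y * v * y⁻¹ = v
      rw [hab y v, mul_inv_cancel_right]
    set π := QuotientGroup.mk' I
    have hπinj : Function.Injective π := by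
      intro a b h
      exact inv_mul_eq_one.1 (hI1 _ (QuotientGroup.eq.1 h))
    set e : P := ⟨s, hsP⟩ with he
    have hnormP : ∀ n : S, (n : Ω) ∈ Subgroup.normalizer (P : Set Ω) := fun n => by
      refine Subgroup.mem_normalizer_fintype fun y hy => ?_
      have h1 := hcenP _ ((Subgroup.zpowers_le.2 hscen) (hcomm n ⟨y, hPS hy⟩))
      have h2 := P.mul_mem h1 hy
      simpa [commutatorElement_def] using h2
    have hdisp : ∀ (n : S) (v : P), ∃ i : ℤ, (n : Ω) * v * (n : Ω)⁻¹ = v * (s : Ω) ^ i := by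
      intro n v
      obtain ⟨i, hi⟩ := hcomm n ⟨v, hPS v.2⟩
      refine ⟨i, ?_⟩
      have h2 : ((⟨v, hPS v.2⟩ : S) : Ω) * (s : Ω) ^ i = (s : Ω) ^ i * v := by
        rw [← SubgroupClass.coe_zpow, ← Subgroup.coe_mul, Subgroup.mem_center_iff.1 (zpow_mem hscen i)]
        rfl
      rw [h2, ← SubgroupClass.coe_zpow, show (s ^ i : S) = ⁅n, (⟨v, hPS v.2⟩ : S)⁆ from hi,
        commutatorElement_def]
      simp [mul_assoc]
    -- a conjugate of the given subgroup containing the induced automorphisms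
    obtain ⟨-, R₀, hR₀⟩ := (isFullyAutomized_and_fc_of_fn hS hF hfn).2
    obtain ⟨hdvd, hne, P₀, hP₀⟩ := hY
    obtain ⟨h, hh⟩ := MulAction.exists_smul_eq (A ⧸ I) P₀ (R₀.mapSurjective (QuotientGroup.mk'_surjective I))
    set Y' := MulAut.conj h • Y with hY'
    have hY'emb : Cfsg.IsStronglyPEmbedded p Y' := by
      refine ⟨hdvd, fun htop => hne ?_, h • P₀, kGeneratedCore_le_of fun R hR hR1 =>
        kGeneratedCore_conj_le hP₀ h R hR hR1⟩
      rw [hY'] at htop
      exact eq_top_iff.2 fun w _ => Subgroup.smul_mem_pointwise_smul_iff.1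
        (htop ▸ Subgroup.mem_top (MulAut.conj h • w))
    have hnormY : ∀ R : Subgroup (A ⧸ I), R ≤ ((h • P₀ : Sylow p (A ⧸ I)) : Subgroup (A ⧸ I)) → R ≠ ⊥ →
        Subgroup.normalizer (R : Set (A ⧸ I)) ≤ Y' := fun R hR hR1 => kGeneratedCore_conj_le hP₀ h R hR hR1
    have hTY : ∀ a : A, (a : MulAut P) ∈ autInducedBy S P → a ≠ 1 →
        π a ∈ Y' ∧ orderOf (π a) = p ∧ ∀ b : A, a * b = b * a → π b ∈ Y' := by
      intro a ha ha1
      have hmem : π a ∈ ((h • P₀ : Sylow p (A ⧸ I)) : Subgroup (A ⧸ I)) := by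
        rw [hh, Sylow.coe_mapSurjective]
        exact ⟨a, by rw [hR₀]; exact ha, rfl⟩
      have ha1' : π a ≠ 1 := fun h1 => ha1 (hπinj (h1.trans (map_one π).symm))
      have hle := hnormY (Subgroup.zpowers (π a)) (Subgroup.zpowers_le.2 hmem)
        (fun h1 => ha1' (Subgroup.zpowers_eq_bot.1 h1))
      refine ⟨hle (Subgroup.le_normalizer (Subgroup.mem_zpowers _)), ?_, fun b hb => hle ?_⟩
      · refine orderOf_eq_prime ?_ ha1'
        obtain ⟨n, hn, hna'⟩ := mem_autInducedBy.1 ha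
        rw [← map_pow]
        refine (QuotientGroup.eq_one_iff _).2 ?_
        have hnP : n ^ p ∈ P := hcenP ((⟨n, hn⟩ : S) ^ p) (Subgroup.zpowers_le.2 hscen (hpow _))
        exact ⟨⟨n ^ p, hnP⟩, MulEquiv.ext fun v => Subtype.ext
          ((aut_pow_apply hna' p v).symm.trans (by rw [map_pow]; rfl))⟩
      · refine Subgroup.mem_normalizer_fintype fun y hy => ?_
        obtain ⟨i, rfl⟩ := hy
        rw [SetLike.mem_coe]
        refine ⟨i, ?_⟩
        show π a ^ i = π b * π a ^ i * (π b)⁻¹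
        rw [← map_zpow, ← map_inv, ← map_mul, ← map_mul]
        exact congrArg π ((Commute.zpow_right (show Commute b a from hb.symm) i).eq ▸
          (mul_inv_cancel_right _ _).symm)
    -- every element is centralized outside `P`
    have hfix : ∀ v : P, ∃ a : A, (a : MulAut P) ∈ autInducedBy S P ∧ a ≠ 1 ∧ (a : MulAut P) v = v := by
      intro v
      by_contra hno
      push Not at hno
      have hCv : ∀ n : S, n * ⟨v, hPS v.2⟩ = ⟨v, hPS v.2⟩ * n → (n : Ω) ∈ P := by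
        intro n hn
        by_contra hnP
        have hmemA := conjAut_mem_autInducedBy (hnormP n) n.2
        refine hno ⟨conjAut P (hnormP n), autInducedBy_le_autGroup hPS hmemA⟩ hmemA (fun h1 => hnP ?_) ?_
        · refine mem_of_conjAut_mem_inn hcen hPS n.2 (α := (1 : MulAut P)) (fun w => ?_) (one_mem _)
          exact congrArg (fun b : A => (((b : MulAut P) w : P) : Ω)) h1.symm
        · exact Subtype.ext (conj_eq_of_commute (congrArg Subtype.val hn))
      -- the subgroup `P` has index at most `p`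
      have hPi : (P.subgroupOf S).index ≤ p := by
        rw [Subgroup.index, ← hZc, ← hZs]
        refine Nat.card_le_card_of_injective
          (fun q : ↥S ⧸ P.subgroupOf S => (⟨⁅q.out, ⟨v, hPS v.2⟩⁆, hcomm _ _⟩ : Subgroup.zpowers s))
          fun q r hqr => ?_
        have h1 : q.out * ⟨v, hPS v.2⟩ * q.out⁻¹ = r.out * ⟨v, hPS v.2⟩ * r.out⁻¹ :=
          mul_right_cancel (b := (⟨v, hPS v.2⟩ : S)⁻¹) (congrArg Subtype.val hqr)
        rw [← QuotientGroup.out_eq' q, ← QuotientGroup.out_eq' r]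
        refine QuotientGroup.eq.2 (Subgroup.mem_subgroupOf.2 (hCv _ ?_))
        calc q.out⁻¹ * r.out * ⟨v, hPS v.2⟩ = q.out⁻¹ * (r.out * ⟨v, hPS v.2⟩ * r.out⁻¹) * r.out := by group
          _ = q.out⁻¹ * (q.out * ⟨v, hPS v.2⟩ * q.out⁻¹) * r.out := by rw [h1]
          _ = ⟨v, hPS v.2⟩ * (q.out⁻¹ * r.out) := by group
      have hPlt : P.subgroupOf S ≠ ⊤ := fun htop => hna ⟨⟨fun a b => by
        have ha : (a : Ω) ∈ P := (htop.ge (Subgroup.mem_top a) :)
        have hb : (b : Ω) ∈ P := (htop.ge (Subgroup.mem_top b) :)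
        exact Subtype.ext (congrArg (fun w : P => (w : Ω)) (hab ⟨a, ha⟩ ⟨b, hb⟩) :)⟩⟩
      obtain ⟨i, hi⟩ := hS.index (P.subgroupOf S)
      have hi1 : (P.subgroupOf S).index = p := by
        refine le_antisymm hPi ?_
        rw [hi]
        refine Nat.le_self_pow (fun h0 => hPlt ?_) p
        rw [h0, pow_zero, Subgroup.index_eq_one] at hi
        exact hi
      obtain ⟨w, hw⟩ : ∃ w : S, (w : Ω) ∉ P := by
        by_contra h1
        push Not at h1
        exact hPlt (eq_top_iff.2 fun w _ => h1 w)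
      -- then the centre has index at most `p ^ 2`
      refine absurd hidx (not_lt.2 ?_)
      let χ : P.subgroupOf S → Subgroup.zpowers s := fun u => ⟨⁅(u : S), w⁆, hcomm _ _⟩
      have hker : ∀ u r : S, (u : Ω) ∈ P → (r : Ω) ∈ P → ⁅u, w⁆ = ⁅r, w⁆ → u⁻¹ * r ∈ Subgroup.center ↥S := by
        intro u r hu hr hur
        refine Subgroup.mem_center_iff.2 fun g => ?_
        have h1 : u * w * u⁻¹ = r * w * r⁻¹ := mul_right_cancel (b := w⁻¹) hur
        have hle : P.subgroupOf S ⊔ Subgroup.zpowers w ≤ Subgroup.centralizer ({u⁻¹ * r} : Set S) := by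
          refine sup_le (fun y hy => Subgroup.mem_centralizer_singleton_iff.2 (Subtype.ext ?_))
            (Subgroup.zpowers_le.2 (Subgroup.mem_centralizer_singleton_iff.2 ?_))
          · exact congrArg (fun w : P => (w : Ω)) (hab ⟨y, hy⟩ (⟨u, hu⟩⁻¹ * ⟨r, hr⟩))
          · calc w * (u⁻¹ * r) = u⁻¹ * (u * w * u⁻¹) * r := by group
              _ = u⁻¹ * (r * w * r⁻¹) * r := by rw [h1]
              _ = u⁻¹ * r * w := by group
        rw [sup_zpowers_eq_top_of_index (p := p) hi1 (t := w) hw] at hle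
        exact Subgroup.mem_centralizer_singleton_iff.1 (hle (Subgroup.mem_top g))
      have hZleP : Subgroup.center ↥S ≤ P.subgroupOf S := fun w hw => hcenP w hw
      rw [← Subgroup.relIndex_mul_index hZleP, hi1, sq]
      refine Nat.mul_le_mul_right p ?_
      rw [Subgroup.relIndex, Subgroup.index, ← hZc, ← hZs]
      refine Nat.card_le_card_of_injective (fun q : ↥(P.subgroupOf S) ⧸ (Subgroup.center ↥S).subgroupOf (P.subgroupOf S) =>
        χ q.out) fun q r hqr => ?_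
      rw [← QuotientGroup.out_eq' q, ← QuotientGroup.out_eq' r]
      exact QuotientGroup.eq.2 (hker _ _ q.out.2 r.out.2 (congrArg Subtype.val hqr))
    obtain ⟨g, hg⟩ : ∃ g : A, π g ∉ Y' := by
      by_contra h1
      push Not at h1
      exact hY'emb.2.1 (eq_top_iff.2 fun w _ => by
        obtain ⟨a, rfl⟩ := QuotientGroup.mk'_surjective I w
        exact h1 a)
    obtain ⟨t, htT, ht1, hte⟩ := hfix ((g : MulAut P) e)
    obtain ⟨t₁, ht₁T, ht₁1, ht₁e⟩ := hfix ((g : MulAut P)⁻¹ e)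
    have htv : ∀ (a : A), (a : MulAut P) ∈ autInducedBy S P → (a : MulAut P) e = e ∧
        ∀ v, ∃ i : ℤ, (a : MulAut P) v = v * e ^ i := by
      intro a ha
      obtain ⟨n, hn, hna'⟩ := mem_autInducedBy.1 ha
      refine ⟨Subtype.ext ((hna' e).trans (conj_eq_of_commute
        (congrArg Subtype.val (Subgroup.mem_center_iff.1 hscen ⟨n, hn⟩)))), fun v => ?_⟩
      obtain ⟨i, hi⟩ := hdisp ⟨n, hn⟩ v
      exact ⟨i, Subtype.ext (by rw [hna', Subgroup.coe_mul, SubgroupClass.coe_zpow]; exact hi)⟩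
    set t' : A := g * t₁ * g⁻¹ with ht'
    have hcommt : t * t' = t' * t := by
      refine Subtype.ext (MulEquiv.ext fun v => ?_)
      obtain ⟨hte', hti⟩ := htv t htT
      obtain ⟨-, ht₁i⟩ := htv t₁ ht₁T
      have ht'i : ∀ v, ∃ i : ℤ, (t' : MulAut P) v = v * (g : MulAut P) e ^ i := by
        intro v
        obtain ⟨i, hi⟩ := ht₁i ((g : MulAut P)⁻¹ v)
        refine ⟨i, ?_⟩
        show (g : MulAut P) ((t₁ : MulAut P) ((g : MulAut P)⁻¹ v)) = _
        rw [hi, map_mul, MulAut.apply_inv_self, map_zpow]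
      have ht'e : (t' : MulAut P) e = e := by
        show (g : MulAut P) ((t₁ : MulAut P) ((g : MulAut P)⁻¹ e)) = _
        rw [ht₁e, MulAut.apply_inv_self]
      obtain ⟨i, hi⟩ := hti v
      obtain ⟨j, hj⟩ := ht'i v
      show (t : MulAut P) ((t' : MulAut P) v) = (t' : MulAut P) ((t : MulAut P) v)
      rw [hi, hj, map_mul, map_mul, map_zpow, map_zpow, hte, ht'e, hi, hj, mul_assoc, mul_assoc,
        hab (e ^ i)]
    obtain ⟨-, -, hcl⟩ := hTY t htT ht1
    obtain ⟨ht₁Y, ht₁o, -⟩ := hTY t₁ ht₁T ht₁1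
    refine hg (Cfsg.Lib.SPEmbedded.fusion_criterion hY'emb ht₁Y ht₁o ?_)
    have := hcl t' hcommt
    rwa [ht', map_mul, map_mul, map_inv] at this
  have hle : Z.map S.subtype ≤ F.core := le_sSup hn
  rw [hO, le_bot_iff, Subgroup.map_eq_bot_iff_of_injective _ S.subtype_injective] at hle
  rw [hle, Subgroup.card_bot] at hZc
  exact hpp.ne_one hZc.symm

end Cfsg.Agent.S5178
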