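import Cfsg.Statements.S5179
import Cfsg.Agent.Lib.FusionSys.CommutingTransvections
import Cfsg.Agent.Lib.FusionSys.RankTwoEssential
import Cfsg.Agent.Lib.PGroup.Basic

set_option autoImplicit false
universe u
open Cfsg

namespace Cfsg.Agent.S5179

open Cfsg.FusionSystem Cfsg.Lib.FusionSys Cfsg.Lib.PGroup
open Cfsg.Lib.FusionSys.RankTwo (basic cA)
open scoped commutatorElement

/-- Let p be an odd prime, S a finite p-group of order at least p⁶ containing an extraspecial subgroup Q of index p, and F a saturated fusion system over S whose largest subgroup normal in F is trivial. Then no proper subgroup of Q is essential in F: an essential subgroup of F contained in Q equals Q. -/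
theorem result {Ω : Type u} [Group Ω] {S : Subgroup Ω} [Finite S] (p : ℕ) [Fact p.Prime] (hp : Odd p) (hS : IsPGroup p S)
    (Q : Subgroup Ω) (hQS : Q ≤ S) (hQ : Cfsg.IsExtraspecial p ↥Q) (hQi : (Q.subgroupOf S).index = p)
    (h6 : p ^ 6 ≤ Nat.card S)
    (F : Cfsg.FusionSystem S) (hF : F.IsSaturated p) (hO : F.core = ⊥)
    (E : Subgroup Ω) (hEQ : E ≤ Q) (hE : F.IsEssential p E) : E = Q := by
  classical
  have hpp := (Fact.out : p.Prime)
  obtain ⟨⟨-, hfrQ, hcomQ⟩, hZQc⟩ := hQ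
  haveI := finite_of_le hQS
  have hES : E ≤ S := hE.1.1
  haveI := finite_of_le hES
  have hcen : centralizerIn S E ≤ E := hE.1.2 E (isConj_refl F hES)
  have hQp : IsPGroup p Q := hS.to_le hQS
  -- the centre of `Q`
  obtain ⟨s, hsZ, hs1⟩ : ∃ s ∈ Subgroup.center ↥Q, s ≠ 1 := by
    by_contra h
    push Not at h
    rw [show Subgroup.center ↥Q = ⊥ from eq_bot_iff.2 fun y hy => Subgroup.mem_bot.2 (h y hy),
      Subgroup.card_bot] at hZQc
    exact hpp.ne_one hZQc.symm
  have hsp : s ^ p = 1 := by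
    have := pow_card_eq_one' (x := (⟨s, hsZ⟩ : Subgroup.center ↥Q))
    rw [hZQc] at this
    exact congrArg Subtype.val this
  have hZs : Subgroup.zpowers s = Subgroup.center ↥Q := Subgroup.eq_of_le_of_card_ge (Subgroup.zpowers_le.2 hsZ)
    (by rw [hZQc, Nat.card_zpowers, orderOf_eq_prime hsp hs1])
  have hcomm : ∀ a b : Q, ⁅a, b⁆ ∈ Subgroup.zpowers s := fun a b => hZs ▸ hcomQ ▸
    Subgroup.commutator_mem_commutator (Subgroup.mem_top a) (Subgroup.mem_top b)
  have hpow : ∀ a : Q, a ^ p ∈ Subgroup.zpowers s := fun a => hZs ▸ hfrQ ▸ pow_mem_frattini hQp a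
  have hsc : ∀ x : Ω, x ∈ Q → x * (s : Ω) = s * x := fun x hx =>
    congrArg Subtype.val (Subgroup.mem_center_iff.1 hsZ ⟨x, hx⟩)
  have hsE : (s : Ω) ∈ E := hcen (mem_centralizerIn.2 ⟨hQS s.2, fun x hx => (hsc x (hEQ hx)).symm⟩)
  have hnorm : ∀ n ∈ Q, n ∈ Subgroup.normalizer (E : Set Ω) := fun n hn => by
    refine Subgroup.mem_normalizer_fintype fun y hy => ?_
    obtain ⟨i, hi⟩ := hcomm ⟨n, hn⟩ ⟨y, hEQ hy⟩
    have hcoe : n * y * n⁻¹ * y⁻¹ = (s : Ω) ^ i := by
      have := congrArg Subtype.val hi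
      simpa [commutatorElement_def] using this.symm
    rw [SetLike.mem_coe, show n * y * n⁻¹ = (n * y * n⁻¹ * y⁻¹) * y by group, hcoe]
    exact E.mul_mem (E.zpow_mem hsE i) hy
  have hdisp : ∀ n ∈ Q, ∀ v : E, ∃ i : ℤ, n * (v : Ω) * n⁻¹ = v * (s : Ω) ^ i := by
    intro n hn v
    obtain ⟨i, hi⟩ := hcomm ⟨n, hn⟩ ⟨v, hEQ v.2⟩
    refine ⟨i, ?_⟩
    have hcoe : n * (v : Ω) * n⁻¹ * (v : Ω)⁻¹ = (s : Ω) ^ i := by
      have := congrArg Subtype.val hi
      simpa [commutatorElement_def] using this.symm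
    rw [((show Commute (v : Ω) (s : Ω) from hsc v (hEQ v.2)).zpow_right i).eq, ← hcoe]
    group
  by_contra hne
  obtain ⟨g, hgQ, hgE⟩ := SetLike.exists_of_lt (lt_of_le_of_ne hEQ hne)
  -- the line `⟨s⟩` is not invariant
  have hinv : ¬ ∀ α ∈ F.autGroup E, ((α ⟨s, hsE⟩ : E) : Ω) ∈ (Subgroup.zpowers s).map Q.subtype := by
    intro hi
    obtain ⟨-, -, -, hO, -, -⟩ := basic hS hF hE
    set e : E := ⟨s, hsE⟩ with he
    have hline : ∀ a : ↥(F.autGroup E), ∃ j : ℤ, (a : MulAut E) e = e ^ j := fun a => by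
      obtain ⟨w, ⟨j, rfl⟩, hw⟩ := hi (a : MulAut E) a.2
      exact ⟨j, Subtype.ext (by rw [SubgroupClass.coe_zpow, ← hw]; simp [he])⟩
    let N : Subgroup ↥(F.autGroup E) :=
      { carrier := {a | (a : MulAut E) e = e ∧ ∀ x, ∃ i : ℤ, (a : MulAut E) x = x * e ^ i}
        one_mem' := ⟨rfl, fun x => ⟨0, by simp⟩⟩
        mul_mem' := by
          rintro a b ⟨ha1, ha2⟩ ⟨hb1, hb2⟩
          refine ⟨by rw [Subgroup.coe_mul, MulAut.mul_apply, hb1, ha1], fun x => ?_⟩
          obtain ⟨i, hi'⟩ := hb2 x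
          obtain ⟨j, hj⟩ := ha2 x
          exact ⟨j + i, by rw [Subgroup.coe_mul, MulAut.mul_apply, hi', map_mul, map_zpow, ha1, hj, zpow_add,
            mul_assoc]⟩
        inv_mem' := by
          rintro a ⟨ha1, ha2⟩
          refine ⟨(a : MulAut E).injective (by rw [InvMemClass.coe_inv, MulAut.apply_inv_self, ha1]), fun x => ?_⟩
          obtain ⟨i, hi'⟩ := ha2 x
          refine ⟨-i, (a : MulAut E).injective ?_⟩
          rw [InvMemClass.coe_inv, MulAut.apply_inv_self, map_mul, map_zpow, ha1, hi', mul_assoc,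
            ← zpow_add, add_neg_cancel, zpow_zero, mul_one] }
    have hNn : N.Normal := by
      refine ⟨fun n hn b => ?_⟩
      refine ⟨?_, fun x => ?_⟩
      · obtain ⟨j, hj⟩ := hline b⁻¹
        show (b : MulAut E) ((n : MulAut E) (((b⁻¹ : ↥(F.autGroup E)) : MulAut E) e)) = e
        rw [hj, map_zpow, hn.1, ← hj, InvMemClass.coe_inv, MulAut.apply_inv_self]
      · obtain ⟨i, hi'⟩ := hn.2 (((b⁻¹ : ↥(F.autGroup E)) : MulAut E) x)
        obtain ⟨j, hj⟩ := hline b
        refine ⟨j * i, ?_⟩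
        show (b : MulAut E) ((n : MulAut E) (((b⁻¹ : ↥(F.autGroup E)) : MulAut E) x)) = _
        rw [hi', map_mul, map_zpow, hj, InvMemClass.coe_inv, MulAut.apply_inv_self, ← zpow_mul]
    have hNp : IsPGroup p N := by
      rintro ⟨a, ha1, ha2⟩
      refine ⟨1, Subtype.ext (Subtype.ext (MulEquiv.ext fun x => ?_))⟩
      obtain ⟨i, hi'⟩ := ha2 x
      have hiter : ∀ n : ℕ, ((a : MulAut E) ^ n) x = x * e ^ (i * n) := by
        intro n
        induction n with
        | zero => simp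
        | succ n ih =>
          rw [pow_succ', MulAut.mul_apply, ih, map_mul, map_zpow, ha1, hi', mul_assoc, ← zpow_add]
          congr 2
          push_cast
          ring
      have he1 : e ^ (p : ℤ) = 1 := by
        rw [zpow_natCast]
        refine Subtype.ext ?_
        have := congrArg Subtype.val hsp
        simpa [he] using this
      simp only [pow_one, SubgroupClass.coe_pow, OneMemClass.coe_one, MulAut.one_apply]
      rw [hiter, mul_comm i, zpow_mul, he1, one_zpow, mul_one]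
    have hgm := conjAut_mem_autInducedBy (hnorm g hgQ) (hQS hgQ)
    have hu := hO N hNn hNp (show (⟨conjAut E (hnorm g hgQ), autInducedBy_le_autGroup hES hgm⟩ :
        ↥(F.autGroup E)) ∈ N from ⟨Subtype.ext (conj_eq_of_commute (hsc g hgQ)), fun x => by
      obtain ⟨i, hi'⟩ := hdisp g hgQ x
      exact ⟨i, Subtype.ext (by rw [Subgroup.coe_mul, SubgroupClass.coe_zpow]; exact hi')⟩⟩)
    exact hgE (mem_of_conjAut_mem_inn hcen hES (hQS hgQ) (fun x => rfl) (Subgroup.mem_subgroupOf.mp hu))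
  have hpull : ∀ (y : E), y ≠ 1 → (⟨(y : Ω), hEQ y.2⟩ : Q) ∈ Subgroup.zpowers s →
      ∃ k : ℤ, (⟨s, hsE⟩ : E) = y ^ k := by
    intro y hy1 hy
    obtain ⟨i, hi⟩ := hy
    have hi' : s ^ i = (⟨(y : Ω), hEQ y.2⟩ : Q) := hi
    have hni : ¬ (p : ℤ) ∣ i := by
      rintro ⟨t, rfl⟩
      rw [zpow_mul, zpow_natCast, hsp, one_zpow] at hi'
      exact hy1 (Subtype.ext (congrArg (fun w : Q => (w : Ω)) hi'.symm :))
    obtain ⟨a, b, hab⟩ := (Nat.prime_iff_prime_int.mp hpp).coprime_iff_not_dvd.mpr hni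
    refine ⟨b, Subtype.ext ?_⟩
    have h2 : (⟨(y : Ω), hEQ y.2⟩ : Q) ^ b = s := by
      rw [← hi', ← zpow_mul, show i * b = 1 - a * (p : ℤ) by linarith, zpow_sub, zpow_one, mul_comm a,
        zpow_mul, zpow_natCast, hsp, one_zpow, inv_one, mul_one]
    rw [SubgroupClass.coe_zpow]
    exact (congrArg (fun w : Q => (w : Ω)) h2).symm.trans (by simp)
  have hab : ∀ a b : E, a * b = b * a := by
    intro a b
    by_contra hab
    refine hinv fun α _ => ?_
    obtain ⟨k, hk⟩ := hpull ⁅a, b⁆ (fun h => hab (commutatorElement_eq_one_iff_mul_comm.1 h))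
      (hcomm ⟨a, hEQ a.2⟩ ⟨b, hEQ b.2⟩)
    rw [hk, map_zpow, map_commutatorElement, SubgroupClass.coe_zpow]
    refine zpow_mem (K := (Subgroup.zpowers s).map Q.subtype) ?_ k
    exact ⟨_, hcomm ⟨α a, hEQ (α a).2⟩ ⟨α b, hEQ (α b).2⟩, rfl⟩
  -- `E` has index at least `p ^ 2` in `Q`
  refine not_essential_of_transvections hS hF hE hab ⟨s, hsE⟩ (Q : Set Ω) (SetLike.coe_subset_coe.2 hQS) hnorm
    (fun n hn => ?_) (fun n hn => hsc n hn) hdisp fun v => ?_
  · obtain ⟨i, hi⟩ := hpow ⟨n, hn⟩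
    have h1 : n ^ p = (s : Ω) ^ i := by simpa using (congrArg Subtype.val hi).symm
    rw [h1]
    exact E.zpow_mem hsE i
  by_contra hno
  push Not at hno
  have hCv : ∀ n : Q, n * ⟨v, hEQ v.2⟩ = ⟨v, hEQ v.2⟩ * n → n ∈ E.subgroupOf Q := fun n hn => by
    by_contra hnE
    exact hno n n.2 hnE (congrArg Subtype.val hn)
  have hidx : ∀ (H : Subgroup ↥Q) (u : ↥Q), (∀ n : Q, n * u = u * n → n ∈ H) → H.index ≤ p := by
    intro H u hH
    rw [Subgroup.index, ← hZQc, ← hZs]
    refine Nat.card_le_card_of_injective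
      (fun q : ↥Q ⧸ H => (⟨⁅q.out, u⁆, hcomm _ _⟩ : Subgroup.zpowers s)) fun q r hqr => ?_
    have h1 : q.out * u * q.out⁻¹ = r.out * u * r.out⁻¹ :=
      mul_right_cancel (b := u⁻¹) (congrArg Subtype.val hqr)
    rw [← QuotientGroup.out_eq' q, ← QuotientGroup.out_eq' r]
    refine QuotientGroup.eq.2 (hH _ ?_)
    calc q.out⁻¹ * r.out * u = q.out⁻¹ * (r.out * u * r.out⁻¹) * r.out := by group
      _ = q.out⁻¹ * (q.out * u * q.out⁻¹) * r.out := by rw [h1]
      _ = u * (q.out⁻¹ * r.out) := by group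
  have hEi := hidx _ _ hCv
  obtain ⟨w, hw⟩ : ∃ w : Q, w ∉ E.subgroupOf Q := ⟨⟨g, hgQ⟩, hgE⟩
  have hEi' : (E.subgroupOf Q).index = p := by
    obtain ⟨i, hi⟩ := hQp.index (E.subgroupOf Q)
    refine le_antisymm hEi ?_
    rw [hi]
    refine Nat.le_self_pow (fun h0 => hw ?_) p
    rw [h0, pow_zero, Subgroup.index_eq_one] at hi
    rw [hi]
    exact Subgroup.mem_top w
  -- the centre of `Q` then has index at most `p ^ 2`
  have hC : (Subgroup.centralizer ({w} : Set ↥Q)).index ≤ p :=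
    hidx _ w fun n hn => Subgroup.mem_centralizer_singleton_iff.2 hn
  have hle : E.subgroupOf Q ⊓ Subgroup.centralizer ({w} : Set ↥Q) ≤ Subgroup.center ↥Q := by
    intro u hu
    refine Subgroup.mem_center_iff.2 fun q => ?_
    have hle : E.subgroupOf Q ⊔ Subgroup.zpowers w ≤ Subgroup.centralizer ({u} : Set Q) := by
      refine sup_le (fun y hy => Subgroup.mem_centralizer_singleton_iff.2 (Subtype.ext ?_))
        (Subgroup.zpowers_le.2 (Subgroup.mem_centralizer_singleton_iff.2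
          (Subgroup.mem_centralizer_singleton_iff.1 hu.2).symm))
      exact congrArg (fun w : E => (w : Ω)) (hab ⟨y, hy⟩ ⟨u, hu.1⟩)
    have htop : E.subgroupOf Q ⊔ Subgroup.zpowers w = ⊤ := by
      by_contra hne'
      have h1 := Subgroup.index_dvd_of_le (le_sup_left : E.subgroupOf Q ≤ E.subgroupOf Q ⊔ Subgroup.zpowers w)
      rw [hEi'] at h1
      rcases (Nat.dvd_prime hpp).mp h1 with h2 | h2
      · exact hne' (Subgroup.index_eq_one.mp h2)
      · apply hw
        rw [Subgroup.eq_of_le_of_card_ge (le_sup_left : E.subgroupOf Q ≤ E.subgroupOf Q ⊔ Subgroup.zpowers w) ?_]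
        · exact Subgroup.mem_sup_right (Subgroup.mem_zpowers w)
        · have e1 := (E.subgroupOf Q ⊔ Subgroup.zpowers w).card_mul_index
          rw [h2, ← (E.subgroupOf Q).card_mul_index, hEi'] at e1
          exact le_of_eq (Nat.eq_of_mul_eq_mul_right hpp.pos e1)
    rw [htop] at hle
    exact Subgroup.mem_centralizer_singleton_iff.1 (hle (Subgroup.mem_top q))
  have h2 : (Subgroup.center ↥Q).index ≤ p ^ 2 := by
    refine (Nat.le_of_dvd (Nat.pos_of_ne_zero Subgroup.index_ne_zero_of_finite)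
      (Subgroup.index_dvd_of_le hle)).trans (Subgroup.index_inf_le.trans ?_)
    rw [hEi', sq]
    exact Nat.mul_le_mul_left p hC
  have h3 := (Subgroup.center ↥Q).card_mul_index
  have h4 := (Q.subgroupOf S).card_mul_index
  rw [hQi, Nat.card_congr (Subgroup.subgroupOfEquivOfLe hQS).toEquiv] at h4
  rw [hZQc] at h3
  have h5 : p ^ 6 ≤ p ^ 4 := by
    refine h6.trans ?_
    rw [← h4, ← h3, pow_succ p 3, pow_succ' p 2]
    exact Nat.mul_le_mul_right p (Nat.mul_le_mul_left p h2)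
  have := (Nat.pow_le_pow_iff_right hpp.one_lt).1 h5
  omega

end Cfsg.Agent.S5179
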