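import Cfsg.Statements.S5185
import Cfsg.Agent.Lib.FusionSys.RankTwoEssential
import Cfsg.Agent.Lib.FusionSys.PlaneAction
import Cfsg.Agent.Lib.Linear.SLBasic
-- import your own Cfsg.Agent.* helpers here

set_option autoImplicit false
universe u
open Cfsg

namespace Cfsg.Agent.S5185


open Cfsg.FusionSystem
open Cfsg.Lib.FusionSys
open Cfsg.Lib.FusionSys.RankTwo (basic not_isCyclic)
open scoped MatrixGroups

/-- A group of automorphisms of a plane containing a pair of opposite transvections contains `SL(2,p)`. -/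
theorem exists_sl_two {p : ℕ} [hp : Fact p.Prime] {V : Type*} [Group V] [Finite V] (hc : Nat.card V = p ^ 2)
    (hexp : ∀ v : V, v ^ p = 1) (A : Subgroup (MulAut V)) {e f : V} (he : e ≠ 1)
    (hf : f ∉ Subgroup.zpowers e) (u l : A) (hue : (u : MulAut V) e = e) (huf : (u : MulAut V) f = e * f)
    (hlf : (l : MulAut V) f = f) (hle : (l : MulAut V) e = e * f) :
    ∃ K : Subgroup A, Nonempty (K ≃* SL(2, ZMod p)) := by
  have hcm := Plane.comm hc
  have hadd : ∀ (x : V) (a b : ZMod p), x ^ (a + b).val = x ^ a.val * x ^ b.val := fun x a b => by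
    rw [← pow_add]
    exact Plane.pow_eq_pow_of_modEq (hexp x) (by rw [ZMod.val_add]; exact Nat.mod_modEq _ _)
  let ι : Multiplicative (Fin 2 → ZMod p) →* V :=
    { toFun := fun x => e ^ (x.toAdd 0).val * f ^ (x.toAdd 1).val
      map_one' := by simp
      map_mul' := fun x y => by
        simp only [toAdd_mul, Pi.add_apply, hadd]
        exact (show Commute (e ^ (y.toAdd 0).val) (f ^ (x.toAdd 1).val) from hcm _ _).mul_mul_mul_comm _ _ }
  have hsur : Function.Surjective ι := fun v => by
    obtain ⟨i, j, rfl⟩ := Plane.exists_coords hc hexp he hf v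
    refine ⟨Multiplicative.ofAdd ![(i : ZMod p), (j : ZMod p)], ?_⟩
    show e ^ ((i : ZMod p)).val * f ^ ((j : ZMod p)).val = _
    rw [ZMod.val_natCast, ZMod.val_natCast, Plane.pow_eq_pow_of_modEq (hexp e) (Nat.mod_modEq i p),
      Plane.pow_eq_pow_of_modEq (hexp f) (Nat.mod_modEq j p)]
  have hbij : Function.Bijective ι := by
    refine hsur.bijective_of_nat_card_le ?_
    rw [hc, Nat.card_congr Multiplicative.toAdd, Nat.card_fun, Nat.card_zmod, Nat.card_fin]
  let ε := MulEquiv.ofBijective ι hbij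
  let φ : SL(2, ZMod p) →* MulAut V :=
    { toFun := fun M => (ε.symm.trans (AddEquiv.toMultiplicative (Matrix.SpecialLinearGroup.toLin' M).toAddEquiv)).trans ε
      map_one' := by ext v; simp
      map_mul' := fun M N => by
        ext v
        simp [MulAut.mul_apply, map_mul] }
  have hφι : ∀ (M : SL(2, ZMod p)) (x : Fin 2 → ZMod p), φ M (ι (Multiplicative.ofAdd x)) =
      ι (Multiplicative.ofAdd ((M : Matrix (Fin 2) (Fin 2) (ZMod p)).mulVec x)) := fun M x => by
    show ε (AddEquiv.toMultiplicative (Matrix.SpecialLinearGroup.toLin' M).toAddEquiv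
      (ε.symm (ε (Multiplicative.ofAdd x)))) = _
    rw [MulEquiv.symm_apply_apply]
    simp [ε, Matrix.SpecialLinearGroup.toLin'_apply]
  have he' : ι (Multiplicative.ofAdd ![1, 0]) = e := by
    show e ^ (1 : ZMod p).val * f ^ (0 : ZMod p).val = e
    simp [ZMod.val_one]
  have hf' : ι (Multiplicative.ofAdd ![0, 1]) = f := by
    show e ^ (0 : ZMod p).val * f ^ (1 : ZMod p).val = f
    simp [ZMod.val_one]
  have hinj : Function.Injective φ := by
    intro M N h
    have key : ∀ x, (M : Matrix (Fin 2) (Fin 2) (ZMod p)).mulVec x = (N : Matrix (Fin 2) (Fin 2) (ZMod p)).mulVec x :=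
      fun x => Multiplicative.ofAdd.injective (hbij.1 (by rw [← hφι, ← hφι, h]))
    apply Matrix.SpecialLinearGroup.ext
    intro i j
    fin_cases j
    · simpa [Matrix.mulVec, dotProduct, Fin.sum_univ_two] using congrFun (key ![1, 0]) i
    · simpa [Matrix.mulVec, dotProduct, Fin.sum_univ_two] using congrFun (key ![0, 1]) i
  have hpw : ∀ (w : A) (x y : V), (w : MulAut V) x = x → (w : MulAut V) y = x * y → ∀ m : ℕ,
      ((w ^ m : A) : MulAut V) x = x ∧ ((w ^ m : A) : MulAut V) y = x ^ m * y := by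
    intro w x y hx hy m
    induction m with
    | zero => simp
    | succ m ih =>
      constructor
      · rw [pow_succ', Subgroup.coe_mul, MulAut.mul_apply, ih.1, hx]
      · rw [pow_succ', Subgroup.coe_mul, MulAut.mul_apply, ih.2, map_mul, map_pow, hx, hy, ← mul_assoc,
          ← pow_succ]
  have htr : ∀ c : ZMod p,
      φ (Matrix.SpecialLinearGroup.transvection (show (0 : Fin 2) ≠ 1 by decide +revert) c) = ((u ^ c.val : A) : MulAut V) ∧
      φ (Matrix.SpecialLinearGroup.transvection (show (1 : Fin 2) ≠ 0 by decide +revert) c) = ((l ^ c.val : A) : MulAut V) := by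
    intro c
    refine ⟨Plane.aut_ext hc hexp he hf ?_ ?_, Plane.aut_ext hc hexp he hf ?_ ?_⟩
    · rw [(hpw u e f hue huf _).1, ← he', hφι]
      congr 2
      ext i
      fin_cases i <;> simp [Matrix.SpecialLinearGroup.transvection_coe, Matrix.mulVec, dotProduct, Fin.sum_univ_two, Matrix.one_apply, Matrix.single]
    · rw [(hpw u e f hue huf _).2, ← hf', hφι, hf']
      show e ^ _ * f ^ _ = _
      simp [Matrix.SpecialLinearGroup.transvection_coe, Matrix.mulVec, dotProduct, Fin.sum_univ_two, Matrix.one_apply, Matrix.single, ZMod.val_one]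
    · rw [(hpw l f e hlf (hle.trans (hcm _ _)) _).2, ← he', hφι, he', hcm]
      show e ^ _ * f ^ _ = _
      simp [Matrix.SpecialLinearGroup.transvection_coe, Matrix.mulVec, dotProduct, Fin.sum_univ_two, Matrix.one_apply, Matrix.single, ZMod.val_one]
    · rw [(hpw l f e hlf (hle.trans (hcm _ _)) _).1, ← hf', hφι]
      congr 2
      ext i
      fin_cases i <;> simp [Matrix.SpecialLinearGroup.transvection_coe, Matrix.mulVec, dotProduct, Fin.sum_univ_two, Matrix.one_apply, Matrix.single]
  have hrange : φ.range ≤ A := by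
    rw [MonoidHom.range_eq_map, ← Cfsg.Lib.Linear.closure_transvection_eq_top, MonoidHom.map_closure,
      Subgroup.closure_le]
    rintro _ ⟨_, ⟨i, j, hij, c, rfl⟩, rfl⟩
    fin_cases i <;> fin_cases j
    · exact absurd rfl hij
    · rw [show φ (Matrix.SpecialLinearGroup.transvection hij c) = _ from (htr c).1]; exact (u ^ c.val).2
    · rw [show φ (Matrix.SpecialLinearGroup.transvection hij c) = _ from (htr c).2]; exact (l ^ c.val).2
    · exact absurd rfl hij
  exact ⟨φ.range.subgroupOf A, ⟨(Subgroup.subgroupOfEquivOfLe hrange).trans (MonoidHom.ofInjective hinj).symm⟩⟩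

/-- Let F be a saturated fusion system over a finite p-group S and H an essential subgroup of order p². Then H is elementary abelian (isomorphic to C_p × C_p) and its F-automorphism group contains a subgroup isomorphic to SL(2,p). -/
theorem result {Ω : Type u} [Group Ω] {S : Subgroup Ω} [Finite S] (p : ℕ) [Fact p.Prime] (hS : IsPGroup p S)
    (F : Cfsg.FusionSystem S) (hF : F.IsSaturated p) (H : Subgroup Ω) (hH : F.IsEssential p H) (hcard : Nat.card H = p ^ 2) :
    Cfsg.IsElementaryAbelian p H ∧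
      ∃ K : Subgroup ↥(F.autGroup H), Nonempty (↥K ≃* Matrix.SpecialLinearGroup (Fin 2) (ZMod p)) := by
  have hHS := hH.1.1
  haveI := finite_of_le hHS
  have hexp : ∀ v : H, v ^ p = 1 := by
    intro v
    by_contra h
    refine not_isCyclic hS hF hH (isCyclic_of_orderOf_eq_card v ?_)
    obtain ⟨j, hj2, hj⟩ := (Nat.dvd_prime_pow Fact.out).mp (hcard ▸ orderOf_dvd_natCard v)
    rcases Nat.lt_or_ge j 2 with hlt | hge
    · exact absurd (orderOf_dvd_iff_pow_eq_one.mp (hj ▸ (pow_dvd_pow p (by omega : j ≤ 1)).trans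
        (by rw [pow_one]))) h
    · rw [hj, hcard, show j = 2 by omega]
  have hcm := Plane.comm hcard
  refine ⟨⟨⟨⟨hcm⟩⟩,
    fun a ha => congrArg Subtype.val (hexp ⟨a, ha⟩)⟩, ?_⟩
  obtain ⟨-, -, -, hO, hRp, hRI⟩ := basic hS hF hH
  set A := F.autGroup H with hA
  haveI : Finite A := Finite.of_injective (fun a : A => ((a : MulAut H) : H → H))
    (DFunLike.coe_injective.comp Subtype.val_injective)
  set R := (autInducedBy S H).subgroupOf A with hR
  set r := A.subtype with hr
  have hker : IsPGroup p r.ker := by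
    rw [hr, Subgroup.ker_subtype]; exact IsPGroup.of_bot
  obtain ⟨e, he, hfix', htriv'⟩ := Plane.unipotent hcard hexp hRp (r.comp R.subtype)
  have hfix : ∀ ρ ∈ R, (ρ : MulAut H) e = e := fun ρ hρ => hfix' ⟨ρ, hρ⟩
  have htriv : ∀ ρ ∈ R, ∀ v, (ρ : MulAut H) v * v⁻¹ ∈ Subgroup.zpowers e := fun ρ hρ v => htriv' ⟨ρ, hρ⟩ v
  obtain ⟨a, ha⟩ : ∃ a : A, (a : MulAut H) e ∉ Subgroup.zpowers e := by
    by_contra h
    push Not at h
    refine Plane.no_invariant_line hcard hexp r _ hO hker R hRp hRI (Subgroup.zpowers e)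
      (Plane.card_zpowers_eq hcard hexp he) fun a v hv => ?_
    obtain ⟨i, rfl⟩ := hv
    rw [map_zpow]
    exact zpow_mem (h a) i
  set f := (a : MulAut H) e with hfdef
  obtain ⟨ρ, hρ, hρI⟩ := SetLike.not_le_iff_exists.mp hRI
  have hρ1 : (ρ : MulAut H) ≠ 1 := fun h => hρI (by rw [Subgroup.mem_subgroupOf, h]; exact one_mem _)
  obtain ⟨i, hi⟩ := mem_powers_iff_mem_zpowers.mpr (htriv ρ hρ f)
  have hi' : (ρ : MulAut H) f = e ^ i * f := eq_mul_of_mul_inv_eq hi.symm
  have hpi : ¬ p ∣ i := by
    rintro ⟨t, rfl⟩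
    rw [pow_mul, hexp, one_pow, one_mul] at hi'
    exact hρ1 (Plane.aut_ext hcard hexp he ha (hfix ρ hρ) hi')
  have hpw : ∀ (w : A) (x y : H) (c : ℕ), (w : MulAut H) x = x → (w : MulAut H) y = x ^ c * y → ∀ m : ℕ,
      ((w ^ m : A) : MulAut H) x = x ∧ ((w ^ m : A) : MulAut H) y = x ^ (c * m) * y := by
    intro w x y c hx hy m
    induction m with
    | zero => simp
    | succ m ih =>
      constructor
      · rw [pow_succ', Subgroup.coe_mul, MulAut.mul_apply, ih.1, hx]
      · rw [pow_succ', Subgroup.coe_mul, MulAut.mul_apply, ih.2, map_mul, map_pow, hx, hy, ← mul_assoc,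
          ← pow_add]
        ring_nf
  obtain ⟨s, hs⟩ := Plane.exists_mul_modEq hpi 1
  set u := ρ ^ s with hu
  have hue : (u : MulAut H) e = e := (hpw ρ e f i (hfix ρ hρ) hi' s).1
  have huf : (u : MulAut H) f = e * f := by
    rw [hu, (hpw ρ e f i (hfix ρ hρ) hi' s).2, Plane.pow_eq_pow_of_modEq (hexp e) hs, pow_one]
  set l := a * u * a⁻¹ with hl
  have hkey : ∀ v, (l : MulAut H) ((a : MulAut H) v) = (a : MulAut H) ((u : MulAut H) v) := fun v => by
    simp [hl, MulAut.mul_apply]
  have hlf : (l : MulAut H) f = f := by rw [hfdef, hkey, hue]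
  obtain ⟨w, hw⟩ := (a : MulAut H).surjective e
  obtain ⟨c, hc⟩ := mem_powers_iff_mem_zpowers.mpr (htriv u (pow_mem hρ s) w)
  have hle : (l : MulAut H) e = f ^ c * e := by
    rw [← hw, hkey, eq_mul_of_mul_inv_eq hc.symm, map_mul, map_pow, hw]
  have hpc : ¬ p ∣ c := by
    rintro ⟨t, rfl⟩
    rw [pow_mul, hexp, one_pow, one_mul] at hle
    have h1 : (l : MulAut H) = 1 := Plane.aut_ext hcard hexp he ha hle hlf
    have h2 : u = 1 := by
      have h3 : l = 1 := Subtype.ext h1
      rwa [hl, conj_eq_one_iff] at h3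
    rw [h2, Subgroup.coe_one, MulAut.one_apply] at huf
    exact he (mul_eq_right.mp huf.symm)
  obtain ⟨m, hm⟩ := Plane.exists_mul_modEq hpc 1
  refine exists_sl_two hcard hexp A he ha u (l ^ m) hue huf (hpw l f e c hlf hle m).1 ?_
  rw [(hpw l f e c hlf hle m).2, Plane.pow_eq_pow_of_modEq (hexp f) hm, pow_one, hcm]

end Cfsg.Agent.S5185
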