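import Cfsg.Statements.S5182
import Cfsg.Agent.S5181
import Cfsg.Agent.S5185
import Cfsg.Agent.Lib.FusionSys.SmallEssential
import Cfsg.Agent.Lib.FusionSys.RankTwoPearlEssential
import Cfsg.Agent.Lib.FusionSys.SympFourSylow
import Mathlib.GroupTheory.IndexNormal
-- import your own Cfsg.Agent.* helpers here

set_option autoImplicit false
universe u
open Cfsg

namespace Cfsg.Agent.S5182

open Cfsg.FusionSystem Cfsg.Lib.FusionSys
open scoped commutatorElement

/-- An essential subgroup of order at most `p ^ 3`, `p` odd, is a pearl or elementary of order `p ^ 3`. -/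
theorem small {Ω : Type u} [Group Ω] {S : Subgroup Ω} [Finite S] {p : ℕ} [Fact p.Prime] (hp2 : p ≠ 2)
    (hS : IsPGroup p S) (F : Cfsg.FusionSystem S) (hF : F.IsSaturated p) {E : Subgroup Ω}
    (hE : F.IsEssential p E) (hle : Nat.card E ≤ p ^ 3) :
    ((Cfsg.IsElementaryAbelian p E ∧ Nat.card E = p ^ 2) ∨
        (Cfsg.IsExtraspecial p ↥E ∧ Nat.card E = p ^ 3 ∧ ∀ x ∈ E, x ^ p = 1)) ∨
      (Cfsg.IsElementaryAbelian p E ∧ Nat.card E = p ^ 3) := by
  haveI := finite_of_le hE.1.1
  obtain ⟨k, hk⟩ := IsPGroup.iff_card.mp (hS.to_le hE.1.1)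
  have hk3 : k ≤ 3 := (Nat.pow_le_pow_iff_right (Fact.out : p.Prime).one_lt).mp (hk ▸ hle)
  have hcy := RankTwo.not_isCyclic hS hF hE
  interval_cases k
  · haveI : Subsingleton E := (Nat.card_eq_one_iff_unique.mp (by simpa using hk)).1
    exact absurd (inferInstance : IsCyclic E) hcy
  · exact absurd (isCyclic_of_prime_card (p := p) (by simpa using hk)) hcy
  · exact Or.inl (Or.inl ⟨(Cfsg.Agent.S5185.result p hS F hF E hE hk).1, hk⟩)
  · rcases RankTwo.card_cube hS hF hE hk with h | ⟨-, h1, h2⟩ | ⟨h, -⟩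
    · exact Or.inr ⟨h, hk⟩
    · exact Or.inl (Or.inr ⟨h1, hk, h2⟩)
    · exact absurd h hp2

/-- The Frattini quotient of an essential subgroup has order `p ^ 2` or `p ^ 3`. -/
theorem frattini_index {Ω : Type u} [Group Ω] {S : Subgroup Ω} [Finite S] {p : ℕ} [Fact p.Prime]
    (hS : IsPGroup p S) (hsr : Cfsg.SectionalPRankLE p 3 S) (F : Cfsg.FusionSystem S)
    (hF : F.IsSaturated p) {E : Subgroup Ω} (hE : F.IsEssential p E) :
    (frattini ↥E).index = p ^ 2 ∨ (frattini ↥E).index = p ^ 3 := by
  have hES := hE.1.1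
  haveI := finite_of_le hES
  have hEp := hS.to_le hES
  have h3 : (frattini ↥E).index ≤ p ^ 3 := by
    have h1 := RankThree.section_bound
      (RankThree.sectional_of_injective hsr (Subgroup.inclusion hES) (Subgroup.inclusion_injective _))
      (⊤ : Subgroup E) (frattini E) le_top (fun a _ b _ => RankThree.comm_mem_frattini hEp a b)
      (fun a _ => Cfsg.Lib.PGroup.pow_mem_frattini hEp a)
    rw [Subgroup.card_top, ← (frattini E).index_mul_card] at h1
    exact Nat.le_of_mul_le_mul_right h1 Nat.card_pos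
  obtain ⟨k, hk⟩ := hEp.index (frattini E)
  rw [hk] at h3 ⊢
  have hk3 : k ≤ 3 := (Nat.pow_le_pow_iff_right (Fact.out : p.Prime).one_lt).mp h3
  suffices h : 2 ≤ k by interval_cases k <;> simp
  by_contra h
  refine RankTwo.not_isCyclic hS hF hE ?_
  haveI : IsCyclic (↥E ⧸ frattini E) := by
    interval_cases k
    · haveI : Subsingleton (↥E ⧸ frattini E) :=
        (Nat.card_eq_one_iff_unique.mp (by rw [← Subgroup.index_eq_card, hk, pow_zero])).1
      infer_instance
    · exact isCyclic_of_prime_card (p := p) (by rw [← Subgroup.index_eq_card, hk, pow_one])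
  obtain ⟨v, hv⟩ := IsCyclic.exists_generator (α := ↥E ⧸ frattini E)
  obtain ⟨v, rfl⟩ := QuotientGroup.mk_surjective v
  refine ⟨v, ?_⟩
  have htop : Subgroup.zpowers v ⊔ frattini E = ⊤ := by
    refine eq_top_iff.mpr fun w _ => ?_
    obtain ⟨j, hj⟩ := hv (w : ↥E ⧸ frattini E)
    rw [← mul_inv_cancel_left (v ^ j) w]
    refine mul_mem (Subgroup.mem_sup_left (zpow_mem (Subgroup.mem_zpowers v) j))
      (Subgroup.mem_sup_right ((QuotientGroup.eq).mp ?_))
    rw [QuotientGroup.mk_zpow]
    exact hj
  intro w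
  have hw : w ∈ Subgroup.zpowers v := by rw [frattini_nongenerating htop]; exact Subgroup.mem_top w
  exact Subgroup.mem_zpowers_iff.mp hw

/-- Let p ≥ 5 be a prime, S a finite p-group of sectional p-rank exactly 3, and F a saturated fusion system over S whose largest subgroup normal in F is trivial. Then F has an essential subgroup that is either elementary abelian of order p² or extraspecial of order p³ and exponent p. -/
theorem result {Ω : Type u} [Group Ω] {S : Subgroup Ω} [Finite S] (p : ℕ) [Fact p.Prime] (hp : 5 ≤ p) (hS : IsPGroup p S) (hsr : Cfsg.SectionalPRankLE p 3 ↥S ∧ ¬ Cfsg.SectionalPRankLE p 2 ↥S)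
    (F : Cfsg.FusionSystem S) (hF : F.IsSaturated p) (hO : F.core = ⊥) :
    ∃ E : Subgroup Ω, (F.IsEssential p E ∧ ((Cfsg.IsElementaryAbelian p E ∧ Nat.card E = p ^ 2) ∨
        (Cfsg.IsExtraspecial p ↥E ∧ Nat.card E = p ^ 3 ∧ ∀ x ∈ E, x ^ p = 1))) := by
  have hp2 : p ≠ 2 := by omega
  have hodd : Odd p := (Fact.out : p.Prime).odd_of_ne_two hp2
  by_contra hcon
  have hcon' : ∀ E : Subgroup Ω, F.IsEssential p E → Nat.card E ≤ p ^ 3 →
      Cfsg.IsElementaryAbelian p E ∧ Nat.card E = p ^ 3 := fun E hE hle =>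
    (small hp2 hS F hF hE hle).resolve_left fun h => hcon ⟨E, hE, h⟩
  have hne : S ≠ ⊥ := by
    rintro rfl
    refine hsr.2 fun H N _ E _ => ?_
    haveI : Subsingleton ↥(⊥ : Subgroup Ω) := inferInstance
    haveI : Subsingleton H := ⟨fun a b => Subtype.ext (Subsingleton.elim _ _)⟩
    haveI : Subsingleton (↥H ⧸ N) := Quotient.instSubsingletonQuotient _
    intro _
    rw [Nat.card_of_subsingleton (1 : E)]
    exact Nat.one_le_pow _ _ (Fact.out : p.Prime).pos
  rcases Cfsg.Agent.S5181.result p hodd hS hsr F hF hO with ⟨P, ⟨e⟩⟩ | ⟨E, hE, hnot⟩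
  · obtain ⟨hcard, x, y, hxy⟩ := SympFour.sylow_facts hp2 P e
    have hle : ∀ E : Subgroup Ω, F.IsEssential p E → Nat.card E ≤ p ^ 3 := by
      intro E hE
      haveI := finite_of_le hE.1.1
      obtain ⟨hlt, -, -, -, -, -⟩ := RankTwo.basic hS hF hE
      obtain ⟨k, hk⟩ := IsPGroup.iff_card.mp (hS.to_le hE.1.1)
      have h1 : Nat.card E < Nat.card S := lt_of_le_of_ne (Subgroup.card_le_of_le hlt.le)
        fun h => hlt.ne (Subgroup.eq_of_le_of_card_ge hlt.le h.ge)
      rw [hk, hcard, Nat.pow_lt_pow_iff_right (Fact.out : p.Prime).one_lt] at h1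
      rw [hk]
      exact Nat.pow_le_pow_right (Fact.out : p.Prime).pos (by omega)
    have habel : ∀ E : Subgroup Ω, F.IsEssential p E →
        (E.subgroupOf S).index = p ∧ IsMulCommutative ↥(E.subgroupOf S) := by
      intro E hE
      obtain ⟨h1, h2⟩ := hcon' E hE (hle E hE)
      refine ⟨?_, ⟨⟨fun a b => Subtype.ext (Subtype.ext ?_)⟩⟩⟩
      · have h3 := (E.subgroupOf S).index_mul_card
        rw [hcard, Nat.card_congr (Subgroup.subgroupOfEquivOfLe hE.1.1).toEquiv, h2] at h3
        exact Nat.eq_of_mul_eq_mul_right (pow_pos (Fact.out : p.Prime).pos 3) (h3.trans (pow_succ' p 3))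
      · exact congrArg (fun z : E => (z : Ω)) (h1.1.is_comm.comm ⟨((a : S) : Ω), a.2⟩ ⟨((b : S) : Ω), b.2⟩)
    have huniq : ∀ A B : Subgroup S, A.index = p → B.index = p → IsMulCommutative A →
        IsMulCommutative B → A = B := by
      intro A B hAi hBi hA hB
      by_contra hAB
      have hnorm : ∀ C : Subgroup S, C.index = p → C.Normal := fun C hC =>
        Subgroup.normal_of_index_eq_minFac_card (by
          rw [hC, hcard, Nat.pow_minFac (by norm_num : (4 : ℕ) ≠ 0),
            Nat.Prime.minFac_eq (Fact.out : p.Prime)])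
      have hcomm : ∀ C : Subgroup S, C.index = p → ∀ u v : S, ⁅u, v⁆ ∈ C := by
        intro C hC u v
        haveI := hnorm C hC
        haveI : IsCyclic (↥S ⧸ C) := isCyclic_of_prime_card (p := p) (by rw [← Subgroup.index_eq_card, hC])
        letI : CommGroup (↥S ⧸ C) := IsCyclic.commGroup
        rw [← QuotientGroup.eq_one_iff]
        show QuotientGroup.mk' C ⁅u, v⁆ = 1
        rw [map_commutatorElement]
        exact commutatorElement_eq_one_iff_mul_comm.mpr (mul_comm _ _)
      have hsup : A ⊔ B = ⊤ := by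
        rw [← Subgroup.index_eq_one]
        have h1 := Subgroup.relIndex_mul_index (le_sup_left : A ≤ A ⊔ B)
        rcases (Nat.dvd_prime (Fact.out : p.Prime)).mp
          (hAi ▸ Dvd.intro_left _ h1 : (A ⊔ B).index ∣ p) with h | h
        · exact h
        · exfalso
          rw [h, hAi] at h1
          have h2 : A.relIndex (A ⊔ B) = 1 :=
            Nat.eq_of_mul_eq_mul_right (Fact.out : p.Prime).pos (h1.trans (one_mul p).symm)
          have h3 : B ≤ A := le_sup_right.trans (Subgroup.relIndex_eq_one.mp h2)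
          exact hAB (Subgroup.eq_of_le_of_card_ge h3 (le_of_eq (Nat.eq_of_mul_eq_mul_left
            (Fact.out : p.Prime).pos ((hAi ▸ A.index_mul_card).trans (hBi ▸ B.index_mul_card).symm)))).symm
      refine hxy (commutatorElement_eq_one_iff_mul_comm.mpr ?_)
      set z := ⁅x, y⁆
      have hle : A ⊔ B ≤ Subgroup.centralizer {z} := by
        refine sup_le (fun a ha => ?_) (fun b hb => ?_) <;> rw [Subgroup.mem_centralizer_singleton_iff]
        · exact congrArg Subtype.val (hA.is_comm.comm (⟨a, ha⟩ : A) ⟨z, hcomm A hAi x y⟩)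
        · exact congrArg Subtype.val (hB.is_comm.comm (⟨b, hb⟩ : B) ⟨z, hcomm B hBi x y⟩)
      rw [hsup] at hle
      exact Subgroup.mem_centralizer_singleton_iff.mp (hle (Subgroup.mem_top x))
    by_cases hex : ∃ A : Subgroup Ω, F.IsEssential p A
    · obtain ⟨A, hA⟩ := hex
      have hAeq : ∀ E : Subgroup Ω, F.IsEssential p E → E = A := by
        intro E hE
        have h := huniq _ _ (habel E hE).1 (habel A hA).1 (habel E hE).2 (habel A hA).2
        rw [← Subgroup.map_subgroupOf_eq_of_le hE.1.1, h, Subgroup.map_subgroupOf_eq_of_le hA.1.1]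
      have hAn : F.IsNormal A := by
        refine isNormal_of_forall_essential hS hF fun Q hQ => ?_
        rcases hQ with rfl | hQ
        · refine ⟨hA.1.1, fun α _ => ?_⟩
          obtain ⟨hi, hc⟩ := habel A hA
          refine huniq _ _ ?_ hi ?_ hc
          · exact (Subgroup.index_map_of_bijective α.bijective _).trans hi
          · haveI := hc
            exact Subgroup.map_isMulCommutative _ _
        · obtain rfl := hAeq Q hQ
          refine ⟨le_rfl, fun α _ => ?_⟩
          rw [Subgroup.subgroupOf_self]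
          exact Subgroup.map_top_of_surjective _ α.surjective
      have hAb : A = ⊥ := le_bot_iff.mp (hO ▸ (le_sSup hAn : A ≤ F.core))
      have := (hcon' A hA (hle A hA)).2
      rw [hAb, Subgroup.card_bot] at this
      exact absurd this (Nat.ne_of_lt (Nat.one_lt_pow (by norm_num) (Fact.out : p.Prime).one_lt))
    · have hSn : F.IsNormal S := by
        refine isNormal_of_forall_essential hS hF fun Q hQ => ?_
        rcases hQ with rfl | hQ
        · refine ⟨le_rfl, fun α _ => ?_⟩
          rw [Subgroup.subgroupOf_self]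
          exact Subgroup.map_top_of_surjective _ α.surjective
        · exact absurd ⟨Q, hQ⟩ hex
      exact hne (le_bot_iff.mp (hO ▸ (le_sSup hSn : S ≤ F.core)))
  · have hidx : (frattini ↥E).index = p ^ 2 := (frattini_index hS hsr.1 F hF hE).resolve_right
      fun h => hnot (RankThree.essential_normal hp hS hsr.1 hF hE h)
    obtain ⟨h1, h2⟩ := hcon' E hE (RankTwoPearl.card_le_cube hp hS hsr.1 hF hE hidx hnot)
    haveI := finite_of_le hE.1.1
    have hb : frattini ↥E = ⊥ := le_bot_iff.mp (RankThree.frattini_le_of (hS.to_le hE.1.1)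
      (fun v w => by
        rw [Subgroup.mem_bot]
        exact commutatorElement_eq_one_iff_mul_comm.mpr (h1.1.is_comm.comm v w))
      fun v => by rw [Subgroup.mem_bot]; exact Subtype.ext (h1.2 v v.2))
    rw [hb, Subgroup.index_bot, h2] at hidx
    exact absurd (Nat.pow_right_injective (Fact.out : p.Prime).two_le hidx) (by norm_num)

end Cfsg.Agent.S5182
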