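import Cfsg.Statements.S5192
import Cfsg.Agent.Lib.FusionSys.Transfer
import Cfsg.Agent.Lib.FusionSys.Tate
import Cfsg.Agent.Lib.FusionSys.Saturation

set_option autoImplicit false
open Cfsg

namespace Cfsg.Agent.S5192

/-- A Thompson-type transfer for saturated fusion systems. Let F be a saturated fusion system on a finite 2-group S, T a subgroup of S of index 2, and i an involution of S such that every fully normalized F-conjugate of i lies in S but outside T. Then i does not lie in the hyperfocal subgroup of F (the Sylow group of the 2-residual subsystem). -/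
theorem result {Ω : Type*} [Group Ω] [Finite Ω] {S : Subgroup Ω}
    (hS : IsPGroup 2 ↥S) (F : Cfsg.FusionSystem S) (hF : F.IsSaturated 2)
    (T : Subgroup Ω) (hTS : T ≤ S) (hT : T.relIndex S = 2)
    (i : Ω) (hi : i ∈ S) (hi2 : orderOf i = 2)
    (h : ∀ j : Ω, F.IsConjElt i j → F.IsFullyNormalized (Subgroup.zpowers j) → j ∉ T) :
    i ∉ F.hyperfocalSubgroup 2 := by
  classical
  haveI : Fact (Nat.Prime 2) := ⟨Nat.prime_two⟩
  intro hmem
  -- a fully normalized conjugate
  have hZS : Subgroup.zpowers i ≤ S := Subgroup.zpowers_le.2 hi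
  obtain ⟨R, hR, hRn⟩ := Cfsg.Lib.FusionSys.exists_isFullyNormalized F hZS
  obtain ⟨φ₀, hφ₀, hφ₀r⟩ := hR
  set j := φ₀ ⟨i, Subgroup.mem_zpowers i⟩ with hjdef
  have hRj : R = Subgroup.zpowers j := by
    rw [← hφ₀r, hjdef]
    ext y
    constructor
    · rintro ⟨⟨x, hx⟩, rfl⟩
      obtain ⟨k, rfl⟩ := Subgroup.mem_zpowers_iff.1 hx
      refine Subgroup.mem_zpowers_iff.2 ⟨k, ?_⟩
      rw [← map_zpow]
      rfl
    · intro hy
      obtain ⟨k, rfl⟩ := Subgroup.mem_zpowers_iff.1 hy
      rw [← map_zpow]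
      exact ⟨_, rfl⟩
  subst hRj
  have hij : F.IsConjElt i j := ⟨φ₀, hφ₀, rfl⟩
  have hjT : j ∉ T := h j hij hRn
  have hjS : j ∈ S := Cfsg.Lib.FusionSys.hom_mem hφ₀ _
  -- `j` lies in the hyperfocal subgroup
  have hjhyp : j ∈ F.hyperfocalSubgroup 2 :=
    (Cfsg.Lib.FusionSys.stronglyClosed_of_hyperfocal_le hS hF
      Cfsg.Lib.FusionSys.hyperfocal_subgroupOf_normal le_rfl
      (Cfsg.Lib.FusionSys.hyperfocal_le F)).2 (Subgroup.zpowers i) (Subgroup.zpowers_le.2 hmem)
      φ₀ hφ₀ ⟨i, Subgroup.mem_zpowers i⟩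
  -- the sign with kernel `T`
  set T₀ := T.subgroupOf S with hT₀def
  have hidx : T₀.index = 2 := hT
  let f : ↥S →* ℤˣ :=
    { toFun := fun x => if x ∈ T₀ then 1 else -1
      map_one' := if_pos (one_mem _)
      map_mul' := fun a b => by
        by_cases ha : a ∈ T₀ <;> by_cases hb : b ∈ T₀ <;>
          simp [ha, hb, Subgroup.mul_mem_iff_of_index_two hidx] }
  have hf1 : ∀ x : S, f x = 1 ↔ (x : Ω) ∈ T := by
    intro x
    show (if x ∈ T₀ then (1 : ℤˣ) else -1) = 1 ↔ _
    by_cases hx : x ∈ T₀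
    · simp only [hx, if_true, true_iff]
      exact hx
    · simp only [hx, if_false]
      exact iff_of_false (by decide) hx
  -- the transfer
  obtain ⟨X, _, _, hX, hst, m, hm, hpm⟩ := Cfsg.Lib.FusionSys.exists_biset hS hF
  haveI : Fintype (Quotient (Cfsg.Lib.FusionSys.rightSetoid S X)) := Fintype.ofFinite _
  obtain ⟨g, hg⟩ := Cfsg.Lib.FusionSys.exists_equivariant (X := X)
    ((f.comp (MonoidHom.snd ↥S ↥S)).comp ((⊥ : Subgroup ↥S).prod (⊤ : Subgroup ↥S)).subtype)
    fun k x hk => by
      have h1 : k.1.1 = 1 := Subgroup.mem_bot.1 (Subgroup.mem_prod.1 k.2).1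
      have h2 : k.1.2 = 1 := hX.free (t := k.1.2) (x := x)
        (by rw [← h1]; exact hk)
      show f k.1.2 = 1
      rw [h2, map_one]
  have hg1 : ∀ (t : ↥S) (x : X), g (((1 : ↥S), t) • x) = f t * g x :=
    fun t x => hg ⟨(1, t), Subgroup.mem_prod.2 ⟨Subgroup.one_mem _, trivial⟩⟩ x
  set D := Cfsg.Lib.FusionSys.bisetTransfer f g hg1 with hDdef
  have hker : F.focalSubgroup ≤ D.ker.map S.subtype := by
    refine (Subgroup.closure_le _).2 ?_
    rintro _ ⟨P, φ, x, hφ, rfl⟩
    refine ⟨⟨x, Cfsg.Lib.FusionSys.hom_le hφ x.2⟩⁻¹ *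
      ⟨φ x, Cfsg.Lib.FusionSys.hom_mem hφ x⟩, ?_, rfl⟩
    show D _ = 1
    have h1 : D ⟨φ x, Cfsg.Lib.FusionSys.hom_mem hφ x⟩ =
        D ⟨x, Cfsg.Lib.FusionSys.hom_le hφ x.2⟩ :=
      Cfsg.Lib.FusionSys.bisetTransfer_conj hX hst f g hg1
        (Cfsg.Lib.FusionSys.isoIn_homIso hφ rfl) x
    rw [map_mul, map_inv, h1, inv_mul_cancel]
  set u : ↥S := ⟨j, hjS⟩ with hudef
  have hDu : D u = 1 := by
    obtain ⟨w, hw, hwe⟩ := hker (Cfsg.Lib.FusionSys.hyperfocal_le_focal F hjhyp)
    rw [show u = w from Subtype.ext hwe.symm]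
    exact hw
  have hi1 : i ≠ 1 := fun h1 => by simp [h1] at hi2
  have hj2 : j * j = 1 := by
    rw [hjdef, ← map_mul, show (⟨i, Subgroup.mem_zpowers i⟩ : Subgroup.zpowers i) *
      ⟨i, Subgroup.mem_zpowers i⟩ = 1 from Subtype.ext (by
        show i * i = 1
        rw [← pow_two, ← hi2, pow_orderOf_eq_one]), map_one]
  have huu : u * u = 1 := Subtype.ext hj2
  -- the orbits
  let Qt := Quotient (Cfsg.Lib.FusionSys.rightSetoid S X)
  let σ : ↥S → Equiv.Perm Qt := Cfsg.Lib.FusionSys.leftOrbitPerm
  have hσmk : ∀ (s : ↥S) (x : X),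
      σ s (Quotient.mk _ x) = Quotient.mk _ ((s, (1 : ↥S)) • x) := fun s x => rfl
  have hσmul : ∀ (a b : ↥S) (q : Qt), σ (a * b) q = σ a (σ b q) := by
    intro a b q
    induction q using Quotient.inductionOn with
    | h x =>
      rw [hσmk, hσmk, hσmk, ← mul_smul, Prod.mk_mul_mk, one_mul]
  have hσ1 : ∀ q : Qt, σ 1 q = q := by
    intro q
    induction q using Quotient.inductionOn with
    | h x => rw [hσmk, ← Prod.one_eq_mk, one_smul]
  let r : Qt → ℤˣ := Cfsg.Lib.FusionSys.ratioAt f g hg1 u
  have hnonfix : (∏ q ∈ Finset.univ.filter (fun q => ¬ σ u q = q), r q) = 1 := by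
    refine Finset.prod_involution (fun q _ => σ u q) (fun q _ => ?_) (fun q hq _ => ?_)
      (fun q hq => ?_) (fun q _ => ?_)
    · induction q using Quotient.inductionOn with
      | h x =>
        show g ((u, (1 : ↥S)) • x) / g x *
          (g ((u, (1 : ↥S)) • (u, (1 : ↥S)) • x) / g ((u, (1 : ↥S)) • x)) = 1
        rw [← mul_smul, Prod.mk_mul_mk, huu, one_mul, ← Prod.one_eq_mk, one_smul,
          div_mul_div_cancel, div_self']
    · exact (Finset.mem_filter.1 hq).2
    · refine Finset.mem_filter.2 ⟨Finset.mem_univ _, fun h1 => ?_⟩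
      exact (Finset.mem_filter.1 hq).2 ((σ u).injective h1)
    · rw [← hσmul, huu, hσ1]
  have hD2 : (∏ q ∈ Finset.univ.filter (fun q => σ u q = q), r q) = 1 := by
    have h1 := (Finset.prod_filter_mul_prod_filter_not Finset.univ (fun q => σ u q = q) r).trans
      (show ∏ q, r q = 1 from hDu)
    rwa [hnonfix, mul_one] at h1
  -- fixed orbits with label in `T`
  let C : Subgroup ↥S := Subgroup.centralizer {u}
  letI : MulAction C Qt :=
    { smul := fun s q => σ s q
      one_smul := hσ1
      mul_smul := fun a b q => hσmul a b q }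
  let good : SubMulAction C Qt :=
    { carrier := {q | σ u q = q ∧ r q = 1}
      smul_mem' := by
        rintro ⟨s, hs⟩ q ⟨hq1, hq2⟩
        have hsu : u * s = s * u := Subgroup.mem_centralizer_iff.1 hs u rfl
        refine ⟨?_, ?_⟩
        · show σ u (σ s q) = σ s q
          rw [← hσmul, hsu, hσmul, hq1]
        · induction q using Quotient.inductionOn with
          | h x =>
            obtain ⟨b, hb⟩ := Quotient.exact (hq1.symm.trans (hσmk u x))
            have hb' : (u, (1 : ↥S)) • x = ((1 : ↥S), b) • x := hb.symm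
            have hfb : f b = 1 := by
              have h2 : g ((u, (1 : ↥S)) • x) / g x = 1 := hq2
              rwa [hb', hg1, mul_div_cancel_right] at h2
            show g ((u, (1 : ↥S)) • (s, (1 : ↥S)) • x) / g ((s, (1 : ↥S)) • x) = 1
            rw [← mul_smul, Prod.mk_mul_mk, hsu, one_mul,
              show ((s * u, (1 : ↥S)) : ↥S × ↥S) = (s, 1) * (u, 1) by simp, mul_smul, hb',
              Cfsg.Lib.FusionSys.smul_comm_pair, hg1, hfb, one_mul, div_self'] }
  have hgood : 2 ∣ Nat.card good := by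
    have hCp : IsPGroup 2 C := hS.to_subgroup _
    have h0 := hCp.card_modEq_card_fixedPoints good
    suffices hempty : IsEmpty (MulAction.fixedPoints C good) by
      rw [Nat.card_of_isEmpty (α := MulAction.fixedPoints C good)] at h0
      exact Nat.modEq_zero_iff_dvd.1 h0
    refine ⟨fun z => ?_⟩
    obtain ⟨⟨q, hq1, hq2⟩, hfix⟩ := z
    induction q using Quotient.inductionOn with
    | h x =>
      obtain ⟨b, hb⟩ := Quotient.exact (hq1.symm.trans (hσmk u x))
      have hb' : (u, (1 : ↥S)) • x = ((1 : ↥S), b) • x := hb.symm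
      have hfb : f b = 1 := by
        have h2 : g ((u, (1 : ↥S)) • x) / g x = 1 := hq2
        rwa [hb', hg1, mul_div_cancel_right] at h2
      obtain ⟨Q, P, φ, hφ, -, hD⟩ := hX x
      have hstab : ∀ (s t : ↥S), (s, t) • x = x →
          ∃ y : P, (s : Ω) = y ∧ (t : Ω) = φ y := fun s t hst => by
        have h1 : (s, t) ∈ MulAction.stabilizer (↥S × ↥S) x := hst
        rwa [← hD, Cfsg.Lib.FusionSys.mem_graph] at h1
      have hu' : (u, b⁻¹) • x = x := by
        rw [show ((u, b⁻¹) : ↥S × ↥S) = ((1 : ↥S), b⁻¹) * (u, 1) by simp, mul_smul, hb',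
          ← mul_smul]
        simp [← Prod.one_eq_mk]
      obtain ⟨yu, hyu, hyv⟩ := hstab _ _ hu'
      -- the centralizer acts through the graph
      have hCP : ∀ s : C, ∃ y : P, ((s : ↥S) : Ω) = y := by
        intro s
        have h2 : σ (s : ↥S) (Quotient.mk _ x) = Quotient.mk _ x :=
          congrArg Subtype.val (hfix s)
        obtain ⟨c, hc⟩ := Quotient.exact (h2.symm.trans (hσmk _ x))
        have hs' : ((s : ↥S), c⁻¹) • x = x := by
          rw [show (((s : ↥S), c⁻¹) : ↥S × ↥S) = ((1 : ↥S), c⁻¹) * ((s : ↥S), 1) by simp,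
            mul_smul, ← hc, ← mul_smul]
          simp [← Prod.one_eq_mk]
        obtain ⟨y, hy, -⟩ := hstab _ _ hs'
        exact ⟨y, hy⟩
      choose y hy using hCP
      set t := φ yu with htdef
      have htT : t ∈ T := by
        have h2 : ((b⁻¹ : ↥S) : Ω) ∈ T := (hf1 _).1 (by rw [map_inv, hfb, inv_one])
        rwa [hyv] at h2
      have htS : t ∈ S := Cfsg.Lib.FusionSys.hom_mem hφ _
      have hjP : j ∈ P := by
        rw [show j = (yu : Ω) from hyu]
        exact yu.2
      have hyu' : yu = ⟨j, hjP⟩ := Subtype.ext hyu.symm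
      have hconj : F.IsConjElt i t := by
        refine ⟨_, F.comp_mem hφ₀ hφ (fun w => ?_), ?_⟩
        · obtain ⟨k, hk⟩ := Subgroup.mem_zpowers_iff.1 w.2
          have hw : w = ⟨i, Subgroup.mem_zpowers i⟩ ^ k := Subtype.ext hk.symm
          rw [hw, map_zpow]
          exact P.zpow_mem hjP k
        · rw [htdef, hyu']
          rfl
      -- centralizer orders
      have hCle : ∀ s : C, φ (y s) ∈ FusionSystem.centralizerIn S (Subgroup.zpowers t) := by
        intro s
        refine Cfsg.Lib.FusionSys.mem_centralizerIn.2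
          ⟨Cfsg.Lib.FusionSys.hom_mem hφ _, fun w hw => ?_⟩
        obtain ⟨k, rfl⟩ := Subgroup.mem_zpowers_iff.1 hw
        refine ((Commute.zpow_right ?_ k : Commute (φ (y s)) (t ^ k)))
        show φ (y s) * φ yu = φ yu * φ (y s)
        rw [← map_mul, ← map_mul]
        congr 1
        refine Subtype.ext ?_
        show ((y s : P) : Ω) * yu = yu * (y s : P)
        rw [← hy s, ← hyu]
        exact congrArg Subtype.val (Subgroup.mem_centralizer_iff.1 s.2 u rfl).symm
      have hcardle : Nat.card C ≤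
          Nat.card (FusionSystem.centralizerIn S (Subgroup.zpowers t)) := by
        haveI := Cfsg.Lib.FusionSys.finite_of_le
          (Cfsg.Lib.FusionSys.centralizerIn_le (S := S) (Subgroup.zpowers t))
        refine Nat.card_le_card_of_injective
          (fun s => (⟨_, hCle s⟩ : FusionSystem.centralizerIn S (Subgroup.zpowers t))) ?_
        intro a b' hab
        have h2 := F.injective_of_mem hφ (congrArg Subtype.val hab)
        refine Subtype.ext (Subtype.ext ?_)
        rw [hy a, hy b', h2]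
      -- so `⟨t⟩` is fully normalized
      refine h t hconj ⟨Subgroup.zpowers_le.2 htS, fun Q' hQ' => ?_⟩ htT
      have hpres : F.IsConj (Subgroup.zpowers i) (Subgroup.zpowers t) := by
        obtain ⟨φ₁, hφ₁, he₁⟩ := hconj
        refine ⟨φ₁, hφ₁, ?_⟩
        rw [← he₁]
        ext w
        constructor
        · rintro ⟨⟨a, ha⟩, rfl⟩
          obtain ⟨k, rfl⟩ := Subgroup.mem_zpowers_iff.1 ha
          exact Subgroup.mem_zpowers_iff.2 ⟨k, by rw [← map_zpow]; rfl⟩
        · intro hw
          obtain ⟨k, rfl⟩ := Subgroup.mem_zpowers_iff.1 hw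
          rw [← map_zpow]
          exact ⟨_, rfl⟩
      have h3 : F.IsConj (Subgroup.zpowers j) Q' :=
        Cfsg.Lib.FusionSys.isConj_trans
          (Cfsg.Lib.FusionSys.isConj_symm ⟨φ₀, hφ₀, hφ₀r⟩)
          (Cfsg.Lib.FusionSys.isConj_trans hpres hQ')
      refine (hRn.2 Q' h3).trans (le_trans ?_ (hcardle.trans ?_))
      · haveI := Cfsg.Lib.FusionSys.finite_of_le
          (Cfsg.Lib.FusionSys.normalizerIn_le (S := S) (Subgroup.zpowers j))
        refine Nat.card_le_card_of_injective (fun a =>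
          (⟨⟨(a : Ω), (Cfsg.Lib.FusionSys.mem_normalizerIn.1 a.2).1⟩, ?_⟩ : C)) ?_
        · refine Subgroup.mem_centralizer_iff.2 ?_
          rintro _ rfl
          refine Subtype.ext ?_
          show j * (a : Ω) = (a : Ω) * j
          have han := (Cfsg.Lib.FusionSys.mem_normalizerIn.1 a.2).2
          have h4 := (Subgroup.mem_normalizer_iff.1 han j).1 (Subgroup.mem_zpowers j)
          obtain ⟨k, hk⟩ := Subgroup.mem_zpowers_iff.1 h4
          have hjord : ∀ k : ℤ, j ^ k = 1 ∨ j ^ k = j := by
            intro k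
            rcases Int.even_or_odd k with ⟨l, hl⟩ | ⟨l, hl⟩
            · left
              rw [hl, zpow_add, ← (Commute.refl j).mul_zpow, hj2, one_zpow]
            · right
              rw [hl, zpow_add_one, two_mul, zpow_add, ← (Commute.refl j).mul_zpow, hj2,
                one_zpow, one_mul]
          rcases hjord k with h5 | h5
          · rw [h5] at hk
            exact absurd (show j = 1 by
              have h6 : (a : Ω) * j * (a : Ω)⁻¹ = 1 := hk.symm
              simpa [mul_inv_eq_one] using h6) (fun h7 => hjT (h7 ▸ T.one_mem))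
          · rw [h5] at hk
            rw [eq_mul_inv_iff_mul_eq] at hk
            exact hk
        · intro a a' haa
          exact Subtype.ext (congrArg (fun z : C => ((z : ↥S) : Ω)) haa)
      · haveI := Cfsg.Lib.FusionSys.finite_of_le
          (Cfsg.Lib.FusionSys.normalizerIn_le (S := S) (Subgroup.zpowers t))
        exact Subgroup.card_le_of_le (Cfsg.Lib.FusionSys.centralizerIn_le_normalizerIn _)
  -- parity
  set Fix := Finset.univ.filter (fun q => σ u q = q) with hFixdef
  have hFixpar : ¬ 2 ∣ Fix.card := by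
    have hmq : Fintype.card Qt = m := by
      rw [← Nat.card_eq_fintype_card]
      exact Nat.eq_of_mul_eq_mul_right Nat.card_pos
        ((Cfsg.Lib.FusionSys.card_eq_orbits_mul hX).symm.trans hm)
    have hne : 2 ∣ (Finset.univ.filter (fun q => ¬ σ u q = q)).card := by
      have h1 : (∏ q ∈ Finset.univ.filter (fun q => ¬ σ u q = q), (-1 : ℤˣ)) = 1 := by
        refine Finset.prod_involution (fun q _ => σ u q) (fun q _ => by simp)
          (fun q hq _ => (Finset.mem_filter.1 hq).2) (fun q hq => ?_) (fun q _ => ?_)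
        · exact Finset.mem_filter.2 ⟨Finset.mem_univ _,
            fun h1 => (Finset.mem_filter.1 hq).2 ((σ u).injective h1)⟩
        · rw [← hσmul, huu, hσ1]
      rw [Finset.prod_const] at h1
      exact (neg_one_pow_eq_one_iff_even (by decide)).1 h1 |>.two_dvd
    intro h2
    apply hpm
    rw [← hmq, ← Finset.card_univ,
      ← Finset.card_filter_add_card_filter_not (fun q => σ u q = q)]
    exact Nat.dvd_add h2 hne
  have hgc : Nat.card good = (Fix.filter (fun q => r q = 1)).card := by
    rw [← Nat.card_eq_finsetCard]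
    exact Nat.card_congr (Equiv.subtypeEquivRight fun q => by simp [Fix]; rfl)
  have hodd : ¬ 2 ∣ (Fix.filter (fun q => ¬ r q = 1)).card := by
    intro h2
    apply hFixpar
    rw [← Finset.card_filter_add_card_filter_not (fun q => r q = 1)]
    exact Nat.dvd_add (hgc ▸ hgood) h2
  rw [← Finset.prod_filter_mul_prod_filter_not Fix (fun q => r q = 1),
    Finset.prod_eq_one (fun q hq => (Finset.mem_filter.1 hq).2), one_mul,
    Finset.prod_congr rfl (fun q hq =>
      (Int.units_eq_one_or (r q)).resolve_left (Finset.mem_filter.1 hq).2),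
    Finset.prod_const] at hD2
  exact hodd ((neg_one_pow_eq_one_iff_even (by decide)).1 hD2).two_dvd

end Cfsg.Agent.S5192
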