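import Cfsg.Statements.S5193
import Cfsg.Agent.Lib.FusionSys.CenterFactor

set_option autoImplicit false
open Cfsg

namespace Cfsg.Agent.S5193

/-- Glauberman's Theorem for fusion systems. Let F be a saturated fusion system over a finite p-group S, let J(S) be the subgroup generated by the abelian subgroups of S of largest order, and let N be the normalizer fusion system of J(S) in F (a fusion system over N_S(J(S)) = S). Then every p-th power of an element of Z(S) that lies in the centre of N lies in the centre of F; and if p is odd, or if the symmetric group of degree 4 is not involved in any model of the normalizer system of a fully normalized F-centric subgroup (F is S₄-free), then the centre of N equals the centre of F. -/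
theorem result {Ω : Type*} [Group Ω] {S : Subgroup Ω} [Finite S] (p : ℕ) [Fact p.Prime] (hS : IsPGroup p S) (F : Cfsg.FusionSystem S) (hF : F.IsSaturated p) (N : Cfsg.FusionSystem (Cfsg.FusionSystem.normalizerIn S (Cfsg.thompsonSubgroupAOf S))) (hN : F.IsNormalizerSystem (Cfsg.thompsonSubgroupAOf S) N) : Subgroup.closure ((fun z : Ω => z ^ p) '' ((S ⊓ Subgroup.centralizer (S : Set Ω) : Subgroup Ω) : Set Ω)) ⊓ N.center ≤ F.center ∧ (p ≠ 2 ∨ F.IsSectionFree p (Equiv.Perm (Fin 4)) → N.center = F.center) := by
  refine ⟨?_, fun hgood => Cfsg.Lib.FusionSys.center_eq_center_normalizer hS hF hN hgood⟩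
  rintro x ⟨hx, hxN⟩
  have key : ∀ y ∈ Subgroup.closure ((fun z : Ω => z ^ p) ''
      ((S ⊓ Subgroup.centralizer (S : Set Ω) : Subgroup Ω) : Set Ω)),
      ∃ z ∈ S ⊓ Subgroup.centralizer (S : Set Ω), z ^ p = y := by
    intro y hy
    induction hy using Subgroup.closure_induction with
    | mem y hy => obtain ⟨z, hz, rfl⟩ := hy; exact ⟨z, hz, rfl⟩
    | one => exact ⟨1, one_mem _, one_pow p⟩
    | mul a b _ _ ha hb =>
      obtain ⟨z, hz, rfl⟩ := ha
      obtain ⟨w, hw, rfl⟩ := hb
      have hc : Commute z w := Subgroup.mem_centralizer_iff.1 hw.2 z hz.1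
      exact ⟨z * w, mul_mem hz hw, hc.mul_pow p⟩
    | inv a _ ha =>
      obtain ⟨z, hz, rfl⟩ := ha
      exact ⟨z⁻¹, inv_mem hz, inv_pow z p⟩
  obtain ⟨z, hz, rfl⟩ := key x hx
  refine Cfsg.Lib.FusionSys.mem_center_of_mem_center_normalizer hS hF hN p ?_ hz hxN
  by_cases h : p = 2
  · exact Or.inr ⟨h, Or.inl h⟩
  · exact Or.inl h

end Cfsg.Agent.S5193
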