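import Cfsg.Statements.S5196
import Cfsg.Agent.Lib.FusionSys.GeneratedByThompson

set_option autoImplicit false
universe u
open Cfsg

namespace Cfsg.Agent.S5196

/-- Let p be an odd prime and W a positive characteristic p-functor: W assigns to every finite p-group Q (in a fixed universe) a subgroup W(Q), nontrivial when Q is, carried to W(R) by every isomorphism Q ≅ R; assume also Z(Q) ≤ W(Q) for every finite p-group Q. Suppose W satisfies the local condition: for every finite group G with Sylow p-subgroup P, O_p(G) ∩ Z(G) = O_p(G) ∩ Z(N_G(W(P))). Then W controls weak closure of elements in every saturated fusion system F over a finite p-group S: the centre of the normalizer fusion system of W(S) in F equals the centre of F. (For p = 2 no functor satisfies the local condition, so p is taken odd.) -/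
theorem result {p : ℕ} [Fact p.Prime] (hp : p ≠ 2) (W : ∀ (Q : Type u) [Group Q], Subgroup Q) (hW1 : ∀ (Q : Type u) [Group Q] [Finite Q], IsPGroup p Q → Nontrivial Q → W Q ≠ ⊥) (hW2 : ∀ (Q R : Type u) [Group Q] [Group R] [Finite Q], IsPGroup p Q → ∀ φ : Q ≃* R, (W Q).map φ.toMonoidHom = W R) (hWZ : ∀ (Q : Type u) [Group Q] [Finite Q], IsPGroup p Q → Subgroup.center Q ≤ W Q) (hC : ∀ (G : Type u) [Group G] [Finite G] (P : Sylow p G), Cfsg.pCore p G ⊓ Subgroup.center G = Cfsg.pCore p G ⊓ (Subgroup.center ↥(Subgroup.normalizer (((W ↥(P : Subgroup G)).map (P : Subgroup G).subtype : Subgroup G) : Set G))).map (Subgroup.normalizer (((W ↥(P : Subgroup G)).map (P : Subgroup G).subtype : Subgroup G) : Set G)).subtype) {Ω : Type u} [Group Ω] {S : Subgroup Ω} [Finite S] (hS : IsPGroup p S) (F : Cfsg.FusionSystem S) (hF : F.IsSaturated p) (N : Cfsg.FusionSystem (Cfsg.FusionSystem.normalizerIn S ((W ↥S).map S.subtype))) (hN : F.IsNormalizerSystem ((W ↥S).map S.subtype) N) : N.center = F.center := by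
  haveI := Cfsg.Lib.FusionSys.finite_of_le
    (Cfsg.Lib.FusionSys.normalizerIn_le (S := S) ((W ↥S).map S.subtype))
  haveI := Cfsg.Lib.FusionSys.finite_of_le
    (Cfsg.Lib.FusionSys.normalizerIn_le (S := S) (Cfsg.Lib.FusionSys.functorOf W S))
  obtain ⟨hWS, hchar⟩ := Cfsg.Lib.FusionSys.functorOf_char W hW2 S hS
  have hNS := Cfsg.Lib.FusionSys.normalizerIn_eq_self
    (Subgroup.le_normalizer.trans (Cfsg.Lib.FusionSys.le_normalizer_of_char hWS hchar))
  refine le_antisymm (fun z hz => ?_) ?_
  · have hzc := Cfsg.Lib.FusionSys.center_inf_normalizer_le hS W hW2 hN hz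
    have h := Cfsg.Lib.FusionSys.mem_center_of_functor hS hF W hW2 hWZ hzc 1 hN
      (by rwa [pow_one]) ?_
    · rwa [pow_one] at h
    intro L _ _ T z' hzQ hzT hloc a
    rw [pow_one] at hloc ⊢
    have hzTs := Cfsg.Lib.Core.pCore_le_sylow T hzQ
    obtain ⟨hWT, hWchar⟩ := Cfsg.Lib.FusionSys.functorOf_char W hW2 (T : Subgroup L) T.isPGroup'
    have hzN := Cfsg.Lib.FusionSys.le_normalizer_of_char hWT hWchar (Subgroup.le_normalizer hzTs)
    have h1 : z' ∈ Cfsg.pCore p L ⊓ Subgroup.center L := by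
      rw [hC L T]
      exact ⟨hzQ, ⟨z', hzN⟩, Subgroup.mem_center_iff.2 fun n => Subtype.ext
        (Subgroup.mem_centralizer_iff.1 (hloc n.2) z' rfl).symm, rfl⟩
    exact Subgroup.mem_center_iff.1 h1.2 a
  · intro z hz
    refine (Cfsg.Lib.FusionSys.mem_center_iff' (hS.to_le (Cfsg.Lib.FusionSys.normalizerIn_le _))
      (Cfsg.Lib.FusionSys.isSaturated_normalizerSystem hS hF ⟨hWS, fun R _ =>
        (Cfsg.Lib.FusionSys.card_le_of_le (Cfsg.Lib.FusionSys.normalizerIn_le R)).trans
          (le_of_eq (congrArg (fun T : Subgroup Ω => Nat.card T) hNS.symm))⟩ hN)).2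
      ⟨hNS.ge ((Cfsg.Lib.FusionSys.isCentral_center F).1 hz), fun R φ hφ hx => ?_⟩
    exact Cfsg.Lib.FusionSys.center_fixed F hz (y := (⟨z, hx⟩ : R))
      (Cfsg.Lib.FusionSys.subset_of_normalizerSystem hN hφ) rfl

end Cfsg.Agent.S5196
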