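import Cfsg.Statements.S5200
import Cfsg.Agent.Lib.FusionSys.NormalSmallCentralizer

set_option autoImplicit false
open Cfsg Cfsg.Lib.FusionSys

namespace Cfsg.Agent.S5200

/-- Let F be a saturated fusion system over a finite p-group S and E a normal subsystem of F over T whose centralizer in S lies in T: every subgroup Y of C_S(T) such that E is contained in the centralizer fusion system of Y in F satisfies Y ≤ T. Then T·C_S(T)/T is abelian (the commutator subgroup of T·C_S(T) lies in T), and if p is odd then C_S(T) ≤ T. -/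
theorem result {Ω : Type*} [Group Ω] {S : Subgroup Ω} [Finite S] (p : ℕ) [Fact p.Prime] (hS : IsPGroup p S) (F : Cfsg.FusionSystem S) (hF : F.IsSaturated p) {T : Subgroup Ω} (E : Cfsg.FusionSystem T) (hE : E.IsNormalIn F p) (hCE : ∀ Y : Subgroup Ω, Y ≤ Cfsg.FusionSystem.centralizerIn S T → (∀ C : Cfsg.FusionSystem (Cfsg.FusionSystem.centralizerIn S Y), F.IsCentralizerSystem Y C → E.IsSubsystemOf C) → Y ≤ T) : ⁅T ⊔ Cfsg.FusionSystem.centralizerIn S T, T ⊔ Cfsg.FusionSystem.centralizerIn S T⁆ ≤ T ∧ (p ≠ 2 → Cfsg.FusionSystem.centralizerIn S T ≤ T) := by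
  have hT : F.StronglyClosed T := hE.1.2.2.2.1
  have hTS : T ≤ S := hT.1
  have hY : systemCentralizer F E p hT ≤ T := by
    refine hCE _ systemCentralizer_le fun C hC P φ hφ => ?_
    rw [hC P]
    exact (centralizesSystem_systemCentralizer hS hE).2 P hφ
  refine ⟨?_, fun hp => (centralizerIn_le_center_sup_systemCentralizer hp hS hE).trans
    (sup_le inf_le_left hY)⟩
  obtain ⟨C, hC⟩ := exists_centralizerSystem F hTS
  have hfoc : C.focalSubgroup ≤ T := (focal_centralizerSystem_le hS hE hC).trans hY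
  have hKK : ∀ a ∈ (Cfsg.FusionSystem.centralizerIn S T), ∀ b ∈ (Cfsg.FusionSystem.centralizerIn S T), a * b * a⁻¹ * b⁻¹ ∈ T := by
    intro a ha b hb
    have h : (b⁻¹ : Ω)⁻¹ * conjHom (Cfsg.FusionSystem.centralizerIn S T) a ⟨b⁻¹, inv_mem hb⟩ ∈ T :=
      hfoc (Subgroup.subset_closure ⟨(Cfsg.FusionSystem.centralizerIn S T), conjHom (Cfsg.FusionSystem.centralizerIn S T) a, ⟨b⁻¹, inv_mem hb⟩, C.conj_mem le_rfl ha, rfl⟩)
    have h2 := T.inv_mem h
    rwa [show ((b⁻¹ : Ω)⁻¹ * conjHom (Cfsg.FusionSystem.centralizerIn S T) a ⟨b⁻¹, inv_mem hb⟩)⁻¹ = a * b * a⁻¹ * b⁻¹ by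
      show ((b⁻¹ : Ω)⁻¹ * (a * b⁻¹ * a⁻¹))⁻¹ = _
      group] at h2
  refine Subgroup.commutator_le.2 fun g hg h hh => ?_
  obtain ⟨t, ht, a, ha, rfl⟩ := exists_mul_of_sup hT le_rfl hg
  obtain ⟨u, hu, b, hb, rfl⟩ := exists_mul_of_sup hT le_rfl hh
  have hau : a * u = u * a := (mem_centralizerIn.1 ha).2 u hu
  have hat : a * t = t * a := (mem_centralizerIn.1 ha).2 t ht
  have hbt : b * t = t * b := (mem_centralizerIn.1 hb).2 t ht
  have hbu : b * u = u * b := (mem_centralizerIn.1 hb).2 u hu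
  have hb1 : b * t⁻¹ = t⁻¹ * b := (Commute.inv_right hbt).eq
  have hkey : (t * a) * (u * b) * (t * a)⁻¹ * (u * b)⁻¹ =
      (t * u * t⁻¹ * u⁻¹) * (a * b * a⁻¹ * b⁻¹) := by
    have h1 : a * (u * b) * a⁻¹ = u * (a * b * a⁻¹) := by
      rw [← mul_assoc a u b, hau]; group
    have h2 : t⁻¹ * (a * b * a⁻¹) = (a * b * a⁻¹) * t⁻¹ := by
      have ha1 : Commute t⁻¹ a := (Commute.inv_right (show Commute a t from hat)).symm
      exact ((ha1.mul_right hb1.symm).mul_right ha1.inv_right).eq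
    have h3 : u⁻¹ * (a * b * a⁻¹ * b⁻¹) = (a * b * a⁻¹ * b⁻¹) * u⁻¹ := by
      have ha1 : Commute u⁻¹ a := (Commute.inv_right (show Commute a u from hau)).symm
      have hb2 : Commute u⁻¹ b := (Commute.inv_right (show Commute b u from hbu)).symm
      exact (((ha1.mul_right hb2).mul_right ha1.inv_right).mul_right hb2.inv_right).eq
    calc (t * a) * (u * b) * (t * a)⁻¹ * (u * b)⁻¹
        = t * (a * (u * b) * a⁻¹) * t⁻¹ * b⁻¹ * u⁻¹ := by group
      _ = t * u * ((a * b * a⁻¹) * t⁻¹) * b⁻¹ * u⁻¹ := by rw [h1]; group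
      _ = t * u * t⁻¹ * ((a * b * a⁻¹ * b⁻¹) * u⁻¹) := by rw [← h2]; group
      _ = _ := by rw [← h3]; group
  rw [commutatorElement_def, hkey]
  exact T.mul_mem (T.mul_mem (T.mul_mem (T.mul_mem ht hu) (T.inv_mem ht)) (T.inv_mem hu)) (hKK a ha b hb)

end Cfsg.Agent.S5200
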