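import Cfsg.Statements.S5213
import Cfsg.Agent.Lib.RankTwoFusion.Ambient
import Cfsg.Agent.Lib.FusionSys.CenterFactor
import Cfsg.Agent.Lib.FusionSys.RealizedFinite

set_option autoImplicit false
open Cfsg

namespace Cfsg.Agent.S5213

open Cfsg.FusionSystem Cfsg.Lib.FusionSys

universe u v

variable {Ω : Type u} [Group Ω] {S : Subgroup Ω} {F : Cfsg.FusionSystem S} {G : Type v} [Group G] {ι : ↥S →* G}

/-- Conjugation in a realizing group that stays inside the image gives a map of the system. -/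
theorem hom_of_conj (hι : F.IsRealizedBy ι) {P : Subgroup Ω} (hP : P ≤ S) {g : G}
    (hg : ∀ x : P, g * ι ⟨x, hP x.2⟩ * g⁻¹ ∈ ι.range) :
    ∃ φ : P →* Ω, φ ∈ F.Hom P ∧
      ∀ (x : P) (h : φ x ∈ S), ι ⟨φ x, h⟩ = g * ι ⟨x, hP x.2⟩ * g⁻¹ := by
  let e : ↥S ≃* ι.range := MonoidHom.ofInjective hι.1
  let c : P →* G := (MulAut.conj g).toMonoidHom.comp (ι.comp (Subgroup.inclusion hP))
  let φ : P →* Ω := S.subtype.comp (e.symm.toMonoidHom.comp (c.codRestrict ι.range hg))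
  have key : ∀ (x : P) (h : φ x ∈ S), ι ⟨φ x, h⟩ = g * ι ⟨x, hP x.2⟩ * g⁻¹ := fun x h =>
    congrArg Subtype.val (e.apply_symm_apply ⟨_, hg x⟩)
  exact ⟨φ, (hι.2 P hP φ fun x => (e.symm _).2).2 ⟨g, fun x => key x _⟩, key⟩

/-- A map of the system moves its elements to conjugates in the realizing group. -/
theorem conj_of_hom (hι : F.IsRealizedBy ι) {P : Subgroup Ω} {φ : P →* Ω} (hφ : φ ∈ F.Hom P) :
    ∃ g : G, ∀ x : P, ι ⟨φ x, hom_mem hφ x⟩ = g * ι ⟨x, hom_le hφ x.2⟩ * g⁻¹ :=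
  (hι.2 P (hom_le hφ) φ (hom_mem hφ)).1 hφ

variable [Finite S]

/-- Around a central element of a saturated system. -/
theorem hext (hS : IsPGroup 2 S) (hF : F.IsSaturated 2) (hι : F.IsRealizedBy ι) :
    ∀ w z : G, w ∈ ι.range → z ∈ ι.range → (∀ x ∈ ι.range, z * x = x * z) → IsConj w z →
      ∃ h : G, h * w * h⁻¹ = z ∧ ∀ c ∈ ι.range, w * c = c * w → h * c * h⁻¹ ∈ ι.range := by
  haveI : Fact (Nat.Prime 2) := ⟨Nat.prime_two⟩
  rintro _ _ ⟨w, rfl⟩ ⟨z, rfl⟩ hzc hwz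
  obtain ⟨g₀, hg₀⟩ := isConj_iff.1 hwz
  set P : Subgroup Ω := Subgroup.zpowers (w : Ω) with hPdef
  have hP : P ≤ S := Subgroup.zpowers_le.2 w.2
  have hpow : ∀ (i : ℤ) (h : (w : Ω) ^ i ∈ S),
      g₀ * ι ⟨(w : Ω) ^ i, h⟩ * g₀⁻¹ = ι (z ^ i) := fun i h => by
    rw [show (⟨(w : Ω) ^ i, h⟩ : ↥S) = w ^ i from Subtype.ext (by simp), map_zpow, map_zpow, ← conj_zpow, hg₀]
  obtain ⟨φ, hφ, hφι⟩ := hom_of_conj hι hP (g := g₀) (fun x => by
    obtain ⟨x, i, rfl⟩ := x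
    exact ⟨z ^ i, (hpow i _).symm⟩)
  have hval : ∀ (i : ℤ) (h : (w : Ω) ^ i ∈ P), φ ⟨(w : Ω) ^ i, h⟩ = (z : Ω) ^ i := fun i h => by
    have h1 := hι.1 ((hφι ⟨_, h⟩ (hom_mem hφ _)).trans (hpow i _))
    exact (congrArg Subtype.val h1).trans (by simp)
  have hrange : φ.range = Subgroup.zpowers (z : Ω) := by
    ext y
    constructor
    · rintro ⟨⟨_, i, rfl⟩, rfl⟩
      exact ⟨i, (hval i _).symm⟩
    · rintro ⟨i, rfl⟩
      exact ⟨⟨_, i, rfl⟩, hval i _⟩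
  have hzQ : centralizerIn S (Subgroup.zpowers (z : Ω)) = S := by
    refine le_antisymm (centralizerIn_le _) fun x hx => mem_centralizerIn.2 ⟨hx, ?_⟩
    have hcomm' : z * ⟨x, hx⟩ = (⟨x, hx⟩ : ↥S) * z :=
      hι.1 (by rw [map_mul, map_mul]; exact hzc _ ⟨_, rfl⟩)
    have hcomm : Commute (z : Ω) x := congrArg Subtype.val hcomm'
    rintro _ ⟨i, rfl⟩
    exact (hcomm.zpow_left i).eq.symm
  have hrec := isReceptive_of_fc hS hF (P := Subgroup.zpowers (z : Ω))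
    ⟨Subgroup.zpowers_le.2 z.2, fun Q _ => by rw [hzQ]; exact card_le_of_le (centralizerIn_le Q)⟩
  obtain ⟨ψ, hψ, hψe⟩ := hrec.2 P φ hφ hrange
  obtain ⟨h, hh⟩ := conj_of_hom hι hψ
  have hle : centralizerIn S P ≤ extender S P φ := centralizerIn_le_extender φ
  have hw : (w : Ω) ∈ centralizerIn S P := mem_centralizerIn.2 ⟨w.2, by
    rintro _ ⟨i, rfl⟩
    exact ((Commute.refl (w : Ω)).zpow_left i).eq.symm⟩
  refine ⟨h, ?_, ?_⟩
  · rw [← hh ⟨w, hle hw⟩]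
    refine congrArg ι (Subtype.ext ?_)
    show ψ ⟨w, hle hw⟩ = z
    rw [hψe (w : Ω) (Subgroup.mem_zpowers _) (hle hw)]
    have e := hval 1 (Subgroup.zpow_mem _ (Subgroup.mem_zpowers _) 1)
    simpa using e
  · rintro _ ⟨c, rfl⟩ hwc
    have hwc' : Commute (w : Ω) c := congrArg Subtype.val (hι.1 (a₁ := w * c) (a₂ := c * w)
      (by rw [map_mul, map_mul]; exact hwc))
    have hc : (c : Ω) ∈ centralizerIn S P := mem_centralizerIn.2 ⟨c.2, by
      rintro _ ⟨i, rfl⟩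
      exact (hwc'.zpow_left i).eq.symm⟩
    exact ⟨_, hh ⟨c, hle hc⟩⟩

/-- The automorphisms of the whole group induce a group of odd order on its centre. -/
theorem haut (hS : IsPGroup 2 S) (hF : F.IsSaturated 2) (hι : F.IsRealizedBy ι) :
    ∀ n ∈ Subgroup.normalizer (ι.range : Set G), ∃ r : ℕ, Odd r ∧
      ∀ z ∈ ι.range, (∀ x ∈ ι.range, z * x = x * z) → n ^ r * z * (n ^ r)⁻¹ = z := by
  haveI : Fact (Nat.Prime 2) := ⟨Nat.prime_two⟩
  intro n hn
  obtain ⟨φ, hφ, hφι⟩ := hom_of_conj hι (le_refl S) (g := n)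
    (fun x => (Subgroup.mem_normalizer_iff.1 hn _).1 ⟨_, rfl⟩)
  have hinj : Function.Injective (φ.codRestrict S (hom_mem hφ)) := fun a b e =>
    F.injective_of_mem hφ (congrArg Subtype.val e)
  let α : MulAut S := MulEquiv.ofBijective _ (Finite.injective_iff_bijective.1 hinj)
  have hαA : α ∈ F.autGroup S := (mem_autGroup le_rfl).2 (hom_congr hφ fun x => rfl)
  have hfc : F.IsFullyNormalized S := ⟨le_rfl, fun Q hQ => by rw [eq_top_of_isConj hQ]⟩
  obtain ⟨-, R, hR⟩ := (isFullyAutomized_and_fc_of_fn hS hF hfc).2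
  let a : F.autGroup S := ⟨α, hαA⟩
  obtain ⟨k, r, hr, hord⟩ := Nat.exists_eq_two_pow_mul_odd (n := orderOf a) (orderOf_pos a).ne'
  refine ⟨r, hr, ?_⟩
  rintro _ ⟨z, rfl⟩ hzc
  have hb : IsPGroup 2 (Subgroup.zpowers (a ^ r)) := by
    refine IsPGroup.of_card (n := k) ?_
    rw [Nat.card_zpowers, orderOf_pow_of_dvd hr.pos.ne' ⟨2 ^ k, by rw [hord, mul_comm]⟩, hord,
      Nat.mul_div_cancel _ hr.pos]
  obtain ⟨R', hR'⟩ := hb.exists_le_sylow
  obtain ⟨β, hβ⟩ := MulAction.exists_smul_eq (F.autGroup S) R' R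
  have hmem : β * a ^ r * β⁻¹ ∈ (R : Subgroup (F.autGroup S)) := by
    rw [← hβ, Sylow.coe_subgroup_smul]
    exact Subgroup.smul_mem_pointwise_smul _ (MulAut.conj β) _ (hR' (Subgroup.mem_zpowers _))
  rw [hR, Subgroup.mem_subgroupOf] at hmem
  obtain ⟨g, hg, hgx⟩ := mem_autInducedBy.1 hmem
  have hzS : ∀ x : S, z * x = x * z := fun x => hι.1 (by rw [map_mul, map_mul]; exact hzc _ ⟨x, rfl⟩)
  -- the power of `α` fixes `z`
  have hz : ((a ^ r : F.autGroup S) : MulAut S) z = z := by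
    apply (β : MulAut S).injective
    have h1 := hgx ((β : MulAut S) z)
    have h2 : ∀ x : S, (β : MulAut S) z * x = x * (β : MulAut S) z := fun x => by
      obtain ⟨y, rfl⟩ := (β : MulAut S).surjective x
      rw [← map_mul, ← map_mul, hzS]
    rw [show g * (((β : MulAut S) z : S) : Ω) * g⁻¹ = ((β : MulAut S) z : S) from
      mul_inv_eq_iff_eq_mul.2 (congrArg Subtype.val (h2 ⟨g, hg⟩)).symm] at h1
    refine Eq.trans ?_ (Subtype.ext h1)
    simp [MulAut.mul_apply, MulAut.inv_apply]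
  have hiter : ∀ (j : ℕ) (x : S), ι (((a ^ j : F.autGroup S) : MulAut S) x) = n ^ j * ι x * (n ^ j)⁻¹ := by
    intro j
    induction j with
    | zero => intro x; simp
    | succ j ih =>
      intro x
      rw [pow_succ', Subgroup.coe_mul, MulAut.mul_apply, pow_succ', mul_inv_rev,
        show n * n ^ j * ι x * ((n ^ j)⁻¹ * n⁻¹) = n * (n ^ j * ι x * (n ^ j)⁻¹) * n⁻¹ by group, ← ih x]
      exact hφι _ _
  rw [← hiter r z, hz]

/-- A central involution outside the centre of the system is fused to another involution. -/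
theorem hmove (hS : IsPGroup 2 S) (hF : F.IsSaturated 2) (hι : F.IsRealizedBy ι) (hZ : F.center = ⊥) :
    ∀ v ∈ ι.range, v * v = 1 → v ≠ 1 → (∀ x ∈ ι.range, v * x = x * v) →
      ∃ w ∈ ι.range, w * w = 1 ∧ w ≠ 1 ∧ w ≠ v ∧ IsConj w v := by
  haveI : Fact (Nat.Prime 2) := ⟨Nat.prime_two⟩
  rintro _ ⟨v, rfl⟩ hv2 hv1 -
  have hnot : (v : Ω) ∉ F.center := fun h => by
    rw [hZ, Subgroup.mem_bot] at h
    exact hv1 (by rw [show v = 1 from Subtype.ext h, map_one])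
  rw [mem_center_iff' hS hF] at hnot
  push Not at hnot
  obtain ⟨R, φ, hφ, hv, hne⟩ := hnot v.2
  obtain ⟨g, hg⟩ := conj_of_hom hι hφ
  have hgv : ι ⟨φ ⟨v, hv⟩, hom_mem hφ _⟩ = g * ι v * g⁻¹ := hg ⟨v, hv⟩
  refine ⟨_, ⟨⟨φ ⟨v, hv⟩, hom_mem hφ _⟩, rfl⟩, ?_, ?_, ?_, ?_⟩
  · rw [hgv, show g * ι v * g⁻¹ * (g * ι v * g⁻¹) = g * (ι v * ι v) * g⁻¹ by group, hv2, mul_one,
      mul_inv_cancel]
  · rw [hgv]
    exact fun e => hv1 (conj_eq_one_iff.1 e)
  · exact fun e => hne (congrArg Subtype.val (hι.1 e))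
  · exact IsConj.symm (isConj_iff.2 ⟨g, hgv.symm⟩)

/-- Let S be a finite 2-group of 2-rank 2 (it has an elementary abelian subgroup of order 4 and none of order 8) and F a saturated fusion system over S with trivial centre. Then S is dihedral, semidihedral, wreathed, homocyclic abelian (a direct product of cyclic groups of one common order), or isomorphic to a Sylow 2-subgroup of the projective special unitary group PSU₃(4) (realised over the field with 16 elements). -/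
theorem result {Ω : Type*} [Group Ω] {S : Subgroup Ω} [Finite S] (hS : IsPGroup 2 S) (F : Cfsg.FusionSystem S) (hF : F.IsSaturated 2) (hr : Cfsg.PRankAtLeast 2 2 ↥S ∧ ¬ Cfsg.PRankAtLeast 2 3 ↥S) (hZ : F.center = ⊥) {K : Type*} [Field K] [Fintype K] (hK : Fintype.card K = 16) : (∃ m : ℕ, Nonempty (↥S ≃* DihedralGroup m)) ∨ Cfsg.IsQuasiDihedral ↥S ∨ Cfsg.IsWreathed ↥S ∨ (∃ n k : ℕ, Nonempty (↥S ≃* Multiplicative (Fin k → ZMod (2 ^ n)))) ∨ ∃ T : Sylow 2 (Cfsg.PSU 3 K 4), Nonempty (↥S ≃* ↥(T : Subgroup (Cfsg.PSU 3 K 4))) := by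
  obtain ⟨G, _, _, ι, hι⟩ := exists_finite_realization F
  haveI : Fact (Nat.Prime 2) := ⟨Nat.prime_two⟩
  let e : ↥S ≃* ι.range := MonoidHom.ofInjective hι.1
  have hp : IsPGroup 2 ι.range := hS.of_equiv e
  obtain ⟨⟨A, hA, hA2, hA4⟩, h3⟩ := hr
  have hle : Cfsg.PRankLE 2 2 ι.range := by
    intro B hB hB2
    haveI := hB
    let B' : Subgroup ↥S := B.map e.symm.toMonoidHom
    rw [Nat.card_congr (B.equivMapOfInjective e.symm.toMonoidHom e.symm.injective).toEquiv]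
    obtain ⟨k, hk⟩ := (hS.to_subgroup B').exists_card_eq
    by_contra hlt
    refine h3 ⟨B', inferInstance, ?_, ?_⟩
    · rintro _ ⟨b, hb, rfl⟩
      rw [← map_pow, hB2 b hb, map_one]
    · rw [hk]
      refine Nat.pow_le_pow_right two_pos ?_
      by_contra hk3
      exact hlt (hk.trans_le (Nat.pow_le_pow_right two_pos (by omega)))
  have hge : ¬ Cfsg.PRankLE 2 1 ι.range := by
    intro h
    haveI := hA
    have := h (A.map e.toMonoidHom) inferInstance (by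
      rintro _ ⟨a, ha, rfl⟩
      rw [← map_pow, hA2 a ha, map_one])
    rw [← Nat.card_congr (A.equivMapOfInjective e.toMonoidHom e.injective).toEquiv] at this
    omega
  obtain ⟨P⟩ := (inferInstance : Nonempty (Sylow 2 (Cfsg.PSU 3 K 4)))
  rcases Cfsg.Lib.RankTwoFusion.Ambient.main ι.range hp hle hge (hmove hS hF hι hZ) (hext hS hF hι)
      (haut hS hF hι) hK P with ⟨m, -, ⟨f⟩⟩ | h | h | ⟨n, -, ⟨f⟩⟩ | ⟨⟨f⟩⟩
  · exact Or.inl ⟨m, ⟨e.trans f⟩⟩
  · obtain ⟨n, hn, hcard, x, y, hx, hy, hxy⟩ := h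
    refine Or.inr (Or.inl ⟨n, hn, (Nat.card_congr e.toEquiv).trans hcard, e.symm x, e.symm y, ?_, ?_, ?_⟩)
    · rwa [e.symm.orderOf_eq]
    · rwa [e.symm.orderOf_eq]
    · simp only [← map_inv, ← map_pow, ← map_mul, hxy]
  · obtain ⟨n, hn, hcard, x, y, z, hx, hxy, hdis, hz, hzxy⟩ := h
    refine Or.inr (Or.inr (Or.inl ⟨n, hn, (Nat.card_congr e.toEquiv).trans hcard, e.symm x, e.symm y, e.symm z,
      ?_, ?_, ?_, ?_, ?_⟩))
    · rwa [e.symm.orderOf_eq]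
    · simp only [← map_mul, hxy]
    · rw [Subgroup.eq_bot_iff_forall]
      rintro s ⟨⟨i, hi⟩, ⟨j, hj⟩⟩
      have hs : e s ∈ Subgroup.zpowers x ⊓ Subgroup.zpowers y :=
        ⟨⟨i, by simp [← hi]⟩, ⟨j, by simp [← hj]⟩⟩
      rw [hdis, Subgroup.mem_bot] at hs
      exact e.injective (hs.trans (map_one e).symm)
    · rwa [e.symm.orderOf_eq]
    · simp only [← map_inv, ← map_mul, hzxy]
  · refine Or.inr (Or.inr (Or.inr (Or.inl ⟨n, 2, ⟨(e.trans f).trans (AddEquiv.toMultiplicative ?_)⟩⟩)))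
    refine { toEquiv := (finTwoArrowEquiv _).symm, map_add' := ?_ }
    intro a b
    funext i
    fin_cases i <;> rfl
  · exact Or.inr (Or.inr (Or.inr (Or.inr ⟨P, ⟨e.trans f⟩⟩)))

end Cfsg.Agent.S5213
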