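import Cfsg.Statements.S5214
import Cfsg.Agent.Lib.TwoGroup.SuzukiStructure
import Cfsg.Agent.Lib.FusionSys.Normal

set_option autoImplicit false
open Cfsg
open scoped commutatorElement

namespace Cfsg.Agent.S5214

/-- Let S be a Suzuki 2-group (a finite nonabelian 2-group with more than one involution admitting a cyclic group of automorphisms permuting its involutions regularly). Then S is normal in every saturated fusion system over S (such a group is resistant). -/
theorem result {Ω : Type*} [Group Ω] {S : Subgroup Ω} [Finite S] (hS : IsPGroup 2 S) (F : Cfsg.FusionSystem S) (hF : F.IsSaturated 2) (hsz : Cfsg.IsSuzukiTwoGroup ↥S) : F.IsNormal S := by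
  classical
  haveI : Fact (Nat.Prime 2) := ⟨Nat.prime_two⟩
  obtain ⟨hZ, hsq, hcomm, -⟩ := Cfsg.Lib.Suzuki2.structure_of_suzuki hsz
  let E : Subgroup Ω := (Subgroup.center ↥S).map S.subtype
  have hmem : ∀ x : Ω, x ∈ E ↔ x ∈ S ∧ x * x = 1 := by
    intro x
    constructor
    · rintro ⟨y, hy, rfl⟩
      exact ⟨y.2, congrArg Subtype.val ((hZ y).1 hy)⟩
    · rintro ⟨hxS, hx⟩
      exact ⟨⟨x, hxS⟩, (hZ _).2 (Subtype.ext hx), rfl⟩
  refine Cfsg.Lib.FusionSys.isNormal_of_series (p := 2) hS hF
    (fun i => if i = 0 then ⊥ else if i = 1 then E else S) 2 (by simp) (by simp) ?_ ?_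
  · intro i hi
    interval_cases i
    · simpa using Cfsg.Lib.FusionSys.stronglyClosed_bot F
    · simp only [one_ne_zero, if_false, if_true]
      refine ⟨fun x hx => ((hmem x).1 hx).1, fun R hR φ hφ x => ?_⟩
      refine (hmem _).2 ⟨Cfsg.Lib.FusionSys.hom_mem hφ x, ?_⟩
      have h1 : x * x = 1 := Subtype.ext ((hmem (x : Ω)).1 (hR x.2)).2
      rw [← map_mul, h1, map_one]
    · simp only [OfNat.ofNat_ne_zero, OfNat.ofNat_ne_one, if_false]
      exact ⟨le_rfl, fun R hR φ hφ x => Cfsg.Lib.FusionSys.hom_mem hφ x⟩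
  · intro i hi g hg y hy
    interval_cases i
    · simp only [zero_add, one_ne_zero, if_false, if_true] at hy
      simp only [if_true]
      obtain ⟨z, hz, rfl⟩ := hy
      rw [Subgroup.mem_bot, commutatorElement_eq_one_iff_commute]
      exact congrArg Subtype.val (Subgroup.mem_center_iff.1 hz ⟨g, hg⟩)
    · simp only [one_ne_zero, if_false, if_true]
      simp only [Nat.reduceAdd, OfNat.ofNat_ne_zero, OfNat.ofNat_ne_one, if_false] at hy
      exact ⟨⁅(⟨g, hg⟩ : ↥S), ⟨y, hy⟩⁆, hcomm _ _, rfl⟩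

end Cfsg.Agent.S5214
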