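import Cfsg.Statements.S5215
import Cfsg.Agent.Lib.TwoFusion.SimpleRankTwo
import Cfsg.Agent.S5216

set_option autoImplicit false
set_option linter.style.haveILetI false
open Cfsg

namespace Cfsg.Agent.S5215

open Cfsg.Lib.TwoFusion

/-- Let S be a finite 2-group of 2-rank 2 (an elementary abelian subgroup of order 4, none of order 8) and F a simple saturated fusion system over S. Then S is dihedral, semidihedral or wreathed, and F is the fusion system of the projective special linear group PSL₂(q) for some odd prime power q ≡ ±1 (mod 8) or of PSL₃(q) for some odd prime power q: it is realized by an injective homomorphism of S into that group whose image is a Sylow 2-subgroup. -/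
theorem result {Ω : Type*} [Group Ω] {S : Subgroup Ω} [Finite S] (hS : IsPGroup 2 S) (F : Cfsg.FusionSystem S) (hF : F.IsSaturated 2) (hr : Cfsg.PRankAtLeast 2 2 ↥S ∧ ¬ Cfsg.PRankAtLeast 2 3 ↥S) (hsimple : F.IsSimple 2) : ((∃ m : ℕ, Nonempty (↥S ≃* DihedralGroup m)) ∨ Cfsg.IsQuasiDihedral ↥S ∨ Cfsg.IsWreathed ↥S) ∧ ∃ (K : Type) (_ : Field K) (_ : Fintype K) (q : ℕ), Fintype.card K = q ∧ Odd q ∧ (((q % 8 = 1 ∨ q % 8 = 7) ∧ ∃ ι : ↥S →* Matrix.ProjectiveSpecialLinearGroup (Fin 2) K, F.IsRealizedBy ι ∧ ∃ T : Sylow 2 (Matrix.ProjectiveSpecialLinearGroup (Fin 2) K), (T : Subgroup (Matrix.ProjectiveSpecialLinearGroup (Fin 2) K)) = ι.range) ∨ (∃ ι : ↥S →* Matrix.ProjectiveSpecialLinearGroup (Fin 3) K, F.IsRealizedBy ι ∧ ∃ T : Sylow 2 (Matrix.ProjectiveSpecialLinearGroup (Fin 3) K), (T : Subgroup (Matrix.ProjectiveSpecialLinearGroup (Fin 3) K)) = ι.range)) := by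
  haveI : Fact (Nat.Prime 2) := ⟨Nat.prime_two⟩
  have h4 : 4 ≤ Nat.card S := by
    obtain ⟨A, -, -, hA⟩ := hr.1
    exact (le_trans (by norm_num) hA).trans (Subgroup.card_le_card_group A)
  have hnn := SimpleRankTwo.not_isNormal hS hsimple h4
  have hnab : ¬ ∀ x ∈ S, ∀ y ∈ S, x * y = y * x := fun h =>
    hnn (Cfsg.Lib.FusionSys.isNormal_self_of_abelian hS hF h)
  letI : Fintype (GaloisField 2 4) := Fintype.ofFinite _
  have hK : Fintype.card (GaloisField 2 4) = 16 := by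
    rw [← Nat.card_eq_fintype_card, GaloisField.card 2 4 (by norm_num)]
    norm_num
  rcases Cfsg.Agent.S5213.result hS F hF hr (SimpleRankTwo.center_eq_bot hS hsimple h4) hK with
    ⟨m, ⟨e⟩⟩ | h | h | ⟨n, k, ⟨e⟩⟩ | ⟨T, ⟨e⟩⟩
  · refine ⟨Or.inl ⟨m, ⟨e⟩⟩, ?_⟩
    obtain ⟨N, hN⟩ := IsPGroup.iff_card.1 hS
    rw [Nat.card_congr e.toEquiv, DihedralGroup.nat_card] at h4 hN
    have hm : 4 ≤ m := by
      by_contra hlt
      obtain rfl | rfl : m = 2 ∨ m = 3 := by omega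
      · exact hnab fun x hx y hy => congrArg Subtype.val
          (show (⟨x, hx⟩ : S) * ⟨y, hy⟩ = ⟨y, hy⟩ * ⟨x, hx⟩ from e.injective (by
            rw [map_mul, map_mul]; generalize e _ = a, e _ = b; revert a b; decide))
      · have h3 : (3 : ℕ) ∣ 2 ^ N := ⟨2, by omega⟩
        exact absurd (Nat.prime_three.dvd_of_dvd_pow h3) (by norm_num)
    have h4' : 4 ≤ Nat.card S := by rw [Nat.card_congr e.toEquiv, DihedralGroup.nat_card]; omega
    have hreal := (Cfsg.Agent.S5248.result hS F hF (Or.inl ⟨m, hm, ⟨e⟩⟩)).2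
    obtain ⟨j, rfl, hj⟩ : ∃ j, m = 2 ^ j ∧ 2 ≤ j := by
      rcases N with _ | _ | _ | N
      · simp at hN
      · norm_num at hN; omega
      · norm_num at hN; omega
      · exact ⟨N + 2, by rw [pow_succ] at hN; omega, by omega⟩
    obtain ⟨q, _, hodd, h8, P, hG, ⟨f⟩⟩ := SimpleRankTwo.exists_psl_two hj
    obtain ⟨ι, hι, hT⟩ := SimpleRankTwo.realized_cm ((CM.ofDihedral j hj).map e.symm) hsimple h4'
      hreal P hG ((CM.ofDihedral j hj).map f.symm) rfl rfl rfl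
    exact ⟨ZMod q, inferInstance, inferInstance, q, ZMod.card q, hodd,
      Or.inl ⟨Or.inl h8, ι, hι, hT⟩⟩
  · refine ⟨Or.inr (Or.inl h), ?_⟩
    have hreal := (Cfsg.Agent.S5248.result hS F hF (Or.inr (Or.inr (Or.inl h)))).2
    obtain ⟨n, ⟨c⟩⟩ := Cfsg.Lib.TwoGroup.exists_sd h
    obtain ⟨q, _, hodd, P, hG, d, hn, hd, hd'⟩ := SimpleRankTwo.exists_psl_three_sd c.three_le
    obtain ⟨ι, hι, hT⟩ :=
      SimpleRankTwo.realized_cm (CM.ofSD c) hsimple h4 hreal P hG d hn hd hd'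
    exact ⟨ZMod q, inferInstance, inferInstance, q, ZMod.card q, hodd, Or.inr ⟨ι, hι, hT⟩⟩
  · refine ⟨Or.inr (Or.inr h), ?_⟩
    have hreal := (Cfsg.Agent.S5248.result hS F hF (Or.inr (Or.inr (Or.inr h)))).2
    obtain ⟨n, ⟨d⟩⟩ := Cfsg.Lib.TwoGroup.exists_w h
    obtain ⟨q, _, hodd, P, hG, ⟨d'⟩⟩ := SimpleRankTwo.exists_psl_three_w d.two_le
    obtain ⟨ι, hι, hT⟩ := SimpleRankTwo.realized_w d hsimple h4 hreal P hG d'
    exact ⟨ZMod q, inferInstance, inferInstance, q, ZMod.card q, hodd, Or.inr ⟨ι, hι, hT⟩⟩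
  · exact absurd (fun x hx y hy => congrArg Subtype.val
      (show (⟨x, hx⟩ : S) * ⟨y, hy⟩ = ⟨y, hy⟩ * ⟨x, hx⟩ from e.injective (by
        rw [map_mul, map_mul, mul_comm]))) hnab
  · exact absurd (Cfsg.Agent.S5216.normal_of_psu hS hF hK T e) hnn

end Cfsg.Agent.S5215
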