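import Cfsg.Statements.S5219
import Cfsg.Agent.Lib.FusionSys.CenterPowers

set_option autoImplicit false
open Cfsg

namespace Cfsg.Agent.S5219

/-- Let p be a prime, n a natural number, S a nontrivial finite p-group of nilpotence class at most n(p−1)+1, and F a saturated fusion system over S with no nontrivial normal subgroup (O_p(F) = 1). Then S has exponent dividing p^(n²(p−1)+n). -/
theorem result {Ω : Type*} [Group Ω] {S : Subgroup Ω} [Finite S] (p : ℕ) [Fact p.Prime] (hS : IsPGroup p S) (F : Cfsg.FusionSystem S) (hF : F.IsSaturated p) (n : ℕ) (hS1 : S ≠ ⊥) (hcl : Subgroup.lowerCentralSeries S (n * (p - 1) + 1) = ⊥) (hcore : F.core = ⊥) : Monoid.exponent ↥S ∣ p ^ (n ^ 2 * (p - 1) + n) := by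
  classical
  have hN := Cfsg.Lib.FusionSys.isNormal_centerPow n _ Ω S hS le_rfl hcl F hF
  have hbot : Cfsg.Lib.FusionSys.centerPow p n S = ⊥ := le_bot_iff.1 ((le_sSup (s := {Q : Subgroup Ω | F.IsNormal Q}) hN).trans hcore.le)
  have hz : ∀ x : S, x ∈ Subgroup.center S → x ^ p ^ n = 1 := by
    intro x hx
    refine Subtype.ext (Subgroup.mem_bot.1 (hbot.le (Subgroup.subset_closure ⟨x, ⟨x.2,
      Subgroup.mem_centralizer_iff.2 fun t ht => ?_⟩, rfl⟩)))
    exact congrArg Subtype.val (Subgroup.mem_center_iff.1 hx ⟨t, ht⟩)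
  have hstep : ∀ (i : ℕ) (x : S), x ∈ Subgroup.upperCentralSeries S (i + 1) →
      x ^ p ^ n ∈ Subgroup.upperCentralSeries S i := by
    intro i
    induction i with
    | zero =>
      intro x hx
      rw [Subgroup.upperCentralSeries_one] at hx
      rw [Subgroup.upperCentralSeries_zero, Subgroup.mem_bot]
      exact hz x hx
    | succ i ih =>
      intro x hx
      rw [Subgroup.mem_upperCentralSeries_succ_iff] at hx ⊢
      intro y
      have hcom := (Subgroup.mem_upperCentralSeries_succ_iff.1 (hx y)) x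
      have hN := ih _ (hx y)
      set θ := QuotientGroup.mk' (Subgroup.upperCentralSeries S i)
      have h0 : ∀ z : S, θ z = 1 ↔ z ∈ Subgroup.upperCentralSeries S i := fun z =>
        QuotientGroup.eq_one_iff z
      rw [← h0] at hcom hN ⊢
      simp only [commutatorElement_def, map_mul, map_inv, map_pow] at hcom hN ⊢
      set a := θ x * θ y * (θ x)⁻¹ * (θ y)⁻¹ with ha
      have hc : Commute a (θ x) := commutatorElement_eq_one_iff_mul_comm.1 hcom
      have h1 : θ y * (θ x)⁻¹ * (θ y)⁻¹ = (θ x)⁻¹ * a := by rw [ha]; group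
      have h2 : θ y * ((θ x) ^ p ^ n)⁻¹ * (θ y)⁻¹ = ((θ x) ^ p ^ n)⁻¹ := by
        rw [← inv_pow, ← conj_pow, h1, hc.symm.inv_left.mul_pow, hN, mul_one]
      rw [mul_assoc (θ x ^ p ^ n), mul_assoc (θ x ^ p ^ n), h2, mul_inv_cancel]
  have hall : ∀ (i : ℕ) (x : S), x ∈ Subgroup.upperCentralSeries S i → x ^ p ^ (n * i) = 1 := by
    intro i
    induction i with
    | zero =>
      intro x hx
      rw [Subgroup.upperCentralSeries_zero, Subgroup.mem_bot] at hx
      rw [hx, one_pow]
    | succ i ih =>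
      intro x hx
      rw [mul_add, mul_one, add_comm, pow_add, pow_mul]
      exact ih _ (hstep i x hx)
  have htop : Subgroup.upperCentralSeries S (n * (p - 1) + 1) = ⊤ := by
    rw [← Subgroup.lowerCentralSeries_eq_bot_iff_upperCentralSeries_eq_top]
    refine Subgroup.map_injective S.subtype_injective ?_
    rw [Subgroup.map_lowerCentralSeries, ← MonoidHom.range_eq_map, Subgroup.range_subtype, hcl,
      Subgroup.map_bot]
  have hexp : n ^ 2 * (p - 1) + n = n * (n * (p - 1) + 1) := by ring
  rw [hexp]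
  exact Monoid.exponent_dvd_of_forall_pow_eq_one fun x => hall _ x (htop.ge (Subgroup.mem_top x))

end Cfsg.Agent.S5219
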