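import Cfsg.Statements.S5221
import Cfsg.Agent.Lib.FusionSys.NilpotentTwo

set_option autoImplicit false
open Cfsg

namespace Cfsg.Agent.S5221

/-- Let F be a sparse fusion system over a finite p-group S: a saturated fusion system, not the inner fusion system of S, whose only saturated fusion systems over S contained in it are F itself and the inner one. If p is odd, or F is S₄-free (the symmetric group of degree 4 is not involved in any model of the normalizer system of a fully normalized F-centric subgroup), then F is constrained. -/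
theorem result {Ω : Type*} [Group Ω] {S : Subgroup Ω} [Finite S] (p : ℕ) [Fact p.Prime] (hS : IsPGroup p S) (F : Cfsg.FusionSystem S) (hF : F.IsSaturated p) (hsp : ¬ (∀ P : Subgroup Ω, F.Hom P = (Cfsg.innerFusionSystem S).Hom P) ∧ ∀ E : Cfsg.FusionSystem S, E.IsSaturated p → E.IsSubsystemOf F → (∀ P : Subgroup Ω, E.Hom P = F.Hom P) ∨ (∀ P : Subgroup Ω, E.Hom P = (Cfsg.innerFusionSystem S).Hom P)) (hp : p ≠ 2 ∨ F.IsSectionFree p (Equiv.Perm (Fin 4))) : F.IsConstrained p := by
  obtain ⟨hne, hmin⟩ := hsp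
  have hni : ¬ F ≤ Cfsg.innerFusionSystem S := fun h =>
    hne fun P => Set.Subset.antisymm (h P) (Cfsg.Lib.FusionSys.innerFusionSystem_le F P)
  obtain ⟨Q, hQS, hQn, -, hnil, hc⟩ := Cfsg.Lib.FusionSys.exists_constrained_nonNil' hS hF hp hni
  obtain ⟨E, hE, hEs, hEF, hEQ, -⟩ :=
    Cfsg.Lib.FusionSys.exists_normalizerPart.{_, 0} (F := F) hS hF hQS hQn
  have hEF' : F = E := by
    refine Cfsg.Lib.FusionSys.fusionSystem_ext fun P => ?_
    rcases hmin E hEs hEF with h | h
    · exact (h P).symm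
    · exact absurd (fun Q φ hφ => (h Q).le hφ)
        (Cfsg.Lib.FusionSys.not_le_inner_of_nonNilAt hS hE hnil)
  subst hEF'
  refine ⟨hF, Q, hEQ, hQS, ?_⟩
  rintro R ⟨φ, hφ, rfl⟩
  rw [Cfsg.Lib.FusionSys.range_eq_of_card_le hφ hQS
    (fun y => Cfsg.Lib.FusionSys.stronglyClosed_apply_mem
      (Cfsg.Lib.FusionSys.isNormal_stronglyClosed hEQ) hφ y.2) le_rfl]
  exact hc

end Cfsg.Agent.S5221
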