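import Cfsg.Statements.S5222
import Cfsg.Agent.Lib.FusionSys.KNormalizer
import Cfsg.Agent.Lib.FusionSys.ModClosed

set_option autoImplicit false
open scoped commutatorElement
open Cfsg

namespace Cfsg.Agent.S5222

/-- Let F be a saturated fusion system over a finite p-group S whose normalizer fusion system of S is the inner fusion system of S (Aut_F(S) is a p-group). Then for every subgroup Q of S with [S, S] ≤ Q ≤ Φ(S), the normalizer fusion system of Q in F is the inner fusion system of N_S(Q) = S. -/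
theorem result {Ω : Type*} [Group Ω] {S : Subgroup Ω} [Finite S] (p : ℕ) [Fact p.Prime] (hS : IsPGroup p S) (F : Cfsg.FusionSystem S) (hF : F.IsSaturated p) (hN : ∀ N : Cfsg.FusionSystem (Cfsg.FusionSystem.normalizerIn S S), F.IsNormalizerSystem S N → ∀ P : Subgroup Ω, N.Hom P = (Cfsg.innerFusionSystem (Cfsg.FusionSystem.normalizerIn S S)).Hom P) (Q : Subgroup Ω) (h1 : (commutator ↥S).map S.subtype ≤ Q) (h2 : Q ≤ (frattini ↥S).map S.subtype) : ∀ N : Cfsg.FusionSystem (Cfsg.FusionSystem.normalizerIn S Q), F.IsNormalizerSystem Q N → ∀ P : Subgroup Ω, N.Hom P = (Cfsg.innerFusionSystem (Cfsg.FusionSystem.normalizerIn S Q)).Hom P := by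
  intro N hN P
  have hA := Cfsg.Lib.FusionSys.isPGroup_autGroup_of_normalizer_inner hS ‹_›
  rw [Cfsg.Lib.FusionSys.map_commutator_self] at h1
  have hQS : Q ≤ S := h2.trans (Subgroup.map_subtype_le _)
  have hconj : ∀ g ∈ S, ∀ x ∈ Q, g * x * g⁻¹ ∈ Q := by
    intro g hg x hx
    have h := Q.mul_mem (h1 (Subgroup.commutator_mem_commutator hg (hQS hx))) hx
    rw [commutatorElement_def, inv_mul_cancel_right] at h
    exact h
  have hnorm : FusionSystem.normalizerIn S Q = S := by
    refine le_antisymm (Cfsg.Lib.FusionSys.normalizerIn_le Q) fun g hg => ⟨hg, ?_⟩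
    show g ∈ Subgroup.normalizer (Q : Set Ω)
    rw [Subgroup.mem_normalizer_iff]
    refine fun x => ⟨fun hx => hconj g hg x hx, fun hx => ?_⟩
    have h := hconj g⁻¹ (S.inv_mem hg) _ hx
    simpa [mul_assoc] using h
  have hQn : F.IsFullyNormalized Q := by
    refine ⟨hQS, fun R _ => ?_⟩
    rw [hnorm]
    exact Cfsg.Lib.FusionSys.card_le_of_le (Cfsg.Lib.FusionSys.normalizerIn_le R)
  have hsat := Cfsg.Lib.FusionSys.isSaturated_normalizerSystem hS hF hQn hN
  obtain ⟨E, hE⟩ := Cfsg.Lib.FusionSys.exists_copy hnorm N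
  have hEsat : E.IsSaturated p :=
    Cfsg.Lib.FusionSys.isSaturated_copy hnorm.symm hE hsat
  have hEA : IsPGroup p (E.autGroup S) := by
    refine hA.to_le fun α hα => ?_
    have h := (Cfsg.Lib.FusionSys.mem_autGroup le_rfl).1 hα
    have h' : _ ∈ E.Hom S := h
    rw [hE, hN] at h'
    exact (Cfsg.Lib.FusionSys.mem_autGroup le_rfl).2 h'.1
  have hclosed : E.StronglyClosed Q := by
    refine ⟨hQS, fun R hR φ hφ x => ?_⟩
    rw [hE, hN] at hφ
    obtain ⟨-, -, -, ψ, -, hψe, hψQ⟩ := hφ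
    rw [← hψe]
    exact hψQ.le ⟨_, hR x.2, rfl⟩
  have h := Cfsg.Lib.FusionSys.hom_eq_inner_of_stronglyClosed hS hEsat hEA hclosed h1 h2 P
  rw [hE] at h
  rw [h, hnorm]

end Cfsg.Agent.S5222
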