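import Cfsg.Statements.S5223
import Cfsg.Agent.Lib.FusionSys.Tate

set_option autoImplicit false
open Cfsg

namespace Cfsg.Agent.S5223

/-- Let F be a saturated fusion system over a finite p-group S. Suppose there are subgroups Q₀ = S, Q₁, …, Qₙ = 1 (not required to be nested) such that for each i < n the focal subgroup of Qᵢ (generated by the elements x⁻¹φ(x), x ∈ Qᵢ, φ a map of F defined on the cyclic group generated by x) lies in Qᵢ₊₁. Then F is the inner fusion system of S. -/
theorem result {Ω : Type*} [Group Ω] {S : Subgroup Ω} [Finite S] (p : ℕ) [Fact p.Prime] (hS : IsPGroup p S) (F : Cfsg.FusionSystem S) (hF : F.IsSaturated p) (n : ℕ) (Q : Fin (n + 1) → Subgroup Ω) (hQ0 : Q 0 = S) (hQn : Q (Fin.last n) = ⊥) (hstep : ∀ i : Fin n, Subgroup.closure {y : Ω | ∃ x ∈ Q i.castSucc, ∃ φ ∈ F.Hom (Subgroup.zpowers x), y = x⁻¹ * φ ⟨x, Subgroup.mem_zpowers x⟩} ≤ Q i.succ) : ∀ P : Subgroup Ω, F.Hom P = (Cfsg.innerFusionSystem S).Hom P := by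
  intro P
  refine Cfsg.Lib.FusionSys.hom_eq_inner_of_hyperfocal hS hF ?_ P
  rw [eq_bot_iff]
  refine Cfsg.Lib.FusionSys.hyperfocal_le_of_coprime fun U hU α hα hcop x => ?_
  have hi := (Cfsg.Lib.FusionSys.mem_autGroup hU).1 hα
  have key : ∀ (k : ℕ) (i : Fin (n + 1)), (i : ℕ) + k = n →
      ∀ y : U, (y : Ω) ∈ Q i → α y = y := by
    intro k
    induction k with
    | zero =>
      intro i hi' y hy
      have hlast : i = Fin.last n := Fin.ext (by simpa using hi')
      rw [hlast, hQn, Subgroup.mem_bot] at hy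
      rw [show y = 1 from Subtype.ext hy, map_one]
    | succ k ih =>
      intro i hi' y hy
      have hin : (i : ℕ) < n := by omega
      have hy' : (y : Ω)⁻¹ * (α y : Ω) ∈ Q (⟨i, hin⟩ : Fin n).succ := by
        refine hstep ⟨i, hin⟩ (Subgroup.subset_closure ⟨y, ?_, _,
          Cfsg.Lib.FusionSys.restrict_mem hi (Subgroup.zpowers_le.2 y.2), rfl⟩)
        exact hy
      have hfix : α (y⁻¹ * α y) = y⁻¹ * α y :=
        ih (⟨i, hin⟩ : Fin n).succ (by simp; omega) _ hy'
      have hpow : ∀ j : ℕ, (α ^ j) y = y * (y⁻¹ * α y) ^ j := by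
        intro j
        induction j with
        | zero => simp
        | succ j ihj =>
          rw [pow_succ', MulAut.mul_apply, ihj, map_mul, map_pow, hfix, pow_succ' (y⁻¹ * α y),
            ← mul_assoc, mul_inv_cancel_left]
      have h1 := hpow (orderOf α)
      rw [pow_orderOf_eq_one, MulAut.one_apply, left_eq_mul] at h1
      obtain ⟨j, hj⟩ := (hS.to_le hU) (y⁻¹ * α y)
      have h2 := pow_gcd_eq_one.2 ⟨h1, hj⟩
      rw [Nat.Coprime.pow_right j hcop, pow_one, inv_mul_eq_one] at h2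
      exact h2.symm
  have h := key n 0 (by simp) x (hQ0 ▸ hU x.2)
  rw [h]
  simp

end Cfsg.Agent.S5223
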