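import Cfsg.Statements.S5224
import Cfsg.Agent.Lib.FusionSys.Tate
import Cfsg.Agent.Lib.FusionSys.Focal

set_option autoImplicit false
open Cfsg

namespace Cfsg.Agent.S5224

/-- Tate's Theorem for fusion systems. Let F be a saturated fusion system over a finite p-group S and H a saturated fusion system over S contained in F. Then the following are equivalent: the elementary focal subgroups Φ(S)·foc agree for F and H; the focal subgroups of F and H agree; the hyperfocal subgroups of F and H agree. -/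
theorem result {Ω : Type*} [Group Ω] {S : Subgroup Ω} [Finite S] (p : ℕ) [Fact p.Prime] (hS : IsPGroup p S) (F : Cfsg.FusionSystem S) (hF : F.IsSaturated p) (H : Cfsg.FusionSystem S) (hH : H.IsSaturated p) (hHF : H.IsSubsystemOf F) : (((frattini ↥S).map S.subtype ⊔ F.focalSubgroup) = ((frattini ↥S).map S.subtype ⊔ H.focalSubgroup) ↔ F.focalSubgroup = H.focalSubgroup) ∧ (F.focalSubgroup = H.focalSubgroup ↔ F.hyperfocalSubgroup p = H.hyperfocalSubgroup p) := by
  have hc : (commutator ↥S).map S.subtype ≤ (frattini ↥S).map S.subtype :=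
    Subgroup.map_mono (Cfsg.Lib.PGroup.commutator_le_frattini hS)
  rw [Cfsg.Lib.FusionSys.map_commutator_self] at hc
  have key : ∀ {A B : Subgroup Ω},
      (frattini ↥S).map S.subtype ⊔ (A ⊔ ⁅(S : Subgroup Ω), (S : Subgroup Ω)⁆) =
        (frattini ↥S).map S.subtype ⊔ (B ⊔ ⁅(S : Subgroup Ω), (S : Subgroup Ω)⁆) →
      A ≤ (frattini ↥S).map S.subtype ⊔ B := fun {A B} h => by
    calc A ≤ (frattini ↥S).map S.subtype ⊔ (A ⊔ ⁅(S : Subgroup Ω), (S : Subgroup Ω)⁆) :=
          le_sup_of_le_right le_sup_left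
      _ = (frattini ↥S).map S.subtype ⊔ (B ⊔ ⁅(S : Subgroup Ω), (S : Subgroup Ω)⁆) := h
      _ ≤ (frattini ↥S).map S.subtype ⊔ B :=
          sup_le le_sup_left (sup_le le_sup_right (hc.trans le_sup_left))
  rw [Cfsg.Lib.FusionSys.focal_eq_hyperfocal_sup hS hF,
    Cfsg.Lib.FusionSys.focal_eq_hyperfocal_sup hS hH]
  have hmain : (frattini ↥S).map S.subtype ⊔
      (F.hyperfocalSubgroup p ⊔ ⁅(S : Subgroup Ω), (S : Subgroup Ω)⁆) =
      (frattini ↥S).map S.subtype ⊔
        (H.hyperfocalSubgroup p ⊔ ⁅(S : Subgroup Ω), (S : Subgroup Ω)⁆) →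
      F.hyperfocalSubgroup p = H.hyperfocalSubgroup p := by
    intro h
    refine (Cfsg.Lib.FusionSys.hyperfocal_eq_of_le_frattini_sup hS hF hHF ?_).symm
    rw [← Subgroup.map_le_map_iff_of_injective S.subtype_injective, Subgroup.map_sup,
      Subgroup.map_subgroupOf_eq_of_le (Cfsg.Lib.FusionSys.hyperfocal_le F),
      Subgroup.map_subgroupOf_eq_of_le (Cfsg.Lib.FusionSys.hyperfocal_le H)]
    exact key h
  exact ⟨⟨fun h => by rw [hmain h], fun h => by rw [h]⟩,
    ⟨fun h => hmain (by rw [h]), fun h => by rw [h]⟩⟩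

end Cfsg.Agent.S5224
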