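import Cfsg.Statements.S5225
import Cfsg.Agent.Lib.FusionSys.YoshidaTransfer
import Cfsg.Agent.Lib.FusionSys.CentralPart
import Cfsg.Agent.S5092
import Mathlib.LinearAlgebra.Dual.Lemmas

set_option autoImplicit false
open Cfsg

namespace Cfsg.Agent.S5225

open Cfsg.FusionSystem Cfsg.Lib.FusionSys

/-- Outside a subgroup over the Frattini subgroup some homomorphism onto `C_p` is nontrivial. -/
theorem exists_hom_zmod {G : Type*} [Group G] [Finite G] {p : ℕ} [Fact p.Prime] (hG : IsPGroup p G)
    {K : Subgroup G} [K.Normal] (hK : frattini G ≤ K) {x : G} (hx : x ∉ K) :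
    ∃ f : G →* Multiplicative (ZMod p), K ≤ f.ker ∧ f x ≠ 1 := by
  haveI hc : IsMulCommutative (G ⧸ K) := Subgroup.Normal.quotient_commutative_iff_commutator_le.2
    ((Cfsg.Lib.PGroup.commutator_le_frattini hG).trans hK)
  letI : CommGroup (G ⧸ K) := { mul_comm := hc.1.1 }
  have hexp : ∀ a : Additive (G ⧸ K), (p : ℕ) • a = 0 := fun a => by
    induction a using Additive.rec with
    | ofMul a =>
      obtain ⟨g, rfl⟩ := QuotientGroup.mk_surjective a
      rw [← ofMul_pow, ← QuotientGroup.mk_pow,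
        (QuotientGroup.eq_one_iff _).2 (hK (Cfsg.Lib.PGroup.pow_mem_frattini hG g)), ofMul_one]
  haveI : Module (ZMod p) (Additive (G ⧸ K)) := AddCommGroup.zmodModule hexp
  obtain ⟨φ, hφ⟩ : ∃ φ : Additive (G ⧸ K) →ₗ[ZMod p] ZMod p,
      φ (Additive.ofMul (x : G ⧸ K)) ≠ 0 := by
    by_contra hcon
    push Not at hcon
    exact hx ((QuotientGroup.eq_one_iff x).1
      (congrArg Additive.toMul ((Module.forall_dual_apply_eq_zero_iff (ZMod p) _).1 hcon)))
  let φ' : (G ⧸ K) →* Multiplicative (ZMod p) :=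
    { toFun := fun a => Multiplicative.ofAdd (φ (Additive.ofMul a))
      map_one' := by simp
      map_mul' := fun a b => by simp }
  refine ⟨φ'.comp (QuotientGroup.mk' K), fun k hk => MonoidHom.mem_ker.2 ?_, fun h => hφ ?_⟩
  · show φ' (k : G ⧸ K) = 1
    rw [(QuotientGroup.eq_one_iff k).2 hk, map_one]
  · exact congrArg Multiplicative.toAdd h

/-- Yoshida's Theorem for fusion systems. Let F be a saturated fusion system over a finite p-group S and N the normalizer fusion system of S in F. If the focal subgroups of F and N differ (N does not control transfer in F), then S has a quotient isomorphic to the wreath product C_p ≀ C_p (realised as a Sylow p-subgroup of the symmetric group of degree p²). -/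
theorem result {Ω : Type*} [Group Ω] {S : Subgroup Ω} [Finite S] (p : ℕ) [Fact p.Prime] (hS : IsPGroup p S) (F : Cfsg.FusionSystem S) (hF : F.IsSaturated p) (N : Cfsg.FusionSystem (Cfsg.FusionSystem.normalizerIn S S)) (hN : F.IsNormalizerSystem S N) (hne : N.focalSubgroup ≠ F.focalSubgroup) : ∃ (W : Sylow p (Equiv.Perm (Fin (p ^ 2)))) (f : ↥S →* ↥(W : Subgroup (Equiv.Perm (Fin (p ^ 2))))), Function.Surjective f := by
  classical
  by_contra hW
  obtain ⟨E, hE, hEs, hEF, -, -⟩ := exists_normalizerPart.{_, 0} (T := S) hS hF le_rfl S.le_normalizer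
  have hfocN : N.focalSubgroup = E.focalSubgroup := by
    have h : ∀ P, N.Hom P = E.Hom P := fun P => (hN P).trans (hE P).symm
    simp only [FusionSystem.focalSubgroup, h]
  have h5092 := S5092.result p hS E hEs
  have hmem : ∀ (φ : S →* Ω), φ ∈ F.Hom S → φ ∈ E.Hom S := by
    intro φ hφ
    rw [hE]
    have hNS : normalizerIn S S = S := inf_eq_left.2 S.le_normalizer
    have hle : S ⊔ S ≤ S := le_of_eq (sup_idem S)
    refine ⟨hφ, hNS.ge, fun x => hNS.ge (hom_mem hφ x), _, restrict_mem hφ hle, fun x => rfl, ?_⟩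
    refine range_restrict_eq le_rfl (restrict_mem hφ hle) le_sup_left fun x hx => hom_mem hφ _
  have key : (F.hyperfocalSubgroup p).subgroupOf S ≤
      frattini S ⊔ (E.hyperfocalSubgroup p).subgroupOf S := by
    intro x hx
    by_contra hx'
    haveI : ((E.hyperfocalSubgroup p).subgroupOf S).Normal := hyperfocal_subgroupOf_normal
    obtain ⟨f, hfK, hfx⟩ := exists_hom_zmod hS le_sup_left hx'
    have hf : ∀ y ∈ E.focalSubgroup, ∀ hy : y ∈ S, f ⟨y, hy⟩ = 1 := by
      have hle : E.focalSubgroup ≤ f.ker.map S.subtype := by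
        rw [h5092]
        refine sup_le (fun y hy => ⟨⟨y, hyperfocal_le E hy⟩, hfK (Subgroup.mem_sup_right hy), rfl⟩) ?_
        rw [← Subgroup.map_subtype_commutator]
        exact Subgroup.map_mono (((Cfsg.Lib.PGroup.commutator_le_frattini hS).trans le_sup_left).trans hfK)
      intro y hy hyS
      obtain ⟨z, hz, he⟩ := hle hy
      rw [show (⟨y, hyS⟩ : S) = z from Subtype.ext he.symm]
      exact hz
    have hst := Yoshida.stable_of_aut_stable hS hF hW f fun φ hφ y => by
      have hd : (y : Ω)⁻¹ * φ y ∈ E.focalSubgroup :=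
        Subgroup.subset_closure ⟨S, φ, y, hmem φ hφ, rfl⟩
      have h1 := hf _ hd (S.mul_mem (S.inv_mem y.2) (hom_mem hφ y))
      rw [show (⟨_, S.mul_mem (S.inv_mem y.2) (hom_mem hφ y)⟩ : S) =
        y⁻¹ * ⟨φ y, hom_mem hφ y⟩ from rfl, map_mul, map_inv, inv_mul_eq_one] at h1
      exact h1.symm
    have hfoc : F.focalSubgroup ≤ f.ker.map S.subtype := by
      refine (Subgroup.closure_le _).2 ?_
      rintro _ ⟨P, φ, y, hφ, rfl⟩
      refine ⟨(⟨y, hom_le hφ y.2⟩ : S)⁻¹ * ⟨φ y, hom_mem hφ y⟩, ?_, rfl⟩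
      show f _ = 1
      rw [map_mul, map_inv, hst P φ hφ y, inv_mul_cancel]
    obtain ⟨z, hz, he⟩ := hfoc (Cfsg.Lib.FusionSys.hyperfocal_le_focal (p := p) F hx)
    exact hfx ((Subtype.ext he : z = x) ▸ hz)
  have heq := hyperfocal_eq_of_le_frattini_sup hS hF (H := E) hEF key
  exact hne (hfocN.trans (by rw [h5092, S5092.result p hS F hF, heq]))

end Cfsg.Agent.S5225
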