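import Cfsg.Statements.S5226
import Cfsg.Agent.Lib.FusionSys.WeaklyClosedSeries

set_option autoImplicit false
open Cfsg
open scoped commutatorElement

namespace Cfsg.Agent.S5226

/-- Let F be a saturated fusion system over a finite p-group S and Q a subgroup of S. Then Q is normal in F (F equals the normalizer system of Q) if and only if Q is strongly closed in F and admits a central series 1 = Q₀ ≤ Q₁ ≤ ⋯ ≤ Qₙ = Q ([Qᵢ₊₁, Q] ≤ Qᵢ) all of whose proper terms are weakly closed in F. -/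
theorem result {Ω : Type*} [Group Ω] {S : Subgroup Ω} [Finite S] (p : ℕ) [Fact p.Prime] (hS : IsPGroup p S) (F : Cfsg.FusionSystem S) (hF : F.IsSaturated p) (Q : Subgroup Ω) : F.IsNormal Q ↔ F.StronglyClosed Q ∧ ∃ (n : ℕ) (C : Fin (n + 1) → Subgroup Ω), C 0 = ⊥ ∧ C (Fin.last n) = Q ∧ Monotone C ∧ (∀ i : Fin n, ⁅C i.succ, Q⁆ ≤ C i.castSucc) ∧ ∀ i : Fin n, F.WeaklyClosed (C i.castSucc) := by
  constructor
  · intro hN
    obtain ⟨W, m, hW0, hWm, hWmono, hWchar, hWc⟩ :=
      Lib.FusionSys.exists_series_of_nilpotent hS hN.1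
    have hWs : ∀ i, F.StronglyClosed (W i) := fun i => Lib.FusionSys.isNormal_stronglyClosed
      (Lib.FusionSys.isNormal_of_characteristic hN (hWchar i).1 (hWchar i).2)
    refine ⟨Lib.FusionSys.isNormal_stronglyClosed hN, m, fun i => W i, hW0, hWm,
      fun i j hij => hWmono hij, fun i => ?_, fun i => ?_⟩
    · refine Subgroup.commutator_le.2 fun x hx g hg => ?_
      rw [← commutatorElement_inv g x]
      exact (W i).inv_mem (hWc i g hg x hx)
    · refine ⟨(hWs i).1, fun φ hφ => ?_⟩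
      haveI := Lib.FusionSys.finite_of_le (hWs i).1
      exact Lib.FusionSys.range_eq_of_card_le hφ (hWs i).1
        (fun x => (hWs i).2 _ le_rfl φ hφ x) le_rfl
  · rintro ⟨hQ, n, C, hC0, hCn, hCmono, hCc, hCw⟩
    let Z : ℕ → Subgroup Ω := fun i => C ⟨min i n, by omega⟩
    have h0 : Z 0 = ⊥ := by
      show C ⟨min 0 n, _⟩ = ⊥
      rw [← hC0]
      exact congrArg C (Fin.ext (by simp))
    have hn : Z n = Q := by
      show C ⟨min n n, _⟩ = Q
      rw [← hCn]
      exact congrArg C (Fin.ext (by simp))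
    have hcast : ∀ (i : ℕ) (hi : i < n),
        Z i = C (⟨i, hi⟩ : Fin n).castSucc ∧ Z (i + 1) = C (⟨i, hi⟩ : Fin n).succ := fun i hi =>
      ⟨congrArg C (Fin.ext (by simp; omega)), congrArg C (Fin.ext (by simp; omega))⟩
    have hc : ∀ i, i < n → ∀ g ∈ Q, ∀ y ∈ Z (i + 1), ⁅g, y⁆ ∈ Z i := by
      intro i hi g hg y hy
      rw [(hcast i hi).1, ← commutatorElement_inv y g]
      rw [(hcast i hi).2] at hy
      exact (C _).inv_mem (hCc ⟨i, hi⟩ (Subgroup.commutator_mem_commutator hy hg))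
    have hmono : Monotone Z := fun i j hij => hCmono (show min i n ≤ min j n by omega)
    exact Lib.FusionSys.isNormal_of_series hS hF Z n h0 hn
      (Lib.FusionSys.stronglyClosed_of_weak_series hS hF hQ Z n h0 hn hmono hc
        fun i hi => (hcast i hi).1 ▸ hCw ⟨i, hi⟩) hc

end Cfsg.Agent.S5226
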