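import Cfsg.Statements.S5234
import Cfsg.Agent.Lib.FusionSys.OmegaSeries

set_option autoImplicit false
open Cfsg

namespace Cfsg.Agent.S5234

/-- Let p be an odd prime, F a saturated fusion system over a finite p-group S and P a metacyclic subgroup of S strongly closed in F. Then P is normal in F. -/
theorem result {Ω : Type*} [Group Ω] {S : Subgroup Ω} [Finite S] (p : ℕ) [Fact p.Prime] (hS : IsPGroup p S) (F : Cfsg.FusionSystem S) (hF : F.IsSaturated p) (P : Subgroup Ω) (hP : F.StronglyClosed P) (hp : p ≠ 2) (hm : Cfsg.IsMetacyclic ↥P) : F.IsNormal P := by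
  haveI := Lib.FusionSys.finite_of_le hP.1
  obtain ⟨E, hE, hEc, hcard⟩ :=
    Lib.PGroup.exists_omega_of_metacyclic hp (hS.to_le hP.1) hm
  refine Lib.FusionSys.isNormal_of_omega_small hp hS hF hP (E := E.map P.subtype) ?_ ?_ ?_
  · intro x
    constructor
    · rintro ⟨y, hy, rfl⟩
      refine ⟨y.2, ?_⟩
      rw [Subgroup.coe_subtype, ← SubmonoidClass.coe_pow, (hE y).1 hy, OneMemClass.coe_one]
    · rintro ⟨hx, hxp⟩
      exact ⟨⟨x, hx⟩, (hE _).2 (Subtype.ext hxp), rfl⟩
  · rintro _ ⟨a, ha, rfl⟩ _ ⟨b, hb, rfl⟩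
    exact congrArg Subtype.val (hEc a ha b hb)
  · rwa [← Nat.card_congr (E.equivMapOfInjective _ P.subtype_injective).toEquiv]

end Cfsg.Agent.S5234
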