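import Cfsg.Statements.S5236
import Cfsg.Agent.Lib.FusionSys.OmegaSeries

set_option autoImplicit false
open Cfsg
open scoped commutatorElement

namespace Cfsg.Agent.S5236

/-- Let p be an odd prime, F a saturated fusion system over a finite p-group S and P a subgroup of S strongly closed in F. Then P is normal in F if and only if Ω₁(P) (the subgroup generated by the elements of order p of P) has a chain of subgroups 1 = Q₀ ≤ Q₁ ≤ ⋯ ≤ Qₙ = Ω₁(P), each strongly closed in F, with [Qᵢ₊₁, P] ≤ Qᵢ for all i. -/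
theorem result {Ω : Type*} [Group Ω] {S : Subgroup Ω} [Finite S] (p : ℕ) [Fact p.Prime] (hS : IsPGroup p S) (F : Cfsg.FusionSystem S) (hF : F.IsSaturated p) (hp : p ≠ 2) (P : Subgroup Ω) (hP : F.StronglyClosed P) : F.IsNormal P ↔ ∃ (n : ℕ) (Q : Fin (n + 1) → Subgroup Ω), Q 0 = ⊥ ∧ Q (Fin.last n) = Cfsg.omegaOne p P ∧ Monotone Q ∧ (∀ i : Fin (n + 1), F.StronglyClosed (Q i)) ∧ ∀ i : Fin n, ⁅Q i.succ, P⁆ ≤ Q i.castSucc := by
  constructor
  · intro hN
    haveI := Lib.FusionSys.finite_of_le hP.1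
    obtain ⟨W, m, hW0, hWm, hWmono, hWchar, hWc⟩ :=
      Lib.FusionSys.exists_series_of_nilpotent hS hP.1
    have hOP : Cfsg.omegaOne p P ≤ P := (Subgroup.closure_le _).2 fun x hx => hx.1
    have hOchar : ((Cfsg.omegaOne p P).subgroupOf P).Characteristic := by
      refine Subgroup.characteristic_iff_le_comap.2 fun α y hy => ?_
      have key : ∀ z (hz : z ∈ Cfsg.omegaOne p P),
          ((α ⟨z, hOP hz⟩ : P) : Ω) ∈ Cfsg.omegaOne p P := by
        intro z hz
        induction hz using Subgroup.closure_induction with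
        | mem z hz =>
          refine Subgroup.subset_closure ⟨(α _).2, ?_⟩
          rw [← SubmonoidClass.coe_pow, ← map_pow, show (⟨z, hz.1⟩ : P) ^ p = 1 from Subtype.ext hz.2,
            map_one, OneMemClass.coe_one]
        | one =>
          rw [show (⟨1, hOP (one_mem _)⟩ : P) = 1 from rfl, map_one, OneMemClass.coe_one]
          exact one_mem _
        | mul a b ha hb iha ihb =>
          have h1 : (⟨a * b, hOP (mul_mem ha hb)⟩ : P) = ⟨a, hOP ha⟩ * ⟨b, hOP hb⟩ := rfl
          rw [h1, map_mul, Subgroup.coe_mul]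
          exact mul_mem iha ihb
        | inv a ha iha =>
          have h1 : (⟨a⁻¹, hOP (inv_mem ha)⟩ : P) = (⟨a, hOP ha⟩ : P)⁻¹ := rfl
          rw [h1, map_inv, Subgroup.coe_inv]
          exact inv_mem iha
      exact key y hy
    have hOs : F.StronglyClosed (Cfsg.omegaOne p P) := Lib.FusionSys.isNormal_stronglyClosed
      (Lib.FusionSys.isNormal_of_characteristic hN hOP hOchar)
    have hWs : ∀ i, F.StronglyClosed (W i) := fun i => Lib.FusionSys.isNormal_stronglyClosed
      (Lib.FusionSys.isNormal_of_characteristic hN (hWchar i).1 (hWchar i).2)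
    refine ⟨m, fun i => Cfsg.omegaOne p P ⊓ W i, by simp [hW0], ?_, ?_, ?_, ?_⟩
    · simp [hWm, hOP]
    · exact fun i j hij => inf_le_inf_left _ (hWmono hij)
    · refine fun i => ⟨inf_le_left.trans hOs.1, fun R hR φ hφ x =>
        ⟨hOs.2 R (hR.trans inf_le_left) φ hφ x, (hWs i).2 R (hR.trans inf_le_right) φ hφ x⟩⟩
    · intro i
      refine Subgroup.commutator_le.2 fun x hx g hg => ?_
      refine ⟨?_, ?_⟩
      · rw [commutatorElement_def, mul_assoc, mul_assoc]
        refine mul_mem hx.1 ?_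
        rw [← mul_assoc]
        exact Lib.FusionSys.stronglyClosed_conj_mem hOs (hP.1 hg) ((Cfsg.omegaOne p P).inv_mem hx.1)
      · rw [← commutatorElement_inv g x]
        exact (W i).inv_mem (hWc i g hg x hx.2)
  · rintro ⟨n, Q, hQ0, hQn, -, hQs, hQc⟩
    let Z : ℕ → Subgroup Ω := fun i => Q ⟨min i n, by omega⟩
    refine Lib.FusionSys.isNormal_of_omega_series hp hS hF hP Z n ?_ ?_ (fun i _ => hQs _) ?_
    · show Q ⟨min 0 n, _⟩ = ⊥
      rw [← hQ0]
      exact congrArg Q (Fin.ext (by simp))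
    · intro x hx hxp
      show x ∈ Q ⟨min n n, _⟩
      have h1 : (⟨min n n, by omega⟩ : Fin (n + 1)) = Fin.last n := Fin.ext (by simp)
      rw [h1, hQn]
      exact Subgroup.subset_closure ⟨hx, hxp⟩
    · intro i hi g hg y hy
      have h1 : (⟨min (i + 1) n, by omega⟩ : Fin (n + 1)) = (⟨i, hi⟩ : Fin n).succ :=
        Fin.ext (by simp; omega)
      have h2 : (⟨min i n, by omega⟩ : Fin (n + 1)) = (⟨i, hi⟩ : Fin n).castSucc :=
        Fin.ext (by simp; omega)
      show ⁅g, y⁆ ∈ Q ⟨min i n, _⟩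
      rw [h2, ← commutatorElement_inv y g]
      have hy' : y ∈ Q ⟨min (i + 1) n, by omega⟩ := hy
      rw [h1] at hy'
      exact inv_mem (hQc ⟨i, hi⟩ (Subgroup.commutator_mem_commutator hy' hg))

end Cfsg.Agent.S5236
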