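import Cfsg.Statements.S5238
import Cfsg.Agent.Lib.PGroup.MaximalClass
import Cfsg.Agent.S0112
import Cfsg.Agent.S4143
import Cfsg.Agent.Lib.FusionSys.Basic
-- import your own Cfsg.Agent.* helpers here

set_option autoImplicit false
open Cfsg

namespace Cfsg.Agent.S5238

/-- Let p be an odd prime and F a saturated fusion system over a finite p-group S having a pearl: an F-essential subgroup E that is elementary abelian of order p² or nonabelian of order p³. Then S has maximal nilpotency class (if S has order pⁿ with n ≥ 3, the term of index n − 2 of its lower central series, counting S itself as the term of index 0, is nontrivial), and every subgroup of S can be generated by at most p elements (the sectional rank of S is at most p). -/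
theorem result {Ω : Type*} [Group Ω] {S : Subgroup Ω} [Finite S] (p : ℕ) [Fact p.Prime] (hS : IsPGroup p S) (F : Cfsg.FusionSystem S) (hF : F.IsSaturated p) (hp : p ≠ 2) (E : Subgroup Ω) (hE : F.IsEssential p E) (hpearl : (Nat.card E = p ^ 2 ∧ ∀ x ∈ E, x ^ p = 1 ∧ IsMulCommutative ↥E) ∨ (Nat.card E = p ^ 3 ∧ ¬ IsMulCommutative ↥E)) : (∀ n : ℕ, Nat.card S = p ^ n → 3 ≤ n → Subgroup.lowerCentralSeries S (n - 2) ≠ ⊥) ∧ ∀ H : Subgroup Ω, H ≤ S → ∃ T : Finset Ω, T.card ≤ p ∧ Subgroup.closure (T : Set Ω) = H := by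
  classical
  have hpp := (Fact.out : p.Prime)
  obtain ⟨⟨hES, hcent⟩, -⟩ := hE
  have hES' : E ≤ S := hES
  have hCE : Cfsg.FusionSystem.centralizerIn S E ≤ E := hcent E (Cfsg.Lib.FusionSys.isConj_refl F hES')
  set E' := E.subgroupOf S with hE'
  have hcardE' : Nat.card E' = Nat.card E := Nat.card_congr (Subgroup.subgroupOfEquivOfLe hES').toEquiv
  have hCE' : Subgroup.centralizer (E' : Set S) ≤ E' := by
    intro x hx
    refine hCE (Cfsg.Lib.FusionSys.mem_centralizerIn.2 ⟨x.2, fun y hy => ?_⟩)
    exact (congrArg Subtype.val (Subgroup.mem_centralizer_iff.1 hx ⟨y, hES' hy⟩ hy)).symm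
  obtain ⟨n, hn⟩ := IsPGroup.iff_card.1 hS
  have hclass : Group.nilpotencyClass S = n - 1 := by
    rcases hpearl with ⟨hc, hab⟩ | ⟨hc, hna⟩
    · refine Cfsg.Agent.S0112.result n hn E' (hcardE'.trans hc) (le_antisymm hCE' ?_)
      intro x hx
      rw [Subgroup.mem_centralizer_iff]
      intro y hy
      haveI := (hab 1 E.one_mem).2
      exact Subtype.ext (congrArg Subtype.val
        (IsMulCommutative.is_comm.comm (⟨y, hy⟩ : E) ⟨x, hx⟩) :)
    · refine Cfsg.Agent.S4143.result n hn E' (hcardE'.trans hc) (fun hcm => hna ⟨⟨fun a b => ?_⟩⟩) hCE'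
      have := hcm.is_comm.comm (⟨⟨a, hES' a.2⟩, a.2⟩ : E') ⟨⟨b, hES' b.2⟩, b.2⟩
      exact Subtype.ext (congrArg (fun z : E' => ((z : S) : Ω)) this :)
  refine ⟨fun m hm h3 hbot => ?_, fun H hH => ?_⟩
  · obtain rfl : m = n := Nat.pow_right_injective hpp.two_le (hm.symm.trans hn)
    refine (Cfsg.Lib.PGroup.MaxClass.isMax_of_class (p := p) h3 hn hclass).below ?_
    rw [← Subgroup.map_eq_bot_iff_of_injective _ S.subtype_injective, Subgroup.top_subtype_lowerCentralSeries, hbot]
  · set H' := H.subgroupOf S with hH'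
    have hH'p : IsPGroup p H' := hS.to_subgroup H'
    have hidx : (frattini H').index ≤ p ^ p := by
      rcases Nat.lt_or_ge n 3 with hsmall | h3
      · refine (Nat.le_of_dvd Nat.card_pos (Subgroup.index_dvd_card _)).trans ?_
        refine (Nat.le_of_dvd Nat.card_pos H'.card_subgroup_dvd_card).trans ?_
        rw [hn]
        exact Nat.pow_le_pow_right hpp.pos (by have := hpp.two_le; omega)
      have hle : Subgroup.closure {y : S | ∃ a ∈ H', y = a ^ p} ≤ (frattini H').map H'.subtype := by
        refine (Subgroup.closure_le _).2 ?_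
        rintro _ ⟨a, ha, rfl⟩
        exact ⟨⟨a, ha⟩ ^ p, Cfsg.Lib.PGroup.pow_mem_frattini hH'p _, rfl⟩
      have h1 := Cfsg.Lib.PGroup.MaxClass.relIndex_pow_le
        (Cfsg.Lib.PGroup.MaxClass.isMax_of_class (p := p) h3 hn hclass) hp H'
      refine le_trans ?_ ((Subgroup.relIndex_le_of_le_left hle Subgroup.index_ne_zero_of_finite).trans h1)
      rw [Subgroup.relIndex, Subgroup.subgroupOf, Subgroup.comap_map_eq_self_of_injective H'.subtype_injective]
    obtain ⟨T, hT, hTtop⟩ := Cfsg.Lib.PGroup.MaxClass.exists_finset_closure hH'p hidx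
    refine ⟨T.image fun x : H' => ((x : S) : Ω), Finset.card_image_le.trans hT, ?_⟩
    rw [Finset.coe_image, show (fun x : H' => ((x : S) : Ω)) = ⇑(S.subtype.comp H'.subtype) from rfl,
      ← MonoidHom.map_closure, hTtop, ← Subgroup.map_map, ← MonoidHom.range_eq_map, Subgroup.range_subtype, hH',
      Subgroup.map_subgroupOf_eq_of_le hH]

end Cfsg.Agent.S5238
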