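import Cfsg.Statements.S5239
import Cfsg.Agent.S0112
import Cfsg.Agent.S4143
import Cfsg.Agent.Lib.FusionSys.Basic
import Cfsg.Agent.Lib.FusionSys.PearlThree
import Cfsg.Agent.Lib.FusionSys.SmallEssential

set_option autoImplicit false
open Cfsg

namespace Cfsg.Agent.S5239

/-- Let F be a saturated fusion system over a finite 3-group S having a pearl: an F-essential subgroup E that is elementary abelian of order 9 or nonabelian of order 27. Then either S is extraspecial of order 27 and exponent 3, or S has order at least 81 and every subgroup of S can be generated by at most two elements, or S is isomorphic to the wreath product C₃ ≀ C₃ (a Sylow 3-subgroup of the symmetric group of degree 9). -/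
theorem result {Ω : Type*} [Group Ω] {S : Subgroup Ω} [Finite S] (hS : IsPGroup 3 S) (F : Cfsg.FusionSystem S) (hF : F.IsSaturated 3) [Fact (Nat.Prime 3)] (E : Subgroup Ω) (hE : F.IsEssential 3 E) (hpearl : (Nat.card E = 9 ∧ ∀ x ∈ E, x ^ 3 = 1 ∧ IsMulCommutative ↥E) ∨ (Nat.card E = 27 ∧ ¬ IsMulCommutative ↥E)) : (Cfsg.IsExtraspecial 3 ↥S ∧ Nat.card S = 27 ∧ Monoid.exponent ↥S = 3) ∨ (81 ≤ Nat.card S ∧ ∀ H : Subgroup Ω, H ≤ S → ∃ T : Finset Ω, T.card ≤ 2 ∧ Subgroup.closure (T : Set Ω) = H) ∨ (∃ W : Sylow 3 (Equiv.Perm (Fin 9)), Nonempty (↥S ≃* ↥(W : Subgroup (Equiv.Perm (Fin 9))))) := by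
  classical
  have hE' := hE
  obtain ⟨⟨hES, hcent⟩, -⟩ := hE
  haveI := Cfsg.Lib.FusionSys.finite_of_le hES
  have hlt : E < S := (Cfsg.Lib.FusionSys.RankTwo.basic hS hF hE').1
  have hCE : Cfsg.FusionSystem.centralizerIn S E ≤ E := hcent E (Cfsg.Lib.FusionSys.isConj_refl F hES)
  set E₁ := E.subgroupOf S with hE₁
  have hcardE₁ : Nat.card E₁ = Nat.card E := Nat.card_congr (Subgroup.subgroupOfEquivOfLe hES).toEquiv
  have hCE₁ : Subgroup.centralizer (E₁ : Set S) ≤ E₁ := by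
    intro x hx
    refine hCE (Cfsg.Lib.FusionSys.mem_centralizerIn.2 ⟨x.2, fun y hy => ?_⟩)
    exact (congrArg Subtype.val (Subgroup.mem_centralizer_iff.1 hx ⟨y, hES hy⟩ hy)).symm
  obtain ⟨n, hn⟩ := IsPGroup.iff_card.1 hS
  have hltc : Nat.card E < 3 ^ n := by
    rw [← hn, ← hcardE₁, ← Subgroup.card_top (G := S)]
    refine Cfsg.Lib.Fusion.card_lt_card_of_lt (lt_top_iff_ne_top.2 fun htop => ?_)
    rw [hE₁, Subgroup.subgroupOf_eq_top] at htop
    exact lt_irrefl E (hlt.trans_le htop)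
  -- the ambient form of "two generators"
  have descend : (∀ H : Subgroup S, ∃ T : Finset S, T.card ≤ 2 ∧ Subgroup.closure (T : Set S) = H) →
      ∀ H : Subgroup Ω, H ≤ S → ∃ T : Finset Ω, T.card ≤ 2 ∧ Subgroup.closure (T : Set Ω) = H := by
    intro hall H hH
    obtain ⟨T, hT, hTH⟩ := hall (H.subgroupOf S)
    refine ⟨T.image fun x : S => (x : Ω), Finset.card_image_le.trans hT, ?_⟩
    rw [Finset.coe_image, show (fun x : S => (x : Ω)) = ⇑S.subtype from rfl, ← MonoidHom.map_closure, hTH,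
      Subgroup.map_subgroupOf_eq_of_le hH]
  have key : ∀ {n : ℕ}, Cfsg.Lib.PGroup.MaxClass.IsMax 3 S n → 4 ≤ n →
      (∃ x : S, x ^ 3 = 1 ∧ Nat.card (Subgroup.centralizer ({x} : Set S)) = 9) →
      (81 ≤ Nat.card S ∧ ∀ H : Subgroup Ω, H ≤ S → ∃ T : Finset Ω, T.card ≤ 2 ∧ Subgroup.closure (T : Set Ω) = H) ∨
        ∃ W : Sylow 3 (Equiv.Perm (Fin 9)), Nonempty (↥S ≃* ↥(W : Subgroup (Equiv.Perm (Fin 9)))) := by
    intro n hmax h4 ⟨x, hx3, hCx⟩
    rcases Cfsg.Lib.PGroup.PearlThree.two_gen_or_wreath hmax hx3 hCx h4 with h | h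
    · refine Or.inl ⟨?_, descend h⟩
      rw [hmax.card, show (81 : ℕ) = 3 ^ 4 from rfl]
      exact Nat.pow_le_pow_right (by norm_num) h4
    · exact Or.inr h
  rcases hpearl with ⟨hc, hab⟩ | ⟨hc, hna⟩
  · have hexp : ∀ v : E, v ^ 3 = 1 := fun v => Subtype.ext (by simpa using (hab v v.2).1)
    haveI := (hab 1 E.one_mem).2
    have hcomm : ∀ a ∈ E₁, ∀ b ∈ E₁, a * b = b * a := fun a ha b hb => Subtype.ext
      (congrArg Subtype.val (IsMulCommutative.is_comm.comm (⟨a, ha⟩ : E) ⟨b, hb⟩) :)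
    have h3 : 3 ≤ n := by
      rw [hc, show (9 : ℕ) = 3 ^ 2 from rfl] at hltc
      exact (Nat.pow_lt_pow_iff_right (by norm_num)).1 hltc
    rcases Nat.eq_or_lt_of_le h3 with h | h4
    · have hcS : Nat.card S = 27 := by rw [hn, ← h]; norm_num
      obtain ⟨h1, h2⟩ := Cfsg.Lib.FusionSys.PearlThree.extraspecial_of_card_27 hS hF hE' hc hexp hcS
      exact Or.inl ⟨h1, hcS, h2⟩
    · refine Or.inr (key (Cfsg.Lib.PGroup.MaxClass.isMax_of_class (p := 3) h3 hn
        (Cfsg.Agent.S0112.result n hn E₁ (hcardE₁.trans (by rw [hc]; norm_num)) (le_antisymm hCE₁ ?_))) h4 ?_)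
      · intro x hx
        exact Subgroup.mem_centralizer_iff.2 fun y hy => hcomm y hy x hx
      · exact Cfsg.Lib.FusionSys.PearlThree.exists_of_abelian hS (hcardE₁.trans hc) hcomm
          (fun a ha => Subtype.ext (by simpa using congrArg Subtype.val (hexp ⟨a, ha⟩))) hCE₁ (by
          rw [hn, show (9 : ℕ) = 3 ^ 2 from rfl]
          exact Nat.pow_lt_pow_right (by norm_num) (by omega))
  · have h4 : 4 ≤ n := by
      rw [hc, show (27 : ℕ) = 3 ^ 3 from rfl] at hltc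
      exact (Nat.pow_lt_pow_iff_right (by norm_num)).1 hltc
    have hexp : ∀ v ∈ E, v ^ 3 = 1 := by
      rcases Cfsg.Lib.FusionSys.RankTwo.card_cube hS hF hE' (by rw [hc]; norm_num) with h | h | h
      · exact absurd h.1 hna
      · exact h.2.2
      · exact absurd h.1 (by norm_num)
    have hna₁ : ¬ IsMulCommutative E₁ := fun hcm => hna ⟨⟨fun a b => Subtype.ext
      (congrArg (fun z : E₁ => ((z : S) : Ω))
        (hcm.is_comm.comm (⟨⟨a, hES a.2⟩, a.2⟩ : E₁) ⟨⟨b, hES b.2⟩, b.2⟩) :)⟩⟩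
    have hmax := Cfsg.Lib.PGroup.MaxClass.isMax_of_class (p := 3) (by omega : 3 ≤ n) hn
      (Cfsg.Agent.S4143.result n hn E₁ (hcardE₁.trans (by rw [hc]; norm_num)) hna₁ hCE₁)
    refine Or.inr (key hmax h4 (Cfsg.Lib.FusionSys.PearlThree.exists_of_nonabelian hmax h4
      (hcardE₁.trans hc) hna₁ (fun a ha => Subtype.ext (by simpa using hexp a ha)) hCE₁))

end Cfsg.Agent.S5239
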