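import Cfsg.Statements.S5240
import Cfsg.Agent.Lib.FusionSys.SectionFree

set_option autoImplicit false
open Cfsg

namespace Cfsg.Agent.S5240

/-- Let F be a saturated fusion system over a finite p-group S that is Qd(p)-free (Qd(p), the natural semidirect product of an elementary abelian group of order p² by SL₂(p), is not involved in any model of the normalizer system of a fully normalized centric subgroup), and let Q be a fully normalized subgroup of S. Then every normalizer fusion system of Q in F is Qd(p)-free. -/
theorem result {Ω : Type*} [Group Ω] {S : Subgroup Ω} [Finite S] (p : ℕ) [Fact p.Prime] (hS : IsPGroup p S) (F : Cfsg.FusionSystem S) (hF : F.IsSaturated p) (hfree : F.IsSectionFree p ↥(Cfsg.qd p)) (Q : Subgroup Ω) (hQ : F.IsFullyNormalized Q) (N : Cfsg.FusionSystem (Cfsg.FusionSystem.normalizerIn S Q)) (hN : F.IsNormalizerSystem Q N) : N.IsSectionFree p ↥(Cfsg.qd p) := by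
  exact Cfsg.Lib.FusionSys.isSectionFree_normalizerSystem hS hF hfree hQ hN

end Cfsg.Agent.S5240
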