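import Cfsg.Statements.S5244
import Cfsg.Agent.Lib.FusionSys.AbelianIndexEssential
import Cfsg.Agent.Lib.FusionSys.TransvectionPlane

set_option autoImplicit false
open Cfsg

namespace Cfsg.Agent.S5244


universe u

open Cfsg.FusionSystem Cfsg.Lib.FusionSys
open Cfsg.Lib.FusionSys.RankTwo (cA coe_cA basic map_center_eq)
open scoped commutatorElement

variable {Ω : Type u} [Group Ω] {S : Subgroup Ω} [Finite S] {p : ℕ} [hp : Fact p.Prime]
variable {F : FusionSystem S} {A P : Subgroup Ω}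

local notation "ZΩ" => S ⊓ Subgroup.centralizer (S : Set Ω)

/-- Squaring on a cyclic central part moves central elements within it. -/
theorem sq_part_mem {G : Type u} [Group G] {s c : G} (hc : c ∈ Subgroup.center G) (i : ℕ) :
    (s ^ i * c)⁻¹ * ((s ^ 2) ^ i * c) ∈ Subgroup.zpowers s := by
  rw [Subgroup.mem_center_iff.mp hc ((s ^ 2) ^ i), mul_inv_rev,
    show c⁻¹ * (s ^ i)⁻¹ * (c * (s ^ 2) ^ i) = c⁻¹ * ((s ^ i)⁻¹ * c) * (s ^ 2) ^ i by group,
    Subgroup.mem_center_iff.mp hc (s ^ i)⁻¹, inv_mul_cancel_left]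
  exact mul_mem (inv_mem (pow_mem (Subgroup.mem_zpowers s) i))
    (pow_mem (pow_mem (Subgroup.mem_zpowers s) 2) i)

/-- An automorphism of an essential subgroup preserving `Z(S)` agrees there with one of `S`. -/
theorem extend_center (hS : IsPGroup p S) (hF : F.IsSaturated p) (hPS : P ≤ S) {α : MulAut P}
    (hα : α ∈ F.autGroup P) (hZP : ZΩ ≤ P) (hinv : ∀ z : P, (z : Ω) ∈ ZΩ → ((α z : P) : Ω) ∈ ZΩ) :
    ∃ D ∈ F.autGroup S, ∀ (z : P) (hz : (z : Ω) ∈ ZΩ),
      ((D ⟨(z : Ω), hz.1⟩ : S) : Ω) = ((α z : P) : Ω) := by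
  have hZS : ZΩ ≤ S := inf_le_left
  haveI := finite_of_le hZS
  have hmem := restrict_mem ((mem_autGroup hPS).1 hα) hZP
  have hr := range_eq_of_card_le hmem hZS (fun x => hinv ⟨x, hZP x.2⟩ x.2) le_rfl
  have hN : normalizerIn S ZΩ = S := by
    refine le_antisymm (normalizerIn_le _) fun g hg => ⟨hg, ?_⟩
    refine Subgroup.mem_normalizer_fintype fun y hy => ?_
    show g * y * g⁻¹ ∈ ZΩ
    rw [(AbelianIndex.commute_zS hy hg).eq, mul_inv_cancel_right]
    exact hy
  have hfn : F.IsFullyNormalized ZΩ :=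
    ⟨hZS, fun Q _ => hN.symm ▸ Subgroup.card_le_of_le (normalizerIn_le Q)⟩
  have hrec := isReceptive_of_fc hS hF (isFullyAutomized_and_fc_of_fn hS hF hfn).1
  obtain ⟨ψ, hψ, hψe⟩ := IsReceptive_ext hrec (isoIn_homIso hmem hr) (N := S) (by
    intro g hg
    refine ⟨hg, (hN.ge hg).2, 1, S.one_mem, fun x y hy => ?_⟩
    have hxy : y = x := Subtype.ext (by
      rw [hy, (AbelianIndex.commute_zS x.2 hg).eq, mul_inv_cancel_right])
    rw [hxy, one_mul, inv_one, mul_one])
  have hψr : ψ.range = S := range_eq_of_card_le hψ le_rfl (hom_mem hψ) le_rfl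
  refine ⟨homIso hψ hψr, (mem_autGroup le_rfl).2 (isoIn_homIso hψ hψr), fun z hz => ?_⟩
  rw [coe_homIso, hψe _ hz hz.1, coe_homIso]
  rfl

/-- The transvection data of an abelian essential subgroup. -/
theorem abelian_data (h : AbelianIndex.Setting p F A) (hP : F.IsEssential p P) (hPA : P ≠ A)
    (hab : ∀ a ∈ P, ∀ b ∈ P, Commute a b) {s : S} (hsZ : s ∈ Subgroup.center S) (hs1 : s ≠ 1)
    (hsp : s ^ p = 1) (hs : Subgroup.center S ⊓ commutator S = Subgroup.zpowers s) (hp2 : p ≠ 2) :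
    ∃ (C : Subgroup S), C ≤ Subgroup.center S ∧
      (∀ z ∈ Subgroup.center S, ∃ i : ℕ, ∃ c ∈ C, z = s ^ i * c) ∧
      (∀ i : ℕ, s ^ i ∈ C → p ∣ i) ∧
      (∀ α ∈ F.autGroup P, ∀ x : P, ∀ c ∈ C, (x : Ω) = c → ∃ c' ∈ C, ((α x : P) : Ω) = c') ∧
      ∃ D ∈ F.autGroup S, D s = s ^ 2 ∧ ∀ c ∈ C, D c = c := by
  obtain ⟨x, hx⟩ := h.exists_gen hP hPA
  obtain ⟨n, hnA, hnN, hnP, hnp, hnorm, hngen⟩ := h.structure_of_gen hP hx
  have hPS := hP.1.1
  haveI := finite_of_le hPS
  obtain ⟨-, -, -, hO, hRp, hRI⟩ := basic h.hS h.hF hP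
  have hcen : centralizerIn S P ≤ P := hP.1.2 P (isConj_refl F hPS)
  have hWZ : ∀ w ∈ P, w ∈ A → w ∈ ZΩ := fun w hw hwA =>
    h.mem_zS_of_commute hwA hx.memS hx.not_mem (hab w hw x hx.memP)
  have hPc : ∀ a b : P, a * b = b * a := fun a b => Subtype.ext (hab a a.2 b b.2).eq
  have hsP : (s : Ω) ∈ P := hx.zle (AbelianIndex.mem_zS.mpr ⟨s.2, hsZ⟩)
  set e : P := ⟨(s : Ω), hsP⟩ with he
  have hep : e ^ p = 1 := Subtype.ext (congrArg Subtype.val hsp :)
  have he1 : e ≠ 1 := fun h1 => hs1 (Subtype.ext (congrArg (fun t : P => (t : Ω)) h1 :))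
  set gN : ↥(normalizerIn S P) := ⟨n, hnN⟩ with hgN
  set u := cA F hPS gN with hu
  have hue : (u : MulAut P) e = e := Subtype.ext (by
    rw [coe_cA]
    show n * (s : Ω) * n⁻¹ = s
    rw [(AbelianIndex.commute_zS (AbelianIndex.mem_zS.mpr ⟨s.2, hsZ⟩) hnN.1).eq, mul_inv_cancel_right])
  have hdisp : ∀ v : P, ∃ i : ℕ, (u : MulAut P) v = v * e ^ i := by
    intro v
    have hnv : n * (v : Ω) * n⁻¹ ∈ P := (Subgroup.mem_normalizer_iff.mp hnN.2 v).mp v.2
    set d := (v : Ω)⁻¹ * (n * v * n⁻¹) with hd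
    have hdA : d ∈ A := by
      rw [hd, show (v : Ω)⁻¹ * (n * v * n⁻¹) = ((v : Ω)⁻¹ * n * ((v : Ω)⁻¹)⁻¹) * n⁻¹ by group]
      exact mul_mem (h.conj_mem hnA (S.inv_mem (hPS v.2))) (inv_mem hnA)
    have hdZ : d ∈ ZΩ := hWZ d (P.mul_mem (P.inv_mem v.2) hnv) hdA
    obtain ⟨hdS, hdc⟩ := AbelianIndex.mem_zS.mp hdZ
    have hdcomm : (⟨d, hdS⟩ : S) ∈ commutator S := by
      have he : (⟨d, hdS⟩ : S) = ⁅(⟨(v : Ω), hPS v.2⟩ : S)⁻¹, (⟨n, hnN.1⟩ : S)⁆ := Subtype.ext (by
        simp [hd, commutatorElement_def, mul_assoc])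
      rw [he]
      exact Subgroup.commutator_mem_commutator (Subgroup.mem_top _) (Subgroup.mem_top _)
    obtain ⟨i, hi⟩ := mem_powers_iff_mem_zpowers.mpr (hs.le ⟨hdc, hdcomm⟩)
    refine ⟨i, Subtype.ext ?_⟩
    rw [coe_cA, Subgroup.coe_mul, SubgroupClass.coe_pow]
    show n * (v : Ω) * n⁻¹ = v * (s : Ω) ^ i
    have hi' : (s : Ω) ^ i = d := by simpa using congrArg Subtype.val hi
    rw [hi', hd, mul_inv_cancel_left]
  have hu1 : u ≠ 1 := fun h1 => hnP (mem_of_conjAut_mem_inn hcen hPS hnN.1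
    (α := (u : MulAut P)) (fun v => coe_cA hPS gN v) (by rw [h1]; exact one_mem _))
  have hInn : ∀ a ∈ Inn P, a = (1 : MulAut P) := by
    rintro _ ⟨y, rfl⟩
    refine MulEquiv.ext fun v => ?_
    rw [MulAut.conj_apply, hPc y v, mul_inv_cancel_right, MulAut.one_apply]
  haveI : Finite ↥(F.autGroup P) := Finite.of_injective
    (fun a : F.autGroup P => ((a : MulAut P) : P → P))
    (DFunLike.coe_injective.comp Subtype.val_injective)
  have hcAn : ∀ m : ↥(normalizerIn S P), ∃ i : ℕ, cA F hPS m = u ^ i := by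
    intro m
    obtain ⟨k, hk⟩ := h.exists_pow m.2.1 hx.memS hx.not_mem
    have hxN : x ∈ normalizerIn S P := ⟨hx.memS, Subgroup.le_normalizer hx.memP⟩
    have hmN : (x ^ k)⁻¹ * (m : Ω) ∈ normalizerIn S P := mul_mem (inv_mem (pow_mem hxN k)) m.2
    have hmx : ⁅(x ^ k)⁻¹ * (m : Ω), x⁆ ∈ P := by
      rw [show ⁅(x ^ k)⁻¹ * (m : Ω), x⁆ = ((x ^ k)⁻¹ * m * x * ((x ^ k)⁻¹ * m)⁻¹) * x⁻¹ by
        simp [commutatorElement_def]]
      exact P.mul_mem ((Subgroup.mem_normalizer_iff.mp hmN.2 x).mp hx.memP) (P.inv_mem hx.memP)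
    obtain ⟨l, hl⟩ := hngen _ hk hmx
    refine ⟨l, ?_⟩
    have hin : ∀ y : ↥(normalizerIn S P), (y : Ω) ∈ P → cA F hPS y = 1 := fun y hy => Subtype.ext
      (hInn _ ⟨⟨_, hy⟩, MulEquiv.ext fun v => Subtype.ext (by rw [coe_cA]; simp)⟩)
    have hdec : m = ⟨x, hxN⟩ ^ k * gN ^ l *
        ⟨(n ^ l)⁻¹ * ((x ^ k)⁻¹ * m), mul_mem (inv_mem (pow_mem hnN l)) hmN⟩ := Subtype.ext (by
      simp [hgN, mul_assoc])
    rw [hdec, map_mul, map_mul, map_pow, map_pow, hin ⟨x, hxN⟩ hx.memP,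
      hin ⟨(n ^ l)⁻¹ * ((x ^ k)⁻¹ * (m : Ω)), mul_mem (inv_mem (pow_mem hnN l)) hmN⟩ hl, one_pow, one_mul,
      mul_one]
  have hup : u ^ p = 1 := by
    refine Subtype.ext (MulEquiv.ext fun v => ?_)
    obtain ⟨i, hi⟩ := hdisp v
    have hiter : ∀ k : ℕ, ((u ^ k : F.autGroup P) : MulAut P) v = v * e ^ (i * k) := by
      intro k
      induction k with
      | zero => simp
      | succ k ih =>
        rw [pow_succ', Subgroup.coe_mul, MulAut.mul_apply, ih, map_mul, map_pow, hue, hi, mul_assoc,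
          ← pow_add]
        ring_nf
    rw [hiter, mul_comm i p, pow_mul, hep, one_pow, mul_one]
    simp
  have hsmall : ∀ Q : Subgroup ↥(F.autGroup P), IsPGroup p Q → Nat.card Q ≤ p := by
    intro Q hQp
    obtain ⟨-, R₀, hR₀⟩ := (isFullyAutomized_and_fc_of_fn h.hS h.hF hP.2.1).2
    obtain ⟨Q₀, hQ₀⟩ := hQp.exists_le_sylow
    refine ((Subgroup.card_le_of_le hQ₀).trans (sylow_card_eq Q₀ R₀).le).trans ?_
    rw [hR₀, ← orderOf_eq_prime hup hu1, ← Nat.card_zpowers]
    refine Subgroup.card_le_of_le fun a ha => ?_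
    obtain ⟨m, hm, hma⟩ := mem_autInducedBy.1 (Subgroup.mem_subgroupOf.mp ha)
    obtain ⟨i, hi⟩ := hcAn ⟨m, hm, mem_normalizer_of_aut hma⟩
    rw [show a = cA F hPS ⟨m, hm, mem_normalizer_of_aut hma⟩ from
      Subtype.ext (MulEquiv.ext fun v => Subtype.ext (hma v)), hi]
    exact Subgroup.pow_mem _ (Subgroup.mem_zpowers u) i
  have hmove : ∃ a : ↥(F.autGroup P), (a : MulAut P) e ∉ Subgroup.zpowers e := by
    by_contra hmv
    push Not at hmv
    let N0 : Subgroup ↥(F.autGroup P) :=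
      { carrier := {a | (a : MulAut P) e = e ∧ ∀ v, (a : MulAut P) v * v⁻¹ ∈ Subgroup.zpowers e}
        one_mem' := ⟨rfl, fun v => by simp⟩
        mul_mem' := by
          rintro a b ⟨ha1, ha2⟩ ⟨hb1, hb2⟩
          refine ⟨by rw [Subgroup.coe_mul, MulAut.mul_apply, hb1, ha1], fun v => ?_⟩
          rw [Subgroup.coe_mul, MulAut.mul_apply, show (a : MulAut P) ((b : MulAut P) v) * v⁻¹ =
            ((a : MulAut P) ((b : MulAut P) v) * ((b : MulAut P) v)⁻¹) * ((b : MulAut P) v * v⁻¹) by group]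
          exact mul_mem (ha2 _) (hb2 v)
        inv_mem' := by
          rintro a ⟨ha1, ha2⟩
          have key : ∀ v, (a : MulAut P) (((a⁻¹ : F.autGroup P) : MulAut P) v) = v := fun v => by
            rw [← MulAut.mul_apply, ← Subgroup.coe_mul, mul_inv_cancel, Subgroup.coe_one, MulAut.one_apply]
          refine ⟨(a : MulAut P).injective (by rw [key, ha1]), fun v => ?_⟩
          have h := ha2 (((a⁻¹ : F.autGroup P) : MulAut P) v)
          rw [key] at h
          simpa using inv_mem h }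
    have hN0n : N0.Normal := by
      refine ⟨fun m hm b => ?_⟩
      have key : ∀ v, (b : MulAut P) (((b⁻¹ : F.autGroup P) : MulAut P) v) = v := fun v => by
        rw [← MulAut.mul_apply, ← Subgroup.coe_mul, mul_inv_cancel, Subgroup.coe_one, MulAut.one_apply]
      refine ⟨?_, fun v => ?_⟩
      · obtain ⟨j, hj⟩ := hmv b⁻¹
        rw [Subgroup.coe_mul, Subgroup.coe_mul, MulAut.mul_apply, MulAut.mul_apply,
          ← (show e ^ j = _ from hj), map_zpow, hm.1, (show e ^ j = _ from hj), key]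
      · rw [Subgroup.coe_mul, Subgroup.coe_mul, MulAut.mul_apply, MulAut.mul_apply]
        nth_rewrite 2 [← key v]
        rw [← map_inv (b : MulAut P), ← map_mul]
        obtain ⟨j, hj⟩ := hm.2 (((b⁻¹ : F.autGroup P) : MulAut P) v)
        rw [← (show e ^ j = _ from hj), map_zpow]
        exact zpow_mem (hmv b) j
    have hN0p : IsPGroup p N0 := by
      rintro ⟨a, ha1, ha2⟩
      refine ⟨1, Subtype.ext (Subtype.ext (MulEquiv.ext fun v => ?_))⟩
      obtain ⟨i, hi⟩ := mem_powers_iff_mem_zpowers.mpr (ha2 v)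
      have hi' : (a : MulAut P) v = e ^ i * v := eq_mul_of_mul_inv_eq hi.symm
      have hiter : ∀ k : ℕ, ((a ^ k : F.autGroup P) : MulAut P) v = e ^ (i * k) * v := by
        intro k
        induction k with
        | zero => simp
        | succ k ih =>
          rw [pow_succ', Subgroup.coe_mul, MulAut.mul_apply, ih, map_mul, map_pow, ha1, hi', ← mul_assoc,
            ← pow_add]
          ring_nf
      rw [pow_one]
      show ((a ^ p : F.autGroup P) : MulAut P) v = _
      rw [hiter, mul_comm i p, pow_mul, hep, one_pow, one_mul]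
      simp
    have hmem : u ∈ N0 := ⟨hue, fun v => by
      obtain ⟨i, hi⟩ := hdisp v
      rw [hi, hPc v, mul_inv_cancel_right]
      exact Subgroup.pow_mem _ (Subgroup.mem_zpowers e) i⟩
    exact hu1 (Subtype.ext (hInn _ (hO N0 hN0n hN0p hmem)))
  have hdata : Transvection.Data p (F.autGroup P) u e := ⟨hPc, hep, he1, hue, hdisp, hu1, hsmall, hmove⟩
  obtain ⟨u', fP, C₀, hfp, huf, hu'f, hu'e, hC₀fix, hfixdec, -, hmeet, hCinv, -⟩ :=
    Transvection.exists_decomp hdata
  set ι := Subgroup.inclusion hPS with hι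
  have hιe : ι e = s := Subtype.ext rfl
  have hfixZ : ∀ v : P, (u : MulAut P) v = v → ι v ∈ Subgroup.center S := by
    intro v hv
    have hc : Commute n (v : Ω) := commute_of_conj_eq (congrArg Subtype.val hv)
    have hvA : (v : Ω) ∈ A := by
      by_contra hn
      exact hnP (hx.zle (h.mem_zS_of_commute hnA (hPS v.2) hn hc))
    exact (AbelianIndex.mem_zS.mp (hWZ _ v.2 hvA)).2
  have hZfix : ∀ v : P, (v : Ω) ∈ ZΩ → (u : MulAut P) v = v := fun v hv => Subtype.ext (by
    rw [coe_cA]; exact conj_eq_of_commute (AbelianIndex.commute_zS hv hnN.1))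
  refine ⟨C₀.map ι, ?_, ?_, ?_, ?_, ?_⟩
  · rintro _ ⟨c, hc, rfl⟩
    exact hfixZ c (hC₀fix c hc).1
  · intro z hz
    obtain ⟨i, c, hc, hzc⟩ := hfixdec ⟨(z : Ω), hx.zle (AbelianIndex.mem_zS.mpr ⟨z.2, hz⟩)⟩
      (hZfix _ (AbelianIndex.mem_zS.mpr ⟨z.2, hz⟩))
    exact ⟨i, ι c, ⟨c, hc, rfl⟩, by rw [← hιe, ← map_pow, ← map_mul, ← hzc]; exact Subtype.ext rfl⟩
  · rintro i ⟨c, hc, hci⟩
    have h1 : c = e ^ i := Subgroup.inclusion_injective hPS (by rw [map_pow, ← hι, hιe]; exact hci)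
    exact (hmeet i 0 (by rw [pow_zero, mul_one, ← h1]; exact hc)).1
  · rintro α hα v _ ⟨c, hc, rfl⟩ hvc
    obtain rfl : v = c := Subtype.ext hvc
    exact ⟨ι (α v), ⟨_, hCinv ⟨α, hα⟩ v hc, rfl⟩, rfl⟩
  obtain ⟨k, hk⟩ := hp.out.odd_of_ne_two hp2
  set l := u' ^ k * u * u' with hl
  have hu'pow : ∀ m : ℕ, ((u' ^ m : F.autGroup P) : MulAut P) e = e * fP ^ m ∧
      ((u' ^ m : F.autGroup P) : MulAut P) fP = fP := by
    intro m
    induction m with
    | zero => simp
    | succ m ih =>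
      refine ⟨?_, ?_⟩
      · rw [pow_succ', Subgroup.coe_mul, MulAut.mul_apply, ih.1, map_mul, map_pow, hu'e, hu'f, mul_assoc,
          ← pow_succ']
      · rw [pow_succ', Subgroup.coe_mul, MulAut.mul_apply, ih.2, hu'f]
  have hC : ∀ a b : P, Commute a b := hPc
  have hle : (l : MulAut P) e = e ^ 2 := by
    rw [hl, Subgroup.coe_mul, Subgroup.coe_mul, MulAut.mul_apply, MulAut.mul_apply, hu'e, map_mul, hue,
      huf, map_mul, map_mul, (hu'pow k).1, (hu'pow k).2, show e * fP ^ k * (e * fP ^ k * fP) =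
        (e * fP ^ k) * (e * fP ^ k) * fP by simp only [mul_assoc], ← sq, (hC _ _).mul_pow, mul_assoc,
      ← pow_mul, ← pow_succ, show k * 2 + 1 = p by omega, hfp, mul_one]
  have hlC : ∀ c ∈ C₀, (l : MulAut P) c = c := by
    intro c hc
    have : ∀ m : ℕ, ((u' ^ m : F.autGroup P) : MulAut P) c = c := by
      intro m
      induction m with
      | zero => simp
      | succ m ih => rw [pow_succ', Subgroup.coe_mul, MulAut.mul_apply, ih, (hC₀fix c hc).2]
    rw [hl, Subgroup.coe_mul, Subgroup.coe_mul, MulAut.mul_apply, MulAut.mul_apply, (hC₀fix c hc).2,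
      (hC₀fix c hc).1, this]
  obtain ⟨D, hD, hDl⟩ := extend_center h.hS h.hF hPS l.2 hx.zle fun z hz => by
    obtain ⟨i, c, hc, hzc⟩ := hfixdec z (hZfix z hz)
    rw [hzc, map_mul, map_pow, hle, hlC c hc]
    have h1 : (s : Ω) ∈ ZΩ := AbelianIndex.mem_zS.mpr ⟨s.2, hsZ⟩
    have h2 : (c : Ω) ∈ ZΩ := AbelianIndex.mem_zS.mpr ⟨hPS c.2, hfixZ c (hC₀fix c hc).1⟩
    rw [Subgroup.coe_mul, SubgroupClass.coe_pow, SubgroupClass.coe_pow]
    exact mul_mem (pow_mem (pow_mem h1 2) i) h2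
  refine ⟨D, hD, Subtype.ext ?_, ?_⟩
  · have := hDl e (AbelianIndex.mem_zS.mpr ⟨s.2, hsZ⟩)
    rw [hle] at this
    simpa using this
  · rintro _ ⟨c, hc, rfl⟩
    have := hDl c (AbelianIndex.mem_zS.mpr ⟨hPS c.2, hfixZ c (hC₀fix c hc).1⟩)
    rw [hlC c hc] at this
    exact Subtype.ext this


/-- Let p be an odd prime, S a finite nonabelian p-group with a unique abelian subgroup A of index p, and F a saturated fusion system over S with no nontrivial normal subgroup (O_p(F) = 1) in which A is not F-essential. Then some subgroup Z(S)⟨x⟩ with x ∈ S outside A is F-essential, the centre Z(S) is contained in the commutator subgroup of S, and S has maximal nilpotency class (if S has order pⁿ with n ≥ 3, the term of index n − 2 of its lower central series, counting S itself as the term of index 0, is nontrivial). -/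
theorem result {Ω : Type*} [Group Ω] {S : Subgroup Ω} [Finite S] (p : ℕ) [Fact p.Prime] (hS : IsPGroup p S) (F : Cfsg.FusionSystem S) (hF : F.IsSaturated p) (hp : p ≠ 2) (hna : ¬ IsMulCommutative ↥S) (A : Subgroup Ω) (hA : A ≤ S ∧ IsMulCommutative ↥A ∧ (A.subgroupOf S).index = p) (huniq : ∀ B : Subgroup Ω, B ≤ S → IsMulCommutative ↥B → (B.subgroupOf S).index = p → B = A) (hcore : F.core = ⊥) (hAe : ¬ F.IsEssential p A) : (∃ x ∈ S, x ∉ A ∧ F.IsEssential p ((S ⊓ Subgroup.centralizer (S : Set Ω)) ⊔ Subgroup.zpowers x)) ∧ (S ⊓ Subgroup.centralizer (S : Set Ω)) ≤ (commutator ↥S).map S.subtype ∧ ∀ n : ℕ, Nat.card S = p ^ n → 3 ≤ n → Subgroup.lowerCentralSeries S (n - 2) ≠ ⊥ := by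
  classical
  have h : AbelianIndex.Setting p F A := ⟨hS, hF, hna, hA.1, hA.2.1, hA.2.2, huniq⟩
  haveI : Nontrivial ↥S := by
    by_contra hnt
    rw [not_nontrivial_iff_subsingleton] at hnt
    exact hna ⟨⟨fun a b => Subsingleton.elim _ _⟩⟩
  have hS1 : S ≠ ⊥ := (Subgroup.nontrivial_iff_ne_bot S).1 inferInstance
  have hex : ∃ P, F.IsEssential p P := by
    by_contra hno
    push Not at hno
    refine hS1 (le_bot_iff.mp (le_of_le_of_eq (le_sSup ?_) hcore))
    refine isNormal_of_forall_essential hS hF fun P hP => ?_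
    rcases hP with rfl | hP
    · refine ⟨le_rfl, fun α _ => ?_⟩
      rw [Subgroup.subgroupOf_self, Subgroup.map_top_of_surjective _ α.surjective]
    · exact absurd hP (hno P)
  have hne : ∀ P, F.IsEssential p P → P ≠ A := fun P hP he => hAe (he ▸ hP)
  obtain ⟨P₁, hP₁⟩ := hex
  obtain ⟨x₁, hx₁S, hx₁A, -, hZ2A, hcard2, -⟩ := h.main hP₁ (hne P₁ hP₁)
  obtain ⟨hinf, -, hclass⟩ := (h.data hx₁S hx₁A).numerics (fun y hy => hZ2A ⟨y, hy, rfl⟩) hcard2
  -- the generator of `Z(S) ∩ S'`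
  haveI : IsCyclic ↥(Subgroup.center ↥S ⊓ commutator ↥S) := isCyclic_of_prime_card hinf
  obtain ⟨⟨s, hsmem⟩, hsgen⟩ := IsCyclic.exists_generator (α := ↥(Subgroup.center ↥S ⊓ commutator ↥S))
  have hs : Subgroup.center ↥S ⊓ commutator ↥S = Subgroup.zpowers s := by
    refine le_antisymm (fun z hz => ?_) (Subgroup.zpowers_le.mpr hsmem)
    obtain ⟨i, hi⟩ := Subgroup.mem_zpowers_iff.mp (hsgen ⟨z, hz⟩)
    exact Subgroup.mem_zpowers_iff.mpr ⟨i, by simpa using congrArg Subtype.val hi⟩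
  have hsord : orderOf s = p := by rw [← Nat.card_zpowers, ← hs, hinf]
  have hs1 : s ≠ 1 := fun h1 => (Fact.out : p.Prime).ne_one (by rw [← hsord, h1, orderOf_one])
  have hsp : s ^ p = 1 := hsord ▸ pow_orderOf_eq_one s
  have hsZ : s ∈ Subgroup.center ↥S := hsmem.1
  have hautZ : ∀ γ : MulAut S, ∀ z ∈ Subgroup.center ↥S, γ z ∈ Subgroup.center ↥S := fun γ z hz => by
    rw [← map_center_eq γ]; exact ⟨z, hz, rfl⟩
  have hauts : ∀ γ : MulAut S, γ s ∈ Subgroup.zpowers s := fun γ => by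
    rw [← hs]
    refine ⟨hautZ γ s hsZ, ?_⟩
    have hmap : (commutator ↥S).map γ.toMonoidHom = commutator ↥S :=
      Subgroup.characteristic_iff_map_eq.mp inferInstance γ
    exact hmap.le ⟨s, hsmem.2, rfl⟩
  -- some essential subgroup is abelian
  obtain ⟨P₀, hP₀, hab₀, x₀, hx₀S, hx₀A, hP₀e⟩ : ∃ P, F.IsEssential p P ∧
      (∀ a ∈ P, ∀ b ∈ P, Commute a b) ∧ ∃ x ∈ S, x ∉ A ∧
        P = (S ⊓ Subgroup.centralizer (S : Set Ω)) ⊔ Subgroup.zpowers x := by
    by_contra hno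
    push Not at hno
    have hZne : (S ⊓ Subgroup.centralizer (S : Set Ω)) ≠ ⊥ := by
      intro hb
      have hnt := hS.center_nontrivial
      rw [Subgroup.nontrivial_iff_ne_bot] at hnt
      apply hnt
      rw [← AbelianIndex.map_center_eq_zS, Subgroup.map_eq_bot_iff_of_injective _ S.subtype_injective] at hb
      exact hb
    refine hZne (le_bot_iff.mp (le_of_le_of_eq (le_sSup ?_) hcore))
    refine isNormal_of_forall_essential hS hF fun P hP => ?_
    rcases hP with rfl | hP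
    · refine ⟨inf_le_left, fun α _ => ?_⟩
      haveI : Finite ↥P := inferInstance
      refine Subgroup.eq_of_le_of_card_ge ?_
        (le_of_eq (Subgroup.card_map_of_injective α.injective).symm)
      rintro _ ⟨z, hz, rfl⟩
      obtain ⟨_, hzc⟩ := AbelianIndex.mem_zS.mp (Subgroup.mem_subgroupOf.mp hz)
      exact AbelianIndex.mem_zS.mpr ⟨(α z).2, hautZ α z hzc⟩
    · obtain ⟨x, hxS, hxA, -, -, -, hcase⟩ := h.main hP (hne P hP)
      have hPS := hP.1.1
      haveI := finite_of_le hPS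
      rcases hcase with ⟨hab, hPe⟩ | ⟨hcenP, -⟩
      · exact absurd hPe (hno P hP hab x hxS hxA)
      · refine ⟨h.zS_le_of_ess hP, fun α _ => ?_⟩
        refine Subgroup.eq_of_le_of_card_ge ?_
          (le_of_eq (Subgroup.card_map_of_injective α.injective).symm)
        rintro _ ⟨z, hz, rfl⟩
        refine hcenP _ (α z).2 fun y hy => ?_
        obtain ⟨y', hy'⟩ := α.surjective ⟨y, hy⟩
        have hc : Commute y' z := Subtype.ext (AbelianIndex.commute_zS hz (hPS y'.2)).eq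
        have h1 := congrArg (fun t : P => (t : Ω)) (hc.map α.toMonoidHom).eq
        simp only [MulEquiv.coe_toMonoidHom, hy', Subgroup.coe_mul] at h1
        exact h1
  obtain ⟨C, hCZ, hCdec, hCs, hCinv₀, D, hD, hDs, hDC⟩ :=
    abelian_data h hP₀ (hne P₀ hP₀) hab₀ hsZ hs1 hsp hs hp
  -- automorphisms of `S` close to the identity on the centre are trivial on it
  haveI : Finite ↥(F.autGroup S) := Finite.of_injective
    (fun a : F.autGroup S => ((a : MulAut S) : S → S))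
    (DFunLike.coe_injective.comp Subtype.val_injective)
  have heqZ : ∀ γ ∈ F.autGroup S, γ s = s → ∀ z ∈ Subgroup.center ↥S,
      z⁻¹ * γ z ∈ Subgroup.zpowers s → γ z = z := by
    obtain ⟨-, R₀, hR₀⟩ := (isFullyAutomized_and_fc_of_fn hS hF (isFullyNormalized_top F)).2
    have heq : (R₀ : Subgroup ↥(F.autGroup S)) = (Inn ↥S).subgroupOf (F.autGroup S) := by
      rw [hR₀]
      refine le_antisymm (fun a ha => ?_) (Subgroup.subgroupOf_mono _ (inn_le_autInducedBy le_rfl))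
      obtain ⟨n, hn, hna'⟩ := mem_autInducedBy.1 (Subgroup.mem_subgroupOf.mp ha)
      exact ⟨⟨n, hn⟩, MulEquiv.ext fun x => Subtype.ext (hna' x).symm⟩
    haveI := inn_subgroupOf_normal (P := S) (F.autGroup S)
    intro γ hγ hγs z hz hd
    have hm : ¬ p ∣ ((Inn ↥S).subgroupOf (F.autGroup S)).index := heq ▸ R₀.not_dvd_index
    obtain ⟨y, hy⟩ := Subgroup.pow_index_mem ((Inn ↥S).subgroupOf (F.autGroup S))
      (⟨γ, hγ⟩ : ↥(F.autGroup S))
    obtain ⟨i, hi⟩ := mem_powers_iff_mem_zpowers.mpr hd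
    have hi' : γ z = z * s ^ i := by rw [show s ^ i = _ from hi, mul_inv_cancel_left]
    have hiter : ∀ k : ℕ, (γ ^ k) z = z * s ^ (i * k) := by
      intro k
      induction k with
      | zero => simp
      | succ k ih =>
        rw [pow_succ', MulAut.mul_apply, ih, map_mul, map_pow, hγs, hi', mul_assoc, ← pow_add]
        ring_nf
    have h1 := hiter ((Inn ↥S).subgroupOf (F.autGroup S)).index
    have hy' : MulAut.conj y = γ ^ ((Inn ↥S).subgroupOf (F.autGroup S)).index := by simpa using hy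
    rw [← hy', MulAut.conj_apply, Subgroup.mem_center_iff.mp hz y, mul_inv_cancel_right] at h1
    have h2 : p ∣ i * ((Inn ↥S).subgroupOf (F.autGroup S)).index := by
      rw [← hsord]
      exact orderOf_dvd_of_pow_eq_one (mul_eq_left.mp h1.symm)
    obtain ⟨t, rfl⟩ := ((Fact.out : p.Prime).dvd_mul.mp h2).resolve_right hm
    rw [hi', pow_mul, hsp, one_pow, mul_one]
  -- there is only one such automorphism on the centre
  have hsq : ∀ z ∈ Subgroup.center ↥S, z⁻¹ * D z ∈ Subgroup.zpowers s := by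
    intro z hz
    obtain ⟨i, c, hc, rfl⟩ := hCdec z hz
    rw [map_mul, map_pow, hDs, hDC c hc]
    exact sq_part_mem (hCZ hc) i
  have hfix : ∀ z ∈ Subgroup.center ↥S, D z = z → z ∈ C := by
    intro z hz hDz
    obtain ⟨i, c, hc, rfl⟩ := hCdec z hz
    rw [map_mul, map_pow, hDs, hDC c hc, mul_right_cancel_iff, ← pow_mul] at hDz
    have h1 : p ∣ i := by
      have h2 := pow_eq_pow_iff_modEq.mp hDz
      rw [hsord] at h2
      have h3 : 2 * i ≡ i [MOD p] := h2
      have h4 : i + i ≡ 0 + i [MOD p] := by rwa [zero_add, ← two_mul]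
      exact Nat.modEq_zero_iff_dvd.mp (Nat.ModEq.add_right_cancel' i h4)
    obtain ⟨t, rfl⟩ := h1
    rw [pow_mul, hsp, one_pow, one_mul]
    exact hc
  have hunique : ∀ D' ∈ F.autGroup S, D' s = s ^ 2 →
      (∀ z ∈ Subgroup.center ↥S, z⁻¹ * D' z ∈ Subgroup.zpowers s) →
      ∀ z ∈ Subgroup.center ↥S, D' z = D z := by
    intro D' hD' hD's hd' z hz
    have hmem : D'⁻¹ * D ∈ F.autGroup S := mul_mem (inv_mem hD') hD
    have hs' : (D'⁻¹ * D) s = s := by
      rw [MulAut.mul_apply, hDs, ← hD's, MulAut.inv_apply_self]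
    have h1 : (D'⁻¹ * D) z = z := by
      refine heqZ _ hmem hs' z hz ?_
      rw [MulAut.mul_apply]
      set w := D'⁻¹ (D z) with hw
      have hDw : D' w = D z := by rw [hw, MulAut.apply_inv_self]
      have hwZ : w ∈ Subgroup.center ↥S := hautZ _ _ (hautZ D z hz)
      have e1 := hd' w hwZ
      rw [hDw] at e1
      have e2 := hsq z hz
      have e3 : z⁻¹ * w = (z⁻¹ * D z) * (w⁻¹ * D z)⁻¹ := by group
      rw [e3]
      exact mul_mem e2 (inv_mem e1)
    rw [MulAut.mul_apply] at h1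
    conv_lhs => rw [← h1]
    rw [MulAut.apply_inv_self]
  -- `C` is invariant in `S`
  have hCtop : ∀ γ ∈ F.autGroup S, ∀ c ∈ C, γ c ∈ C := by
    intro γ hγ c hc
    refine hfix _ (hautZ γ c (hCZ hc)) ?_
    set D' := γ * D * γ⁻¹ with hD'def
    have hinv : ∀ z, γ⁻¹ z = γ⁻¹ z := fun _ => rfl
    obtain ⟨j, hj⟩ := mem_powers_iff_mem_zpowers.mpr (hauts γ⁻¹)
    have hj' : s ^ j = γ⁻¹ s := hj
    have hD's : D' s = s ^ 2 := by
      rw [hD'def, MulAut.mul_apply, MulAut.mul_apply, ← hj', map_pow, hDs, ← pow_mul, mul_comm 2 j,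
        pow_mul, hj', map_pow, MulAut.apply_inv_self]
    have hd' : ∀ z ∈ Subgroup.center ↥S, z⁻¹ * D' z ∈ Subgroup.zpowers s := by
      intro z hz
      obtain ⟨w, rfl⟩ := γ.surjective z
      have hw : w ∈ Subgroup.center ↥S := by
        have := hautZ γ⁻¹ _ hz
        rwa [MulAut.inv_apply_self] at this
      rw [hD'def, MulAut.mul_apply, MulAut.mul_apply, MulAut.inv_apply_self, ← map_inv, ← map_mul]
      obtain ⟨i, hi⟩ := Subgroup.mem_zpowers_iff.mp (hsq w hw)
      rw [← hi, map_zpow]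
      exact zpow_mem (hauts γ) i
    rw [← hunique D' (mul_mem (mul_mem hγ hD) (inv_mem hγ)) hD's hd' _ (hautZ γ c (hCZ hc)),
      hD'def, MulAut.mul_apply, MulAut.mul_apply, MulAut.inv_apply_self, hDC c hc]
  -- `C` is normal in the system, hence trivial
  have hCbot : C = ⊥ := by
    have hnorm : F.IsNormal (C.map S.subtype) := by
      refine isNormal_of_forall_essential hS hF fun P hP => ?_
      have hPS : P ≤ S := by
        rcases hP with rfl | hP
        exacts [le_rfl, hP.1.1]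
      haveI := finite_of_le hPS
      have hCP : C.map S.subtype ≤ P := by
        rintro _ ⟨c, hc, rfl⟩
        rcases hP with rfl | hP
        · exact c.2
        · exact h.zS_le_of_ess hP (AbelianIndex.mem_zS.mpr ⟨c.2, hCZ hc⟩)
      refine ⟨hCP, fun α hα => Subgroup.eq_of_le_of_card_ge ?_
        (le_of_eq (Subgroup.card_map_of_injective α.injective).symm)⟩
      rintro _ ⟨v, ⟨c, hc, hcv⟩, rfl⟩
      rcases hP with rfl | hP
      · obtain rfl : c = v := Subtype.ext hcv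
        exact ⟨α c, hCtop α hα c hc, rfl⟩
      obtain ⟨x, hxS, hxA, -, -, -, hcase⟩ := h.main hP (hne P hP)
      rcases hcase with ⟨hab, -⟩ | ⟨hcenP, -⟩
      · obtain ⟨C', hC'Z, hC'dec, hC's, hC'inv, D', hD', hD's, hD'C⟩ :=
          abelian_data h hP (hne P hP) hab hsZ hs1 hsp hs hp
        have hd' : ∀ z ∈ Subgroup.center ↥S, z⁻¹ * D' z ∈ Subgroup.zpowers s := by
          intro z hz
          obtain ⟨i, c, hc, rfl⟩ := hC'dec z hz
          rw [map_mul, map_pow, hD's, hD'C c hc]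
          exact sq_part_mem (hC'Z hc) i
        -- `C = C'`
        have hcC' : c ∈ C' := by
          obtain ⟨i, d, hd, hcd⟩ := hC'dec c (hCZ hc)
          have h1 := hunique D' hD' hD's hd' c (hCZ hc)
          rw [hDC c hc, hcd, map_mul, map_pow, hD's, hD'C d hd, mul_right_cancel_iff, ← pow_mul] at h1
          have h2 := pow_eq_pow_iff_modEq.mp h1
          rw [hsord] at h2
          have h4 : i + i ≡ 0 + i [MOD p] := by rwa [zero_add, ← two_mul]
          obtain ⟨t, rfl⟩ := Nat.modEq_zero_iff_dvd.mp (Nat.ModEq.add_right_cancel' i h4)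
          rw [hcd, pow_mul, hsp, one_pow, one_mul]
          exact hd
        obtain ⟨c', hc', hc'v⟩ := hC'inv α hα v c hcC' hcv.symm
        refine ⟨c', hfix c' (hC'Z hc') ?_, hc'v.symm⟩
        rw [← hunique D' hD' hD's hd' c' (hC'Z hc'), hD'C c' hc']
      · have hinv : ∀ z : P, (z : Ω) ∈ S ⊓ Subgroup.centralizer (S : Set Ω) →
            ((α z : P) : Ω) ∈ S ⊓ Subgroup.centralizer (S : Set Ω) := by
          intro z hz
          refine hcenP _ (α z).2 fun y hy => ?_
          obtain ⟨y', hy'⟩ := α.surjective ⟨y, hy⟩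
          have hcm : Commute y' z := Subtype.ext (AbelianIndex.commute_zS hz (hPS y'.2)).eq
          have h1 := congrArg (fun t : P => (t : Ω)) (hcm.map α.toMonoidHom).eq
          simp only [MulEquiv.coe_toMonoidHom, hy', Subgroup.coe_mul] at h1
          exact h1
        obtain ⟨γ, hγ, hγα⟩ := extend_center hS hF hPS hα (h.zS_le_of_ess hP) hinv
        have hcv' : (c : Ω) = v := hcv
        have hvZ : (v : Ω) ∈ S ⊓ Subgroup.centralizer (S : Set Ω) :=
          hcv' ▸ AbelianIndex.mem_zS.mpr ⟨c.2, hCZ hc⟩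
        refine ⟨γ c, hCtop γ hγ c hc, ?_⟩
        show ((γ c : S) : Ω) = _
        have h2 : c = ⟨(v : Ω), hvZ.1⟩ := Subtype.ext hcv'
        rw [h2, hγα v hvZ]
        rfl
    have h1 := le_bot_iff.mp (le_of_le_of_eq
      (le_sSup (show C.map S.subtype ∈ {Q | F.IsNormal Q} from hnorm)) hcore)
    exact (Subgroup.map_eq_bot_iff_of_injective _ S.subtype_injective).mp h1
  have hZs : Subgroup.center ↥S = Subgroup.zpowers s := by
    refine le_antisymm (fun z hz => ?_) (Subgroup.zpowers_le.mpr hsZ)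
    obtain ⟨i, c, hc, rfl⟩ := hCdec z hz
    rw [hCbot, Subgroup.mem_bot] at hc
    rw [hc, mul_one]
    exact Subgroup.pow_mem _ (Subgroup.mem_zpowers s) i
  have hZSle : S ⊓ Subgroup.centralizer (S : Set Ω) ≤ (commutator ↥S).map S.subtype := by
    rw [← AbelianIndex.map_center_eq_zS, hZs]
    exact Subgroup.map_mono (Subgroup.zpowers_le.mpr hsmem.2)
  refine ⟨⟨x₀, hx₀S, hx₀A, hP₀e ▸ hP₀⟩, hZSle, fun n hn h3 hbot => ?_⟩
  have hcz : Nat.card (Subgroup.center ↥S) = p := by rw [hZs, Nat.card_zpowers, hsord]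
  have hidx : (Subgroup.center ↥S).index = p ^ (n - 1) := by
    have h1 := (Subgroup.center ↥S).card_mul_index
    rw [hcz, hn, show n = n - 1 + 1 by omega, pow_succ'] at h1
    exact Nat.eq_of_mul_eq_mul_left (Fact.out : p.Prime).pos h1
  rcases Nat.lt_or_ge n 4 with h4 | h4
  · -- order `p ^ 3`
    refine hne P₀ hP₀ (huniq P₀ hP₀.1.1 ⟨⟨fun a b => Subtype.ext (hab₀ a a.2 b b.2).eq⟩⟩ ?_)
    haveI := finite_of_le hP₀.1.1
    have hlt := (basic hS hF hP₀).1
    have hle : S ⊓ Subgroup.centralizer (S : Set Ω) < P₀ := by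
      refine lt_of_le_of_ne (h.zS_le_of_ess hP₀) fun he => hx₀A (h.zS_le hx₀S hx₀A ?_)
      rw [he, hP₀e]
      exact Subgroup.mem_sup_right (Subgroup.mem_zpowers x₀)
    have c1 : p < Nat.card P₀ := by
      have := Set.Finite.card_lt_card (Set.toFinite (P₀ : Set Ω)) (SetLike.coe_ssubset_coe.mpr hle)
      rw [← AbelianIndex.card_zS] at hcz
      exact hcz ▸ this
    have c2 := Set.Finite.card_lt_card (Set.toFinite (S : Set Ω)) (SetLike.coe_ssubset_coe.mpr hlt)
    replace c2 : Nat.card P₀ < Nat.card S := c2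
    obtain ⟨j, hj⟩ := IsPGroup.iff_card.mp (hS.to_le hP₀.1.1)
    have h3' : n = 3 := by omega
    subst h3'
    rw [hj] at c1 c2
    rw [hn] at c2
    have := (Nat.pow_lt_pow_iff_right (Fact.out : p.Prime).one_lt).mp c2
    have : 1 < j := (Nat.pow_lt_pow_iff_right (Fact.out : p.Prime).one_lt).mp (by rwa [pow_one])
    have hj2 : j = 2 := by omega
    have h5 := (P₀.subgroupOf S).card_mul_index
    rw [Nat.card_congr (Subgroup.subgroupOfEquivOfLe hP₀.1.1).toEquiv, hj, hn, hj2, pow_succ p 2] at h5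
    exact Nat.eq_of_mul_eq_mul_left (pow_pos (Fact.out : p.Prime).pos 2) h5
  · refine hclass (n - 1) hidx (by omega) ?_
    rw [← Subgroup.top_subtype_lowerCentralSeries,
      Subgroup.map_eq_bot_iff_of_injective _ S.subtype_injective,
      show n - 2 = (n - 3) + 1 by omega, Subgroup.lowerCentralSeries_succ] at hbot
    rw [show n - 1 - 2 = n - 3 by omega]
    exact Subgroup.commutator_top_right_eq_bot_iff_le_center.mp hbot

end Cfsg.Agent.S5244
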