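import Cfsg.Statements.S5247
import Cfsg.Agent.Lib.FusionSys.Local
import Cfsg.Agent.Lib.Core.Cores

set_option autoImplicit false
open Cfsg

namespace Cfsg.Agent.S5247

/-- Let p be an odd prime and F a saturated fusion system over a finite p-group S. Call a fusion system E (over any subgroup) p-stable when, for every fully E-normalized subgroup Q and every χ ∈ Aut_E(Q) with χ(a⁻¹)·a·χ(a⁻¹)·χ(χ(a)) = 1 for all a ∈ Q (χ acts quadratically), χ lies in O_p(Aut_E(Q)). Then F is p-stable if and only if every normalizer fusion system N_F(R) of every non-cyclic fully F-normalized subgroup R of S is p-stable. -/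
theorem result {Ω : Type*} [Group Ω] {S : Subgroup Ω} [Finite S] (p : ℕ) [Fact p.Prime] (hS : IsPGroup p S) (F : Cfsg.FusionSystem S) (hF : F.IsSaturated p) (hp : p ≠ 2) : (∀ Q : Subgroup Ω, F.IsFullyNormalized Q → ∀ χ : MulAut ↥Q, χ ∈ F.autGroup Q → (∀ a : ↥Q, (χ a⁻¹) * a * (χ a⁻¹) * (χ (χ a)) = 1) → χ ∈ ((Cfsg.pCore p ↥(F.autGroup Q)).map (F.autGroup Q).subtype : Subgroup (MulAut ↥Q))) ↔ ∀ R : Subgroup Ω, F.IsFullyNormalized R → ¬ IsCyclic ↥R → ∀ N : Cfsg.FusionSystem (Cfsg.FusionSystem.normalizerIn S R), F.IsNormalizerSystem R N → (∀ Q : Subgroup Ω, N.IsFullyNormalized Q → ∀ χ : MulAut ↥Q, χ ∈ N.autGroup Q → (∀ a : ↥Q, (χ a⁻¹) * a * (χ a⁻¹) * (χ (χ a)) = 1) → χ ∈ ((Cfsg.pCore p ↥(N.autGroup Q)).map (N.autGroup Q).subtype : Subgroup (MulAut ↥Q))) := by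
  classical
  let Cond : ∀ {Q : Subgroup Ω}, MulAut ↥Q → Prop :=
    fun {Q} χ => ∀ a : ↥Q, (χ a⁻¹) * a * (χ a⁻¹) * (χ (χ a)) = 1
  -- a normal `p`-subgroup inside an overgroup
  have hdown : ∀ {Q : Subgroup Ω} [Finite ↥Q] (A B : Subgroup (MulAut ↥Q)) (χ : MulAut ↥Q), A ≤ B → χ ∈ A →
      χ ∈ (Cfsg.pCore p ↥B).map B.subtype → χ ∈ (Cfsg.pCore p ↥A).map A.subtype := by
    intro Q _ A B χ hAB hχA hχ
    obtain ⟨b, hb, hbe⟩ := hχ
    set K := (Cfsg.pCore p ↥B).comap (Subgroup.inclusion hAB) with hK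
    have hKp : IsPGroup p ↥K := (Cfsg.Lib.Core.pCore_isPGroup p ↥B).comap_of_injective _
      (Subgroup.inclusion_injective hAB)
    haveI : K.Normal := (inferInstance : (Cfsg.pCore p ↥B).Normal).comap _
    refine ⟨⟨χ, hχA⟩, Cfsg.Lib.Core.le_pCore (N := K) hKp ?_, rfl⟩
    show Subgroup.inclusion hAB ⟨χ, hχA⟩ ∈ Cfsg.pCore p ↥B
    rwa [show Subgroup.inclusion hAB ⟨χ, hχA⟩ = b from Subtype.ext hbe.symm]
  constructor
  · intro hst R hR _ N hN Q hQ χ hχ hc
    have hQN : Q ≤ Cfsg.FusionSystem.normalizerIn S R := hQ.1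
    have hQS : Q ≤ S := hQN.trans inf_le_left
    haveI : Finite ↥Q := Cfsg.Lib.FusionSys.finite_of_le hQS
    have hle : N.autGroup Q ≤ F.autGroup Q := by
      intro α hα
      have h1 : Q.subtype.comp α.toMonoidHom ∈ N.Hom Q := (Cfsg.Lib.FusionSys.mem_autGroup hQN).1 hα
      rw [hN Q] at h1
      exact (Cfsg.Lib.FusionSys.mem_autGroup hQS).2 h1.1
    obtain ⟨Q', hQQ', hQ'⟩ := Cfsg.Lib.FusionSys.exists_isFullyNormalized F hQS
    obtain ⟨e, he⟩ := Cfsg.Lib.FusionSys.isConj_iff.1 hQQ'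
    haveI : Finite ↥Q' := Cfsg.Lib.FusionSys.finite_of_le hQ'.1
    have hmap := Cfsg.Lib.FusionSys.autGroup_map_congr he
    have h' := hst Q' hQ' (MulAut.congr e χ) (hmap ▸ Subgroup.mem_map_of_mem _ (hle hχ)) fun a => by
      have hcomp : ∀ b, (MulAut.congr e χ) b = e (χ (e.symm b)) := fun b => rfl
      simp only [hcomp, map_inv, MulEquiv.symm_apply_apply]
      have h2 := congrArg e (hc (e.symm a))
      rw [map_mul, map_mul, map_mul, map_one, MulEquiv.apply_symm_apply] at h2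
      simpa only [map_inv] using h2
    refine hdown _ _ χ hle hχ ?_
    obtain ⟨b, hb, hbe⟩ := h'
    let E : ↥(F.autGroup Q) ≃* ↥(F.autGroup Q') :=
      ((F.autGroup Q).equivMapOfInjective (MulAut.congr e).toMonoidHom (MulAut.congr e).injective).trans
        (MulEquiv.subgroupCongr hmap)
    have hb' : b = E ⟨χ, hle hχ⟩ := Subtype.ext hbe
    refine ⟨⟨χ, hle hχ⟩, ?_, rfl⟩
    have h3 : ((Cfsg.pCore p ↥(F.autGroup Q')).comap E.toMonoidHom) ≤ Cfsg.pCore p ↥(F.autGroup Q) := by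
      haveI : ((Cfsg.pCore p ↥(F.autGroup Q')).comap E.toMonoidHom).Normal :=
        (inferInstance : (Cfsg.pCore p ↥(F.autGroup Q')).Normal).comap _
      exact Cfsg.Lib.Core.le_pCore ((Cfsg.Lib.Core.pCore_isPGroup p _).comap_of_injective _ E.injective)
    exact h3 (show E ⟨χ, hle hχ⟩ ∈ _ from hb' ▸ hb)
  · intro hloc Q hQ χ hχ hc
    haveI : Finite ↥Q := Cfsg.Lib.FusionSys.finite_of_le hQ.1
    by_cases hcyc : IsCyclic ↥Q
    · haveI := hcyc
      obtain ⟨g, hg⟩ := IsCyclic.exists_generator (α := ↥Q)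
      obtain ⟨k, hk⟩ := Subgroup.mem_zpowers_iff.1 (hg (χ g))
      have hχz : ∀ a, χ a = a ^ k := fun a => by
        obtain ⟨i, rfl⟩ := Subgroup.mem_zpowers_iff.1 (hg a)
        rw [map_zpow, ← hk, ← zpow_mul, ← zpow_mul, mul_comm]
      have hpow : ∀ (n : ℕ) (a : ↥Q), (χ ^ n) a = a ^ (k ^ n) := by
        intro n
        induction n with
        | zero => intro a; simp
        | succ n ih =>
          intro a
          rw [pow_succ, MulAut.mul_apply, ih, hχz, ← zpow_mul, ← pow_succ']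
      have h2 : g ^ ((k - 1) ^ 2) = 1 := by
        have h := hc g
        rw [map_inv, hχz g, hχz, ← zpow_mul, ← zpow_neg] at h
        rw [show (k - 1) ^ 2 = -k + 1 + -k + k * k by ring, zpow_add, zpow_add, zpow_add, zpow_one]
        exact h
      have hQp : IsPGroup p ↥Q := hS.to_le hQ.1
      obtain ⟨n, hn⟩ := IsPGroup.iff_card.1 hQp
      have hord : orderOf g = p ^ n := by rw [orderOf_eq_card_of_forall_mem_zpowers hg, hn]
      have hA : ∀ α β : MulAut ↥Q, α * β = β * α := fun α β => MulEquiv.ext fun a => by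
        obtain ⟨i, hi⟩ := Subgroup.mem_zpowers_iff.1 (hg (α g))
        obtain ⟨j, hj⟩ := Subgroup.mem_zpowers_iff.1 (hg (β g))
        obtain ⟨m, rfl⟩ := Subgroup.mem_zpowers_iff.1 (hg a)
        rw [map_zpow, map_zpow, MulAut.mul_apply, MulAut.mul_apply, ← hi, ← hj, map_zpow, map_zpow, ← hi,
          ← hj, ← zpow_mul, ← zpow_mul, ← zpow_mul, ← zpow_mul]
        ring_nf
      have hχp : χ ^ (p ^ n) = 1 := MulEquiv.ext fun a => by
        rw [hpow, MulAut.one_apply]
        obtain ⟨i, rfl⟩ := Subgroup.mem_zpowers_iff.1 (hg a)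
        rw [← zpow_mul, zpow_eq_zpow_iff_modEq, hord]
        rcases Nat.eq_zero_or_pos n with rfl | hn0
        · rw [pow_zero]; exact Int.modEq_one
        have h3 : (p : ℤ) ∣ k - 1 := by
          have h4 : (orderOf g : ℤ) ∣ (k - 1) ^ 2 := orderOf_dvd_iff_zpow_eq_one.2 h2
          rw [hord] at h4
          refine Int.Prime.dvd_pow' (k := 2) (Fact.out : p.Prime) (dvd_trans ?_ h4)
          exact_mod_cast dvd_pow_self p hn0.ne'
        have h5 : (p : ℤ) ^ (n + 1) ∣ k ^ (p ^ n) - 1 ^ (p ^ n) := dvd_sub_pow_of_dvd_sub h3 n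
        rw [one_pow] at h5
        refine (Int.modEq_iff_dvd.2 ?_).symm
        push_cast
        exact dvd_trans (pow_dvd_pow _ (Nat.le_succ n)) (dvd_trans h5 ⟨i, by ring⟩)
      set A := F.autGroup Q with hAdef
      set K := (Subgroup.zpowers χ).subgroupOf A with hKdef
      haveI : K.Normal := ⟨fun x hx y => by
        rw [show y * x * y⁻¹ = x from mul_inv_eq_iff_eq_mul.2 (Subtype.ext (hA _ _))]; exact hx⟩
      have hKp : IsPGroup p ↥K := by
        refine IsPGroup.comap_subtype (H := Subgroup.zpowers χ) (K := A) ?_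
        obtain ⟨m, -, hm⟩ := (Nat.dvd_prime_pow (Fact.out : p.Prime)).1 (orderOf_dvd_of_pow_eq_one hχp)
        exact IsPGroup.of_card (n := m) (by rw [Nat.card_zpowers, hm])
      exact ⟨⟨χ, hχ⟩, Cfsg.Lib.Core.le_pCore (N := K) hKp (Subgroup.mem_zpowers χ), rfl⟩
    · obtain ⟨N, hN⟩ := Cfsg.Lib.FusionSys.exists_normalizerSystem F hQ.1
      have hQN : Q ≤ Cfsg.FusionSystem.normalizerIn S Q := Cfsg.Lib.FusionSys.le_normalizerIn hQ.1
      have hrange : ∀ φ ∈ N.Hom Q, φ.range = Q := by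
        intro φ hφ
        rw [hN Q] at hφ
        obtain ⟨-, -, -, ψ, -, hψe, hψQ⟩ := hφ
        refine le_antisymm ?_ ?_
        · rintro _ ⟨a, rfl⟩
          exact hψQ.le ⟨Subgroup.inclusion le_sup_left a, a.2, hψe a⟩
        · intro y hy
          rw [← hψQ] at hy
          obtain ⟨x, hx, rfl⟩ := hy
          exact ⟨⟨x, hx⟩, (hψe ⟨x, hx⟩).symm⟩
      have hfn : N.IsFullyNormalized Q :=
        ⟨hQN, fun P ⟨φ, hφ, hP⟩ => by rw [← hP, hrange φ hφ]⟩
      have heq : N.autGroup Q = F.autGroup Q := by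
        refine le_antisymm (fun α hα => ?_) fun α hα => ?_
        · have h1 : Q.subtype.comp α.toMonoidHom ∈ N.Hom Q := (Cfsg.Lib.FusionSys.mem_autGroup hQN).1 hα
          rw [hN Q] at h1
          exact (Cfsg.Lib.FusionSys.mem_autGroup hQ.1).2 h1.1
        · have h1 : Q.subtype.comp α.toMonoidHom ∈ F.Hom Q := (Cfsg.Lib.FusionSys.mem_autGroup hQ.1).1 hα
          refine (Cfsg.Lib.FusionSys.mem_autGroup hQN).2 ?_
          show Q.subtype.comp α.toMonoidHom ∈ N.Hom Q
          rw [hN Q]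
          have key : ∀ (T : Subgroup Ω) (hT : Q = T) (hle : Q ≤ T), ∃ ψ ∈ F.Hom T,
              (∀ x : ↥Q, ψ (Subgroup.inclusion hle x) = (α x : Ω)) ∧ (Q.subgroupOf T).map ψ = Q := by
            intro T hT hle
            subst hT
            refine ⟨_, h1, fun x => rfl, ?_⟩
            rw [Subgroup.subgroupOf_self]
            ext y
            constructor
            · rintro ⟨x, -, rfl⟩; exact (α x).2
            · intro hy
              exact ⟨α.symm ⟨y, hy⟩, trivial, by simp⟩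
          obtain ⟨ψ, hψ, hψe, hψQ⟩ := key (Q ⊔ Q) (sup_idem Q).symm le_sup_left
          exact ⟨h1, hQN, fun x => hQN (α x).2, ψ, hψ, hψe, hψQ⟩
      have h := hloc Q hQ hcyc N hN Q hfn χ (heq ▸ hχ) hc
      rw [heq] at h
      exact h

end Cfsg.Agent.S5247
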