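import Cfsg.Statements.S5253
import Cfsg.Agent.Lib.FusionSys.GeneratedByThompson

set_option autoImplicit false
universe u
open Cfsg

namespace Cfsg.Agent.S5253

/-- Let p be a prime and W a positive characteristic p-functor with Z(Q) ≤ W(Q): W assigns to every finite p-group Q (in a fixed universe) a subgroup W(Q), nontrivial when Q is, carried to W(R) by every isomorphism Q ≅ R, and containing the centre of Q. Suppose that for every finite group G with Sylow p-subgroup P in which W(P) is not normal there is g ∈ P outside O_p(G) with [Z(O_p(G)), g, g] = 1. Then for every saturated fusion system F over a finite p-group S and every normalizer fusion system N of W(S) in F, every p-th power of an element of Z(S) that lies in the centre of N lies in the centre of F. -/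
theorem result {p : ℕ} [Fact p.Prime] (W : ∀ (Q : Type u) [Group Q], Subgroup Q) (hW1 : ∀ (Q : Type u) [Group Q] [Finite Q], IsPGroup p Q → Nontrivial Q → W Q ≠ ⊥) (hW2 : ∀ (Q R : Type u) [Group Q] [Group R] [Finite Q], IsPGroup p Q → ∀ φ : Q ≃* R, (W Q).map φ.toMonoidHom = W R) (hWZ : ∀ (Q : Type u) [Group Q] [Finite Q], IsPGroup p Q → Subgroup.center Q ≤ W Q) (hq : ∀ (G : Type u) [Group G] [Finite G] (P : Sylow p G), ¬ (((W ↥(P : Subgroup G)).map (P : Subgroup G).subtype : Subgroup G)).Normal → ∃ g : G, g ∈ (P : Subgroup G) ∧ g ∉ Cfsg.pCore p G ∧ ⁅⁅Subgroup.center ↥(Cfsg.pCore p G) |>.map (Cfsg.pCore p G).subtype, Subgroup.zpowers g⁆, Subgroup.zpowers g⁆ = ⊥) {Ω : Type u} [Group Ω] {S : Subgroup Ω} [Finite S] (hS : IsPGroup p S) (F : Cfsg.FusionSystem S) (hF : F.IsSaturated p) (N : Cfsg.FusionSystem (Cfsg.FusionSystem.normalizerIn S ((W ↥S).map S.subtype))) (hN : F.IsNormalizerSystem ((W ↥S).map S.subtype) N) : Subgroup.closure ((fun z => z ^ p) '' ((S ⊓ Subgroup.centralizer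 (S : Set Ω) : Subgroup Ω) : Set Ω)) ⊓ N.center ≤ F.center := by
  intro x hx
  obtain ⟨hx, hxN⟩ := Subgroup.mem_inf.1 hx
  obtain ⟨z, hz, rfl⟩ := Cfsg.Lib.FusionSys.le_powerClosure_center hx
  refine Cfsg.Lib.FusionSys.mem_center_of_functor hS hF W hW2 hWZ hz p hN hxN ?_
  intro L _ _ T z' hzQ hzT hloc a
  have h := Cfsg.Lib.Local.QuadraticGen.generated
    (fun G _ T => Cfsg.Lib.FusionSys.functorOf W T)
    (fun G H _ _ _ _ f hf T hT => Cfsg.Lib.FusionSys.map_functorOf W hW2 f T hT hf.injOn)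
    (fun G _ _ T => hq G T) _ L le_rfl T (Subgroup.zpowers (z' ^ p)) ?_
    (fun _ a => Commute a (z' ^ p)) (fun _ a b _ _ _ ha hb => hb.mul_left ha) ?_ ?_ ⊥ a bot_le
    (by rw [Subgroup.map_bot]; exact bot_le)
  · exact h
  · intro v hv
    obtain ⟨i, rfl⟩ := Subgroup.mem_zpowers_iff.1 hv
    refine ⟨z' ^ i, zpow_mem hzQ i, fun t ht => (hzT t ht).zpow_right i, ?_⟩
    rw [← zpow_natCast, ← zpow_mul, ← zpow_natCast (z' ^ i), ← zpow_mul, mul_comm]
  · intro _ b _ _ hb
    exact (Subgroup.mem_centralizer_iff.1 hb _ (Subgroup.mem_zpowers _)).symm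
  · intro _ b _ _ hb
    exact (Subgroup.mem_centralizer_iff.1 (hloc hb) _ rfl).symm

end Cfsg.Agent.S5253
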