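import Cfsg.Statements.S5257
import Cfsg.Agent.Lib.FusionSys.AbelianIndexEssential

set_option autoImplicit false
open Cfsg

namespace Cfsg.Agent.S5257

/-- Let p be an odd prime, S a finite nonabelian p-group with a unique abelian subgroup A of index p, and F a saturated fusion system over S having an F-essential subgroup other than A. Then the second centre Z₂(S) lies in A; Z(S) ∩ [S, S] has order p; Z(S)[S, S] has index p in A; Z(S) has index p in Z₂(S); and S/Z(S) has maximal nilpotency class (if S/Z(S) has order pᵐ with m ≥ 3 then the term of index m − 2 of the lower central series of S, counting S as index 0, is not contained in Z(S)). -/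
theorem result {Ω : Type*} [Group Ω] {S : Subgroup Ω} [Finite S] (p : ℕ) [Fact p.Prime] (hS : IsPGroup p S) (F : Cfsg.FusionSystem S) (hF : F.IsSaturated p) (hp : p ≠ 2) (hna : ¬ IsMulCommutative ↥S) (A : Subgroup Ω) (hA : A ≤ S ∧ IsMulCommutative ↥A ∧ (A.subgroupOf S).index = p) (huniq : ∀ B : Subgroup Ω, B ≤ S → IsMulCommutative ↥B → (B.subgroupOf S).index = p → B = A) (P : Subgroup Ω) (hP : F.IsEssential p P) (hPA : P ≠ A) : ((upperCentralSeries ↥S 2).map S.subtype) ≤ A ∧ Nat.card ↥((S ⊓ Subgroup.centralizer (S : Set Ω)) ⊓ ((commutator ↥S).map S.subtype)) = p ∧ (((S ⊓ Subgroup.centralizer (S : Set Ω)) ⊔ ((commutator ↥S).map S.subtype)).subgroupOf A).index = p ∧ (((S ⊓ Subgroup.centralizer (S : Set Ω))).subgroupOf ((upperCentralSeries ↥S 2).map S.subtype)).index = p ∧ ∀ m : ℕ, ((S ⊓ Subgroup.centralizer (S : Set Ω)).subgroupOf S).index = p ^ m → 3 ≤ m → ¬ Subgroup.lowerCentralSeries S (m - 2) ≤ (S ⊓ Subgroup.centralizer (S : Set Ω)) := by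
  have h : Cfsg.Lib.FusionSys.AbelianIndex.Setting p F A := ⟨hS, hF, hna, hA.1, hA.2.1, hA.2.2, huniq⟩
  obtain ⟨x, hxS, hxA, -, hZ2A, hcard, -⟩ := h.main hP hPA
  have hd := h.data hxS hxA
  have hZ2' : Subgroup.upperCentralSeries ↥S 2 ≤ A.subgroupOf S := fun y hy => hZ2A ⟨y, hy, rfl⟩
  obtain ⟨hinf, hidx, hclass⟩ := hd.numerics hZ2' hcard
  have hinj := S.subtype_injective
  have hZmap := Cfsg.Lib.FusionSys.AbelianIndex.map_center_eq_zS (S := S)
  refine ⟨hZ2A, ?_, ?_, ?_, fun m hm hm3 hle => ?_⟩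
  · rw [← hZmap, ← Subgroup.map_inf _ _ _ hinj, Subgroup.card_map_of_injective hinj, hinf]
  · rw [← hZmap, ← Subgroup.map_sup]
    have e := Subgroup.relIndex_map_map_of_injective (Subgroup.center ↥S ⊔ commutator ↥S)
      (A.subgroupOf S) hinj
    rw [Subgroup.subgroupOf_map_subtype, inf_eq_left.mpr hA.1, hidx] at e
    exact e
  · rw [← hZmap]
    have e := Subgroup.relIndex_map_map_of_injective (Subgroup.center ↥S)
      (Subgroup.upperCentralSeries ↥S 2) hinj
    refine e.trans ?_
    have hle : Subgroup.center ↥S ≤ Subgroup.upperCentralSeries ↥S 2 := by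
      rw [← Subgroup.upperCentralSeries_one]
      exact Subgroup.upperCentralSeries_mono _ (by norm_num)
    have e2 := Cfsg.Lib.Core.card_mul_relIndex hle
    rw [hcard, mul_comm p] at e2
    exact Nat.eq_of_mul_eq_mul_left Nat.card_pos e2
  · have hm' : (Subgroup.center ↥S).index = p ^ m := by
      rw [← hm, ← hZmap, Subgroup.subgroupOf,
        Subgroup.comap_map_eq_self_of_injective hinj]
    refine hclass m hm' hm3 ?_
    rw [← Subgroup.map_le_map_iff_of_injective hinj, hZmap, Subgroup.top_subtype_lowerCentralSeries]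
    exact hle

end Cfsg.Agent.S5257
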