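import Cfsg.Statements.S5259
import Cfsg.Agent.Lib.FusionSys.HeisenbergCore
import Cfsg.Agent.Lib.Linear.SLBasic

set_option autoImplicit false
open Cfsg

namespace Cfsg.Agent.S5259

open Matrix Cfsg.Lib.FusionSys

variable (K : Type*) [Field K]

/-- The upper unitriangular matrices of degree three. -/
def uni : Subgroup (SpecialLinearGroup (Fin 3) K) where
  carrier := {g | g.1 0 0 = 1 ∧ g.1 1 1 = 1 ∧ g.1 2 2 = 1 ∧ g.1 1 0 = 0 ∧ g.1 2 0 = 0 ∧ g.1 2 1 = 0}
  one_mem' := by simp
  mul_mem' := by
    rintro g h ⟨g0, g1, g2, g3, g4, g5⟩ ⟨h0, h1, h2, h3, h4, h5⟩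
    refine ⟨?_, ?_, ?_, ?_, ?_, ?_⟩ <;>
      simp [Matrix.mul_apply, Fin.sum_univ_three, g0, g1, g2, g3, g4, g5, h0, h1, h2, h3, h4, h5]
  inv_mem' := by
    rintro g ⟨g0, g1, g2, g3, g4, g5⟩
    refine ⟨?_, ?_, ?_, ?_, ?_, ?_⟩ <;>
      simp [adjugate_fin_three, g0, g1, g2, g3, g4, g5]

variable {K}

/-- The element with given coordinates. -/
def mk (a b c : K) : uni K :=
  ⟨⟨!![1, a, c; 0, 1, b; 0, 0, 1], by simp [det_fin_three]⟩, by
    refine ⟨?_, ?_, ?_, ?_, ?_, ?_⟩ <;> simp⟩

/-- The coordinates. -/
def coords : uni K ≃ K × K × K where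
  toFun g := (g.1.1 0 1, g.1.1 1 2, g.1.1 0 2)
  invFun x := mk x.1 x.2.1 x.2.2
  left_inv g := by
    obtain ⟨g0, g1, g2, g3, g4, g5⟩ := g.2
    apply Subtype.ext
    apply Matrix.SpecialLinearGroup.ext
    intro i j
    fin_cases i <;> fin_cases j <;> simp [mk, g0, g1, g2, g3, g4, g5]
  right_inv x := by simp [mk]

theorem coords_mul (g h : uni K) : coords (g * h) =
    ((coords g).1 + (coords h).1, (coords g).2.1 + (coords h).2.1,
      (coords g).2.2 + (coords h).2.2 + (coords g).1 * (coords h).2.1) := by
  obtain ⟨g0, g1, g2, g3, g4, g5⟩ := g.2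
  obtain ⟨h0, h1, h2, h3, h4, h5⟩ := h.2
  simp [coords, mul_apply, Fin.sum_univ_three, g0, g1, g2, g3, g4, g5, h0, h1, h2, h3, h4, h5]
  refine ⟨by ring, by ring, by ring⟩

theorem commute_iff (g h : uni K) :
    g * h = h * g ↔ (coords g).1 * (coords h).2.1 = (coords h).1 * (coords g).2.1 := by
  rw [← coords.injective.eq_iff, coords_mul, coords_mul]
  simp only [Prod.mk.injEq]
  constructor
  · rintro ⟨-, -, h3⟩; linear_combination h3
  · intro h3; exact ⟨by ring, by ring, by linear_combination h3⟩

theorem mem_center_iff' (g : uni K) :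
    g ∈ Subgroup.center (uni K) ↔ (coords g).1 = 0 ∧ (coords g).2.1 = 0 := by
  rw [Subgroup.mem_center_iff]
  constructor
  · intro h
    have h1 := (commute_iff _ g).mp (h (coords.symm (1, 0, 0)))
    have h2 := (commute_iff _ g).mp (h (coords.symm (0, 1, 0)))
    simp only [Equiv.apply_symm_apply, one_mul, mul_zero, zero_mul, mul_one] at h1 h2
    exact ⟨h2.symm, h1⟩
  · rintro ⟨h1, h2⟩ x
    rw [commute_iff, h1, h2, mul_zero, zero_mul]

theorem isHeisenberg [Fintype K] : IsHeisenberg (uni K) (Fintype.card K) := by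
  classical
  have hcard : Nat.card (uni K) = Fintype.card K ^ 3 := by
    rw [Nat.card_congr coords, Nat.card_prod, Nat.card_prod, Nat.card_eq_fintype_card]
    ring
  refine ⟨?_, hcard, fun g h => ?_, fun g hg x y hx hy => ?_, fun g hg => ?_⟩
  · rw [← Nat.card_eq_fintype_card]
    refine Nat.card_congr
      { toFun := fun g => (coords g.1).2.2
        invFun := fun c => ⟨coords.symm (0, 0, c), (mem_center_iff' _).mpr (by simp)⟩
        left_inv := fun g => by
          obtain ⟨h1, h2⟩ := (mem_center_iff' g.1).mp g.2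
          apply Subtype.ext
          apply coords.injective
          simp only [Equiv.apply_symm_apply]
          exact Prod.ext h1.symm (Prod.ext h2.symm rfl)
        right_inv := fun c => by simp }
  · rw [mem_center_iff']
    have e : g * h * g⁻¹ * h⁻¹ * (h * g) = g * h := by group
    generalize g * h * g⁻¹ * h⁻¹ = c at e ⊢
    have e' := congrArg coords e
    simp only [coords_mul, Prod.mk.injEq] at e'
    exact ⟨by linear_combination e'.1, by linear_combination e'.2.1⟩
  · rw [mem_center_iff', not_and_or] at hg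
    rw [commute_iff] at hx hy ⊢
    rcases hg with h | h <;> refine mul_left_cancel₀ h ?_
    · linear_combination (coords y).1 * hx - (coords x).1 * hy
    · linear_combination (coords y).2.1 * hx - (coords x).2.1 * hy
  · rw [mem_center_iff', not_and_or] at hg
    rw [sq, ← Nat.card_eq_fintype_card, ← Nat.card_prod]
    by_cases ha : (coords g).1 = 0
    · have hb : (coords g).2.1 ≠ 0 := hg.resolve_left fun h => h ha
      refine Nat.card_congr
        { toFun := fun x => ((coords x.1).2.1, (coords x.1).2.2)
          invFun := fun z => ⟨coords.symm (0, z.1, z.2), Subgroup.mem_centralizer_singleton_iff.mpr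
            ((commute_iff _ _).mpr (by simp [ha]))⟩
          left_inv := fun x => by
            have h := (commute_iff _ _).mp (Subgroup.mem_centralizer_singleton_iff.mp x.2)
            rw [ha, zero_mul] at h
            apply Subtype.ext
            apply coords.injective
            simp only [Equiv.apply_symm_apply]
            rw [← (mul_eq_zero.mp h).resolve_right hb]
          right_inv := fun z => by simp }
    · refine Nat.card_congr
        { toFun := fun x => ((coords x.1).1, (coords x.1).2.2)
          invFun := fun z => ⟨coords.symm (z.1, z.1 * (coords g).2.1 / (coords g).1, z.2),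
            Subgroup.mem_centralizer_singleton_iff.mpr ((commute_iff _ _).mpr (by
              simp only [Equiv.apply_symm_apply]; field_simp))⟩
          left_inv := fun x => by
            have h := (commute_iff _ _).mp (Subgroup.mem_centralizer_singleton_iff.mp x.2)
            apply Subtype.ext
            apply coords.injective
            simp only [Equiv.apply_symm_apply]
            refine Prod.ext rfl (Prod.ext ?_ rfl)
            show (coords x.1).1 * (coords g).2.1 / (coords g).1 = (coords x.1).2.1
            rw [div_eq_iff ha]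
            linear_combination h
          right_inv := fun z => by simp }

/-- The upper unitriangular group is a Sylow subgroup. -/
theorem exists_sylow [Fintype K] (p : ℕ) [Fact p.Prime] [CharP K p] :
    ∃ U : Sylow p (SpecialLinearGroup (Fin 3) K),
      (U : Subgroup (SpecialLinearGroup (Fin 3) K)) = uni K := by
  classical
  obtain ⟨f, -, hq⟩ := FiniteField.card K p
  set q := Fintype.card K with hqdef
  have hp : p.Prime := Fact.out
  have hq2 : 1 < q := Fintype.one_lt_card
  obtain ⟨r, hr⟩ : ∃ r, q = r + 1 := ⟨q - 1, by omega⟩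
  have hSL : Nat.card (SpecialLinearGroup (Fin 3) K) = q ^ 3 * ((q ^ 2 - 1) * (q ^ 3 - 1)) := by
    have h := Cfsg.Lib.Linear.card_SL_mul (F := K) 3 (by norm_num)
    have e : ∏ i : Fin 3, (q ^ 3 - q ^ (i : ℕ)) = (q - 1) * (q ^ 3 * ((q ^ 2 - 1) * (q ^ 3 - 1))) := by
      rw [Fin.prod_univ_three]
      simp only [Fin.val_zero, Fin.val_one, Fin.val_two, pow_zero, pow_one]
      have e1 : q ^ 3 - q = q * (q ^ 2 - 1) := by rw [Nat.mul_sub, mul_one]; ring_nf
      have e2 : q ^ 3 - q ^ 2 = q ^ 2 * (q - 1) := by rw [Nat.mul_sub, mul_one]; ring_nf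
      rw [e1, e2]
      ring
    rw [e] at h
    exact Nat.eq_of_mul_eq_mul_left (by omega) h
  have hU : Nat.card (uni K) = q ^ 3 := isHeisenberg.card
  have hUp : IsPGroup p (uni K) := IsPGroup.of_card (n := f * 3) (by rw [hU, hq, pow_mul])
  have hidx : ¬ p ∣ (uni K).index := by
    have h := (uni K).card_mul_index
    rw [hU, hSL] at h
    rw [Nat.eq_of_mul_eq_mul_left (pow_pos (by omega) 3) h]
    intro hd
    have hpq : p ∣ q := hq ▸ dvd_pow_self p f.pos.ne'
    rcases hp.dvd_mul.mp hd with h' | h'
    · have h1 := Nat.dvd_sub (dvd_pow hpq (show 2 ≠ 0 by norm_num)) h'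
      rw [Nat.sub_sub_self (Nat.one_le_pow _ _ (by omega))] at h1
      exact hp.not_dvd_one h1
    · have h1 := Nat.dvd_sub (dvd_pow hpq (show 3 ≠ 0 by norm_num)) h'
      rw [Nat.sub_sub_self (Nat.one_le_pow _ _ (by omega))] at h1
      exact hp.not_dvd_one h1
  exact ⟨hUp.toSylow hidx, rfl⟩

/-- Let p be a prime, K a finite field of characteristic p, and S a finite p-group isomorphic to a Sylow p-subgroup of SL₃(K). Then every exotic fusion system F over S (saturated but not the fusion system of a finite group on a Sylow p-subgroup) has no nontrivial normal subgroup: O_p(F) = 1. -/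
theorem result {Ω : Type*} [Group Ω] {S : Subgroup Ω} [Finite S] (p : ℕ) [Fact p.Prime] (hS : IsPGroup p S) (F : Cfsg.FusionSystem S) (hF : F.IsSaturated p) {K : Type*} [Field K] [Fintype K] [CharP K p] (T : Sylow p (Matrix.SpecialLinearGroup (Fin 3) K)) (e : ↥S ≃* ↥(T : Subgroup (Matrix.SpecialLinearGroup (Fin 3) K))) (hex : F.IsExotic p) : F.core = ⊥ := by
  classical
  obtain ⟨U, hU⟩ := exists_sylow (K := K) p
  obtain ⟨g, hg⟩ := MulAction.exists_smul_eq (Matrix.SpecialLinearGroup (Fin 3) K) U T
  have e' : ↥S ≃* ↥(uni K) := e.trans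
    (((MulEquiv.subgroupCongr (by rw [← hg]; rfl)).trans
      (Subgroup.equivSMul (MulAut.conj g) (U : Subgroup _)).symm).trans (MulEquiv.subgroupCongr hU))
  by_contra hcore
  have hc := Heisenberg.isConstrained_of_isNormal hS hF
    (IsHeisenberg.of_equiv e' isHeisenberg) (isNormal_core F) hcore
  obtain ⟨G, hG, ι, hM⟩ := exists_model hS hc
  exact hex.2 ⟨G, hG, hM.1, ι, hM.2.1, hM.2.2.1⟩

end Cfsg.Agent.S5259
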