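import Cfsg.Statements.S5270
import Cfsg.Agent.Lib.FusionSys.Alperin
import Cfsg.Agent.Lib.FusionSys.Saturation
import Cfsg.Agent.Lib.FusionSys.Centric
import Cfsg.Agent.Lib.SPEmbedded
import Cfsg.Agent.Lib.Solv.Nilpotent
import Cfsg.Agent.Lib.PGroup.AbelianIndexP

set_option autoImplicit false
open Cfsg

namespace Cfsg.Agent.S5270

open Cfsg.Lib.FusionSys Cfsg.FusionSystem

theorem card_center_of_class {p : ℕ} [Fact p.Prime] {X : Type*} [Group X] [Finite X] {m : ℕ}
    (hm : 3 ≤ m) (hX : Nat.card X = p ^ m) (hc : Group.nilpotencyClass X = m - 1) :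
    Nat.card (Subgroup.center X) = p ∧ Nat.card (X ⧸ Subgroup.center X) = p ^ (m - 1) ∧
      Group.nilpotencyClass (X ⧸ Subgroup.center X) = m - 2 := by
  have hpp := (Fact.out : p.Prime)
  have hpg : IsPGroup p X := IsPGroup.of_card hX
  haveI := hpg.isNilpotent
  haveI : Nontrivial X := Finite.one_lt_card_iff_nontrivial.1
    (hX ▸ Nat.one_lt_pow (by omega) hpp.one_lt)
  have hq : Group.nilpotencyClass (X ⧸ Subgroup.center X) = m - 2 := by
    rw [Group.nilpotencyClass_quotient_center, hc]; omega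
  obtain ⟨k, hk⟩ := IsPGroup.iff_card.1 (hpg.to_quotient (Subgroup.center X))
  obtain ⟨j, hj⟩ := IsPGroup.iff_card.1 (hpg.to_subgroup (Subgroup.center X))
  have hsum : k + j = m := by
    have := Subgroup.card_eq_card_quotient_mul_card_subgroup (Subgroup.center X)
    rw [hX, hk, hj, ← pow_add] at this
    exact (Nat.pow_right_injective hpp.two_le this).symm
  have hj1 : 1 ≤ j := by
    by_contra h0
    have h1 : 1 < Nat.card (Subgroup.center X) :=
      Finite.one_lt_card_iff_nontrivial.2 hpg.center_nontrivial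
    rw [hj, show j = 0 by omega, pow_zero] at h1
    exact lt_irrefl 1 h1
  have hk1 : 1 < k := by
    by_contra h1
    have hcy : IsCyclic (X ⧸ Subgroup.center X) := by
      rcases Nat.le_one_iff_eq_zero_or_eq_one.1 (not_lt.1 h1) with rfl | rfl
      · haveI : Subsingleton (X ⧸ Subgroup.center X) :=
          (Nat.card_eq_one_iff_unique.1 (by simpa using hk)).1
        infer_instance
      · exact isCyclic_of_prime_card (by simpa using hk)
    have hab : IsMulCommutative X :=
      (QuotientGroup.mk' (Subgroup.center X)).isMulCommutative_of_isCyclic_of_ker_le_center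
        (by rw [QuotientGroup.ker_mk'])
    haveI : Subsingleton (X ⧸ Subgroup.center X) := by
      rw [show Subgroup.center X = ⊤ from eq_top_iff.2 fun x _ =>
        Subgroup.mem_center_iff.2 fun g => hab.is_comm.comm g x]
      exact QuotientGroup.subsingleton_quotient_top
    rw [Group.nilpotencyClass_zero_iff_subsingleton.2 this] at hq
    omega
  have := Cfsg.Lib.Solv.nilpotencyClass_le_of_card_eq_pow k hk hk1
  have hkm : k = m - 1 := by omega
  exact ⟨by rw [hj, show j = 1 by omega, pow_one], by rw [hk, hkm], hq⟩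

/-- Let p ≥ 5 be a prime, S a finite p-group of maximal class of order p^n with n ≥ 4, and F a saturated fusion system over S. If some map of F defined on the second centre Z₂(S) with image Z₂(S) does not carry Z(S) into itself, then the centralizer C_S(Z₂(S)) is an F-essential subgroup. -/
theorem result {Ω : Type*} [Group Ω] {S : Subgroup Ω} [Finite S] (p : ℕ) [Fact p.Prime] (hS : IsPGroup p ↥S) (n : ℕ) (hn : Nat.card S = p ^ n) (h4 : 4 ≤ n) (hmax : Subgroup.lowerCentralSeries S (n - 2) ≠ ⊥) (F : Cfsg.FusionSystem S) (hF : F.IsSaturated p) (hp : 5 ≤ p) (φ : ↥((Subgroup.upperCentralSeries ↥S 2).map S.subtype) →* Ω) (hφ : φ ∈ F.Hom ((Subgroup.upperCentralSeries ↥S 2).map S.subtype)) (hφZ : φ.range = ((Subgroup.upperCentralSeries ↥S 2).map S.subtype)) (hmove : ∃ (z : Ω) (hz : z ∈ ((Subgroup.upperCentralSeries ↥S 2).map S.subtype)), z ∈ ((Subgroup.center ↥S).map S.subtype) ∧ φ ⟨z, hz⟩ ∉ ((Subgroup.center ↥S).map S.subtype)) : F.IsEssential p (S ⊓ Subgroup.centralizer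 (((Subgroup.upperCentralSeries ↥S 2).map S.subtype) : Set Ω)) := by
  classical
  have hpp := (Fact.out : p.Prime)
  -- the class of `S`
  have hclass : Group.nilpotencyClass S = n - 1 := by
    haveI := hS.isNilpotent
    refine le_antisymm (Cfsg.Lib.Solv.nilpotencyClass_le_of_card_eq_pow n hn (by omega)) ?_
    by_contra hlt
    apply hmax
    rw [← Subgroup.top_subtype_lowerCentralSeries, Subgroup.map_eq_bot_iff_of_injective _ S.subtype_injective]
    exact Subgroup.lowerCentralSeries_eq_bot_iff_nilpotencyClass_le.2 (by omega)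
  obtain ⟨hZc, hXq, hclq⟩ := card_center_of_class (p := p) (by omega : 3 ≤ n) hn hclass
  obtain ⟨hZqc, -, -⟩ := card_center_of_class (p := p) (by omega : 3 ≤ n - 1) hXq
    (by rw [hclq]; omega)
  revert hmove hφZ hφ φ
  set W' := Subgroup.upperCentralSeries ↥S 2 with hW'
  set W := W'.map S.subtype with hW
  intro φ hφ hφZ hmove
  have hW'comap : W' = (Subgroup.center (↥S ⧸ Subgroup.center ↥S)).comap
      (QuotientGroup.mk' (Subgroup.center ↥S)) := by
    rw [hW', ← Subgroup.upperCentralSeries_one (↥S ⧸ Subgroup.center ↥S),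
      Subgroup.comap_upperCentralSeries_quotient_center]
  have hW'card : Nat.card W' = p ^ 2 := by
    have h1 := Subgroup.card_mul_index W'
    have h2 := Subgroup.card_mul_index (Subgroup.center (↥S ⧸ Subgroup.center ↥S))
    rw [hW'comap, Subgroup.index_comap_of_surjective _ (QuotientGroup.mk'_surjective _), ← hW'comap] at h1
    rw [hZqc, hXq] at h2
    rw [hn] at h1
    have h3 : Nat.card W' * (Subgroup.center (↥S ⧸ Subgroup.center ↥S)).index =
        p ^ 2 * (Subgroup.center (↥S ⧸ Subgroup.center ↥S)).index := by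
      rw [h1, sq, mul_assoc, h2, ← pow_succ', show n - 1 + 1 = n by omega]
    exact Nat.eq_of_mul_eq_mul_right (Nat.pos_of_ne_zero Subgroup.index_ne_zero_of_finite) h3
  have hZW : Subgroup.center ↥S ≤ W' := by
    rw [hW', ← Subgroup.upperCentralSeries_one]
    exact Subgroup.upperCentralSeries_mono _ (by omega)
  haveI hW'normal : W'.Normal := by rw [hW']; infer_instance
  have hWcomm : ∀ a b : W', a * b = b * a := fun a b =>
    (IsPGroup.commutative_of_card_eq_prime_sq hW'card) a b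
  obtain ⟨a, haW, haZ⟩ : ∃ a : ↥S, a ∈ W' ∧ a ∉ Subgroup.center ↥S := by
    by_contra hall
    push Not at hall
    have h1 := Subgroup.card_le_of_le hall
    rw [hW'card, hZc] at h1
    nlinarith [hpp.two_le]
  have hcW : ∀ x : ↥S, x * a = a * x → ∀ w ∈ W', x * w = w * x := by
    intro x hxa w hw
    set C := Subgroup.centralizer ({x} : Set ↥S) ⊓ W' with hC
    have hZC : Subgroup.center ↥S ≤ C := fun z hz =>
      ⟨Subgroup.mem_centralizer_singleton_iff.2 ((Subgroup.mem_center_iff.1 hz x).symm), hZW hz⟩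
    have haC : a ∈ C := ⟨Subgroup.mem_centralizer_singleton_iff.2 hxa.symm, haW⟩
    have hlt : Nat.card (Subgroup.center ↥S) < Nat.card C := by
      refine lt_of_le_of_ne (Subgroup.card_le_of_le hZC) fun he => haZ ?_
      rw [Subgroup.eq_of_le_of_card_ge hZC he.ge]
      exact haC
    obtain ⟨i, hi⟩ := IsPGroup.iff_card.1 (hS.to_subgroup C)
    have hCW : C = W' := by
      refine Subgroup.eq_of_le_of_card_ge inf_le_right ?_
      rw [hW'card, hi]
      rw [hZc, hi] at hlt
      refine Nat.pow_le_pow_right hpp.pos ?_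
      by_contra h2
      have := Nat.pow_le_pow_right hpp.pos (show i ≤ 1 by omega)
      rw [pow_one] at this
      omega
    have hwC : w ∈ C := hCW.symm ▸ hw
    exact (Subgroup.mem_centralizer_singleton_iff.1 hwC.1).symm
  -- the centralizer
  set C' := Subgroup.centralizer (W' : Set ↥S) with hC'
  have hC'idx : C'.index = p := by
    have hle : C'.index ≤ p := by
      rw [Subgroup.index, ← hZc]
      have hmem : ∀ g : ↥S, g * a * g⁻¹ * a⁻¹ ∈ Subgroup.center ↥S := by
        intro g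
        have h1 : a ∈ (Subgroup.center (↥S ⧸ Subgroup.center ↥S)).comap
            (QuotientGroup.mk' (Subgroup.center ↥S)) := hW'comap ▸ haW
        rw [Subgroup.mem_comap, Subgroup.mem_center_iff] at h1
        rw [← QuotientGroup.eq_one_iff, ← QuotientGroup.mk'_apply, map_mul, map_mul, map_mul,
          h1 _, map_inv, map_inv, mul_inv_cancel_right, mul_inv_cancel]
      refine Nat.card_le_card_of_injective (fun q : ↥S ⧸ C' =>
        (⟨q.out * a * q.out⁻¹ * a⁻¹, hmem _⟩ : Subgroup.center ↥S)) ?_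
      intro q r hqr
      have h1 : q.out * a * q.out⁻¹ = r.out * a * r.out⁻¹ :=
        mul_right_cancel (congrArg Subtype.val hqr)
      rw [← QuotientGroup.out_eq' q, ← QuotientGroup.out_eq' r]
      refine QuotientGroup.eq.2 (Subgroup.mem_centralizer_iff.2 fun w hw => (hcW _ ?_ w hw).symm)
      calc q.out⁻¹ * r.out * a = q.out⁻¹ * (r.out * a * r.out⁻¹) * r.out := by group
        _ = q.out⁻¹ * (q.out * a * q.out⁻¹) * r.out := by rw [h1]
        _ = a * (q.out⁻¹ * r.out) := by group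
    obtain ⟨i, hi⟩ := hS.index C'
    rcases Nat.lt_or_ge i 1 with h0 | h1
    · exfalso
      rw [show i = 0 by omega, pow_zero, Subgroup.index_eq_one] at hi
      refine haZ (Subgroup.mem_center_iff.2 fun g => ?_)
      have hg : g ∈ C' := hi.symm ▸ Subgroup.mem_top g
      exact ((Subgroup.mem_centralizer_iff.1 hg) a haW).symm
    · refine le_antisymm hle ?_
      rw [hi]
      exact Nat.le_self_pow (by omega) p
  set Q := S ⊓ Subgroup.centralizer (W : Set Ω) with hQdef
  have hQS : Q ≤ S := inf_le_left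
  have hmemQ : ∀ g : ↥S, (g : Ω) ∈ Q ↔ g ∈ C' := by
    intro g
    constructor
    · intro hg
      refine Subgroup.mem_centralizer_iff.2 fun w hw => Subtype.ext ?_
      exact Subgroup.mem_centralizer_iff.1 hg.2 (w : Ω) ⟨w, hw, rfl⟩
    · intro hg
      refine ⟨g.2, Subgroup.mem_centralizer_iff.2 ?_⟩
      rintro _ ⟨w, hw, rfl⟩
      exact congrArg Subtype.val (Subgroup.mem_centralizer_iff.1 hg w hw)
  have hQsub : Q.subgroupOf S = C' := Subgroup.ext fun g => hmemQ g
  have hWS : W ≤ S := Subgroup.map_subtype_le _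
  have hWQ : W ≤ Q := by
    rintro _ ⟨w, hw, rfl⟩
    refine (hmemQ w).2 (Subgroup.mem_centralizer_iff.2 fun v hv => ?_)
    exact congrArg Subtype.val (hWcomm ⟨v, hv⟩ ⟨w, hw⟩)
  have hNorm : ∀ R : Subgroup Ω, R ≤ S → (R.subgroupOf S).Normal → normalizerIn S R = S := by
    intro R hR hn'
    refine le_antisymm (normalizerIn_le R) fun g hg => ⟨hg, ?_⟩
    refine Subgroup.mem_normalizer_iff.2 fun x => ⟨fun hx => ?_, fun hx => ?_⟩
    · exact hn'.conj_mem ⟨x, hR hx⟩ hx ⟨g, hg⟩
    · have h1 := hn'.conj_mem ⟨_, hR hx⟩ hx ⟨g⁻¹, inv_mem hg⟩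
      simpa [mul_assoc, Subgroup.mem_subgroupOf] using h1
  have hWsub : W.subgroupOf S = W' := Subgroup.comap_map_eq_self_of_injective S.subtype_injective W'
  have hNW : normalizerIn S W = S := hNorm W hWS (hWsub ▸ hW'normal)
  have hidxQ : ∀ R : Subgroup Ω, R ≤ S → Nat.card R = Nat.card Q → (R.subgroupOf S).index = p := by
    intro R hR hc
    have h1 := (R.subgroupOf S).card_mul_index
    have h2 := C'.card_mul_index
    rw [Nat.card_congr (Subgroup.subgroupOfEquivOfLe hR).toEquiv, hc] at h1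
    rw [← hQsub, Nat.card_congr (Subgroup.subgroupOfEquivOfLe hQS).toEquiv, hQsub, hC'idx] at h2
    exact Nat.eq_of_mul_eq_mul_left (haveI := finite_of_le hQS; Nat.card_pos) (h1.trans h2.symm)
  have hmaxnorm : ∀ R : Subgroup Ω, R ≤ S → Nat.card R = Nat.card Q → (R.subgroupOf S).Normal := by
    intro R hR hc
    exact Cfsg.Lib.PGroup.normal_of_index_eq hS (hidxQ R hR hc)
  have hNQ : normalizerIn S Q = S := hNorm Q hQS (hmaxnorm Q hQS rfl)
  have hfnQ : F.IsFullyNormalized Q :=
    ⟨hQS, fun R _ => by rw [hNQ]; exact card_le_of_le (normalizerIn_le R)⟩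
  have hfnW : F.IsFullyNormalized W :=
    ⟨hWS, fun R _ => by rw [hNW]; exact card_le_of_le (normalizerIn_le R)⟩
  -- centric
  have hcen : F.IsCentric Q := by
    refine ⟨hQS, fun R hR c hc => ?_⟩
    have hRS : R ≤ S := (isConj_le hR).2
    have hcard := (card_eq_of_isConj hR).symm
    by_contra hcR
    obtain ⟨e, -⟩ := isConj_iff.1 hR
    have hgen : ∀ x : ↥S, x ∈ Subgroup.zpowers (⟨c, (mem_centralizerIn.1 hc).1⟩ : ↥S) ⊔ R.subgroupOf S := by
      intro x
      rw [sup_comm, Cfsg.Lib.PGroup.sup_zpowers_eq_top_of_index (p := p) (hidxQ R hRS hcard)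
        (t := (⟨c, (mem_centralizerIn.1 hc).1⟩ : ↥S)) (fun h => hcR h)]
      exact Subgroup.mem_top x
    have hsend : ∀ w : W', (⟨(e ⟨((w : ↥S) : Ω), hWQ ⟨w, w.2, rfl⟩⟩ : Ω), hRS (e _).2⟩ : ↥S) ∈
        Subgroup.center ↥S := by
      intro w
      set v := e ⟨((w : ↥S) : Ω), hWQ ⟨w, w.2, rfl⟩⟩
      refine Subgroup.mem_center_iff.2 fun x => ?_
      have hle : Subgroup.zpowers (⟨c, (mem_centralizerIn.1 hc).1⟩ : ↥S) ⊔ R.subgroupOf S ≤
          Subgroup.centralizer ({(⟨(v : Ω), hRS v.2⟩ : ↥S)} : Set ↥S) := by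
        refine sup_le (Subgroup.zpowers_le.2 ?_) ?_
        · exact Subgroup.mem_centralizer_singleton_iff.2 (Subtype.ext ((mem_centralizerIn.1 hc).2 _ v.2))
        · intro y hy
          refine Subgroup.mem_centralizer_singleton_iff.2 (Subtype.ext ?_)
          have hq : (e.symm ⟨(y : Ω), hy⟩ : Ω) ∈ Q := (e.symm _).2
          have h1 := Subgroup.mem_centralizer_iff.1 hq.2 ((w : ↥S) : Ω) ⟨w, w.2, rfl⟩
          have h2 : (⟨((w : ↥S) : Ω), hWQ ⟨w, w.2, rfl⟩⟩ : Q) * e.symm ⟨(y : Ω), hy⟩ =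
              e.symm ⟨(y : Ω), hy⟩ * ⟨((w : ↥S) : Ω), hWQ ⟨w, w.2, rfl⟩⟩ := Subtype.ext h1
          have h3 := congrArg (fun z : Q => ((e z : R) : Ω)) h2
          simp only [map_mul, MulEquiv.apply_symm_apply, Subgroup.coe_mul] at h3
          exact h3.symm
      exact Subgroup.mem_centralizer_singleton_iff.1 (hle (hgen x))
    have hinj : Function.Injective fun w : W' => (⟨_, hsend w⟩ : Subgroup.center ↥S) := by
      intro u v huv
      have h1 : (e ⟨((u : ↥S) : Ω), hWQ ⟨u, u.2, rfl⟩⟩ : Ω) = e ⟨((v : ↥S) : Ω), hWQ ⟨v, v.2, rfl⟩⟩ :=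
        congrArg (fun z : Subgroup.center ↥S => ((z : ↥S) : Ω)) huv
      exact Subtype.ext (Subtype.ext (congrArg (fun z : Q => (z : Ω)) (e.injective (Subtype.ext h1))))
    have h1 := Nat.card_le_card_of_injective _ hinj
    rw [hW'card, hZc] at h1
    nlinarith [hpp.two_le]
  -- the extension of `φ`
  set α : MulAut W := homIso hφ hφZ with hα
  have hαI : IsoIn F α := isoIn_homIso hφ hφZ
  have hrec := isReceptive_of_fc hS hF (isFullyAutomized_and_fc_of_fn hS hF hfnW).1
  obtain ⟨ψ, hψ, hψe⟩ := IsReceptive_ext hrec hαI (N := Q) (by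
    intro g hg
    refine ⟨hQS hg, (hNW.symm ▸ hQS hg : g ∈ normalizerIn S W).2, 1, S.one_mem, fun x y hxy => ?_⟩
    have : y = x := Subtype.ext (by
      rw [hxy, ← Subgroup.mem_centralizer_iff.1 hg.2 x x.2, mul_inv_cancel_right])
    simp [this])
  have hψmap := map_subgroupOf_eq (e := α) hWQ hψe
  have hψv : ∀ x, ψ x ∈ Q := fun x => by
    refine ⟨hom_mem hψ x, ?_⟩
    have := map_mem_centralizer (Q := W) ψ x fun w hw => (Subgroup.mem_centralizer_iff.1 x.2.2 w hw).symm
    rwa [hψmap] at this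
  have hψr : ψ.range = Q := range_eq_of_card_le hψ hQS hψv le_rfl
  set A := F.autGroup Q with hA
  set β : A := ⟨homIso hψ hψr, (mem_autGroup hQS).2 (isoIn_homIso hψ hψr)⟩ with hβ
  set I := (Inn ↥Q).subgroupOf A with hI
  haveI hIN : I.Normal := inn_subgroupOf_normal A
  haveI : Finite Q := finite_of_le hQS
  set π := QuotientGroup.mk' I with hπ
  obtain ⟨-, R, hR⟩ := (isFullyAutomized_and_fc_of_fn hS hF hfnQ).2
  obtain ⟨g, hgC⟩ : ∃ g : ↥S, g ∉ C' := by
    by_contra hall
    push Not at hall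
    rw [show C' = ⊤ from eq_top_iff.2 fun x _ => hall x, Subgroup.index_top] at hC'idx
    exact hpp.ne_one hC'idx.symm
  have hgQ : (g : Ω) ∉ Q := fun h => hgC ((hmemQ g).1 h)
  have hgN : (g : Ω) ∈ Subgroup.normalizer (Q : Set Ω) :=
    (hNQ.symm ▸ g.2 : (g : Ω) ∈ normalizerIn S Q).2
  set u : A := ⟨conjAut Q hgN, autInducedBy_le_autGroup hQS (conjAut_mem_autInducedBy hgN g.2)⟩ with hu
  have hinner : ∀ (x : Ω) (hx : x ∈ Q) (γ : A), (∀ y : Q, (((γ : MulAut Q) y : Q) : Ω) = x * y * x⁻¹) →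
      γ ∈ I := fun x hx γ hγ => ⟨⟨x, hx⟩, MulEquiv.ext fun y => Subtype.ext (hγ y).symm⟩
  have hRT : ∀ r ∈ (R : Subgroup A), π r ∈ Subgroup.zpowers (π u) := by
    intro r hr
    rw [hR, Subgroup.mem_subgroupOf] at hr
    obtain ⟨h, hh, hhr⟩ := mem_autInducedBy.1 hr
    have hgen : (⟨h, hh⟩ : ↥S) ∈ C' ⊔ Subgroup.zpowers g := by
      rw [Cfsg.Lib.PGroup.sup_zpowers_eq_top_of_index (p := p) hC'idx hgC]
      exact Subgroup.mem_top _
    haveI : C'.Normal := Cfsg.Lib.PGroup.normal_of_index_eq hS hC'idx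
    obtain ⟨c, hc, k, hk, hck⟩ := Subgroup.mem_sup_of_normal_left.1 hgen
    obtain ⟨i, rfl⟩ := hk
    refine ⟨i, ?_⟩
    show (π u) ^ i = π r
    rw [← map_zpow]
    refine QuotientGroup.eq.2 (hinner _ (Q.mul_mem ((hmemQ _).2 (Subgroup.Normal.conj_mem inferInstance c hc (g ^ i)⁻¹)) Q.one_mem) _ fun y => ?_)
    have hui : ∀ y : Q, ((((u ^ i : A) : MulAut Q) y : Q) : Ω) = (g : Ω) ^ i * y * ((g : Ω) ^ i)⁻¹ := by
      intro y
      have h1 : ((u ^ i : A) : MulAut Q) = Q.normalizerMonoidHom (⟨(g : Ω), hgN⟩ ^ i) := by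
        rw [map_zpow, SubgroupClass.coe_zpow]; rfl
      rw [h1]; rfl
    have h2 : (((r : MulAut Q) ((((u ^ i : A) : MulAut Q)⁻¹) y) : Q) : Ω) = h * ((((u ^ i : A) : MulAut Q)⁻¹) y) * h⁻¹ := hhr _
    have h3 := hui ((((u ^ i : A) : MulAut Q)⁻¹) y)
    rw [MulAut.apply_inv_self] at h3
    have hh' : h = (c : Ω) * (g : Ω) ^ i := by
      have := congrArg Subtype.val hck
      simpa using this.symm
    have h4 : (((u ^ i)⁻¹ * r : A) : MulAut Q) y = (((u ^ i : A) : MulAut Q))⁻¹ ((r : MulAut Q) y) := rfl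
    rw [h4]
    have h5 := hui ((((u ^ i : A) : MulAut Q))⁻¹ ((r : MulAut Q) y))
    rw [MulAut.apply_inv_self, hhr, hh'] at h5
    simp only [Subgroup.coe_mul, Subgroup.coe_inv, Subgroup.coe_zpow, mul_one]
    generalize ((((u ^ i : A) : MulAut Q))⁻¹ ((r : MulAut Q) y) : Q) = z at h5
    calc ((z : Q) : Ω) = ((g : Ω) ^ i)⁻¹ * ((g : Ω) ^ i * z * ((g : Ω) ^ i)⁻¹) * (g : Ω) ^ i := by group
      _ = _ := by rw [← h5]; group
  set T := Subgroup.zpowers (π u) with hT
  have huR : u ∈ (R : Subgroup A) := by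
    rw [hR, Subgroup.mem_subgroupOf]
    exact conjAut_mem_autInducedBy hgN g.2
  have hu1 : π u ≠ 1 := fun h =>
    hgQ (mem_of_conjAut_mem_inn (hcen.2 Q (isConj_refl F hQS)) hQS g.2
      (α := (u : MulAut Q)) (fun x => rfl) ((QuotientGroup.eq_one_iff u).1 h))
  have hup : (π u) ^ p = 1 := by
    rw [← map_pow]
    refine (QuotientGroup.eq_one_iff _).2 (hinner ((g : Ω) ^ p) ?_ _ fun y => ?_)
    · haveI : C'.Normal := Cfsg.Lib.PGroup.normal_of_index_eq hS hC'idx
      have h1 := C'.pow_index_mem g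
      rw [hC'idx] at h1
      exact (hmemQ _).2 h1
    · rw [SubgroupClass.coe_pow]
      exact aut_pow_apply (g := (g : Ω)) (fun x => rfl) p y
  have huord : orderOf (π u) = p := orderOf_eq_prime hup hu1
  have hTmap : ((R.mapSurjective (QuotientGroup.mk'_surjective I) : Sylow p (A ⧸ I)) : Subgroup (A ⧸ I)) = T := by
    rw [Sylow.coe_mapSurjective]
    refine le_antisymm ?_ (Subgroup.zpowers_le.2 ⟨u, huR, rfl⟩)
    rintro _ ⟨r, hr, rfl⟩
    exact hRT r hr
  set TS := R.mapSurjective (QuotientGroup.mk'_surjective I) with hTS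
  -- not normal
  have hnn : Subgroup.normalizer (T : Set (A ⧸ I)) ≠ ⊤ := by
    intro htop
    obtain ⟨z, hzW, hzZ, hzm⟩ := hmove
    obtain ⟨z', hz', rfl⟩ := hzZ
    apply hzm
    have hpre : β⁻¹ * u * β ∈ (R : Subgroup A) := by
      have hm : π β⁻¹ ∈ Subgroup.normalizer (T : Set (A ⧸ I)) := htop.symm ▸ Subgroup.mem_top _
      have h1 := (Subgroup.mem_normalizer_iff.1 hm (π u)).1 (Subgroup.mem_zpowers _)
      rw [← map_inv, inv_inv, ← map_mul, ← map_mul] at h1
      obtain ⟨i, hi⟩ := h1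
      replace hi : (π u) ^ i = π (β⁻¹ * u * β) := hi
      rw [← map_zpow] at hi
      have h2 : (u ^ i)⁻¹ * (β⁻¹ * u * β) ∈ I := QuotientGroup.eq.1 hi
      have h3 : (u ^ i)⁻¹ * (β⁻¹ * u * β) ∈ (R : Subgroup A) := by
        rw [hR, Subgroup.mem_subgroupOf]
        exact inn_le_autInducedBy hQS h2
      simpa using mul_mem (zpow_mem huR i) h3
    rw [hR, Subgroup.mem_subgroupOf] at hpre
    obtain ⟨h, hh, hhb⟩ := mem_autInducedBy.1 hpre
    set zq : Q := ⟨(z' : Ω), hWQ hzW⟩ with hzq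
    have hfix : (((β⁻¹ * u * β : A) : MulAut Q) zq) = zq := by
      refine Subtype.ext ?_
      rw [hhb]
      have h1 := congrArg Subtype.val (Subgroup.mem_center_iff.1 hz' ⟨h, hh⟩)
      simp only [Subgroup.coe_mul] at h1
      rw [show ((zq : Q) : Ω) = (z' : Ω) from rfl, h1, mul_inv_cancel_right]
    have hfix2 : ((u : MulAut Q) ((β : MulAut Q) zq)) = (β : MulAut Q) zq := by
      have h1 := congrArg (β : MulAut Q) hfix
      simpa [MulAut.mul_apply] using h1
    have hval : (((β : MulAut Q) zq : Q) : Ω) = φ ⟨(z' : Ω), hzW⟩ := hψe _ hzW (hWQ hzW)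
    have hφW : φ ⟨(z' : Ω), hzW⟩ ∈ W := hφZ.le ⟨_, rfl⟩
    obtain ⟨w, hw, hwe⟩ := hφW
    have hgw : g * w = w * g := by
      refine Subtype.ext ?_
      have h1 := congrArg (fun x : Q => (x : Ω)) hfix2
      have h2 : (((u : MulAut Q) ((β : MulAut Q) zq) : Q) : Ω) =
          (g : Ω) * (((β : MulAut Q) zq : Q) : Ω) * (g : Ω)⁻¹ := rfl
      simp only [h2, hval, ← hwe] at h1
      exact commute_of_conj_eq h1
    refine ⟨w, Subgroup.mem_center_iff.2 fun x => ?_, hwe⟩
    have hle : C' ⊔ Subgroup.zpowers g ≤ Subgroup.centralizer ({w} : Set ↥S) :=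
      sup_le (fun y hy => Subgroup.mem_centralizer_singleton_iff.2 (Subgroup.mem_centralizer_iff.1 hy w hw).symm)
        (Subgroup.zpowers_le.2 (Subgroup.mem_centralizer_singleton_iff.2 hgw))
    rw [Cfsg.Lib.PGroup.sup_zpowers_eq_top_of_index (p := p) hC'idx hgC] at hle
    exact Subgroup.mem_centralizer_singleton_iff.1 (hle (Subgroup.mem_top x))
  refine ⟨hcen, hfnQ, hIN, Subgroup.normalizer (T : Set (A ⧸ I)), ?_⟩
  haveI : Finite A := inferInstance
  refine Cfsg.Lib.SPEmbedded.of_criterion hnn ?_ ?_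
  · refine (?_ : p ∣ Nat.card T).trans (Subgroup.card_dvd_of_le Subgroup.le_normalizer)
    rw [hT, Nat.card_zpowers, huord]
  · intro t ht hto x hx
    have hmemT : ∀ y ∈ Subgroup.normalizer (T : Set (A ⧸ I)), orderOf y = p →
        Subgroup.zpowers y = T := by
      intro y hy hyo
      have hyp : IsPGroup p (Subgroup.zpowers y) :=
        IsPGroup.of_card (n := 1) (by rw [Nat.card_zpowers, hyo, pow_one])
      have hTp : IsPGroup p T := hTmap ▸ TS.isPGroup'
      have hle : Subgroup.zpowers y ≤ Subgroup.normalizer (T : Set (A ⧸ I)) := Subgroup.zpowers_le.2 hy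
      have hsup : IsPGroup p (Subgroup.zpowers y ⊔ T : Subgroup (A ⧸ I)) :=
        hyp.to_sup_of_normal_right' hTp hle
      have heq := TS.is_maximal' hsup (hTmap.le.trans le_sup_right)
      have hyT : Subgroup.zpowers y ≤ T := by
        rw [← hTmap, ← heq]; exact le_sup_left
      refine Subgroup.eq_of_le_of_card_ge hyT ?_
      rw [Nat.card_zpowers, Nat.card_zpowers, hyo, huord]
    have h1 := hmemT t ht hto
    have h2 := hmemT _ hx (by rw [show x * t * x⁻¹ = MulAut.conj x t from rfl, MulEquiv.orderOf_eq, hto])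
    refine Subgroup.mem_normalizer_fintype fun y hy => ?_
    rw [SetLike.mem_coe] at hy ⊢
    rw [← h1] at hy
    obtain ⟨i, rfl⟩ := hy
    rw [← h2, ← conj_zpow]
    exact zpow_mem (Subgroup.mem_zpowers _) i

end Cfsg.Agent.S5270
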