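import Cfsg.Statements.S5272
import Cfsg.Agent.Lib.FusionSys.NilpotentFamily

set_option autoImplicit false
open Cfsg

namespace Cfsg.Agent.S5272

/-- An axiomatic Glauberman–Thompson nilpotency criterion for fusion systems. Let p be an odd prime, F a saturated fusion system over a finite p-group S, and 𝒜 a nonempty family of abelian subgroups of S. For Q ≤ S write I(Q) for the intersection of the members of 𝒜 contained in Q. Assume (invariance) that for every Q ≤ S containing a member of 𝒜, every F-automorphism of Q maps I(Q) into itself, and (replacement) that for every subgroup B of S of nilpotency class at most 2, if some member of 𝒜 contains [B,B] but not B, then B normalizes some member of 𝒜 that contains [B,B] but not B. Then F is the inner fusion system of S if and only if the normalizer fusion system of I(S) in F is the inner fusion system of N_S(I(S)).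 -/
theorem result {Ω : Type*} [Group Ω] {S : Subgroup Ω} [Finite S] (p : ℕ) [Fact p.Prime] (hS : IsPGroup p ↥S) (F : Cfsg.FusionSystem S) (hF : F.IsSaturated p) (hp : p ≠ 2) (𝒜 : Set (Subgroup Ω)) (h𝒜 : ∀ A ∈ 𝒜, A ≤ S ∧ IsMulCommutative ↥A) (hne : 𝒜.Nonempty) (hinv : ∀ Q : Subgroup Ω, Q ≤ S → (∃ A ∈ 𝒜, A ≤ Q) → ∀ α ∈ F.autGroup Q, ∀ x : ↥Q, (x : Ω) ∈ (⨅ A ∈ {A : Subgroup Ω | A ∈ 𝒜 ∧ A ≤ Q}, A) → (((α : MulAut ↥Q) x : ↥Q) : Ω) ∈ (⨅ A ∈ {A : Subgroup Ω | A ∈ 𝒜 ∧ A ≤ Q}, A)) (hrep : ∀ B : Subgroup Ω, B ≤ S → ⁅⁅B, B⁆, B⁆ = ⊥ → (∃ A ∈ 𝒜, ⁅B, B⁆ ≤ A ∧ ¬ B ≤ A) → ∃ A ∈ 𝒜, ⁅B, B⁆ ≤ A ∧ ¬ B ≤ A ∧ B ≤ Subgroup.normalizer (A : Set Ω)) : (∀ P : Subgroup Ω, F.Hom P = (Cfsg.innerFusionSystem S).Hom P) ↔ ∀ N : Cfsg.FusionSystem (Cfsg.FusionSystem.normalizerIn S (⨅ A ∈ 𝒜, A)), F.IsNormalizerSystem (⨅ A ∈ 𝒜, A) N → ∀ P : Subgroup Ω, N.Hom P = (Cfsg.innerFusionSystem (Cfsg.FusionSystem.normalizerIn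 S (⨅ A ∈ 𝒜, A))).Hom P := by
  have hZn : S ≤ Subgroup.normalizer ((⨅ A ∈ 𝒜, A : Subgroup Ω) : Set Ω) := by
    obtain ⟨A₁, hA₁⟩ := hne
    have he : (⨅ A ∈ 𝒜, A : Subgroup Ω) =
        ⨅ A ∈ {A : Subgroup Ω | A ∈ 𝒜 ∧ A ≤ S}, A :=
      le_antisymm (le_iInf₂ fun A hA => iInf₂_le (f := fun (B : Subgroup Ω) (_ : B ∈ 𝒜) => B) A hA.1)
        (le_iInf₂ fun A hA =>
          iInf₂_le (f := fun (B : Subgroup Ω) (_ : B ∈ {A : Subgroup Ω | A ∈ 𝒜 ∧ A ≤ S}) => B) A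
            ⟨hA, (h𝒜 A hA).1⟩)
    have hstep : ∀ g ∈ S, ∀ x ∈ (⨅ A ∈ 𝒜, A : Subgroup Ω), g * x * g⁻¹ ∈ (⨅ A ∈ 𝒜, A : Subgroup Ω) := by
      intro g hg x hx
      have hxS : x ∈ S := (h𝒜 A₁ hA₁).1
        ((iInf₂_le (f := fun (B : Subgroup Ω) (_ : B ∈ 𝒜) => B) A₁ hA₁) hx)
      have hgN : g ∈ Subgroup.normalizer (S : Set Ω) := Subgroup.le_normalizer hg
      have hα := Cfsg.Lib.FusionSys.autInducedBy_le_autGroup (F := F) le_rfl
        (Cfsg.Lib.FusionSys.conjAut_mem_autInducedBy (K := S) hgN hg)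
      rw [he] at hx ⊢
      have h1 := hinv S le_rfl ⟨A₁, hA₁, (h𝒜 A₁ hA₁).1⟩ _ hα ⟨x, hxS⟩ hx
      rwa [Cfsg.Lib.FusionSys.coe_conjAut] at h1
    intro g hg
    refine Subgroup.mem_normalizer_iff.2 fun x => ⟨hstep g hg x, fun hx => ?_⟩
    simpa [mul_assoc] using hstep g⁻¹ (inv_mem hg) _ hx
  exact ⟨fun h _ hN => Cfsg.Lib.FusionSys.normalizerSystem_inner hZn h hN,
    fun h P => Set.Subset.antisymm (Cfsg.Lib.FusionSys.le_inner_of_family hp hS hF 𝒜 h𝒜 hne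
      hinv hrep hZn h P) (Cfsg.Lib.FusionSys.innerFusionSystem_le F P)⟩

end Cfsg.Agent.S5272
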