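import Cfsg.Statements.S5276
import Cfsg.Agent.Lib.FusionSys.ModClosed

set_option autoImplicit false
open Cfsg

namespace Cfsg.Agent.S5276

/-- Let p be a prime and F a saturated fusion system over a finite p-group S. Then F is the inner fusion system of S if and only if the normalizer fusion system of S itself in F is the inner fusion system (equivalently, Aut_F(S) is induced by S) and the Frattini subgroup Φ(S) is strongly closed in F. -/
theorem result {Ω : Type*} [Group Ω] {S : Subgroup Ω} [Finite S] (p : ℕ) [Fact p.Prime] (hS : IsPGroup p ↥S) (F : Cfsg.FusionSystem S) (hF : F.IsSaturated p) : (∀ P : Subgroup Ω, F.Hom P = (Cfsg.innerFusionSystem S).Hom P) ↔ (∀ N : Cfsg.FusionSystem (Cfsg.FusionSystem.normalizerIn S S), F.IsNormalizerSystem S N → ∀ P : Subgroup Ω, N.Hom P = (Cfsg.innerFusionSystem (Cfsg.FusionSystem.normalizerIn S S)).Hom P) ∧ F.StronglyClosed ((frattini ↥S).map S.subtype) := by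
  constructor
  · intro h
    refine ⟨fun N hN P => Set.Subset.antisymm (fun φ hφ => ?_)
      (Cfsg.Lib.FusionSys.innerFusionSystem_le N P), ?_⟩
    · have hφ' : φ ∈ F.normalizerHom S P := hN P ▸ hφ
      have h1 := hφ'.1
      rw [h] at h1
      obtain ⟨-, g, hg, he⟩ := h1
      exact ⟨hφ'.2.1, g, Cfsg.Lib.FusionSys.le_normalizerIn le_rfl hg, he⟩
    · refine ⟨Subgroup.map_subtype_le _, fun R hR φ hφ x => ?_⟩
      rw [h] at hφ
      obtain ⟨hRS, g, hg, he⟩ := hφ
      obtain ⟨w, hw, hwe⟩ := hR x.2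
      refine ⟨⟨g, hg⟩ * w * ⟨g, hg⟩⁻¹, Subgroup.Normal.conj_mem inferInstance w hw _, ?_⟩
      rw [he, ← hwe]
      rfl
  · rintro ⟨hN, hΦ⟩ P
    exact Cfsg.Lib.FusionSys.hom_eq_inner_of_stronglyClosed hS hF
      (Cfsg.Lib.FusionSys.isPGroup_autGroup_of_normalizer_inner hS hN) hΦ
      (Cfsg.Lib.FusionSys.frattini_normal_facts hS) le_rfl P

end Cfsg.Agent.S5276
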