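import Cfsg.Statements.S5284
import Cfsg.Agent.Lib.FusionSys.AbelianSupersoluble

set_option autoImplicit false
open Cfsg

namespace Cfsg.Agent.S5284

/-- Let S be a finite abelian p-group. Every saturated fusion system over S is supersoluble (S has a chain of F-strongly closed subgroups from 1 to S with cyclic steps) if and only if the invariants of S are pairwise distinct, that is, S is not isomorphic to a direct product (Z/p^n × Z/p^n) × H with n ≥ 1. -/
theorem result {Ω : Type*} [Group Ω] {S : Subgroup Ω} [Finite S] (p : ℕ) [Fact p.Prime] (hS : IsPGroup p ↥S) (hab : IsMulCommutative ↥S) : (∀ F : Cfsg.FusionSystem S, F.IsSaturated p → (∃ (m : ℕ) (c : Fin (m + 1) → Subgroup Ω), c 0 = ⊥ ∧ c (Fin.last m) = S ∧ (∀ i : Fin (m + 1), F.StronglyClosed (c i)) ∧ ∀ i : Fin m, c i.castSucc ≤ c i.succ ∧ ∃ x ∈ S, c i.succ = c i.castSucc ⊔ Subgroup.zpowers x)) ↔ ¬ ∃ (n : ℕ) (H : Type) (_ : CommGroup H), 0 < n ∧ Nonempty (↥S ≃* (Multiplicative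 (ZMod (p ^ n)) × Multiplicative (ZMod (p ^ n))) × H) := by
  have hab' : ∀ x ∈ S, ∀ y ∈ S, x * y = y * x := fun x hx y hy =>
    congrArg Subtype.val (hab.1.1 ⟨x, hx⟩ ⟨y, hy⟩)
  constructor
  · rintro h ⟨n, H, _, hn, ⟨f⟩⟩
    obtain ⟨m, rfl⟩ : ∃ m, n = m + 1 := ⟨n - 1, by omega⟩
    haveI : NeZero (p ^ (m + 1)) := ⟨pow_ne_zero _ (Fact.out : p.Prime).ne_zero⟩
    obtain ⟨F, hF, hnot⟩ := Cfsg.Lib.FusionSys.not_supersoluble_of_repeat hS hab'
      (Multiplicative.ofAdd ((p ^ m : ℕ) : ZMod (p ^ (m + 1)))) (fun h1 => by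
        have h2 : ((p ^ m : ℕ) : ZMod (p ^ (m + 1))) = 0 := h1
        rw [ZMod.natCast_eq_zero_iff, Nat.pow_dvd_pow_iff_le_right (Fact.out : p.Prime).one_lt] at h2
        omega)
      (by
        rw [← ofAdd_nsmul, nsmul_eq_mul, ← Nat.cast_mul, ← pow_succ', ZMod.natCast_self, ofAdd_zero])
      f
    exact hnot (h F hF)
  · intro hno F hF
    exact Cfsg.Lib.FusionSys.exists_supersoluble_chain hS hab' hno F hF

end Cfsg.Agent.S5284
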