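import Cfsg.Statements.S5287
import Cfsg.Agent.Lib.FusionSys.MetacyclicType
import Cfsg.Agent.S5283
import Cfsg.Agent.S5284
import Cfsg.Agent.S5234
import Cfsg.Agent.S5235
import Cfsg.Agent.S3742
import Cfsg.Agent.S3116

set_option autoImplicit false
open Cfsg

namespace Cfsg.Agent.S5287

open Cfsg.Lib.FusionSys

/-- For a `2`-group, coprime automorphism groups are trivial once the automorphism group is a `2`-group. -/
theorem eq_one_of_coprime {X : Type*} [Group X] [Finite X] {p : ℕ} [Fact p.Prime] (hA : IsPGroup p (MulAut X))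
    (H : Subgroup (MulAut X)) (hcop : (Nat.card H).Coprime p) : H = ⊥ := by
  obtain ⟨k, hk⟩ := IsPGroup.iff_card.mp (hA.to_subgroup H)
  rw [hk] at hcop
  refine Subgroup.card_eq_one.mp ?_
  rw [hk]
  exact (Nat.coprime_self _).mp (Nat.Coprime.pow_right k hcop)

/-- Let S be a finite metacyclic p-group (an extension of a cyclic group by a cyclic group). Every saturated fusion system over S is supersoluble (S has a chain of F-strongly closed subgroups from 1 to S with cyclic steps) if and only if S is not homocyclic of rank two (isomorphic to Z/p^n × Z/p^n with n ≥ 1) and, when p = 2, S is not dihedral of order at least 4, not quasi-dihedral (semidihedral) and not generalized quaternion of order at least 8. -/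
theorem result {Ω : Type*} [Group Ω] {S : Subgroup Ω} [Finite S] (p : ℕ) [Fact p.Prime] (hS : IsPGroup p ↥S) (hm : Cfsg.IsMetacyclic ↥S) : (∀ F : Cfsg.FusionSystem S, F.IsSaturated p → (∃ (m : ℕ) (c : Fin (m + 1) → Subgroup Ω), c 0 = ⊥ ∧ c (Fin.last m) = S ∧ (∀ i : Fin (m + 1), F.StronglyClosed (c i)) ∧ ∀ i : Fin m, c i.castSucc ≤ c i.succ ∧ ∃ x ∈ S, c i.succ = c i.castSucc ⊔ Subgroup.zpowers x)) ↔ ¬ ((∃ n : ℕ, 0 < n ∧ Nonempty (↥S ≃* Multiplicative (ZMod (p ^ n)) × Multiplicative (ZMod (p ^ n)))) ∨ (p = 2 ∧ ((∃ n : ℕ, 2 ≤ n ∧ Nonempty (↥S ≃* DihedralGroup n)) ∨ Cfsg.IsQuasiDihedral ↥S ∨ (∃ n : ℕ, 2 ≤ n ∧ Nonempty (↥S ≃* QuaternionGroup n))))) := by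
  classical
  haveI : NeZero p := ⟨(Fact.out : p.Prime).ne_zero⟩
  constructor
  · intro h hbad
    have hhom : ∀ n : ℕ, 0 < n →
        ¬ Nonempty (↥S ≃* Multiplicative (ZMod (p ^ n)) × Multiplicative (ZMod (p ^ n))) := by
      rintro n hn ⟨e⟩
      have hab : IsMulCommutative S := ⟨⟨fun a b => e.injective (by rw [map_mul, map_mul, mul_comm])⟩⟩
      exact (Cfsg.Agent.S5284.result p hS hab).mp h
        ⟨n, PUnit, inferInstance, hn, ⟨e.trans MulEquiv.prodUnique.symm⟩⟩
    obtain ⟨hres, hexp⟩ := (Cfsg.Agent.S5283.result p hS).mp h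
    rcases hbad with ⟨n, hn, he⟩ | ⟨rfl, hbad⟩
    · exact hhom n hn he
    rcases hbad with ⟨n, hn, ⟨e⟩⟩ | hqd | ⟨n, hn, ⟨e⟩⟩
    · obtain ⟨k, hk⟩ := IsPGroup.iff_card.mp hS
      rw [Nat.card_congr e.toEquiv, DihedralGroup.nat_card] at hk
      obtain ⟨j, -, rfl⟩ := (Nat.dvd_prime_pow Nat.prime_two).mp (Dvd.intro_left 2 hk : n ∣ 2 ^ k)
      rcases j with _ | _ | j
      · simp at hn
      · obtain ⟨u⟩ := MetacyclicType.klein_equiv
        exact hhom 1 one_pos ⟨e.trans (by simpa using u)⟩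
      · have h4 : 4 ≤ 2 ^ (j + 2) := Nat.pow_le_pow_right two_pos (by omega : 2 ≤ j + 2)
        exact MetacyclicType.not_resistant_dihedral
          (Cfsg.Agent.S3116.result hS (Or.inl ⟨_, h4, ⟨e⟩⟩)) (by omega) e hres
    · exact MetacyclicType.not_resistant_quasiDihedral
        (Cfsg.Agent.S3116.result hS (Or.inr hqd)) hqd hres
    · obtain ⟨k, hk⟩ := IsPGroup.iff_card.mp hS
      haveI : NeZero n := ⟨by omega⟩
      rw [Nat.card_congr e.toEquiv, Nat.card_eq_fintype_card, QuaternionGroup.card] at hk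
      obtain ⟨j, -, rfl⟩ := (Nat.dvd_prime_pow Nat.prime_two).mp (Dvd.intro_left 4 hk : n ∣ 2 ^ k)
      rcases j with _ | _ | j
      · simp at hn
      · obtain ⟨u⟩ := Cfsg.Agent.S3742.result
        let v : MulAut S ≃* Equiv.Perm (Fin 4) :=
          (MulAut.congr e).trans u
        let σ : Equiv.Perm (Fin 4) := Equiv.swap 0 1 * Equiv.swap 1 2
        have h3 : orderOf σ = 3 := orderOf_eq_prime (by decide) (by decide)
        have hv : orderOf (v.symm σ) = 3 := by
          rw [← h3]; exact orderOf_injective v.symm.toMonoidHom v.symm.injective σ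
        have h1 := (hexp (Subgroup.zpowers (v.symm σ))
          (by rw [Nat.card_zpowers, hv]; norm_num)).2 _ (Subgroup.mem_zpowers _)
        rw [pow_one] at h1
        rw [h1, orderOf_one] at hv
        omega
      · refine MetacyclicType.not_resistant_quaternion ?_ (by omega) e hres
        by_contra hA
        rcases Cfsg.Agent.S1896.result hS hm hA with ⟨⟨e'⟩⟩ | ⟨m, ⟨e'⟩⟩
        · have h1 := Nat.card_congr (e.symm.trans e').toEquiv
          rw [Nat.card_eq_fintype_card, Nat.card_eq_fintype_card, QuaternionGroup.card,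
            QuaternionGroup.card] at h1
          have : 4 ≤ 2 ^ (j + 2) := Nat.pow_le_pow_right two_pos (by omega : 2 ≤ j + 2)
          omega
        · rcases Nat.eq_zero_or_pos m with rfl | hm0
          · have h1 := Nat.card_congr (e.symm.trans e').toEquiv
            rw [Nat.card_eq_fintype_card, QuaternionGroup.card] at h1
            simp at h1
          · exact hhom m hm0 ⟨e'⟩
  · intro hno
    by_cases hab : IsMulCommutative S
    · refine (Cfsg.Agent.S5284.result p hS hab).mpr ?_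
      rintro ⟨n, H, _, hn, ⟨e⟩⟩
      exact hno (Or.inl ⟨n, hn, MetacyclicType.repeat_homocyclic hS hm hn e⟩)
    refine (Cfsg.Agent.S5283.result p hS).mpr ?_
    have hsc : ∀ F : Cfsg.FusionSystem S, F.StronglyClosed S :=
      fun F => ⟨le_rfl, fun R _ φ hφ x => (F.le_of_mem hφ).2 x⟩
    by_cases hp : p = 2
    · subst hp
      have hcomm : ∀ {Y : Type} [Group Y], IsMulCommutative Y → IsEmpty (↥S ≃* Y) := fun hY =>
        ⟨fun e => hab ⟨⟨fun a b => e.injective (by rw [map_mul, map_mul]; exact hY.1.1 _ _)⟩⟩⟩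
      have hd : ¬ ∃ m : ℕ, Nonempty (↥S ≃* DihedralGroup m) := by
        rintro ⟨m, ⟨e⟩⟩
        rcases m with _ | _ | m
        · have h1 := Nat.card_congr e.toEquiv
          rw [DihedralGroup.nat_card, mul_zero] at h1
          exact Nat.card_pos.ne' h1
        · exact (hcomm ⟨⟨fun a b => by revert a b; decide⟩⟩).false e
        · exact hno (Or.inr ⟨rfl, Or.inl ⟨m + 2, by omega, ⟨e⟩⟩⟩)
      have hq : ¬ ∃ m : ℕ, Nonempty (↥S ≃* QuaternionGroup m) := by
        rintro ⟨m, ⟨e⟩⟩
        rcases m with _ | _ | m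
        · haveI : Finite (QuaternionGroup 0) := Finite.of_equiv _ e.toEquiv
          haveI : Finite ℤ := Finite.of_injective (QuaternionGroup.a (n := 0) : ℤ → QuaternionGroup 0)
            fun a b h => by injection h
          exact not_finite ℤ
        · exact (hcomm ⟨⟨fun a b => by revert a b; decide⟩⟩).false e
        · exact hno (Or.inr ⟨rfl, Or.inr (Or.inr ⟨m + 2, by omega, ⟨e⟩⟩)⟩)
      have hsd : ¬ Cfsg.IsQuasiDihedral S := fun h => hno (Or.inr ⟨rfl, Or.inr (Or.inl h)⟩)
      refine ⟨fun F hF => Cfsg.Agent.S5235.result 2 hS F hF S (hsc F) rfl hm hd hq hsd,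
        fun H hcop => ?_⟩
      have hA : IsPGroup 2 (MulAut S) := by
        by_contra hA
        rcases Cfsg.Agent.S1896.result hS hm hA with he | ⟨m, ⟨e⟩⟩
        · exact hq ⟨2, he⟩
        · exact hab ⟨⟨fun a b => e.injective (by rw [map_mul, map_mul, mul_comm])⟩⟩
      obtain rfl := eq_one_of_coprime hA H hcop
      exact ⟨inferInstance, fun h hh => by rw [Subgroup.mem_bot.mp hh, one_pow]⟩
    · exact ⟨fun F hF => Cfsg.Agent.S5234.result p hS F hF S (hsc F) hp hm,
        fun H hcop => MetacyclicType.abelian_exponent_of_odd hp hS hm hab H hcop⟩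

end Cfsg.Agent.S5287
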