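import Cfsg.Statements.S5289
import Cfsg.Agent.Lib.FusionSys.RankTwoEssential
-- import your own Cfsg.Agent.* helpers here

set_option autoImplicit false
open Cfsg

namespace Cfsg.Agent.S5289

universe u

open Cfsg.FusionSystem
open Cfsg.Lib.FusionSys
open Cfsg.Lib.FusionSys.RankTwo
open Cfsg.Lib.PGroup
open scoped commutatorElement

variable {p : ℕ} [hp : Fact p.Prime]

/-- No essential subgroup has an extraspecial subgroup of elements of order `p`. -/
theorem cube_case {Ω : Type u} [Group Ω] {S : Subgroup Ω} [Finite S] (hS : IsPGroup p S)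
    {F : FusionSystem S} (hF : F.IsSaturated p) (hp5 : 5 ≤ p)
    (hrk3 : ∀ E : Subgroup Ω, E ≤ S → Cfsg.IsElementaryAbelian p E → Nat.card E ≤ p ^ 2)
    {P : Subgroup Ω} [Finite P] (hP : F.IsEssential p P) (hPG : IsPGroup p P)
    (hrk : ∀ E : Subgroup P, Cfsg.IsElementaryAbelian p E → Nat.card E ≤ p ^ 2)
    (hW : Nat.card (omega (show 3 < p by omega) hPG hrk (G := P)) = p ^ 3) : False := by
  have hp3 : 3 < p := by omega
  have hp2 : p ≠ 2 := by omega
  have hPS : P ≤ S := hP.1.1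
  set W := omega hp3 hPG hrk (G := P) with hWdef
  have hWinv : ∀ (α : MulAut P) (x : P), x ∈ W → α x ∈ W := fun α x hx => by
    rw [hWdef, mem_omega, ← map_pow, (show x ^ p = 1 from hx), map_one]
  have hexp : ∀ w : W, w ^ p = 1 := fun w => Subtype.ext w.2
  have hna : ¬ IsMulCommutative W := fun h => by
    have h2 := hrk W ⟨h, fun a ha => ha⟩
    rw [hW] at h2
    exact absurd h2 (not_le.mpr (Nat.pow_lt_pow_right hp.out.one_lt (by norm_num)))
  obtain ⟨hZc, hq, -, hinner⟩ := Plane.cube_data hW hexp hna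
  have hexpV : ∀ v : W ⧸ Subgroup.center W, v ^ p = 1 := fun v =>
    QuotientGroup.induction_on v fun w => by rw [← QuotientGroup.mk_pow, hexp, QuotientGroup.mk_one]
  set r := (quotAct.comp (res W hWinv)).comp (F.autGroup P).subtype with hr
  -- an element of the kernel induces an inner automorphism of `W`
  have hkin : ∀ a : ↥(F.autGroup P), r a = 1 → ∃ w : W, res W hWinv (a : MulAut P) = MulAut.conj w := by
    intro a ha
    refine hinner _ fun x => ?_
    rw [← QuotientGroup.eq_one_iff, QuotientGroup.mk_mul, QuotientGroup.mk_inv, mul_inv_eq_one]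
    exact DFunLike.congr_fun ha (x : W ⧸ Subgroup.center W)
  have hker : IsPGroup p r.ker := by
    rintro ⟨a, ha⟩
    obtain ⟨w, hw⟩ := hkin a (MonoidHom.mem_ker.mp ha)
    obtain ⟨k, hk⟩ := exists_pow_eq_one_of_fix hp2 hPG (α := (a : MulAut P)) fun x hx => by
      have h1 : res W hWinv ((a : MulAut P) ^ p) = 1 := by
        rw [map_pow, hw, ← map_pow, hexp, map_one]
      exact congrArg Subtype.val (DFunLike.congr_fun h1 (⟨x, hx⟩ : W))
    exact ⟨k, Subtype.ext (Subtype.ext (by simpa using hk))⟩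
  set N := normalizerIn S P with hN
  obtain ⟨hIker, -, e, f, g, d, ψ, he, hf, hgP, hge, hgf, hdcl, hde, hdf, hψiso, hψ, hcoset, hgen, hdu⟩ :=
    frame hS hF hp2 hP hPS hq hexpV r hker
  haveI : Finite N := finite_of_le (normalizerIn_le P)
  have hNp : IsPGroup p N := hS.to_le (normalizerIn_le P)
  have hPN : P ≤ N := le_normalizerIn hPS
  -- the centraliser of `W` in `P`
  set C : Subgroup P := Subgroup.centralizer (W : Set P) with hC
  have hPWC : ∀ x : P, ∃ w ∈ W, w⁻¹ * x ∈ C := by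
    intro x
    have hmem : MulAut.conj x ∈ F.autGroup P := inn_le_autGroup hPS ⟨x, rfl⟩
    obtain ⟨w, hw⟩ := hkin ⟨_, hmem⟩ (MonoidHom.mem_ker.mp
      (hIker (show (⟨_, hmem⟩ : F.autGroup P) ∈ (Inn P).subgroupOf (F.autGroup P) from ⟨x, rfl⟩)))
    refine ⟨w, w.2, Subgroup.mem_centralizer_iff.mpr fun v hv => ?_⟩
    have h1 : x * v * x⁻¹ = (w : P) * v * (w : P)⁻¹ :=
      congrArg Subtype.val (DFunLike.congr_fun hw (⟨v, hv⟩ : W))
    calc v * ((w : P)⁻¹ * x) = (w : P)⁻¹ * ((w : P) * v * (w : P)⁻¹) * x := by group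
      _ = (w : P)⁻¹ * (x * v * x⁻¹) * x := by rw [h1]
      _ = (w : P)⁻¹ * x * v := by group
  haveI hZnt : Nontrivial ↥(Subgroup.center W) := Finite.one_lt_card_iff_nontrivial.mp
    (by rw [hZc]; exact hp.out.one_lt)
  obtain ⟨z, hz1⟩ := exists_ne (1 : ↥(Subgroup.center W))
  set z' : P := ((z : W) : P) with hz'
  have hz'1 : z' ≠ 1 := fun h => hz1 (Subtype.ext (Subtype.ext h))
  have hz'p : z' ^ p = 1 := (z : W).2
  have hz'C : z' ∈ C := Subgroup.mem_centralizer_iff.mpr fun v hv =>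
    congrArg Subtype.val (Subgroup.mem_center_iff.mp z.2 ⟨v, hv⟩)
  have hCW : ∀ x ∈ C, x ^ p = 1 → x ∈ Subgroup.zpowers z' := by
    intro x hx hxp
    have h1 : (⟨x, hxp⟩ : W) ∈ Subgroup.center W := Subgroup.mem_center_iff.mpr fun v =>
      Subtype.ext (Subgroup.mem_centralizer_iff.mp hx v v.2)
    obtain ⟨i, hi⟩ := mem_zpowers_of_prime_card hZc hz1 (g' := (⟨_, h1⟩ : Subgroup.center W))
    refine ⟨i, ?_⟩
    have := congrArg (fun y : Subgroup.center W => ((y : W) : P)) hi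
    simpa [hz'] using this
  haveI hCcyc : IsCyclic C :=
    Cfsg.Lib.Local.QdRankTwo.isCyclic_of_unique hp2 C (hPG.to_subgroup C) hz'p hCW
  obtain ⟨⟨c, hcC⟩, hcgen⟩ := IsCyclic.exists_generator (α := C)
  have hCnat : ∀ x ∈ C, ∃ k : ℕ, c ^ k = x := by
    intro x hx
    obtain ⟨k, hk⟩ := mem_powers_iff_mem_zpowers.mpr (hcgen ⟨x, hx⟩)
    exact ⟨k, congrArg Subtype.val hk⟩
  have hc1 : c ≠ 1 := by
    rintro rfl
    obtain ⟨k, hk⟩ := hCnat z' hz'C
    exact hz'1 (by rw [← hk, one_pow])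
  have hpc : p ∣ orderOf c := by
    obtain ⟨k, hk⟩ := IsPGroup.iff_orderOf.mp hPG c
    rcases Nat.eq_zero_or_pos k with h | h
    · rw [h, pow_zero, orderOf_eq_one_iff] at hk
      exact absurd hk hc1
    · rw [hk]
      exact dvd_pow_self p h.ne'
  have hcmod : ∀ i j : ℕ, c ^ i = c ^ j → i ≡ j [MOD p] := fun i j h =>
    (pow_eq_pow_iff_modEq.mp h).of_dvd hpc
  have hcW : ∀ w ∈ W, Commute c w := fun w hw => (Subgroup.mem_centralizer_iff.mp hcC w hw).symm
  have hccen : ∀ x : P, Commute c x := by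
    intro x
    obtain ⟨w, hw, hwx⟩ := hPWC x
    obtain ⟨k, hk⟩ := hCnat _ hwx
    rw [← mul_inv_cancel_left w x, ← hk]
    exact (hcW w hw).mul_right ((Commute.refl c).pow_right k)
  have hautC : ∀ α : MulAut P, ∃ l : ℕ, α c = c ^ l := by
    intro α
    obtain ⟨l, hl⟩ := hCnat (α c) (Subgroup.mem_centralizer_iff.mpr fun v hv => by
      have h1 : α⁻¹ v ∈ W := hWinv α⁻¹ v hv
      have h2 := congrArg α (Subgroup.mem_centralizer_iff.mp hcC _ h1)
      rwa [map_mul, map_mul, ← MulAut.mul_apply, mul_inv_cancel, MulAut.one_apply] at h2)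
    exact ⟨l, hl.symm⟩
  -- products of `p`-elements act trivially on `C` modulo `p`-th powers
  have hQ : ∀ α ∈ Subgroup.closure {a : ↥(F.autGroup P) | ∃ k, a ^ p ^ k = 1},
      ∃ m : ℕ, (α : MulAut P) c = c ^ (1 + p * m) := by
    intro α hα
    have hmul : ∀ a b : MulAut P, (∃ m : ℕ, a c = c ^ (1 + p * m)) → (∃ m : ℕ, b c = c ^ (1 + p * m)) →
        ∃ m : ℕ, (a * b) c = c ^ (1 + p * m) := by
      rintro a b ⟨m, hm⟩ ⟨m', hm'⟩
      refine ⟨m + m' + p * (m * m'), ?_⟩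
      rw [MulAut.mul_apply, hm', map_pow, hm, ← pow_mul]
      ring_nf
    refine Subgroup.closure_induction (p := fun (a : ↥(F.autGroup P)) _ => ∃ m : ℕ, (a : MulAut P) c = c ^ (1 + p * m))
      ?_ ⟨0, by simp⟩ (fun a b _ _ ha hb => hmul _ _ ha hb) ?_ hα
    · rintro a ⟨k, hk⟩
      obtain ⟨l, hl⟩ := hautC a
      have hiter : ∀ n : ℕ, ((a : MulAut P) ^ n) c = c ^ l ^ n := by
        intro n
        induction n with
        | zero => simp
        | succ n ih => rw [pow_succ', MulAut.mul_apply, ih, map_pow, hl, ← pow_mul, ← pow_succ']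
      have h1 := hiter (p ^ k)
      rw [← SubgroupClass.coe_pow, hk] at h1
      have h2 : 1 ≡ l ^ p ^ k [MOD p] := hcmod 1 _ (by simpa using h1)
      have h3 : l ^ p ^ k ≡ l [MOD p] := by
        rw [← ZMod.natCast_eq_natCast_iff, Nat.cast_pow, ZMod.pow_card_pow]
      have hl1 : 1 ≤ l + orderOf c := by have := orderOf_pos c; omega
      obtain ⟨m, hm⟩ : p ∣ l + orderOf c - 1 := by
        refine (Nat.modEq_iff_dvd' hl1).mp ((h2.trans h3).trans ?_)
        exact (Nat.ModEq.add_left l (Nat.modEq_zero_iff_dvd.mpr hpc)).symm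
      exact ⟨m, by rw [hl, ← hm, Nat.add_sub_cancel' hl1, pow_add, pow_orderOf_eq_one, mul_one]⟩
    · intro a _ ha
      haveI : Finite ↥(F.autGroup P) := Finite.of_injective
        (fun a : F.autGroup P => ((a : MulAut P) : P → P))
        (DFunLike.coe_injective.comp Subtype.val_injective)
      obtain ⟨k, hk⟩ := mem_powers_iff_mem_zpowers.mpr
        (inv_mem (Subgroup.mem_zpowers (a : ↥(F.autGroup P))))
      have hk' : a ^ k = a⁻¹ := hk
      rw [← hk']
      clear hk hk'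
      induction k with
      | zero => exact ⟨0, by simp⟩
      | succ k ih => rw [pow_succ, Subgroup.coe_mul]; exact hmul _ _ ih ha
  -- the element `g` centralises `C`
  set u := ((cA F hPS g : ↥(F.autGroup P)) : MulAut P) with hu
  have huc : u c = c := by
    obtain ⟨y, hy⟩ := hdu
    have h1 : (d : MulAut P) * u * (d : MulAut P)⁻¹ = MulAut.conj y * u ^ 4 := by
      rw [hy]; simp [hu]
    obtain ⟨l, hl⟩ := hautC u
    obtain ⟨m, hm⟩ := hautC (d : MulAut P)
    have h2 : ((d : MulAut P) * u) c = (u * (d : MulAut P)) c := by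
      rw [MulAut.mul_apply, MulAut.mul_apply, hl, hm, map_pow, map_pow, hl, hm, ← pow_mul, ← pow_mul,
        mul_comm]
    have h3 : ((d : MulAut P) * u) c = (MulAut.conj y * u ^ 4 * (d : MulAut P)) c := by
      rw [← h1, inv_mul_cancel_right]
    have hy' : ∀ n : ℕ, MulAut.conj y (c ^ n) = c ^ n := fun n => by
      rw [MulAut.conj_apply, ← ((hccen y).pow_left n).eq, mul_inv_cancel_right]
    have h4 : u c = (u ^ 4) c := by
      have h5 : u (c ^ m) = (u ^ 4) (c ^ m) := by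
        rw [h2, MulAut.mul_apply, hm, MulAut.mul_apply, MulAut.mul_apply, hm] at h3
        obtain ⟨l', hl'⟩ := hautC (u ^ 4)
        rw [h3, map_pow (u ^ 4), hl', ← pow_mul, hy']
      -- `c ^ m` generates `C`
      obtain ⟨n, hn⟩ := hautC ((d : MulAut P)⁻¹)
      have h6 : c = (c ^ m) ^ n := by
        have h7 := congrArg (d : MulAut P) hn
        rwa [← MulAut.mul_apply, mul_inv_cancel, MulAut.one_apply, map_pow, hm] at h7
      rw [h6, map_pow u (c ^ m), map_pow (u ^ 4) (c ^ m), h5]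
    have h8 : (u ^ 3) c = c := by
      apply u.injective
      rw [← MulAut.mul_apply, ← pow_succ', ← h4]
    obtain ⟨k, hk⟩ := hNp g
    have hup : u ^ p ^ k = 1 := by
      rw [hu, ← SubgroupClass.coe_pow, ← map_pow, hk, map_one, Subgroup.coe_one]
    exact Plane.mem_of_pow_mem (H := MulAction.stabilizer (MulAut P) c) hup
      (Nat.not_dvd_of_pos_of_lt (by norm_num) hp3) h8
  have hgc : (g : Ω) * (c : Ω) = (c : Ω) * g :=
    commute_of_conj_eq (congrArg Subtype.val huc)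
  -- `N`: `C` is central and `N / C` has order at most `p ^ 3`
  set cN : N := ⟨(c : Ω), hPN c.2⟩ with hcN
  have hcNg : Commute g cN := Subtype.ext hgc
  have hcNcen : cN ∈ Subgroup.center N := by
    rw [Subgroup.mem_center_iff]
    intro n
    obtain ⟨i, hi⟩ := hgen n
    have h1 : Commute cN ⟨_, hPN hi⟩ := Subtype.ext (congrArg (fun x : P => (x : Ω)) (hccen ⟨_, hi⟩).eq :)
    have h2 : n = g ^ i * ⟨_, hPN hi⟩ := Subtype.ext (mul_inv_cancel_left _ _).symm
    rw [h2]
    exact ((hcNg.symm.pow_right i).mul_right h1).eq.symm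
  -- the subgroup `W` inside `N`
  set WN : Subgroup N := W.map (Subgroup.inclusion hPN) with hWN
  haveI hWNn : WN.Normal := by
    refine ⟨fun x hx n => ?_⟩
    obtain ⟨w, hw, rfl⟩ := hx
    exact ⟨((cA F hPS n : ↥(F.autGroup P)) : MulAut P) w, hWinv _ w hw, Subtype.ext rfl⟩
  have hWNp : ∀ x ∈ WN, x ^ p = 1 := by
    rintro _ ⟨w, hw, rfl⟩
    rw [← map_pow, (show w ^ p = 1 from hw), map_one]
  have hdecomp : ∀ n : N, ∃ (i k : ℕ) (w : P), w ∈ W ∧ n = g ^ i * Subgroup.inclusion hPN w * cN ^ k := by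
    intro n
    obtain ⟨i, hi⟩ := hgen n
    obtain ⟨w, hw, hwC⟩ := hPWC ⟨_, hi⟩
    obtain ⟨k, hk⟩ := hCnat _ hwC
    refine ⟨i, k, w, hw, Subtype.ext ?_⟩
    have h1 := congrArg Subtype.val hk
    simp only [SubgroupClass.coe_pow, Subgroup.coe_mul, InvMemClass.coe_inv] at h1
    simp [hcN, h1, mul_assoc]
  have hcomm : ∀ x y : N, ⁅x, y⁆ ∈ WN := by
    intro x y
    rw [← QuotientGroup.eq_one_iff, ← QuotientGroup.mk'_apply, map_commutatorElement,
      commutatorElement_eq_one_iff_mul_comm]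
    obtain ⟨i, k, w, hw, rfl⟩ := hdecomp x
    obtain ⟨i', k', w', hw', rfl⟩ := hdecomp y
    have hw1 : ∀ v ∈ W, QuotientGroup.mk' WN (Subgroup.inclusion hPN v) = 1 := fun v hv =>
      (QuotientGroup.eq_one_iff _).mpr ⟨v, hv, rfl⟩
    simp only [map_mul, map_pow, hw1 w hw, hw1 w' hw', mul_one]
    have hA : Commute (QuotientGroup.mk' WN g) (QuotientGroup.mk' WN cN) := hcNg.map _
    exact ((((Commute.refl _).pow_pow i i').mul_right (hA.pow_pow i k')).mul_left
      (((hA.pow_pow i' k).symm).mul_right ((Commute.refl _).pow_pow k k'))).eq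
  have hcommp : ∀ x ∈ commutator N, x ^ p ^ 1 = 1 := by
    intro x hx
    rw [pow_one]
    refine hWNp x ?_
    rw [commutator_eq_closure] at hx
    refine (Subgroup.closure_le _).mpr ?_ hx
    rintro _ ⟨a, b, rfl⟩
    exact hcomm a b
  -- the power law
  set Cn := Subgroup.zpowers cN with hCn
  have hCncen : Cn ≤ Subgroup.center N := Subgroup.zpowers_le.mpr hcNcen
  haveI : Cn.Normal := ⟨fun x hx n => by
    rw [Subgroup.mem_center_iff.mp (hCncen hx) n, mul_inv_cancel_right]; exact hx⟩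
  have hgpP : ((g : Ω) ^ p) ∈ P := by
    have hfix : r (cA F hPS (g ^ p)) = 1 := by
      have hfixe : ∀ n : ℕ, (r (cA F hPS g) ^ n) e = e :=
        exists_pow_eq_one_of_fix.smul_fix (G := W ⧸ Subgroup.center W) _ e hge
      refine Plane.aut_ext hq hexpV he hf ?_ ?_
      · rw [map_pow, map_pow, hfixe, MulAut.one_apply]
      · have : ∀ n : ℕ, (r (cA F hPS g) ^ n) f = e ^ n * f := by
          intro n
          induction n with
          | zero => simp
          | succ n ih =>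
            rw [pow_succ', MulAut.mul_apply, ih, map_mul, map_pow, hge, hgf, ← mul_assoc, ← pow_succ]
        rw [map_pow, map_pow, this, hexpV, one_mul, MulAut.one_apply]
    obtain ⟨-, hIN, hIp, hO, hRp, hRI⟩ := basic hS hF hP
    have hkerI := Plane.ker_eq hq hexpV r _ hIN hIp hO hker _ hRp hRI
    have h1 : cA F hPS (g ^ p) ∈ (Inn P).subgroupOf (F.autGroup P) :=
      hkerI ▸ MonoidHom.mem_ker.mpr hfix
    exact mem_of_conjAut_mem_inn (hP.1.2 P (isConj_refl F hPS)) hPS (g ^ p).2.1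
      (fun x => coe_cA hPS (g ^ p) x) (Subgroup.mem_subgroupOf.mp h1)
  have hNq : Nat.card (N ⧸ Cn) ≤ p ^ 3 := by
    have hsurj : Function.Surjective (fun x : Fin p × (W ⧸ Subgroup.center W) =>
        (((g ^ (x.1 : ℕ) * Subgroup.inclusion hPN (x.2.out : W) : N)) : N ⧸ Cn)) := by
      intro q
      obtain ⟨n, rfl⟩ := QuotientGroup.mk_surjective q
      obtain ⟨i, hi⟩ := hgen n
      -- reduce the exponent
      have h0 : ((g : Ω) ^ (i % p))⁻¹ * n ∈ P := by
        have h1 : ((g : Ω) ^ (i % p))⁻¹ * n = ((g : Ω) ^ p) ^ (i / p) * (((g : Ω) ^ i)⁻¹ * n) := by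
          have hkey : (g : Ω) ^ i = (g : Ω) ^ (i % p) * ((g : Ω) ^ p) ^ (i / p) := by
            rw [← pow_mul, ← pow_add, Nat.mod_add_div]
          rw [hkey]; group
        rw [h1]
        exact mul_mem (pow_mem hgpP _) hi
      obtain ⟨w, hw, hwC⟩ := hPWC ⟨_, h0⟩
      refine ⟨(⟨i % p, Nat.mod_lt _ hp.out.pos⟩, ((⟨w, hw⟩ : W) : W ⧸ Subgroup.center W)), ?_⟩
      obtain ⟨t, ht⟩ := QuotientGroup.mk_out_eq_mul (Subgroup.center W) (⟨w, hw⟩ : W)
      have htC : ((t : W) : P) ∈ C := Subgroup.mem_centralizer_iff.mpr fun v hv =>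
        congrArg Subtype.val (Subgroup.mem_center_iff.mp t.2 ⟨v, hv⟩)
      obtain ⟨k, hk⟩ := hCnat _ (mul_mem (inv_mem htC) hwC)
      refine QuotientGroup.eq.mpr ⟨k, ?_⟩
      refine Subtype.ext ?_
      have h1 := congrArg Subtype.val hk
      have h2 := congrArg (fun x : W => ((x : P) : Ω)) ht
      simp only [Subgroup.coe_mul] at h2
      simp only [SubgroupClass.coe_pow, Subgroup.coe_mul, InvMemClass.coe_inv] at h1
      simp [hcN, h1, h2, mul_assoc]
    calc Nat.card (N ⧸ Cn) ≤ Nat.card (Fin p × (W ⧸ Subgroup.center W)) :=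
          Nat.card_le_card_of_surjective _ hsurj
      _ = p ^ 3 := by rw [Nat.card_prod, Nat.card_fin, hq, ← pow_succ']
  have hlaw : Regular.PowLaw p N := by
    refine Regular.powLaw_of_lcs (eq_bot_iff.mpr ((Subgroup.lowerCentralSeries_antitone _
      (show 4 ≤ p - 1 by omega)).trans ?_))
    have h3 : (⊤ : Subgroup N).lowerCentralSeries 3 ≤ Cn := by
      rw [← QuotientGroup.ker_mk' Cn, ← Subgroup.map_eq_bot_iff, Subgroup.map_lowerCentralSeries,
        Subgroup.map_top_of_surjective _ (QuotientGroup.mk'_surjective _)]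
      exact Huppert.lcs_three_eq_bot (hNp.to_quotient Cn)
        (hNq.trans (Nat.pow_le_pow_right hp.out.pos (by norm_num)))
    rw [Subgroup.lowerCentralSeries_succ, Subgroup.commutator_le]
    intro x hx y _
    rw [Subgroup.mem_bot, commutatorElement_eq_one_iff_mul_comm]
    exact (Subgroup.mem_center_iff.mp (hCncen (h3 hx)) y).symm
  have hhom : ∀ a b : N, (a * b) ^ p = a ^ p * b ^ p := fun a b => by
    simpa using Regular.mul_pow_eq 1 hNp hlaw hcommp a b
  have hgpcen : ∀ x : N, Commute (g ^ p) x := by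
    intro x
    have h1 : (x * g * x⁻¹) ^ p = g ^ p := by
      rw [show x * g * x⁻¹ = ⁅x, g⁆ * g by group, hhom, hWNp _ (hcomm x g), one_mul]
    rw [conj_pow] at h1
    exact (mul_inv_eq_iff_eq_mul.mp h1).symm
  obtain ⟨k, hk⟩ := hCnat ⟨_, hgpP⟩ (Subgroup.mem_centralizer_iff.mpr fun v _ => Subtype.ext
    (congrArg (fun x : N => (x : Ω)) (hgpcen ⟨_, hPN v.2⟩).eq.symm :))
  have hk' : (c : Ω) ^ k = (g : Ω) ^ p := congrArg Subtype.val hk
  -- apply the extension
  set y : P := ⟨_, hcoset⟩ with hy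
  obtain ⟨w, hw, hwC⟩ := hPWC y
  obtain ⟨j, hj⟩ := hCnat _ hwC
  have hyp : ((y : P) : Ω) ^ p = (c : Ω) ^ (p * j) := by
    have h1 : y = w * c ^ j := by rw [hj, mul_inv_cancel_left]
    have h2 : y ^ p = c ^ (p * j) := by
      rw [h1, ((hcW w hw).symm.pow_right j).mul_pow, (show w ^ p = 1 from hw), one_mul, ← pow_mul,
        mul_comm]
    exact congrArg Subtype.val h2
  have hψg : ψ g = g ^ 4 * ⟨(y : Ω), hPN y.2⟩ := Subtype.ext (mul_inv_cancel_left _ _).symm
  obtain ⟨m, hm⟩ := hQ d hdcl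
  have hmain : c ^ (k * (1 + p * m)) = c ^ (4 * k + p * j) := by
    have h1 : ψ (g ^ p) = (g ^ p) ^ 4 * (⟨(y : Ω), hPN y.2⟩ : N) ^ p := by
      rw [map_pow, hψg, hhom, ← pow_mul, ← pow_mul, mul_comm 4 p]
    have h2 := congrArg (fun n : N => (n : Ω)) h1
    have hgp' : g ^ p = ⟨((⟨_, hgpP⟩ : P) : Ω), hPN hgpP⟩ := Subtype.ext rfl
    have h3 : (ψ (g ^ p) : Ω) = ((d : MulAut P) ⟨_, hgpP⟩ : Ω) := by
      rw [hgp']; exact hψ ⟨_, hgpP⟩ _
    simp only [Subgroup.coe_mul, SubgroupClass.coe_pow] at h2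
    rw [h3, ← hk, map_pow, hm, hyp, ← hk', ← pow_mul, ← pow_mul, ← pow_add, mul_comm (1 + p * m) k,
      mul_comm k 4, SubgroupClass.coe_pow] at h2
    exact Subtype.ext (by simpa using h2)
  have hpk : p ∣ k := by
    have h1 := hcmod _ _ hmain
    have hz : ((k * (1 + p * m) : ℕ) : ZMod p) = ((4 * k + p * j : ℕ) : ZMod p) :=
      (ZMod.natCast_eq_natCast_iff _ _ _).mpr h1
    push_cast at hz
    rw [ZMod.natCast_self, zero_mul, zero_mul, add_zero, add_zero, mul_one] at hz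
    have h3 : ((3 * k : ℕ) : ZMod p) = 0 := by push_cast; linear_combination -hz
    rw [ZMod.natCast_eq_zero_iff] at h3
    exact (hp.out.dvd_mul.mp h3).resolve_left (Nat.not_dvd_of_pos_of_lt (by norm_num) hp3)
  obtain ⟨k', rfl⟩ := hpk
  -- an element of order `p` outside `P`
  set g' : N := g * (cN ^ k')⁻¹ with hg'
  have hg'p : g' ^ p = 1 := by
    rw [hg', hhom, inv_pow, ← pow_mul, mul_inv_eq_one, mul_comm k' p]
    exact Subtype.ext (by simpa [hcN] using hk'.symm)
  have hg'P : (g' : Ω) ∉ P := by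
    intro h
    apply hgP
    have h1 : (g : Ω) = g' * (c : Ω) ^ k' := by simp [hg', hcN]
    rw [h1]
    exact mul_mem h (pow_mem c.2 _)
  have hrkN : ∀ E : Subgroup N, Cfsg.IsElementaryAbelian p E → Nat.card E ≤ p ^ 2 :=
    fun E hE => rank_of_le hrk3 (normalizerIn_le P) E hE
  have hle : WN ≤ omega hp3 hNp hrkN := hWNp
  have heq := Subgroup.eq_of_le_of_card_ge hle (by
    refine le_of_le_of_eq (card_omega_le hp3 hNp hrkN) ?_
    rw [hWN, Subgroup.card_map_of_injective (Subgroup.inclusion_injective hPN)]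
    exact hW.symm)
  obtain ⟨w', -, hw'⟩ := (show g' ∈ WN from heq ▸ hg'p)
  exact hg'P (hw' ▸ w'.2)

/-- The self-centralising elementary abelian essential subgroup only occurs for `p ^ (1 + 2)`. -/
theorem square_case {Ω : Type u} [Group Ω] {S : Subgroup Ω} [Finite S] (hS : IsPGroup p S)
    {F : FusionSystem S} (hF : F.IsSaturated p) (hp5 : 5 ≤ p)
    (hrk3 : ∀ E : Subgroup Ω, E ≤ S → Cfsg.IsElementaryAbelian p E → Nat.card E ≤ p ^ 2)
    (hnotE : ¬ (Nat.card S = p ^ 3 ∧ Monoid.exponent ↥S = p))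
    {P : Subgroup Ω} [Finite P] (hP : F.IsEssential p P) (hPc : Nat.card P = p ^ 2)
    (hexp : ∀ x : P, x ^ p = 1) : False := by
  have hp3 : 3 < p := by omega
  have hp2 : p ≠ 2 := by omega
  have hPS : P ≤ S := hP.1.1
  have hPG : IsPGroup p P := IsPGroup.of_card hPc
  set r := (F.autGroup P).subtype with hr
  have hker : IsPGroup p r.ker := fun a => ⟨0, by
    rw [pow_zero, pow_one]
    exact Subtype.ext ((F.autGroup P).subtype_injective ((MonoidHom.mem_ker.mp a.2).trans (map_one _).symm))⟩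
  set N := normalizerIn S P with hN
  obtain ⟨-, -, e, f, g, d, ψ, he, hf, hgP, hge, hgf, hdcl, hde, hdf, hψiso, hψ, hcoset, hgen, -⟩ :=
    frame hS hF hp2 hP hPS hPc hexp r hker
  have hNS : N ≤ S := normalizerIn_le P
  haveI : Finite N := finite_of_le hNS
  have hNp : IsPGroup p N := hS.to_le hNS
  have hPN : P ≤ N := le_normalizerIn hPS
  have hge' : (g : Ω) * e * (g : Ω)⁻¹ = e := congrArg Subtype.val hge
  have hgf' : (g : Ω) * f * (g : Ω)⁻¹ = (e : Ω) * f := congrArg Subtype.val hgf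
  set eN : N := ⟨(e : Ω), hPN e.2⟩ with heN
  set fN : N := ⟨(f : Ω), hPN f.2⟩ with hfN
  have hPcomm := Plane.comm (V := P) hPc
  have hge2 : Commute g eN := Subtype.ext (commute_of_conj_eq hge')
  have hdecomp : ∀ n : N, ∃ i a b : ℕ, n = g ^ i * eN ^ a * fN ^ b := by
    intro n
    obtain ⟨i, hi⟩ := hgen n
    obtain ⟨a, b, hab⟩ := Plane.exists_coords hPc hexp he hf ⟨_, hi⟩
    refine ⟨i, a, b, Subtype.ext ?_⟩
    have h1 := congrArg Subtype.val hab
    simp only [Subgroup.coe_mul, SubgroupClass.coe_pow] at h1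
    simp [heN, hfN, mul_assoc, ← h1]
  have hef : Commute eN fN := Subtype.ext (congrArg (fun x : P => (x : Ω)) (hPcomm e f) :)
  have hecen : eN ∈ Subgroup.center N := by
    rw [Subgroup.mem_center_iff]
    intro n
    obtain ⟨i, a, b, rfl⟩ := hdecomp n
    exact ((((hge2.symm).pow_right i).mul_right ((Commute.refl eN).pow_right a)).mul_right
      (hef.pow_right b)).eq.symm
  -- `g ^ p` is a power of `e`
  have hgp : ∃ i : ℕ, g ^ p = eN ^ i := by
    have hfix : r (cA F hPS (g ^ p)) = 1 := by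
      have hfixe : ∀ n : ℕ, (r (cA F hPS g) ^ n) e = e :=
        exists_pow_eq_one_of_fix.smul_fix (G := P) _ e hge
      refine Plane.aut_ext hPc hexp he hf ?_ ?_
      · rw [map_pow, map_pow, hfixe, MulAut.one_apply]
      · have : ∀ n : ℕ, (r (cA F hPS g) ^ n) f = e ^ n * f := by
          intro n
          induction n with
          | zero => simp
          | succ n ih =>
            rw [pow_succ', MulAut.mul_apply, ih, map_mul, map_pow, hge, hgf, ← mul_assoc, ← pow_succ]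
        rw [map_pow, map_pow, this, hexp, one_mul, MulAut.one_apply]
    have hmem : ((g ^ p : N) : Ω) ∈ P := by
      obtain ⟨-, hIN, hIp, hO, hRp, hRI⟩ := basic hS hF hP
      have hkerI := Plane.ker_eq hPc hexp r _ hIN hIp hO hker _ hRp hRI
      have h1 : cA F hPS (g ^ p) ∈ (Inn P).subgroupOf (F.autGroup P) :=
        hkerI ▸ MonoidHom.mem_ker.mpr hfix
      exact mem_of_conjAut_mem_inn (hP.1.2 P (isConj_refl F hPS)) hPS (g ^ p).2.1
        (fun x => coe_cA hPS (g ^ p) x) (Subgroup.mem_subgroupOf.mp h1)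
    obtain ⟨a, b, hab⟩ := Plane.exists_coords hPc hexp he hf ⟨_, hmem⟩
    refine ⟨a, ?_⟩
    have hu : r (cA F hPS g) ⟨_, hmem⟩ = ⟨_, hmem⟩ := Subtype.ext (by
      show (g : Ω) * ((g ^ p : N) : Ω) * (g : Ω)⁻¹ = ((g ^ p : N) : Ω)
      rw [SubgroupClass.coe_pow, ← ((Commute.refl (g : Ω)).pow_left p).eq, mul_inv_cancel_right])
    rw [hab, map_mul, map_pow, map_pow, hge, hgf, (show Commute e f from hPcomm e f).mul_pow] at hu
    have hb : e ^ b = 1 := by
      have := mul_left_cancel hu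
      exact mul_eq_right.mp this
    have hb' := Plane.modEq_of_pow_eq (hexp e) he (hb.trans (pow_zero e).symm)
    rw [Plane.pow_eq_pow_of_modEq (hexp f) hb', pow_zero, mul_one] at hab
    exact Subtype.ext (by simpa [heN] using congrArg Subtype.val hab)
  obtain ⟨i, hi⟩ := hgp
  -- powers of products
  have hcomm : ∀ x : N, ∀ y : P, ⁅Subgroup.inclusion hPN y, x⁆ ∈ Subgroup.zpowers eN := by
    intro x y
    obtain ⟨a, b, rfl⟩ := Plane.exists_coords hPc hexp he hf y
    obtain ⟨j, a', b', rfl⟩ := hdecomp x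
    rw [map_mul, map_pow, map_pow]
    haveI : (Subgroup.zpowers eN).Normal := ⟨fun x hx n => by
      rw [Subgroup.mem_center_iff.mp (Subgroup.zpowers_le.mpr hecen hx) n, mul_inv_cancel_right]
      exact hx⟩
    rw [← QuotientGroup.eq_one_iff, ← QuotientGroup.mk'_apply, map_commutatorElement,
      commutatorElement_eq_one_iff_mul_comm]
    have he1 : QuotientGroup.mk' (Subgroup.zpowers eN) eN = 1 :=
      (QuotientGroup.eq_one_iff _).mpr (Subgroup.mem_zpowers _)
    have hgf2 : Commute (QuotientGroup.mk' (Subgroup.zpowers eN) g)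
        (QuotientGroup.mk' (Subgroup.zpowers eN) fN) := by
      have h1 : g * fN = eN * fN * g := Subtype.ext (mul_inv_eq_iff_eq_mul.mp hgf')
      have h2 := congrArg (QuotientGroup.mk' (Subgroup.zpowers eN)) h1
      rwa [map_mul, map_mul, map_mul, he1, one_mul] at h2
    simp only [map_mul, map_pow, show Subgroup.inclusion hPN e = eN from rfl,
      show Subgroup.inclusion hPN f = fN from rfl, he1, one_pow, one_mul, mul_one]
    exact (((hgf2.symm).pow_pow b j).mul_right ((Commute.refl _).pow_pow b b')).eq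
  have hepow : ∀ z ∈ Subgroup.zpowers eN, z ^ p = 1 := by
    rintro _ ⟨n, rfl⟩
    have h1 : eN ^ p = 1 := Subtype.ext (congrArg (fun x : P => (x : Ω)) (hexp e) :)
    show (eN ^ n) ^ p = 1
    rw [← zpow_natCast, ← zpow_mul, mul_comm, zpow_mul, zpow_natCast, h1, one_zpow]
  have hpow : ∀ (x : N) (y : P), (x * Subgroup.inclusion hPN y) ^ p = x ^ p := by
    intro x y
    rw [Huppert.mul_pow_of_central_comm _ _ (Subgroup.zpowers_le.mpr hecen (hcomm x y))]
    obtain ⟨s, hs⟩ := hp.out.dvd_choose_self two_ne_zero (by omega : 2 < p)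
    rw [← map_pow, hexp, map_one, mul_one, hs, pow_mul, hepow _ (hcomm x y), one_pow, mul_one]
  -- `g` has order `p`
  have hgp1 : g ^ p = 1 := by
    have h1 : ψ (g ^ p) = eN ^ (2 * i) := by
      rw [hi, map_pow, pow_mul]
      congr 1
      exact Subtype.ext ((hψ e (hPN e.2)).trans (congrArg Subtype.val hde))
    have h2 : ψ (g ^ p) = eN ^ (4 * i) := by
      rw [map_pow, show ψ g = g ^ 4 * Subgroup.inclusion hPN ⟨_, hcoset⟩ from
        Subtype.ext (mul_inv_cancel_left _ _).symm, hpow, ← pow_mul, mul_comm, pow_mul, hi, ← pow_mul,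
        mul_comm]
    have h3 := h1.symm.trans h2
    have he1 : eN ≠ 1 := fun h => he (Subtype.ext (congrArg Subtype.val h :))
    have hep : eN ^ p = 1 := Subtype.ext (congrArg (fun x : P => (x : Ω)) (hexp e) :)
    have h4 : p ∣ 2 * i := by
      have h5 := Plane.modEq_of_pow_eq hep he1 h3
      have := (Nat.modEq_iff_dvd' (by omega : 2 * i ≤ 4 * i)).mp h5
      rwa [show 4 * i - 2 * i = 2 * i by omega] at this
    obtain ⟨t, ht⟩ := (hp.out.dvd_mul.mp h4).resolve_left (Nat.not_dvd_of_pos_of_lt (by norm_num) (by omega))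
    rw [hi, ht, pow_mul, hep, one_pow]
  have hexpN : ∀ n : N, n ^ p = 1 := by
    intro n
    obtain ⟨j, hj⟩ := hgen n
    rw [show n = g ^ j * Subgroup.inclusion hPN ⟨_, hj⟩ from Subtype.ext (mul_inv_cancel_left _ _).symm,
      hpow, ← pow_mul, mul_comm, pow_mul, hgp1, one_pow]
  have hrkN : ∀ E : Subgroup N, Cfsg.IsElementaryAbelian p E → Nat.card E ≤ p ^ 2 :=
    fun E hE => rank_of_le hrk3 hNS E hE
  have hNc : Nat.card N = p ^ 3 := by
    refine le_antisymm (Huppert.card_le_of_exponent hexpN hrkN) ?_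
    obtain ⟨n, hn⟩ := IsPGroup.iff_card.mp hNp
    rw [hn]
    refine Nat.pow_le_pow_right hp.out.pos ?_
    have h1 : p ^ 2 < p ^ n := by
      rw [← hPc, ← hn]
      exact lt_of_le_of_ne (Subgroup.card_le_of_le hPN) fun h =>
        hgP (le_of_eq (Subgroup.eq_of_le_of_card_ge hPN h.ge).symm g.2)
    exact (Nat.pow_lt_pow_iff_right hp.out.one_lt).mp h1
  have hnaN : ¬ IsMulCommutative N := by
    intro h
    have h1 : (g * fN : N) = fN * g := h.is_comm.comm g fN
    refine he (Subtype.ext ?_)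
    have h2 := congrArg (fun x : N => (x : Ω)) h1
    simp only [hfN, Subgroup.coe_mul] at h2
    rw [h2, mul_inv_cancel_right] at hgf'
    exact mul_eq_right.mp hgf'.symm
  have hSN : N ≠ S := by
    intro h
    apply hnotE
    rw [← h]
    refine ⟨hNc, (Nat.dvd_prime hp.out).mp (Monoid.exponent_dvd_of_forall_pow_eq_one hexpN)
      |>.resolve_left fun h1 => hnaN ?_⟩
    have := Monoid.exp_eq_one_iff.mp h1
    exact ⟨⟨fun a b => Subsingleton.elim _ _⟩⟩
  -- `N` is the set of elements of order `p` of `S`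
  have hrkS : ∀ E : Subgroup S, Cfsg.IsElementaryAbelian p E → Nat.card E ≤ p ^ 2 :=
    fun E hE => rank_of_le hrk3 le_rfl E hE
  have hNset : ∀ x ∈ S, x ^ p = 1 → x ∈ N := by
    have hle : N.subgroupOf S ≤ omega hp3 hS hrkS := fun x hx =>
      Subtype.ext (by simpa using congrArg Subtype.val (hexpN ⟨(x : Ω), hx⟩))
    have heq := Subgroup.eq_of_le_of_card_ge hle (by
      refine le_of_le_of_eq (card_omega_le hp3 hS hrkS) ?_
      rw [Nat.card_congr (Subgroup.subgroupOfEquivOfLe hNS).toEquiv, hNc])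
    intro x hx hxp
    exact (show (⟨x, hx⟩ : S) ∈ N.subgroupOf S from heq ▸ (Subtype.ext (by simpa using hxp)))
  have hnormS : normalizerIn S N = S := by
    refine le_antisymm (normalizerIn_le N) fun s hs => ⟨hs, ?_⟩
    show s ∈ Subgroup.normalizer (N : Set Ω)
    refine Subgroup.mem_normalizer_fintype fun n hn => ?_
    refine hNset _ (S.mul_mem (S.mul_mem hs (hNS hn)) (S.inv_mem hs)) ?_
    have h1 : n ^ p = 1 := congrArg Subtype.val (hexpN ⟨n, hn⟩)
    rw [conj_pow, h1, mul_one, mul_inv_cancel]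
  have hSle : S ≤ normalizerIn S N := hnormS.ge
  have hfn : F.IsFullyNormalized N := ⟨hNS, fun Q _ => by
    rw [hnormS]; exact card_le_of_le (normalizerIn_le Q)⟩
  have hNcen : F.IsCentric N := isCentric_mono hP.1 hPN hNS
  -- the action on the central quotient of `N`
  obtain ⟨hZc, hq, hcomZ, hinner⟩ := Plane.cube_data hNc hexpN hnaN
  have hexpV : ∀ v : N ⧸ Subgroup.center N, v ^ p = 1 := fun v =>
    QuotientGroup.induction_on v fun w => by rw [← QuotientGroup.mk_pow, hexpN, QuotientGroup.mk_one]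
  have hZe : Subgroup.zpowers eN = Subgroup.center N := by
    refine Subgroup.eq_of_le_of_card_ge (Subgroup.zpowers_le.mpr hecen) ?_
    rw [hZc, Nat.card_zpowers, orderOf_eq_prime (hexpN eN) fun h => he (Subtype.ext (congrArg Subtype.val h :))]
  let ρ : ↥(normalizerIn S N) →* ↥(F.autGroup N) := cA F hNS
  set r' : ↥(F.autGroup N) →* MulAut (N ⧸ Subgroup.center N) := quotAct.comp (F.autGroup N).subtype
    with hr'
  have hSNp : IsPGroup p ↥(normalizerIn S N) := hS.to_le (normalizerIn_le N)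
  haveI : Finite ↥(normalizerIn S N) := finite_of_le (normalizerIn_le N)
  obtain ⟨l, hl, hlfix, hltriv⟩ := Plane.unipotent hq hexpV hSNp (r'.comp ρ)
  have hkinner : ∀ a : ↥(F.autGroup N), r' a = 1 → ∃ n : N, (a : MulAut N) = MulAut.conj n := by
    intro a ha
    refine hinner _ fun x => ?_
    rw [← QuotientGroup.eq_one_iff, QuotientGroup.mk_mul, QuotientGroup.mk_inv, mul_inv_eq_one]
    exact DFunLike.congr_fun ha (x : N ⧸ Subgroup.center N)
  -- `ρ` detects membership in `N`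
  have hρN : ∀ s : ↥(normalizerIn S N), r' (ρ s) = 1 → (s : Ω) ∈ N := by
    intro s hs
    obtain ⟨n, hn⟩ := hkinner _ hs
    exact mem_of_conjAut_mem_inn (hNcen.2 N (isConj_refl F hNS)) hNS s.2.1
      (α := (ρ s : MulAut N)) (fun x => coe_cA hNS s x) ⟨n, hn.symm⟩
  set fb : N ⧸ Subgroup.center N := QuotientGroup.mk fN with hfb
  have hPmem : ∀ n : N, (QuotientGroup.mk n : N ⧸ Subgroup.center N) ∈ Subgroup.zpowers fb ↔ (n : Ω) ∈ P := by
    intro n
    constructor
    · rintro ⟨j, hj⟩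
      have h1 : (fN ^ j)⁻¹ * n ∈ Subgroup.zpowers eN := hZe ▸ QuotientGroup.eq.mp hj
      obtain ⟨t, ht⟩ := h1
      have h2 : n = fN ^ j * eN ^ t := by rw [show eN ^ t = _ from ht, mul_inv_cancel_left]
      rw [h2]
      simp only [Subgroup.coe_mul, SubgroupClass.coe_zpow, heN, hfN]
      exact mul_mem (zpow_mem f.2 _) (zpow_mem e.2 _)
    · intro hn
      obtain ⟨a, b, hab⟩ := Plane.exists_coords hPc hexp he hf ⟨_, hn⟩
      refine ⟨b, ?_⟩
      have h2 : n = eN ^ a * fN ^ b := Subtype.ext (by simpa [heN, hfN] using congrArg Subtype.val hab)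
      rw [h2, QuotientGroup.mk_mul, (QuotientGroup.eq_one_iff _).mpr (pow_mem hecen a), one_mul,
        QuotientGroup.mk_pow]
      exact zpow_natCast _ b
  have hfb1 : fb ≠ 1 := by
    intro h
    obtain ⟨t, ht⟩ := hZe.symm ▸ (QuotientGroup.eq_one_iff fN).mp h
    exact hf ⟨t, Subtype.ext (by simpa [heN, hfN] using congrArg Subtype.val ht)⟩
  have hPfix : ∀ s : ↥(normalizerIn S N), r' (ρ s) fb ∈ Subgroup.zpowers fb → (s : Ω) ∈ N := by
    intro s hs
    refine ⟨s.2.1, ?_⟩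
    show (s : Ω) ∈ Subgroup.normalizer (P : Set Ω)
    refine Subgroup.mem_normalizer_fintype fun x hx => ?_
    have h1 : ((QuotientGroup.mk ((ρ s : MulAut N) ⟨x, hPN hx⟩) : N ⧸ Subgroup.center N)) ∈
        Subgroup.zpowers fb := by
      obtain ⟨j, hj⟩ := (hPmem ⟨x, hPN hx⟩).mpr hx
      rw [show (QuotientGroup.mk ((ρ s : MulAut N) ⟨x, hPN hx⟩) : N ⧸ Subgroup.center N) =
        r' (ρ s) (QuotientGroup.mk (⟨x, hPN hx⟩ : N)) from rfl, ← hj]
      show r' (ρ s) (fb ^ j) ∈ _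
      rw [map_zpow]
      exact zpow_mem hs j
    exact (hPmem _).mp h1
  obtain ⟨s₁, hs₁S, hs₁N⟩ := SetLike.exists_of_lt (lt_of_le_of_ne hNS hSN)
  have hfl : fb ∉ Subgroup.zpowers l := by
    intro h
    refine hs₁N (hPfix ⟨s₁, hSle hs₁S⟩ ?_)
    obtain ⟨t, ht⟩ : ∃ t : ℤ, l ^ t = fb := h
    rw [← ht, map_zpow, (show r' (ρ ⟨s₁, hSle hs₁S⟩) l = l from hlfix _)]
    exact Subgroup.mem_zpowers _
  have hlf : l ∉ Subgroup.zpowers fb := fun h => hfl ((Plane.eq_zpowers_of_mem hq hexpV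
    (Plane.card_zpowers_eq hq hexpV hfb1) hl h).symm ▸ Subgroup.mem_zpowers fb)
  obtain ⟨a₁, ha₁⟩ := mem_powers_iff_mem_zpowers.mpr (hltriv ⟨s₁, hSle hs₁S⟩ fb)
  have ha₁' : r' (ρ ⟨s₁, hSle hs₁S⟩) fb = l ^ a₁ * fb := eq_mul_of_mul_inv_eq ha₁.symm
  have hpa₁ : ¬ p ∣ a₁ := by
    rintro ⟨t, rfl⟩
    rw [pow_mul, hexpV, one_pow, one_mul] at ha₁'
    exact hs₁N (hPfix ⟨s₁, hSle hs₁S⟩ (by rw [ha₁']; exact Subgroup.mem_zpowers _))
  have hspow : ∀ (s : ↥(normalizerIn S N)) (a : ℕ), r' (ρ s) fb = l ^ a * fb →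
      ∀ m : ℕ, r' (ρ (s ^ m)) fb = l ^ (a * m) * fb := by
    intro s a h m
    induction m with
    | zero => simp
    | succ m ih =>
      rw [pow_succ', map_mul, map_mul, MulAut.mul_apply, ih, map_mul, map_pow,
        (show r' (ρ s) l = l from hlfix s), h, ← mul_assoc, ← pow_add]
      ring_nf
  obtain ⟨t₁, ht₁⟩ := Plane.exists_mul_modEq hpa₁ 1
  set s₀ : ↥(normalizerIn S N) := ⟨s₁, hSle hs₁S⟩ ^ t₁ with hs₀
  have hs₀f : r' (ρ s₀) fb = l * fb := by
    rw [hs₀, hspow _ _ ha₁' t₁, Plane.pow_eq_pow_of_modEq (hexpV l) ht₁, pow_one]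
  have hs₀pow : ∀ m : ℕ, r' (ρ (s₀ ^ m)) fb = l ^ m * fb := fun m => by
    rw [hspow s₀ 1 (by rw [hs₀f, pow_one]) m, one_mul]
  have hs₀N : (s₀ : Ω) ∉ N := by
    intro h
    have h1 : r' (ρ s₀) = 1 := by
      refine MulEquiv.ext fun v => QuotientGroup.induction_on v fun w => ?_
      refine QuotientGroup.eq.mpr ?_
      show ((ρ s₀ : MulAut N) w)⁻¹ * w ∈ Subgroup.center N
      rw [show ((ρ s₀ : MulAut N) w) = (⟨(s₀ : Ω), h⟩ : N) * w * (⟨(s₀ : Ω), h⟩ : N)⁻¹ from Subtype.ext rfl]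
      have h4 := hcomZ (⟨(s₀ : Ω), h⟩ : N) w⁻¹
      rw [commutatorElement_def, inv_inv] at h4
      simpa [mul_assoc] using h4
    rw [h1, MulAut.one_apply] at hs₀f
    exact hl (mul_eq_right.mp hs₀f.symm)
  -- the extension `ψ` as an element of the automorphism group of `N`
  set a' : ↥(F.autGroup N) := ⟨ψ, (mem_autGroup hNS).2 hψiso⟩ with ha'
  have hψfb : r' a' fb = fb ^ ((p + 1) / 2) := by
    show QuotientGroup.mk (ψ fN) = (QuotientGroup.mk fN) ^ ((p + 1) / 2)
    rw [← QuotientGroup.mk_pow]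
    congr 1
    exact Subtype.ext (((hψ f (hPN f.2)).trans
      (congrArg (fun x : P => (x : Ω)) hdf :)).trans (by simp [hfN]))
  -- `ψ` fixes the line of `l`
  have hψline : r' a' l ∈ Subgroup.zpowers l := by
    by_contra h
    obtain ⟨a, b, hab⟩ := Plane.exists_coords hq hexpV hl hfl (r' a' l)
    have hpb : ¬ p ∣ b := by
      rintro ⟨t, rfl⟩
      rw [pow_mul, hexpV, one_pow, mul_one] at hab
      exact h (hab ▸ pow_mem (Subgroup.mem_zpowers l) a)
    obtain ⟨t, ht⟩ := Plane.exists_mul_modEq hpb 1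
    obtain ⟨m, hm⟩ : ∃ m, m * b ≡ a [MOD p] := ⟨a * t, by
      rw [mul_assoc, mul_comm t b]
      simpa using ht.mul_left a⟩
    set φ : ↥(F.autGroup N) := (ρ (s₀ ^ m))⁻¹ * a' with hφ
    have hφl : r' φ l = fb ^ b := by
      apply (r' (ρ (s₀ ^ m))).injective
      rw [← MulAut.mul_apply, ← map_mul, hφ, mul_inv_cancel_left, hab, map_pow, hs₀pow,
        (show Commute _ _ from Plane.comm hq _ fb).mul_pow, ← pow_mul,
        Plane.pow_eq_pow_of_modEq (hexpV l) hm]
    set Γ : Subgroup Ω := ((Subgroup.zpowers l).comap (QuotientGroup.mk' (Subgroup.center N))).map N.subtype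
      with hΓ
    have hΓN : Γ ≤ N := by rintro _ ⟨x, -, rfl⟩; exact x.2
    have hΓnorm : S ≤ normalizerIn S Γ := by
      intro s hs
      refine ⟨hs, ?_⟩
      haveI := finite_of_le (hΓN.trans hNS)
      show s ∈ Subgroup.normalizer (Γ : Set Ω)
      refine Subgroup.mem_normalizer_fintype fun x hx => ?_
      obtain ⟨n, hn, rfl⟩ := hx
      refine ⟨(ρ ⟨s, hSle hs⟩ : MulAut N) n, ?_, rfl⟩
      obtain ⟨j, hj⟩ : ∃ j : ℤ, l ^ j = QuotientGroup.mk n := hn
      show r' (ρ ⟨s, hSle hs⟩) (QuotientGroup.mk n) ∈ Subgroup.zpowers l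
      rw [← hj, map_zpow, (show r' (ρ ⟨s, hSle hs⟩) l = l from hlfix _)]
      exact zpow_mem (Subgroup.mem_zpowers l) _
    have hφN : IsoIn F (φ : MulAut N) := (mem_autGroup hNS).1 φ.2
    have hrange : ((N.subtype.comp (φ : MulAut N).toMonoidHom).comp (Subgroup.inclusion hΓN)).range = P := by
      haveI := finite_of_le (hΓN.trans hNS)
      refine range_eq_of_card_le (restrict_mem hφN hΓN) hPS (fun x => ?_) ?_
      · obtain ⟨n, hn, hnx⟩ := x.2
        obtain ⟨j, hj⟩ : ∃ j : ℤ, l ^ j = QuotientGroup.mk n := hn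
        have hxn : (⟨(x : Ω), hΓN x.2⟩ : N) = n := Subtype.ext hnx.symm
        show (((φ : MulAut N) ⟨(x : Ω), hΓN x.2⟩ : N) : Ω) ∈ P
        rw [hxn]
        refine (hPmem _).mp ?_
        show r' φ (QuotientGroup.mk n) ∈ _
        rw [← hj, map_zpow, hφl]
        exact zpow_mem (pow_mem (Subgroup.mem_zpowers fb) b) j
      · rw [hPc, hΓ, Subgroup.card_map_of_injective N.subtype_injective]
        have h1 : (Subgroup.center N) ≤ (Subgroup.zpowers l).comap (QuotientGroup.mk' (Subgroup.center N)) :=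
          fun x hx => by
            rw [Subgroup.mem_comap, QuotientGroup.mk'_apply, (QuotientGroup.eq_one_iff x).mpr hx]
            exact one_mem _
        have h2 := Cfsg.Lib.Core.card_mul_relIndex h1
        have h3 : (Subgroup.center N).relIndex
            ((Subgroup.zpowers l).comap (QuotientGroup.mk' (Subgroup.center N))) = p := by
          conv_lhs => arg 1; rw [← QuotientGroup.ker_mk' (Subgroup.center N), ← MonoidHom.comap_bot]
          rw [Subgroup.relIndex_comap, Subgroup.map_comap_eq_self_of_surjective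
            (QuotientGroup.mk'_surjective _), Subgroup.relIndex_bot_left,
            Plane.card_zpowers_eq hq hexpV hl]
        rw [← h2, h3, hZc, sq]
    have hconj : F.IsConj P Γ := isConj_symm ⟨_, restrict_mem hφN hΓN, hrange⟩
    haveI : Finite ↥(normalizerIn S Γ) := finite_of_le (normalizerIn_le Γ)
    have h1 := hP.2.1.2 Γ hconj
    have h2 : Nat.card S ≤ Nat.card N := (Subgroup.card_le_of_le hΓnorm).trans h1
    exact hSN (eq_of_le_of_card_le le_rfl hNS h2)
  have hψl : r' a' l = l ^ 4 := by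
    have hmeet : ∀ v, v ∈ Subgroup.zpowers l → v ∈ Subgroup.zpowers fb → v = 1 := by
      intro v h1 h2
      by_contra hv
      exact hlf (((Plane.eq_zpowers_of_mem hq hexpV (Plane.card_zpowers_eq hq hexpV hfb1) hv h2).symm.trans
        (Plane.eq_zpowers_of_mem hq hexpV (Plane.card_zpowers_eq hq hexpV hl) hv h1)) ▸ Subgroup.mem_zpowers l)
    obtain ⟨n, hn⟩ := QuotientGroup.mk_surjective l
    refine (inv_mul_eq_one.mp (hmeet ((l ^ 4)⁻¹ * r' a' l) (mul_mem (inv_mem
      (pow_mem (Subgroup.mem_zpowers l) 4)) hψline) ?_)).symm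
    rw [← hn, show r' a' (QuotientGroup.mk n) = QuotientGroup.mk (ψ n) from rfl, ← QuotientGroup.mk_pow,
      ← QuotientGroup.mk_inv, ← QuotientGroup.mk_mul]
    obtain ⟨j, hj⟩ := hgen n
    set x : N := Subgroup.inclusion hPN ⟨_, hj⟩ with hx
    have hnx : n = g ^ j * x := Subtype.ext (mul_inv_cancel_left _ _).symm
    set π := QuotientGroup.mk' (Subgroup.center N) with hπ
    have hin : ∀ y : N, (y : Ω) ∈ P → π y ∈ Subgroup.zpowers fb := fun y hy => (hPmem y).mpr hy
    have hVc : ∀ a b : N ⧸ Subgroup.center N, Commute a b := fun a b => Plane.comm hq a b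
    set y : N := ⟨((g : Ω) ^ 4)⁻¹ * (ψ g : N), hPN hcoset⟩ with hy
    have hψg : ψ g = g ^ 4 * y := Subtype.ext (mul_inv_cancel_left _ _).symm
    have hψx : ((ψ x : N) : Ω) ∈ P := by
      rw [hx, show Subgroup.inclusion hPN ⟨_, hj⟩ = ⟨((⟨_, hj⟩ : P) : Ω), hPN hj⟩ from rfl, hψ]
      exact ((d : MulAut P) _).2
    show π ((n ^ 4)⁻¹ * ψ n) ∈ Subgroup.zpowers fb
    rw [hnx, map_mul, map_inv, map_pow, map_mul ψ, map_pow ψ, hψg, map_mul, map_mul, map_pow, map_pow,
      map_mul, map_pow, (hVc _ _).mul_pow, (hVc _ _).mul_pow, ← pow_mul, ← pow_mul, mul_inv_rev,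
      mul_comm 4 j]
    rw [show (π x ^ 4)⁻¹ * (π g ^ (j * 4))⁻¹ * (π g ^ (j * 4) * π y ^ j * π (ψ x)) =
      (π x ^ 4)⁻¹ * (π y ^ j * π (ψ x)) by group]
    exact mul_mem (inv_mem (pow_mem (hin x hj) 4)) (mul_mem (pow_mem (hin y hcoset) j) (hin _ hψx))
  -- extend `ψ` to `S`
  have hcompat : ∀ s : ↥(normalizerIn S N), r' a' * r' (ρ s) = r' (ρ (s ^ 8)) * r' a' := by
    intro s
    obtain ⟨a, ha⟩ := mem_powers_iff_mem_zpowers.mpr (hltriv s fb)
    have ha' : r' (ρ s) fb = l ^ a * fb := eq_mul_of_mul_inv_eq ha.symm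
    refine Plane.aut_ext hq hexpV hl hfl ?_ ?_
    · rw [MulAut.mul_apply, MulAut.mul_apply, (show r' (ρ s) l = l from hlfix s), hψl, map_pow,
        (show r' (ρ (s ^ 8)) l = l from hlfix _)]
    · rw [MulAut.mul_apply, MulAut.mul_apply, ha', map_mul, map_pow, hψl, hψfb, map_pow,
        hspow s a ha' 8, (show Commute _ _ from Plane.comm hq _ fb).mul_pow, ← pow_mul, ← pow_mul]
      congr 1
      refine Plane.pow_eq_pow_of_modEq (hexpV l) ?_
      have h := (Plane.half_modEq hp2).mul_left (4 * a)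
      rw [mul_one] at h
      rw [show a * 8 * ((p + 1) / 2) = 4 * a * (2 * ((p + 1) / 2)) by ring]
      exact h.symm
  have hinn : ∀ s : ↥(normalizerIn S N), ∃ n : N,
      ((a' * ρ s * a'⁻¹ * (ρ (s ^ 8))⁻¹ : ↥(F.autGroup N)) : MulAut N) = MulAut.conj n := by
    intro s
    refine hkinner _ ?_
    rw [map_mul, map_mul, map_mul, hcompat, map_inv, map_inv, mul_inv_cancel_right, mul_inv_cancel]
  have hrec := isReceptive_of_fc hS hF (isFullyAutomized_and_fc_of_fn hS hF hfn).1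
  obtain ⟨θ₀, hθ₀, hθe⟩ := IsReceptive_ext hrec hψiso (N := S) (by
    intro s hs
    have hsN := (hSle hs).2
    refine ⟨hs, hsN, ?_⟩
    obtain ⟨n, hn⟩ := hinn ⟨s, hSle hs⟩
    refine ⟨(n : Ω) * s ^ 8, S.mul_mem (hNS n.2) (pow_mem hs 8), fun x z hxz => ?_⟩
    have hz : z = (ρ ⟨s, hSle hs⟩ : MulAut N) x := Subtype.ext (hxz.trans (coe_cA (F := F) hNS ⟨s, hSle hs⟩ x).symm)
    have h2 : ((a' * ρ ⟨s, hSle hs⟩ * a'⁻¹ : ↥(F.autGroup N)) : MulAut N) =
        MulAut.conj n * (ρ (⟨s, hSle hs⟩ ^ 8) : MulAut N) := by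
      rw [← hn]; simp
    have h3 := congrArg (fun a : MulAut N => ((a (ψ x) : N) : Ω)) h2
    have h4 : ((a' * ρ ⟨s, hSle hs⟩ * a'⁻¹ : ↥(F.autGroup N)) : MulAut N) (ψ x) = ψ z := by
      rw [hz]
      show (ψ * (ρ ⟨s, hSle hs⟩ : MulAut N) * ψ⁻¹) (ψ x) = _
      simp [MulAut.mul_apply]
    rw [h4] at h3
    rw [h3, MulAut.mul_apply, MulAut.conj_apply, Subgroup.coe_mul, Subgroup.coe_mul, coe_cA hNS]
    simp [mul_assoc])
  -- the image of `s₀`
  have hs₀S : (s₀ : Ω) ∈ S := s₀.2.1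
  set h₀ : Ω := θ₀ ⟨(s₀ : Ω), hs₀S⟩ with hh₀
  have hh₀S : h₀ ∈ S := hom_mem hθ₀ _
  have hcoset₀ : ((s₀ : Ω) ^ 8)⁻¹ * h₀ ∈ N := by
    have h1 : ρ ⟨h₀, hSle hh₀S⟩ = a' * ρ s₀ * a'⁻¹ := by
      rw [eq_mul_inv_iff_mul_eq]
      refine Subtype.ext (MulEquiv.ext fun x => Subtype.ext ?_)
      show h₀ * (ψ x : Ω) * h₀⁻¹ = ((ψ ((ρ s₀ : MulAut N) x) : N) : Ω)
      have e1 : θ₀ ⟨(x : Ω), hNS x.2⟩ = (ψ x : Ω) := hθe _ x.2 _
      have e2 : θ₀ ⟨(((ρ s₀ : MulAut N) x : N) : Ω), hNS ((ρ s₀ : MulAut N) x).2⟩ =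
          (ψ ((ρ s₀ : MulAut N) x) : Ω) := hθe _ ((ρ s₀ : MulAut N) x).2 _
      rw [← e1, ← e2, hh₀, ← map_inv, ← map_mul, ← map_mul]
      rfl
    refine hρN ((s₀ ^ 8)⁻¹ * ⟨h₀, hSle hh₀S⟩) ?_
    rw [map_mul, map_inv, map_mul, map_inv, h1, map_mul, map_mul, hcompat, map_inv,
      mul_inv_cancel_right, inv_mul_cancel]
  -- `S / N` has order `p`
  have hgenS : ∀ s : ↥(normalizerIn S N), ∃ m : ℕ, ((s₀ : Ω) ^ m)⁻¹ * s ∈ N := by
    intro s
    obtain ⟨a, ha⟩ := mem_powers_iff_mem_zpowers.mpr (hltriv s fb)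
    refine ⟨a, hρN ((s₀ ^ a)⁻¹ * s) ?_⟩
    rw [map_mul, map_inv, map_mul, map_inv, inv_mul_eq_one]
    refine Plane.aut_ext hq hexpV hl hfl ?_ ?_
    · exact (hlfix _).trans (hlfix s).symm
    · rw [hs₀pow]; exact (eq_mul_of_mul_inv_eq ha.symm).symm
  have hs₀p : ((s₀ : Ω) ^ p) ∈ N := by
    refine hρN (s₀ ^ p) (Plane.aut_ext hq hexpV hl hfl ?_ ?_)
    · rw [MulAut.one_apply]; exact hlfix _
    · rw [MulAut.one_apply, hs₀pow, hexpV, one_mul]
  have hSc : Nat.card S ≤ p ^ 4 := by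
    have hsurj : Function.Surjective (fun x : Fin p × N =>
        (⟨(s₀ : Ω) ^ (x.1 : ℕ) * x.2, S.mul_mem (pow_mem hs₀S _) (hNS x.2.2)⟩ : S)) := by
      rintro ⟨s, hs⟩
      obtain ⟨m, hm⟩ := hgenS ⟨s, hSle hs⟩
      have hmem : ((s₀ : Ω) ^ (m % p))⁻¹ * s ∈ N := by
        have hkey : (s₀ : Ω) ^ m = (s₀ : Ω) ^ (m % p) * ((s₀ : Ω) ^ p) ^ (m / p) := by
          rw [← pow_mul, ← pow_add, Nat.mod_add_div]
        rw [show ((s₀ : Ω) ^ (m % p))⁻¹ * s = ((s₀ : Ω) ^ p) ^ (m / p) * (((s₀ : Ω) ^ m)⁻¹ * s) by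
          rw [hkey]; group]
        exact mul_mem (pow_mem hs₀p _) hm
      exact ⟨(⟨m % p, Nat.mod_lt _ hp.out.pos⟩, ⟨_, hmem⟩), Subtype.ext (mul_inv_cancel_left _ _)⟩
    calc Nat.card S ≤ Nat.card (Fin p × N) := Nat.card_le_card_of_surjective _ hsurj
      _ = p ^ 4 := by rw [Nat.card_prod, Nat.card_fin, hNc, ← pow_succ']
  have hlaw := Huppert.isRegular_of_card_le hp3 hS hSc
  have hcommS : ∀ x ∈ commutator S, x ^ p ^ 1 = 1 := by
    intro x hx
    rw [pow_one]
    haveI hn : (N.subgroupOf S).Normal := (Subgroup.normal_subgroupOf_iff_le_normalizer hNS).2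
      fun s hs => (hSle hs).2
    have hle : commutator S ≤ N.subgroupOf S := by
      rw [commutator_eq_closure, Subgroup.closure_le]
      rintro _ ⟨a, b, rfl⟩
      rw [SetLike.mem_coe, ← QuotientGroup.eq_one_iff, ← QuotientGroup.mk'_apply, map_commutatorElement,
        commutatorElement_eq_one_iff_mul_comm]
      have hrep : ∀ a : S, ∃ m : ℕ, QuotientGroup.mk' (N.subgroupOf S) a =
          QuotientGroup.mk' (N.subgroupOf S) ⟨(s₀ : Ω), hs₀S⟩ ^ m := by
        intro a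
        obtain ⟨m, hm⟩ := hgenS ⟨(a : Ω), hSle a.2⟩
        refine ⟨m, ?_⟩
        rw [← map_pow, QuotientGroup.mk'_apply, QuotientGroup.mk'_apply, eq_comm, QuotientGroup.eq,
          Subgroup.mem_subgroupOf]
        simpa using hm
      obtain ⟨m, hm⟩ := hrep a
      obtain ⟨m', hm'⟩ := hrep b
      rw [hm, hm']
      exact ((Commute.refl _).pow_pow m m').eq
    exact Subtype.ext (by simpa using congrArg Subtype.val (hexpN ⟨(x : Ω), hle hx⟩))
  have hhomS : ∀ a b : S, (a * b) ^ p = a ^ p * b ^ p := fun a b => by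
    simpa using Regular.mul_pow_eq 1 hS hlaw hcommS a b
  -- `s₀ ^ p` is central in `N`, hence a power of `e`
  set σ : S := ⟨(s₀ : Ω), hs₀S⟩ with hσ
  have hσcen : ∀ x : S, Commute (σ ^ p) x := by
    intro x
    have h1 : (x * σ * x⁻¹) ^ p = σ ^ p := by
      have h2 : ⁅x, σ⁆ ^ p = 1 := by
        simpa using hcommS _ (Subgroup.commutator_mem_commutator (Subgroup.mem_top x) (Subgroup.mem_top σ))
      rw [show x * σ * x⁻¹ = ⁅x, σ⁆ * σ by group, hhomS, h2, one_mul]
    rw [conj_pow] at h1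
    exact (mul_inv_eq_iff_eq_mul.mp h1).symm
  have hσe : ∃ k : ℕ, (s₀ : Ω) ^ p = (e : Ω) ^ k := by
    have h1 : (⟨_, hs₀p⟩ : N) ∈ Subgroup.center N := by
      rw [Subgroup.mem_center_iff]
      intro n
      have h2 := congrArg (fun x : S => (x : Ω)) (hσcen ⟨(n : Ω), hNS n.2⟩).eq.symm
      exact Subtype.ext h2
    obtain ⟨k, hk⟩ := mem_powers_iff_mem_zpowers.mpr (hZe.symm ▸ h1)
    exact ⟨k, by simpa [heN] using (congrArg Subtype.val hk).symm⟩
  obtain ⟨k, hk⟩ := hσe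
  have hpk : ¬ p ∣ k := by
    rintro ⟨t, rfl⟩
    refine hs₀N (hNset _ hs₀S ?_)
    have hep : (e : Ω) ^ p = 1 := congrArg Subtype.val (hexp e)
    rw [hk, pow_mul, hep, one_pow]
  have hfin : (e : Ω) ^ (2 * k) = (e : Ω) ^ (8 * k) := by
    have h1 : θ₀ (σ ^ p) = (e : Ω) ^ (2 * k) := by
      have hσp : σ ^ p = (⟨(e : Ω), hPS e.2⟩ : S) ^ k := Subtype.ext (by simpa [hσ] using hk)
      rw [hσp, map_pow, pow_mul]
      congr 1
      have e1 : θ₀ ⟨(eN : Ω), hNS eN.2⟩ = (ψ eN : Ω) := hθe _ eN.2 _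
      exact e1.trans ((hψ e (hPN e.2)).trans (congrArg Subtype.val hde))
    have h2 : θ₀ (σ ^ p) = (e : Ω) ^ (8 * k) := by
      rw [map_pow, show θ₀ σ = h₀ from rfl]
      set y : S := ⟨((s₀ : Ω) ^ 8)⁻¹ * h₀, hNS hcoset₀⟩ with hy
      have h3 : (⟨h₀, hh₀S⟩ : S) = σ ^ 8 * y := Subtype.ext (mul_inv_cancel_left _ _).symm
      have h4 : y ^ p = 1 := Subtype.ext (by simpa using congrArg Subtype.val (hexpN ⟨_, hcoset₀⟩))
      have h5 := congrArg (fun x : S => (x : Ω) ^ p) h3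
      rw [h5, ← SubgroupClass.coe_pow, hhomS, h4, mul_one, ← pow_mul, mul_comm, pow_mul,
        SubgroupClass.coe_pow, SubgroupClass.coe_pow, hk, ← pow_mul, mul_comm]
    exact h1.symm.trans h2
  have he1 : (e : Ω) ≠ 1 := fun h => he (Subtype.ext h)
  have h6 := Plane.modEq_of_pow_eq (congrArg Subtype.val (hexp e) : (e : Ω) ^ p = 1) he1 hfin
  have h7 := (Nat.modEq_iff_dvd' (by omega : 2 * k ≤ 8 * k)).mp h6
  rw [show 8 * k - 2 * k = 2 * (3 * k) by omega] at h7
  exact hpk (((hp.out.dvd_mul.mp ((hp.out.dvd_mul.mp h7).resolve_left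
    (Nat.not_dvd_of_pos_of_lt (by norm_num) (by omega)))).resolve_left
    (Nat.not_dvd_of_pos_of_lt (by norm_num) hp3)))

/-- Let p ≥ 5 be a prime and S a finite p-group of p-rank two (it has an elementary abelian subgroup of order p² and none of order p³) which is not the extraspecial group of order p³ and exponent p. Then S is resistant: for every saturated fusion system F over S, S is normal in F, that is, every map of F extends to an F-automorphism of S. -/
theorem result {Ω : Type*} [Group Ω] {S : Subgroup Ω} [Finite S] (p : ℕ) [Fact p.Prime] (hS : IsPGroup p S)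
    (F : Cfsg.FusionSystem S) (hF : F.IsSaturated p)
    (hp : 5 ≤ p)
    (hrank2 : ∃ E : Subgroup Ω, E ≤ S ∧ Cfsg.IsElementaryAbelian p E ∧ Nat.card E = p ^ 2)
    (hrank3 : ∀ E : Subgroup Ω, E ≤ S → Cfsg.IsElementaryAbelian p E → Nat.card E ≤ p ^ 2)
    (hnotE : ¬ (Nat.card S = p ^ 3 ∧ Monoid.exponent ↥S = p)) : F.IsNormal S := by
  have hp3 : 3 < p := by omega
  refine isNormal_of_forall_essential hS hF fun P hP => ?_
  rcases hP with rfl | hP
  · refine ⟨le_rfl, fun α _ => ?_⟩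
    rw [Subgroup.subgroupOf_self, Subgroup.map_top_of_surjective _ α.surjective]
  · exfalso
    haveI := finite_of_le hP.1.1
    have hPG : IsPGroup p P := hS.to_le hP.1.1
    have hrk : ∀ E : Subgroup P, Cfsg.IsElementaryAbelian p E → Nat.card E ≤ p ^ 2 :=
      fun E hE => rank_of_le hrank3 hP.1.1 E hE
    set W := omega hp3 hPG hrk (G := P) with hW
    obtain ⟨k, hk⟩ := IsPGroup.iff_card.mp (hPG.to_subgroup W)
    have hk3 : k ≤ 3 := (Nat.pow_le_pow_iff_right (Fact.out : p.Prime).one_lt).mp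
      (hk ▸ card_omega_le hp3 hPG hrk)
    match k, hk3 with
    | 3, _ => exact cube_case hS hF hp hrank3 hP hPG hrk hk
    | 2, _ =>
      obtain ⟨hexp, hPc⟩ := omega_card_ne_sq_or_eq hS hF hp3 hP hPG hrk hk
      exact square_case hS hF hp hrank3 hnotE hP hPc hexp
    | 0, _ | 1, _ =>
      refine not_isCyclic hS hF hP ?_
      have hWle : Nat.card W ≤ p := by rw [hk]; simp [(Fact.out : p.Prime).one_le]
      obtain ⟨z, hz, hzW⟩ : ∃ z : P, z ^ p = 1 ∧ W ≤ Subgroup.zpowers z := by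
        by_cases hbot : W = ⊥
        · exact ⟨1, one_pow p, hbot ▸ bot_le⟩
        · obtain ⟨z, hzW, hz1⟩ := W.bot_or_exists_ne_one.resolve_left hbot
          refine ⟨z, hzW, ?_⟩
          refine (Subgroup.eq_of_le_of_card_ge (Subgroup.zpowers_le.mpr hzW) (hWle.trans ?_)).ge
          rw [Nat.card_zpowers, orderOf_eq_prime hzW hz1]
      have := Cfsg.Lib.Local.QdRankTwo.isCyclic_of_unique (show p ≠ 2 by omega) (⊤ : Subgroup P)
        (hPG.to_subgroup _) hz fun x _ hx => hzW hx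
      exact Subgroup.topEquiv.isCyclic.mp this

end Cfsg.Agent.S5289
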