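import Cfsg.Statements.S5290
import Cfsg.Agent.Lib.FusionSys.Inner
import Cfsg.Agent.Lib.FusionSys.Normal

set_option autoImplicit false
open Cfsg

namespace Cfsg.Agent.S5290

/-- Let F be a saturated fusion system over a finite p-group S and Q a subgroup of S. Then Q is normal in F (F = N_F(Q)) if and only if the inner fusion system of Q, consisting of the conjugations by elements of Q on subgroups of Q, is a weakly normal subsystem of F (both saturated, Q strongly closed, invariant under F-conjugation, with the Frattini property). -/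
theorem result {Ω : Type*} [Group Ω] {S : Subgroup Ω} [Finite S] (p : ℕ) [Fact p.Prime] (hS : IsPGroup p S)
    (F : Cfsg.FusionSystem S) (hF : F.IsSaturated p)
    (Q : Subgroup Ω) (hQ : Q ≤ S) :
    F.IsNormal Q ↔ (Cfsg.innerFusionSystem Q).IsWeaklyNormalIn F p := by
  constructor
  · intro h
    refine (Cfsg.Lib.FusionSys.isNormalIn_inner hS hF
      (Cfsg.Lib.FusionSys.isNormal_stronglyClosed h) fun P hP φ hφ => ?_).1
    obtain ⟨α, hα, he⟩ := (Cfsg.Lib.FusionSys.isNormal_iff_aut_ext hS hF hQ).1 h P hP φ hφ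
    exact ⟨α, hα, fun x => (he x).symm⟩
  · rintro ⟨-, -, -, -, -, hfr⟩
    refine (Cfsg.Lib.FusionSys.isNormal_iff_aut_ext hS hF hQ).2 fun P hP φ hφ => ?_
    obtain ⟨α, hα, φ₀, ⟨-, g, hg, hg₀⟩, he⟩ := hfr P hP φ hφ
    have hgn : g ∈ Subgroup.normalizer (Q : Set Ω) := Subgroup.le_normalizer hg
    refine ⟨α * Cfsg.Lib.FusionSys.conjAut Q hgn, Subgroup.mul_mem _ hα
      (Cfsg.Lib.FusionSys.autInducedBy_le_autGroup hQ
        (Cfsg.Lib.FusionSys.conjAut_mem_autInducedBy hgn (hQ hg))), fun x => ?_⟩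
    have hx : φ₀ x ∈ Q := by
      rw [hg₀]
      exact Q.mul_mem (Q.mul_mem hg (hP x.2)) (Q.inv_mem hg)
    rw [he x hx]
    congr 1
    exact congrArg α (Subtype.ext (hg₀ x).symm)

end Cfsg.Agent.S5290
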