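import Cfsg.Statements.S5293
import Cfsg.Agent.Lib.FusionSys.CentralizerFocal

set_option autoImplicit false
open Cfsg

namespace Cfsg.Agent.S5293

/-- Let F be a saturated fusion system over a finite p-group S, E a normal subsystem of F over T ≤ S, and C the join of the subgroups X ≤ C_S(T) such that E is contained in the centralizer system C_F(X). Then for the centralizer fusion system C_F(T) over C_S(T), the focal subgroup of C_F(T) is contained in C. -/
theorem result {Ω : Type*} [Group Ω] {S : Subgroup Ω} [Finite S] (p : ℕ) [Fact p.Prime] (hS : IsPGroup p S)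
    (F : Cfsg.FusionSystem S) (hF : F.IsSaturated p)
    {T : Subgroup Ω} (E : Cfsg.FusionSystem T) (hE : E.IsNormalIn F p)
    (C : Subgroup Ω)
    (hC : C = sSup {X : Subgroup Ω | X ≤ Cfsg.FusionSystem.centralizerIn S T ∧ ∀ P : Subgroup Ω, E.Hom P ⊆ F.centralizerHom X P})
    (D : Cfsg.FusionSystem (Cfsg.FusionSystem.centralizerIn S T)) (hD : F.IsCentralizerSystem T D) :
    D.focalSubgroup ≤ C := by
  open Cfsg.Lib.FusionSys Cfsg.FusionSystem in
    have hsc := hE.1.2.2.2.1
    have hTS : T ≤ S := hsc.1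
    have hY : systemCentralizer F E p hsc ≤ C := by
      rw [hC]
      exact le_sSup (centralizesSystem_systemCentralizer hS hE)
    refine le_trans ((Subgroup.closure_le _).2 ?_) hY
    rintro w ⟨P, φ, x, hφ, rfl⟩
    rw [hD] at hφ
    obtain ⟨-, hPC, -, ψ, hψ, hψP, hψT⟩ := hφ
    have hx : (x : Ω) ∈ centralizerIn S T := hPC x.2
    have hle : T ⊔ Subgroup.zpowers (x : Ω) ≤ P ⊔ T :=
      sup_le le_sup_right ((Subgroup.zpowers_le.2 x.2).trans le_sup_left)
    have h := inv_mul_map_mem_systemCentralizer (E := E) hS hF hsc hx (restrict_mem hψ hle)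
      (fun t ht => hψT ⟨(t : Ω), ht⟩)
    have e : (ψ.comp (Subgroup.inclusion hle)) ⟨(x : Ω), Subgroup.mem_sup_right (Subgroup.mem_zpowers _)⟩ = φ x :=
      hψP x
    rw [e] at h
    exact h

end Cfsg.Agent.S5293
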