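import Cfsg.Statements.S5299
import Cfsg.Agent.Lib.FusionSys.GroupModelQd

set_option autoImplicit false
universe u
open Cfsg

namespace Cfsg.Agent.S5299

/-- Let F be a saturated fusion system over a finite p-group S, H a finite group and Q a p-subgroup of H. If Q is not involved in S (no section of S is isomorphic to Q), then F is H-free: H is involved in no model of the normalizer system of a fully normalized centric subgroup. -/
theorem result {Ω : Type u} [Group Ω] {S : Subgroup Ω} [Finite S] (p : ℕ) [Fact p.Prime] (hS : IsPGroup p S)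
    (F : Cfsg.FusionSystem S) (hF : F.IsSaturated p) (H : Type*) [Group H] [Finite H] (Q : Subgroup H) (hQ : IsPGroup p Q)
    (hfree : ¬ Cfsg.Involves (↥Q) (↥S)) : F.IsSectionFree p H := by
  intro R hn hc N hN L _ ι hL hinv
  obtain ⟨hfin, ⟨hinj, -⟩, ⟨T, hT⟩, -⟩ := hL
  haveI := hfin
  obtain ⟨K, f, hf⟩ := Cfsg.Lib.FusionSys.involves_iff_exists_hom.1 hinv
  let K₁ : Subgroup K := Q.comap f
  have hres : Function.Surjective (f.subgroupComap Q) := fun y => by
    obtain ⟨x, hx⟩ := hf (y : H)
    exact ⟨⟨x, show f x ∈ Q from hx ▸ y.2⟩, Subtype.ext hx⟩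
  let U₀ : Sylow p K₁ := Classical.ofNonempty
  let φ : (U₀ : Subgroup K₁) →* L := (K.subtype.comp K₁.subtype).comp (U₀ : Subgroup K₁).subtype
  have hφ : Function.Injective φ :=
    (K.subtype_injective.comp K₁.subtype_injective).comp (U₀ : Subgroup K₁).subtype_injective
  have hφp : IsPGroup p φ.range := by
    rw [MonoidHom.range_eq_map]
    exact (U₀.isPGroup'.to_subgroup ⊤).map φ
  obtain ⟨g, -, hg⟩ := Cfsg.Lib.FusionSys.pConjInto_sylow T φ.range le_top hφp
  let ψ : (U₀ : Subgroup K₁) →* (T : Subgroup L) :=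
    ((MulAut.conj g).toMonoidHom.comp φ).codRestrict _ fun u => hg _ ⟨u, rfl⟩
  have hψ : Function.Injective ψ := fun a b h =>
    hφ ((MulAut.conj g).injective (congrArg Subtype.val h))
  have h1 : Cfsg.Involves ↥Q (U₀ : Subgroup K₁) :=
    Cfsg.Lib.FusionSys.involves_iff_exists_hom.2 ⟨⊤,
      ((f.subgroupComap Q).comp (U₀ : Subgroup K₁).subtype).comp (Subgroup.subtype ⊤), fun y => by
        obtain ⟨u, hu, he⟩ : y ∈ (U₀ : Subgroup K₁).map (f.subgroupComap Q) := by
          rw [Cfsg.Lib.FusionSys.sylow_map_eq_top hres hQ U₀]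
          exact Subgroup.mem_top y
        exact ⟨⟨⟨u, hu⟩, Subgroup.mem_top _⟩, he⟩⟩
  have h2 := Cfsg.Lib.FusionSys.involves_of_injective hψ h1
  let e : ↥(Cfsg.FusionSystem.normalizerIn S R) ≃* (T : Subgroup L) :=
    (MonoidHom.ofInjective hinj).trans (MulEquiv.subgroupCongr hT.symm)
  have h3 := Cfsg.Lib.FusionSys.involves_of_injective (f := e.symm.toMonoidHom) e.symm.injective h2
  exact hfree (Cfsg.Lib.FusionSys.involves_of_injective
    (f := Subgroup.inclusion (Cfsg.Lib.FusionSys.normalizerIn_le R))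
    (Subgroup.inclusion_injective _) h3)

end Cfsg.Agent.S5299
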