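import Cfsg.Statements.S5301
import Cfsg.Agent.Lib.FusionSys.Normal
import Cfsg.Agent.Lib.FusionSys.Saturation

set_option autoImplicit false
universe u
open Cfsg

namespace Cfsg.Agent.S5301

/-- Let F be a saturated fusion system over a finite p-group S. If for every subgroup P of S that is fully normalized, centric and radical in F the automorphism group that F induces on P has a normal Sylow p-subgroup, then S is normal in F. -/
theorem result {Ω : Type u} [Group Ω] {S : Subgroup Ω} [Finite S] (p : ℕ) [Fact p.Prime] (hS : IsPGroup p S)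
    (F : Cfsg.FusionSystem S) (hF : F.IsSaturated p)
    (hcl : ∀ P : Subgroup Ω, F.IsFullyNormalized P → F.IsCentric P → F.IsRadical p P →
      ∃ R : Sylow p ↥(F.autGroup P), (R : Subgroup ↥(F.autGroup P)).Normal) :
    F.IsNormal S := by
  refine Cfsg.Lib.FusionSys.isNormal_of_forall_essential hS hF fun P hP => ?_
  by_cases hPne : P = S
  · subst hPne
    refine ⟨le_rfl, fun α _ => ?_⟩
    rw [Subgroup.subgroupOf_self, ← MonoidHom.range_eq_map]
    exact MonoidHom.range_eq_top.2 α.surjective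
  replace hP := hP.resolve_left hPne
  exfalso
  have hPS : P ≤ S := hP.1.1
  haveI := Cfsg.Lib.FusionSys.finite_of_le hPS
  refine Cfsg.Lib.FusionSys.extensibleAut_ne_of_isEssential hS hF hP
    (le_antisymm Cfsg.Lib.FusionSys.extensibleAut_le fun α hα => ?_)
  obtain ⟨hfc, -, R, hR⟩ := Cfsg.Lib.FusionSys.isFullyAutomized_and_fc_of_fn hS hF hP.2.1
  obtain ⟨R', hR'⟩ := hcl P hP.2.1 hP.1 (Cfsg.Lib.FusionSys.isRadical_of_isEssential hS hP)
  have hRn : (R : Subgroup (F.autGroup P)).Normal := by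
    obtain ⟨γ, hγ⟩ := MulAction.exists_smul_eq (F.autGroup P) R' R
    rw [Sylow.smul_eq_of_normal] at hγ
    rw [← hγ]
    exact hR'
  obtain ⟨g, hg, hgP⟩ :=
    SetLike.exists_of_lt (Cfsg.Lib.FusionSys.lt_normalizerIn hS (lt_of_le_of_ne hPS hPne))
  have hgn := (Cfsg.Lib.FusionSys.mem_normalizerIn.1 hg).2
  have hgS := (Cfsg.Lib.FusionSys.mem_normalizerIn.1 hg).1
  set β : F.autGroup P := ⟨α, hα⟩
  set a : F.autGroup P := ⟨Cfsg.Lib.FusionSys.conjAut P hgn,
    Cfsg.Lib.FusionSys.autInducedBy_le_autGroup hPS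
      (Cfsg.Lib.FusionSys.conjAut_mem_autInducedBy hgn hgS)⟩
  have ha : β * a * β⁻¹ ∈ (R : Subgroup (F.autGroup P)) := by
    refine hRn.conj_mem a ?_ β
    rw [hR]
    exact Cfsg.Lib.FusionSys.conjAut_mem_autInducedBy hgn hgS
  rw [hR] at ha
  obtain ⟨h, hh, hhe⟩ := Cfsg.Lib.FusionSys.mem_autInducedBy.1 ha
  refine Cfsg.Lib.FusionSys.mem_extensibleAut_of_conj
    (Cfsg.Lib.FusionSys.isReceptive_of_fc hS hF hfc) hα hg hgP hh fun x y hy => ?_
  have hy' : y = Cfsg.Lib.FusionSys.conjAut P hgn x :=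
    Subtype.ext (hy.trans (Cfsg.Lib.FusionSys.coe_conjAut P hgn x).symm)
  subst hy'
  have h1 := hhe (α x)
  simp only [Subgroup.coe_subtype, Subgroup.coe_mul, Subgroup.coe_inv, MulAut.mul_apply,
    MulAut.inv_apply_self, a, β] at h1
  exact h1

end Cfsg.Agent.S5301
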