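import Cfsg.Statements.S5306
import Cfsg.Agent.Lib.Thompson.Transport
import Cfsg.Agent.Lib.FusionSys.OfGroup

set_option autoImplicit false
open Cfsg

namespace Cfsg.Agent.S5306

/-- Let P be a Sylow p-subgroup of the finite group X and J = J(P) its Thompson subgroup (generated by the elementary abelian subgroups of P of largest order). If x and y lie in the centre of J and y = g x g⁻¹ for some g in X, then y = n x n⁻¹ for some n in the normalizer N_X(J). -/
theorem result {X : Type*} [Group X] [Finite X] (p : ℕ) [Fact p.Prime] (P : Sylow p X) (J : Subgroup X) (hJ : J = Cfsg.thompsonSubgroupOf p (P : Subgroup X))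
    (x y : X) (hx : x ∈ J ∧ ∀ j ∈ J, Commute j x) (hy : y ∈ J ∧ ∀ j ∈ J, Commute j y) (g : X) (hg : g * x * g⁻¹ = y) :
    ∃ n ∈ Subgroup.normalizer (J : Set X), n * x * n⁻¹ = y := by
  subst hJ
  classical
  have haux : ∀ h : X, (thompsonSubgroupOf p (P : Subgroup X)).map (MulAut.conj h).toMonoidHom ≤
      (P : Subgroup X) → (thompsonSubgroupOf p (P : Subgroup X)).map (MulAut.conj h).toMonoidHom =
      thompsonSubgroupOf p (P : Subgroup X) := by
    intro h hle
    refine Subgroup.eq_of_le_of_card_ge ?_ (le_of_eq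
      (Cfsg.Lib.FusionSys.card_conj_map _ h).symm)
    rw [Subgroup.map_le_iff_le_comap, thompsonSubgroupOf, Subgroup.map_le_iff_le_comap,
      thompsonSubgroup, sSup_le_iff]
    intro B hB
    rw [← Subgroup.map_le_iff_le_comap, ← Subgroup.map_le_iff_le_comap, Subgroup.map_map]
    have hBle : B.map ((MulAut.conj h).toMonoidHom.comp (P : Subgroup X).subtype) ≤
        (P : Subgroup X) := by
      rw [← Subgroup.map_map]
      refine le_trans (Subgroup.map_mono ?_) hle
      rw [thompsonSubgroupOf]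
      exact Subgroup.map_mono (le_sSup hB)
    have hmem : (B.map ((MulAut.conj h).toMonoidHom.comp (P : Subgroup X).subtype)).subgroupOf
        (P : Subgroup X) ∈ maxElementaryAbelianSubgroups p ↥(P : Subgroup X) := by
      refine ⟨Cfsg.Lib.Thompson.isEA_subgroupOf (Cfsg.Lib.Thompson.isEA_map _ hB.1) _,
        fun C hC => ?_⟩
      rw [Nat.card_congr (Subgroup.subgroupOfEquivOfLe hBle).toEquiv,
        Subgroup.card_map_of_injective
          ((MulAut.conj h).injective.comp (P : Subgroup X).subtype_injective)]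
      exact hB.2 C hC
    conv_lhs => rw [← Subgroup.map_subgroupOf_eq_of_le hBle]
    exact Subgroup.map_mono (le_sSup hmem)
  have hkey : ∀ z, z ∈ thompsonSubgroupOf p (P : Subgroup X) ∧
      (∀ j ∈ thompsonSubgroupOf p (P : Subgroup X), Commute j z) →
      thompsonSubgroupOf p (P : Subgroup X) ≤ Subgroup.centralizer {z} := fun z hz j hj =>
    Subgroup.mem_centralizer_singleton_iff.2 (hz.2 j hj)
  set J := thompsonSubgroupOf p (P : Subgroup X) with hJdef
  have hJp : IsPGroup p J := P.isPGroup'.to_le (Cfsg.Lib.Thompson.thompsonSubgroupOf_le _)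
  -- both `J` and its image lie in Sylow subgroups of the centralizer of `y`
  have hJg : J.map (MulAut.conj g).toMonoidHom ≤ Subgroup.centralizer {y} := by
    rintro _ ⟨j, hj, rfl⟩
    rw [Subgroup.mem_centralizer_singleton_iff, ← hg]
    have := (hx.2 j hj).eq
    calc (MulAut.conj g) j * (g * x * g⁻¹) = g * (j * x) * g⁻¹ := by simp [mul_assoc]
      _ = g * x * g⁻¹ * (MulAut.conj g) j := by rw [this]; simp [mul_assoc]
  set C := Subgroup.centralizer ({y} : Set X) with hCdef
  obtain ⟨R, hR⟩ := ((hJp.of_equiv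
    (Subgroup.subgroupOfEquivOfLe (hkey y hy)).symm)).exists_le_sylow
  obtain ⟨R', hR'⟩ := (((hJp.map _).of_equiv
    (Subgroup.subgroupOfEquivOfLe hJg).symm)).exists_le_sylow
  obtain ⟨c, hc⟩ := MulAction.exists_smul_eq C R' R
  let U : Subgroup X := (R : Subgroup C).map C.subtype
  have hJU : J ≤ U := fun j hj => ⟨⟨j, hkey y hy hj⟩, hR hj, rfl⟩
  have hJU' : J.map (MulAut.conj ((c : X) * g)).toMonoidHom ≤ U := by
    rintro _ ⟨j, hj, rfl⟩
    refine ⟨c * ⟨g * j * g⁻¹, hJg ⟨j, hj, rfl⟩⟩ * c⁻¹, ?_, by simp [mul_assoc]⟩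
    rw [← hc, Sylow.coe_subgroup_smul]
    exact Subgroup.smul_mem_pointwise_smul _ (MulAut.conj c) _ (hR' ⟨j, hj, rfl⟩)
  obtain ⟨h, -, hh⟩ := Cfsg.Lib.FusionSys.pConjInto_sylow P U le_top (R.isPGroup'.map _)
  have e1 : J.map (MulAut.conj h).toMonoidHom = J := haux h <| by
    rintro _ ⟨j, hj, rfl⟩
    exact hh j (hJU hj)
  have e2 : J.map (MulAut.conj (h * ((c : X) * g))).toMonoidHom = J := haux _ <| by
    rintro _ ⟨j, hj, rfl⟩
    simpa [mul_assoc] using hh _ (hJU' ⟨j, hj, rfl⟩)
  have e3 : J.map (MulAut.conj ((c : X) * g)).toMonoidHom = J := by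
    refine Subgroup.map_injective (MulAut.conj h).injective
      (((Subgroup.map_map _ _ _).trans ?_).trans e1.symm)
    conv_rhs => rw [← e2]
    congr 1
    ext z
    simp [mul_assoc]
  refine ⟨(c : X) * g, Subgroup.mem_normalizer_fintype fun j hj => ?_, ?_⟩
  · exact e3.le ⟨j, hj, rfl⟩
  · have hcy : (c : X) * y = y * c := Subgroup.mem_centralizer_singleton_iff.1 c.2
    calc (c : X) * g * x * ((c : X) * g)⁻¹ = c * (g * x * g⁻¹) * (c : X)⁻¹ := by group
      _ = y := by rw [hg, hcy, mul_inv_cancel_right]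

end Cfsg.Agent.S5306
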