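import Cfsg.Statements.S5308
import Cfsg.Agent.Lib.FusionSys.Layer
import Cfsg.Agent.Lib.FusionSys.CentralProductNormal
import Cfsg.Agent.Lib.FusionSys.ComponentCore
-- import your own Cfsg.Agent.* helpers here

set_option autoImplicit false
open Cfsg

namespace Cfsg.Agent.S5308

/-- A saturated fusion system F over a finite p-group S has a generalized Fitting subsystem — a central product of the inner fusion system of O_p(F) (the largest subgroup of S normal in F) with a layer of F — and every generalized Fitting subsystem of F is a normal subsystem of F. -/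
theorem result {Ω : Type*} [Group Ω] {S : Subgroup Ω} [Finite S] (p : ℕ) [Fact p.Prime] (hS : IsPGroup p S) (F : Cfsg.FusionSystem S) (hF : F.IsSaturated p) :
    (∃ (U : Subgroup Ω) (D : Cfsg.FusionSystem U), D.IsGeneralizedFittingOf F p) ∧
      ∀ (U : Subgroup Ω) (D : Cfsg.FusionSystem U), D.IsGeneralizedFittingOf F p → D.IsNormalIn F p := by
  classical
  open Cfsg.Lib.FusionSys Cfsg.FusionSystem in
  refine ⟨?_, fun U D ⟨T, E, hE, hc⟩ =>
    isNormalIn_of_centralProduct hS (isNormalIn_inner_of_isNormal hS hF (isNormal_core F)) hE.1 hc⟩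
  open Cfsg.Lib.FusionSys Cfsg.FusionSystem in
  obtain ⟨T, E, hE⟩ := exists_layer hS hF
  open Cfsg.Lib.FusionSys Cfsg.FusionSystem in
  obtain ⟨D₁, hD₁, hD₁C, hcomp⟩ := exists_normal_above_components hS hF
  have hI := Cfsg.Lib.FusionSys.isNormalIn_inner_of_isNormal hS hF (Cfsg.Lib.FusionSys.isNormal_core F)
  have hQS : F.core ≤ S := (Cfsg.Lib.FusionSys.isNormal_core F).1
  have hTS : T ≤ S := hE.1.1.2.2.2.1.1
  haveI := Cfsg.Lib.FusionSys.finite_of_le hQS
  haveI := Cfsg.Lib.FusionSys.finite_of_le hTS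
  have hEC : ∀ P, E.Hom P ⊆ F.centralizerHom F.core P := fun P φ hφ => hD₁C P (hE.2.2 _ D₁ hD₁ hcomp P hφ)
  have hcomm : ∀ a ∈ F.core, ∀ b ∈ T, a * b = b * a := fun a ha b hb =>
    ((Cfsg.Lib.FusionSys.mem_centralizerIn.1
      ((hEC T (Cfsg.Lib.FusionSys.subtype_mem E le_rfl)).2.1 hb)).2 a ha).symm
  have hz₁ : F.core ⊓ T ≤ (Cfsg.innerFusionSystem F.core).center := by
    refine le_sSup ((Cfsg.Lib.FusionSys.isCentral_iff (hS.to_le hQS) hI.1.1 _).2 ⟨inf_le_left, ?_⟩)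
    rintro x hx y ⟨φ, ⟨-, g, hg, hge⟩, rfl⟩
    rw [hge]
    exact Cfsg.Lib.FusionSys.conj_eq_of_commute (hcomm g hg x hx.2)
  have hz₂ : F.core ⊓ T ≤ E.center := by
    refine le_sSup ((Cfsg.Lib.FusionSys.isCentral_iff (hS.to_le hTS) hE.1.1.1 _).2 ⟨inf_le_right, ?_⟩)
    rintro x hx y ⟨φ, hφ, rfl⟩
    obtain ⟨-, -, -, ψ, -, hψe, hψf⟩ := hEC _ hφ
    exact (hψe ⟨x, Subgroup.mem_zpowers x⟩).symm.trans (hψf ⟨x, hx.1⟩)
  obtain ⟨D, hD, -⟩ := Cfsg.Lib.FusionSys.exists_centralProduct hS hQS hTS hI.1.1 hE.1.1.1 hcomm hz₁ hz₂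
  exact ⟨_, D, T, E, hE, hD⟩

end Cfsg.Agent.S5308
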