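import Cfsg.Statements.S5310
import Cfsg.Agent.Lib.FusionSys.ComponentExists
import Cfsg.Agent.Lib.FusionSys.Product
-- import your own Cfsg.Agent.* helpers here

set_option autoImplicit false
open Cfsg

namespace Cfsg.Agent.S5310

open Cfsg.FusionSystem Cfsg.Lib.FusionSys


/-- A saturated fusion system F over a finite p-group S is constrained (its largest normal subgroup O_p(F) is centric) if and only if the inner fusion system of O_p(F) is itself a generalized Fitting subsystem of F (that is, F*(F) = O_p(F)). -/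
theorem result {Ω : Type*} [Group Ω] {S : Subgroup Ω} [Finite S] (p : ℕ) [Fact p.Prime] (hS : IsPGroup p S) (F : Cfsg.FusionSystem S) (hF : F.IsSaturated p) :
    F.IsConstrained p ↔ (Cfsg.innerFusionSystem F.core).IsGeneralizedFittingOf F p := by
  rw [constrained_iff_no_component hS F hF]
  have hQ : F.IsNormal F.core := isNormal_core F
  constructor
  · intro hno
    refine ⟨⊥, innerFusionSystem ⊥, ⟨isNormalIn_inner_of_isNormal hS hF (isNormal_bot F),
      fun U C hC => absurd ⟨U, C, hC⟩ hno, fun R D _ _ P φ hφ => ?_⟩, ?_⟩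
    · obtain ⟨hP, g, hg, hge⟩ := hφ
      refine hom_congr (subtype_mem D (hP.trans bot_le)) fun x => ?_
      rw [hge, Subgroup.mem_bot.1 hg]
      simp
    obtain ⟨D₀, hD₀⟩ := exists_productSystem (innerFusionSystem F.core) (innerFusionSystem (⊥ : Subgroup Ω))
    refine ⟨D₀, hD₀, ⊥, (MonoidHom.fst Ω Ω).comp (Subgroup.subtype _), bot_le, bot_inf_eq _, bot_inf_eq _,
      fun x hx => rfl, fun y hy => (Subgroup.mem_bot.1 hy.2).symm, bot_le, fun s => ?_, ?_, fun P' φ' => ?_⟩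
    · rw [Subgroup.mem_bot]
      exact ⟨fun h => Prod.ext h (Subgroup.mem_bot.1 s.2.2), fun h => congrArg Prod.fst h⟩
    · ext x
      exact ⟨fun ⟨s, hs⟩ => hs ▸ s.2.1, fun hx => ⟨⟨(x, 1), hx, Subgroup.one_mem _⟩, rfl⟩⟩
    constructor
    · rintro ⟨hP, g, hg, hge⟩
      refine ⟨hP, _, D₀.conj_mem (g := (g, 1)) preimageAlong_le ⟨hg, Subgroup.one_mem _⟩,
        preimageAlong_le, fun x => ?_, fun x => (mem_preimageAlong.1 x.2).2, fun x => ?_⟩
      · exact (F.core.prod ⊥).mul_mem ((F.core.prod ⊥).mul_mem ⟨hg, Subgroup.one_mem _⟩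
          (preimageAlong_le x.2)) ((F.core.prod ⊥).inv_mem ⟨hg, Subgroup.one_mem _⟩)
      · exact hge _
    · rintro ⟨hP, φ, hφ, hi⟩
      obtain ⟨-, φ₁, ⟨-, g, hg, hge⟩, φ₂, -, he⟩ := (hD₀ _ _).1 hφ
      refine ⟨hP, g, hg, fun y => ?_⟩
      have hm : ((y : Ω), (1 : Ω)) ∈ F.core.prod (⊥ : Subgroup Ω) := ⟨hP y.2, Subgroup.one_mem _⟩
      have hx : ((y : Ω), (1 : Ω)) ∈ preimageAlong ((MonoidHom.fst Ω Ω).comp
          (F.core.prod (⊥ : Subgroup Ω)).subtype) P' := mem_preimageAlong.2 ⟨hm, y.2⟩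
      rw [inducedAlong_apply hi (x := ⟨_, hx⟩) (hxS := hm) (y := y) rfl
        (hx' := hom_mem hφ _)]
      show (φ ⟨_, hx⟩).1 = _
      rw [he ⟨_, hx⟩ ⟨_, hx, rfl⟩ ⟨_, hx, rfl⟩, hge]
  · rintro ⟨T, E, hE, D₀, -, Z, θ, -, -, -, -, hθ, hfac⟩ ⟨U, C, hC⟩
    have hsub := hE.2.1 U C hC
    have hTQ : T ≤ F.core := fun y hy => by
      rw [← hθ y ⟨Subgroup.one_mem _, hy⟩]
      exact hfac.2.2.1.le ⟨_, rfl⟩
    have hUQ : U ≤ F.core := (hom_le (hsub U (subtype_mem C le_rfl))).trans hTQ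
    haveI := finite_of_le (hUQ.trans hQ.1)
    have hbot : U = ⊥ := by
      rw [← hC.2.2.1, eq_bot_iff]
      refine hyperfocal_le_of_coprime fun P hP α hα _ x => ?_
      obtain ⟨-, -, -, ψ, -, hψe, hψQ⟩ := component_centralizes_core hC.1 inferInstance inferInstance hS
        hC.2 P ((mem_autGroup hP).1 hα)
      have h1 : ((α x : P) : Ω) = x := (hψe x).symm.trans (hψQ ⟨x, hUQ (hP x.2)⟩)
      rw [h1, inv_mul_cancel]
      exact Subgroup.one_mem _
    obtain ⟨E', hE'⟩ := exists_factorSystem (F := C) (T := C.center)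
      (S' := (⊤ : Subgroup (↥U ⧸ (C.center).subgroupOf U)))
      (isNormal_stronglyClosed (isNormal_of_isCentral (isCentral_center C)))
      (θ := QuotientGroup.mk' _) (fun s => QuotientGroup.eq_one_iff s)
      (MonoidHom.range_eq_top.2 (QuotientGroup.mk'_surjective _))
    refine (hC.2.2.2 E' hE').2.1 (eq_bot_iff.2 fun y _ => ?_)
    obtain ⟨x, rfl⟩ := QuotientGroup.mk'_surjective _ y
    rw [show x = 1 from Subtype.ext (Subgroup.mem_bot.1 (hbot.le x.2)), map_one]
    exact Subgroup.one_mem _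

end Cfsg.Agent.S5310
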