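import Cfsg.Statements.S5312
import Cfsg.Agent.Lib.FusionSys.LayerProduct

set_option autoImplicit false
open Cfsg

namespace Cfsg.Agent.S5312

/-- Let F be a saturated fusion system over a finite p-group S. Every component C of F is a normal subsystem of every generalized Fitting subsystem of F. -/
theorem result {Ω : Type*} [Group Ω] {S : Subgroup Ω} [Finite S] (p : ℕ) [Fact p.Prime] (hS : IsPGroup p S) (F : Cfsg.FusionSystem S) (hF : F.IsSaturated p)
    {T : Subgroup Ω} (C : Cfsg.FusionSystem T) (hC : C.IsComponentIn F p)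
    {U : Subgroup Ω} (D : Cfsg.FusionSystem U) (hD : D.IsGeneralizedFittingOf F p) : C.IsNormalIn D p := by
  obtain ⟨V, E, hE, hc⟩ := hD
  have hI := Cfsg.Lib.FusionSys.isNormalIn_inner_of_isNormal hS hF (Cfsg.Lib.FusionSys.isNormal_core F)
  have hDn := Cfsg.Lib.FusionSys.isNormalIn_of_centralProduct hS hI hE.1 hc
  haveI := Cfsg.Lib.FusionSys.finite_of_le hDn.1.2.2.2.1.1
  exact (Cfsg.Lib.FusionSys.isProd_of_centralProduct hc).symm.isNormalIn_of_left hDn.1.1
    (Cfsg.Lib.FusionSys.component_isNormalIn_layer hS hE hC)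

end Cfsg.Agent.S5312
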