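import Cfsg.Statements.S5316
import Cfsg.Agent.Lib.FusionSys.MaxClassCube
import Cfsg.Agent.Lib.FusionSys.SmallEssential

set_option autoImplicit false
open Cfsg

namespace Cfsg.Agent.S5316

/-- Let p ≥ 5 be a prime, S a finite p-group of maximal class of order p^n with n ≥ 5 (nilpotency class n − 1), F a saturated fusion system over S, and E an F-essential subgroup that is not a pearl (not elementary abelian of order p² and not extraspecial of order p³ and exponent p). Then E has order at least p⁴. -/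
theorem result {Ω : Type*} [Group Ω] {S : Subgroup Ω} [Finite S] (p : ℕ) [Fact p.Prime] (hp : 5 ≤ p) (hS : IsPGroup p ↥S) (n : ℕ) (hn : Nat.card S = p ^ n) (h5 : 5 ≤ n)
    (hmax : Subgroup.lowerCentralSeries S (n - 2) ≠ ⊥) (F : Cfsg.FusionSystem S) (hF : F.IsSaturated p)
    (E : Subgroup Ω) (hE : F.IsEssential p E)
    (hnp : ¬ ((Nat.card ↥E = p ^ 2 ∧ Cfsg.IsElementaryAbelian p E) ∨ (Nat.card ↥E = p ^ 3 ∧ Cfsg.IsExtraspecial p ↥E ∧ Monoid.exponent ↥E = p))) :
    p ^ 4 ≤ Nat.card ↥E := by
  haveI := Cfsg.Lib.FusionSys.finite_of_le hE.1.1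
  obtain ⟨i, hi⟩ := IsPGroup.iff_card.1 (hS.to_le hE.1.1)
  rw [hi]
  refine Nat.pow_le_pow_right (Fact.out : p.Prime).pos ?_
  by_contra hlt
  rcases (show i ≤ 2 ∨ i = 3 by omega) with h2 | rfl
  · have hab : ∀ a b : E, a * b = b * a := by
      intro a b
      rcases (show i = 0 ∨ i = 1 ∨ i = 2 by omega) with rfl | rfl | rfl
      · have : Subsingleton E := (Nat.card_eq_one_iff_unique.1 (by simpa using hi)).1
        exact Subsingleton.elim _ _
      · haveI : IsCyclic E := isCyclic_of_prime_card (by simpa using hi)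
        exact IsCyclic.commGroup.mul_comm a b
      · exact IsPGroup.commutative_of_card_eq_prime_sq hi a b
    have hrk : (frattini E).index ≤ p ^ 2 := by
      refine (Nat.le_of_dvd Nat.card_pos (Subgroup.index_dvd_card _)).trans ?_
      rw [hi]
      exact Nat.pow_le_pow_right (Fact.out : p.Prime).pos h2
    rcases Cfsg.Lib.FusionSys.RankTwo.abelian_rank_two hS hF hE hab hrk with ⟨hel, hc⟩ | ⟨hp3, -⟩
    · exact hnp (Or.inl ⟨hc, hel⟩)
    · omega
  · rcases Cfsg.Lib.FusionSys.RankTwo.card_cube hS hF hE hi with hel | ⟨-, hex, hexp⟩ | ⟨hp2, -⟩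
    · exact Cfsg.Lib.FusionSys.MaxClassCube.cube_false (by omega) hS
        (Cfsg.Lib.FusionSys.MaxClassCube.isMax_of_hyp hS hn (by omega) hmax) h5 hF hE
        (fun a b => hel.1.is_comm.comm a b) (fun a => Subtype.ext (by simpa using hel.2 a a.2)) hi
    · refine hnp (Or.inr ⟨hi, hex, ?_⟩)
      have hdvd : Monoid.exponent E ∣ p :=
        Monoid.exponent_dvd_of_forall_pow_eq_one fun x => Subtype.ext (by simpa using hexp x x.2)
      refine ((Nat.dvd_prime Fact.out).1 hdvd).resolve_left fun h1 => ?_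
      haveI := Monoid.exp_eq_one_iff.1 h1
      rw [Nat.card_of_subsingleton (1 : E)] at hi
      have := Nat.one_lt_pow (show 3 ≠ 0 by norm_num) (Fact.out : p.Prime).one_lt
      omega
    · omega

end Cfsg.Agent.S5316
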