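import Cfsg.Statements.S5317
import Cfsg.Agent.Lib.FusionSys.SimpleTwo
import Cfsg.Agent.Lib.FusionSys.SylowTwoPSL

set_option autoImplicit false
open Cfsg

namespace Cfsg.Agent.S5317

/-- Let F be a finite field of odd order q with q² ≡ 1 mod 16 (so that a Sylow 2-subgroup of PSL(2,q), dihedral of order the 2-part of (q²−1)/2, has order at least 8). Then the 2-fusion system of PSL(2,F) on a Sylow 2-subgroup is simple: saturated, over a nontrivial 2-group, with no normal subsystem other than the trivial one and itself. -/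
theorem result {F : Type*} [Field F] [Fintype F] (hodd : Fintype.card F % 2 = 1) (h16 : 16 ∣ Fintype.card F ^ 2 - 1)
    (S : Sylow 2 (Matrix.ProjectiveSpecialLinearGroup (Fin 2) F)) :
    (Cfsg.groupFusionSystem (S : Subgroup (Matrix.ProjectiveSpecialLinearGroup (Fin 2) F))).IsSimple 2 := by
  have hF : Odd (Fintype.card F) := Nat.odd_iff.2 hodd
  have h4 : 4 ≤ Nat.card F := by
    rw [Nat.card_eq_fintype_card]
    have h2 : 2 ≤ Fintype.card F := Fintype.one_lt_card
    by_contra h
    have h3 : Fintype.card F = 3 := by omega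
    rw [h3] at h16
    norm_num at h16
  haveI := Cfsg.Lib.Linear.PSL_simple (F := F) 2 le_rfl (fun _ => h4)
  obtain ⟨n, hn, ⟨e⟩⟩ := Cfsg.Lib.FusionSys.Lin.sylow_psl_two_equiv_dihedral hF h16 S
  refine Cfsg.Lib.FusionSys.isSimple_two_of_dihedral (fun hc => ?_) S hn e
  have h := congrArg e (Subtype.ext (hc.is_comm.comm _ _) :
    e.symm (DihedralGroup.r 1) * e.symm (DihedralGroup.sr 0) =
      e.symm (DihedralGroup.sr 0) * e.symm (DihedralGroup.r 1))
  simp only [map_mul, MulEquiv.apply_symm_apply, DihedralGroup.r_mul_sr, DihedralGroup.sr_mul_r,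
    DihedralGroup.sr.injEq] at h
  have h2 : ((2 : ℕ) : ZMod n) = 0 := by linear_combination -h
  rw [ZMod.natCast_eq_zero_iff] at h2
  have := Nat.le_of_dvd two_pos h2
  omega

end Cfsg.Agent.S5317
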