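import Cfsg.Statements.S5318
import Cfsg.Agent.Lib.FusionSys.SimpleTwo
import Cfsg.Agent.Lib.FusionSys.SylowTwoPSL

set_option autoImplicit false
open Cfsg

namespace Cfsg.Agent.S5318

/-- For a finite field F of odd order, the 2-fusion system of PSL(3,F) on a Sylow 2-subgroup (semidihedral or wreathed according as |F| ≡ 3 or 1 mod 4) is simple. -/
theorem result {F : Type*} [Field F] [Fintype F] (hodd : Fintype.card F % 2 = 1) (S : Sylow 2 (Matrix.ProjectiveSpecialLinearGroup (Fin 3) F)) :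
    (Cfsg.groupFusionSystem (S : Subgroup (Matrix.ProjectiveSpecialLinearGroup (Fin 3) F))).IsSimple 2 := by
  have hF : Odd (Fintype.card F) := Nat.odd_iff.2 hodd
  haveI := Cfsg.Lib.Linear.PSL_simple_of_three_le (F := F) (ι := Fin 3) (by simp)
  obtain ⟨P⟩ : Nonempty (Sylow 2 (GL (Fin 2) F)) := inferInstance
  obtain ⟨e⟩ := Cfsg.Lib.FusionSys.Lin.sylow_psl_three_equiv hF S P
  have h4 : Fintype.card F % 4 = 1 ∨ Fintype.card F % 4 = 3 := by omega
  have hG : ¬ IsMulCommutative (Matrix.ProjectiveSpecialLinearGroup (Fin 3) F) := by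
    intro hc
    have hperf := Cfsg.Lib.Linear.commutator_PSL_eq_top (F := F) (ι := Fin 3) (by simp)
    have hbot : commutator (Matrix.ProjectiveSpecialLinearGroup (Fin 3) F) = ⊥ :=
      (commutator_eq_bot_iff_center_eq_top _).2
        (eq_top_iff.2 fun x _ => Subgroup.mem_center_iff.2 fun y => hc.is_comm.comm y x)
    exact absurd (hperf.symm.trans hbot) top_ne_bot
  rcases h4 with h4 | h4
  · refine Cfsg.Lib.FusionSys.isSimple_two_of_wreathed hG S ?_
    obtain ⟨n, hn, hc, x, y, z, hx, hxy, hd, hz, hcj⟩ := Cfsg.Lib.FusionSys.Lin.isWreathed_sylow h4 P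
    refine ⟨n, hn, (Nat.card_congr e.toEquiv).symm.trans hc, e x, e y, e z,
      (e.orderOf_eq x).trans hx, by rw [← map_mul, hxy, map_mul], ?_, (e.orderOf_eq z).trans hz,
      by rw [← map_inv, ← map_mul, ← map_mul, hcj]⟩
    have hmap := congrArg (Subgroup.map e.toMonoidHom) hd
    rwa [Subgroup.map_inf _ _ _ e.injective, MonoidHom.map_zpowers, MonoidHom.map_zpowers,
      Subgroup.map_bot] at hmap
  · refine Cfsg.Lib.FusionSys.isSimple_two_of_quasiDihedral hG S ?_
    obtain ⟨n, hn, hc, x, y, hx, hy, hcj⟩ := Cfsg.Lib.FusionSys.Lin.isQuasiDihedral_sylow h4 P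
    exact ⟨n, hn, (Nat.card_congr e.toEquiv).symm.trans hc, e x, e y,
      (e.orderOf_eq x).trans hx, (e.orderOf_eq y).trans hy,
      by rw [← map_inv, ← map_mul, ← map_mul, hcj, map_pow]⟩

end Cfsg.Agent.S5318
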