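import Cfsg.Statements.S5319
import Cfsg.Agent.Lib.FusionSys.SimpleTwo
import Cfsg.Agent.Lib.FusionSys.SylowTwoPSU

set_option autoImplicit false
open Cfsg

namespace Cfsg.Agent.S5319

/-- Let q be an odd prime power and F a field with q² elements. Then the 2-fusion system of PSU(3,q) (realised as the special unitary group of the standard Hermitian form over F modulo its centre) on a Sylow 2-subgroup is simple. -/
theorem result {F : Type*} [Field F] [Fintype F] (q : ℕ) (hq : Fintype.card F = q ^ 2) (hodd : q % 2 = 1) (S : Sylow 2 (Cfsg.PSU 3 F q)) :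
    (Cfsg.groupFusionSystem (S : Subgroup (Cfsg.PSU 3 F q))).IsSimple 2 := by
  have h2 := Cfsg.Lib.Linear.Herm.two_le_q hq
  have h3 : 3 ≤ q := by omega
  obtain ⟨hsimp, hperf⟩ := Cfsg.Lib.FusionSys.Lin.psu_three_simple_perfect hq h3
  haveI := hsimp
  have hG : ¬ IsMulCommutative (Cfsg.PSU 3 F q) := by
    intro hc
    have hbot : commutator (Cfsg.PSU 3 F q) = ⊥ :=
      (commutator_eq_bot_iff_center_eq_top _).2
        (eq_top_iff.2 fun x _ => Subgroup.mem_center_iff.2 fun y => hc.is_comm.comm y x)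
    exact absurd (hperf.symm.trans hbot) top_ne_bot
  obtain ⟨P⟩ : Nonempty (Sylow 2 ↥(Cfsg.preserving (Units.coeHom (Matrix (Fin 2) (Fin 2) F)) (Cfsg.hermForm 2 F q))) := inferInstance
  obtain ⟨e⟩ : Nonempty ((P : Subgroup ↥(Cfsg.preserving (Units.coeHom (Matrix (Fin 2) (Fin 2) F)) (Cfsg.hermForm 2 F q))) ≃*
      (S : Subgroup (Cfsg.PSU 3 F q))) :=
    Cfsg.Lib.FusionSys.Lin.sylow_psu_three_equiv hq (Nat.odd_iff.2 hodd) S P
  have h4 : q % 4 = 1 ∨ q % 4 = 3 := by omega
  rcases h4 with h4 | h4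
  · refine Cfsg.Lib.FusionSys.isSimple_two_of_quasiDihedral hG S ?_
    obtain ⟨n, hn, hc, x, y, hx, hy, hcj⟩ := Cfsg.Agent.S1218.one_mod_four hq h4 P
    exact ⟨n, hn, (Nat.card_congr e.toEquiv).symm.trans hc, e x, e y,
      (e.orderOf_eq x).trans hx, (e.orderOf_eq y).trans hy,
      by rw [← map_inv, ← map_mul, ← map_mul, ← map_pow]; exact congrArg e hcj⟩
  · refine Cfsg.Lib.FusionSys.isSimple_two_of_wreathed hG S ?_
    obtain ⟨n, hn, hc, x, y, z, hx, hxy, hd, hz, hcj⟩ := Cfsg.Agent.S1218.three_mod_four hq h4 P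
    refine ⟨n, hn, (Nat.card_congr e.toEquiv).symm.trans hc, e x, e y, e z,
      (e.orderOf_eq x).trans hx, by rw [← map_mul, ← map_mul]; exact congrArg e hxy, ?_,
      (e.orderOf_eq z).trans hz, by rw [← map_inv, ← map_mul, ← map_mul]; exact congrArg e hcj⟩
    rw [show Subgroup.zpowers (e x) ⊓ Subgroup.zpowers (e y) =
      (Subgroup.zpowers x ⊓ Subgroup.zpowers y).map e.toMonoidHom by
        rw [Subgroup.map_inf _ _ _ e.injective, MonoidHom.map_zpowers, MonoidHom.map_zpowers]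
        rfl]
    refine (congrArg (Subgroup.map e.toMonoidHom) ?_).trans (Subgroup.map_bot _)
    exact hd

end Cfsg.Agent.S5319
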