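import Cfsg.Statements.S5330
import Cfsg.Agent.Lib.FusionSys.Transfer

set_option autoImplicit false
open Cfsg

namespace Cfsg.Agent.S5330

/-- Let F be a saturated fusion system over a finite abelian p-group S. Then S is the internal direct product of the centre of the system and the focal subgroup: Z(F) ∩ foc(F) = 1 and Z(F)·foc(F) = S. -/
theorem result {Ω : Type*} [Group Ω] {S : Subgroup Ω} [Finite S] (p : ℕ) [Fact p.Prime] (hS : IsPGroup p S) (F : Cfsg.FusionSystem S) (hF : F.IsSaturated p) (hab : ∀ x ∈ S, ∀ y ∈ S, x * y = y * x) : F.center ⊓ F.focalSubgroup = ⊥ ∧ F.center ⊔ F.focalSubgroup = S := by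
  classical
  haveI hfinA : Finite (F.autGroup S) := inferInstance
  haveI := Fintype.ofFinite (F.autGroup S)
  letI : CommGroup ↥S :=
    { (inferInstance : Group ↥S) with
      mul_comm := fun a b => Subtype.ext (hab a a.2 b b.2) }
  have hSS' : ⁅(S : Subgroup Ω), (S : Subgroup Ω)⁆ = ⊥ := by
    rw [eq_bot_iff, Subgroup.commutator_le]
    intro a ha b hb
    rw [Subgroup.mem_bot, commutatorElement_def, hab a ha b hb]
    group
  refine ⟨?_, ?_⟩
  · rw [inf_comm, Cfsg.Lib.FusionSys.focal_inf_center hS hF, hSS', bot_inf_eq]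
  have hnormal : F.IsNormal S := by
    refine Cfsg.Lib.FusionSys.isNormal_of_forall_essential hS hF fun P hP => ?_
    have hPS : P ≤ S := by
      rcases hP with rfl | hP
      exacts [le_rfl, hP.1.1]
    have hSP : S ≤ P := by
      rcases hP with rfl | hP
      · exact le_rfl
      · intro g hg
        exact hP.1.2 P (Cfsg.Lib.FusionSys.isConj_refl F hPS)
          (Cfsg.Lib.FusionSys.mem_centralizerIn.2
            ⟨hg, fun x hx => hab g hg x (hPS hx)⟩)
    refine ⟨hSP, fun α _ => ?_⟩
    obtain rfl := le_antisymm hPS hSP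
    rw [Subgroup.subgroupOf_self, ← MonoidHom.range_eq_map]
    exact MonoidHom.range_eq_top.2 α.surjective
  have hA : ¬ p ∣ Nat.card (F.autGroup S) := by
    obtain ⟨-, -, R, hR⟩ := Cfsg.Lib.FusionSys.isFullyAutomized_and_fc_of_fn hS hF
      (Cfsg.Lib.FusionSys.isFullyNormalized_top F)
    have h1 : autInducedBy S S = ⊥ := by
      rw [eq_bot_iff]
      intro α hα
      obtain ⟨g, hg, h⟩ := Cfsg.Lib.FusionSys.mem_autInducedBy.1 hα
      refine Subgroup.mem_bot.2 (MulEquiv.ext fun x => Subtype.ext ?_)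
      show (α x : Ω) = x
      rw [h x, hab g hg x x.2, mul_inv_cancel_right]
    intro h
    have h2 := R.not_dvd_index
    rw [hR, h1, Subgroup.bot_subgroupOf, Subgroup.index_bot] at h2
    exact h2 h
  refine le_antisymm (sup_le ((Cfsg.Lib.FusionSys.isCentral_center F).1)
    (Cfsg.Lib.FusionSys.focal_le F)) fun x hx => ?_
  have hxS : ⟨x, hx⟩ ∈ (F.center ⊔ F.focalSubgroup).subgroupOf S := by
    set a : S := ⟨x, hx⟩
    set T := (F.center ⊔ F.focalSubgroup).subgroupOf S
    let N : S := ∏ α : F.autGroup S, (α : MulAut S) a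
    have hfix : ∀ β : F.autGroup S, (β : MulAut S) N = N := by
      intro β
      rw [map_prod]
      exact Equiv.prod_comp (Equiv.mulLeft β) fun α : F.autGroup S => (α : MulAut S) a
    have hN : N ∈ T := by
      refine Subgroup.mem_sup_left ?_
      have hc : F.IsCentral (Subgroup.zpowers (N : Ω)) := by
        rw [Cfsg.Lib.FusionSys.isCentral_iff hS hF]
        refine ⟨Subgroup.zpowers_le.2 N.2, ?_⟩
        rintro w ⟨k, rfl⟩ y ⟨φ, hφ, rfl⟩
        obtain ⟨ψ, hψ, hψe, -⟩ := hnormal.2 _ φ hφ
        have hψS := Cfsg.Lib.FusionSys.restrict_mem hψ le_sup_right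
        have hr := Cfsg.Lib.FusionSys.eq_top_of_isConj
          (⟨_, hψS, rfl⟩ : F.IsConj S _)
        let β := Cfsg.Lib.FusionSys.homIso hψS hr
        have hβ : β ∈ F.autGroup S :=
          (Cfsg.Lib.FusionSys.mem_autGroup le_rfl).2 (Cfsg.Lib.FusionSys.isoIn_homIso hψS hr)
        have h1 : β (N ^ k) = N ^ k := by
          rw [map_zpow]
          exact congrArg (· ^ k) (hfix ⟨β, hβ⟩)
        rw [← hψe]
        have h2 := congrArg Subtype.val h1
        rw [Cfsg.Lib.FusionSys.coe_homIso] at h2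
        refine Eq.trans ?_ (h2.trans (by simp))
        show ψ _ = ψ _
        congr 1
      exact (le_sSup (show Subgroup.zpowers (N : Ω) ∈ {Q | F.IsCentral Q} from hc))
        (Subgroup.mem_zpowers _)
    have hq : ∀ α : F.autGroup S, a⁻¹ * (α : MulAut S) a ∈ T := fun α =>
      Subgroup.mem_sup_right (Subgroup.subset_closure
        ⟨S, _, a, (Cfsg.Lib.FusionSys.mem_autGroup le_rfl).1 α.2, rfl⟩)
    have hpow : a ^ Nat.card (F.autGroup S) ∈ T := by
      have h1 : (∏ α : F.autGroup S, (a⁻¹ * (α : MulAut S) a)) ∈ T :=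
        Subgroup.prod_mem _ fun α _ => hq α
      rw [Finset.prod_mul_distrib, Finset.prod_const, Finset.card_univ, inv_pow,
        ← Nat.card_eq_fintype_card] at h1
      have h2 := T.mul_mem h1 (T.inv_mem hN)
      rw [mul_inv_cancel_right] at h2
      simpa using h2
    obtain ⟨k, hk⟩ := hS a
    have hcop : Nat.Coprime (orderOf a) (Nat.card (F.autGroup S)) := by
      obtain ⟨l, -, hl⟩ := (Nat.dvd_prime_pow Fact.out).1 (orderOf_dvd_of_pow_eq_one hk)
      rw [hl]
      exact Nat.Coprime.pow_left l ((Nat.Prime.coprime_iff_not_dvd Fact.out).2 hA)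
    obtain ⟨j, hj⟩ := exists_pow_eq_self_of_coprime hcop.symm
    rw [← hj]
    exact T.pow_mem hpow j
  exact hxS

end Cfsg.Agent.S5330
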