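import Cfsg.Statements.S5331
import Cfsg.Agent.Lib.FusionSys.Abelian

set_option autoImplicit false
open Cfsg

namespace Cfsg.Agent.S5331

/-- Let S be a finite abelian 2-group that is a direct product of cyclic groups of pairwise distinct orders 2^{a_1} < 2^{a_2} < ⋯ < 2^{a_n} (all a_i ≥ 1). Then every saturated fusion system over S is the inner one: its maps are exactly the conjugations by elements of S. -/
theorem result {Ω : Type*} [Group Ω] {S : Subgroup Ω} [Finite S] (n : ℕ) (a : Fin n → ℕ) (ha : StrictMono a) (ha1 : ∀ i, 1 ≤ a i) (e : ↥S ≃* Multiplicative ((i : Fin n) → ZMod (2 ^ a i))) (F : Cfsg.FusionSystem S) (hF : F.IsSaturated 2) (P : Subgroup Ω) : F.Hom P = (Cfsg.innerFusionSystem S).Hom P := by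
  classical
  haveI : Fact (Nat.Prime 2) := ⟨Nat.prime_two⟩
  set A := (i : Fin n) → ZMod (2 ^ a i) with hAdef
  have hab : ∀ x ∈ S, ∀ y ∈ S, x * y = y * x := fun x hx y hy => by
    have h : (⟨x, hx⟩ : S) * ⟨y, hy⟩ = ⟨y, hy⟩ * ⟨x, hx⟩ := by
      apply e.injective
      rw [map_mul, map_mul, mul_comm]
    exact congrArg Subtype.val h
  let N : ℕ := ∑ i, a i
  have haN : ∀ i, a i ≤ N := fun i => Finset.single_le_sum (fun j _ => Nat.zero_le (a j)) (Finset.mem_univ i)
  have hpow : ∀ x : A, 2 ^ N • x = 0 := fun x => funext fun i => by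
    rw [Pi.smul_apply, nsmul_eq_mul, Pi.zero_apply]
    rw [(ZMod.natCast_eq_zero_iff _ _ |>.2 (pow_dvd_pow 2 (haN i)) :
      ((2 ^ N : ℕ) : ZMod (2 ^ a i)) = 0), zero_mul]
  have hS : IsPGroup 2 S := fun x => ⟨N, e.injective (by
    rw [map_pow, map_one]
    exact (ofAdd_nsmul (2 ^ N) (e x).toAdd).symm.trans (by rw [hpow]; rfl))⟩
  refine Cfsg.Lib.FusionSys.hom_eq_inner_of_abelian hS hF hab (fun α hα => ?_) P
  -- the automorphism has odd order
  have hodd : ¬ 2 ∣ orderOf α := fun h =>
    Cfsg.Lib.FusionSys.not_dvd_card_autGroup_of_abelian hS hF hab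
      (h.trans (orderOf_injective (F.autGroup S).subtype Subtype.val_injective ⟨α, hα⟩ ▸
        orderOf_dvd_natCard _))
  let β : A →+ A := AddMonoidHom.mk' (fun x => (e (α (e.symm (Multiplicative.ofAdd x)))).toAdd) (fun x y => by simp [ofAdd_add, toAdd_mul])
  let γ : A →+ A := AddMonoidHom.mk' (fun x => (e (α.symm (e.symm (Multiplicative.ofAdd x)))).toAdd) (fun x y => by simp [ofAdd_add, toAdd_mul])
  have hβdef : ∀ x : A, β x = (e (α (e.symm (Multiplicative.ofAdd x)))).toAdd := fun x => rfl
  have hγβ : ∀ x : A, γ (β x) = x := fun x => by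
    show (e (α.symm (e.symm (e (α (e.symm (Multiplicative.ofAdd x))))))).toAdd = x
    simp
  have hiter : ∀ (k : ℕ) (x : A), (⇑β)^[k] x = (e ((α ^ k) (e.symm (Multiplicative.ofAdd x)))).toAdd := by
    intro k
    induction k with
    | zero => intro x; simp
    | succ k ih =>
      intro x
      rw [Function.iterate_succ_apply', ih, hβdef, pow_succ']
      simp
  let W : ℕ → A → Prop := fun j x => 2 • x = 0 ∧ ∃ y, 2 ^ j • y = x
  have hWmap : ∀ (f : A →+ A) j x, W j x → W j (f x) := by
    rintro f j x ⟨h1, y, rfl⟩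
    exact ⟨by rw [← map_nsmul, h1, map_zero], f y, by rw [map_nsmul]⟩
  have hkill : ∀ (j : ℕ) (y : A) (i : Fin n), a i ≤ j → (2 ^ j • y) i = 0 := by
    intro j y i hi
    rw [Pi.smul_apply, nsmul_eq_mul]
    rw [(ZMod.natCast_eq_zero_iff _ _ |>.2 (pow_dvd_pow 2 hi) :
      ((2 ^ j : ℕ) : ZMod (2 ^ a i)) = 0), zero_mul]
  have hA : ∀ j x, W j x → (∀ i, a i = j + 1 → x i = 0) → W (j + 1) x := by
    rintro j x ⟨h1, y, hy⟩ hz
    refine ⟨h1, ?_⟩
    have : ∀ i, ∃ z : ZMod (2 ^ a i), 2 ^ (j + 1) • z = x i := by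
      intro i
      rcases Nat.lt_or_ge (j + 1) (a i) with hi | hi
      · haveI : NeZero (2 ^ a i) := ⟨pow_ne_zero _ two_ne_zero⟩
        have h2 : 2 • x i = 0 := congrFun h1 i
        have h3 : 2 ^ a i ∣ 2 * (x i).val := by
          rw [← ZMod.natCast_eq_zero_iff, Nat.cast_mul, ZMod.natCast_zmod_val]
          rw [nsmul_eq_mul] at h2
          exact h2
        replace h3 : 2 ^ (a i - 1 + 1) ∣ 2 * (x i).val := by rwa [Nat.sub_add_cancel (ha1 i)]
        rw [pow_succ'] at h3
        obtain ⟨t, ht⟩ := Nat.dvd_of_mul_dvd_mul_left two_pos h3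
        refine ⟨((2 ^ (a i - 1 - (j + 1)) * t : ℕ) : ZMod (2 ^ a i)), ?_⟩
        rw [nsmul_eq_mul, ← Nat.cast_mul, ← mul_assoc, ← pow_add,
          show j + 1 + (a i - 1 - (j + 1)) = a i - 1 by omega, ← ht, ZMod.natCast_zmod_val]
      · refine ⟨0, ?_⟩
        rw [smul_zero]
        rcases Nat.eq_or_lt_of_le hi with hi | hi
        · exact (hz i hi).symm
        · rw [← hy, hkill j y i (by omega)]
    choose z hz' using this
    exact ⟨z, funext hz'⟩
  have hfix : ∀ k j, j + k = N → ∀ x, W j x → β x = x := by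
    intro k
    induction k with
    | zero =>
      rintro j rfl x ⟨-, y, rfl⟩
      rw [map_nsmul, hpow, hpow]
    | succ k ih =>
      intro j hj x hx
      have hWd : W (j + 1) (β x - x) := by
        refine hA j _ ?_ fun i hi => ?_
        · obtain ⟨h1, y, hy⟩ := hx
          obtain ⟨h1', y', hy'⟩ := hWmap β j x ⟨h1, y, hy⟩
          exact ⟨by rw [nsmul_sub, h1', h1, sub_zero], y' - y, by rw [nsmul_sub, hy', hy]⟩
        · haveI : NeZero (2 ^ a i) := ⟨pow_ne_zero _ two_ne_zero⟩
          have key : ∀ u : A, W j u → (W (j + 1) u ↔ u i = 0) := by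
            intro u hu
            refine ⟨fun ⟨_, y, hy⟩ => hy ▸ hkill _ y i hi.le, fun h => hA j u hu fun i' hi' => ?_⟩
            rwa [ha.injective (hi'.trans hi.symm)]
          have hiff : x i = 0 ↔ β x i = 0 := by
            rw [← key x hx, ← key _ (hWmap β j x hx)]
            exact ⟨hWmap β _ x, fun h => by simpa [hγβ] using hWmap γ _ _ h⟩
          rw [Pi.sub_apply, sub_eq_zero]
          by_cases h0 : x i = 0
          · rw [h0, hiff.1 h0]
          · have h2 : ∀ u : ZMod (2 ^ a i), 2 • u = 0 → u ≠ 0 → u.val = 2 ^ (a i - 1) := by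
              intro u hu hu0
              have h3 : 2 ^ a i ∣ 2 * u.val := by
                rw [← ZMod.natCast_eq_zero_iff, Nat.cast_mul, ZMod.natCast_zmod_val]
                rw [nsmul_eq_mul] at hu
                exact hu
              replace h3 : 2 ^ (a i - 1 + 1) ∣ 2 * u.val := by rwa [Nat.sub_add_cancel (ha1 i)]
              rw [pow_succ'] at h3
              obtain ⟨t, ht⟩ := Nat.dvd_of_mul_dvd_mul_left two_pos h3
              have h4 := u.val_lt
              replace h4 : u.val < 2 ^ (a i - 1 + 1) := by rwa [Nat.sub_add_cancel (ha1 i)]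
              rw [pow_succ] at h4
              rw [ht] at h4 ⊢
              have h5 : t < 2 := Nat.lt_of_mul_lt_mul_left h4
              interval_cases t
              · exact absurd ((ZMod.val_eq_zero u).1 (by simpa using ht)) hu0
              · rw [mul_one]
            exact ZMod.val_injective _
              ((h2 _ (congrFun (hWmap β j x hx).1 i) (mt hiff.2 h0)).trans
                (h2 _ (congrFun hx.1 i) h0).symm)
      have hd := ih (j + 1) (by omega) _ hWd
      have hi : ∀ m, (⇑β)^[m] x = x + m • (β x - x) := by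
        intro m
        induction m with
        | zero => simp
        | succ m ihm =>
          rw [Function.iterate_succ_apply', ihm, map_add, map_nsmul, hd, succ_nsmul]
          abel
      have h1 := hi (orderOf α)
      rw [hiter, pow_orderOf_eq_one, MulAut.one_apply, MulEquiv.apply_symm_apply, toAdd_ofAdd,
        left_eq_add] at h1
      obtain ⟨m, hm⟩ := Nat.odd_iff.2 (Nat.two_dvd_ne_zero.1 hodd)
      rw [hm, add_nsmul, one_nsmul, mul_nsmul, hWd.1, smul_zero, zero_add,
        sub_eq_zero] at h1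
      exact h1
  -- trivial on the socle, hence trivial
  have hall : ∀ k (x : A), 2 ^ k • x = 0 → β x = x := by
    intro k
    induction k with
    | zero => intro x hx; rw [pow_zero, one_nsmul] at hx; rw [hx, map_zero]
    | succ k ih =>
      intro x hx
      have h2 := ih (2 • x) (by rw [smul_smul, ← pow_succ]; exact hx)
      have hd2 : 2 • (β x - x) = 0 := by rw [nsmul_sub, ← map_nsmul, h2, sub_self]
      have hd := hfix N 0 (Nat.zero_add N) _ ⟨hd2, _, by rw [pow_zero, one_nsmul]⟩
      have hi : ∀ m, (⇑β)^[m] x = x + m • (β x - x) := by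
        intro m
        induction m with
        | zero => simp
        | succ m ihm =>
          rw [Function.iterate_succ_apply', ihm, map_add, map_nsmul, hd, succ_nsmul]
          abel
      have h1 := hi (orderOf α)
      rw [hiter, pow_orderOf_eq_one, MulAut.one_apply, MulEquiv.apply_symm_apply, toAdd_ofAdd,
        left_eq_add] at h1
      obtain ⟨m, hm⟩ := Nat.odd_iff.2 (Nat.two_dvd_ne_zero.1 hodd)
      rw [hm, add_nsmul, one_nsmul, mul_nsmul, hd2, smul_zero, zero_add,
        sub_eq_zero] at h1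
      exact h1
  refine MulEquiv.ext fun x => ?_
  have h1 := hall N (e x).toAdd (hpow _)
  rw [hβdef, ofAdd_toAdd, MulEquiv.symm_apply_apply] at h1
  exact e.injective (Multiplicative.toAdd.injective h1)

end Cfsg.Agent.S5331
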