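import Cfsg.Statements.S5333
import Cfsg.Agent.Lib.FusionSys.Saturation
import Cfsg.Agent.Lib.FusionSys.Alperin
import Cfsg.Agent.Lib.FusionSys.Local
import Cfsg.Agent.Lib.PGroup.Basic

set_option autoImplicit false
open Cfsg

namespace Cfsg.Agent.S5333

/-- Let F′ ≤ F be saturated fusion systems over the same finite p-group S. Suppose that for every subgroup Z ≤ S of order p that is fully centralized in F′, the maps of F and of F′ with source Z coincide and the centralizer systems C_F(Z) and C_{F′}(Z) coincide. Then F = F′. -/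
theorem result {Ω : Type*} [Group Ω] {S : Subgroup Ω} [Finite S] (p : ℕ) [Fact p.Prime] (hS : IsPGroup p S) (F : Cfsg.FusionSystem S) (hF : F.IsSaturated p) (F' : Cfsg.FusionSystem S) (hF' : F'.IsSaturated p) (hle : F' ≤ F) (hZ : ∀ Z : Subgroup Ω, Z ≤ S → Nat.card Z = p → F'.IsFullyCentralized Z → F.Hom Z = F'.Hom Z ∧ ∀ (C C' : Cfsg.FusionSystem (Cfsg.FusionSystem.centralizerIn S Z)), F.IsCentralizerSystem Z C → F'.IsCentralizerSystem Z C' → ∀ P : Subgroup Ω, C.Hom P = C'.Hom P) (P : Subgroup Ω) : F.Hom P = F'.Hom P := by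
  refine Set.Subset.antisymm ?_ (hle P)
  suffices h : F ≤ F' from h P
  refine Cfsg.Lib.FusionSys.le_of_autGroup_le hS hF F' fun U hU α hα => ?_
  have hUS : U ≤ S := by
    rcases hU with rfl | hU
    exacts [le_rfl, hU.1.1]
  haveI := Cfsg.Lib.FusionSys.finite_of_le hUS
  by_cases hS1 : S = ⊥
  · have hU1 : ∀ x : U, x = 1 := fun x => Subtype.ext (by
      have h := hUS x.2
      rw [hS1, Subgroup.mem_bot] at h
      exact h)
    have hα1 : α = 1 := MulEquiv.ext fun x => (hU1 _).trans (hU1 _).symm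
    rw [hα1]
    exact Subgroup.one_mem _
  haveI : Nontrivial S := (Subgroup.nontrivial_iff_ne_bot S).2 hS1
  obtain ⟨z₀, -, hz₀, hz₀p⟩ := Cfsg.Lib.PGroup.exists_mem_center_orderOf_eq hS
    (N := (⊤ : Subgroup S)) top_ne_bot
  set Z := Subgroup.zpowers (z₀ : Ω) with hZdef
  have hZS : Z ≤ S := Subgroup.zpowers_le.2 z₀.2
  have hZc : ∀ s ∈ S, ∀ x ∈ Z, s * x = x * s := by
    intro s hs x hx
    obtain ⟨k, rfl⟩ := Subgroup.mem_zpowers_iff.1 hx
    have h := congrArg Subtype.val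
      (Subgroup.mem_center_iff.1 (Subgroup.zpow_mem _ hz₀ k) ⟨s, hs⟩)
    simpa using h
  have hCS : FusionSystem.centralizerIn S Z = S :=
    le_antisymm (Cfsg.Lib.FusionSys.centralizerIn_le Z) fun s hs =>
      Cfsg.Lib.FusionSys.mem_centralizerIn.2 ⟨hs, fun x hx => hZc s hs x hx⟩
  have hZfc : F'.IsFullyCentralized Z := ⟨hZS, fun Q _ => by
    rw [hCS]
    exact Cfsg.Lib.FusionSys.card_le_of_le (Cfsg.Lib.FusionSys.centralizerIn_le Q)⟩
  have hcard : Nat.card Z = p := by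
    rw [hZdef, Nat.card_zpowers, Subgroup.orderOf_coe, hz₀p]
  obtain ⟨hHom, hCeq⟩ := hZ Z hZS hcard hZfc
  have hZU : Z ≤ U := by
    rcases hU with rfl | hU
    · exact hZS
    · exact fun x hx => hU.1.2 U (Cfsg.Lib.FusionSys.isConj_refl F hUS)
        (Cfsg.Lib.FusionSys.mem_centralizerIn.2 ⟨hZS hx, fun y hy => (hZc y (hUS hy) x hx).symm⟩)
  -- the image of `Z`
  have hi := (Cfsg.Lib.FusionSys.mem_autGroup hUS).1 hα
  have hφ := Cfsg.Lib.FusionSys.restrict_mem hi hZU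
  have hφ' : _ ∈ F'.Hom Z := hHom ▸ hφ
  set φ := (U.subtype.comp α.toMonoidHom).comp (Subgroup.inclusion hZU) with hφdef
  obtain ⟨β, hβ, hβr, hβe⟩ := Cfsg.Lib.FusionSys.exists_inv hφ' (rfl : φ.range = φ.range)
  set e := Cfsg.Lib.FusionSys.homIso hβ hβr
  have he : Cfsg.Lib.FusionSys.IsoIn F' e := Cfsg.Lib.FusionSys.isoIn_homIso hβ hβr
  have hcent : U ≤ FusionSystem.centralizerIn S φ.range := by
    intro u hu
    refine Cfsg.Lib.FusionSys.mem_centralizerIn.2 ⟨hUS hu, ?_⟩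
    rintro _ ⟨z, rfl⟩
    have h1 : α⁻¹ ⟨u, hu⟩ * Subgroup.inclusion hZU z =
        Subgroup.inclusion hZU z * α⁻¹ ⟨u, hu⟩ :=
      Subtype.ext (hZc _ (hUS (α⁻¹ ⟨u, hu⟩).2) z z.2)
    have h2 := congrArg α h1
    rw [map_mul, map_mul, MulAut.apply_inv_self] at h2
    exact congrArg Subtype.val h2
  obtain ⟨ψ, hψ, hψe⟩ := Cfsg.Lib.FusionSys.IsReceptive_ext
    (Cfsg.Lib.FusionSys.isReceptive_of_fc hS hF' hZfc) he (N := U) (by
      intro g hg
      have hgc := Cfsg.Lib.FusionSys.mem_centralizerIn.1 (hcent hg)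
      refine ⟨hgc.1, ?_, 1, S.one_mem, fun x y hy => ?_⟩
      · exact Subgroup.centralizer_le_normalizer _ fun x hx => (hgc.2 x hx).symm
      · have hxy : y = x :=
          Subtype.ext (hy.trans (Cfsg.Lib.FusionSys.conj_eq_of_commute (hgc.2 x x.2)))
        subst hxy
        simp)
  -- the composite fixes `Z`
  have hγ : ψ.comp α.toMonoidHom ∈ F.Hom U :=
    Cfsg.Lib.FusionSys.comp_mem' hi (hle U hψ) (fun x => (α x).2) fun x => rfl
  have hfix : ∀ z : Z, ψ (α (Subgroup.inclusion hZU z)) = z := by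
    intro z
    have h1 := hψe (φ z) ⟨z, rfl⟩ (α (Subgroup.inclusion hZU z)).2
    rw [Cfsg.Lib.FusionSys.coe_homIso] at h1
    exact h1.trans (hβe z _)
  obtain ⟨C, hC⟩ := Cfsg.Lib.FusionSys.exists_centralizerSystem F hZS
  obtain ⟨C', hC'⟩ := Cfsg.Lib.FusionSys.exists_centralizerSystem F' hZS
  have hmem : ψ.comp α.toMonoidHom ∈ F.centralizerHom Z U :=
    ⟨hγ, hUS.trans hCS.ge, fun x => hCS.ge (Cfsg.Lib.FusionSys.hom_mem hψ _),
      _, Cfsg.Lib.FusionSys.restrict_mem hγ (sup_le le_rfl hZU), fun x => rfl, hfix⟩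
  rw [← hC U, hCeq C C' hC hC' U, hC' U] at hmem
  -- peel off the extension
  obtain ⟨ψi, hψi, -, hψie⟩ := Cfsg.Lib.FusionSys.exists_inv hψ (rfl : ψ.range = ψ.range)
  refine (Cfsg.Lib.FusionSys.mem_autGroup hUS).2 ?_
  exact Cfsg.Lib.FusionSys.comp_mem' hmem.1 hψi (fun x => ⟨α x, rfl⟩)
    fun x => (hψie (α x) _).symm

end Cfsg.Agent.S5333
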