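import Cfsg.Statements.S5334
import Cfsg.Agent.Lib.FusionSys.Extend

set_option autoImplicit false
open Cfsg

namespace Cfsg.Agent.S5334

/-- Let F′ ≤ F be saturated fusion systems over the same finite p-group S, let Q and R be F-centric subgroups, φ a map of F with source Q and values in R, and ψ a map of F with source R. If two of φ, ψ and the composite ψ ∘ φ are maps of F′ then so is the third. -/
theorem result {Ω : Type*} [Group Ω] {S : Subgroup Ω} [Finite S] (p : ℕ) [Fact p.Prime] (hS : IsPGroup p S) (F : Cfsg.FusionSystem S) (hF : F.IsSaturated p) (F' : Cfsg.FusionSystem S) (hF' : F'.IsSaturated p) (hle : F' ≤ F) (Q R : Subgroup Ω) (hQ : F.IsCentric Q) (hR : F.IsCentric R) (φ : ↥Q →* Ω) (hφ : φ ∈ F.Hom Q) (hφR : ∀ x : Q, φ x ∈ R) (ψ : ↥R →* Ω) (hψ : ψ ∈ F.Hom R) : (φ ∈ F'.Hom Q → ψ ∈ F'.Hom R → ψ.comp (φ.codRestrict R hφR) ∈ F'.Hom Q) ∧ (ψ ∈ F'.Hom R → ψ.comp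 (φ.codRestrict R hφR) ∈ F'.Hom Q → φ ∈ F'.Hom Q) ∧ (φ ∈ F'.Hom Q → ψ.comp (φ.codRestrict R hφR) ∈ F'.Hom Q → ψ ∈ F'.Hom R) := by
  refine ⟨fun h1 h2 => F'.comp_mem h1 h2 hφR, fun h1 h2 => ?_, fun h1 h2 => ?_⟩
  · obtain ⟨ψi, hψi, -, hinv⟩ := Cfsg.Lib.FusionSys.exists_inv h1 (rfl : ψ.range = ψ.range)
    refine Cfsg.Lib.FusionSys.comp_mem' h2 hψi (fun x => ⟨_, rfl⟩) fun x => ?_
    exact (hinv ⟨φ x, hφR x⟩ ⟨_, rfl⟩).symm
  · obtain ⟨φi, hφi, -, hinv⟩ := Cfsg.Lib.FusionSys.exists_inv h1 (rfl : φ.range = φ.range)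
    have hle : φ.range ≤ R := by
      rintro _ ⟨x, rfl⟩
      exact hφR x
    have hc : F.IsCentric φ.range := by
      refine ⟨Cfsg.Lib.FusionSys.range_le hφ, fun T hT => hQ.2 T ?_⟩
      exact Cfsg.Lib.FusionSys.isConj_trans ⟨φ, hφ, rfl⟩ hT
    refine Cfsg.Lib.FusionSys.mem_of_centric_restrict hS hF hF' hle' hψ hle hc ?_
    have hv : ∀ x : φ.range, φi x ∈ Q := by
      rintro ⟨_, x, rfl⟩
      exact (hinv x _).symm ▸ x.2
    refine Cfsg.Lib.FusionSys.comp_mem' hφi h2 hv ?_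
    rintro ⟨_, x, rfl⟩
    have h3 : (⟨φi ⟨φ x, ⟨x, rfl⟩⟩, hv _⟩ : Q) = x := Subtype.ext (hinv x _)
    rw [h3]
    rfl
where
  hle' : F'.IsSubsystemOf F := hle

end Cfsg.Agent.S5334
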