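import Cfsg.Statements.S5336
import Cfsg.Agent.Lib.FusionSys.NormalSubgroup

set_option autoImplicit false
open Cfsg

namespace Cfsg.Agent.S5336

/-- Let G be a finite group with Sylow p-subgroup S whose fusion system F_S(G) is simple. If G has no nontrivial normal subgroup of order prime to p and no proper subgroup H containing S induces the same fusion system on S as G does, then G is a simple group. -/
theorem result {G : Type*} [Group G] [Finite G] (p : ℕ) [Fact p.Prime] (S : Sylow p G) (hsimple : (Cfsg.groupFusionSystem (S : Subgroup G)).IsSimple p) (hcore : Cfsg.pPrimeCore p G = ⊥) (hmin : ∀ (H : Subgroup G) (hSH : (S : Subgroup G) ≤ H), H ≠ ⊤ → ∃ P : Subgroup G, (Cfsg.fusionSystemOfSubgroup H (S : Subgroup G) hSH).Hom P ≠ (Cfsg.groupFusionSystem (S : Subgroup G)).Hom P) : IsSimpleGroup G := by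
  have hS1 : (S : Subgroup G) ≠ ⊥ := hsimple.2.1
  haveI : Nontrivial G := by
    by_contra h
    rw [not_nontrivial_iff_subsingleton] at h
    exact hS1 (Subsingleton.elim _ _)
  refine ⟨fun N hN => ?_⟩
  by_cases hN0 : N = ⊥
  · exact Or.inl hN0
  by_contra hcon
  push Not at hcon
  have hNtop := hcon.2
  haveI := hN
  have hT : (S : Subgroup G) ⊓ N ≠ ⊥ := by
    intro h
    apply hN0
    have hcop : (Nat.card N).Coprime p := by
      rw [Nat.coprime_comm, Fact.out (p := p.Prime) |>.coprime_iff_not_dvd]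
      intro hdvd
      obtain ⟨x, hx⟩ := exists_prime_orderOf_dvd_card' (G := N) p hdvd
      have hxp : IsPGroup p (Subgroup.zpowers (x : G)) :=
        IsPGroup.of_card (n := 1) (by rw [Nat.card_zpowers, orderOf_submonoid, hx, pow_one])
      obtain ⟨g, -, hg⟩ := Cfsg.Lib.FusionSys.pConjInto_sylow S _ le_top hxp
      have h1 : g * x * g⁻¹ ∈ (S : Subgroup G) ⊓ N :=
        ⟨hg _ (Subgroup.mem_zpowers _), hN.conj_mem _ x.2 g⟩
      rw [h, Subgroup.mem_bot] at h1
      have hx1 : (x : G) = 1 := by simpa using h1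
      rw [OneMemClass.coe_eq_one] at hx1
      rw [hx1, orderOf_one] at hx
      exact (Fact.out : p.Prime).one_lt.ne hx
    have h2 : N ≤ pPrimeCore p G := le_sSup ⟨hN, hcop⟩
    rw [hcore, le_bot_iff] at h2
    exact h2
  rcases hsimple.2.2 _ _ (Cfsg.Lib.FusionSys.isNormalIn_ofSubgroup S N) with h | ⟨hTS, heq⟩
  · exact hT h
  · obtain ⟨P, hP⟩ := hmin N (hTS.ge.trans inf_le_right) hNtop
    refine hP (Eq.trans ?_ (heq P))
    ext φ
    constructor
    · rintro ⟨h1, h2, h3⟩
      exact ⟨h1.trans hTS.ge, fun x => hTS.ge (h2 x), h3⟩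
    · rintro ⟨h1, h2, h3⟩
      exact ⟨h1.trans hTS.le, fun x => hTS.le (h2 x), h3⟩

end Cfsg.Agent.S5336
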