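import Cfsg.Statements.S5337
import Cfsg.Agent.Lib.FusionSys.Abelian

set_option autoImplicit false
open Cfsg

namespace Cfsg.Agent.S5337

/-- Let F be a saturated fusion system over a finite abelian p-group S. Then F is simple if and only if S has order p and F is the inner system of S (whose only maps are the inclusions, S being abelian). -/
theorem result {Ω : Type*} [Group Ω] {S : Subgroup Ω} [Finite S] (p : ℕ) [Fact p.Prime] (hS : IsPGroup p S) (F : Cfsg.FusionSystem S) (hF : F.IsSaturated p) (hab : ∀ x ∈ S, ∀ y ∈ S, x * y = y * x) : F.IsSimple p ↔ (Nat.card S = p ∧ ∀ P : Subgroup Ω, F.Hom P = (Cfsg.innerFusionSystem S).Hom P) := by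
  constructor
  · rintro ⟨-, hSne, hsimp⟩
    have hinner : ∀ P : Subgroup Ω, F.Hom P = (innerFusionSystem S).Hom P := by
      have hN : (innerFusionSystem S).IsNormalIn F p :=
        Cfsg.Lib.FusionSys.isNormalIn_inner hS hF ⟨le_rfl, fun R hR φ hφ x =>
          Cfsg.Lib.FusionSys.hom_mem hφ x⟩ fun P hP φ hφ =>
            Cfsg.Lib.FusionSys.exists_aut_of_abelian hS hF hab P φ hφ
      rcases hsimp S _ hN with h | ⟨-, h⟩
      · exact absurd h hSne
      · exact fun P => (h P).symm
    refine ⟨?_, hinner⟩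
    obtain ⟨k, hk⟩ := IsPGroup.iff_card.mp hS
    have hk0 : k ≠ 0 := by
      rintro rfl
      rw [pow_zero] at hk
      exact hSne (Subgroup.eq_bot_of_card_eq _ hk)
    obtain ⟨x, hx⟩ := exists_prime_orderOf_dvd_card' (G := S) p
      (hk ▸ dvd_pow_self p hk0)
    set T := Subgroup.zpowers (x : Ω)
    have hTS : T ≤ S := Subgroup.zpowers_le.2 x.2
    have hfix : ∀ (P : Subgroup Ω) (φ : P →* Ω), φ ∈ F.Hom P → ∀ y : P, φ y = y := by
      intro P φ hφ y
      rw [hinner] at hφ
      obtain ⟨hP, g, hg, h⟩ := hφ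
      rw [h, hab g hg y (hP y.2), mul_inv_cancel_right]
    haveI : Finite T := Cfsg.Lib.FusionSys.finite_of_le hTS
    have hN : (innerFusionSystem T).IsNormalIn F p :=
      Cfsg.Lib.FusionSys.isNormalIn_inner hS hF
        ⟨hTS, fun R hR φ hφ y => by rw [hfix R φ hφ y]; exact hR y.2⟩
        fun P hP φ hφ => ⟨1, Subgroup.one_mem _, fun y => by rw [hfix P φ hφ y]; rfl⟩
    have hcT : Nat.card T = p := by
      rw [Nat.card_zpowers, Subgroup.orderOf_coe, hx]
    rcases hsimp T _ hN with h | ⟨h, -⟩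
    · rw [h, Subgroup.card_bot] at hcT
      exact absurd hcT (Fact.out : p.Prime).one_lt.ne
    · rw [← h, hcT]
  · rintro ⟨hc, hinner⟩
    refine ⟨hF, ?_, fun T E hE => ?_⟩
    · rintro rfl
      rw [Subgroup.card_bot] at hc
      exact (Fact.out : p.Prime).one_lt.ne hc
    · have hTS : T ≤ S := hE.1.2.2.2.1.1
      haveI : Finite T := Cfsg.Lib.FusionSys.finite_of_le hTS
      rcases (Fact.out : p.Prime).eq_one_or_self_of_dvd _ (hc ▸ Subgroup.card_dvd_of_le hTS) with
        h | h
      · exact Or.inl (Subgroup.eq_bot_of_card_eq _ h)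
      · obtain rfl := Cfsg.Lib.FusionSys.eq_of_le_of_card_le le_rfl hTS (by rw [h, hc])
        refine Or.inr ⟨rfl, fun P => Set.Subset.antisymm (hE.1.2.2.1 P) ?_⟩
        rw [hinner]
        exact Cfsg.Lib.FusionSys.innerFusionSystem_le E P

end Cfsg.Agent.S5337
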