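import Cfsg.Statements.S5338
import Cfsg.Agent.Lib.FusionSys.Extend

set_option autoImplicit false
open Cfsg

namespace Cfsg.Agent.S5338

/-- Let F be a saturated fusion system over a finite p-group S and F′ ≤ F a saturated subsystem over all of S that is invariant under F in the conjugation sense: for every map φ of F with source Q and every map ψ of F′ between subgroups R ≤ Q (with values in Q), the transported map φψφ⁻¹ defined on φ(R) is again a map of F′. If moreover Aut_{F′}(S) = Aut_F(S), then F′ = F. -/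
theorem result {Ω : Type*} [Group Ω] {S : Subgroup Ω} [Finite S] (p : ℕ) [Fact p.Prime] (hS : IsPGroup p S) (F : Cfsg.FusionSystem S) (hF : F.IsSaturated p) (F' : Cfsg.FusionSystem S) (hF' : F'.IsSaturated p) (hle : F' ≤ F) (hinv : ∀ (Q : Subgroup Ω) (φ : ↥Q →* Ω), φ ∈ F.Hom Q → ∀ (R : Subgroup Ω) (hRQ : R ≤ Q) (ψ : ↥R →* Ω), ψ ∈ F'.Hom R → ∀ (hψQ : ∀ x : R, ψ x ∈ Q), ∃ χ ∈ F'.Hom ((R.subgroupOf Q).map φ), ∀ (x : R) (hx : φ ⟨(x : Ω), hRQ x.2⟩ ∈ (R.subgroupOf Q).map φ), χ ⟨φ ⟨(x : Ω), hRQ x.2⟩, hx⟩ = φ ⟨ψ x, hψQ x⟩) (htop : F'.autGroup S = F.autGroup S) (P : Subgroup Ω) : F'.Hom P = F.Hom P := by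
  refine Set.Subset.antisymm (hle P) (Cfsg.Lib.FusionSys.le_of_normal_autGroup hS hF ?_ htop.ge P)
  intro Q hQ β hβ ε hε
  have hi := (Cfsg.Lib.FusionSys.mem_autGroup hQ).1 hβ
  have he := (Cfsg.Lib.FusionSys.mem_autGroup hQ).1 hε
  obtain ⟨χ, hχ, hχv⟩ := hinv Q _ hi Q le_rfl _ he (fun x => (ε x).2)
  have himg : (Q.subgroupOf Q).map (Q.subtype.comp β.toMonoidHom) = Q := by
    ext y
    constructor
    · rintro ⟨x, -, rfl⟩
      exact (β x).2
    · intro hy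
      exact ⟨β⁻¹ ⟨y, hy⟩, (β⁻¹ ⟨y, hy⟩).2, by simp⟩
  refine (Cfsg.Lib.FusionSys.mem_autGroup hQ).2 ?_
  refine Cfsg.Lib.FusionSys.hom_congr (Cfsg.Lib.FusionSys.restrict_mem hχ himg.ge) fun y => ?_
  obtain ⟨x, rfl⟩ := β.surjective y
  have hx : (Q.subtype.comp β.toMonoidHom) ⟨(x : Ω), x.2⟩ ∈
      (Q.subgroupOf Q).map (Q.subtype.comp β.toMonoidHom) := himg.ge (β x).2
  have h3 := hχv x hx
  simp only [MonoidHom.comp_apply]
  refine Eq.trans ?_ (h3.symm.trans (congrArg χ (Subtype.ext rfl)))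
  simp [MulAut.mul_apply, MulAut.inv_apply]

end Cfsg.Agent.S5338
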