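import Cfsg.Statements.S5340
import Cfsg.Agent.Lib.FusionSys.Simple

set_option autoImplicit false
open Cfsg

namespace Cfsg.Agent.S5340

/-- Let F be a saturated fusion system over a nontrivial finite p-group S such that S is generated by its elements of order p, any two subgroups of S of order p are F-conjugate, and Aut_F(S) consists of inner automorphisms only. Then F is simple. -/
theorem result {Ω : Type*} [Group Ω] {S : Subgroup Ω} [Finite S] (p : ℕ) [Fact p.Prime] (hS : IsPGroup p S) (F : Cfsg.FusionSystem S) (hF : F.IsSaturated p) (hS1 : S ≠ ⊥) (hgen : Subgroup.closure {x : Ω | x ∈ S ∧ orderOf x = p} = S) (htr : ∀ A B : Subgroup Ω, A ≤ S → B ≤ S → Nat.card A = p → Nat.card B = p → F.IsConj A B) (htop : F.autGroup S = Cfsg.Inn ↥S) : F.IsSimple p := by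
  refine Cfsg.Lib.FusionSys.isSimple_of_forall hF hS1 (fun T hT => ?_) fun E _ _ => ?_
  · by_cases hT0 : T = ⊥
    · exact Or.inl hT0
    refine Or.inr (le_antisymm hT.1 (hgen.ge.trans ?_))
    rw [Subgroup.closure_le]
    rintro x ⟨hxS, hxp⟩
    haveI := Cfsg.Lib.FusionSys.finite_of_le hT.1
    obtain ⟨n, hn, hc⟩ :=
      (hS.to_le hT.1).nontrivial_iff_card.mp ((Subgroup.nontrivial_iff_ne_bot T).2 hT0)
    obtain ⟨b, hb⟩ := exists_prime_orderOf_dvd_card' (G := T) p (hc ▸ dvd_pow_self p hn.ne')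
    have hbp : orderOf (b : Ω) = p := (orderOf_submonoid b).trans hb
    obtain ⟨φ, hφ, hr⟩ := htr (Subgroup.zpowers (b : Ω)) (Subgroup.zpowers x)
      (Subgroup.zpowers_le.2 (hT.1 b.2)) (Subgroup.zpowers_le.2 hxS)
      (by rw [Nat.card_zpowers, hbp]) (by rw [Nat.card_zpowers, hxp])
    obtain ⟨y, hy⟩ : x ∈ φ.range := hr ▸ Subgroup.mem_zpowers x
    rw [← hy]
    exact hT.2 _ (Subgroup.zpowers_le.2 b.2) φ hφ y
  · rw [htop]
    exact Cfsg.Lib.FusionSys.inn_le_autGroup le_rfl

end Cfsg.Agent.S5340
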