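import Cfsg.Statements.S5341
import Cfsg.Agent.Lib.FusionSys.Simple

set_option autoImplicit false
open Cfsg

namespace Cfsg.Agent.S5341

/-- Let F be a saturated fusion system over a finite p-group S, T a subgroup strongly closed in F, and F′ any fusion system over T all of whose maps are maps of F. For a subgroup Q ≤ T: if Q is fully centralized in F then it is fully centralized in F′, and if Q is fully normalized in F then it is fully normalized in F′. -/
theorem result {Ω : Type*} [Group Ω] {S : Subgroup Ω} [Finite S] (p : ℕ) [Fact p.Prime] (hS : IsPGroup p S) (F : Cfsg.FusionSystem S) (hF : F.IsSaturated p) (T : Subgroup Ω) (hT : F.StronglyClosed T) (F' : Cfsg.FusionSystem T) (hsub : F'.IsSubsystemOf F) (Q : Subgroup Ω) (hQT : Q ≤ T) : (F.IsFullyCentralized Q → F'.IsFullyCentralized Q) ∧ (F.IsFullyNormalized Q → F'.IsFullyNormalized Q) := by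
  have hsubc : ∀ {A B : Subgroup Ω}, F'.IsConj A B → F.IsConj A B :=
    fun ⟨φ, hφ, hr⟩ => ⟨φ, hsub _ hφ, hr⟩
  have hQS : Q ≤ S := hQT.trans hT.1
  have hN : ∀ R, FusionSystem.normalizerIn T R ≤ FusionSystem.normalizerIn S R :=
    fun R => inf_le_inf_right _ hT.1
  constructor
  · intro hQ
    refine ⟨hQT, fun R hR => ?_⟩
    have hRS := (Cfsg.Lib.FusionSys.isConj_le (hsubc hR)).2
    have hrec := Cfsg.Lib.FusionSys.isReceptive_of_fc hS hF hQ
    obtain ⟨e, he⟩ := Cfsg.Lib.FusionSys.isConj_iff.1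
      (Cfsg.Lib.FusionSys.isConj_symm (hsubc hR))
    obtain ⟨ψ, hψ, hψe⟩ := Cfsg.Lib.FusionSys.IsReceptive_ext hrec he
      (N := R ⊔ FusionSystem.centralizerIn T R) (by
        intro g hg
        have hle : R ⊔ FusionSystem.centralizerIn T R ≤
            FusionSystem.extender S R (Q.subtype.comp e.toMonoidHom) :=
          sup_le (Cfsg.Lib.FusionSys.le_extender hRS fun x => hQS (e x).2)
            ((inf_le_inf_right _ hT.1).trans (Cfsg.Lib.FusionSys.centralizerIn_le_extender _))
        obtain ⟨h1, h2, k, h3, h4⟩ := Cfsg.Lib.FusionSys.mem_extender.1 (hle hg)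
        refine ⟨h1, h2, k, h3, fun x y hxy => ?_⟩
        have hx : g * (x : Ω) * g⁻¹ ∈ R := hxy ▸ y.2
        have hy : y = ⟨_, hx⟩ := Subtype.ext hxy
        rw [hy]
        exact h4 x hx)
    have hmap := Cfsg.Lib.FusionSys.map_subgroupOf_eq (e := e) le_sup_left hψe
    have hmem : ∀ c : FusionSystem.centralizerIn T R,
        ψ (Subgroup.inclusion le_sup_right c) ∈ FusionSystem.centralizerIn T Q := by
      intro c
      refine ⟨Cfsg.Lib.FusionSys.stronglyClosed_apply_mem hT hψ c.2.1, ?_⟩
      have h5 := Cfsg.Lib.FusionSys.map_mem_centralizer (Q := R) ψ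
        (Subgroup.inclusion le_sup_right c) (Cfsg.Lib.FusionSys.mem_centralizerIn.1 c.2).2
      rwa [hmap] at h5
    haveI := Cfsg.Lib.FusionSys.finite_of_le
      ((Cfsg.Lib.FusionSys.centralizerIn_le (S := T) Q).trans hT.1)
    exact Nat.card_le_card_of_injective
      (fun c => (⟨_, hmem c⟩ : FusionSystem.centralizerIn T Q)) fun a b hab =>
        Subgroup.inclusion_injective _ (F.injective_of_mem hψ (congrArg Subtype.val hab))
  · intro hQ
    refine ⟨hQT, fun R hR => ?_⟩
    obtain ⟨hfc, hfa⟩ := Cfsg.Lib.FusionSys.isFullyAutomized_and_fc_of_fn hS hF hQ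
    obtain ⟨ψ, hψ, hv, -⟩ := Cfsg.Lib.FusionSys.exists_normalizer_map hS hfa
      (Cfsg.Lib.FusionSys.isReceptive_of_fc hS hF hfc)
      (Cfsg.Lib.FusionSys.isConj_symm (hsubc hR))
    haveI := Cfsg.Lib.FusionSys.finite_of_le
      ((Cfsg.Lib.FusionSys.normalizerIn_le (S := T) Q).trans hT.1)
    have hmem : ∀ c : FusionSystem.normalizerIn T R,
        ψ (Subgroup.inclusion (hN R) c) ∈ FusionSystem.normalizerIn T Q := fun c =>
      ⟨Cfsg.Lib.FusionSys.stronglyClosed_apply_mem hT hψ c.2.1, (hv _).2⟩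
    exact Nat.card_le_card_of_injective
      (fun c => (⟨_, hmem c⟩ : FusionSystem.normalizerIn T Q)) fun a b hab =>
        Subgroup.inclusion_injective _ (F.injective_of_mem hψ (congrArg Subtype.val hab))

end Cfsg.Agent.S5341
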