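import Cfsg.Statements.S5345
import Mathlib

set_option autoImplicit false
open Cfsg

namespace Cfsg.Agent.S5345

/-- Let D be a conjugation-invariant generating set of 3-transpositions of a finite group G and T a Sylow 2-subgroup of G. Then the members of D lying in T generate an abelian subgroup, and their number is the width of D (the largest number of pairwise commuting members of D). -/
theorem result {G : Type*} [Group G] [Finite G] {D : Set G} (hD : Cfsg.IsThreeTranspositionGroup D) (T : Sylow 2 G) : IsMulCommutative (Subgroup.closure {d : G | d ∈ D ∧ d ∈ T}) ∧ {d : G | d ∈ D ∧ d ∈ T}.ncard = Cfsg.commutingWidth D := by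
  haveI : Fact (Nat.Prime 2) := ⟨Nat.prime_two⟩
  obtain ⟨⟨hinv, h3⟩, hconj, -⟩ := hD
  have hc : ∀ a ∈ D, a ∈ T → ∀ b ∈ D, b ∈ T → Commute a b := by
    intro a ha haT b hb hbT
    have aa : a⁻¹ = a := inv_eq_of_mul_eq_one_left (by rw [← pow_two, ← hinv a ha, pow_orderOf_eq_one])
    have bb : b⁻¹ = b := inv_eq_of_mul_eq_one_left (by rw [← pow_two, ← hinv b hb, pow_orderOf_eq_one])
    obtain ⟨k, hk⟩ := T.2 ⟨a * b, (T : Subgroup G).mul_mem haT hbT⟩
    have hk' : orderOf (a * b) ∣ 2 ^ k := orderOf_dvd_of_pow_eq_one (by simpa using congrArg Subtype.val hk)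
    have hsq : (a * b) ^ 2 = 1 := by
      rcases h3 a ha b hb with h | h
      · exact h
      · have : orderOf (a * b) = 1 := Nat.eq_one_of_dvd_coprimes
          (((Nat.coprime_primes Nat.prime_two Nat.prime_three).2 (by decide)).pow_left k) hk' (orderOf_dvd_of_pow_eq_one h)
        rw [orderOf_eq_one_iff.1 this, one_pow]
    have h1 : a * b = (a * b)⁻¹ := eq_inv_of_mul_eq_one_left (by rw [← pow_two]; exact hsq)
    rw [mul_inv_rev, aa, bb] at h1
    exact h1
  refine ⟨?_, ?_⟩
  · rw [← Subgroup.le_centralizer_iff_isMulCommutative, Subgroup.closure_le]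
    rintro a ⟨ha, haT⟩
    rw [SetLike.mem_coe, Subgroup.mem_centralizer_iff]
    intro z hz
    have hle : Subgroup.closure {d : G | d ∈ D ∧ d ∈ T} ≤ Subgroup.centralizer ({a} : Set G) := by
      rw [Subgroup.closure_le]
      rintro b ⟨hb, hbT⟩
      rw [SetLike.mem_coe, Subgroup.mem_centralizer_singleton_iff]
      exact (hc b hb hbT a ha haT).eq
    exact Subgroup.mem_centralizer_singleton_iff.1 (hle hz)
  · unfold Cfsg.commutingWidth
    have hbdd : BddAbove {n : ℕ | ∃ E : Set G, E ⊆ D ∧ E.Finite ∧ (∀ a ∈ E, ∀ b ∈ E, Commute a b) ∧ E.ncard = n} :=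
      ⟨Nat.card G, by rintro n ⟨E, -, -, -, rfl⟩; rw [← Set.ncard_univ]; exact Set.ncard_le_ncard (Set.subset_univ _)⟩
    refine le_antisymm (le_csSup hbdd ⟨_, fun a ha => ha.1, Set.toFinite _, fun a ha b hb => hc a ha.1 ha.2 b hb.1 hb.2, rfl⟩) ?_
    refine csSup_le ⟨0, ∅, Set.empty_subset _, Set.finite_empty, by simp, Set.ncard_empty G⟩ ?_
    rintro n ⟨E, hED, -, hEc, rfl⟩
    haveI : IsMulCommutative (Subgroup.closure E) := Subgroup.isMulCommutative_closure (fun a ha b hb => hEc a ha b hb)
    have hp : IsPGroup 2 (Subgroup.closure E) := by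
      intro u
      refine ⟨1, Subtype.ext ?_⟩
      rw [SubmonoidClass.coe_pow, Subgroup.coe_one, pow_one]
      obtain ⟨u, hu⟩ := u
      show u ^ 2 = 1
      induction hu using Subgroup.closure_induction with
      | mem a ha => rw [← hinv a (hED ha), pow_orderOf_eq_one]
      | one => exact one_pow _
      | mul a b ha hb iha ihb =>
        have hcom : Commute a b := congrArg Subtype.val (mul_comm' (⟨a, ha⟩ : Subgroup.closure E) ⟨b, hb⟩)
        rw [hcom.mul_pow, iha, ihb, one_mul]
      | inv a _ iha => rw [inv_pow, iha, inv_one]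
    obtain ⟨S, hS⟩ := hp.exists_le_sylow
    obtain ⟨g, hg⟩ := MulAction.exists_smul_eq G S T
    rw [← Set.ncard_image_of_injective E (MulAut.conj g).injective]
    refine Set.ncard_le_ncard ?_ (Set.toFinite _)
    rintro _ ⟨a, ha, rfl⟩
    refine ⟨hconj g a (hED ha), ?_⟩
    show MulAut.conj g a ∈ (T : Subgroup G)
    rw [← hg, Sylow.coe_subgroup_smul]
    exact ⟨a, hS (Subgroup.subset_closure ha), rfl⟩

end Cfsg.Agent.S5345
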