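import Cfsg.Statements.S5346
import Cfsg.Agent.Lib.Fischer.Classes

set_option autoImplicit false
open Cfsg

namespace Cfsg.Agent.S5346

/-- Let D be a conjugation-invariant generating set of 3-transpositions of a finite group G and d a member of D. Then D has width 1 (no two different members of D commute) if and only if G is the product of the subgroup generated by d with the largest normal 3-subgroup of G. -/
theorem result {G : Type*} [Group G] [Finite G] {D : Set G} (hD : Cfsg.IsThreeTranspositionGroup D) {d : G} (hd : d ∈ D) : Cfsg.commutingWidth D = 1 ↔ Subgroup.zpowers d ⊔ Cfsg.pCore 3 G = ⊤ := by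
  rw [Cfsg.Lib.Fischer.width_eq_one_iff hd]
  constructor
  · intro h
    obtain ⟨P, hPn, hsup⟩ := Cfsg.Lib.Fischer.exists_three_normal
      (Cfsg.Lib.Fischer.trans_of_noncommuting hD h hd) h hd
    rw [eq_top_iff, ← hsup]
    exact sup_le_sup le_rfl (Cfsg.Lib.Core.le_pCore' hPn P.2)
  · intro htop
    obtain ⟨hs, -, -⟩ := hD
    have hsq : ∀ a ∈ D, a * a = 1 := fun a ha => by rw [← pow_two, ← hs.1 a ha, pow_orderOf_eq_one]
    have h3 : ∀ x : G, x ^ 2 = 1 → x ∈ Cfsg.pCore 3 G → x = 1 := by
      intro x hx hxm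
      obtain ⟨k, hk⟩ := Cfsg.Lib.Core.pCore_isPGroup 3 G ⟨x, hxm⟩
      exact orderOf_eq_one_iff.1 (Nat.eq_one_of_dvd_coprimes
        (((Nat.coprime_primes Nat.prime_three Nat.prime_two).2 (by decide)).pow_left k)
        (orderOf_dvd_of_pow_eq_one (by simpa using congrArg Subtype.val hk)) (orderOf_dvd_of_pow_eq_one hx))
    intro a ha b hb hab
    have hkey : ∀ c ∈ D, d * c ∈ Cfsg.pCore 3 G := by
      intro c hc
      obtain ⟨w, hw, x, hx, rfl⟩ := Subgroup.mem_sup_of_normal_right.1
        (htop.symm ▸ Subgroup.mem_top c : c ∈ Subgroup.zpowers d ⊔ Cfsg.pCore 3 G)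
      obtain ⟨k, rfl⟩ := Subgroup.mem_zpowers_iff.1 hw
      rcases Int.even_or_odd k with ⟨m, rfl⟩ | ⟨m, rfl⟩
      · exfalso
        have e : d ^ (m + m) = 1 := by rw [← two_mul, zpow_mul, zpow_two, hsq d hd, one_zpow]
        rw [e, one_mul] at hc
        have h1 : x = 1 := h3 x (by rw [pow_two, hsq x hc]) hx
        have h2 := hs.1 _ hc
        rw [h1, orderOf_one] at h2
        exact absurd h2 (by decide)
      · have e : d ^ (2 * m + 1) = d := by rw [zpow_add, zpow_one, zpow_mul, zpow_two, hsq d hd, one_zpow, one_mul]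
        rwa [e, ← mul_assoc, hsq d hd, one_mul]
    have hm : a * b ∈ Cfsg.pCore 3 G := by
      have h := mul_mem (inv_mem (hkey a ha)) (hkey b hb)
      rw [mul_inv_rev, mul_assoc, inv_mul_cancel_left, inv_eq_of_mul_eq_one_right (hsq a ha)] at h
      exact h
    have h1 := h3 _ (by rw [hab.mul_pow, pow_two, pow_two, hsq a ha, hsq b hb, one_mul]) hm
    rw [eq_inv_of_mul_eq_one_left h1, inv_eq_of_mul_eq_one_right (hsq b hb)]

end Cfsg.Agent.S5346
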