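import Cfsg.Statements.S5347
import Mathlib

set_option autoImplicit false
open Cfsg

namespace Cfsg.Agent.S5347

/-- Let D be a conjugation-invariant generating set of 3-transpositions of a finite group G, p a prime bigger than 3, and P a p-subgroup of G. If a member d of D normalizes P then d centralizes P. -/
theorem result {G : Type*} [Group G] [Finite G] {D : Set G} (hD : Cfsg.IsThreeTranspositionGroup D) {p : ℕ} (hp : p.Prime) (hp3 : 3 < p) (P : Subgroup G) (hP : IsPGroup p P) {d : G} (hd : d ∈ D) (hnorm : d ∈ Subgroup.normalizer (P : Set G)) : ∀ x ∈ P, Commute d x := by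
  intro x hx
  haveI : Fact p.Prime := ⟨hp⟩
  obtain ⟨⟨hinv, h3⟩, hconj, -⟩ := hD
  have hd' : x * d * x⁻¹ ∈ D := hconj x d hd
  have dd : d * d = 1 := by rw [← pow_two, ← hinv d hd, pow_orderOf_eq_one]
  have di : d⁻¹ = d := inv_eq_of_mul_eq_one_left dd
  have hmem : d * (x * d * x⁻¹) ∈ P := by
    rw [show d * (x * d * x⁻¹) = (d * x * d⁻¹) * (d * d) * x⁻¹ by group, dd, mul_one]
    exact P.mul_mem ((Subgroup.mem_normalizer_iff.1 hnorm x).1 hx) (P.inv_mem hx)
  obtain ⟨k, hk⟩ := hP ⟨_, hmem⟩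
  have h1 : orderOf (d * (x * d * x⁻¹)) ∣ p ^ k := orderOf_dvd_of_pow_eq_one (by simpa using congrArg Subtype.val hk)
  have h2 : orderOf (d * (x * d * x⁻¹)) = 1 := by
    rcases h3 d hd _ hd' with h | h
    · exact Nat.eq_one_of_dvd_coprimes ((Nat.coprime_primes hp Nat.prime_two).2 (by omega) |>.pow_left k) h1
        (orderOf_dvd_of_pow_eq_one h)
    · exact Nat.eq_one_of_dvd_coprimes ((Nat.coprime_primes hp Nat.prime_three).2 (by omega) |>.pow_left k) h1
        (orderOf_dvd_of_pow_eq_one h)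
  have h4 := orderOf_eq_one_iff.1 h2
  have h5 : x * d * x⁻¹ = d := by rw [eq_inv_of_mul_eq_one_right h4, di]
  show d * x = x * d
  conv_rhs => rw [← inv_mul_cancel_right (x * d) x, h5]

end Cfsg.Agent.S5347
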