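import Cfsg.Statements.S5356
import Cfsg.Agent.Lib.Fischer.SylowThree

set_option autoImplicit false
open Cfsg

namespace Cfsg.Agent.S5356

/-- Let D be a conjugacy class of 3-transpositions generating the finite group G, with at least two members, and d a member of D such that every member of D commuting with d commutes with exactly the same members of D as d. Then there is a Sylow 3-subgroup P of G normalized by d such that G is generated by d, P and the largest normal 2-subgroup of G. -/
theorem result {G : Type*} [Group G] [Finite G] {D : Set G} (hD : Cfsg.IsThreeTranspositionClass D) (hD2 : ∃ a ∈ D, ∃ b ∈ D, a ≠ b) {d : G} (hd : d ∈ D) (hV : {y : G | y ∈ D ∧ Commute d y} = {v : G | v ∈ D ∧ ∀ e ∈ D, Commute v e ↔ Commute d e}) : ∃ P : Sylow 3 G, d ∈ Subgroup.normalizer (P : Set G) ∧ Subgroup.zpowers d ⊔ (P : Subgroup G) ⊔ Cfsg.pCore 2 G = ⊤ := by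
  have hT := Cfsg.Lib.Fischer.trans_of_class hD
  have hall : ∀ a ∈ D, ∀ b ∈ D, Commute a b → Cfsg.Lib.Fischer.SameComm D a b := by
    intro a ha b hb hab
    obtain ⟨g, rfl⟩ := hT.trans d hd a ha
    have hb' : g⁻¹ * b * g ∈ D := by simpa using hT.conj g⁻¹ b hb
    have hcb : Commute d (g⁻¹ * b * g) := by simpa [mul_assoc] using (Commute.conj_iff g⁻¹).2 hab
    have h := (Set.ext_iff.1 hV _).1 ⟨hb', hcb⟩
    have h' := (Cfsg.Lib.Fischer.blocks_sameComm hT).inv g d hd _ hb' fun e he => (h.2 e he).symm
    simpa [mul_assoc] using h'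
  obtain ⟨P, hP⟩ := Cfsg.Lib.Fischer.exists_sylow_normalizes hT hD2 hall hd
  exact ⟨P, hP, (Cfsg.Lib.Fischer.exists_commuting_free_quotient hT hD2 hall hd P).2⟩

end Cfsg.Agent.S5356
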