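import Cfsg.Statements.S5358
import Mathlib

set_option autoImplicit false
open scoped MatrixGroups
open Cfsg

namespace Cfsg.Agent.S5358

theorem three_cases : ∀ s : ZMod 3, s ≠ 0 → s = 1 ∨ s = -1 := by decide
theorem two_smul_ne : ∀ s : ZMod 3, s ≠ 0 → (2 • s : ZMod 3) ≠ 0 := by decide

/-- Let Q be a non-degenerate quadratic form on the n-dimensional coordinate space over the field with three elements and u, v vectors of the same non-zero norm Q(u) = Q(v) spanning different lines (v ≠ u and v ≠ −u). Then the reflection matrices of u and v commute if and only if u and v are orthogonal for the polar form of Q. -/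
theorem result (n : ℕ) (Q : QuadraticForm (ZMod 3) (Fin n → ZMod 3)) (hQ : (QuadraticMap.polarBilin Q).Nondegenerate) (u v : Fin n → ZMod 3) (hu : Q u ≠ 0) (huv : Q u = Q v) (h1 : v ≠ u) (h2 : v ≠ -u) : Commute (Cfsg.reflectionMatrix (⇑Q) u) (Cfsg.reflectionMatrix (⇑Q) v) ↔ QuadraticMap.polar (⇑Q) u v = 0 := by
  classical
  haveI : Fact (Nat.Prime 3) := ⟨by norm_num⟩
  have hdot : ∀ a b : Fin n → ZMod 3, Cfsg.polarVec (⇑Q) a ⬝ᵥ b = QuadraticMap.polar (⇑Q) a b := by
    intro a b
    have hb : b = ∑ j, b j • (Pi.single j (1 : ZMod 3) : Fin n → ZMod 3) := by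
      funext z
      simp [Finset.sum_apply, Pi.single_apply, mul_ite]
    conv_rhs => rw [hb, ← QuadraticMap.polarBilin_apply_apply, map_sum]
    simp [dotProduct, Cfsg.polarVec, mul_comm]
  set B := QuadraticMap.polar (⇑Q) u v with hB
  have hBs : QuadraticMap.polar (⇑Q) v u = B := QuadraticMap.polar_comm _ _ _
  set A := Matrix.vecMulVec u (Cfsg.polarVec (⇑Q) u)
  set A' := Matrix.vecMulVec v (Cfsg.polarVec (⇑Q) v)
  have e1 : A * A' = B • Matrix.vecMulVec u (Cfsg.polarVec (⇑Q) v) := by
    rw [Matrix.vecMulVec_mul_vecMulVec, hdot, Matrix.vecMulVec_smul]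
  have e2 : A' * A = B • Matrix.vecMulVec v (Cfsg.polarVec (⇑Q) u) := by
    rw [Matrix.vecMulVec_mul_vecMulVec, hdot, hBs, Matrix.vecMulVec_smul]
  have key : Commute (Cfsg.reflectionMatrix (⇑Q) u) (Cfsg.reflectionMatrix (⇑Q) v) ↔ A * A' = A' * A := by
    unfold Cfsg.reflectionMatrix
    rw [← huv]
    constructor
    · intro h
      have h' := h.eq
      simp only [mul_sub, sub_mul, one_mul, mul_one, smul_mul_assoc, mul_smul_comm, smul_sub, smul_smul] at h'
      have h'' : ((Q u)⁻¹ * (Q u)⁻¹) • (A * A') = ((Q u)⁻¹ * (Q u)⁻¹) • (A' * A) := by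
        rw [← sub_eq_zero] at h' ⊢
        rw [← h']
        abel
      exact smul_right_injective _ (mul_ne_zero (inv_ne_zero hu) (inv_ne_zero hu)) h''
    · intro h
      exact ((Commute.one_left _).sub_left (((Commute.one_right _).sub_right ((show Commute A A' from h).smul_right _)).smul_left _))
  rw [key, e1, e2]
  constructor
  · intro h
    by_contra hB0
    have h' := congrArg (fun M : Matrix (Fin n) (Fin n) (ZMod 3) => Matrix.mulVec M u) (smul_right_injective _ hB0 h)
    simp only [Matrix.vecMulVec_mulVec, hdot, hBs] at h'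
    have hself : QuadraticMap.polar (⇑Q) u u = 2 • Q u := QuadraticMap.polar_self Q u
    have hs : ∀ s : ZMod 3, s ≠ 0 → s = 1 ∨ s = -1  := three_cases
    have hq : (2 • Q u : ZMod 3) ≠ 0 := by
      exact two_smul_ne _ hu
    rw [hself] at h'
    have hpt : ∀ i, u i * B = v i * (2 • Q u) := fun i => by
      have := congrFun h' i
      simpa [mul_comm] using this
    rcases hs _ hB0 with e | e <;> rcases hs _ hq with e' | e'
    · exact h1 (funext fun i => by have := hpt i; rw [e, e'] at this; simpa using this.symm)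
    · exact h2 (funext fun i => by have := hpt i; rw [e, e'] at this; simp only [mul_one, mul_neg] at this; simp [this])
    · exact h2 (funext fun i => by have := hpt i; rw [e, e'] at this; simp only [mul_one, mul_neg] at this; simp [← this])
    · exact h1 (funext fun i => by have := hpt i; rw [e, e'] at this; simpa using this.symm)
  · intro h
    rw [h, zero_smul, zero_smul]

end Cfsg.Agent.S5358
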