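import Cfsg.Statements.S5363
import Mathlib

set_option autoImplicit false
open Cfsg

namespace Cfsg.Agent.S5363

/-- Let D be a conjugation-invariant set of involutions of a finite group G. Then every product of two members of D has odd order or order 2 if and only if, for every a in D and every b in D different from a and commuting with a, the members of D commuting with a b are exactly those commuting with both a and b. -/
theorem result {G : Type*} [Group G] [Finite G] {D : Set G} (hinv : ∀ d ∈ D, orderOf d = 2) (hconj : ∀ g : G, ∀ d ∈ D, g * d * g⁻¹ ∈ D) : (∀ a ∈ D, ∀ b ∈ D, Odd (orderOf (a * b)) ∨ orderOf (a * b) = 2) ↔ ∀ a ∈ D, ∀ b ∈ D, b ≠ a → Commute a b → {y : G | y ∈ D ∧ Commute (a * b) y} = {y : G | y ∈ D ∧ Commute a y} ∩ {y : G | y ∈ D ∧ Commute b y} := by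
  have inv : ∀ d ∈ D, d * d = 1 := fun d hd => by rw [← pow_two, ← hinv d hd, pow_orderOf_eq_one]
  constructor
  · intro h a ha b hb hne hab
    have key : ∀ a ∈ D, ∀ b ∈ D, b ≠ a → Commute a b → ∀ y ∈ D, Commute (a * b) y → Commute a y := by
      intro a ha b hb hne hab y hy hy'
      rcases h y hy a ha with ho | ho
      · by_cases h1 : orderOf (y * a) = 1
        · have : y = a := by
            have := orderOf_eq_one_iff.1 h1
            rw [eq_inv_of_mul_eq_one_left this, inv_eq_of_mul_eq_one_left (inv a ha)]
          subst this; exact Commute.refl _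
        exfalso
        have hc2 : orderOf (a * b) = 2 := by
          refine orderOf_eq_prime ?_ ?_
          · rw [hab.mul_pow, pow_two, pow_two, inv a ha, inv b hb, one_mul]
          · intro h0
            exact hne ((eq_inv_of_mul_eq_one_right h0).trans (inv_eq_of_mul_eq_one_left (inv a ha)))
        have hcom : Commute (y * a) (a * b) := by
          have h2 : Commute a (a * b) := (Commute.refl a).mul_right hab
          exact (hy'.symm).mul_left h2
        have heq : y * b = (y * a) * (a * b) := by
          rw [mul_assoc, ← mul_assoc a a b, inv a ha, one_mul]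
        have hcop : Nat.Coprime (orderOf (y * a)) (orderOf (a * b)) := by
          rw [hc2]; exact Nat.coprime_two_right.2 ho
        have hord := hcom.orderOf_mul_eq_mul_orderOf_of_coprime hcop
        rw [← heq, hc2] at hord
        rcases h y hy b hb with h3 | h3
        · rw [hord, Nat.odd_iff] at h3; omega
        · rw [hord] at h3; omega
      · have hsq : (y * a) * (y * a) = 1 := by rw [← pow_two, ← ho, pow_orderOf_eq_one]
        have e1 : y * a = (y * a)⁻¹ := eq_inv_of_mul_eq_one_left hsq
        rw [mul_inv_rev, inv_eq_of_mul_eq_one_left (inv a ha), inv_eq_of_mul_eq_one_left (inv y hy)] at e1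
        exact e1.symm
    ext y
    simp only [Set.mem_ofPred_eq, Set.mem_inter_iff]
    constructor
    · rintro ⟨hy, hy'⟩
      have hya := key a ha b hb hne hab y hy hy'
      have hyb := key b hb a ha (Ne.symm hne) hab.symm y hy (by rw [← hab.eq]; exact hy')
      exact ⟨⟨hy, hya⟩, ⟨hy, hyb⟩⟩
    · rintro ⟨⟨hy, h1⟩, -, h2⟩
      exact ⟨hy, h1.mul_left h2⟩
  · intro h a ha b hb
    rcases Nat.even_or_odd (orderOf (a * b)) with he | ho
    swap
    · exact Or.inl ho
    right
    obtain ⟨m, hm⟩ := he
    have hm0 : m ≠ 0 := by
      intro h0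
      have := orderOf_pos (a * b)
      omega
    by_contra hne2
    have hm1 : 1 < m := by omega
    set r := a * b with hr
    have ha' : a⁻¹ = a := inv_eq_of_mul_eq_one_left (inv a ha)
    have hb' : b⁻¹ = b := inv_eq_of_mul_eq_one_left (inv b hb)
    have har : a * r * a = r⁻¹ := by
      rw [hr, mul_inv_rev, ha', hb', ← mul_assoc, inv a ha, one_mul]
    have step : ∀ k : ℕ, a * r ^ (k + 2) = r⁻¹ * (a * r ^ k) * r := by
      intro k
      rw [← har, show k + 2 = 1 + k + 1 by omega, pow_add, pow_add, pow_one]
      simp only [mul_assoc]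
      rw [← mul_assoc a a, inv a ha, one_mul]
    have memD : ∀ k : ℕ, a * r ^ k ∈ D ∧ a * r ^ (k + 1) ∈ D := by
      intro k
      induction k with
      | zero => exact ⟨by simpa using ha, by rw [zero_add, pow_one, hr, ← mul_assoc, inv a ha, one_mul]; exact hb⟩
      | succ k ih =>
        refine ⟨ih.2, ?_⟩
        rw [step]
        simpa using hconj r⁻¹ _ ih.1
    set z := r ^ m with hz
    have hzz : z * z = 1 := by rw [hz, ← pow_add, ← hm, pow_orderOf_eq_one]
    have hz1 : z ≠ 1 := pow_ne_one_of_lt_orderOf hm0 (by omega)
    have hd := (memD m).1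
    have hza : z * a = a * z := by
      have h1 : a * z * a⁻¹ = z⁻¹ := by
        rw [hz, ← conj_pow, ha', har, inv_pow]
      rw [inv_eq_of_mul_eq_one_left hzz] at h1
      conv_lhs => rw [← h1]
      rw [inv_mul_cancel_right]
    have hne' : a * z ≠ a := by simpa using hz1
    have hcz : Commute a (a * z) := by
      show a * (a * z) = a * z * a
      rw [mul_assoc a z a, hza]
    have hset := h a ha (a * z) hd hne' hcz
    have hprod : a * (a * z) = z := by rw [← mul_assoc, inv a ha, one_mul]
    have hzb : Commute z b := by
      have h1 : Commute z r := Commute.pow_self r m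
      have h2 : b = a * r := by rw [hr, ← mul_assoc, inv a ha, one_mul]
      rw [h2]
      exact (show Commute z a from hza).mul_right h1
    have hmem : b ∈ {y : G | y ∈ D ∧ Commute (a * (a * z)) y} := ⟨hb, by rw [hprod]; exact hzb⟩
    rw [hset] at hmem
    have hab : Commute a b := hmem.1.2
    have : r ^ 2 = 1 := by rw [hr, hab.mul_pow, pow_two, pow_two, inv a ha, inv b hb, one_mul]
    have := Nat.le_of_dvd (by norm_num) (orderOf_dvd_of_pow_eq_one this)
    omega

end Cfsg.Agent.S5363
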