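import Cfsg.Statements.S5364
import Mathlib

set_option autoImplicit false
open Cfsg

namespace Cfsg.Agent.S5364

/-- Let D be a conjugation-invariant set of involutions of a finite group G and t an involution in the centre of G such that d t does not lie in D for any d in D. If the images of the members of D in G modulo the subgroup generated by t satisfy the 3-transposition order conditions (each has order 2 and any two have product of order at most 3), then so do the members of D. -/
theorem result {G : Type*} [Group G] [Finite G] {D : Set G} (hinv : ∀ d ∈ D, orderOf d = 2) (hconj : ∀ g : G, ∀ d ∈ D, g * d * g⁻¹ ∈ D) (t : G) (ht : orderOf t = 2) (htZ : t ∈ Subgroup.center G) (hDt : ∀ d ∈ D, d * t ∉ D) [(Subgroup.zpowers t).Normal] (himg : Cfsg.IsThreeTranspositionSet ((QuotientGroup.mk : G → G ⧸ Subgroup.zpowers t) '' D)) : Cfsg.IsThreeTranspositionSet D := by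
  obtain ⟨hinv', h3⟩ := himg
  refine ⟨hinv, fun d hd e he => ?_⟩
  have dd : d⁻¹ = d := inv_eq_of_mul_eq_one_left (by rw [← pow_two, ← hinv d hd, pow_orderOf_eq_one])
  have ee : e⁻¹ = e := inv_eq_of_mul_eq_one_left (by rw [← pow_two, ← hinv e he, pow_orderOf_eq_one])
  have h := h3 _ ⟨d, hd, rfl⟩ _ ⟨e, he, rfl⟩
  have two : ∀ w : G, w ∈ Subgroup.zpowers t → w = 1 ∨ w = t := by
    intro w hw
    obtain ⟨k, rfl⟩ := hw
    show t ^ k = 1 ∨ t ^ k = t
    rw [← zpow_mod_orderOf, ht]
    rcases Int.emod_two_eq_zero_or_one k with h | h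
    · left; simp [h]
    · right; simp [h]
  rw [← QuotientGroup.mk_mul, ← QuotientGroup.mk_pow, ← QuotientGroup.mk_pow, QuotientGroup.eq_one_iff,
    QuotientGroup.eq_one_iff] at h
  rcases h with h | h
  · rcases two _ h with h1 | h1
    · exact Or.inl h1
    · refine absurd ?_ (hDt d hd)
      have : d * t = e * d * e⁻¹ := by
        rw [← h1, ee, pow_two]
        calc d * (d * e * (d * e)) = (d * d) * (e * d * e) := by group
          _ = _ := by rw [show d * d = 1 by rw [← pow_two, ← hinv d hd, pow_orderOf_eq_one], one_mul]
      rw [this]; exact hconj e d hd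
  · rcases two _ h with h1 | h1
    · exact Or.inr h1
    · refine absurd ?_ (hDt d hd)
      have : d * t = (e * d) * e * (e * d)⁻¹ := by
        rw [← h1, mul_inv_rev, ee, dd, pow_succ, pow_two]
        calc d * (d * e * (d * e) * (d * e)) = (d * d) * (e * d * e * (d * e)) := by group
          _ = _ := by rw [show d * d = 1 by rw [← pow_two, ← hinv d hd, pow_orderOf_eq_one], one_mul]
      rw [this]; exact hconj _ e he

end Cfsg.Agent.S5364
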