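import Cfsg.Statements.S5376
import Cfsg.Agent.Lib.Fischer.Relations.M22Simple

set_option autoImplicit false
open Cfsg

namespace Cfsg.Agent.S5376

/-- Let G be a finite group with trivial centre generated by a conjugation-invariant set D of 3-transpositions on which it acts primitively, of type M(22), and suppose some finite primitive 3-transposition group of type M(23) exists. Then G is simple, and for every d in D the subgroup generated by the members of D other than d commuting with d contains d and is quasisimple with centre generated by d. -/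
theorem result {G : Type*} [Group G] [Finite G] {D : Set G} (hD : Cfsg.IsThreeTranspositionGroup D) (hprim : Cfsg.IsPrimitiveUnderConj D) (ht : Cfsg.IsOfTypeM22 G D) (hex : ∃ (X : Type) (_ : Group X) (_ : Finite X) (E : Set X), Cfsg.IsThreeTranspositionClass E ∧ Cfsg.IsPrimitiveUnderConj E ∧ Cfsg.IsOfTypeM23 X E) : IsSimpleGroup G ∧ ∀ d ∈ D, d ∈ Subgroup.closure {y : G | y ∈ D ∧ y ≠ d ∧ Commute d y} ∧ Cfsg.IsQuasisimple ↥(Subgroup.closure {y : G | y ∈ D ∧ y ≠ d ∧ Commute d y}) ∧ Subgroup.center ↥(Subgroup.closure {y : G | y ∈ D ∧ y ≠ d ∧ Commute d y}) = (Subgroup.zpowers d).subgroupOf (Subgroup.closure {y : G | y ∈ D ∧ y ≠ d ∧ Commute d y}) := by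
  classical
  obtain ⟨hset, hconj, hgen⟩ := hD
  obtain ⟨hZ, d₁, hd₁, c₁, -, -, ⟨F₁, i₁, i₂, hF₁, ⟨e₁⟩⟩, -⟩ := id ht
  have hT : Lib.Fischer.Trans D := ⟨hset, hconj, hprim.1, hgen, ⟨d₁, hd₁⟩⟩
  obtain ⟨-, hsep, F, _, _, hF, hU⟩ := Lib.Fischer.Relations.m22_setup hT hprim ht
  obtain ⟨b₁, hb₁⟩ := Lib.Fischer.Relations.perp_nonempty_of_psu (D := D) (d := d₁) hF₁ e₁
  have hw : ∃ a ∈ D, ∃ b ∈ D, a ≠ b ∧ Commute a b := ⟨d₁, hd₁, b₁, hb₁.1, Ne.symm hb₁.2.1, hb₁.2.2⟩
  have hFD := Lib.Fischer.Relations.isFischer_of_primitive hT hprim hw hZ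
  have hH : ∀ d ∈ D, d ∈ Subgroup.closure (Lib.Fischer.perp D d) ∧
      ⁅Subgroup.closure (Lib.Fischer.perp D d), Subgroup.closure (Lib.Fischer.perp D d)⁆ =
        Subgroup.closure (Lib.Fischer.perp D d) := fun d hd =>
    Lib.Fischer.Relations.perp_perfect hFD hU hd hprim hZ hsep
  refine ⟨?_, fun d hd => ⟨(hH d hd).1, ⟨(Subgroup.isPerfect_iff).2 (hH d hd).2, ?_⟩, ?_⟩⟩
  · -- `G` is perfect, hence the component
    obtain ⟨h2', h3'⟩ := Lib.Fischer.core_le_center_of_primitive hT hprim hw
    obtain ⟨L, hLn, hL, -, -⟩ := Lib.Fischer.exists_quasisimple hT hprim.2.1 h2' h3'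
    haveI := hLn
    have hcomm : commutator G = L := Lib.Fischer.commutator_eq hT hL
      (Lib.Fischer.index_le_two_of_connected hT hL (Lib.Fischer.connected_of_primitive hT hprim hw))
    have hd₁' : d₁ ∈ commutator G := by
      rw [commutator_def]
      exact Subgroup.commutator_mono le_top le_top ((hH d₁ hd₁).2.symm ▸ (hH d₁ hd₁).1)
    have htop : L = ⊤ := by
      rw [← hcomm, eq_top_iff, ← hgen, Subgroup.closure_le]
      intro x hx
      obtain ⟨g, rfl⟩ := hprim.1 d₁ hd₁ x hx
      exact (inferInstance : (commutator G).Normal).conj_mem _ hd₁' g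
    haveI hLs := hL.2.2
    have hcb : Subgroup.center ↥L = ⊥ := by
      rw [eq_bot_iff]
      intro z hz
      rw [Subgroup.mem_bot]
      refine Subtype.ext ?_
      rw [Subgroup.coe_one, ← Subgroup.mem_bot, ← hZ, Subgroup.mem_center_iff]
      intro g
      exact congrArg Subtype.val (Subgroup.mem_center_iff.1 hz ⟨g, htop ▸ Subgroup.mem_top g⟩)
    exact MulEquiv.isSimpleGroup ((Subgroup.topEquiv.symm.trans (MulEquiv.subgroupCongr htop.symm)).trans
      ((QuotientGroup.quotientBot (G := ↥L)).symm.trans (QuotientGroup.quotientMulEquivOfEq hcb.symm)))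
  · -- the quotient by the centre is the unitary group
    obtain ⟨g, rfl⟩ := hprim.1 d₁ hd₁ d hd
    have hmap : (Subgroup.closure (Lib.Fischer.perp D d₁)).map (MulAut.conj g).toMonoidHom =
        Subgroup.closure (Lib.Fischer.perp D (g * d₁ * g⁻¹)) := by
      rw [MonoidHom.map_closure]
      congr 1
      ext z
      rw [Lib.Fischer.mem_perp_conj hT]
      refine ⟨?_, fun h => ⟨_, h, by simp [mul_assoc]⟩⟩
      rintro ⟨y, hy, rfl⟩
      simpa [mul_assoc] using hy
    let e : ↥(Subgroup.closure (Lib.Fischer.perp D d₁)) ≃*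
        ↥(Subgroup.closure (Lib.Fischer.perp D (g * d₁ * g⁻¹))) :=
      ((Subgroup.closure (Lib.Fischer.perp D d₁)).equivMapOfInjective _ (MulAut.conj g).injective).trans
        (MulEquiv.subgroupCongr hmap)
    haveI := Lib.Linear.Herm.psu_simple (F := F₁) (q := 2) hF₁ (n := 6) (by norm_num)
    haveI := e₁.isSimpleGroup
    show IsSimpleGroup (↥(Subgroup.closure (Lib.Fischer.perp D (g * d₁ * g⁻¹))) ⧸
      Subgroup.center ↥(Subgroup.closure (Lib.Fischer.perp D (g * d₁ * g⁻¹))))
    haveI : IsSimpleGroup (↥(Subgroup.closure (Lib.Fischer.perp D d₁)) ⧸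
      Subgroup.center ↥(Subgroup.closure (Lib.Fischer.perp D d₁))) := e₁.isSimpleGroup
    refine MulEquiv.isSimpleGroup (QuotientGroup.congr (Subgroup.center ↥(Subgroup.closure (Lib.Fischer.perp D d₁)))
      (Subgroup.center ↥(Subgroup.closure (Lib.Fischer.perp D (g * d₁ * g⁻¹)))) e ?_).symm
    ext x
    constructor
    · rintro ⟨y, hy, rfl⟩
      rw [Subgroup.mem_center_iff]
      intro z
      obtain ⟨z, rfl⟩ := e.surjective z
      show e z * e y = e y * e z
      rw [← map_mul, ← map_mul, Subgroup.mem_center_iff.1 hy z]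
    · intro hx
      refine ⟨e.symm x, ?_, e.apply_symm_apply x⟩
      show e.symm x ∈ Subgroup.center _
      rw [Subgroup.mem_center_iff]
      intro z
      refine e.injective ?_
      rw [map_mul, map_mul, e.apply_symm_apply]
      exact Subgroup.mem_center_iff.1 hx (e z)
  · -- the centre
    have hdc : ∀ x ∈ Subgroup.closure (Lib.Fischer.perp D d), Commute d x := fun x hx => by
      have hle : Subgroup.closure (Lib.Fischer.perp D d) ≤ Subgroup.centralizer ({d} : Set G) :=
        (Subgroup.closure_le _).2 fun y hy => Subgroup.mem_centralizer_singleton_iff.2 hy.2.2.eq.symm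
      exact (Subgroup.mem_centralizer_singleton_iff.1 (hle hx)).symm
    ext z
    rw [Subgroup.mem_center_iff, Subgroup.mem_subgroupOf]
    constructor
    · intro hz
      rcases Lib.Fischer.Relations.eq_or_eq_of_centralizes hFD hU hd hprim hZ (z := (z : G))
        (congrArg Subtype.val (hz ⟨d, (hH d hd).1⟩)).symm
        (fun y hy => (congrArg Subtype.val (hz ⟨y, Subgroup.subset_closure hy⟩)).symm) with h | h
      · rw [h]; exact one_mem _
      · rw [h]; exact Subgroup.mem_zpowers d
    · rintro ⟨k, hk⟩ x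
      refine Subtype.ext ?_
      show (x : G) * (z : G) = z * x
      rw [← hk]
      exact ((hdc x x.2).zpow_left k).eq.symm

end Cfsg.Agent.S5376
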