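import Cfsg.Statements.S5380
import Cfsg.Agent.Lib.Extra.SuzThree.Main

set_option autoImplicit false
open Cfsg

namespace Cfsg.Agent.S5380

/-- Let G be a finite group of Suzuki sporadic type (involution z with generalized Fitting subgroup Q of its centralizer C extraspecial of order 2^7, C/Q the commutator subgroup of the isometry group of the elliptic quadratic form in dimension 6 over the field with two elements, z not weakly closed in Q), and let Y be a subgroup of C of order 3 whose commutator subgroup with Q is non-abelian of order 8 (a quaternion group). Then the centralizer of Y in G is quasisimple, its quotient by Y is isomorphic to the projective special unitary group of dimension 4 over the field with nine elements, and the centralizer of Y has index 2 in the normalizer of Y. -/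
theorem result {G : Type*} [Group G] [Finite G] (z : G) (hz : orderOf z = 2) (Q : Subgroup (Subgroup.centralizer ({z} : Set G))) [Q.Normal] (hF : Cfsg.generalizedFittingSubgroup (Subgroup.centralizer ({z} : Set G)) = Q) (hQ : Cfsg.IsExtraspecial 2 Q) (hcard : Nat.card Q = 2 ^ 7) (e : (Subgroup.centralizer ({z} : Set G)) ⧸ Q ≃* Cfsg.Omega (ZMod 2) (Cfsg.quadFormMinus 2 (ZMod 2) 1 1)) (hnwc : ∃ g : G, (∃ hq : g * z * g⁻¹ ∈ Subgroup.centralizer ({z} : Set G), (⟨g * z * g⁻¹, hq⟩ : Subgroup.centralizer ({z} : Set G)) ∈ Q) ∧ g * z * g⁻¹ ≠ z) (Y : Subgroup (Subgroup.centralizer ({z} : Set G))) (hY : Nat.card Y = 3) (hQY : Nat.card ↥⁅Q, Y⁆ = 8) (hQYna : ¬ IsMulCommutative ↥⁅Q, Y⁆) [((Y.map (Subgroup.subtype (Subgroup.centralizer ({z} : Set G)))).subgroupOf (Subgroup.centralizer ((Y.map (Subgroup.subtype (Subgroup.centralizer ({z} : Set G)))) : Set G))).Normal] (K : Type) [Field K] [Fintype K] (hK : Fintype.card K = 9) : Cfsg.IsQuasisimple ↥(Subgroup.centralizer ((Y.map (Subgroup.subtype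 (Subgroup.centralizer ({z} : Set G)))) : Set G)) ∧ Nonempty (↥(Subgroup.centralizer ((Y.map (Subgroup.subtype (Subgroup.centralizer ({z} : Set G)))) : Set G)) ⧸ (Y.map (Subgroup.subtype (Subgroup.centralizer ({z} : Set G)))).subgroupOf (Subgroup.centralizer ((Y.map (Subgroup.subtype (Subgroup.centralizer ({z} : Set G)))) : Set G)) ≃* Cfsg.PSU 4 K 3) ∧ (Subgroup.centralizer ((Y.map (Subgroup.subtype (Subgroup.centralizer ({z} : Set G)))) : Set G)).relIndex (Subgroup.normalizer ((Y.map (Subgroup.subtype (Subgroup.centralizer ({z} : Set G)))) : Set G)) = 2 := by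
  classical
  obtain ⟨D, M, hDz, hDQ⟩ := Cfsg.Lib.Extra.SuzThree.exists_model_eq z hz Q hF hQ hcard e hnwc
  haveI : Fact (Nat.Prime 3) := ⟨Nat.prime_three⟩
  obtain ⟨⟨a, haY⟩, ha⟩ := exists_prime_orderOf_dvd_card' (G := Y) 3 (by rw [hY])
  rw [Subgroup.orderOf_mk] at ha
  have haG : orderOf (a : G) = 3 := (Subgroup.orderOf_coe a).trans ha
  have haz : Commute (a : G) D.z := by rw [hDz]; exact Subgroup.mem_centralizer_singleton_iff.1 a.2
  have hYa : Subgroup.zpowers a = Y :=
    Subgroup.eq_of_le_of_card_ge (Subgroup.zpowers_le.2 haY) (by rw [Nat.card_zpowers, ha, hY])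
  have hle : ⁅Q, Y⁆ ≤ Q := Subgroup.commutator_le_left Q Y
  let R := LinearMap.range (Cfsg.Lib.Extra.Wide.nMap (D.act (a : G)))
  let P : Subgroup (Subgroup.centralizer ({z} : Set G)) :=
    { carrier := {x | (x : G) ∈ D.Q ∧ D.cls (x : G) ∈ R}
      one_mem' := ⟨one_mem _, by rw [OneMemClass.coe_one, D.cls_one]; exact zero_mem _⟩
      mul_mem' := fun {x y} hx hy => ⟨mul_mem hx.1 hy.1, by
        rw [Subgroup.coe_mul, D.cls_mul _ hx.1 _ hy.1]; exact add_mem hx.2 hy.2⟩
      inv_mem' := fun {x} hx => ⟨inv_mem hx.1, by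
        rw [InvMemClass.coe_inv, D.cls_inv hx.1]; exact hx.2⟩ }
  have hP : ⁅Q, Y⁆ ≤ P := Subgroup.commutator_le.2 fun q hq y hy => by
    rw [← hYa, ← mem_powers_iff_mem_zpowers] at hy
    obtain ⟨n, rfl⟩ := hy
    have hqQ : (q : G) ∈ D.Q := hDQ ▸ ⟨q, hq, rfl⟩
    have h := Cfsg.Lib.Extra.SuzThree.cls_range D haz hqQ n
    rw [commutatorElement_def]
    exact h
  have hT := Cfsg.Lib.Extra.SuzThree.three_of_commutator D haG haz
    (⁅Q, Y⁆.map (Subgroup.centralizer ({z} : Set G)).subtype)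
    (by rw [hDQ]; exact Subgroup.map_mono hle)
    (by rintro _ ⟨x, hx, rfl⟩; exact (hP hx).2)
    (fun q hq => by
      rw [hDQ] at hq
      obtain ⟨q', hq', rfl⟩ := hq
      exact ⟨_, Subgroup.commutator_mem_commutator hq' haY, rfl⟩)
    (by rw [Subgroup.card_map_of_injective (Subgroup.subtype_injective _), hQY])
    (by
      by_contra hc
      push Not at hc
      exact hQYna ⟨⟨fun u v => Subtype.ext (Subtype.ext (hc _ ⟨u, u.2, rfl⟩ _ ⟨v, v.2, rfl⟩))⟩⟩)
  obtain ⟨T, hT⟩ := hT.exists_tri M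
  refine Cfsg.Lib.Extra.SuzThree.main T ?_ K hK
  rw [hT, ← hYa, MonoidHom.map_zpowers]
  rfl

end Cfsg.Agent.S5380
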