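import Cfsg.Statements.S5385
import Cfsg.Agent.Lib.Extra.Wide.FiveHyp
import Cfsg.Agent.Lib.Extra.Wide.Numbers
-- import your own Cfsg.Agent.* helpers here

set_option autoImplicit false
open Cfsg

namespace Cfsg.Agent.S5385

/-- Let G be a finite group of Conway type (involution z with generalized Fitting subgroup Q of its centralizer C extraspecial of order 2^9, C/Q the commutator subgroup of the isometry group of the hyperbolic quadratic form in dimension 8 over the field with two elements, z not weakly closed in Q), and let B be a subgroup of C of order 5 such that the centralizer of B in Q is extraspecial of order 32 containing no elementary abelian subgroup of order 8 (the quaternion-times-dihedral type). Then the layer L of the centralizer of B in G is isomorphic to the Hall–Janko group and the centralizer of L is isomorphic to the alternating group of degree 5. -/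
theorem result {G : Type*} [Group G] [Finite G] (z : G) (hz : orderOf z = 2) (Q : Subgroup (Subgroup.centralizer ({z} : Set G))) [Q.Normal] (hF : Cfsg.generalizedFittingSubgroup (Subgroup.centralizer ({z} : Set G)) = Q) (hQ : Cfsg.IsExtraspecial 2 Q) (hcard : Nat.card Q = 2 ^ 9) (e : (Subgroup.centralizer ({z} : Set G)) ⧸ Q ≃* Cfsg.Omega (ZMod 2) (Cfsg.quadFormPlus 4 (ZMod 2))) (hnwc : ∃ g : G, (∃ hq : g * z * g⁻¹ ∈ Subgroup.centralizer ({z} : Set G), (⟨g * z * g⁻¹, hq⟩ : Subgroup.centralizer ({z} : Set G)) ∈ Q) ∧ g * z * g⁻¹ ≠ z) (B : Subgroup (Subgroup.centralizer ({z} : Set G))) (hB : Nat.card B = 5) (hCQ : Cfsg.IsExtraspecial 2 ↥(Q ⊓ Subgroup.centralizer (B : Set (Subgroup.centralizer ({z} : Set G))))) (hCQcard : Nat.card ↥(Q ⊓ Subgroup.centralizer (B : Set (Subgroup.centralizer ({z} : Set G)))) = 32) (hminus : ∀ A : Subgroup (Subgroup.centralizer ({z} : Set G)), A ≤ Q ⊓ Subgroup.centralizer (B : Set (Subgroup.centralizer ({z} : Set G))) → Cfsg.IsElementaryAbelian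 2 A → Nat.card A ≤ 4) : Cfsg.Spor.IsoJ2 ↥(Cfsg.layer ↥(Subgroup.centralizer ((B.map (Subgroup.subtype (Subgroup.centralizer ({z} : Set G)))) : Set G))) ∧ Nonempty (↥(Subgroup.centralizer (((Cfsg.layer ↥(Subgroup.centralizer ((B.map (Subgroup.subtype (Subgroup.centralizer ({z} : Set G)))) : Set G))).map (Subgroup.subtype _)) : Set G)) ≃* alternatingGroup (Fin 5)) := by
  classical
  haveI : Fact (Nat.Prime 2) := ⟨Nat.prime_two⟩
  haveI : Fact (Nat.Prime 5) := ⟨by norm_num⟩
  obtain ⟨Bm, Sm⟩ := Cfsg.Lib.Linear.Orth.exists_space_minus (F := ZMod 2) 3 1 1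
    Cfsg.Lib.Extra.Wide.aniso_two
  obtain ⟨Bp, Sp⟩ := Cfsg.Lib.Linear.Orth.exists_space_plus (F := ZMod 2) 4
  have hΩ := Cfsg.Lib.Extra.Wide.two_mul_card_omega Sp (by simp)
  rw [Cfsg.Lib.Extra.Wide.card_plus_eight] at hΩ
  rcases Cfsg.Lib.Extra.model_cases hQ 3 (by rw [hcard]) with ⟨⟨f⟩⟩ | ⟨⟨f⟩⟩
  · obtain ⟨D, -, hDz, hDQ⟩ := (Cfsg.Lib.Extra.Wide.exists_data_eq z hz Q hF hQ (Cfsg.Lib.Extra.pairForm_nondeg _)
      (Cfsg.Lib.Extra.plusCoords 4) (Cfsg.Lib.Extra.plus_form 4) Sp (by simp) (by simp; decide)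
      f e hnwc).2 rfl
    obtain ⟨a, haB, ha1⟩ : ∃ a ∈ B, a ≠ 1 := B.ne_bot_iff_exists_ne_one.1 (fun h => by
      rw [h, Subgroup.card_bot] at hB; norm_num at hB) |>.elim fun a ha => ⟨a.1, a.2, fun e => ha (Subtype.ext e)⟩
    have haB5 : orderOf a = 5 := orderOf_eq_prime (by
      have h : (⟨a, haB⟩ : B) ^ Nat.card B = 1 := pow_card_eq_one'
      rw [hB] at h
      exact congrArg Subtype.val h) ha1
    have hBa : B = Subgroup.zpowers a :=
      (Subgroup.eq_of_le_of_card_ge (Subgroup.zpowers_le.2 haB) (by rw [Nat.card_zpowers, haB5, hB])).symm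
    have hcb : ∀ q : Subgroup.centralizer ({z} : Set G),
        q ∈ Subgroup.centralizer (B : Set (Subgroup.centralizer ({z} : Set G))) ↔ Commute (a : G) (q : G) := by
      intro q
      rw [Subgroup.mem_centralizer_iff]
      refine ⟨fun h => congrArg Subtype.val (h a haB), fun h x hx => ?_⟩
      rw [hBa] at hx
      obtain ⟨i, rfl⟩ := Subgroup.mem_zpowers_iff.1 hx
      exact ((show Commute a q from Subtype.ext h.eq).zpow_left i).eq
    have hQmem : ∀ {g : G}, g ∈ D.Q → ∃ hg : g ∈ Subgroup.centralizer ({z} : Set G),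
        (⟨g, hg⟩ : Subgroup.centralizer ({z} : Set G)) ∈ Q := fun {g} hg => by
      rw [hDQ] at hg
      obtain ⟨x, hx, rfl⟩ := hg
      exact ⟨x.2, hx⟩
    have h := D.fiver_of_fixed (b := (a : G)) (by simp) (by rw [Subgroup.orderOf_coe, haB5])
      (by rw [hDz]; exact Subgroup.mem_centralizer_singleton_iff.1 a.2) (by
        rw [← hCQcard]
        exact Nat.card_congr
          { toFun := fun x => ⟨⟨x.1, (hQmem x.2.1).1⟩, (hQmem x.2.1).2, (hcb _).2 x.2.2⟩
            invFun := fun x => ⟨(x.1 : G), hDQ ▸ ⟨_, x.2.1, rfl⟩, (hcb _).1 x.2.2⟩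
            left_inv := fun x => rfl
            right_inv := fun x => rfl }) (fun A hA hAc => by
        have hle : A ≤ Subgroup.centralizer ({z} : Set G) := fun g hg => (hQmem (hA g hg).1).1
        rw [← Nat.card_congr (Subgroup.subgroupOfEquivOfLe hle).toEquiv]
        refine hminus (A.subgroupOf _) (fun x hx => ⟨?_, (hcb x).2 (hA _ hx).2.1⟩) ⟨⟨⟨fun x y => ?_⟩⟩, fun x hx => ?_⟩
        · exact (hQmem (hA _ hx).1).2
        · exact Subtype.ext (Subtype.ext (hAc _ x.2 _ y.2).eq)
        · exact Subtype.ext (by simpa [pow_two] using (hA _ hx).2.2))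
    refine h.main fun x => ?_
    rw [Subgroup.mem_centralizer_iff]
    constructor
    · intro hx; exact (hx (a : G) ⟨a, haB, rfl⟩).symm
    · rintro hx _ ⟨y, hy, rfl⟩
      rw [SetLike.mem_coe, hBa] at hy
      obtain ⟨i, rfl⟩ := Subgroup.mem_zpowers_iff.1 hy
      simpa using (hx.zpow_right i).eq.symm
  · exfalso
    have h := (Cfsg.Lib.Extra.Wide.exists_data z hz Q hF hQ (Cfsg.Lib.Extra.pairForm_nondeg _)
      (Cfsg.Lib.Extra.minusCoords 3) (Cfsg.Lib.Extra.minus_form 3) Sm (by simp) (by simp; decide)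
      f e hnwc).1
    rw [Cfsg.Lib.Extra.Wide.card_minus_eight] at h
    rw [show Nat.card ↥(Cfsg.Omega (ZMod 2) (Cfsg.quadFormPlus 4 (ZMod 2))) = 174182400 by omega] at h
    norm_num at h

end Cfsg.Agent.S5385
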