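import Cfsg.Statements.S5387
import Cfsg.Agent.Lib.LThreeFour.Main
import Cfsg.Agent.Lib.Schur.Basic
-- import your own Cfsg.Agent.* helpers here

set_option autoImplicit false
open Cfsg

namespace Cfsg.Agent.S5387

/-- Up to isomorphism there is at most one quasisimple group whose centre is elementary abelian of order 4 and whose central quotient is isomorphic to the projective special linear group of dimension 3 over the field with four elements: any two such groups are isomorphic. -/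
theorem result {L₁ L₂ : Type*} [Group L₁] [Finite L₁] [Group L₂] [Finite L₂] (F : Type) [Field F] [Fintype F] (hF : Fintype.card F = 4) (h₁ : Cfsg.IsQuasisimple L₁) (h₂ : Cfsg.IsQuasisimple L₂) (hc₁ : Nat.card (Subgroup.center L₁) = 4) (hc₂ : Nat.card (Subgroup.center L₂) = 4) (he₁ : ∀ x ∈ Subgroup.center L₁, x * x = 1) (he₂ : ∀ x ∈ Subgroup.center L₂, x * x = 1) (e₁ : L₁ ⧸ Subgroup.center L₁ ≃* Matrix.ProjectiveSpecialLinearGroup (Fin 3) F) (e₂ : L₂ ⧸ Subgroup.center L₂ ≃* Matrix.ProjectiveSpecialLinearGroup (Fin 3) F) : Nonempty (L₁ ≃* L₂) := by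
  classical
  let G := Matrix.ProjectiveSpecialLinearGroup (Fin 3) F
  let g₁ : L₁ →* G := e₁.toMonoidHom.comp (QuotientGroup.mk' (Subgroup.center L₁))
  let g₂ : L₂ →* G := e₂.toMonoidHom.comp (QuotientGroup.mk' (Subgroup.center L₂))
  have hs₁ : Function.Surjective g₁ := e₁.surjective.comp (QuotientGroup.mk'_surjective _)
  have hs₂ : Function.Surjective g₂ := e₂.surjective.comp (QuotientGroup.mk'_surjective _)
  have hk₁ : ∀ x, g₁ x = 1 ↔ x ∈ Subgroup.center L₁ := fun x => by simp [g₁]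
  have hk₂ : ∀ x, g₂ x = 1 ↔ x ∈ Subgroup.center L₂ := fun x => by simp [g₂]
  have hp₁ : commutator L₁ = ⊤ := h₁.1.commutator_eq_top
  have hp₂ : commutator L₂ = ⊤ := h₂.1.commutator_eq_top
  let P : Subgroup (L₁ × L₂) := (g₁.comp (MonoidHom.fst L₁ L₂)).eqLocus (g₂.comp (MonoidHom.snd L₁ L₂))
  let fp : P →* L₁ := (MonoidHom.fst L₁ L₂).comp P.subtype
  let sp : P →* L₂ := (MonoidHom.snd L₁ L₂).comp P.subtype
  have hfps : Function.Surjective fp := fun a => by
    obtain ⟨b, hb⟩ := hs₂ (g₁ a)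
    exact ⟨⟨(a, b), hb.symm⟩, rfl⟩
  have hsps : Function.Surjective sp := fun b => by
    obtain ⟨a, ha⟩ := hs₁ (g₂ b)
    exact ⟨⟨(a, b), ha⟩, rfl⟩
  let D : Subgroup P := commutator P
  let f : D →* L₁ := fp.comp D.subtype
  let s : D →* L₂ := sp.comp D.subtype
  have hfs : Function.Surjective f := fun a => by
    have : a ∈ D.map fp := by
      show a ∈ (commutator P).map fp
      rw [commutator_def, Subgroup.map_commutator, Subgroup.map_top_of_surjective _ hfps, ← commutator_def, hp₁]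
      trivial
    obtain ⟨x, hx, rfl⟩ := this
    exact ⟨⟨x, hx⟩, rfl⟩
  have hss : Function.Surjective s := fun b => by
    have : b ∈ D.map sp := by
      show b ∈ (commutator P).map sp
      rw [commutator_def, Subgroup.map_commutator, Subgroup.map_top_of_surjective _ hsps, ← commutator_def, hp₂]
      trivial
    obtain ⟨x, hx, rfl⟩ := this
    exact ⟨⟨x, hx⟩, rfl⟩
  let σ : D →* G := g₁.comp f
  have hσ : Function.Surjective σ := hs₁.comp hfs
  have hkerP : (g₁.comp fp).ker ≤ Subgroup.center P := by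
    intro x hx
    have hxa : g₁ x.1.1 = 1 := hx
    have hxb : g₂ x.1.2 = 1 := by rw [← show g₁ x.1.1 = g₂ x.1.2 from x.2]; exact hxa
    exact Subgroup.mem_center_iff.2 fun y => Subtype.ext (Prod.ext
      (Subgroup.mem_center_iff.1 ((hk₁ _).1 hxa) _) (Subgroup.mem_center_iff.1 ((hk₂ _).1 hxb) _))
  have hσc : σ.ker ≤ Subgroup.center D := fun x hx =>
    Subgroup.mem_center_iff.2 fun y => Subtype.ext (Subgroup.mem_center_iff.1 (hkerP (show (x : P) ∈ (g₁.comp fp).ker from hx)) y)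
  have hDperf : commutator D = ⊤ := by
    have hle := Cfsg.Lib.Schur.commutator_le_map hkerP D.subtype fun x => by
      obtain ⟨d, hd⟩ := hfs (fp x)
      refine ⟨d, ?_⟩
      have hd' : fp (D.subtype d) = fp x := hd
      rw [MonoidHom.mem_ker, MonoidHom.comp_apply, map_mul, map_inv, hd', inv_mul_cancel, map_one]
    refine top_le_iff.1 fun x _ => ?_
    obtain ⟨y, hy, hyx⟩ := hle x.2
    exact (Subtype.ext hyx : y = x) ▸ hy
  obtain ⟨-, hup⟩ := Cfsg.Lib.Schur.hasSchur_of_equiv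
    (MulEquiv.ulift (α := G)).symm (Cfsg.Lib.LThreeFour.multiplier hF)
  let σ' : D →* ULift G := (MulEquiv.ulift (α := G)).symm.toMonoidHom.comp σ
  have hker : σ'.ker = σ.ker := by ext x; simp [σ', MonoidHom.mem_ker]
  obtain ⟨π, hπ⟩ := hup D σ' ⟨(MulEquiv.ulift (α := G)).symm.surjective.comp hσ, hker ▸ hσc, by rw [hDperf]; exact le_top⟩
  have hexp : ∀ k : σ'.ker, k ^ 2 = 1 := by
    rintro ⟨x, hx⟩
    rw [hker] at hx
    have hxa : g₁ (x : P).1.1 = 1 := hx
    have hxb : g₂ (x : P).1.2 = 1 := by rw [← show g₁ (x : P).1.1 = g₂ (x : P).1.2 from (x : P).2]; exact hxa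
    refine Subtype.ext (Subtype.ext (Subtype.ext (Prod.ext ?_ ?_)))
    · simpa [pow_two] using he₁ _ ((hk₁ _).1 hxa)
    · simpa [pow_two] using he₂ _ ((hk₂ _).1 hxb)
  have hsmall : Nat.card σ'.ker ≤ 4 := by
    let q : Fin 2 × Fin 2 → σ'.ker := fun i =>
      π (Multiplicative.ofAdd (0, ((i.1 : ℕ) : ZMod 4), ((i.2 : ℕ) : ZMod 4)))
    have hq : Function.Surjective q := fun k => by
      obtain ⟨a, rfl⟩ := hπ k
      obtain ⟨c, i, j⟩ := a
      have two : ∀ b : ZMod 3 × ZMod 4 × ZMod 4, π (Multiplicative.ofAdd (b + b)) = 1 := fun b => by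
        rw [ofAdd_add, map_mul, ← pow_two]; exact hexp _
      have key : ∀ c : ZMod 3, ∀ i j : ZMod 4, ∃ u v : Fin 2, ∃ b : ZMod 3 × ZMod 4 × ZMod 4,
          (c, i, j) = ((0 : ZMod 3), ((u : ℕ) : ZMod 4), ((v : ℕ) : ZMod 4)) + (b + b) := by decide
      obtain ⟨u, v, b, hb⟩ := key c i j
      refine ⟨(u, v), ?_⟩
      show _ = π (Multiplicative.ofAdd (c, i, j))
      rw [hb, ofAdd_add, map_mul, two, mul_one]
    exact (Nat.card_le_card_of_surjective q hq).trans (by simp)
  have hD : Nat.card D = Nat.card σ.ker * Nat.card G := by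
    rw [← σ.ker.card_mul_index, Subgroup.index_ker, MonoidHom.range_eq_top.2 hσ, Subgroup.card_top]
  have hL₁ : Nat.card L₁ = 4 * Nat.card G := by
    rw [← (Subgroup.center L₁).card_mul_index, hc₁, Subgroup.index_eq_card, Nat.card_congr e₁.toEquiv]
  have hL₂ : Nat.card L₂ = 4 * Nat.card G := by
    rw [← (Subgroup.center L₂).card_mul_index, hc₂, Subgroup.index_eq_card, Nat.card_congr e₂.toEquiv]
  have hle : Nat.card D ≤ 4 * Nat.card G := by
    rw [hD]; exact Nat.mul_le_mul_right _ (hker ▸ hsmall)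
  have b₁ : Function.Bijective f := hfs.bijective_of_nat_card_le (hL₁ ▸ hle)
  have b₂ : Function.Bijective s := hss.bijective_of_nat_card_le (hL₂ ▸ hle)
  exact ⟨(MulEquiv.ofBijective f b₁).symm.trans (MulEquiv.ofBijective s b₂)⟩

end Cfsg.Agent.S5387
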