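import Cfsg.Statements.S5393
import Cfsg.Agent.Lib.Concrete.Mathieu
import Cfsg.Agent.S0358

set_option linter.style.haveILetI false

set_option autoImplicit false
open Cfsg

namespace Cfsg.Agent.S5393

open Cfsg.Lib.Concrete

theorem shift_pow : mShift ^ 23 = 1 := by decide +kernel

/-- The only code words constant on the 23 residues are `0` and `1`. -/
theorem const_words {w : GolayPt → ZMod 2} (hw : w ∈ golayCode)
    (h : ∀ p, w (mShift.symm p) = w p) : w = 0 ∨ w = 1 := by
  obtain ⟨c, hc, rfl⟩ := mem_golayCode_iff.1 hw
  have key : (List.range 4096).all (fun c => decide (combo c = 0) || decide (combo c = 16777215) ||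
      (List.range 24).any (fun i => (combo c).testBit (gidx (mShift.symm (gpt (Fin.ofNat 24 i)))).val !=
        (combo c).testBit i)) = true := by decide +kernel
  have := List.all_eq_true.1 key c (List.mem_range.2 hc)
  simp only [Bool.or_eq_true, decide_eq_true_eq, List.any_eq_true, List.mem_range, bne_iff_ne] at this
  rcases this with (h0 | h1) | ⟨i, hi, hne⟩
  · left; rw [h0]; decide +kernel
  · right; rw [h1]; decide +kernel
  · exfalso
    apply hne
    have h' := h (gpt (Fin.ofNat 24 i))
    have e : (gidx (gpt (Fin.ofNat 24 i))).val = i := by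
      rw [gidx_gpt]; simp [Nat.mod_eq_of_lt hi]
    simp only [word, e] at h'
    revert h'
    cases (combo c).testBit i <;> cases (combo c).testBit (gidx (mShift.symm (gpt (Fin.ofNat 24 i)))).val <;> simp

theorem finrank_code : Module.finrank (ZMod 2) Cfsg.golayCode = 12 := Cfsg.Agent.S0358.result

theorem pow_two_mod : ∀ k ≤ 12, 2 ^ k % 23 = 2 → k = 1 ∨ k = 12 := by decide

theorem one_mem : (fun _ : Cfsg.GolayPt => (1 : ZMod 2)) ∈ Cfsg.golayCode :=
  Submodule.subset_span (Or.inr rfl)

/-- The length-24 code built from the squares modulo 23 contains the all-ones word, and the code modulo the all-ones word is an irreducible module over the field with two elements for the code's automorphism group: a subspace of the code that contains the all-ones word and is invariant under every coordinate permutation preserving the code is either the span of the all-ones word or the whole code. -/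
theorem result : (fun _ : Cfsg.GolayPt => (1 : ZMod 2)) ∈ Cfsg.golayCode ∧ ∀ W : Submodule (ZMod 2) (Cfsg.GolayPt → ZMod 2), (fun _ => (1 : ZMod 2)) ∈ W → W ≤ Cfsg.golayCode → (∀ σ ∈ Cfsg.M24, ∀ w ∈ W, (fun p => w (σ.symm p)) ∈ W) → W = Submodule.span (ZMod 2) {fun _ => (1 : ZMod 2)} ∨ W = Cfsg.golayCode := by
  refine ⟨one_mem, fun W h1 hle hinv => ?_⟩
  classical
  let τ : Function.End W := fun w => ⟨fun p => (w : GolayPt → ZMod 2) (mShift.symm p),
    hinv mShift mShift_mem w w.2⟩
  have hiter : ∀ (k : ℕ) (w : W) (p : GolayPt),
      (((τ ^ k) w : W) : GolayPt → ZMod 2) p = (w : GolayPt → ZMod 2) ((mShift ^ k).symm p) := by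
    intro k
    induction k with
    | zero => intro w p; rfl
    | succ k ih =>
      intro w p
      rw [pow_succ' τ, pow_succ' mShift]
      show ((τ ^ k) w : GolayPt → ZMod 2) (mShift.symm p) = _
      rw [ih]
      rfl
  have hτ : τ ^ 23 ^ 1 = 1 := by
    funext w
    apply Subtype.ext
    funext p
    rw [pow_one, hiter, shift_pow]
    rfl
  haveI : Fact (Nat.Prime 23) := ⟨by norm_num⟩
  haveI : Fintype W := Fintype.ofFinite _
  have hmod := Equiv.Perm.card_fixedPoints_modEq (p := 23) hτ
  have hfix : Fintype.card (Function.fixedPoints τ) = 2 := by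
    rw [Fintype.card_eq_nat_card, Nat.card_eq_two_iff]
    refine ⟨⟨0, by apply Subtype.ext; rfl⟩, ⟨⟨_, h1⟩, by apply Subtype.ext; rfl⟩, ?_, ?_⟩
    · intro h
      have := congrArg (fun x : Function.fixedPoints τ => ((x : W) : GolayPt → ZMod 2) none) h
      exact absurd this (by simp)
    · ext ⟨w, hw⟩
      simp only [Set.mem_insert_iff, Set.mem_singleton_iff, Set.mem_univ, iff_true]
      have hw' : ∀ p, (w : GolayPt → ZMod 2) (mShift.symm p) = (w : GolayPt → ZMod 2) p := fun p =>
        congrFun (congrArg Subtype.val hw) p
      rcases const_words (hle w.2) hw' with h | h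
      · left; exact Subtype.ext (Subtype.ext h)
      · right; exact Subtype.ext (Subtype.ext h)
  rw [hfix, Fintype.card_eq_nat_card, Module.natCard_eq_pow_finrank (K := ZMod 2), Nat.card_zmod] at hmod
  have hk : Module.finrank (ZMod 2) W ≤ 12 := finrank_code ▸ Submodule.finrank_mono hle
  rcases pow_two_mod _ hk hmod with h | h
  · left
    symm
    refine Submodule.eq_of_le_of_finrank_le ?_ ?_
    · rw [Submodule.span_le, Set.singleton_subset_iff]; exact h1
    · rw [h, finrank_span_singleton]
      intro h0
      exact absurd (congrFun h0 none) (by simp)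
  · right
    exact Submodule.eq_of_le_of_finrank_le hle (by rw [h, finrank_code])

end Cfsg.Agent.S5393
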