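import Cfsg.Statements.S5397
import Cfsg.Agent.Lib.CoOneLocal.Main
import Cfsg.Agent.Lib.Extra.Wide.FiveHyp
import Cfsg.Agent.Lib.Extra.Wide.Numbers
-- import your own Cfsg.Agent.* helpers here

set_option autoImplicit false
open Cfsg

namespace Cfsg.Agent.S5397

/-- Let G be a finite group of Conway type (involution z with generalized Fitting subgroup Q of its centralizer C extraspecial of order 2^9, C/Q the commutator subgroup of the isometry group of the hyperbolic quadratic form in dimension 8 over the field with two elements, z not weakly closed in Q). Then G has an elementary abelian subgroup A of order 2^11 containing z whose normalizer N is a split extension of A with N/A isomorphic to the automorphism group of the length-24 code built from the squares modulo 23, and N has exactly two orbits on the non-identity elements of A. -/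
theorem result {G : Type*} [Group G] [Finite G] (z : G) (hz : orderOf z = 2) (Q : Subgroup (Subgroup.centralizer ({z} : Set G))) [Q.Normal] (hF : Cfsg.generalizedFittingSubgroup (Subgroup.centralizer ({z} : Set G)) = Q) (hQ : Cfsg.IsExtraspecial 2 Q) (hcard : Nat.card Q = 2 ^ 9) (e : (Subgroup.centralizer ({z} : Set G)) ⧸ Q ≃* Cfsg.Omega (ZMod 2) (Cfsg.quadFormPlus 4 (ZMod 2))) (hnwc : ∃ g : G, (∃ hq : g * z * g⁻¹ ∈ Subgroup.centralizer ({z} : Set G), (⟨g * z * g⁻¹, hq⟩ : Subgroup.centralizer ({z} : Set G)) ∈ Q) ∧ g * z * g⁻¹ ≠ z) : ∃ A : Subgroup G, Cfsg.IsElementaryAbelian 2 A ∧ Nat.card A = 2 ^ 11 ∧ z ∈ A ∧ ∃ _ : (A.subgroupOf (Subgroup.normalizer (A : Set G))).Normal, Nonempty (↥(Subgroup.normalizer (A : Set G)) ⧸ A.subgroupOf (Subgroup.normalizer (A : Set G)) ≃* ↥Cfsg.M24) ∧ (∃ K : Subgroup ↥(Subgroup.normalizer (A : Set G)), (A.subgroupOf (Subgroup.normalizer (A : Set G))).IsComplement' K) ∧ ∃ a ∈ A, ∃ b ∈ A, a ≠ 1 ∧ b ≠ 1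 ∧ (∀ n ∈ Subgroup.normalizer (A : Set G), n * a * n⁻¹ ≠ b) ∧ ∀ c ∈ A, c ≠ 1 → ∃ n ∈ Subgroup.normalizer (A : Set G), n * c * n⁻¹ = a ∨ n * c * n⁻¹ = b := by
  classical
  haveI : Fact (Nat.Prime 2) := ⟨Nat.prime_two⟩
  obtain ⟨Bm, Sm⟩ := Cfsg.Lib.Linear.Orth.exists_space_minus (F := ZMod 2) 3 1 1
    Cfsg.Lib.Extra.Wide.aniso_two
  obtain ⟨Bp, Sp⟩ := Cfsg.Lib.Linear.Orth.exists_space_plus (F := ZMod 2) 4
  rcases Cfsg.Lib.Extra.model_cases hQ 3 (by rw [hcard]) with ⟨⟨f⟩⟩ | ⟨⟨f⟩⟩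
  · obtain ⟨D, hDq, hDz, -⟩ := (Cfsg.Lib.Extra.Wide.exists_data_eq z hz Q hF hQ (Cfsg.Lib.Extra.pairForm_nondeg _)
      (Cfsg.Lib.Extra.plusCoords 4) (Cfsg.Lib.Extra.plus_form 4) Sp (by simp) (by simp; decide)
      f e hnwc).2 rfl
    exact hDz ▸ Cfsg.Lib.CoOneLocal.golay_two_local D hDq
  · exfalso
    have hΩ := Cfsg.Lib.Extra.Wide.two_mul_card_omega Sp (by simp)
    rw [Cfsg.Lib.Extra.Wide.card_plus_eight] at hΩ
    have h := (Cfsg.Lib.Extra.Wide.exists_data z hz Q hF hQ (Cfsg.Lib.Extra.pairForm_nondeg _)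
      (Cfsg.Lib.Extra.minusCoords 3) (Cfsg.Lib.Extra.minus_form 3) Sm (by simp) (by simp; decide)
      f e hnwc).1
    rw [Cfsg.Lib.Extra.Wide.card_minus_eight] at h
    rw [show Nat.card ↥(Cfsg.Omega (ZMod 2) (Cfsg.quadFormPlus 4 (ZMod 2))) = 174182400 by omega] at h
    norm_num at h

end Cfsg.Agent.S5397
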