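import Cfsg.Statements.S5404
import Cfsg.Agent.Lib.Fischer.Cent24.FromCentre
import Cfsg.Agent.Lib.Fischer.Cent24.Transport
import Cfsg.Agent.Lib.Linear.PSUFourSeven
-- import your own Cfsg.Agent.* helpers here

set_option autoImplicit false
open Cfsg Cfsg.Lib.FischerLarge

namespace Cfsg.Agent.S5404

set_option maxHeartbeats 400000 in
/-- Let X be a finite group with a subgroup G₀ of index 2 of the following type: G₀ has an involution z, central in some Sylow 2-subgroup of G₀, whose centralizer C in G₀ has generalized Fitting subgroup Q extraspecial of order 2^13 and normal subgroups Q ≤ N ≤ M with N/Q of order 3, M/N isomorphic to the projective special unitary group of dimension 4 over the field with nine elements and M of index 2 in C, some G₀-conjugate of z other than z lying in Q; and suppose the generalized Fitting subgroup of the centralizer of z in X equals that of C. Then X is generated by a conjugacy class of 3-transpositions with respect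 to which it is of type M(24). -/
theorem result {X : Type*} [Group X] [Finite X] (G₀ : Subgroup X) (hidx : G₀.index = 2) (z : ↥G₀) (hz : orderOf z = 2) (Q N M : Subgroup (Subgroup.centralizer ({z} : Set ↥G₀))) [Q.Normal] [N.Normal] [M.Normal] (hF : Cfsg.generalizedFittingSubgroup (Subgroup.centralizer ({z} : Set ↥G₀)) = Q) (hQ : Cfsg.IsExtraspecial 2 Q) (hcard : Nat.card Q = 2 ^ 13) (hQN : Q ≤ N) (hNM : N ≤ M) (hN : Nat.card N = 3 * Nat.card Q) (K : Type) [Field K] [Fintype K] (hK : Fintype.card K = 9) (e : M ⧸ N.subgroupOf M ≃* Cfsg.PSU 4 K 3) (hM : M.index = 2) (hnwc : ∃ g : ↥G₀, (∃ hq : g * z * g⁻¹ ∈ Subgroup.centralizer ({z} : Set ↥G₀), (⟨g * z * g⁻¹, hq⟩ : Subgroup.centralizer ({z} : Set ↥G₀)) ∈ Q) ∧ g * z * g⁻¹ ≠ z) (hcentral : ∃ P : Sylow 2 ↥G₀, z ∈ (P : Subgroup ↥G₀) ∧ ∀ x ∈ (P : Subgroup ↥G₀), Commute x z) (hFX : (Cfsg.generalizedFittingSubgroup ↥(Subgroup.centralizer ({(z : X)} : Set X))).map (Subgroup.subtype _) = ((Q.map (Subgroup.subtype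 _)).map G₀.subtype)) : ∃ E : Set X, Cfsg.IsThreeTranspositionClass E ∧ Cfsg.IsOfTypeM24 X E := by
  classical
  have hL : Cfsg.IsOfLargeFischerTypeAt z Q :=
    ⟨⟨hz, hF, hQ, hcard, hnwc⟩, N, M, inferInstance, inferInstance, hQN, hNM, hN,
      ⟨K, inferInstance, inferInstance, hK, ⟨e⟩⟩, hM⟩
  obtain ⟨D⟩ := exists_coord z Q hL
  obtain ⟨g₁, ⟨hq, hgQ⟩, hne₁⟩ := hnwc
  have hw : D.Wit g₁ (g₁ * z * g₁⁻¹) := ⟨rfl, ⟨_, hgQ, rfl⟩, hne₁⟩
  obtain ⟨F, hFdef⟩ : ∃ F, F = Cfsg.generalizedFittingSubgroup ↥(Subgroup.centralizer ({(z : X)} : Set X)) :=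
    ⟨_, rfl⟩
  rw [← hFdef] at hFX
  haveI hFn : F.Normal := by
    haveI := Lib.Core.fittingSubgroup_normal' ↥(Subgroup.centralizer ({(z : X)} : Set X))
    rw [hFdef, Cfsg.generalizedFittingSubgroup]
    exact Subgroup.sup_normal _ _
  have O : Over G₀ z (Q.map (Subgroup.centralizer ({z} : Set ↥G₀)).subtype) := by
    refine ⟨hidx, hcentral, fun a ha x hx => ?_, fun a ha hall => ?_⟩
    · obtain ⟨w, hwF, hwx⟩ : (x : X) ∈ F.map (Subgroup.subtype _) := hFX ▸ ⟨x, hx, rfl⟩
      have h1 : a * (x : X) * a⁻¹ ∈ F.map (Subgroup.subtype _) :=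
        ⟨⟨a, mem_cent_of_commute ha⟩ * w * ⟨a, mem_cent_of_commute ha⟩⁻¹, hFn.conj_mem w hwF _, by
          rw [map_mul, map_mul, map_inv, hwx]; rfl⟩
      rw [hFX] at h1
      obtain ⟨y, hy, e⟩ := h1
      exact ⟨y, hy, e.symm⟩
    · have h1 : (⟨a, mem_cent_of_commute ha⟩ : ↥(Subgroup.centralizer ({(z : X)} : Set X))) ∈ F := by
        rw [hFdef]
        refine Lib.Core.centralizer_generalizedFitting_le (Subgroup.mem_centralizer_iff.2 fun w hw' => ?_)
        rw [← hFdef, SetLike.mem_coe] at hw'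
        obtain ⟨y, hy, e⟩ : (w : X) ∈ (Q.map (Subgroup.subtype _)).map G₀.subtype := hFX ▸ ⟨w, hw', rfl⟩
        refine Subtype.ext ?_
        show (w : X) * a = a * w
        rw [← e]
        exact (hall y hy).eq.symm
      obtain ⟨y, -, e⟩ : a ∈ (Q.map (Subgroup.subtype _)).map G₀.subtype := hFX ▸ ⟨_, h1, rfl⟩
      rw [← e]
      exact y.2
  obtain ⟨d, τ, o, τ₂, ι, S, hzd, hrange, htwo⟩ := Lib.Fischer.Cent24.exists_side O D hw
  have hCX : Nat.card ↥(Subgroup.centralizer ({(z : X)} : Set X)) = 2 ^ 22 * 3 ^ 7 * 5 * 7 := by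
    have hCG : Nat.card ↥(Subgroup.centralizer ({z} : Set ↥G₀)) = 2 * (3 * 2 ^ 13 * 3265920) := by
      have h1 := Subgroup.card_mul_index M
      have h2 := Subgroup.card_mul_index (N.subgroupOf M)
      rw [Subgroup.index_eq_card, Nat.card_congr e.toEquiv, Lib.Linear.PSUFourSeven.card_PSU hK,
        Nat.card_congr (Subgroup.subgroupOfEquivOfLe hNM).toEquiv, hN, hcard] at h2
      rw [hM, ← h2] at h1
      rw [← h1]
      norm_num
    obtain ⟨C, hC⟩ : ∃ C, C = Subgroup.centralizer ({(z : X)} : Set X) := ⟨_, rfl⟩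
    have hmC : ∀ {a : X}, a ∈ C ↔ Commute a (z : X) := fun {a} => by
      rw [hC, Subgroup.mem_centralizer_singleton_iff]; exact Iff.rfl
    have hcardC : Nat.card ↥(G₀.subgroupOf C) = Nat.card ↥(Subgroup.centralizer ({z} : Set ↥G₀)) :=
      Nat.card_congr
        { toFun := fun a => ⟨⟨_, a.2⟩, Subgroup.mem_centralizer_singleton_iff.2 (Subtype.ext (hmC.1 a.1.2).eq)⟩
          invFun := fun a => ⟨⟨_, hmC.2 (congrArg Subtype.val (Subgroup.mem_centralizer_singleton_iff.1 a.2))⟩,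
            a.1.2⟩
          left_inv := fun _ => rfl
          right_inv := fun _ => rfl }
    have hidxC : (G₀.subgroupOf C).index = 2 := by
      rw [Subgroup.index_eq_two_iff]
      refine ⟨⟨d, hmC.2 hzd.symm⟩, fun b => ?_⟩
      simp only [Subgroup.mem_subgroupOf, Subgroup.coe_mul]
      rw [Subgroup.mul_mem_iff_of_index_two hidx]
      have := S.d_out
      by_cases hb : (b : X) ∈ G₀
      · exact Or.inr ⟨hb, fun h => this (h.1 hb)⟩
      · exact Or.inl ⟨iff_of_false hb this, hb⟩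
    rw [← hC, ← Subgroup.card_mul_index (G₀.subgroupOf C), hidxC, hcardC, hCG]
    norm_num
  obtain ⟨Φ⟩ := S.exists_equiv z.2 hzd (by rw [Subgroup.orderOf_coe, hz]) hCX hrange htwo
  obtain ⟨hc, -, h24⟩ := Lib.Fischer.M24Exist.fi24_type
  exact ⟨_, Lib.Fischer.Cent23.class_map Φ hc, Lib.Fischer.Cent24.type24_map Φ h24⟩

end Cfsg.Agent.S5404
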