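import Cfsg.Statements.S5411
import Cfsg.Agent.S5408
import Cfsg.Agent.Lib.Concrete.LeechModTwoAction
import Cfsg.Agent.S1567
import Cfsg.Agent.Lib.Core.Fitting
-- import your own Cfsg.Agent.* helpers here

set_option autoImplicit false
open Cfsg
open Cfsg.Lib.Concrete
open Cfsg.Agent.S5408 (Good Comm exists_theta good_fourPair good_fourDiff comm_share lift_unique lift_mul map_sub' map_neg' center_sq map_zero')

namespace Cfsg.Agent.S5411

section Group

variable {Q : Type*} [Group Q] {ψ : leechLattice → Q ⧸ Subgroup.center Q}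
  (hadd : ∀ v w : leechLattice, ψ (v + w) = ψ v * ψ w)
  (hsurj : Function.Surjective ψ)
  (h2 : ∀ w : leechLattice, ψ (w + w) = 1)
  (hZ : Nat.card (Subgroup.center Q) = 2)
  (hinv : ∀ g : Co0, ∃ θ : Q ≃* Q, ∀ v q, ψ v = QuotientGroup.mk q →
    ψ (g • v) = QuotientGroup.mk (θ q))

include hadd hsurj h2 hZ hinv in
theorem good_of_norm32 (v : leechLattice) (hv : sqNorm (v : GolayPt → ℤ) = 32) : Good ψ v := by
  have hne : (none : GolayPt) ≠ some 0 := by simp
  have hp : sqNorm ((Cfsg.Agent.S5408.fourPair none (some 0) : leechLattice) : GolayPt → ℤ) = 32 := by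
    have e : ((Cfsg.Agent.S5408.fourPair none (some 0) : leechLattice) : GolayPt → ℤ)
        = fun p => (if p = none then 4 else 0) + (if p = some 0 then 4 else 0) :=
      funext fun p => Cfsg.Agent.S5408.fourPair_apply _ _ p
    rw [e]
    decide
  obtain ⟨g, hg⟩ := exists_smul_eq_of_moves
    (v := Cfsg.Agent.S5408.fourPair none (some 0)) (w := v)
    (moves32 (Cfsg.Agent.S5408.fourPair none (some 0)).2 hp) (moves32 v.2 hv)
  rw [← hg]
  exact (good_fourPair hadd hsurj h2 hZ hinv hne).smul hadd hZ hinv g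

include hadd hsurj h2 hZ hinv in
theorem good_of_norm64 (v : leechLattice) (hv : sqNorm (v : GolayPt → ℤ) = 64) : Good ψ v := by
  set i : GolayPt := none
  set j : GolayPt := some 0
  set m : GolayPt := some 1
  have hij : i ≠ j := by decide
  have him : i ≠ m := by decide
  have hjm : j ≠ m := by decide
  have hp := good_fourPair hadd hsurj h2 hZ hinv hij
  have hd : Good ψ (e8 i - Cfsg.Agent.S5408.fourPair i j) := by
    refine good_fourDiff hadd hsurj h2 hZ hinv hij _ fun p => ?_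
    rw [AddSubgroup.coe_sub, Pi.sub_apply, Cfsg.Agent.S5408.fourPair_apply]
    show (Pi.single i 8 : GolayPt → ℤ) p - _ = _
    rw [Pi.single_apply]
    split_ifs <;> ring
  have hc : Comm ψ (Cfsg.Agent.S5408.fourPair i j) (e8 i - Cfsg.Agent.S5408.fourPair i j) := by
    have hsw : Cfsg.Agent.S5408.fourPair j i = Cfsg.Agent.S5408.fourPair i j :=
      Subtype.ext (add_comm _ _)
    have h1 := comm_share hadd hsurj h2 hZ hinv hij him
    have h3 := comm_share hadd hsurj h2 hZ hinv hij.symm hjm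
    rw [hsw] at h3
    refine ((h1.add hadd hsurj h3)).congr rfl ?_
    rw [← map_sub' hadd h2]
    congr 1
    refine Subtype.ext (funext fun p => ?_)
    simp only [AddSubgroup.coe_sub, Pi.sub_apply, Cfsg.Agent.S5408.fourPair_apply]
    show _ = (Pi.single i 8 : GolayPt → ℤ) p - _
    rw [Pi.single_apply]
    split_ifs <;> ring
  have he : Good ψ (e8 i) := by
    intro q hq
    obtain ⟨a, ha⟩ := QuotientGroup.mk_surjective (ψ (Cfsg.Agent.S5408.fourPair i j))
    obtain ⟨b, hb⟩ := QuotientGroup.mk_surjective (ψ (e8 i - Cfsg.Agent.S5408.fourPair i j))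
    obtain ⟨c, hc', rfl⟩ := lift_unique
      (show ψ (e8 i) = QuotientGroup.mk (a * b) by
        rw [← lift_mul hadd ha.symm hb.symm, add_sub_cancel]) hq
    rw [mul_assoc, ← mul_assoc c, ← Subgroup.mem_center_iff.1 hc' (a * b), mul_assoc (a * b) c,
      center_sq hZ hc', mul_one]
    calc a * b * (a * b) = a * (b * a) * b := by group
      _ = (a * a) * (b * b) := by rw [← hc a b ha.symm hb.symm]; group
      _ = 1 := by rw [hp a ha.symm, hd b hb.symm, one_mul]
  have hn : sqNorm ((e8 i : leechLattice) : GolayPt → ℤ) = 64 := by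
    show sqNorm (Pi.single none 8 : GolayPt → ℤ) = 64
    decide
  obtain ⟨g, hg⟩ := exists_smul_eq_of_moves (v := e8 i) (w := v) (moves64 (e8 i).2 hn)
    (moves64 v.2 hv)
  rw [← hg]
  exact he.smul hadd hZ hinv g

include hadd hsurj h2 hZ hinv in
/-- A good vector of norm 48 makes `Q` commutative. -/
theorem not_good_norm48 (hbig : 2 < Nat.card Q) (v : leechLattice)
    (hv : sqNorm (v : GolayPt → ℤ) = 48) : ¬ Good ψ v := by
  intro hg
  have hgood : ∀ x : leechLattice, Good ψ x := by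
    intro x
    obtain ⟨y, hy, hn, w, hw, he⟩ := exists_rep_norm x.2
    have hψ : ψ ⟨y, hy⟩ = ψ x := by
      have e : x = (⟨y, hy⟩ : leechLattice) + (⟨w, hw⟩ + ⟨w, hw⟩) := Subtype.ext (by
        show (x : GolayPt → ℤ) = y + (w + w)
        rw [← two_nsmul, ← he]; abel)
      rw [e, hadd, h2, mul_one]
    refine Cfsg.Agent.S5408.Good.congr ?_ hψ
    rcases hn with hn | hn | hn | hn
    · intro q hq
      rw [show (⟨y, hy⟩ : leechLattice) = 0 from Subtype.ext hn, map_zero' hadd, eq_comm,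
        QuotientGroup.eq_one_iff] at hq
      exact center_sq hZ hq
    · exact good_of_norm32 hadd hsurj h2 hZ hinv _ hn
    · obtain ⟨g, hg'⟩ := exists_smul_eq_of_moves (v := v) (w := ⟨y, hy⟩) (moves48 v.2 hv)
        (moves48 hy hn)
      rw [← hg']
      exact hg.smul hadd hZ hinv g
    · exact good_of_norm64 hadd hsurj h2 hZ hinv _ hn
  have hcomm : ∀ a b : Q, a * b = b * a := by
    intro a b
    obtain ⟨x, hx⟩ := hsurj (QuotientGroup.mk a)
    obtain ⟨y, hy⟩ := hsurj (QuotientGroup.mk b)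
    exact (hgood x).comm hadd (hgood y) (hgood (x + y)) a b hx hy
  have htop : Subgroup.center Q = ⊤ := eq_top_iff.2 fun x _ =>
    Subgroup.mem_center_iff.2 fun y => hcomm y x
  rw [htop, Subgroup.card_top] at hZ
  omega

include hadd hsurj h2 hZ hinv in
/-- A noncentral involution has a representative of norm 32 or 64. -/
theorem exists_rep (hbig : 2 < Nat.card Q) (q : Q) (hq : q * q = 1)
    (hqc : q ∉ Subgroup.center Q) :
    ∃ v : leechLattice, ψ v = QuotientGroup.mk q ∧
      (sqNorm (v : GolayPt → ℤ) = 32 ∨ sqNorm (v : GolayPt → ℤ) = 64) := by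
  obtain ⟨x, hx⟩ := hsurj (QuotientGroup.mk q)
  obtain ⟨y, hy, hn, w, hw, he⟩ := exists_rep_norm x.2
  have hψ : ψ ⟨y, hy⟩ = QuotientGroup.mk q := by
    have e : x = (⟨y, hy⟩ : leechLattice) + (⟨w, hw⟩ + ⟨w, hw⟩) := Subtype.ext (by
      show (x : GolayPt → ℤ) = y + (w + w)
      rw [← two_nsmul, ← he]; abel)
    rw [← hx, e, hadd, h2, mul_one]
  refine ⟨⟨y, hy⟩, hψ, ?_⟩
  rcases hn with hn | hn | hn | hn
  · exfalso
    rw [show (⟨y, hy⟩ : leechLattice) = 0 from Subtype.ext hn, map_zero' hadd, eq_comm,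
      QuotientGroup.eq_one_iff] at hψ
    exact hqc hψ
  · exact Or.inl hn
  · refine absurd ?_ (not_good_norm48 hadd hsurj h2 hZ hinv hbig ⟨y, hy⟩ hn)
    intro p hp
    obtain ⟨c, hc, rfl⟩ := lift_unique hψ hp
    rw [mul_assoc, ← mul_assoc c, ← Subgroup.mem_center_iff.1 hc q, mul_assoc q c,
      center_sq hZ hc, mul_one, hq]
  · exact Or.inr hn

end Group

/-- Elements over vectors of equal norm 32 or 64 are conjugate under the centraliser. -/
theorem conj_of_norm {C : Type*} [Group C] (Q : Subgroup C) [Q.Normal]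
    {ψ : leechLattice → Q ⧸ Subgroup.center Q}
    (hZ : Nat.card (Subgroup.center Q) = 2)
    (hinv : ∀ g : Co0, ∃ h : C, ∀ v (q : Q), ψ v = QuotientGroup.mk q →
      ψ (g • v) = QuotientGroup.mk (MulAut.conjNormal h q))
    {v w : leechLattice} {N : ℤ} (hN : N = 32 ∨ N = 64)
    (hv : sqNorm (v : GolayPt → ℤ) = N) (hw : sqNorm (w : GolayPt → ℤ) = N)
    (a b : Q) (ha : ψ v = QuotientGroup.mk a) (hb : ψ w = QuotientGroup.mk b)
    (hbc : b ∉ Subgroup.center Q) (hab : ∀ x y : Q ⧸ Subgroup.center Q, x * y = y * x) : ∃ h : C, h * (a : C) * h⁻¹ = (b : C) := by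
  obtain ⟨g, hg⟩ : ∃ g : Co0, g • v = w := by
    rcases hN with rfl | rfl
    · exact exists_smul_eq_of_moves (moves32 v.2 hv) (moves32 w.2 hw)
    · exact exists_smul_eq_of_moves (moves64 v.2 hv) (moves64 w.2 hw)
  obtain ⟨h, hh⟩ := hinv g
  have h1 := hh v a ha
  rw [hg] at h1
  obtain ⟨c, hc, he⟩ := lift_unique hb h1
  have hcoe : h * (a : C) * h⁻¹ = ((b * c : Q) : C) := by
    rw [← he]; rfl
  by_cases hc1 : c = 1
  · exact ⟨h, by rw [hcoe, hc1, mul_one]⟩
  obtain ⟨r, hr⟩ : ∃ r : Q, r * b ≠ b * r := by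
    simpa [Subgroup.mem_center_iff] using hbc
  refine ⟨(r : C) * h, ?_⟩
  have hk : r * (b * c) * r⁻¹ = b := by
    have hcl : b⁻¹ * (r * b * r⁻¹) ∈ Subgroup.center Q → b⁻¹ * (r * b * r⁻¹) = c := by
      intro hm
      have htwo := Nat.card_eq_two_iff' (1 : Subgroup.center Q) |>.1 hZ
      obtain ⟨y, -, hy⟩ := htwo
      have e1 := hy ⟨c, hc⟩ (fun e => hc1 (congrArg Subtype.val e))
      have e2 := hy ⟨_, hm⟩ (fun e => hr (by
        have e' : b⁻¹ * (r * b * r⁻¹) = 1 := congrArg Subtype.val e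
        calc r * b = b * (b⁻¹ * (r * b * r⁻¹)) * r := by group
          _ = b * r := by rw [e', mul_one]))
      exact congrArg Subtype.val (e2.trans e1.symm)
    have hm : b⁻¹ * (r * b * r⁻¹) ∈ Subgroup.center Q := by
      rw [← QuotientGroup.eq_one_iff]
      rw [QuotientGroup.mk_mul, QuotientGroup.mk_mul, QuotientGroup.mk_mul, hab (QuotientGroup.mk r)]
      simp
    have e3 := hcl hm
    have hc' := Subgroup.mem_center_iff.1 hc r
    calc r * (b * c) * r⁻¹ = (r * b) * (c * r⁻¹) := by group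
      _ = (r * b) * (r⁻¹ * c) := by rw [← Subgroup.mem_center_iff.1 hc r⁻¹]
      _ = b * (b⁻¹ * (r * b * r⁻¹)) * c := by group
      _ = b * (c * c) := by rw [e3]; group
      _ = b := by rw [center_sq hZ hc, mul_one]
  have := congrArg Subtype.val hk
  simp only [Subgroup.coe_mul, InvMemClass.coe_inv] at this hcoe
  rw [show (r : C) * h * (a : C) * ((r : C) * h)⁻¹ = (r : C) * (h * (a : C) * h⁻¹) * (r : C)⁻¹ by group,
    hcoe]
  exact this


/-- Let G be a finite group of Monster type at the involution z with Q the extraspecial normal subgroup of order 2^25 of C = C_G(z) (so C/Q is identified with the first Conway group with Q modulo its centre the Leech lattice modulo 2, and z is not weakly closed in Q). Then C acts transitively by conjugation on the involutions of Q that are not conjugate to z in G. -/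
theorem result {G : Type*} [Group G] [Finite G] (z : G) (Q : Subgroup (Subgroup.centralizer ({z} : Set G))) [Q.Normal] (hM : Cfsg.IsOfMonsterType z Q) (s t : G) (hsQ : ∃ hsc : s ∈ Subgroup.centralizer ({z} : Set G), (⟨s, hsc⟩ : Subgroup.centralizer ({z} : Set G)) ∈ Q) (htQ : ∃ htc : t ∈ Subgroup.centralizer ({z} : Set G), (⟨t, htc⟩ : Subgroup.centralizer ({z} : Set G)) ∈ Q) (hs2 : orderOf s = 2) (ht2 : orderOf t = 2) (hs : ¬ IsConj z s) (ht : ¬ IsConj z t) : ∃ h ∈ Subgroup.centralizer ({z} : Set G), h * s * h⁻¹ = t := by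
  classical
  obtain ⟨⟨hz, hF, ⟨-, hZ⟩, hcard, gz, ⟨hq0, hqQ⟩, hne⟩, e, ψ, hadd, hsurj, hker, hconj⟩ := hM
  have h2 : ∀ w, ψ (w + w) = 1 := fun w => (hker _).2 ⟨w, rfl⟩
  have hinv' : ∀ g : Co0, ∃ h : Subgroup.centralizer ({z} : Set G), ∀ v (q : Q),
      ψ v = QuotientGroup.mk q → ψ (g • v) = QuotientGroup.mk (MulAut.conjNormal h q) := by
    intro g
    obtain ⟨h, hh⟩ := QuotientGroup.mk_surjective (e.symm (QuotientGroup.mk g))
    refine ⟨h, fun v q hq => ?_⟩
    rw [hconj h g (by rw [hh, MulEquiv.apply_symm_apply]) v q hq]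
    congr 1
  have hinv : ∀ g : Co0, ∃ θ : Q ≃* Q, ∀ v q, ψ v = QuotientGroup.mk q →
      ψ (g • v) = QuotientGroup.mk (θ q) := fun g =>
    let ⟨h, hh⟩ := hinv' g
    ⟨MulAut.conjNormal h, hh⟩
  have hab : ∀ x y : Q ⧸ Subgroup.center Q, x * y = y * x := by
    intro x y
    obtain ⟨v, rfl⟩ := hsurj x
    obtain ⟨w, rfl⟩ := hsurj y
    rw [← hadd, ← hadd, add_comm]
  have hbig : 2 < Nat.card Q := by rw [hcard]; norm_num
  -- noncentral involutions of `Q` other than conjugates of `z`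
  obtain ⟨hsc, hsQ⟩ := hsQ
  obtain ⟨htc, htQ⟩ := htQ
  set s' : Q := ⟨⟨s, hsc⟩, hsQ⟩
  set t' : Q := ⟨⟨t, htc⟩, htQ⟩
  set u' : Q := ⟨⟨gz * z * gz⁻¹, hq0⟩, hqQ⟩
  have hzC : z ∈ (Subgroup.centralizer ({z} : Set G)) := Subgroup.mem_centralizer_iff.2 fun x (hx : x = z) => by rw [hx]
  have hcen : ∀ q : Q, q ∈ Subgroup.center Q → ((q : (Subgroup.centralizer ({z} : Set G))) : G) = 1 ∨ ((q : (Subgroup.centralizer ({z} : Set G))) : G) = z := by
    intro q hq
    have hzQ : (⟨z, hzC⟩ : (Subgroup.centralizer ({z} : Set G))) ∈ Q := by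
      have hmem : (⟨z, hzC⟩ : (Subgroup.centralizer ({z} : Set G))) ∈ Subgroup.center (Subgroup.centralizer ({z} : Set G)) := by
        rw [Subgroup.mem_center_iff]
        intro y
        exact Subtype.ext (Subgroup.mem_centralizer_iff.1 y.2 z rfl).symm
      rw [← hF]
      exact (le_sup_right : fittingSubgroup (Subgroup.centralizer ({z} : Set G)) ≤ _) (Cfsg.Lib.Core.center_le_fittingSubgroup hmem)
    have hzc : (⟨⟨z, hzC⟩, hzQ⟩ : Q) ∈ Subgroup.center Q := by
      rw [Subgroup.mem_center_iff]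
      intro y
      apply Subtype.ext; apply Subtype.ext
      exact (Subgroup.mem_centralizer_iff.1 (y : (Subgroup.centralizer ({z} : Set G))).2 z rfl).symm
    have hz1 : (⟨⟨z, hzC⟩, hzQ⟩ : Q) ≠ 1 := fun h => by
      have : z = 1 := congrArg (fun a : Q => ((a : (Subgroup.centralizer ({z} : Set G))) : G)) h
      rw [this, orderOf_one] at hz
      omega
    by_cases h1 : q = 1
    · exact Or.inl (by rw [h1]; rfl)
    obtain ⟨y, -, hy⟩ := Nat.card_eq_two_iff' (1 : Subgroup.center Q) |>.1 hZ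
    have e1 := hy ⟨q, hq⟩ (fun e => h1 (congrArg Subtype.val e))
    have e2 := hy ⟨_, hzc⟩ (fun e => hz1 (congrArg Subtype.val e))
    exact Or.inr (congrArg (fun a : Subgroup.center Q => (((a : Q) : (Subgroup.centralizer ({z} : Set G))) : G)) (e1.trans e2.symm))
  have hnc : ∀ q : Q, orderOf ((q : (Subgroup.centralizer ({z} : Set G))) : G) = 2 → ((q : (Subgroup.centralizer ({z} : Set G))) : G) ≠ z → q ∉ Subgroup.center Q := by
    intro q ho hne hq
    rcases hcen q hq with h | h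
    · rw [h, orderOf_one] at ho; omega
    · exact hne h
  have hsq : ∀ q : Q, orderOf ((q : (Subgroup.centralizer ({z} : Set G))) : G) = 2 → q * q = 1 := by
    intro q ho
    apply Subtype.ext; apply Subtype.ext
    have := pow_orderOf_eq_one ((q : (Subgroup.centralizer ({z} : Set G))) : G)
    rw [ho, pow_two] at this
    exact this
  have hsz : s ≠ z := fun h => hs (h ▸ IsConj.refl z)
  have htz : t ≠ z := fun h => ht (h ▸ IsConj.refl z)
  have huo : orderOf (gz * z * gz⁻¹) = 2 := by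
    rw [← hz]
    exact orderOf_injective (MulAut.conj gz).toMonoidHom (MulAut.conj gz).injective z
  have hsn := hnc s' hs2 hsz
  have htn := hnc t' ht2 htz
  have hun := hnc u' huo hne
  obtain ⟨vs, hvs, hns⟩ := exists_rep hadd hsurj h2 hZ hinv hbig s' (hsq s' hs2) hsn
  obtain ⟨vt, hvt, hnt⟩ := exists_rep hadd hsurj h2 hZ hinv hbig t' (hsq t' ht2) htn
  obtain ⟨vu, hvu, hnu⟩ := exists_rep hadd hsurj h2 hZ hinv hbig u' (hsq u' huo) hun
  have key : ∀ (a b : Q) (v w : leechLattice), ψ v = QuotientGroup.mk a → ψ w = QuotientGroup.mk b →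
      (sqNorm (v : GolayPt → ℤ) = 32 ∨ sqNorm (v : GolayPt → ℤ) = 64) →
      sqNorm (w : GolayPt → ℤ) = sqNorm (v : GolayPt → ℤ) → b ∉ Subgroup.center Q →
      ∃ h ∈ (Subgroup.centralizer ({z} : Set G)), h * ((a : (Subgroup.centralizer ({z} : Set G))) : G) * h⁻¹ = ((b : (Subgroup.centralizer ({z} : Set G))) : G) := by
    intro a b v w ha hb hn hwv hbc
    obtain ⟨h, hh⟩ := conj_of_norm Q hZ hinv' hn rfl hwv a b ha hb hbc hab
    exact ⟨h, h.2, by simpa using congrArg Subtype.val hh⟩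
  have hconjz : ∀ (q : Q) (v : leechLattice), ψ v = QuotientGroup.mk q →
      sqNorm (v : GolayPt → ℤ) = sqNorm (vu : GolayPt → ℤ) → q ∉ Subgroup.center Q →
      IsConj z ((q : (Subgroup.centralizer ({z} : Set G))) : G) := by
    intro q v hv hn hq
    obtain ⟨h, -, hh⟩ := key u' q vu v hvu hv hnu hn hq
    refine isConj_iff.2 ⟨h * gz, ?_⟩
    rw [← hh]
    show h * gz * z * (h * gz)⁻¹ = h * (gz * z * gz⁻¹) * h⁻¹
    group
  have hne_s : sqNorm (vs : GolayPt → ℤ) ≠ sqNorm (vu : GolayPt → ℤ) :=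
    fun h => hs (hconjz s' vs hvs h hsn)
  have hne_t : sqNorm (vt : GolayPt → ℤ) ≠ sqNorm (vu : GolayPt → ℤ) :=
    fun h => ht (hconjz t' vt hvt h htn)
  exact key s' t' vs vt hvs hvt hns (by omega) htn

end Cfsg.Agent.S5411
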