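import Cfsg.Statements.S5412
import Cfsg.Agent.Lib.Concrete.MonsterFuse
import Cfsg.Agent.Lib.Concrete.MonsterBabyCore

set_option autoImplicit false
open Cfsg

namespace Cfsg.Agent.S5412

/-- Let G be a finite group of Monster type at the involution z with Q the extraspecial normal subgroup of order 2^25 of C = C_G(z) (so C/Q is identified with the first Conway group with Q modulo its centre the Leech lattice modulo 2, and z is not weakly closed in Q). Let t be an involution of Q not conjugate to z in G. Then the centralizer of t modulo the subgroup generated by t is a group of Baby Monster type (an involution whose centralizer D has generalized Fitting subgroup R extraspecial of order 2^23 with D/R identified with the second Conway group acting on R modulo its centre as on the vectors of the Leech lattice modulo 2 orthogonal to a short vector, modulo that vector; the involution not weakly closed in R). -/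
theorem result {G : Type*} [Group G] [Finite G] (z : G) (Q : Subgroup (Subgroup.centralizer ({z} : Set G))) [Q.Normal] (hM : Cfsg.IsOfMonsterType z Q) (t : G) (htQ : ∃ htc : t ∈ Subgroup.centralizer ({z} : Set G), (⟨t, htc⟩ : Subgroup.centralizer ({z} : Set G)) ∈ Q) (ht2 : orderOf t = 2) (ht : ¬ IsConj z t) [hn : ((Subgroup.zpowers t).subgroupOf (Subgroup.centralizer ({t} : Set G))).Normal] : Cfsg.IsOfBabyMonsterType (↥(Subgroup.centralizer ({t} : Set G)) ⧸ (Subgroup.zpowers t).subgroupOf (Subgroup.centralizer ({t} : Set G))) := by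
  classical
  obtain ⟨htC, htQ⟩ := htQ
  obtain ⟨hzQ, hz, hZ, hcard⟩ := Cfsg.Lib.Concrete.setting_facts hM
  have hM' := hM
  obtain ⟨hset, e, ψ, hadd, hsurj, hker, hconj⟩ := hM'
  have hzC : z ∈ Subgroup.centralizer ({z} : Set G) := Subgroup.mem_centralizer_iff.2 fun x (hx : x = z) => by rw [hx]
  have hcomm : ∀ a : Subgroup.centralizer ({z} : Set G), z * (a : G) = (a : G) * z := fun a =>
    Subgroup.mem_centralizer_iff.1 a.2 z rfl
  set zQ : Q := ⟨⟨z, hzC⟩, hzQ hzC⟩
  set tq : Q := ⟨⟨t, htC⟩, htQ⟩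
  have hz1 : z ≠ 1 := fun h => by rw [h, orderOf_one] at hz; omega
  have ht1 : t ≠ 1 := fun h => by rw [h, orderOf_one] at ht2; omega
  have hzz : z * z = 1 := by rw [← pow_two, ← hz, pow_orderOf_eq_one]
  have htt : t * t = 1 := by rw [← pow_two, ← ht2, pow_orderOf_eq_one]
  have hzt : z ≠ t := fun h => ht (h ▸ IsConj.refl z)
  have hzc : zQ ∈ Subgroup.center Q := Subgroup.mem_center_iff.2 fun y =>
    Subtype.ext (Subtype.ext (hcomm (y : Subgroup.centralizer ({z} : Set G))).symm)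
  have hcen : ∀ q ∈ Subgroup.center Q, q = 1 ∨ q = zQ := fun q hq =>
    (em (q = 1)).imp_right fun h => Cfsg.Lib.Concrete.center_eq_of_ne_one hZ hq hzc h
      fun e => hz1 (congrArg (fun u : Q => ((u : Subgroup.centralizer ({z} : Set G)) : G)) e)
  have htc : tq ∉ Subgroup.center Q := fun h => by
    rcases hcen _ h with r | r
    · exact ht1 (congrArg (fun u : Q => ((u : Subgroup.centralizer ({z} : Set G)) : G)) r)
    · exact hzt (congrArg (fun u : Q => ((u : Subgroup.centralizer ({z} : Set G)) : G)) r).symm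
  have h2 : ∀ w, ψ (w + w) = 1 := fun w => (hker _).2 ⟨w, rfl⟩
  have hinv : ∀ g : Co0, ∃ θ : Q ≃* Q, ∀ v q, ψ v = QuotientGroup.mk q →
      ψ (g • v) = QuotientGroup.mk (θ q) := fun g => by
    obtain ⟨h, hh⟩ := QuotientGroup.mk_surjective (e.symm (QuotientGroup.mk g))
    refine ⟨MulAut.conjNormal h, fun v q hq => ?_⟩
    rw [hconj h g (by rw [hh, MulEquiv.apply_symm_apply]) v q hq]
    congr 1
  have hab : ∀ x y : Q ⧸ Subgroup.center Q, x * y = y * x := by
    intro x y
    obtain ⟨a, rfl⟩ := hsurj x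
    obtain ⟨b, rfl⟩ := hsurj y
    rw [← hadd, ← hadd, add_comm]
  have htt' : tq * tq = 1 := Subtype.ext (Subtype.ext htt)
  obtain ⟨v, hv, hvn⟩ := Cfsg.Agent.S5411.exists_rep hadd hsurj h2 hZ hinv (by rw [hcard]; norm_num) tq htt' htc
  have hv32 : sqNorm (v : GolayPt → ℤ) = 32 := hvn.resolve_right fun h64 => by
    have hset' := hset
    obtain ⟨-, -, -, -, gz, ⟨hsc, hsQ⟩, hne⟩ := hset'
    obtain ⟨w, hw, hws, -⟩ := Cfsg.Lib.Concrete.exists_rep64 hset ⟨hadd, hsurj, hker, hconj⟩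
      ⟨⟨gz * z * gz⁻¹, hsc⟩, hsQ⟩ (isConj_iff.2 ⟨gz, rfl⟩) hne
    obtain ⟨-, h, -, hh⟩ := Cfsg.Lib.Concrete.conj_of_sixtyfour hset ⟨hadd, hsurj, hker, hconj⟩ _ tq hw h64 hws hv
    exact ht (isConj_iff.2 ⟨h * gz, Eq.trans (show _ = h * (gz * z * gz⁻¹) * h⁻¹ by group) hh⟩)
  obtain ⟨h0, hh0⟩ := Cfsg.Lib.Concrete.exists_smul_eq_of_moves
    (Cfsg.Lib.Concrete.moves32 Spor.leechU.2 Cfsg.Lib.Concrete.leechU_norm) (Cfsg.Lib.Concrete.moves32 v.2 hv32)
  -- no conjugation of `z` to `z * t`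
  have hzt' : ¬ IsConj z (z * t) := by
    intro h
    obtain ⟨y, hy⟩ : ∃ y : Q, y * tq ≠ tq * y := by
      by_contra hall
      push Not at hall
      exact htc (Subgroup.mem_center_iff.2 hall)
    have hyz : y * tq * y⁻¹ * tq⁻¹ = zQ := (hcen _ (Cfsg.Lib.Concrete.comm_mem_center hab y tq)).resolve_left
      fun e1 => hy (commutatorElement_eq_one_iff_mul_comm.1 e1)
    have e2 : y * tq * y⁻¹ = zQ * tq := by rw [← hyz]; group
    exact ht (h.trans (isConj_iff.2 ⟨((y : Subgroup.centralizer ({z} : Set G)) : G)⁻¹, by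
      have e3 : ((y : Subgroup.centralizer ({z} : Set G)) : G) * t * ((y : Subgroup.centralizer ({z} : Set G)) : G)⁻¹ = z * t :=
        congrArg (fun u : Q => ((u : Subgroup.centralizer ({z} : Set G)) : G)) e2
      rw [← e3]; group⟩))
  -- the quotient
  have memT : ∀ {g : G}, t * g = g * t → g ∈ Subgroup.centralizer ({t} : Set G) := fun h =>
    Subgroup.mem_centralizer_iff.2 fun x (hx : x = t) => hx ▸ h
  have hTt : ∀ a : Subgroup.centralizer ({t} : Set G), t * (a : G) = (a : G) * t := fun a =>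
    Subgroup.mem_centralizer_iff.1 a.2 t rfl
  have hzT : z ∈ Subgroup.centralizer ({t} : Set G) := memT (hcomm ⟨t, htC⟩).symm
  have hN : ∀ a : Subgroup.centralizer ({t} : Set G),
      (QuotientGroup.mk a : _ ⧸ (Subgroup.zpowers t).subgroupOf (Subgroup.centralizer ({t} : Set G))) = 1 ↔
        (a : G) = 1 ∨ (a : G) = t := by
    intro a
    rw [QuotientGroup.eq_one_iff, Subgroup.mem_subgroupOf]
    constructor
    · intro h
      obtain ⟨k, hk⟩ := Subgroup.mem_zpowers_iff.1 h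
      rcases Int.even_or_odd k with ⟨m, hm⟩ | ⟨m, hm⟩
      · left; rw [← hk, hm, ← two_mul, zpow_mul, zpow_two, htt, one_zpow]
      · right; rw [← hk, hm, zpow_add_one, zpow_mul, zpow_two, htt, one_zpow, one_mul]
    · rintro (h | h) <;> rw [h]
      · exact one_mem _
      · exact Subgroup.mem_zpowers t
  let zb : ↥(Subgroup.centralizer ({t} : Set G)) ⧸ (Subgroup.zpowers t).subgroupOf (Subgroup.centralizer ({t} : Set G)) :=
    QuotientGroup.mk ⟨z, hzT⟩
  have memL : ∀ l : Subgroup.centralizer ({z} : Set G),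
      l ∈ Subgroup.centralizer ({(tq : Subgroup.centralizer ({z} : Set G))} : Set (Subgroup.centralizer ({z} : Set G))) ↔
        (tq : Subgroup.centralizer ({z} : Set G)) * l = l * (tq : Subgroup.centralizer ({z} : Set G)) := fun l =>
    ⟨fun h => Subgroup.mem_centralizer_iff.1 h _ rfl,
      fun h => Subgroup.mem_centralizer_iff.2 fun x (hx : x = _) => hx ▸ h⟩
  let φ : Subgroup.centralizer ({(tq : Subgroup.centralizer ({z} : Set G))} : Set (Subgroup.centralizer ({z} : Set G))) →*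
      Subgroup.centralizer ({zb} : Set _) :=
    MonoidHom.mk' (fun l => ⟨QuotientGroup.mk ⟨((l : Subgroup.centralizer ({z} : Set G)) : G),
        memT (congrArg Subtype.val ((memL l).1 l.2))⟩,
      Subgroup.mem_centralizer_iff.2 fun x (hx : x = zb) => by
        rw [hx]
        exact congrArg QuotientGroup.mk (Subtype.ext (hcomm l))⟩)
      fun l m => Subtype.ext rfl
  have hφ : Function.Surjective φ := by
    rintro ⟨x, hx⟩
    obtain ⟨a, rfl⟩ := QuotientGroup.mk_surjective x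
    have h1 : zb * QuotientGroup.mk a = QuotientGroup.mk a * zb := Subgroup.mem_centralizer_iff.1 hx zb rfl
    have h3 : (QuotientGroup.mk (⟨z, hzT⟩ * (a * ⟨z, hzT⟩ * a⁻¹)) :
        _ ⧸ (Subgroup.zpowers t).subgroupOf (Subgroup.centralizer ({t} : Set G))) = 1 := by
      rw [QuotientGroup.mk_mul, QuotientGroup.mk_mul, QuotientGroup.mk_mul, QuotientGroup.mk_inv]
      show zb * (QuotientGroup.mk a * zb * (QuotientGroup.mk a)⁻¹) = 1
      rw [← h1, mul_inv_cancel_right]
      exact congrArg QuotientGroup.mk (show (⟨z, hzT⟩ : Subgroup.centralizer ({t} : Set G)) * ⟨z, hzT⟩ = 1 from Subtype.ext hzz)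
    have haz : (a : G) ∈ Subgroup.centralizer ({z} : Set G) := by
      rcases (hN _).1 h3 with r | r
      · refine Subgroup.mem_centralizer_iff.2 fun y (hy : y = z) => ?_
        have r' : z * ((a : G) * z * (a : G)⁻¹) = 1 := r
        rw [hy, ← mul_inv_eq_iff_eq_mul.1 ((inv_eq_of_mul_eq_one_right r').symm.trans (inv_eq_of_mul_eq_one_right hzz))]
      · exfalso
        refine hzt' (isConj_iff.2 ⟨(a : G), ?_⟩)
        have r' : z * ((a : G) * z * (a : G)⁻¹) = t := r
        calc (a : G) * z * (a : G)⁻¹ = z * z * ((a : G) * z * (a : G)⁻¹) := by rw [hzz, one_mul]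
          _ = z * (z * ((a : G) * z * (a : G)⁻¹)) := mul_assoc _ _ _
          _ = z * t := congrArg (z * ·) r'
    exact ⟨⟨⟨(a : G), haz⟩, (memL _).2 (Subtype.ext (hTt a))⟩, Subtype.ext rfl⟩
  have hφk : ∀ l, φ l = 1 ↔ (l : Subgroup.centralizer ({z} : Set G)) = 1 ∨
      (l : Subgroup.centralizer ({z} : Set G)) = (tq : Subgroup.centralizer ({z} : Set G)) := fun l =>
    ⟨fun h => ((hN _).1 (congrArg Subtype.val h)).imp Subtype.ext Subtype.ext,
      fun h => Subtype.ext ((hN _).2 (h.imp (congrArg Subtype.val) (congrArg Subtype.val)))⟩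
  obtain ⟨hRn, hF, hE, hR, e', ψ', hψ'⟩ := Cfsg.Lib.Concrete.baby_core Q
    (e.trans (MulAut.conj (QuotientGroup.mk h0 : Spor.Co1)⁻¹)) (fun w => ψ (h0 • w))
    (fun a b => by simp only [Cfsg.Lib.Concrete.co0_add, hadd])
    (fun x => by
      obtain ⟨w, hw⟩ := hsurj x
      exact ⟨h0⁻¹ • w, by simp only [smul_inv_smul, hw]⟩)
    (fun w => by
      rw [hker]
      constructor
      · rintro ⟨u, hu⟩
        exact ⟨h0⁻¹ • u, by rw [← Cfsg.Lib.Concrete.co0_add, ← hu, inv_smul_smul]⟩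
      · rintro ⟨u, rfl⟩
        exact ⟨h0 • u, Cfsg.Lib.Concrete.co0_add h0 u u⟩)
    (fun h g hg w r hw => by
      have h1 : (QuotientGroup.mk (h0 * g * h0⁻¹) : Spor.Co1) = e (QuotientGroup.mk h) := by
        rw [QuotientGroup.mk_mul, QuotientGroup.mk_mul, QuotientGroup.mk_inv, hg, MulEquiv.trans_apply,
          MulAut.conj_apply]
        group
      have h2' := hconj h (h0 * g * h0⁻¹) h1 (h0 • w) r hw
      rw [mul_smul, mul_smul, inv_smul_smul] at h2'
      rw [h2']
      congr 1)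
    hZ hcard tq (by show ψ (h0 • Spor.leechU) = _; rw [hh0, hv])
    (Subgroup.centralizer ({(tq : Subgroup.centralizer ({z} : Set G))} : Set _)) memL φ hφ hφk
  refine ⟨zb, _, hRn, ⟨?_, hF, hE, hR, ?_⟩, e', ψ', hψ'⟩
  · refine orderOf_eq_prime ?_ fun h => ?_
    · show zb ^ 2 = 1
      rw [pow_two]
      exact congrArg QuotientGroup.mk (show (⟨z, hzT⟩ : Subgroup.centralizer ({t} : Set G)) * ⟨z, hzT⟩ = 1 from Subtype.ext hzz)
    · rcases (hN _).1 h with r | r
      · exact hz1 r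
      · exact hzt r
  obtain ⟨a, s, k, haa, ha1, hanz, hka, has, hsz, hks⟩ := Cfsg.Lib.Concrete.exists_fuse hM
  obtain ⟨h, hC, hha⟩ := Cfsg.Agent.S5411.result z Q hM _ t ⟨_, a.2⟩ ⟨htC, htQ⟩
    (orderOf_eq_prime (by rw [pow_two]; exact congrArg (fun u : Q => ((u : Subgroup.centralizer ({z} : Set G)) : G)) haa) ha1)
    ht2 hanz ht
  set A : G := ((a : Subgroup.centralizer ({z} : Set G)) : G) with hA
  set S : G := ((s : Subgroup.centralizer ({z} : Set G)) : G) with hS
  have hAS : A * S = S * A := congrArg (fun u : Q => ((u : Subgroup.centralizer ({z} : Set G)) : G)) has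
  have hkT : h * k * h⁻¹ ∈ Subgroup.centralizer ({t} : Set G) := memT (by
    rw [← hha]
    calc h * A * h⁻¹ * (h * k * h⁻¹) = h * (A * k) * h⁻¹ := by group
      _ = h * (k * A) * h⁻¹ := by rw [← mul_inv_eq_iff_eq_mul.1 hka]
      _ = _ := by group)
  have hhz : h⁻¹ * z * h = z := by
    rw [mul_assoc, hcomm ⟨h, hC⟩, inv_mul_cancel_left]
  have hval : h * k * h⁻¹ * z * (h * k * h⁻¹)⁻¹ = h * S * h⁻¹ := by
    calc h * k * h⁻¹ * z * (h * k * h⁻¹)⁻¹ = h * (k * (h⁻¹ * z * h) * k⁻¹) * h⁻¹ := by group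
      _ = _ := by rw [hhz, hks]
  have hSC : h * S * h⁻¹ ∈ Subgroup.centralizer ({z} : Set G) :=
    mul_mem (mul_mem hC (s : Subgroup.centralizer ({z} : Set G)).2) (inv_mem hC)
  have hSQ : (⟨h * S * h⁻¹, hSC⟩ : Subgroup.centralizer ({z} : Set G)) ∈ Q :=
    (inferInstance : Q.Normal).conj_mem _ s.2 ⟨h, hC⟩
  have hSL : (⟨h * S * h⁻¹, hSC⟩ : Subgroup.centralizer ({z} : Set G)) ∈
      Subgroup.centralizer ({(tq : Subgroup.centralizer ({z} : Set G))} : Set _) := (memL _).2 (Subtype.ext (by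
    show t * (h * S * h⁻¹) = h * S * h⁻¹ * t
    rw [← hha]
    calc h * A * h⁻¹ * (h * S * h⁻¹) = h * (A * S) * h⁻¹ := by group
      _ = h * (S * A) * h⁻¹ := by rw [hAS]
      _ = _ := by group))
  have hval' : (QuotientGroup.mk ⟨h * k * h⁻¹, hkT⟩ * zb * (QuotientGroup.mk ⟨h * k * h⁻¹, hkT⟩)⁻¹ :
      _ ⧸ (Subgroup.zpowers t).subgroupOf (Subgroup.centralizer ({t} : Set G))) = (φ ⟨_, hSL⟩).1 :=
    congrArg QuotientGroup.mk (Subtype.ext hval)
  refine ⟨QuotientGroup.mk ⟨h * k * h⁻¹, hkT⟩, ⟨?_, ?_⟩, fun hc => ?_⟩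
  · rw [hval']; exact (φ ⟨_, hSL⟩).2
  · rw [Subgroup.mem_map]
    exact ⟨⟨_, hSL⟩, hSQ, Subtype.ext hval'.symm⟩
  · rw [hval'] at hc
    have hd : (QuotientGroup.mk ((⟨h * S * h⁻¹, memT (congrArg Subtype.val ((memL _).1 hSL))⟩ : Subgroup.centralizer ({t} : Set G)) * ⟨z, hzT⟩) :
        _ ⧸ (Subgroup.zpowers t).subgroupOf (Subgroup.centralizer ({t} : Set G))) = 1 := by
      rw [QuotientGroup.mk_mul, show (QuotientGroup.mk (⟨h * S * h⁻¹, _⟩ : Subgroup.centralizer ({t} : Set G)) :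
        _ ⧸ (Subgroup.zpowers t).subgroupOf (Subgroup.centralizer ({t} : Set G))) = zb from hc]
      exact congrArg QuotientGroup.mk (show (⟨z, hzT⟩ : Subgroup.centralizer ({t} : Set G)) * ⟨z, hzT⟩ = 1 from Subtype.ext hzz)
    rcases (hN _).1 hd with r | r
    · refine hsz ?_
      have r' : h * S * h⁻¹ * z = 1 := r
      have e1 : h * S * h⁻¹ = z := by rw [eq_inv_of_mul_eq_one_left r', inv_eq_of_mul_eq_one_right hzz]
      calc S = h⁻¹ * (h * S * h⁻¹) * h := by group
        _ = z := by rw [e1, hhz]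
    · refine hzt' (isConj_iff.2 ⟨h * k * h⁻¹, ?_⟩)
      have r' : h * S * h⁻¹ * z = t := r
      calc h * k * h⁻¹ * z * (h * k * h⁻¹)⁻¹ = z * z * (h * S * h⁻¹) := by rw [hval, hzz, one_mul]
        _ = z * (h * S * h⁻¹ * z) := (mul_assoc _ _ _).trans (congrArg (z * ·) (hcomm ⟨_, hSC⟩))
        _ = z * t := congrArg (z * ·) r'

end Cfsg.Agent.S5412
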