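import Cfsg.Statements.S5414
import Cfsg.Agent.Lib.MonsterLocal.Setting
import Cfsg.Agent.Lib.MonsterThree.Place

set_option autoImplicit false
open Cfsg

namespace Cfsg.Agent.S5414

/-- Let G be a finite group of Monster type at the involution z with Q the extraspecial normal subgroup of order 2^25 of C = C_G(z) (so C/Q is identified with the first Conway group with Q modulo its centre the Leech lattice modulo 2, and z is not weakly closed in Q). Let s be a conjugate of z in Q other than z and let Y be a subgroup of order 3 of the joint centralizer L of z and s that is not 3-central in L (Y lies in the centre of no Sylow 3-subgroup of L). Then the centralizer of Y modulo Y is a group of Thompson type (an involution whose centralizer D has generalized Fitting subgroup R extraspecial of order 2^9 with D/R the alternating group of degree 9, the involution not weakly closed in R). -/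
theorem result {G : Type*} [Group G] [Finite G] (z : G) (Q : Subgroup (Subgroup.centralizer ({z} : Set G))) [Q.Normal] (hM : Cfsg.IsOfMonsterType z Q) (s : G) (hsQ : ∃ hsc : s ∈ Subgroup.centralizer ({z} : Set G), (⟨s, hsc⟩ : Subgroup.centralizer ({z} : Set G)) ∈ Q) (hs : IsConj z s) (hs1 : s ≠ z) (Y : Subgroup G) (hY : Y ≤ Subgroup.centralizer ({z, s} : Set G)) (hY3 : Nat.card Y = 3) (hnc : ∀ P : Sylow 3 ↥(Subgroup.centralizer ({z, s} : Set G)), ¬ Y.subgroupOf (Subgroup.centralizer ({z, s} : Set G)) ≤ (Subgroup.center ↥(P : Subgroup ↥(Subgroup.centralizer ({z, s} : Set G)))).map (P : Subgroup ↥(Subgroup.centralizer ({z, s} : Set G))).subtype) [hn : (Y.subgroupOf (Subgroup.centralizer (Y : Set G))).Normal] : Cfsg.IsOfThompsonType (↥(Subgroup.centralizer (Y : Set G)) ⧸ Y.subgroupOf (Subgroup.centralizer (Y : Set G))) := by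
  obtain ⟨hsc, hsQ⟩ := hsQ
  obtain ⟨a, rfl, has, ⟨D⟩⟩ := Cfsg.Lib.MonsterThree.exists_datum hM ⟨⟨s, hsc⟩, hsQ⟩ hs hs1 Y hY hY3 hnc
  have hL : ∀ N : Subgroup (alternatingGroup (Fin 9)), N.Normal → IsPGroup 2 N → N = ⊥ := by
    intro N hN hp
    haveI : IsSimpleGroup (alternatingGroup (Fin 9)) := alternatingGroup.isSimpleGroup (by simp)
    haveI : Fact (Nat.Prime 2) := ⟨Nat.prime_two⟩
    refine hN.eq_bot_or_eq_top.resolve_right fun ht => ?_
    obtain ⟨k, hk⟩ := hp.exists_card_eq
    rw [ht, Subgroup.card_top, Cfsg.Lib.MonsterThree.card_alt] at hk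
    have h3 : 3 ∣ 2 ^ k := hk ▸ (by norm_num : (3 : ℕ) ∣ 181440)
    exact absurd (Nat.prime_three.dvd_of_dvd_pow h3) (by norm_num)
  have hsR : s ∈ D.fixR := D.mem_fixR.2 ⟨⟨⟨s, hsc⟩, hsQ⟩, rfl, has⟩
  obtain ⟨zb, Qb, hQb, hset, he, -⟩ := D.local_type Cfsg.Lib.MonsterThree.rho
    Cfsg.Lib.MonsterThree.rho_surjective Cfsg.Lib.MonsterThree.rho_eq_one_iff
    Cfsg.Lib.MonsterThree.rho_eq_one_of_fix hL (w := 4) (by rw [Cfsg.Lib.MonsterThree.ncard_fixSet]; norm_num)
    (by rw [Cfsg.Lib.MonsterThree.ncard_fixSet]; norm_num) hsR hs hs1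
  exact ⟨zb, Qb, hQb, hset, he⟩

end Cfsg.Agent.S5414
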