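import Cfsg.Statements.S5415
import Cfsg.Agent.Lib.MonsterLocal.Setting
import Cfsg.Agent.Lib.MonsterFischer.Place

set_option autoImplicit false
open Cfsg

namespace Cfsg.Agent.S5415

open Cfsg.Lib.MonsterFischer in
/-- Lifting the two normal subgroups through a surjection. -/
theorem lift_section {D : Type*} [Group D] {Qb : Subgroup D} [Qb.Normal] (e : D ⧸ Qb ≃* LQ) :
    ∃ (N M : Subgroup D) (_ : N.Normal) (_ : M.Normal), Qb ≤ N ∧ N ≤ M ∧ Nat.card N = 3 * Nat.card Qb ∧
      (∃ (K : Type) (_ : Field K) (_ : Fintype K), Fintype.card K = 9 ∧ Nonempty (M ⧸ N.subgroupOf M ≃* PSU 4 K 3)) ∧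
      M.index = 2 := by
  obtain ⟨es⟩ := section_equiv
  let π : D →* LQ := e.toMonoidHom.comp (QuotientGroup.mk' Qb)
  have hπ : Function.Surjective π := e.surjective.comp (QuotientGroup.mk'_surjective _)
  have hker : π.ker = Qb := by
    ext x
    rw [MonoidHom.mem_ker]
    show e (QuotientGroup.mk x) = 1 ↔ _
    rw [MulEquiv.map_eq_one_iff, QuotientGroup.eq_one_iff]
  refine ⟨NQ.comap π, MQ.comap π, NQ_normal.comap π, MQ_normal.comap π, ?_, Subgroup.comap_mono NQ_le, ?_,
    ⟨Cfsg.Lib.PermAut.MclPsu.R9, inferInstance, inferInstance, Cfsg.Lib.PermAut.MclPsu.card_r9, ?_⟩, ?_⟩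
  · rw [← hker]; exact Subgroup.comap_mono bot_le
  · have h := card_map_mul π (NQ.comap π) (Subgroup.comap_mono bot_le)
    rw [Subgroup.map_comap_eq_self_of_surjective hπ, card_NQ, hker] at h
    rw [← h, mul_comm]
  · let g : MQ.comap π →* MQ ⧸ NQ.subgroupOf MQ :=
      (QuotientGroup.mk' (NQ.subgroupOf MQ)).comp (π.subgroupComap MQ)
    have hg : Function.Surjective g :=
      (QuotientGroup.mk'_surjective _).comp (MonoidHom.subgroupComap_surjective_of_surjective _ _ hπ)
    have hk : g.ker = (NQ.comap π).subgroupOf (MQ.comap π) := by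
      ext x
      rw [MonoidHom.mem_ker, MonoidHom.comp_apply, QuotientGroup.mk'_apply, QuotientGroup.eq_one_iff,
        Subgroup.mem_subgroupOf]
      rfl
    exact ⟨((QuotientGroup.quotientMulEquivOfEq hk).symm.trans (QuotientGroup.quotientKerEquivOfSurjective g hg)).trans es⟩
  · rw [Subgroup.index_comap_of_surjective _ hπ, index_MQ]

/-- Let G be a finite group of Monster type at the involution z with Q the extraspecial normal subgroup of order 2^25 of C = C_G(z) (so C/Q is identified with the first Conway group with Q modulo its centre the Leech lattice modulo 2, and z is not weakly closed in Q). Let s be a conjugate of z in Q other than z and let Y be a subgroup of order 3 of the joint centralizer L of z and s that is 3-central in L (Y lies in the centre of some Sylow 3-subgroup of L). Then the centralizer of Y modulo Y is a group of large Fischer type (an involution whose centralizer D has generalized Fitting subgroup R extraspecial of order 2^13 and normal subgroups R ≤ N ≤ M with N/R of order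 3, M/N the projective special unitary group of dimension 4 over the field with nine elements and M of index 2 in D; the involution not weakly closed in R). -/
theorem result {G : Type*} [Group G] [Finite G] (z : G) (Q : Subgroup (Subgroup.centralizer ({z} : Set G))) [Q.Normal] (hM : Cfsg.IsOfMonsterType z Q) (s : G) (hsQ : ∃ hsc : s ∈ Subgroup.centralizer ({z} : Set G), (⟨s, hsc⟩ : Subgroup.centralizer ({z} : Set G)) ∈ Q) (hs : IsConj z s) (hs1 : s ≠ z) (Y : Subgroup G) (hY : Y ≤ Subgroup.centralizer ({z, s} : Set G)) (hY3 : Nat.card Y = 3) (hc : ∃ P : Sylow 3 ↥(Subgroup.centralizer ({z, s} : Set G)), Y.subgroupOf (Subgroup.centralizer ({z, s} : Set G)) ≤ (Subgroup.center ↥(P : Subgroup ↥(Subgroup.centralizer ({z, s} : Set G)))).map (P : Subgroup ↥(Subgroup.centralizer ({z, s} : Set G))).subtype) [hn : (Y.subgroupOf (Subgroup.centralizer (Y : Set G))).Normal] : Cfsg.IsOfLargeFischerType (↥(Subgroup.centralizer (Y : Set G)) ⧸ Y.subgroupOf (Subgroup.centralizer (Y : Set G))) := by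
  obtain ⟨hsc, hsQ⟩ := hsQ
  obtain ⟨a, rfl, has, ⟨D⟩⟩ := Cfsg.Lib.MonsterFischer.exists_datum hM ⟨⟨s, hsc⟩, hsQ⟩ hs hs1 Y hY hY3 hc
  have hsR : s ∈ D.fixR := D.mem_fixR.2 ⟨⟨⟨s, hsc⟩, hsQ⟩, rfl, has⟩
  obtain ⟨zb, Qb, hQb, hset, ⟨e⟩, -⟩ := D.local_type Cfsg.Lib.MonsterFischer.rho
    Cfsg.Lib.MonsterFischer.rho_surjective Cfsg.Lib.MonsterFischer.rho_eq_one_iff
    Cfsg.Lib.MonsterFischer.rho_eq_one_of_fix Cfsg.Lib.MonsterFischer.no_two_core (w := 6)
    (by rw [Cfsg.Lib.MonsterFischer.ncard_fixSet]; norm_num)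
    (by rw [Cfsg.Lib.MonsterFischer.ncard_fixSet]; norm_num) hsR hs hs1
  exact ⟨zb, Qb, hQb, hset, lift_section e⟩

end Cfsg.Agent.S5415
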