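import Cfsg.Statements.S5416
-- import your own Cfsg.Agent.* helpers here
import Cfsg.Agent.Lib.MonsterLocal.Setting
import Cfsg.Agent.Lib.MonsterSeven.Place
import Cfsg.Agent.Lib.Linear.SLBasic

set_option autoImplicit false
open Cfsg

namespace Cfsg.Agent.S5416

/-- Let G be a finite group of Monster type at the involution z with Q the extraspecial normal subgroup of order 2^25 of C = C_G(z) (so C/Q is identified with the first Conway group with Q modulo its centre the Leech lattice modulo 2, and z is not weakly closed in Q). Let s be a conjugate of z in Q other than z and let B be a Sylow 7-subgroup of the joint centralizer of z and s. Then the centralizer of B modulo B is a group of Held type (an involution whose centralizer D has generalized Fitting subgroup R extraspecial of order 2^7 with D/R isomorphic to SL(3, 2), exactly 29 of its conjugates lying in R, and the involution not weakly closed in R). -/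
theorem result {G : Type*} [Group G] [Finite G] (z : G) (Q : Subgroup (Subgroup.centralizer ({z} : Set G))) [Q.Normal] (hM : Cfsg.IsOfMonsterType z Q) (s : G) (hsQ : ∃ hsc : s ∈ Subgroup.centralizer ({z} : Set G), (⟨s, hsc⟩ : Subgroup.centralizer ({z} : Set G)) ∈ Q) (hs : IsConj z s) (hs1 : s ≠ z) (B : Subgroup G) (hB : B ≤ Subgroup.centralizer ({z, s} : Set G)) (hBp : Nat.card B = 7 ^ (Nat.card ↥(Subgroup.centralizer ({z, s} : Set G))).factorization 7) [hn : (B.subgroupOf (Subgroup.centralizer (B : Set G))).Normal] : Cfsg.IsOfHeldType (↥(Subgroup.centralizer (B : Set G)) ⧸ B.subgroupOf (Subgroup.centralizer (B : Set G))) := by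
  obtain ⟨hsc, hsQ⟩ := hsQ
  obtain ⟨a, rfl, has, ⟨D⟩⟩ := Cfsg.Lib.MonsterSeven.exists_datum hM ⟨⟨s, hsc⟩, hsQ⟩ hs hs1 B hB hBp
  have hsimple : IsSimpleGroup (Matrix.SpecialLinearGroup (Fin 3) (ZMod 2)) := by
    haveI : Fact (Nat.Prime 2) := ⟨Nat.prime_two⟩
    haveI := Cfsg.Lib.Linear.PSL_simple (F := ZMod 2) 3 (by norm_num) (fun h => absurd h (by norm_num))
    have hc : Subgroup.center (Matrix.SpecialLinearGroup (Fin 3) (ZMod 2)) = ⊥ := Subgroup.eq_bot_of_card_eq _ (by
      rw [Cfsg.Lib.Linear.card_center_SL]; simp [ZMod.card])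
    exact (((QuotientGroup.quotientMulEquivOfEq hc).trans QuotientGroup.quotientBot) :
      Matrix.ProjectiveSpecialLinearGroup (Fin 3) (ZMod 2) ≃*
        Matrix.SpecialLinearGroup (Fin 3) (ZMod 2)).symm.isSimpleGroup
  have hL : ∀ N : Subgroup (Matrix.SpecialLinearGroup (Fin 3) (ZMod 2)), N.Normal → IsPGroup 2 N → N = ⊥ := by
    intro N hN hp
    haveI := hsimple
    haveI : Fact (Nat.Prime 2) := ⟨Nat.prime_two⟩
    refine hN.eq_bot_or_eq_top.resolve_right fun ht => ?_
    obtain ⟨k, hk⟩ := hp.exists_card_eq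
    rw [ht, Subgroup.card_top] at hk
    have h := Cfsg.Lib.Linear.card_SL_mul (F := ZMod 2) 3 (by norm_num)
    rw [ZMod.card, Fin.prod_univ_three] at h
    have h168 : Nat.card (Matrix.SpecialLinearGroup (Fin 3) (ZMod 2)) = 168 := by simpa using h
    have h3 : 3 ∣ 2 ^ k := hk ▸ h168.symm ▸ (show (3 : ℕ) ∣ 168 by norm_num)
    exact absurd (Nat.prime_three.dvd_of_dvd_pow h3) (by norm_num)
  have hsR : s ∈ D.fixR := D.mem_fixR.2 ⟨⟨⟨s, hsc⟩, hsQ⟩, rfl, has⟩
  obtain ⟨zb, Qb, hQb, hset, he, hcount⟩ := D.local_type Cfsg.Lib.MonsterSeven.rho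
    Cfsg.Lib.MonsterSeven.rho_surjective Cfsg.Lib.MonsterSeven.rho_eq_one_iff
    Cfsg.Lib.MonsterSeven.rho_eq_one_of_fix hL (w := 3) (by rw [Cfsg.Lib.MonsterSeven.ncard_fixSet]; norm_num)
    (by rw [Cfsg.Lib.MonsterSeven.ncard_fixSet]; norm_num) hsR hs hs1
  rw [Cfsg.Lib.MonsterSeven.ncard_fix_sixty] at hcount
  exact ⟨zb, Qb, hQb, hset, he, hcount⟩

end Cfsg.Agent.S5416
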