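import Cfsg.Statements.S5417
import Cfsg.Agent.Lib.MonsterLocal.LocalCore
import Cfsg.Agent.Lib.MonsterSeven.Sharp
import Cfsg.Agent.Lib.Linear.SLBasic
import Cfsg.Agent.Lib.HeldType.CoreWitness
import Cfsg.Agent.Lib.HeldType.CentShape.OfHeld
-- import your own Cfsg.Agent.* helpers here

set_option autoImplicit false
open Cfsg

namespace Cfsg.Agent.S5417

/-- Let G be a finite group of Monster type at the involution z with Q the extraspecial normal subgroup of order 2^25 of C = C_G(z) (so C/Q is identified with the first Conway group with Q modulo its centre the Leech lattice modulo 2, and z is not weakly closed in Q). Let s be a conjugate of z in Q other than z and let B be a Sylow 7-subgroup of the joint centralizer of z and s. Then the centralizer of B modulo B is isomorphic to the Held group (as presented on seven involutions). -/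
theorem result {G : Type*} [Group G] [Finite G] (z : G) (Q : Subgroup (Subgroup.centralizer ({z} : Set G))) [Q.Normal] (hM : Cfsg.IsOfMonsterType z Q) (s : G) (hsQ : ∃ hsc : s ∈ Subgroup.centralizer ({z} : Set G), (⟨s, hsc⟩ : Subgroup.centralizer ({z} : Set G)) ∈ Q) (hs : IsConj z s) (hs1 : s ≠ z) (B : Subgroup G) (hB : B ≤ Subgroup.centralizer ({z, s} : Set G)) (hBp : Nat.card B = 7 ^ (Nat.card ↥(Subgroup.centralizer ({z, s} : Set G))).factorization 7) [hn : (B.subgroupOf (Subgroup.centralizer (B : Set G))).Normal] : Cfsg.Spor.IsoHe (↥(Subgroup.centralizer (B : Set G)) ⧸ B.subgroupOf (Subgroup.centralizer (B : Set G))) := by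
  classical
  obtain ⟨hsc, hsQ⟩ := hsQ
  obtain ⟨a, rfl, has, D, -⟩ :=
    Cfsg.Lib.MonsterSeven.exists_datum_top hM ⟨⟨s, hsc⟩, hsQ⟩ hs hs1 B hB hBp
  have hsimple : IsSimpleGroup (Matrix.SpecialLinearGroup (Fin 3) (ZMod 2)) := by
    haveI : Fact (Nat.Prime 2) := ⟨Nat.prime_two⟩
    haveI := Cfsg.Lib.Linear.PSL_simple (F := ZMod 2) 3 (by norm_num) (fun h => absurd h (by norm_num))
    have hc : Subgroup.center (Matrix.SpecialLinearGroup (Fin 3) (ZMod 2)) = ⊥ := Subgroup.eq_bot_of_card_eq _ (by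
      rw [Cfsg.Lib.Linear.card_center_SL]; simp [ZMod.card])
    exact (((QuotientGroup.quotientMulEquivOfEq hc).trans QuotientGroup.quotientBot) :
      Matrix.ProjectiveSpecialLinearGroup (Fin 3) (ZMod 2) ≃*
        Matrix.SpecialLinearGroup (Fin 3) (ZMod 2)).symm.isSimpleGroup
  have hL : ∀ N : Subgroup (Matrix.SpecialLinearGroup (Fin 3) (ZMod 2)), N.Normal → IsPGroup 2 N → N = ⊥ := by
    intro N hN hp
    haveI := hsimple
    haveI : Fact (Nat.Prime 2) := ⟨Nat.prime_two⟩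
    refine hN.eq_bot_or_eq_top.resolve_right fun ht => ?_
    obtain ⟨k, hk⟩ := hp.exists_card_eq
    rw [ht, Subgroup.card_top] at hk
    have h := Cfsg.Lib.Linear.card_SL_mul (F := ZMod 2) 3 (by norm_num)
    rw [ZMod.card, Fin.prod_univ_three] at h
    have h168 : Nat.card (Matrix.SpecialLinearGroup (Fin 3) (ZMod 2)) = 168 := by simpa using h
    have h3 : 3 ∣ 2 ^ k := hk ▸ h168.symm ▸ (show (3 : ℕ) ∣ 168 by norm_num)
    exact absurd (Nat.prime_three.dvd_of_dvd_pow h3) (by norm_num)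
  have hsR : s ∈ D.fixR := D.mem_fixR.2 ⟨⟨⟨s, hsc⟩, hsQ⟩, rfl, has⟩
  let M := Subgroup.centralizer (Subgroup.zpowers a : Set G)
  let π := QuotientGroup.mk' ((Subgroup.zpowers a).subgroupOf M)
  obtain ⟨zb, Qb, hQb, hset, ⟨eL⟩, hcount, ⟨hzM, hzb⟩, hcore⟩ := D.local_core Cfsg.Lib.MonsterSeven.rho
    Cfsg.Lib.MonsterSeven.rho_surjective Cfsg.Lib.MonsterSeven.rho_eq_one_iff
    Cfsg.Lib.MonsterSeven.rho_eq_one_of_fix hL (w := 3) (by rw [Cfsg.Lib.MonsterSeven.ncard_fixSet]; norm_num)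
    (by rw [Cfsg.Lib.MonsterSeven.ncard_fixSet]; norm_num) hsR hs hs1
  rw [Cfsg.Lib.MonsterSeven.ncard_fix_sixty] at hcount
  haveI := hQb
  obtain ⟨hzb2, hF, hQe, hcard, gb, ⟨hgc, -⟩, hgne⟩ := hset
  have h2c : Subgroup.centralizer (Qb : Set _) ≤ Qb := by
    conv_lhs => rw [← hF]
    exact Cfsg.Agent.S1265.result.trans hF.le
  have h7 : Nat.card Qb = 2 ^ 7 := hcard
  let s0 : Matrix.SpecialLinearGroup (Fin 5) (ZMod 2) :=
    ⟨Matrix.transvection 0 1 1, Matrix.det_transvection_of_ne 0 1 (by decide) _⟩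
  obtain ⟨e⟩ := Cfsg.Lib.HeldType.CentShape.centralizer_iso_of_conjugates hzb2 Qb hQe h7
    (Cfsg.Lib.HeldType.CentShape.exists_elementary Qb hQe h7 h2c eL) h2c eL
    (lt_of_lt_of_le (by rw [hcount]; norm_num) (Set.ncard_le_ncard (t := {x : Subgroup.centralizer ({zb} : Set _) | IsConj zb (x : _)}) (s := {x : Subgroup.centralizer ({zb} : Set _) | x ∈ Qb ∧ IsConj zb (x : _)}) (fun x hx => hx.2) (Set.toFinite _)))
    (s := s0) rfl
  rcases Cfsg.Lib.HeldType.iso_He_or_witness s0 rfl zb hzb2 e hgc hgne with h |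
    ⟨kb, xb, ⟨hs'c, hs'⟩, hs'ne, ⟨hxC, hx⟩, ⟨hyC, hy⟩, hxc, hxz, hxs, hxsz⟩
  · exact h
  exfalso
  have hz2 : z * z = 1 := by rw [← pow_two, ← D.setting.1, pow_orderOf_eq_one]
  have hlift : ∀ u v : M, (u : G) * u = 1 → (v : G) ∈ D.fixR → π u = π v → (u : G) = v := by
    intro u v hu hv huv
    have h1 : (u⁻¹ * v : M) ∈ (Subgroup.zpowers a).subgroupOf M := QuotientGroup.eq.1 huv
    rw [Subgroup.mem_subgroupOf] at h1
    set n := ((u⁻¹ * v : M) : G) with hn'
    have hun : Commute (u : G) n := by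
      obtain ⟨i, hi⟩ := Subgroup.mem_zpowers_iff.1 h1
      rw [← hi]
      exact ((Cfsg.Lib.MonsterLocal.Datum.mem_centralizer_zpowers.1 u.2).zpow_left i).symm
    have hvn : (v : G) = u * n := by simp [n]
    have hu2 : (u : G) ^ (2 ^ 25) = 1 := by
      rw [show (2 : ℕ) ^ 25 = 2 * 2 ^ 24 by norm_num, pow_mul, pow_two, hu, one_pow]
    obtain ⟨q, hq, -⟩ := D.mem_fixR.1 hv
    have hv2 : (v : G) ^ (2 ^ 25) = 1 := by
      have h2 : q ^ Nat.card Q = 1 := pow_card_eq_one'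
      rw [D.card_Q] at h2
      rw [← hq, ← SubgroupClass.coe_pow, ← SubgroupClass.coe_pow, h2]
      rfl
    have hn2 : n ^ (2 ^ 25) = 1 := by
      have h3 := hun.mul_pow (2 ^ 25)
      rw [← hvn, hv2, hu2, one_mul] at h3
      exact h3.symm
    have hn7 : orderOf n ∣ 7 := by
      have h4 := orderOf_dvd_natCard (⟨n, h1⟩ : Subgroup.zpowers a)
      rwa [Subgroup.orderOf_mk, Nat.card_zpowers, D.order] at h4
    have hn1 : n = 1 := orderOf_eq_one_iff.1 (Nat.eq_one_of_dvd_coprimes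
      (show Nat.Coprime 7 (2 ^ 25) by norm_num) hn7 (orderOf_dvd_of_pow_eq_one hn2))
    rw [hvn, hn1, mul_one]
  obtain ⟨k, rfl⟩ := QuotientGroup.mk_surjective kb
  set zM : M := ⟨z, hzM⟩ with hzMdef
  subst hzb
  obtain ⟨r, hr, hre⟩ := hcore _ hs'
  set s' : G := (k : G) * z * (k : G)⁻¹ with hs'def
  have hs'2 : s' * s' = 1 := by
    rw [hs'def, show (k : G) * z * (k : G)⁻¹ * ((k : G) * z * (k : G)⁻¹) = (k : G) * (z * z) * (k : G)⁻¹ by group, hz2]
    group
  have hks : ((k * zM * k⁻¹ : M) : G) = s' := rfl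
  have hs'r : s' = r := by
    have h5 := hlift (k * zM * k⁻¹) r (by rw [hks]; exact hs'2) hr hre.symm
    rwa [hks] at h5
  obtain ⟨q', hq', has'⟩ := D.mem_fixR.1 (hs'r ▸ hr : s' ∈ D.fixR)
  have hs'z : s' ≠ z := fun h5 => hs'ne (congrArg π (Subtype.ext h5 : k * zM * k⁻¹ = zM))
  have hcz : IsConj z s' := isConj_iff.2 ⟨(k : G), rfl⟩
  have hB' : Subgroup.zpowers a ≤ Subgroup.centralizer
      ({z, ((q' : Subgroup.centralizer ({z} : Set G)) : G)} : Set G) := by
    rw [Subgroup.zpowers_le, hq', Subgroup.mem_centralizer_iff]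
    intro w hw
    rcases Set.mem_insert_iff.1 hw with rfl | hw
    · exact (Subgroup.mem_centralizer_singleton_iff.1 D.mem).symm
    · rw [Set.mem_singleton_iff.1 hw]; exact has'.eq.symm
  have hBp' : Nat.card (Subgroup.zpowers a) = 7 ^ (Nat.card ↥(Subgroup.centralizer
      ({z, ((q' : Subgroup.centralizer ({z} : Set G)) : G)} : Set G))).factorization 7 := by
    obtain ⟨-, -, -, -, n, hn⟩ := Cfsg.Lib.MonsterLocal.exists_cross_rep hM q' (hq' ▸ hcz) (hq' ▸ hs'z)
    rw [hn, Nat.card_zpowers, D.order, Nat.factorization_mul (by positivity) (by norm_num),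
      Nat.Prime.factorization_pow Nat.prime_two, Finsupp.add_apply, Finsupp.single_eq_of_ne (by norm_num),
      show (2 : ℕ) ^ 21 * 239085 = 7 * (2 ^ 21 * 34155) by norm_num, Nat.factorization_mul (by norm_num) (by norm_num),
      Finsupp.add_apply, Nat.Prime.factorization_self (by norm_num), Nat.factorization_eq_zero_of_not_dvd (by norm_num)]
    norm_num
  obtain ⟨a', ha', -, D', hv'⟩ := Cfsg.Lib.MonsterSeven.exists_datum_top hM q' (hq' ▸ hcz) (hq' ▸ hs'z) _ hB' hBp'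
  obtain ⟨rx, hrx, hrxe⟩ := hcore _ hx
  obtain ⟨mb, hmb⟩ := isConj_iff.1 hxc
  obtain ⟨m, rfl⟩ := QuotientGroup.mk_surjective mb
  have hxm : (m : G) * z * (m : G)⁻¹ = rx := hlift (m * zM * m⁻¹) rx (by
    show (m : G) * z * (m : G)⁻¹ * ((m : G) * z * (m : G)⁻¹) = 1
    rw [show (m : G) * z * (m : G)⁻¹ * ((m : G) * z * (m : G)⁻¹) = (m : G) * (z * z) * (m : G)⁻¹ by group, hz2]
    group) hrx (hmb.trans hrxe.symm)
  obtain ⟨ry, hry, hrye⟩ := hcore _ hy
  have hym : (k : G)⁻¹ * rx * k = ry := hlift (k⁻¹ * rx * k) ry (by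
    show (k : G)⁻¹ * rx * k * ((k : G)⁻¹ * rx * k) = 1
    rw [← hxm, show (k : G)⁻¹ * ((m : G) * z * (m : G)⁻¹) * k * ((k : G)⁻¹ * ((m : G) * z * (m : G)⁻¹) * k) =
      (k : G)⁻¹ * ((m : G) * (z * z) * (m : G)⁻¹) * k by group, hz2]
    group) hry (by
    rw [map_mul, map_mul, map_inv, show π rx = xb from hrxe]
    exact hrye.symm)
  obtain ⟨qx, hqx, hax⟩ := D.mem_fixR.1 hrx
  obtain ⟨qy, hqy, -⟩ := D.mem_fixR.1 hry
  have hax' : Commute a' ((qx : Subgroup.centralizer ({z} : Set G)) : G) := by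
    obtain ⟨i, hi⟩ := Subgroup.mem_zpowers_iff.1 (ha'.symm ▸ Subgroup.mem_zpowers a' : a' ∈ Subgroup.zpowers a)
    rw [hqx, ← hi]
    exact hax.zpow_left i
  rcases Cfsg.Lib.MonsterSeven.sharp hM D' q' hv' (g := (k : G)) hq' hs'z qx hax'
      ⟨qy, by rw [hqy, hqx, ← hym]; group⟩ (hqx ▸ isConj_iff.2 ⟨(m : G), hxm⟩) with h5 | h5 | h5 <;>
    rw [hqx] at h5
  · exact hxz (hrxe.symm.trans (congrArg π (Subtype.ext h5 : rx = zM)))
  · exact hxs (hrxe.symm.trans (congrArg π (Subtype.ext h5 : rx = k * zM * k⁻¹)))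
  · exact hxsz (hrxe.symm.trans (congrArg π (Subtype.ext h5 : rx = k * zM * k⁻¹ * zM)))

end Cfsg.Agent.S5417
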