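import Cfsg.Statements.S5418
-- import your own Cfsg.Agent.* helpers here
import Cfsg.Agent.Lib.MonsterLocal.Outer
import Cfsg.Agent.Lib.MonsterSeven.Place
import Cfsg.Agent.Lib.MonsterSeven.AutElems

set_option autoImplicit false
open Cfsg

namespace Cfsg.Agent.S5418

/-- Let G be a finite group of Monster type at the involution z with Q the extraspecial normal subgroup of order 2^25 of C = C_G(z) (so C/Q is identified with the first Conway group with Q modulo its centre the Leech lattice modulo 2, and z is not weakly closed in Q). Let s be a conjugate of z in Q other than z and let B be a Sylow 7-subgroup of the joint centralizer of z and s. Then the centralizer of B has index 6 in the normalizer of B; and some involution inverting B induces, by conjugation, a non-inner automorphism of the layer of the centralizer of B. -/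
theorem result {G : Type*} [Group G] [Finite G] (z : G) (Q : Subgroup (Subgroup.centralizer ({z} : Set G))) [Q.Normal] (hM : Cfsg.IsOfMonsterType z Q) (s : G) (hsQ : ∃ hsc : s ∈ Subgroup.centralizer ({z} : Set G), (⟨s, hsc⟩ : Subgroup.centralizer ({z} : Set G)) ∈ Q) (hs : IsConj z s) (hs1 : s ≠ z) (B : Subgroup G) (hB : B ≤ Subgroup.centralizer ({z, s} : Set G)) (hBp : Nat.card B = 7 ^ (Nat.card ↥(Subgroup.centralizer ({z, s} : Set G))).factorization 7) : (Subgroup.centralizer (B : Set G)).relIndex (Subgroup.normalizer (B : Set G)) = 6 ∧ ∃ t : G, orderOf t = 2 ∧ (∀ b ∈ B, t * b * t⁻¹ = b⁻¹) ∧ (∀ x ∈ (Cfsg.layer ↥(Subgroup.centralizer (B : Set G))).map (Subgroup.centralizer (B : Set G)).subtype, t * x * t⁻¹ ∈ (Cfsg.layer ↥(Subgroup.centralizer (B : Set G))).map (Subgroup.centralizer (B : Set G)).subtype) ∧ ¬ ∃ l ∈ (Cfsg.layer ↥(Subgroup.centralizer (B : Set G))).map (Subgroup.centralizer (B : Set G)).subtype, ∀ x ∈ (Cfsg.layer ↥(Subgroup.centralizer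 (B : Set G))).map (Subgroup.centralizer (B : Set G)).subtype, t * x * t⁻¹ = l * x * l⁻¹ := by
  obtain ⟨hsc, hsQ⟩ := hsQ
  obtain ⟨a, rfl, has, ⟨D⟩⟩ := Cfsg.Lib.MonsterSeven.exists_datum hM ⟨⟨s, hsc⟩, hsQ⟩ hs hs1 B hB hBp
  have hfaith : ∀ g : Co0, Commute g Cfsg.Lib.MonsterSeven.f0 →
      (∀ q ∈ Cfsg.Lib.MonsterLocal.fixSet Cfsg.Lib.MonsterSeven.f0, Cfsg.Lib.MonsterLocal.qact g q = q) →
      g ∈ Subgroup.center Co0 ⊔ Subgroup.zpowers Cfsg.Lib.MonsterSeven.f0 := fun g hg h =>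
    (Cfsg.Lib.MonsterSeven.rho_eq_one_iff ⟨g, Cfsg.Lib.MonsterSeven.mem_cenF.2 hg⟩).1
      (Cfsg.Lib.MonsterSeven.rho_eq_one_of_fix _ h)
  refine ⟨D.relIndex_eq Cfsg.Lib.MonsterSeven.sixE_conj (fun j hj => ?_), ?_⟩
  · have h6 : ∀ r : Fin 7, r ≠ 0 → ∃ m : Fin 6, 5 ^ m.val % 7 = r.val := by decide
    obtain ⟨m, hm⟩ := h6 ⟨j % 7, Nat.mod_lt _ (by norm_num)⟩
      (fun e => hj (Nat.dvd_of_mod_eq_zero (congrArg Fin.val e)))
    exact ⟨m.val, hm⟩
  · exact D.automizer Cfsg.Lib.MonsterSeven.f0_ne_one hfaith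
      (fun S h => Cfsg.Lib.MonsterSeven.fixSet_span h)
      (fun g hg => Cfsg.Lib.MonsterSeven.inverting_not_faithful hg)
      (by rw [Cfsg.Lib.MonsterSeven.ncard_fixSet]; norm_num) Cfsg.Lib.MonsterSeven.epsE_mem
      Cfsg.Lib.MonsterSeven.iE_mul_yE Cfsg.Lib.MonsterSeven.iE_inv
      (D.mem_fixR.2 ⟨⟨⟨s, hsc⟩, hsQ⟩, rfl, has⟩) hs hs1

end Cfsg.Agent.S5418
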