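import Cfsg.Statements.S5420
import Mathlib
import Cfsg.Agent.Lib.Core.Cores

set_option autoImplicit false
open Cfsg

namespace Cfsg.Agent.S5420

/-- Let Q be an extraspecial 2-subgroup of the finite group G whose centralizer in G is its centre Z and which is normal in the centralizer of Z. If Z lies in the largest normal 2-subgroup of G, then Q is a large extraspecial 2-subgroup of G: it normalizes no non-trivial subgroup of G of odd order. -/
theorem result {G : Type*} [Group G] [Finite G] (Q : Subgroup G) (hL1 : Cfsg.IsExtraspecial 2 ↥Q) (hL2 : Subgroup.centralizer (Q : Set G) = ((Subgroup.center ↥Q).map Q.subtype)) (hL3 : Subgroup.centralizer (((Subgroup.center ↥Q).map Q.subtype) : Set G) ≤ Subgroup.normalizer (Q : Set G)) (hZ : ((Subgroup.center ↥Q).map Q.subtype) ≤ Cfsg.pCore 2 G) : Cfsg.IsLargeExtraspecial Q := by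
  refine ⟨hL1, hL2, hL3, fun K hK hQK => ?_⟩
  set Z := (Subgroup.center ↥Q).map Q.subtype
  have hZc : Nat.card Z = 2 := by
    rw [Subgroup.card_map_of_injective Q.subtype_injective]; exact hL1.2
  have hdisj : ∀ x ∈ K, x ∈ Cfsg.pCore 2 G → x = 1 := by
    intro x hx hx'
    obtain ⟨k, hk⟩ := Cfsg.Lib.Core.pCore_isPGroup 2 G ⟨x, hx'⟩
    have h1 : orderOf x ∣ 2 ^ k := orderOf_dvd_of_pow_eq_one (by simpa using congrArg Subtype.val hk)
    have h2 : orderOf x ∣ Nat.card K := by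
      rw [← Subgroup.orderOf_mk x hx]; exact orderOf_dvd_natCard _
    exact orderOf_eq_one_iff.1 (Nat.eq_one_of_dvd_coprimes (Nat.Coprime.pow_left k (Nat.coprime_two_left.2 hK)) h1 h2)
  haveI hn : (Cfsg.pCore 2 G).Normal := inferInstance
  have hKC : K ≤ Subgroup.centralizer (Z : Set G) := by
    intro k hk z hz
    have hzQ : z ∈ Q := by obtain ⟨y, -, rfl⟩ := hz; exact y.2
    have h1 : z * k * z⁻¹ * k⁻¹ ∈ K := K.mul_mem ((Subgroup.mem_normalizer_iff.1 (hQK hzQ) k).1 hk) (K.inv_mem hk)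
    have h2 : z * k * z⁻¹ * k⁻¹ ∈ Cfsg.pCore 2 G := by
      rw [show z * k * z⁻¹ * k⁻¹ = z * (k * z⁻¹ * k⁻¹) by group]
      exact mul_mem (hZ hz) (hn.conj_mem _ (inv_mem (hZ hz)) k)
    have := hdisj _ h1 h2
    rw [mul_inv_eq_one, mul_inv_eq_iff_eq_mul] at this
    exact this
  have hKQ : K ≤ Subgroup.centralizer (Q : Set G) := by
    intro k hk q hq
    have h1 : q * k * q⁻¹ * k⁻¹ ∈ K := K.mul_mem ((Subgroup.mem_normalizer_iff.1 (hQK hq) k).1 hk) (K.inv_mem hk)
    have h2 : q * k * q⁻¹ * k⁻¹ ∈ Q := by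
      rw [show q * k * q⁻¹ * k⁻¹ = q * (k * q⁻¹ * k⁻¹) by group]
      exact Q.mul_mem hq ((Subgroup.mem_normalizer_iff.1 (hL3 (hKC hk)) _).1 (Q.inv_mem hq))
    have hord : orderOf (q * k * q⁻¹ * k⁻¹) = 1 := by
      obtain ⟨e, he⟩ := hL1.1.1 ⟨_, h2⟩
      have h3 : orderOf (q * k * q⁻¹ * k⁻¹) ∣ 2 ^ e := orderOf_dvd_of_pow_eq_one (by simpa using congrArg Subtype.val he)
      have h4 : orderOf (q * k * q⁻¹ * k⁻¹) ∣ Nat.card K := by
        rw [← Subgroup.orderOf_mk _ h1]; exact orderOf_dvd_natCard _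
      exact Nat.eq_one_of_dvd_coprimes (Nat.Coprime.pow_left e (Nat.coprime_two_left.2 hK)) h3 h4
    have := orderOf_eq_one_iff.1 hord
    rw [mul_inv_eq_one, mul_inv_eq_iff_eq_mul] at this
    exact this
  have hle : Nat.card K ∣ 2 := hZc ▸ Subgroup.card_dvd_of_le (hL2 ▸ hKQ)
  apply Subgroup.eq_bot_of_card_eq
  rcases (Nat.dvd_prime Nat.prime_two).1 hle with h | h
  · exact h
  · rw [h] at hK; exact absurd hK (by decide)

end Cfsg.Agent.S5420
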