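import Cfsg.Statements.S5421
import Cfsg.Agent.Lib.Extra.Large

set_option autoImplicit false
open Cfsg

namespace Cfsg.Agent.S5421

/-- Let Q be an extraspecial 2-subgroup of the finite group G whose centralizer in G is its centre Z and which is normal in the centralizer of Z. If some involution b of Q outside Z has Z inside the largest normal 2-subgroup of the centralizer of b, then Q is a large extraspecial 2-subgroup of G. -/
theorem result {G : Type*} [Group G] [Finite G] (Q : Subgroup G) (hL1 : Cfsg.IsExtraspecial 2 ↥Q) (hL2 : Subgroup.centralizer (Q : Set G) = ((Subgroup.center ↥Q).map Q.subtype)) (hL3 : Subgroup.centralizer (((Subgroup.center ↥Q).map Q.subtype) : Set G) ≤ Subgroup.normalizer (Q : Set G)) (b : G) (hbQ : b ∈ Q) (hbZ : b ∉ ((Subgroup.center ↥Q).map Q.subtype)) (hb : orderOf b = 2) (hZ : ((Subgroup.center ↥Q).map Q.subtype) ≤ (Cfsg.pCore 2 ↥(Subgroup.centralizer ({b} : Set G))).map (Subgroup.centralizer ({b} : Set G)).subtype) : Cfsg.IsLargeExtraspecial Q := by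
  obtain ⟨z, hz⟩ : ∃ z, (Subgroup.center Q).map Q.subtype = Subgroup.zpowers z := by
    haveI : Fact (Nat.Prime 2) := ⟨Nat.prime_two⟩
    haveI : IsCyclic ↥((Subgroup.center Q).map Q.subtype) := isCyclic_of_prime_card (p := 2)
      (by rw [Subgroup.card_map_of_injective Q.subtype_injective]; exact hL1.2)
    obtain ⟨z, hz⟩ := (Subgroup.isCyclic_iff_exists_zpowers_eq_top _).1 this
    exact ⟨z, hz.symm⟩
  have hX := Cfsg.Lib.Extra.ctx_of hL1 hL2.le hL3 hz
  have hmz : z ∈ (Subgroup.center Q).map Q.subtype := hz ▸ Subgroup.mem_zpowers z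
  refine ⟨hL1, hL2, hL3, fun K hK hQK => hX.odd_eq_bot hbQ (by rw [← pow_two, ← hb, pow_orderOf_eq_one])
    (fun e => hbZ (e ▸ hmz)) (fun e => by rw [e, orderOf_one] at hb; exact absurd hb (by decide))
    ((Cfsg.Lib.Core.pCore_isPGroup 2 _).map _) (hZ hmz) (Cfsg.Lib.Extra.core_normalized b) hK hQK⟩

end Cfsg.Agent.S5421
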