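import Cfsg.Statements.S5422
import Cfsg.Agent.Lib.Extra.Large

set_option autoImplicit false
open Cfsg

namespace Cfsg.Agent.S5422

/-- Let Q be an extraspecial 2-subgroup of the finite group G whose centralizer in G is its centre Z and which is normal in the centralizer of Z; suppose Q has width at least 2 (order 2^(2w+1) with w ≥ 2) and g is an element of G not normalizing Z with g Z g⁻¹ inside Q. Then Z lies inside g Q g⁻¹; writing V for the subgroup generated by Z and g Z g⁻¹ (a four-group), the normalizer of V induces on V its full automorphism group, that is, the centralizer of V has index 6 in the normalizer of V; and Q is a large extraspecial 2-subgroup of G. -/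
theorem result {G : Type*} [Group G] [Finite G] (Q : Subgroup G) (hL1 : Cfsg.IsExtraspecial 2 ↥Q) (hL2 : Subgroup.centralizer (Q : Set G) = ((Subgroup.center ↥Q).map Q.subtype)) (hL3 : Subgroup.centralizer (((Subgroup.center ↥Q).map Q.subtype) : Set G) ≤ Subgroup.normalizer (Q : Set G)) (w : ℕ) (hw : 2 ≤ w) (hcard : Nat.card ↥Q = 2 ^ (2 * w + 1)) (g : G) (hg : g ∉ Subgroup.normalizer (((Subgroup.center ↥Q).map Q.subtype) : Set G)) (hZg : (((Subgroup.center ↥Q).map Q.subtype)).map (MulAut.conj g).toMonoidHom ≤ Q) : ((Subgroup.center ↥Q).map Q.subtype) ≤ (Q).map (MulAut.conj g).toMonoidHom ∧ (Subgroup.centralizer ((((Subgroup.center ↥Q).map Q.subtype) ⊔ (((Subgroup.center ↥Q).map Q.subtype)).map (MulAut.conj g).toMonoidHom : Subgroup G) : Set G)).relIndex (Subgroup.normalizer ((((Subgroup.center ↥Q).map Q.subtype) ⊔ (((Subgroup.center ↥Q).map Q.subtype)).map (MulAut.conj g).toMonoidHom : Subgroup G) : Set G)) = 6 ∧ Cfsg.IsLargeExtraspecial Q := by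
  classical
  haveI : Fact (Nat.Prime 2) := ⟨Nat.prime_two⟩
  haveI : IsCyclic ↥((Subgroup.center Q).map Q.subtype) := isCyclic_of_prime_card (p := 2)
      (by rw [Subgroup.card_map_of_injective Q.subtype_injective]; exact hL1.2)
  obtain ⟨z, hz⟩ := (Subgroup.isCyclic_iff_exists_zpowers_eq_top _).1 this
  have hX := Cfsg.Lib.Extra.ctx_of hL1 hL2.le hL3 hz.symm
  rw [← hz] at hg hZg ⊢
  rw [MonoidHom.map_zpowers] at hZg ⊢
  have hxdef : (MulAut.conj g).toMonoidHom z = g * z * g⁻¹ := rfl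
  rw [hxdef] at hZg ⊢
  have hxQ : g * z * g⁻¹ ∈ Q := hZg (Subgroup.mem_zpowers _)
  set x := g * z * g⁻¹ with hx
  have hR := hX.conj g
  have hzR := hX.mem_symm hxQ
  have hx1 : x ≠ 1 := hR.ne_one
  have hxz : x ≠ z := by
    intro e
    refine hg (Subgroup.centralizer_le_normalizer _ (Subgroup.mem_centralizer_iff.2 fun w hw => ?_))
    have hc : Commute g z := mul_inv_eq_iff_eq_mul.1 e
    obtain ⟨k, rfl⟩ := Subgroup.mem_zpowers_iff.1 hw
    exact (hc.symm.zpow_left k).eq
  refine ⟨Subgroup.zpowers_le.2 hzR, ?_, hL1, hL2, hL3, fun K hK hQK => hX.odd_eq_bot hxQ hR.sq_z hxz hx1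
    hR.two hzR hR.norm hK hQK⟩
  obtain ⟨y, hy, hyx⟩ := hX.exists_move hxQ hx1 hxz
  obtain ⟨r, hr, hrz⟩ := hR.exists_move hzR hX.ne_one (Ne.symm hxz)
  have hyz : y * z * y⁻¹ = z := mul_inv_eq_iff_eq_mul.2 (hX.central y hy).symm
  have hrx : r * x * r⁻¹ = x := mul_inv_eq_iff_eq_mul.2 (hR.central r hr).symm
  have hzx : x * z = z * x := (hX.central x hxQ).symm.eq
  set V := Subgroup.zpowers z ⊔ Subgroup.zpowers x with hVdef
  have hzV : z ∈ V := Subgroup.mem_sup_left (Subgroup.mem_zpowers z)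
  have hxV : x ∈ V := Subgroup.mem_sup_right (Subgroup.mem_zpowers x)
  have hcen : ∀ c : G, c ∈ Subgroup.centralizer (V : Set G) ↔ c * z * c⁻¹ = z ∧ c * x * c⁻¹ = x := by
    intro c
    refine ⟨fun h => ⟨mul_inv_eq_iff_eq_mul.2 (Subgroup.mem_centralizer_iff.1 h z hzV).symm,
      mul_inv_eq_iff_eq_mul.2 (Subgroup.mem_centralizer_iff.1 h x hxV).symm⟩, fun h => ?_⟩
    have h1 : V ≤ Subgroup.centralizer {c} := by
      refine sup_le (Subgroup.zpowers_le.2 ?_) (Subgroup.zpowers_le.2 ?_) <;>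
        rw [Subgroup.mem_centralizer_singleton_iff]
      exacts [(mul_inv_eq_iff_eq_mul.1 h.1).symm, (mul_inv_eq_iff_eq_mul.1 h.2).symm]
    exact Subgroup.mem_centralizer_iff.2 fun w hw => Subgroup.mem_centralizer_singleton_iff.1 (h1 hw)
  have hV4 : ∀ w ∈ V, w = 1 ∨ w = z ∨ w = x ∨ w = z * x := by
    intro w hw
    have hz2 : z⁻¹ = z := hX.inv_z
    have hx2 : x⁻¹ = x := hR.inv_z
    rw [hVdef, Subgroup.zpowers_eq_closure, Subgroup.zpowers_eq_closure,
      ← Subgroup.closure_union] at hw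
    induction hw using Subgroup.closure_induction with
    | mem w hw =>
      rcases hw with h | h
      · exact Or.inr (Or.inl (Set.mem_singleton_iff.1 h))
      · exact Or.inr (Or.inr (Or.inl (Set.mem_singleton_iff.1 h)))
    | one => exact Or.inl rfl
    | mul u v _ _ hu hv =>
      have e1 : z * (z * x) = x := by rw [← mul_assoc, hX.sq_z, one_mul]
      have e2 : x * (z * x) = z := by rw [← mul_assoc, hzx, mul_assoc, hR.sq_z, mul_one]
      have e3 : z * x * z = x := by rw [mul_assoc, hzx, e1]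
      have e4 : z * x * x = z := by rw [mul_assoc, hR.sq_z, mul_one]
      have e5 : z * x * (z * x) = 1 := by rw [← mul_assoc, e3, hR.sq_z]
      rcases hu with hu | hu | hu | hu <;> rcases hv with hv | hv | hv | hv <;> rw [hu, hv] <;>
        first
          | (rw [one_mul]; first | exact Or.inl rfl | exact Or.inr (Or.inl rfl) | exact Or.inr (Or.inr (Or.inl rfl)) | exact Or.inr (Or.inr (Or.inr rfl)))
          | (rw [mul_one]; first | exact Or.inr (Or.inl rfl) | exact Or.inr (Or.inr (Or.inl rfl)) | exact Or.inr (Or.inr (Or.inr rfl)))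
          | exact Or.inl hX.sq_z
          | exact Or.inl hR.sq_z
          | exact Or.inr (Or.inr (Or.inr hzx))
          | exact Or.inr (Or.inr (Or.inr rfl))
          | exact Or.inr (Or.inr (Or.inl e1))
          | exact Or.inr (Or.inl e2)
          | exact Or.inr (Or.inr (Or.inl e3))
          | exact Or.inr (Or.inl e4)
          | exact Or.inl e5
    | inv u _ hu =>
      rcases hu with hu | hu | hu | hu <;> rw [hu]
      · exact Or.inl inv_one
      · exact Or.inr (Or.inl hz2)
      · exact Or.inr (Or.inr (Or.inl hx2))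
      · exact Or.inr (Or.inr (Or.inr (by rw [_root_.mul_inv_rev, hz2, hx2, hzx])))
  have hnorm : ∀ c : G, c * z * c⁻¹ ∈ V → c * x * c⁻¹ ∈ V → c ∈ Subgroup.normalizer (V : Set G) := by
    intro c h1 h2
    refine Subgroup.mem_normalizer_fintype fun w hw => ?_
    rcases hV4 w hw with rfl | rfl | rfl | rfl
    · simp
    · exact h1
    · exact h2
    · rw [show c * (z * x) * c⁻¹ = c * z * c⁻¹ * (c * x * c⁻¹) by group]; exact mul_mem h1 h2
  have hzxV : z * x ∈ V := mul_mem hzV hxV
  have hyN : y ∈ Subgroup.normalizer (V : Set G) := hnorm y (by rw [hyz]; exact hzV) (by rw [hyx]; exact hzxV)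
  have hrN : r ∈ Subgroup.normalizer (V : Set G) :=
    hnorm r (by rw [hrz, hzx]; exact hzxV) (by rw [hrx]; exact hxV)
  let N := Subgroup.normalizer (V : Set G)
  let C := (Subgroup.centralizer (V : Set G)).subgroupOf N
  let ψ : N → G × G := fun c => ((c : G) * z * (c : G)⁻¹, (c : G) * x * (c : G)⁻¹)
  have hψ : ∀ a b : N, ψ a = ψ b ↔ a⁻¹ * b ∈ C := fun a b => by
    rw [Subgroup.mem_subgroupOf, hcen, Prod.ext_iff]
    simp only [ψ, Subgroup.coe_mul, InvMemClass.coe_inv]
    refine and_congr ⟨fun h => ?_, fun h => ?_⟩ ⟨fun h => ?_, fun h => ?_⟩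
    · calc (a : G)⁻¹ * b * z * ((a : G)⁻¹ * b)⁻¹ = (a : G)⁻¹ * ((b : G) * z * (b : G)⁻¹) * a := by group
        _ = z := by rw [← h]; group
    · calc (a : G) * z * (a : G)⁻¹ = (a : G) * ((a : G)⁻¹ * b * z * ((a : G)⁻¹ * b)⁻¹) * (a : G)⁻¹ := by rw [h]
        _ = _ := by group
    · calc (a : G)⁻¹ * b * x * ((a : G)⁻¹ * b)⁻¹ = (a : G)⁻¹ * ((b : G) * x * (b : G)⁻¹) * a := by group
        _ = x := by rw [← h]; group
    · calc (a : G) * x * (a : G)⁻¹ = (a : G) * ((a : G)⁻¹ * b * x * ((a : G)⁻¹ * b)⁻¹) * (a : G)⁻¹ := by rw [h]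
        _ = _ := by group
  let f : N ⧸ C → G × G := Quotient.lift ψ fun a b h => (hψ a b).2 (QuotientGroup.leftRel_apply.1 h)
  have hf : Function.Injective f := by
    intro u v
    induction u using QuotientGroup.induction_on with | _ a => ?_
    induction v using QuotientGroup.induction_on with | _ b => ?_
    intro h
    exact QuotientGroup.eq.2 ((hψ a b).1 h)
  let T : Finset (G × G) := {(z, x), (z, z * x), (z * x, x), (x, z * x), (z * x, z), (x, z)}
  have hne : z ≠ z * x ∧ x ≠ z * x := ⟨fun h => hx1 (mul_eq_left.1 h.symm), fun h => hX.ne_one (mul_eq_right.1 h.symm)⟩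
  have hrange : Set.range f = T := by
    have hat : ∀ c : N, ψ c ∈ T := by
      intro c
      have hm : ∀ w, w ∈ V → w ≠ 1 → (c : G) * w * (c : G)⁻¹ = z ∨ (c : G) * w * (c : G)⁻¹ = x ∨
          (c : G) * w * (c : G)⁻¹ = z * x := fun w hw hw1 =>
        (hV4 _ ((Subgroup.mem_normalizer_iff.1 c.2 w).1 hw)).resolve_left fun h => hw1 (conj_eq_one_iff.1 h)
      have hd : (c : G) * z * (c : G)⁻¹ ≠ (c : G) * x * (c : G)⁻¹ := fun h => hxz (by simpa using h.symm)
      show ((c : G) * z * (c : G)⁻¹, (c : G) * x * (c : G)⁻¹) ∈ T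
      rcases hm z hzV hX.ne_one with h | h | h <;> rcases hm x hxV hx1 with h' | h' | h' <;> rw [h, h'] at hd ⊢ <;>
        first | exact absurd rfl hd | simp [T]
    refine Set.Subset.antisymm (Set.range_subset_iff.2 fun u => ?_) fun p hp => ?_
    · induction u using QuotientGroup.induction_on with | _ a => exact hat a
    have hmk : ∀ (c : G) (hc : c ∈ N) (p : G × G), (c * z * c⁻¹, c * x * c⁻¹) = p → p ∈ Set.range f :=
      fun c hc p h => ⟨(⟨c, hc⟩ : N), h⟩
    simp only [T, Finset.coe_insert, Finset.coe_singleton, Set.mem_insert_iff, Set.mem_singleton_iff] at hp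
    have cy : ∀ (s w : G), y * s * w * (y * s)⁻¹ = y * (s * w * s⁻¹) * y⁻¹ := fun s w => by group
    have cr : ∀ (s w : G), r * s * w * (r * s)⁻¹ = r * (s * w * s⁻¹) * r⁻¹ := fun s w => by group
    have hyzx : y * (z * x) * y⁻¹ = x := by
      rw [show y * (z * x) * y⁻¹ = y * z * y⁻¹ * (y * x * y⁻¹) by group, hyz, hyx, ← mul_assoc, hX.sq_z, one_mul]
    have hrzx : r * (z * x) * r⁻¹ = z := by
      rw [show r * (z * x) * r⁻¹ = r * z * r⁻¹ * (r * x * r⁻¹) by group, hrz, hrx, mul_assoc, ← hzx, ← mul_assoc,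
        hR.sq_z, one_mul]
    have hrz' : r * z * r⁻¹ = z * x := hrz.trans hzx
    rcases hp with rfl | rfl | rfl | rfl | rfl | rfl
    · exact hmk 1 (one_mem N) _ (by simp)
    · exact hmk y hyN _ (by rw [hyz, hyx])
    · exact hmk r hrN _ (by rw [hrz', hrx])
    · exact hmk (y * r) (mul_mem hyN hrN) _ (by rw [cy, cy, hrz', hrx, hyzx, hyx])
    · exact hmk (r * y) (mul_mem hrN hyN) _ (by rw [cr, cr, hyz, hyx, hrz', hrzx])
    · exact hmk (y * (r * y)) (mul_mem hyN (mul_mem hrN hyN)) _ (by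
        rw [cy, cy, cr, cr, hyz, hyx, hrz', hrzx, hyzx, hyz])
  show C.index = 6
  rw [Subgroup.index, Nat.card_congr (Equiv.ofInjective f hf), Nat.card_coe_set_eq, hrange, Set.ncard_coe_finset]
  simp [T, hxz, Ne.symm hxz, hne.1, hne.2, hne.1.symm, hne.2.symm]

end Cfsg.Agent.S5422
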