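import Cfsg.Statements.S5425
import Cfsg.Agent.Lib.H3.OctadInvolution
import Cfsg.Agent.Lib.Concrete.ClassFacts
import Cfsg.Agent.Lib.Extra.Structure
import Cfsg.Agent.S3035

set_option linter.style.haveILetI false

set_option autoImplicit false
open Cfsg

namespace Cfsg.Agent.S5425

open Cfsg.Lib.H3.OctadInvolution Cfsg.Agent.S0445

abbrev SL5 := Matrix.SpecialLinearGroup (Fin 5) (ZMod 2)
abbrev SL3 := Matrix.SpecialLinearGroup (Fin 3) (ZMod 2)
abbrev V3 := Fin 3 → ZMod 2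
abbrev Co := ZMod 2 × V3 × V3 × SL3

def tv : SL5 := ⟨Matrix.transvection 0 1 1, Matrix.det_transvection_of_ne 0 1 (by decide) 1⟩

abbrev Ct : Subgroup SL5 := Subgroup.centralizer ({tv} : Set SL5)

def toC (q : Co) : Ct :=
  ⟨⟨mkC q.1 q.2.1 q.2.2.1 q.2.2.2.1, by rw [det_mkC]; exact q.2.2.2.2⟩,
    Subgroup.mem_centralizer_singleton_iff.2 (Subtype.ext (comm_mkC _ _ _ _).symm)⟩

def coordsM (M : M5) : ZMod 2 × V3 × V3 × M3 :=
  (M 0 1, ![M 0 2, M 0 3, M 0 4], ![M 2 1, M 3 1, M 4 1],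
    !![M 2 2, M 2 3, M 2 4; M 3 2, M 3 3, M 3 4; M 4 2, M 4 3, M 4 4])

theorem coordsM_mkC (a : ZMod 2) (b c : V3) (A : M3) : coordsM (mkC a b c A) = (a, b, c, A) := by
  refine Prod.ext rfl (Prod.ext ?_ (Prod.ext ?_ ?_))
  · funext i; fin_cases i <;> rfl
  · funext i; fin_cases i <;> rfl
  · ext i j; fin_cases i <;> fin_cases j <;> rfl

theorem toC_injective : Function.Injective toC := by
  rintro ⟨a, b, c, A⟩ ⟨a', b', c', A'⟩ h
  have h2 := congrArg (fun x : Ct => coordsM ((x : SL5) : M5)) h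
  simp only [toC, coordsM_mkC, Prod.mk.injEq] at h2
  obtain ⟨rfl, rfl, rfl, h4⟩ := h2
  rw [Subtype.ext h4]

theorem toC_bijective : Function.Bijective toC := by
  refine (Nat.bijective_iff_injective_and_card _).2 ⟨toC_injective, ?_⟩
  rw [Cfsg.Agent.S0445.result tv rfl]
  simp only [Nat.card_prod, Nat.card_fun, Nat.card_zmod, Cfsg.Agent.S3035.slThree.2,
    Nat.card_eq_fintype_card (α := Fin 3), Fintype.card_fin]
  norm_num

set_option maxHeartbeats 2000000 in
theorem mkC_mul (a a' : ZMod 2) (b b' c c' : V3) (A A' : M3) :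
    mkC a b c A * mkC a' b' c' A' =
      mkC (a + a' + dotProduct b c') (b' + Matrix.vecMul b A') (c + A.mulVec c') (A * A') := by
  ext i j
  fin_cases i <;> fin_cases j <;>
    simp [mkC, Matrix.mul_apply, Fin.sum_univ_succ, Matrix.vecMul, Matrix.mulVec, dotProduct] <;> ring

def qmul (q q' : Co) : Co :=
  (q.1 + q'.1 + dotProduct q.2.1 q'.2.2.1, q'.2.1 + Matrix.vecMul q.2.1 q'.2.2.2.1,
    q.2.2.1 + Matrix.mulVec q.2.2.2.1 q'.2.2.1, q.2.2.2 * q'.2.2.2)

theorem toC_mul (q q' : Co) : toC q * toC q' = toC (qmul q q') :=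
  Subtype.ext (Subtype.ext (mkC_mul _ _ _ _ _ _ _ _))

theorem zmod_two (k : ZMod 2) : k = 0 ∨ k = 1 := by revert k; decide

theorem two_zmod (k : ZMod 2) : k + k = 0 := by revert k; decide

theorem shuffle (a a' u v : ZMod 2) : a + a' + u = u + v + (a' + a + v) := by revert a a' u v; decide

theorem two_v3 (b : V3) : b + b = 0 := funext fun _ => two_zmod _

theorem sl3_not_two : ¬ IsPGroup 2 SL3 := by
  haveI : Fact (Nat.Prime 2) := ⟨Nat.prime_two⟩
  intro h
  obtain ⟨n, hn⟩ := IsPGroup.iff_card.1 h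
  rw [Cfsg.Agent.S3035.slThree.2] at hn
  exact absurd (Nat.prime_dvd_prime_iff_eq (by norm_num) Nat.prime_two |>.1
    ((by norm_num : Nat.Prime 7).dvd_of_dvd_pow (hn ▸ (by norm_num : 7 ∣ 168)))) (by norm_num)

theorem core (z : ↥Cfsg.M24) (hz : orderOf z = 2)
    (ψ : Subgroup.centralizer ({z} : Set ↥Cfsg.M24) ≃* Ct) (g : ↥Cfsg.M24) (hgz : g * z * g⁻¹ ≠ z)
    (hg : ∃ N : Subgroup (Subgroup.centralizer ({z} : Set ↥Cfsg.M24)), N.Normal ∧ IsPGroup 2 N ∧
      ∃ x ∈ N, (x : ↥Cfsg.M24) = g * z * g⁻¹) (Q : Subgroup ↥Cfsg.M24)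
    (hQ : Q = (Cfsg.pCore 2 ↥(Subgroup.centralizer ({z} : Set ↥Cfsg.M24))).map (Subgroup.centralizer ({z} : Set ↥Cfsg.M24)).subtype) :
    Cfsg.IsExtraspecial 2 ↥Q ∧ Nat.card ↥Q = 2 ^ 7 ∧ (∃ E : Subgroup ↥Cfsg.M24, E ≤ Q ∧ Cfsg.IsElementaryAbelian 2 E ∧ Nat.card ↥E = 2 ^ 4) ∧ Cfsg.IsLargeExtraspecial Q ∧ ∃ K : Subgroup ↥Cfsg.M24, K ≤ Subgroup.centralizer ({z} : Set ↥Cfsg.M24) ∧ Q ⊓ K = ⊥ ∧ Q ⊔ K = Subgroup.centralizer ({z} : Set ↥Cfsg.M24) ∧ Nonempty (↥K ≃* Matrix.SpecialLinearGroup (Fin 3) (ZMod 2)) := by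
  classical
  set C := Subgroup.centralizer ({z} : Set ↥Cfsg.M24) with hC
  obtain ⟨el, hbij, elmul⟩ : ∃ el : Co → C, Function.Bijective el ∧ ∀ q q', el q * el q' = el (qmul q q') :=
    ⟨fun q => ψ.symm (toC q), ψ.symm.bijective.comp toC_bijective,
      fun q q' => by rw [← map_mul, toC_mul]⟩
  let one0 : Co := (0, 0, 0, 1)
  have el1 : el one0 = 1 := by
    have h := elmul one0 one0
    rw [show qmul one0 one0 = one0 by simp [qmul, one0]] at h
    exact mul_eq_left.1 h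
  have umul : ∀ a a' : ZMod 2, ∀ b b' c c' : V3,
      el (a, b, c, 1) * el (a', b', c', 1) = el (a + a' + dotProduct b c', b' + b, c + c', 1) := by
    intro a a' b b' c c'
    rw [elmul]
    simp [qmul]
  -- the central elements
  have hcent : ∀ x : C, (∀ a b c, x * el (a, b, c, 1) = el (a, b, c, 1) * x) →
      x = el one0 ∨ x = el (1, 0, 0, 1) := by
    intro x hx
    obtain ⟨⟨a, b, c, A⟩, rfl⟩ := hbij.2 x
    have h1 : ∀ b' : V3, qmul (a, b, c, A) (0, b', 0, 1) = qmul (0, b', 0, 1) (a, b, c, A) :=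
      fun b' => hbij.1 (by rw [← elmul, ← elmul]; exact hx _ _ _)
    have h2 : ∀ c' : V3, qmul (a, b, c, A) (0, 0, c', 1) = qmul (0, 0, c', 1) (a, b, c, A) :=
      fun c' => hbij.1 (by rw [← elmul, ← elmul]; exact hx _ _ _)
    have hc : c = 0 := funext fun i => by
      have h := congrArg Prod.fst (h1 (Pi.single i 1))
      simpa [qmul] using h.symm
    have hb : b = 0 := funext fun i => by
      have h := congrArg Prod.fst (h2 (Pi.single i 1))
      simpa [qmul] using h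
    have hA : A = 1 := by
      apply Subtype.ext
      ext i j
      have h := congrFun (congrArg (fun q : Co => q.2.1) (h1 (Pi.single i 1))) j
      simp [qmul, hb] at h
      rw [← h]
      simp [Matrix.one_apply, Pi.single_apply, eq_comm]
    subst hb hc hA
    rcases zmod_two a with rfl | rfl
    exacts [Or.inl rfl, Or.inr rfl]
  have hz2 : z * z = 1 := by rw [← pow_two, ← hz, pow_orderOf_eq_one]
  have hz1 : z ≠ 1 := fun h => by rw [h, orderOf_one] at hz; exact absurd hz (by decide)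
  have hzC : z ∈ C := Subgroup.mem_centralizer_singleton_iff.2 rfl
  have hzel : (el (1, 0, 0, 1) : ↥Cfsg.M24) = z := by
    rcases hcent ⟨z, hzC⟩ (fun a b c => Subtype.ext
        (Subgroup.mem_centralizer_singleton_iff.1 (el (a, b, c, 1)).2).symm) with h | h
    · exact absurd (congrArg Subtype.val (h.trans el1)) hz1
    · exact (congrArg Subtype.val h).symm
  -- the projection
  let e := Equiv.ofBijective el hbij
  have co_mul : ∀ x y : C, e.symm (x * y) = qmul (e.symm x) (e.symm y) := by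
    intro x y
    apply e.injective
    rw [e.apply_symm_apply]
    refine Eq.trans ?_ (elmul _ _)
    rw [show el (e.symm x) = x from e.apply_symm_apply x, show el (e.symm y) = y from e.apply_symm_apply y]
  let π : C →* SL3 := MonoidHom.mk' (fun x => (e.symm x).2.2.2) (fun x y => by rw [co_mul]; rfl)
  have hπ : ∀ q : Co, π (el q) = q.2.2.2 := fun q => congrArg (fun q : Co => q.2.2.2) (e.symm_apply_apply q)
  have hker : ∀ x : C, x ∈ π.ker ↔ ∃ a b c, el (a, b, c, 1) = x := by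
    intro x
    obtain ⟨⟨a, b, c, A⟩, rfl⟩ := hbij.2 x
    rw [MonoidHom.mem_ker, hπ]
    refine ⟨fun h => ⟨a, b, c, by rw [show A = 1 from h]⟩, ?_⟩
    rintro ⟨a', b', c', h⟩
    exact (congrArg (fun q : Co => q.2.2.2) (hbij.1 h)).symm
  have hsq : ∀ a b c, el (a, b, c, 1) * el (a, b, c, 1) = el (dotProduct b c, 0, 0, 1) := by
    intro a b c
    rw [umul, two_zmod, zero_add, two_v3, two_v3]
  have hk2 : IsPGroup 2 π.ker := by
    intro x
    refine ⟨2, Subtype.ext ?_⟩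
    obtain ⟨a, b, c, h⟩ := (hker _).1 x.2
    show (x : C) ^ (2 ^ 2) = 1
    rw [show ((2 : ℕ) ^ 2) = 2 * 2 from rfl, pow_mul, pow_two, pow_two, ← h, hsq, hsq, ← el1]
    simp [one0]
  have hπs : Function.Surjective π := fun A => ⟨el (0, 0, 0, A), hπ _⟩
  have hle : ∀ M : Subgroup C, M.Normal → IsPGroup 2 M → M ≤ π.ker := by
    intro M hM h2
    haveI := Cfsg.Agent.S3035.slThree.1
    rcases (hM.map π hπs).eq_bot_or_eq_top with h | h
    · exact (Subgroup.map_eq_bot_iff _).1 h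
    · have h3 : IsPGroup 2 (M.map π) := h2.map π
      rw [h] at h3
      exact absurd (h3.of_equiv Subgroup.topEquiv) sl3_not_two
  have hcore : Cfsg.pCore 2 C = π.ker :=
    le_antisymm (sSup_le fun M hM => hle M hM.1 hM.2) (le_sSup ⟨π.normal_ker, hk2⟩)
  rw [hcore] at hQ
  have hmem : ∀ x : ↥Cfsg.M24, x ∈ Q ↔ ∃ a b c, (el (a, b, c, 1) : ↥Cfsg.M24) = x := by
    intro x
    rw [hQ]
    constructor
    · rintro ⟨y, hy, rfl⟩
      obtain ⟨a, b, c, h⟩ := (hker y).1 hy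
      exact ⟨a, b, c, congrArg Subtype.val h⟩
    · rintro ⟨a, b, c, rfl⟩
      exact ⟨_, (hker _).2 ⟨a, b, c, rfl⟩, rfl⟩
  have hk : ∀ k : ZMod 2, (el (k, 0, 0, 1) : ↥Cfsg.M24) = 1 ∨ (el (k, 0, 0, 1) : ↥Cfsg.M24) = z := fun k => by
    rcases zmod_two k with rfl | rfl
    · exact Or.inl (congrArg Subtype.val el1)
    · exact Or.inr hzel
  have hX : Cfsg.Lib.Extra.Ctx Q z := by
    refine ⟨(hmem z).2 ⟨1, 0, 0, hzel⟩, hz1, hz2, ?_, ?_, ?_, ?_, ?_, ?_⟩
    · intro x hx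
      obtain ⟨a, b, c, rfl⟩ := (hmem x).1 hx
      exact (Subgroup.mem_centralizer_singleton_iff.1 (el (a, b, c, 1)).2).symm
    · intro x hx y hy
      obtain ⟨a, b, c, rfl⟩ := (hmem x).1 hx
      obtain ⟨a', b', c', rfl⟩ := (hmem y).1 hy
      have h : el (a, b, c, 1) * el (a', b', c', 1) =
          el (dotProduct b c' + dotProduct b' c, 0, 0, 1) * (el (a', b', c', 1) * el (a, b, c, 1)) := by
        rw [umul, umul, umul]
        congr 1
        simp only [zero_dotProduct, zero_add, add_zero]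
        rw [add_comm b' b, add_comm c' c,
          shuffle a a' (dotProduct b c') (dotProduct b' c)]
      have h' := congrArg Subtype.val h
      simp only [Subgroup.coe_mul] at h'
      refine (hk (dotProduct b c' + dotProduct b' c)).imp (fun hh => ?_) fun hh => ?_ <;>
        · rw [h', hh]; group
    · intro x hx
      obtain ⟨a, b, c, rfl⟩ := (hmem x).1 hx
      rw [← Subgroup.coe_mul, hsq]
      exact hk _
    · intro x hx
      have hxC : x ∈ C := Subgroup.mem_centralizer_singleton_iff.2 (hx z ((hmem z).2 ⟨1, 0, 0, hzel⟩)).eq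
      rcases hcent ⟨x, hxC⟩ (fun a b c => Subtype.ext (hx _ ((hmem _).2 ⟨a, b, c, rfl⟩)).eq) with h | h
      · exact Or.inl (congrArg Subtype.val (h.trans el1))
      · exact Or.inr ((congrArg Subtype.val h).trans hzel)
    · intro x hx
      rw [hQ]
      have hxC : x ∈ C := Subgroup.mem_centralizer_singleton_iff.2 hx.eq
      refine Subgroup.mem_normalizer_fintype fun q hq => ?_
      obtain ⟨q', hq', rfl⟩ := hq
      exact ⟨(⟨x, hxC⟩ : C) * q' * (⟨x, hxC⟩ : C)⁻¹, π.normal_ker.conj_mem _ hq' _, rfl⟩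
    · rw [hQ]; exact hk2.map _
  have hgQ : g * z * g⁻¹ ∈ Q := by
    obtain ⟨N, hNn, hN2, x, hx, hxg⟩ := hg
    rw [hQ, ← hxg]
    exact ⟨x, hle N hNn hN2 hx, rfl⟩
  have hna : ∃ a ∈ Q, ∃ b ∈ Q, ¬ Commute a b := by
    refine ⟨_, (hmem _).2 ⟨0, Pi.single 0 1, 0, rfl⟩, _, (hmem _).2 ⟨0, 0, Pi.single 0 1, rfl⟩, fun h => ?_⟩
    have h2 := hbij.1 ((umul _ _ _ _ _ _).symm.trans ((Subtype.ext h.eq).trans (umul _ _ _ _ _ _)))
    have h3 := congrArg Prod.fst h2
    simp at h3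
  have hL : Cfsg.IsLargeExtraspecial Q := hX.large hna fun K hK hQK => by
    have hR := hX.conj g
    exact hX.odd_eq_bot hgQ hR.sq_z hgz hR.ne_one hR.two (hX.mem_symm hgQ) hR.norm hK hQK
  refine ⟨hL.1, ?_, ?_, hL, ?_⟩
  · let u : ZMod 2 × V3 × V3 → Q := fun v => ⟨el (v.1, v.2.1, v.2.2, 1), (hmem _).2 ⟨_, _, _, rfl⟩⟩
    have hu : Function.Bijective u := by
      constructor
      · rintro ⟨a, b, c⟩ ⟨a', b', c'⟩ h
        have h' := hbij.1 (Subtype.ext (congrArg (fun q : Q => (q : ↥Cfsg.M24)) h))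
        simp only [Prod.mk.injEq, and_true] at h' ⊢
        exact h'
      · rintro ⟨x, hx⟩
        obtain ⟨a, b, c, rfl⟩ := (hmem x).1 hx
        exact ⟨(a, b, c), rfl⟩
    rw [← Nat.card_congr (Equiv.ofBijective u hu)]
    simp [Nat.card_prod, Nat.card_fun, Nat.card_zmod]
  · let f : Multiplicative (ZMod 2 × V3) →* ↥Cfsg.M24 :=
      MonoidHom.mk' (fun v => (el (v.toAdd.1, v.toAdd.2, 0, 1) : ↥Cfsg.M24)) (fun v w => by
        rw [← Subgroup.coe_mul, umul]
        simp [add_comm w.toAdd.2])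
    have hf : Function.Injective f := fun v w h => by
      have h' := hbij.1 (Subtype.ext h)
      simp only [Prod.mk.injEq, and_true] at h'
      exact Multiplicative.toAdd.injective (Prod.ext h'.1 h'.2)
    refine ⟨f.range, ?_, ⟨⟨⟨?_⟩⟩, ?_⟩, ?_⟩
    · rintro _ ⟨v, rfl⟩
      exact (hmem _).2 ⟨_, _, _, rfl⟩
    · rintro ⟨_, v, rfl⟩ ⟨_, w, rfl⟩
      apply Subtype.ext
      show f v * f w = f w * f v
      rw [← map_mul, ← map_mul, mul_comm]
    · rintro _ ⟨v, rfl⟩
      rw [← map_pow, pow_two, ← map_one f]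
      congr 1
      exact Multiplicative.toAdd.injective (Prod.ext (two_zmod _) (two_v3 _))
    · rw [← Nat.card_congr (MonoidHom.ofInjective hf).toEquiv]
      simp [Nat.card_prod, Nat.card_fun, Nat.card_zmod]
  · let σ : SL3 →* C := MonoidHom.mk' (fun A => el (0, 0, 0, A)) (fun A B => by
      rw [elmul]; simp [qmul])
    have hσ : Function.Injective (C.subtype.comp σ) := fun A B h =>
      congrArg (fun q : Co => q.2.2.2) (hbij.1 (Subtype.ext h : σ A = σ B))
    refine ⟨(C.subtype.comp σ).range, ?_, ?_, ?_, ⟨(MonoidHom.ofInjective hσ).symm⟩⟩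
    · rintro _ ⟨A, rfl⟩
      exact (σ A).2
    · rw [eq_bot_iff]
      rintro x ⟨hx, A, rfl⟩
      rw [hQ] at hx
      obtain ⟨y, hy, hyA⟩ := hx
      obtain rfl : y = σ A := Subtype.ext hyA
      have hA : A = 1 := (hπ (0, 0, 0, A)).symm.trans hy
      rw [hA, map_one]
      exact Subgroup.one_mem _
    · refine le_antisymm (sup_le ?_ ?_) ?_
      · rw [hQ]; exact Subgroup.map_subtype_le _
      · rintro _ ⟨A, rfl⟩
        exact (σ A).2
      · intro x hx
        have hy : (⟨x, hx⟩ : C) * (σ (π ⟨x, hx⟩))⁻¹ ∈ π.ker := by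
          rw [MonoidHom.mem_ker, map_mul, map_inv, mul_inv_eq_one]
          exact (hπ (0, 0, 0, π ⟨x, hx⟩)).symm
        have h := Subgroup.mul_mem_sup (show _ ∈ Q from hQ ▸ Subgroup.mem_map_of_mem C.subtype hy)
          (MonoidHom.mem_range.2 ⟨π ⟨x, hx⟩, rfl⟩ : _ ∈ (C.subtype.comp σ).range)
        simpa using h

/-- Conjugation carries centralisers. -/
theorem centralizer_iso {G : Type*} [Group G] (k a b : G) (h : k * a * k⁻¹ = b) :
    ∃ e : Subgroup.centralizer ({a} : Set G) ≃* Subgroup.centralizer ({b} : Set G),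
      ∀ x, (e x : G) = k * x.1 * k⁻¹ := by
  have he : (Subgroup.centralizer ({a} : Set G)).map (MulAut.conj k).toMonoidHom =
      Subgroup.centralizer ({b} : Set G) := by
    ext x
    simp only [Subgroup.mem_map, Subgroup.mem_centralizer_singleton_iff, MulEquiv.coe_toMonoidHom,
      MulAut.conj_apply]
    constructor
    · rintro ⟨y, hy, rfl⟩
      rw [← h]
      calc k * y * k⁻¹ * (k * a * k⁻¹) = k * (y * a) * k⁻¹ := by group
        _ = k * (a * y) * k⁻¹ := by rw [hy]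
        _ = k * a * k⁻¹ * (k * y * k⁻¹) := by group
    · intro hx
      refine ⟨k⁻¹ * x * k, ?_, by group⟩
      calc k⁻¹ * x * k * a = k⁻¹ * (x * b) * k := by rw [← h]; group
        _ = k⁻¹ * (b * x) * k := by rw [hx]
        _ = a * (k⁻¹ * x * k) := by rw [← h]; group
  exact ⟨((Subgroup.centralizer ({a} : Set G)).equivMapOfInjective _
    (MulAut.conj k).injective).trans (MulEquiv.subgroupCongr he), fun x => rfl⟩

/-- In the Mathieu group of degree 24 (the automorphism group of the length-24 binary Golay code, acting on the 24 coordinates), let z be an involution whose fixed points form an octad (the support of a code word of weight 8), and let Q be the largest normal 2-subgroup of the centralizer C of z. Then Q is extraspecial of order 2^7 with an elementary abelian subgroup of order 16 (plus type), Q is a large extraspecial 2-subgroup, and C is the split extension of Q by the special linear group of degree 3 over the field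 with two elements. -/
theorem result (z : ↥Cfsg.M24) (hz : orderOf z = 2) (hfix : (Finset.univ.filter fun p : Cfsg.GolayPt => (z : Equiv.Perm Cfsg.GolayPt) p = p) ∈ Cfsg.octads) (Q : Subgroup ↥Cfsg.M24) (hQ : Q = (Cfsg.pCore 2 ↥(Subgroup.centralizer ({z} : Set ↥Cfsg.M24))).map (Subgroup.centralizer ({z} : Set ↥Cfsg.M24)).subtype) : Cfsg.IsExtraspecial 2 ↥Q ∧ Nat.card ↥Q = 2 ^ 7 ∧ (∃ E : Subgroup ↥Cfsg.M24, E ≤ Q ∧ Cfsg.IsElementaryAbelian 2 E ∧ Nat.card ↥E = 2 ^ 4) ∧ Cfsg.IsLargeExtraspecial Q ∧ ∃ K : Subgroup ↥Cfsg.M24, K ≤ Subgroup.centralizer ({z} : Set ↥Cfsg.M24) ∧ Q ⊓ K = ⊥ ∧ Q ⊔ K = Subgroup.centralizer ({z} : Set ↥Cfsg.M24) ∧ Nonempty (↥K ≃* Matrix.SpecialLinearGroup (Fin 3) (ZMod 2)) := by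
  classical
  have hfp : ∀ w : ↥Cfsg.M24, orderOf w = 2 → (∃ p, (w : Equiv.Perm Cfsg.GolayPt) p = p) →
      ∃ k, k * zInv * k⁻¹ = w := by
    intro w hw ⟨p, hp⟩
    have hw' : orderOf (w : Equiv.Perm Cfsg.GolayPt) = 2 := by rw [Subgroup.orderOf_coe]; exact hw
    have hz' : orderOf (zInv : Equiv.Perm Cfsg.GolayPt) = 2 := by rw [Subgroup.orderOf_coe]; exact orderOf_zInv
    have hiff : (∀ q, (zInv : Equiv.Perm Cfsg.GolayPt) q ≠ q) ↔ ∀ q, (w : Equiv.Perm Cfsg.GolayPt) q ≠ q := by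
      refine iff_of_false (fun h => ?_) (fun h => h p hp)
      obtain ⟨x, hx⟩ := Finset.card_pos.1 (show 0 < Cfsg.Lib.Concrete.baseOctad.card by
        rw [Cfsg.Lib.Concrete.baseOctad_mem.2]; norm_num)
      rw [← zInv_fixed, Finset.mem_filter] at hx
      exact h x hx.2
    obtain ⟨k, hk, hkz⟩ := Cfsg.Lib.Concrete.involution_classes.2.2.2 _ zInv.2 _ w.2 hz' hw' hiff
    exact ⟨⟨k, hk⟩, Subtype.ext hkz⟩
  obtain ⟨k, hk⟩ := hfp z hz (by
    obtain ⟨x, hx⟩ := Finset.card_pos.1 (show 0 < (Finset.univ.filter fun p : Cfsg.GolayPt =>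
      (z : Equiv.Perm Cfsg.GolayPt) p = p).card by rw [hfix.2]; norm_num)
    exact ⟨x, (Finset.mem_filter.1 hx).2⟩)
  obtain ⟨e, he⟩ := centralizer_iso k zInv z hk
  -- the translations
  let T : Subgroup cz := (Cfsg.Lib.Concrete.fixSet Cfsg.Lib.Concrete.baseOctad).comap
    ((Cfsg.M24).subtype.comp cz.subtype)
  have hT : ∀ x : cz, x ∈ T ↔ (x.1.1 ∈ Cfsg.Lib.Concrete.fixSet Cfsg.Lib.Concrete.baseOctad) := fun x => Iff.rfl
  have hTn : T.Normal := ⟨fun x hx y => by
    obtain ⟨v, hv⟩ := exists_tr_eq ((hT x).1 hx)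
    rw [hT]
    show y.1.1 * x.1.1 * y.1.1⁻¹ ∈ _
    rw [← hv]
    exact conj_fixSet y.1.2 (cz_octad y.2) v⟩
  have hT2 : IsPGroup 2 T := fun x => ⟨1, by
    obtain ⟨v, hv⟩ := exists_tr_eq ((hT x.1).1 x.2)
    apply Subtype.ext; apply Subtype.ext; apply Subtype.ext
    show x.1.1.1 ^ (2 ^ 1) = 1
    rw [← hv, pow_one, pow_two, ← tr_add, add_self_v, tr_zero]⟩
  let v : V4 := ![0, 1, 0, 0]
  let w : ↥Cfsg.M24 := ⟨tr v, (Cfsg.Lib.Concrete.mem_fixSet.1 (tr_mem v)).1⟩
  have hwC : w ∈ cz := Subgroup.mem_centralizer_singleton_iff.2 (Subtype.ext (by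
    show tr v * tr e0 = tr e0 * tr v
    rw [← tr_add, ← tr_add, add_comm]))
  have hw2 : orderOf w = 2 := by
    refine orderOf_eq_prime (Subtype.ext ?_) (fun h => ?_)
    · show tr v ^ 2 = 1
      rw [pow_two, ← tr_add, add_self_v, tr_zero]
    · exact absurd (tr_injective ((congrArg Subtype.val h).trans tr_zero.symm)) (by decide)
  obtain ⟨g, hg⟩ := hfp w hw2 (by
    obtain ⟨x, hx⟩ := Finset.card_pos.1 (show 0 < Cfsg.Lib.Concrete.baseOctad.card by
      rw [Cfsg.Lib.Concrete.baseOctad_mem.2]; norm_num)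
    exact ⟨x, (Cfsg.Lib.Concrete.mem_fixSet.1 (tr_mem v)).2 x hx⟩)
  refine core z hz (e.symm.trans (cz_equiv tv rfl).some) (k * g * k⁻¹) ?_
    ⟨T.map e.toMonoidHom, hTn.map _ e.surjective, hT2.map _, e ⟨w, hwC⟩,
      Subgroup.mem_map_of_mem _ ((hT ⟨w, hwC⟩).2 (tr_mem v)), ?_⟩ Q hQ
  rotate_left
  · rw [he, ← hk]
    show k * w * k⁻¹ = _
    rw [← hg]
    group
  · intro h
    rw [← hk] at h
    have h' : g * zInv * g⁻¹ = zInv := by
      calc g * zInv * g⁻¹ = k⁻¹ * (k * g * k⁻¹ * (k * zInv * k⁻¹) * (k * g * k⁻¹)⁻¹) * k := by group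
        _ = zInv := by rw [h]; group
    exact absurd (tr_injective (show tr v = tr e0 from congrArg Subtype.val (hg.symm.trans h'))) (by decide)

end Cfsg.Agent.S5425
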