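import Cfsg.Statements.S5426
import Cfsg.Agent.Lib.Extra.Structure

set_option autoImplicit false
open Cfsg

namespace Cfsg.Agent.S5426

/-- Let Q be a large extraspecial 2-subgroup of the finite group G (extraspecial; centralizer equal to its centre; normal in the centralizer of its centre; normalizing no non-trivial subgroup of odd order) with centre generated by z, and let M be the normal closure of z in G. Then one of the following holds: Q is normal in G; or M is abelian and the generalized Fitting subgroup of G is its largest normal 2-subgroup; or M is the generalized Fitting subgroup of G and is a non-abelian simple group; or M is the generalized Fitting subgroup of G and is the direct product of a non-abelian simple subgroup L and its conjugate u L u⁻¹ by some u in Q (the two meet trivially and commute elementwise), with z = z₁ (u z₁ u⁻¹) for some z₁ in L whose centralizer in L is a Sylow 2-subgroup of L with Frattini subgroup inside the subgroup generated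 by z₁, and Q is not the largest normal 2-subgroup of the centralizer of z. -/
theorem result {G : Type*} [Group G] [Finite G] (Q : Subgroup G) (hQ : Cfsg.IsLargeExtraspecial Q) (z : G) (hz : ((Subgroup.center ↥Q).map Q.subtype) = Subgroup.zpowers z) (M : Subgroup G) (hM : M = Subgroup.normalClosure ({z} : Set G)) : Q.Normal ∨ (IsMulCommutative ↥M ∧ Cfsg.generalizedFittingSubgroup G = Cfsg.pCore 2 G) ∨ (M = Cfsg.generalizedFittingSubgroup G ∧ IsSimpleGroup ↥M ∧ ¬ IsMulCommutative ↥M) ∨ (M = Cfsg.generalizedFittingSubgroup G ∧ ∃ (L : Subgroup G) (u : G), u ∈ Q ∧ IsSimpleGroup ↥L ∧ ¬ IsMulCommutative ↥L ∧ L ⊓ (L).map (MulAut.conj u).toMonoidHom = ⊥ ∧ (∀ x ∈ L, ∀ y ∈ (L).map (MulAut.conj u).toMonoidHom, x * y = y * x) ∧ L ⊔ (L).map (MulAut.conj u).toMonoidHom = M ∧ ∃ z₁ ∈ L, z = z₁ * (u * z₁ * u⁻¹) ∧ (∃ R : Sylow 2 ↥L, (R : Subgroup ↥L) = (Subgroup.centralizer ({z₁} : Set G)).subgroupOf L ∧ (frattini ↥(R : Subgroup ↥L)).map ((L.subtype).comp (R : Subgroup ↥L).subtype)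 ≤ Subgroup.zpowers z₁) ∧ Q ≠ (Cfsg.pCore 2 ↥(Subgroup.centralizer ({z} : Set G))).map (Subgroup.centralizer ({z} : Set G)).subtype) := by
  classical
  haveI : Fact (Nat.Prime 2) := ⟨Nat.prime_two⟩
  obtain ⟨hE, hC, hN, hodd⟩ := hQ
  have hX := Cfsg.Lib.Extra.ctx_of hE hC.le hN hz
  have hzM : z ∈ M := hM ▸ Subgroup.subset_normalClosure rfl
  haveI hMn : M.Normal := hM ▸ Subgroup.normalClosure_normal
  have hMle : ∀ K : Subgroup G, K.Normal → z ∈ K → M ≤ K := fun K hK h =>
    hM ▸ Subgroup.normalClosure_le_normal (by simpa using h)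
  have hinN : ∀ K : Subgroup G, K.Normal → K ≠ ⊥ → z ∈ K := fun K hK h =>
    haveI := hK; hX.mem_of_normalized hodd Subgroup.le_normalizer_of_normal h
  have hfit : Cfsg.fittingSubgroup G = Cfsg.pCore 2 G := by
    refine le_antisymm ?_ (Cfsg.Lib.Core.pCore_le_fittingSubgroup 2 G)
    rw [Cfsg.Lib.Core.fittingSubgroup_eq_iSup_pCore]
    refine iSup_le fun q => ?_
    rcases eq_or_ne (q : ℕ) 2 with hq | hq
    · rw [hq]
    · haveI : Fact (q : ℕ).Prime := ⟨q.2⟩
      have hno : (Cfsg.pCore (q : ℕ) G).Normal := by infer_instance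
      refine le_of_eq_of_le (hodd _ ?_ Subgroup.le_normalizer_of_normal) bot_le
      obtain ⟨k, hk⟩ := IsPGroup.iff_card.1 (Cfsg.Lib.Core.pCore_isPGroup (q : ℕ) G)
      rw [hk]
      exact (q.2.odd_of_ne_two hq).pow
  by_cases hP : Cfsg.pCore 2 G ≠ ⊥
  · right; left
    haveI hPn : (Cfsg.pCore 2 G).Normal := by infer_instance
    have hP2 := Cfsg.Lib.Core.pCore_isPGroup 2 G
    have hzP : z ∈ Cfsg.pCore 2 G := hinN _ hPn hP
    haveI : Nontrivial ↥(Cfsg.pCore 2 G) := (Subgroup.nontrivial_iff_ne_bot _).2 hP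
    have hZne : (Subgroup.center ↥(Cfsg.pCore 2 G)).map (Cfsg.pCore 2 G).subtype ≠ ⊥ := by
      haveI := hP2.center_nontrivial
      rw [ne_eq, Subgroup.map_eq_bot_iff_of_injective _ (Cfsg.pCore 2 G).subtype_injective]
      exact (Subgroup.nontrivial_iff_ne_bot _).1 inferInstance
    have hZn : ((Subgroup.center ↥(Cfsg.pCore 2 G)).map (Cfsg.pCore 2 G).subtype).Normal := by
      infer_instance
    have hMZ := hMle _ hZn (hinN _ hZn hZne)
    refine ⟨⟨⟨fun a b => ?_⟩⟩, ?_⟩
    · obtain ⟨a', ha', hae⟩ := hMZ a.2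
      obtain ⟨b', -, hbe⟩ := hMZ b.2
      apply Subtype.ext
      show (a : G) * b = b * a
      rw [← hae, ← hbe]
      exact congrArg Subtype.val (Subgroup.mem_center_iff.1 ha' b').symm
    · have hlayer : Cfsg.layer G = ⊥ := Cfsg.Lib.Core.layer_eq_bot_iff.2 fun K hK => by
        haveI := hP2.isNilpotent
        have hKP := Subgroup.commutator_eq_bot_iff_le_centralizer.1
          (Cfsg.Lib.Core.component_commute_solvable hK (H := Cfsg.pCore 2 G) inferInstance
            Subgroup.le_normalizer_of_normal)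
        have hKN : K ≤ Subgroup.normalizer (Q : Set G) := fun k hk => hX.norm k
          (Subgroup.mem_centralizer_iff.1 (hKP hk) z hzP).symm
        haveI := hX.two.isNilpotent
        have hKQ := Subgroup.commutator_eq_bot_iff_le_centralizer.1
          (Cfsg.Lib.Core.component_commute_solvable hK (H := Q) inferInstance hKN)
        have hK2 : K ≤ Q := fun k hk => by
          rcases hX.cent k fun a ha => (Subgroup.mem_centralizer_iff.1 (hKQ hk) a ha).symm with h | h
          exacts [h ▸ one_mem Q, h ▸ hX.mem]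
        exact Cfsg.Lib.Core.component_not_le_solvable hK (H := Q) inferInstance hK2
      rw [Cfsg.Lib.Core.generalizedFitting_eq_fitting_of_layer_eq_bot hlayer, hfit]
  push Not at hP
  rw [hP] at hfit
  right; right
  have hFL : Cfsg.generalizedFittingSubgroup G = Cfsg.layer G := by
    rw [Cfsg.generalizedFittingSubgroup, hfit, sup_bot_eq]
  haveI : Nontrivial G := ⟨⟨z, 1, hX.ne_one⟩⟩
  have hLne : Cfsg.layer G ≠ ⊥ := fun h => Cfsg.Lib.Core.generalizedFitting_ne_bot (hFL.trans h)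
  have hlayerN : (Cfsg.layer G).Normal := by infer_instance
  have hzF : z ∈ Cfsg.layer G := hinN _ hlayerN hLne
  -- components are simple
  have hctr : ∀ K : Subgroup G, Cfsg.IsComponent K → Subgroup.center K = ⊥ := fun K hK => by
    have h := Cfsg.Lib.Core.center_map_le_fittingSubgroup hK.1
    rw [hfit, le_bot_iff, Subgroup.map_eq_bot_iff_of_injective _ K.subtype_injective] at h
    exact h
  have hsimple : ∀ K : Subgroup G, Cfsg.IsComponent K → IsSimpleGroup K ∧ ¬ IsMulCommutative K :=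
    fun K hK => by
      haveI := hK.2.2
      refine ⟨(((QuotientGroup.quotientMulEquivOfEq (hctr K hK)).trans
        (QuotientGroup.quotientBot (G := K))).symm).isSimpleGroup, fun h => ?_⟩
      exact Cfsg.Lib.Core.quasisimple_not_solvable hK.2
        (haveI := h; Cfsg.Lib.Core.isSolvable_of_isMulCommutative K)
  have hcomm : ∀ {K K' : Subgroup G}, Cfsg.IsComponent K → Cfsg.IsComponent K' → K ≠ K' →
      ∀ a ∈ K, ∀ b ∈ K', Commute a b := fun hK hK' hne a ha b hb =>
    (Subgroup.mem_centralizer_iff.1 (Subgroup.commutator_eq_bot_iff_le_centralizer.1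
      (Cfsg.Lib.Core.component_commute hK hK' hne) ha) b hb).symm
  -- the action of `Q` on the components
  let act : G → Subgroup G → Subgroup G := fun q K => K.map (MulAut.conj q).toMonoidHom
  have hmact : ∀ {q : G} {K : Subgroup G} {k : G}, k ∈ K → q * k * q⁻¹ ∈ act q K :=
    fun hk => ⟨_, hk, rfl⟩
  have hact1 : ∀ K : Subgroup G, act 1 K = K := fun K => by
    ext k; simp [act, Subgroup.mem_map]
  have hactmul : ∀ (p q : G) (K : Subgroup G), act (p * q) K = act p (act q K) := fun p q K => by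
    ext k; simp [act, Subgroup.mem_map, mul_assoc]
  have hactc : ∀ {K : Subgroup G} (q : G), Cfsg.IsComponent K → Cfsg.IsComponent (act q K) :=
    fun q hK => Cfsg.Lib.Core.IsComponent.map_conj hK q
  have hactinj : ∀ (q : G) {K K' : Subgroup G}, act q K = act q K' → K = K' := fun q K K' h => by
    have h1 := congrArg (act q⁻¹) h
    rwa [← hactmul, ← hactmul, inv_mul_cancel, hact1, hact1] at h1
  have hfixF : ∀ {K : Subgroup G}, Cfsg.IsComponent K → ∀ g ∈ Cfsg.layer G, act g K = K := by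
    intro K hK g hg
    have h := (sSup_le fun K' hK' => Cfsg.Lib.Core.component_le_normalizer hK' hK :
      Cfsg.layer G ≤ Subgroup.normalizer (K : Set G)) hg
    ext k
    constructor
    · rintro ⟨k', hk', rfl⟩
      exact (Subgroup.mem_normalizer_iff.1 h k').1 hk'
    · intro hk
      refine ⟨g⁻¹ * k * g, ?_, by simp [mul_assoc]⟩
      simpa using (Subgroup.mem_normalizer_iff.1 (inv_mem h) k).1 hk
  -- `z` cannot centralize every component
  have hnotall : ¬ ∀ K : Subgroup G, Cfsg.IsComponent K → ∀ k ∈ K, Commute z k := by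
    intro hall
    set Z := Subgroup.centralizer (Cfsg.layer G : Set G) with hZ
    have hZn : Z.Normal := by infer_instance
    have hzZ : z ∈ Z := by
      have hle : Cfsg.layer G ≤ Subgroup.centralizer ({z} : Set G) := sSup_le fun K hK k hk =>
        Subgroup.mem_centralizer_singleton_iff.2 (hall K hK k hk).symm
      exact Subgroup.mem_centralizer_iff.2 fun k hk =>
        Subgroup.mem_centralizer_singleton_iff.1 (hle hk)
    have hZF : Z ≤ Cfsg.layer G := by
      have h := Cfsg.Lib.Core.centralizer_generalizedFitting_le (G := G)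
      rwa [hFL] at h
    haveI : IsMulCommutative Z := ⟨⟨fun a b => Subtype.ext
      (Subgroup.mem_centralizer_iff.1 a.2 b (hZF b.2)).symm⟩⟩
    have h := Cfsg.Lib.Core.le_fittingSubgroup' hZn (Cfsg.Lib.Core.isNilpotent_of_isMulCommutative Z) hzZ
    rw [hfit, Subgroup.mem_bot] at h
    exact hX.ne_one h
  -- one orbit
  have horb : ∀ K : Subgroup G, Cfsg.IsComponent K → ∀ K' : Subgroup G, Cfsg.IsComponent K' →
      (∀ q ∈ Q, act q K ≠ K') → ∀ k ∈ K', Commute z k := by
    intro K hK K' hK' hne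
    set J := ⨆ q : Q, act (q : G) K with hJ
    have hle : ∀ q ∈ Q, act q J ≤ J := by
      intro q hq
      show J.map _ ≤ J
      rw [hJ, Subgroup.map_iSup]
      refine iSup_le fun p => ?_
      show act q (act (p : G) K) ≤ _
      rw [← hactmul]
      exact le_iSup (fun r : Q => act (r : G) K) ⟨q * p, mul_mem hq p.2⟩
    have hQJ : Q ≤ Subgroup.normalizer (J : Set G) := fun q hq =>
      Subgroup.mem_normalizer_fintype fun j hj => hle q hq (hmact hj)
    have hJne : J ≠ ⊥ := fun h => Cfsg.Lib.Core.IsComponent.ne_bot hK (le_bot_iff.1 (h ▸ by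
      refine le_trans ?_ (le_iSup (fun r : Q => act (r : G) K) ⟨1, one_mem Q⟩)
      exact (hact1 K).ge))
    have hzJ : z ∈ J := hX.mem_of_normalized hodd hQJ hJne
    have hJc : J ≤ Subgroup.centralizer (K' : Set G) := iSup_le fun q a ha =>
      Subgroup.mem_centralizer_iff.2 fun b hb =>
        (hcomm (hactc (q : G) hK) hK' (hne q q.2) a ha b hb).symm
    exact fun k hk => (Subgroup.mem_centralizer_iff.1 (hJc hzJ) k hk).symm
  obtain ⟨L, hL⟩ : ∃ L : Subgroup G, Cfsg.IsComponent L := by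
    by_contra h
    push Not at h
    exact hLne (Cfsg.Lib.Core.layer_eq_bot_iff.2 h)
  have hall : ∀ K : Subgroup G, Cfsg.IsComponent K → ∃ q ∈ Q, act q L = K := by
    intro K hK
    by_contra hno
    push Not at hno
    refine hnotall fun K'' hK'' => ?_
    by_cases h : ∃ q ∈ Q, act q L = K''
    · obtain ⟨q, hq, rfl⟩ := h
      refine horb K hK _ hK'' fun p hp he => ?_
      refine hno (p⁻¹ * q) (mul_mem (Q.inv_mem hp) hq) ?_
      rw [hactmul, ← he, ← hactmul, inv_mul_cancel, hact1]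
    · push Not at h
      exact horb L hL K'' hK'' h
  have hLz : ¬ ∀ k ∈ L, Commute z k := fun h => hnotall fun K hK k hk => by
    obtain ⟨q, hq, rfl⟩ := hall K hK
    obtain ⟨k', hk', rfl⟩ := hk
    show Commute z (q * k' * q⁻¹)
    have h1 : Commute z q := hX.central q hq
    exact ((h1.mul_right (h k' hk')).mul_right h1.inv_right)
  have hMeq : M = Cfsg.generalizedFittingSubgroup G := by
    rw [hFL]
    refine le_antisymm (hMle _ hlayerN hzF) (sSup_le fun K hK => ?_)
    obtain ⟨q, -, rfl⟩ := hall K hK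
    have hLM : L ≤ M := by
      rcases Cfsg.Lib.Core.component_le_or_commute hL hMn.isSubnormal with h | h
      · exact h
      · exact absurd (fun k hk => Subgroup.mem_centralizer_iff.1
          (Subgroup.commutator_eq_bot_iff_le_centralizer.1 h hk) z hzM) hLz
    rintro _ ⟨k, hk, rfl⟩
    exact hMn.conj_mem k (hLM hk) q
  by_cases hfix : ∀ q ∈ Q, act q L = L
  · left
    have hlayL : Cfsg.layer G = L := by
      refine le_antisymm (sSup_le fun K hK => ?_) (Cfsg.Lib.Core.le_layer hL)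
      obtain ⟨q, hq, rfl⟩ := hall K hK
      exact (hfix q hq).le
    have hML : M = L := hMeq.trans (hFL.trans hlayL)
    rw [hML]
    exact ⟨by rw [← hML]; exact hMeq, hsimple L hL⟩
  right
  push Not at hfix
  obtain ⟨u, hu, hune⟩ := hfix
  obtain ⟨hLs, hLna⟩ := hsimple L hL
  set W : Subgroup G := sSup {K | Cfsg.IsComponent K ∧ K ≠ L} with hWdef
  have hLW : ∀ a ∈ L, ∀ b ∈ W, Commute a b := by
    intro a ha b hb
    have hle : W ≤ Subgroup.centralizer (L : Set G) := sSup_le fun K hK k hk =>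
      Subgroup.mem_centralizer_iff.2 fun l hl => (hcomm hL hK.1 (Ne.symm hK.2) l hl k hk).eq
    exact Subgroup.mem_centralizer_iff.1 (hle hb) a ha
  have hdisj : ∀ a ∈ L, a ∈ W → a = 1 := by
    intro a ha haW
    have h : (⟨a, ha⟩ : L) ∈ Subgroup.center L :=
      Subgroup.mem_center_iff.2 fun l => Subtype.ext (hLW l l.2 a haW).eq
    rw [hctr L hL, Subgroup.mem_bot] at h
    exact congrArg Subtype.val h
  have huniq : ∀ a ∈ L, ∀ b ∈ W, ∀ a' ∈ L, ∀ b' ∈ W, a * b = a' * b' → a = a' := by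
    intro a ha b hb a' ha' b' hb' h
    have h1 : a'⁻¹ * a = b' * b⁻¹ := by
      calc a'⁻¹ * a = a'⁻¹ * (a * b) * b⁻¹ := by group
        _ = b' * b⁻¹ := by rw [h]; group
    have h2 := hdisj _ (L.mul_mem (L.inv_mem ha') ha) (h1 ▸ mul_mem hb' (W.inv_mem hb))
    exact (inv_mul_eq_one.1 h2).symm
  have hlayW : Cfsg.layer G = L ⊔ W := by
    refine le_antisymm (sSup_le fun K hK => ?_)
      (sup_le (Cfsg.Lib.Core.le_layer hL) (sSup_le fun K hK => Cfsg.Lib.Core.le_layer hK.1))
    by_cases h : K = L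
    · exact h ▸ le_sup_left
    · exact le_trans (le_sSup (show K ∈ {K | Cfsg.IsComponent K ∧ K ≠ L} from ⟨hK, h⟩)) le_sup_right
  have hsplit : ∀ g ∈ Cfsg.layer G, ∃ a ∈ L, ∃ b ∈ W, a * b = g := by
    intro g hg
    rw [hlayW] at hg
    refine (Cfsg.Lib.Core.mem_sup_of_commute ?_).1 hg
    rw [Subgroup.commutator_eq_bot_iff_le_centralizer]
    exact fun a ha => Subgroup.mem_centralizer_iff.2 fun b hb => (hLW a ha b hb).symm.eq
  obtain ⟨z1, hz1L, w0, hw0, hz10⟩ := hsplit z hzF
  have hz1ne : z1 ≠ 1 := fun h => hLz fun k hk => by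
    rw [← hz10, h, one_mul]; exact (hLW k hk w0 hw0).symm
  have hz1sq : z1 * z1 = 1 := by
    refine huniq _ (mul_mem hz1L hz1L) (w0 * w0) (mul_mem hw0 hw0) 1 (one_mem _) 1 (one_mem _) ?_
    rw [one_mul, (hLW z1 hz1L w0 hw0).mul_mul_mul_comm, hz10, hX.sq_z]
  have hCz : ∀ c ∈ L, Commute c z1 → Commute c z := fun c hc h => by
    rw [← hz10]; exact h.mul_right (hLW c hc w0 hw0)
  have heQ : ∀ q ∈ Q, ∀ c ∈ L, Commute c z1 → q * c * q⁻¹ * c⁻¹ ∈ Q := by
    intro q hq c hc hcz
    rw [show q * c * q⁻¹ * c⁻¹ = q * (c * q⁻¹ * c⁻¹) by group]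
    exact mul_mem hq ((Subgroup.mem_normalizer_iff.1 (hX.norm c (hCz c hc hcz)) _).1 (Q.inv_mem hq))
  -- a Sylow subgroup of `L` centralizes `z1`
  set CL : Subgroup L := (Subgroup.centralizer ({z1} : Set G)).subgroupOf L with hCLdef
  have hmemCL : ∀ c : L, c ∈ CL ↔ Commute (c : G) z1 := fun c => by
    rw [hCLdef, Subgroup.mem_subgroupOf, Subgroup.mem_centralizer_singleton_iff]; rfl
  have hindex : ¬ 2 ∣ CL.index := by
    obtain ⟨T, hQT⟩ := hX.two.exists_le_sylow
    obtain ⟨S, hS⟩ := Cfsg.Lib.Local.exists_sylow_inf T (Cfsg.layer G)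
    haveI := Cfsg.Lib.Core.component_normal_in_layer hL
    have h1 := Cfsg.Lib.Local.not_dvd_relIndex_of_normal S (L.subgroupOf (Cfsg.layer G))
    rw [hS, Subgroup.relIndex_subgroupOf (Cfsg.Lib.Core.le_layer hL)] at h1
    intro h
    refine h1 (dvd_trans h ?_)
    show (Subgroup.centralizer ({z1} : Set G)).relIndex L ∣ (T : Subgroup G).relIndex L
    rw [← Subgroup.inf_relIndex_right (T : Subgroup G) L]
    refine Subgroup.relIndex_dvd_of_le_left L ?_
    intro t ht
    rw [Subgroup.mem_centralizer_singleton_iff]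
    have htz : Commute z t := hX.central_of_le T.2 hQT t ht.1
    have hconj : t * z1 * t⁻¹ * (t * w0 * t⁻¹) = z1 * w0 := by
      rw [hz10, show t * z1 * t⁻¹ * (t * w0 * t⁻¹) = t * (z1 * w0) * t⁻¹ by group, hz10,
        ← htz.eq, mul_inv_cancel_right]
    have htw : t * w0 * t⁻¹ = w0 := by rw [(hLW t ht.2 w0 hw0).eq, mul_inv_cancel_right]
    rw [htw] at hconj
    exact mul_inv_eq_iff_eq_mul.1 (mul_right_cancel hconj)
  have hbig : ∃ c ∈ L, Commute c z1 ∧ c ≠ 1 ∧ c ≠ z1 := by
    by_contra hno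
    push Not at hno
    apply hLna
    haveI := hLs
    have hall' : ∀ c ∈ CL, c = 1 ∨ c = ⟨z1, hz1L⟩ := fun c hc => by
      rcases eq_or_ne c 1 with h | h
      · exact Or.inl h
      · exact Or.inr (Subtype.ext (hno c c.2 ((hmemCL c).1 hc) fun e => h (Subtype.ext e)))
    have hp2 : IsPGroup 2 CL := fun c => ⟨1, Subtype.ext (by
      rw [pow_one, pow_two]
      rcases hall' c c.2 with h | h <;> simp [h, Subtype.ext_iff, hz1sq])⟩
    exact Cfsg.Lib.Extra.not_simple_of_small_centralizer (hp2.toSylow hindex)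
      (z := ⟨z1, hz1L⟩) (fun h => hz1ne (congrArg Subtype.val h))
      ((hmemCL _).2 (Commute.refl z1)) hall'
  have hmemW : ∀ (g : G) (c : G), c ∈ L → act g L ≠ L → g * c * g⁻¹ ∈ W := fun g c hc hg =>
    (le_sSup (show act g L ∈ {K | Cfsg.IsComponent K ∧ K ≠ L} from ⟨hactc g hL, hg⟩) :
      act g L ≤ W) (hmact hc)
  have hsq : ∀ q ∈ Q, act (q * q) L = L := fun q hq => by
    refine hfixF hL _ ?_
    rcases hX.sq q hq with h | h <;> rw [h]
    exacts [one_mem _, hzF]
  have htwo : ∀ q ∈ Q, act q L = L ∨ act q L = act u L := by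
    intro b hb
    by_contra hno
    push Not at hno
    obtain ⟨hbL, hbu⟩ := hno
    obtain ⟨c, hc, hcz, hc1, hcz1⟩ := hbig
    have hbu1 : act (b * u) L ≠ L := by
      intro h
      have h1 : act b (act u L) = act b (act b L) := by
        rw [← hactmul, h, ← hactmul, hsq b hb]
      exact hbu (hactinj b h1).symm
    have hinvc : Commute c⁻¹ z1 := hcz.inv_left
    set e := u * c * u⁻¹ * c⁻¹ with he
    have heQ' : e ∈ Q := heQ u hu c hc hcz
    have hw1 : (b * u) * c * (b * u)⁻¹ ∈ W := hmemW _ c hc hbu1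
    have hw2 : b * c⁻¹ * b⁻¹ ∈ W := hmemW _ _ (L.inv_mem hc) hbL
    have hw3 : u * c⁻¹ * u⁻¹ ∈ W := hmemW _ _ (L.inv_mem hc) hune
    have hval : b * e * b⁻¹ * e⁻¹ =
        c * ((b * u) * c * (b * u)⁻¹ * (b * c⁻¹ * b⁻¹) * (u * c⁻¹ * u⁻¹)) := by
      have h := hLW c hc _ (mul_mem hw1 hw2)
      calc b * e * b⁻¹ * e⁻¹
          = ((b * u) * c * (b * u)⁻¹ * (b * c⁻¹ * b⁻¹)) * c * (u * c⁻¹ * u⁻¹) := by rw [he]; group
        _ = _ := by rw [← h.eq, mul_assoc c]
    rcases hX.comm b hb e heQ' with h | h <;> rw [hval] at h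
    · exact hc1 (huniq c hc _ (mul_mem (mul_mem hw1 hw2) hw3) 1 (one_mem _) 1 (one_mem _)
        (by rw [h, one_mul]))
    · exact hcz1 (huniq c hc _ (mul_mem (mul_mem hw1 hw2) hw3) z1 hz1L w0 hw0 (by rw [h, hz10]))
  have hWeq : W = act u L := by
    refine le_antisymm (sSup_le ?_) (le_sSup ⟨hactc u hL, hune⟩)
    rintro K ⟨hK, hKne⟩
    obtain ⟨q, hq, rfl⟩ := hall K hK
    rcases htwo q hq with h | h
    · exact absurd h hKne
    · exact h.le
  have hactWL : act u W = L := by rw [hWeq, ← hactmul, hsq u hu]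
  have hw0eq : w0 = u * z1 * u⁻¹ := by
    have hmem1 : u * z1 * u⁻¹ ∈ W := hmemW u z1 hz1L hune
    have hmem2 : u * w0 * u⁻¹ ∈ L := by
      have h : u * w0 * u⁻¹ ∈ act u W := hmact hw0
      rwa [hactWL] at h
    have h1 : u * z1 * u⁻¹ * (u * w0 * u⁻¹) = z := by
      rw [show u * z1 * u⁻¹ * (u * w0 * u⁻¹) = u * (z1 * w0) * u⁻¹ by group, hz10,
        ← (hX.central u hu).eq, mul_inv_cancel_right]
    have h2 : u * w0 * u⁻¹ * (u * z1 * u⁻¹) = z1 * w0 := by
      rw [hz10, (hLW _ hmem2 _ hmem1).eq, h1]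
    have h3 := huniq _ hmem2 _ hmem1 z1 hz1L w0 hw0 h2
    rw [h3] at h2
    exact (mul_left_cancel h2).symm
  have hsqC : ∀ c ∈ L, Commute c z1 → c * c = 1 ∨ c * c = z1 := by
    intro c hc hcz
    have hcu := hLW (c⁻¹) (L.inv_mem hc) _ (hmemW u c hc hune)
    have hval : u * c * u⁻¹ * c⁻¹ * (u * c * u⁻¹ * c⁻¹) = (c * c)⁻¹ * (u * (c * c) * u⁻¹) := by
      calc u * c * u⁻¹ * c⁻¹ * (u * c * u⁻¹ * c⁻¹)
          = u * c * u⁻¹ * (c⁻¹ * (u * c * u⁻¹)) * c⁻¹ := by group
        _ = u * c * u⁻¹ * (u * c * u⁻¹ * c⁻¹) * c⁻¹ := by rw [hcu.eq]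
        _ = u * (c * c) * u⁻¹ * (c * c)⁻¹ := by group
        _ = _ := (hLW _ (L.inv_mem (L.mul_mem hc hc)) _ (hmemW u _ (L.mul_mem hc hc) hune)).eq.symm
    have hm := L.inv_mem (L.mul_mem hc hc)
    have hm' := hmemW u _ (L.mul_mem hc hc) hune
    rcases hX.sq _ (heQ u hu c hc hcz) with h | h <;> rw [hval] at h
    · left
      exact inv_eq_one.1 (huniq _ hm _ hm' 1 (one_mem _) 1 (one_mem _) (by rw [h, one_mul]))
    · right
      have h1 := huniq _ hm _ hm' z1 hz1L w0 hw0 (by rw [h, hz10])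
      rw [inv_eq_iff_eq_inv, inv_eq_of_mul_eq_one_right hz1sq] at h1
      exact h1
  have h4 : ∀ c ∈ L, Commute c z1 → c ^ 4 = 1 := fun c hc hcz => by
    rw [show (4 : ℕ) = 2 * 2 from rfl, pow_mul, pow_two, pow_two]
    rcases hsqC c hc hcz with h | h <;> rw [h]
    exacts [one_mul 1, hz1sq]
  have hLu : L ⊓ act u L = ⊥ := le_bot_iff.1 fun x hx =>
    Subgroup.mem_bot.2 (hdisj x hx.1 (hWeq ▸ hx.2))
  refine ⟨hMeq, L, u, hu, hLs, hLna, hLu, fun x hx y hy => (hLW x hx y (hWeq ▸ hy)).eq, ?_,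
    z1, hz1L, by rw [← hw0eq, hz10], ?_, ?_⟩
  · rw [hMeq, hFL, hlayW, hWeq]
  · have hp2 : IsPGroup 2 CL := fun c => ⟨2, Subtype.ext (Subtype.ext (by
      simpa using h4 _ (c : L).2 ((hmemCL _).1 c.2)))⟩
    refine ⟨hp2.toSylow hindex, rfl, ?_⟩
    rw [Subgroup.map_le_iff_le_comap]
    have hmem : ∀ x : ↥CL, x * x ∈
        (Subgroup.zpowers z1).comap (L.subtype.comp CL.subtype) := fun x => by
      rw [Subgroup.mem_comap]
      show ((x : L) : G) * ((x : L) : G) ∈ Subgroup.zpowers z1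
      rcases hsqC _ (x : L).2 ((hmemCL _).1 x.2) with h | h <;> rw [h]
      exacts [one_mem _, Subgroup.mem_zpowers z1]
    refine Cfsg.Lib.PGroup.frattini_le_of_commutator_le_of_pow_mem (p := 2) ?_
      (fun g => by rw [pow_two]; exact hmem g)
    rw [commutator_def, Subgroup.commutator_le]
    intro x _ y _
    rw [commutatorElement_def]
    have h := mul_mem (mul_mem (hmem x) (hmem (x⁻¹ * y))) (hmem y⁻¹)
    have he : x * x * (x⁻¹ * y * (x⁻¹ * y)) * (y⁻¹ * y⁻¹) = x * y * x⁻¹ * y⁻¹ := by group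
    exact he ▸ h
  · intro hQeq
    set X := Subgroup.centralizer ({z} : Set G) with hXdef
    set K : Subgroup X := M.subgroupOf X with hKdef
    have hK2 : IsPGroup 2 K := by
      intro x
      refine ⟨2, Subtype.ext (Subtype.ext ?_)⟩
      have hxM : ((x : X) : G) ∈ M := x.2
      rw [hMeq, hFL] at hxM
      obtain ⟨a, ha, b, hb, hab⟩ := hsplit _ hxM
      have hxz : a * b * z = z * (a * b) := by
        rw [hab]; exact Subgroup.mem_centralizer_singleton_iff.1 (x : X).2
      have hab1 := hLW z1 hz1L b hb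
      have hab2 := hLW a ha w0 hw0
      have h : a * z1 * (b * w0) = z1 * a * (w0 * b) := by
        rw [← (hab1.symm).mul_mul_mul_comm, ← hab2.symm.mul_mul_mul_comm, hz10]
        exact hxz
      have haz : Commute a z1 :=
        huniq _ (mul_mem ha hz1L) _ (mul_mem hb hw0) _ (mul_mem hz1L ha) _ (mul_mem hw0 hb) h
      have hbw : b * w0 = w0 * b := by
        rw [haz.eq] at h
        exact mul_left_cancel h
      rw [hWeq] at hb
      obtain ⟨a', ha', rfl⟩ := hb
      have hbw' : Commute a' z1 := by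
        have h' : u * a' * u⁻¹ * (u * z1 * u⁻¹) = u * z1 * u⁻¹ * (u * a' * u⁻¹) := by
          rw [← hw0eq]; exact hbw
        exact (Commute.conj_iff u).1 h'
      show ((x : X) : G) ^ 2 ^ 2 = 1
      rw [← hab, (hLW a ha _ (hWeq ▸ hmact ha')).mul_pow]
      show a ^ 4 * ((MulAut.conj u) a') ^ 4 = 1
      rw [← map_pow, h4 a ha haz, h4 a' ha' hbw', map_one, one_mul]
    obtain ⟨c, hc, hcz, hc1, hcz1⟩ := hbig
    have hcX : c ∈ X := Subgroup.mem_centralizer_singleton_iff.2 (hCz c hc hcz).eq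
    have hcM : c ∈ M := by
      rw [hMeq, hFL]; exact Cfsg.Lib.Core.le_layer hL hc
    haveI hKn : K.Normal := hMn.subgroupOf X
    have hcQ : c ∈ Q := by
      rw [hQeq]
      exact ⟨⟨c, hcX⟩, Cfsg.Lib.Core.le_pCore hK2 (Subgroup.mem_subgroupOf.2 hcM), rfl⟩
    have hcu := hLW (c⁻¹) (L.inv_mem hc) _ (hmemW u c hc hune)
    rcases hX.comm u hu c hcQ with h | h
    · rw [← hcu.eq] at h
      exact hc1 (inv_eq_one.1 (huniq _ (L.inv_mem hc) _ (hmemW u c hc hune) 1 (one_mem _) 1
        (one_mem _) (by rw [h, one_mul])))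
    · rw [← hcu.eq] at h
      have h1 := huniq _ (L.inv_mem hc) _ (hmemW u c hc hune) z1 hz1L w0 hw0 (by rw [h, hz10])
      rw [inv_eq_iff_eq_inv, inv_eq_of_mul_eq_one_right hz1sq] at h1
      exact hcz1 h1

end Cfsg.Agent.S5426
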