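import Cfsg.Statements.S5433
import Mathlib

set_option autoImplicit false
open Cfsg

namespace Cfsg.Agent.S5433

/-- Let Q be a large extraspecial 2-subgroup of the finite group G (extraspecial; centralizer equal to its centre; normal in the centralizer of its centre; normalizing no non-trivial subgroup of odd order), and L a normal subgroup of G containing Q. Then G is the product of L and the normalizer of Q. -/
theorem result {G : Type*} [Group G] [Finite G] (Q : Subgroup G) (hQ : Cfsg.IsLargeExtraspecial Q) (L : Subgroup G) [L.Normal] (hQL : Q ≤ L) : L ⊔ Subgroup.normalizer (Q : Set G) = ⊤ := by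
  obtain ⟨hext, hC, hN, -⟩ := hQ
  set Z := (Subgroup.center ↥Q).map Q.subtype with hZdef
  have hZc : Nat.card Z = 2 := by rw [hZdef, Subgroup.card_map_of_injective Q.subtype_injective]; exact hext.2
  haveI : Fact (Nat.Prime 2) := ⟨Nat.prime_two⟩
  have hQp : IsPGroup 2 (Q.subgroupOf L) := hext.1.1.of_equiv (Subgroup.subgroupOfEquivOfLe hQL).symm
  obtain ⟨T, hT⟩ := hQp.exists_le_sylow
  rw [← top_le_iff, ← Sylow.normalizer_sup_eq_top T]
  refine sup_le (le_trans ?_ (le_trans hN le_sup_right)) le_sup_left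
  set T' := (T : Subgroup L).map L.subtype with hT'
  have hQT : Q ≤ T' := fun q hq => ⟨⟨q, hQL hq⟩, hT (show (⟨q, hQL hq⟩ : L) ∈ Q.subgroupOf L from hq), rfl⟩
  haveI : Nontrivial ↥(T : Subgroup L) := by
    refine Finite.one_lt_card_iff_nontrivial.1 ?_
    have h1 : Nat.card Z ≤ Nat.card Q := Subgroup.card_le_of_le (Subgroup.map_subtype_le _)
    have h2 : Nat.card Q ≤ Nat.card T' := Subgroup.card_le_of_le hQT
    have h3 : Nat.card T' = Nat.card (T : Subgroup L) := Subgroup.card_map_of_injective L.subtype_injective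
    omega
  haveI := T.2.center_nontrivial
  obtain ⟨z, hz⟩ := exists_ne (1 : Subgroup.center ↥(T : Subgroup L))
  have hzZ : (((z : ↥(T : Subgroup L)) : L) : G) ∈ Z := by
    rw [← hC]
    intro q hq
    obtain ⟨t, ht, rfl⟩ := hQT hq
    exact congrArg (fun u : ↥(T : Subgroup L) => ((u : L) : G)) (Subgroup.mem_center_iff.1 z.2 ⟨t, ht⟩)
  have hz1 : (((z : ↥(T : Subgroup L)) : L) : G) ≠ 1 := fun h => hz (Subtype.ext (Subtype.ext (Subtype.ext h)))
  intro n hn w hw
  have hcard : ∀ u ∈ Z, u = 1 ∨ u = (((z : ↥(T : Subgroup L)) : L) : G) := by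
    intro u hu
    by_contra hcon
    push Not at hcon
    obtain ⟨a, b, hab, huniv⟩ := Nat.card_eq_two_iff.1 hZc
    have hmem : ∀ x : Z, x = a ∨ x = b := fun x => by
      have : x ∈ ({a, b} : Set Z) := huniv ▸ Set.mem_univ x
      simpa using this
    rcases hmem ⟨u, hu⟩ with h1 | h1 <;> rcases hmem ⟨_, hzZ⟩ with h2 | h2 <;> rcases hmem 1 with h3 | h3 <;>
      first
      | exact hcon.2 (congrArg Subtype.val (h1.trans h2.symm))
      | exact hcon.1 (congrArg Subtype.val (h1.trans h3.symm))
      | exact hz1 (congrArg Subtype.val (h2.trans h3.symm))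
  have hnz : n * (((z : ↥(T : Subgroup L)) : L) : G) * n⁻¹ ∈ Z := by
    rw [← hC]
    intro q hq
    have h1 : n⁻¹ * q * n ∈ T' := by
      have := (Subgroup.mem_normalizer_iff.1 (inv_mem hn) q).1 (hQT hq)
      rwa [inv_inv] at this
    obtain ⟨t, ht, hte⟩ := h1
    have h2 := congrArg (fun u : ↥(T : Subgroup L) => ((u : L) : G)) (Subgroup.mem_center_iff.1 z.2 ⟨t, ht⟩)
    have hte' : ((t : L) : G) = n⁻¹ * q * n := hte
    simp only [Subgroup.coe_mul, hte'] at h2
    have := congrArg (fun u => n * u * n⁻¹) h2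
    simp only [mul_assoc, mul_inv_cancel_left, inv_mul_cancel_left, mul_inv_cancel, mul_one] at this ⊢
    exact this
  have hfix : n * (((z : ↥(T : Subgroup L)) : L) : G) * n⁻¹ = (((z : ↥(T : Subgroup L)) : L) : G) := by
    rcases hcard _ hnz with h | h
    · exact absurd (conj_eq_one_iff.1 h) hz1
    · exact h
  rcases hcard w hw with rfl | rfl
  · simp
  · rw [mul_inv_eq_iff_eq_mul] at hfix
    exact hfix.symm

end Cfsg.Agent.S5433
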