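import Cfsg.Statements.S5427
import Cfsg.Agent.Lib.Extra.Structure
import Cfsg.Agent.S5433

set_option autoImplicit false
open Cfsg

namespace Cfsg.Agent.S5427

/-- Let z be an involution of the finite group G whose centralizer C has generalized Fitting subgroup Q, an extraspecial 2-group of width at least 2 (order 2^(2w+1), w ≥ 2). Let K be a subgroup of G such that the subgroup U generated by the K-conjugates of z is abelian and C is generated by the C-conjugates of U. Suppose that either some K-conjugate of z other than z lies in Q, or some element u of U ∩ Q outside the subgroup generated by z has z in the largest normal 2-subgroup of its centralizer. Then G is simple and Q is a large extraspecial 2-subgroup of G. -/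
theorem result {G : Type*} [Group G] [Finite G] (z : G) (hz : orderOf z = 2) (Q : Subgroup G) (hQC : Q ≤ Subgroup.centralizer ({z} : Set G)) (hF : (Cfsg.generalizedFittingSubgroup ↥(Subgroup.centralizer ({z} : Set G))).map (Subgroup.centralizer ({z} : Set G)).subtype = Q) (hQ : Cfsg.IsExtraspecial 2 ↥Q) (w : ℕ) (hw : 2 ≤ w) (hcard : Nat.card ↥Q = 2 ^ (2 * w + 1)) (K U : Subgroup G) (hU : U = Subgroup.closure {x : G | ∃ k ∈ K, x = k * z * k⁻¹}) (hUab : IsMulCommutative ↥U) (hgen : Subgroup.closure {x : G | ∃ c ∈ Subgroup.centralizer ({z} : Set G), ∃ u ∈ U, x = c * u * c⁻¹} = Subgroup.centralizer ({z} : Set G)) (h3 : (∃ k ∈ K, k * z * k⁻¹ ∈ Q ∧ k * z * k⁻¹ ≠ z) ∨ ∃ u ∈ U ⊓ Q, u ∉ Subgroup.zpowers z ∧ (∃ hz' : z ∈ Subgroup.centralizer ({u} : Set G), (⟨z, hz'⟩ : ↥(Subgroup.centralizer ({u} : Set G))) ∈ Cfsg.pCore 2 ↥(Subgroup.centralizer ({u} : Set G)))) : IsSimpleGroup G ∧ Cfsg.IsLargeExtraspecial Q := by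
  classical
  haveI : Fact (Nat.Prime 2) := ⟨Nat.prime_two⟩
  obtain ⟨hcen, hCQ, hNQ, hX⟩ := Cfsg.Lib.Extra.of_fitting hz hQC hF hQ
  have hL : Cfsg.IsLargeExtraspecial Q := by
    rcases h3 with ⟨k, -, hkQ, hkne⟩ | ⟨u, ⟨huU, huQ⟩, huz, hz', hzcore⟩
    · exact Cfsg.Lib.Extra.large_of_fitting hz hQC hF hQ hkQ hkne
    · refine ⟨hQ, hCQ, hNQ, fun A hA hQA => ?_⟩
      have hU2 : ∀ x ∈ U, x * x = 1 := by
        intro x hx
        have hmul : ∀ a ∈ U, ∀ b ∈ U, Commute a b := fun a ha b hb =>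
          congrArg Subtype.val (mul_comm' (⟨a, ha⟩ : U) ⟨b, hb⟩)
        rw [hU] at hx
        induction hx using Subgroup.closure_induction with
        | mem x hx =>
          obtain ⟨k, -, rfl⟩ := hx
          rw [show k * z * k⁻¹ * (k * z * k⁻¹) = k * (z * z) * k⁻¹ by group, hX.sq_z]; simp
        | one => exact one_mul 1
        | mul a b ha' hb' ha hb =>
          rw [(hmul b (hU ▸ hb') a (hU ▸ ha')).mul_mul_mul_comm, ha, hb, one_mul]
        | inv a _ ha => rw [← _root_.mul_inv_rev, ha, inv_one]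
      refine hX.odd_eq_bot huQ (hU2 u huU) (fun e => huz (e ▸ Subgroup.mem_zpowers z))
        (fun e => huz (e ▸ Subgroup.one_mem _)) ((Cfsg.Lib.Core.pCore_isPGroup 2 _).map _)
        (Subgroup.mem_map_of_mem _ hzcore) (Cfsg.Lib.Extra.core_normalized u) hA hQA
  refine ⟨?_, hL⟩
  haveI : Nontrivial G := ⟨⟨z, 1, hX.ne_one⟩⟩
  refine ⟨fun N hNn => ?_⟩
  rcases eq_or_ne N ⊥ with h | hN
  · exact Or.inl h
  right
  have hzN : z ∈ N := hX.mem_of_normalized hL.2.2.2 Subgroup.le_normalizer_of_normal hN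
  have hUN : U ≤ N := by
    rw [hU, Subgroup.closure_le]
    rintro x ⟨k, -, rfl⟩
    exact hNn.conj_mem z hzN k
  have hCN : Subgroup.centralizer ({z} : Set G) ≤ N := by
    rw [← hgen, Subgroup.closure_le]
    rintro x ⟨c, -, u, hu, rfl⟩
    exact hNn.conj_mem u (hUN hu) c
  rw [eq_top_iff, ← Cfsg.Agent.S5433.result Q hL N (hQC.trans hCN)]
  exact sup_le le_rfl fun n hn =>
    hCN (Subgroup.mem_centralizer_singleton_iff.2 (hX.normalizer_commute hn).eq)

end Cfsg.Agent.S5427
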