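import Cfsg.Statements.S5429
import Cfsg.Agent.Lib.Extra.Structure

set_option autoImplicit false
open Cfsg

namespace Cfsg.Agent.S5429

/-- Let z be an involution of the finite group G with centralizer C whose generalized Fitting subgroup Q is extraspecial of width at least 3 (order 2^(2w+1), w ≥ 3); let g be an element of G with g z g⁻¹ in Q but outside the centre Z of Q, and t an involution lying in both Q and g Q g⁻¹ that is not conjugate to z; write P for the centralizer of t in Q and suppose that the elements of C acting trivially by conjugation on P modulo the subgroup generated by t and z are exactly the elements of Q. Then the image of P in the centralizer of t modulo the subgroup generated by t is a large extraspecial 2-subgroup there, and g z g⁻¹ is conjugate to z inside the subgroup generated by P and the centralizer of t in g Q g⁻¹. -/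
theorem result {G : Type*} [Group G] [Finite G] (z : G) (hz : orderOf z = 2) (Q : Subgroup G) (hQC : Q ≤ Subgroup.centralizer ({z} : Set G)) (hF : (Cfsg.generalizedFittingSubgroup ↥(Subgroup.centralizer ({z} : Set G))).map (Subgroup.centralizer ({z} : Set G)).subtype = Q) (hQ : Cfsg.IsExtraspecial 2 ↥Q) (w : ℕ) (hw : 3 ≤ w) (hcard : Nat.card ↥Q = 2 ^ (2 * w + 1)) (g : G) (hgQ : g * z * g⁻¹ ∈ Q) (hgZ : g * z * g⁻¹ ∉ ((Subgroup.center ↥Q).map Q.subtype)) (t : G) (ht : orderOf t = 2) (htQ : t ∈ Q ⊓ (Q).map (MulAut.conj g).toMonoidHom) (htz : ¬ IsConj z t) (P : Subgroup G) (hP : P = Q ⊓ Subgroup.centralizer ({t} : Set G)) (hCP : ∀ c ∈ Subgroup.centralizer ({z} : Set G), (∀ x ∈ P, ∃ y ∈ Subgroup.closure ({t, z} : Set G), c * x * c⁻¹ = x * y) ↔ c ∈ Q) [hn : ((Subgroup.zpowers t).subgroupOf (Subgroup.centralizer ({t} : Set G))).Normal] : Cfsg.IsLargeExtraspecial ((P.subgroupOf (Subgroup.centralizer ({t} : Set G))).map (QuotientGroup.mk' ((Subgroup.zpowers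 t).subgroupOf (Subgroup.centralizer ({t} : Set G))))) ∧ ∃ x ∈ P ⊔ ((Q).map (MulAut.conj g).toMonoidHom ⊓ Subgroup.centralizer ({t} : Set G)), x * (g * z * g⁻¹) * x⁻¹ = z := by
  classical
  haveI : Fact (Nat.Prime 2) := ⟨Nat.prime_two⟩
  obtain ⟨hcen, -, -, hX⟩ := Cfsg.Lib.Extra.of_fitting hz hQC hF hQ
  have hR := hX.conj g
  set x := g * z * g⁻¹ with hxdef
  set Q' := Q.map (MulAut.conj g).toMonoidHom with hQ'
  have hxz : x ≠ z := fun e => hgZ (by rw [hcen, e]; exact Subgroup.mem_zpowers z)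
  have hzQ' : z ∈ Q' := hX.mem_symm hgQ
  have ht2 : t * t = 1 := by rw [← pow_two, ← ht, pow_orderOf_eq_one]
  have hti : t⁻¹ = t := inv_eq_of_mul_eq_one_right ht2
  have ht1 : t ≠ 1 := fun e => by rw [e, orderOf_one] at ht; exact absurd ht (by decide)
  obtain ⟨htQ, htQ'⟩ := htQ
  have htz' : t ≠ z := fun e => htz (e ▸ IsConj.refl z)
  have hxt : x ≠ t := fun e => htz (_root_.isConj_iff.2 ⟨g, e⟩)
  have hzt : Commute z t := hX.central t htQ
  have hxt' : Commute x t := hR.central t htQ'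
  have hzti : IsConj z x := _root_.isConj_iff.2 ⟨g, rfl⟩
  obtain ⟨y, hy, hyt⟩ := hX.exists_move htQ ht1 htz'
  obtain ⟨s, hs, hst⟩ := hR.exists_move htQ' ht1 hxt.symm
  have hnzt : ¬ IsConj z (z * t) := fun h => htz (h.trans (IsConj.symm (_root_.isConj_iff.2 ⟨y, hyt⟩)))
  have hnxt : ¬ IsConj z (x * t) := fun h => htz (h.trans (IsConj.symm (_root_.isConj_iff.2 ⟨s, hst⟩)))
  have hx1 : x ≠ 1 := hR.ne_one
  have hxzt : x ≠ z * t := fun e => hnzt (e ▸ hzti)
  have hzxt : z ≠ x * t := fun e => hnxt (e ▸ IsConj.refl z)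
  set H := Subgroup.centralizer ({t} : Set G) with hH
  have hmH : ∀ {a : G}, a ∈ H ↔ Commute a t := Subgroup.mem_centralizer_singleton_iff
  set N := (Subgroup.zpowers t).subgroupOf H with hNdef
  set π := QuotientGroup.mk' N with hπ
  have hone : ∀ h : H, π h = 1 ↔ (h : G) = 1 ∨ (h : G) = t := by
    intro h
    rw [hπ, QuotientGroup.mk'_apply, QuotientGroup.eq_one_iff, hNdef, Subgroup.mem_subgroupOf]
    refine ⟨fun hm => ?_, ?_⟩
    · obtain ⟨k, hk⟩ := Subgroup.mem_zpowers_iff.1 hm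
      obtain ⟨m, rfl | rfl⟩ := Int.even_or_odd' k
      · left; rw [← hk, zpow_mul, zpow_two, ht2, one_zpow]
      · right; rw [← hk, zpow_add_one, zpow_mul, zpow_two, ht2, one_zpow, one_mul]
    · rintro (e | e) <;> rw [e]
      exacts [one_mem _, Subgroup.mem_zpowers t]
  have heq : ∀ a b : H, π a = π b → (a : G) = b ∨ (a : G) = b * t := by
    intro a b h
    have h1 : π (b⁻¹ * a) = 1 := by rw [map_mul, map_inv, h, inv_mul_cancel]
    rcases (hone _).1 h1 with e | e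
    · exact Or.inl (inv_mul_eq_one.1 e).symm
    · right; rw [← e]; simp
  have hzH : z ∈ H := hmH.2 hzt
  have hxH : x ∈ H := hmH.2 hxt'
  set P' := (P.subgroupOf H).map π with hP'
  have hmP : ∀ {a : G}, a ∈ P ↔ a ∈ Q ∧ Commute a t := fun {a} => by rw [hP]; exact and_congr_right fun _ => hmH
  have hmem : ∀ (a : H), (a : G) ∈ P → π a ∈ P' := fun a ha => ⟨a, ha, rfl⟩
  have hPe : ∀ p ∈ P', ∃ a : H, (a : G) ∈ Q ∧ π a = p := by
    rintro _ ⟨a, ha, rfl⟩
    exact ⟨a, (hmP.1 ha).1, rfl⟩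
  have hcz : ∀ c : H, (c : G) * z * (c : G)⁻¹ * z⁻¹ = 1 ∨ (c : G) * z * (c : G)⁻¹ * z⁻¹ = t →
      Commute (c : G) z := by
    intro c h
    rcases h with h | h
    · exact mul_inv_eq_iff_eq_mul.1 (mul_inv_eq_one.1 h)
    · refine absurd (_root_.isConj_iff.2 ⟨(c : G), ?_⟩) hnzt
      rw [mul_inv_eq_iff_eq_mul.1 h, hzt.eq]
  let π' : H → H ⧸ N := fun a => π a
  set zb := π ⟨z, hzH⟩ with hzb
  have hfix : ∀ c : H, Commute (π c) zb → Commute (c : G) z := by
    intro c h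
    refine hcz c ?_
    have h1 : π (c * ⟨z, hzH⟩ * c⁻¹ * ⟨z, hzH⟩⁻¹) = 1 := by
      rw [map_mul, map_mul, map_mul, map_inv, map_inv, ← hzb, h.eq]; group
    exact (hone _).1 h1
  have hCtx : Cfsg.Lib.Extra.Ctx P' zb := by
    refine ⟨hmem _ (hmP.2 ⟨hX.mem, hzt⟩), fun h => ?_, ?_, fun p hp => ?_, fun p hp q hq => ?_,
      fun p hp => ?_, fun c hc => ?_, fun c hc => ?_, ?_⟩
    · rcases (hone _).1 h with e | e
      exacts [hX.ne_one e, htz' e.symm]
    · rw [hzb, ← map_mul]; exact (hone _).2 (Or.inl hX.sq_z)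
    · obtain ⟨a, ha, rfl⟩ := hPe p hp
      show π _ * π a = π a * π _
      rw [← map_mul, ← map_mul]
      exact congrArg π (Subtype.ext (hX.central a ha).eq)
    · obtain ⟨a, ha, rfl⟩ := hPe p hp
      obtain ⟨b, hb, rfl⟩ := hPe q hq
      rw [← map_inv, ← map_inv, ← map_mul, ← map_mul, ← map_mul]
      rcases hX.comm a ha b hb with e | e
      · exact Or.inl ((hone _).2 (Or.inl e))
      · exact Or.inr (congrArg π (Subtype.ext e))
    · obtain ⟨a, ha, rfl⟩ := hPe p hp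
      rw [← map_mul]
      rcases hX.sq a ha with e | e
      · exact Or.inl ((hone _).2 (Or.inl e))
      · exact Or.inr (congrArg π (Subtype.ext e))
    · obtain ⟨c, rfl⟩ := QuotientGroup.mk'_surjective N c
      change ∀ a ∈ P', Commute (π c) a at hc
      have hcomm : ∀ a : H, (a : G) ∈ P →
          (c : G) * a * (c : G)⁻¹ * (a : G)⁻¹ = 1 ∨ (c : G) * a * (c : G)⁻¹ * (a : G)⁻¹ = t := by
        intro a ha
        have h1 : π (c * a * c⁻¹ * a⁻¹) = 1 := by
          rw [map_mul, map_mul, map_mul, map_inv, map_inv, (hc _ (hmem a ha)).eq]; group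
        exact (hone _).1 h1
      have hcz' : Commute (c : G) z := hfix c (hc _ (hmem ⟨z, hzH⟩ (hmP.2 ⟨hX.mem, hzt⟩)))
      have hcQ : (c : G) ∈ Q := by
        refine (hCP c (Subgroup.mem_centralizer_singleton_iff.2 hcz'.eq)).1 fun a ha => ?_
        have haH : a ∈ H := hmH.2 (hmP.1 ha).2
        rcases hcomm ⟨a, haH⟩ ha with e | e
        · exact ⟨1, one_mem _, by rw [mul_one]; exact mul_inv_eq_one.1 e⟩
        · refine ⟨t, Subgroup.subset_closure (by simp), ?_⟩
          have e' : (c : G) * a * (c : G)⁻¹ * a⁻¹ = t := e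
          rw [mul_inv_eq_iff_eq_mul.1 e', ((hmP.1 ha).2).eq]
      have hcen' : ∀ a ∈ Q, Commute a t → Commute (c : G) a := by
        intro a ha hat
        rcases hX.comm c hcQ a ha with e | e
        · exact mul_inv_eq_iff_eq_mul.1 (mul_inv_eq_one.1 e)
        · rcases hcomm ⟨a, hmH.2 hat⟩ (hmP.2 ⟨ha, hat⟩) with e' | e'
          · exact absurd (e.symm.trans e') hX.ne_one
          · exact absurd (e'.symm.trans e) htz'
      rcases hX.double_centralizer htQ ht1 htz' hcQ (hmH.1 c.2) hcen' with e | e | e | e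
      · exact Or.inl ((hone _).2 (Or.inl e))
      · exact Or.inr (congrArg π (Subtype.ext e))
      · exact Or.inl ((hone _).2 (Or.inr e))
      · right
        rw [show c = ⟨z, hzH⟩ * ⟨t, hmH.2 (Commute.refl t)⟩ from Subtype.ext e, map_mul,
          (hone ⟨t, hmH.2 (Commute.refl t)⟩).2 (Or.inr rfl), mul_one]
    · obtain ⟨c, rfl⟩ := QuotientGroup.mk'_surjective N c
      have hcN := hX.norm c (hfix c hc)
      refine Subgroup.mem_normalizer_fintype fun p hp => ?_
      obtain ⟨a, ha, rfl⟩ := hp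
      rw [← map_inv, ← map_mul, ← map_mul]
      refine hmem _ (hmP.2 ⟨(Subgroup.mem_normalizer_iff.1 hcN _).1 (hmP.1 ha).1, ?_⟩)
      exact hmH.1 (c * a * c⁻¹).2
    · intro p
      obtain ⟨a, ha, hap⟩ := hPe (p : H ⧸ N) p.2
      obtain ⟨k, hk⟩ := hX.two ⟨a, ha⟩
      refine ⟨k, Subtype.ext ?_⟩
      rw [SubmonoidClass.coe_pow, ← hap, ← map_pow]
      exact (hone _).2 (Or.inl (by simpa using congrArg Subtype.val hk))
  set xb := π ⟨x, hxH⟩ with hxb
  -- the conjugating element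
  obtain ⟨a, ha, hat, hax⟩ := hX.exists_move_commute htQ ht1 htz' hgQ hxt' hx1 hxz hxt hxzt
  obtain ⟨r, hr, hrt, hrz⟩ := hR.exists_move_commute htQ' ht1 hxt.symm hzQ' hzt hX.ne_one
    (Ne.symm hxz) (Ne.symm htz') hzxt
  refine ⟨hCtx.large ?_ ?_, r⁻¹ * a, ?_, ?_⟩
  · refine ⟨π ⟨a, hmH.2 hat⟩, hmem _ (hmP.2 ⟨ha, hat⟩), xb, hmem _ (hmP.2 ⟨hgQ, hxt'⟩), fun h => ?_⟩
    have h1 : π (⟨a, hmH.2 hat⟩ * ⟨x, hxH⟩ * ⟨a, hmH.2 hat⟩⁻¹ * ⟨x, hxH⟩⁻¹) = 1 := by
      rw [map_mul, map_mul, map_mul, map_inv, map_inv, ← hxb, h.eq]; group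
    have e : a * x * a⁻¹ * x⁻¹ = z := by rw [hax, mul_inv_cancel_right]
    rcases (hone _).1 h1 with e' | e'
    · exact hX.ne_one (e.symm.trans e')
    · exact htz' (e.symm.trans e').symm
  · set W := ((Q' ⊓ H).subgroupOf H).map π with hW
    have hW2 : IsPGroup 2 W := by
      refine IsPGroup.map ?_ π
      exact (hR.two.to_le inf_le_left).of_equiv
        (Subgroup.subgroupOfEquivOfLe (inf_le_right : Q' ⊓ H ≤ H)).symm
    intro K hK hQK
    refine hCtx.odd_eq_bot (b := xb) (hmem _ (hmP.2 ⟨hgQ, hxt'⟩)) ?_ ?_ ?_ hW2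
      ⟨⟨z, hzH⟩, ⟨hzQ', hzH⟩, rfl⟩ ?_ hK hQK
    · rw [hxb, ← map_mul]; exact (hone _).2 (Or.inl hR.sq_z)
    · intro h
      rcases heq _ _ h with e | e
      exacts [hxz e, hxzt e]
    · intro h
      rcases (hone _).1 h with e | e
      exacts [hx1 e, hxt e]
    · intro c hc
      obtain ⟨c, rfl⟩ := QuotientGroup.mk'_surjective N c
      change Commute (π c) xb at hc
      have h1 : π (c * ⟨x, hxH⟩ * c⁻¹ * ⟨x, hxH⟩⁻¹) = 1 := by
        rw [map_mul, map_mul, map_mul, map_inv, map_inv, ← hxb, hc.eq]; group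
      have hcx : Commute (c : G) x := by
        rcases (hone _).1 h1 with e | e
        · exact mul_inv_eq_iff_eq_mul.1 (mul_inv_eq_one.1 e)
        · refine absurd (hzti.trans (_root_.isConj_iff.2 ⟨(c : G), ?_⟩)) hnxt
          have e' : (c : G) * x * (c : G)⁻¹ * x⁻¹ = t := e
          rw [mul_inv_eq_iff_eq_mul.1 e', hxt'.eq]
      refine Subgroup.mem_normalizer_fintype fun p hp => ?_
      obtain ⟨d, hd, rfl⟩ := hp
      rw [← map_inv, ← map_mul, ← map_mul]
      exact ⟨_, ⟨(Subgroup.mem_normalizer_iff.1 (hR.norm c hcx) _).1 hd.1, (c * d * c⁻¹).2⟩, rfl⟩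
  · exact mul_mem (inv_mem (Subgroup.mem_sup_right ⟨hr, hmH.2 hrt⟩))
      (Subgroup.mem_sup_left (hmP.2 ⟨ha, hat⟩))
  · calc r⁻¹ * a * x * (r⁻¹ * a)⁻¹ = r⁻¹ * (a * x * a⁻¹) * r := by group
      _ = r⁻¹ * (r * z * r⁻¹) * r := by rw [hax, hrz, (hX.central x hgQ).eq]
      _ = z := by group

end Cfsg.Agent.S5429
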