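import Cfsg.Statements.S5430
import Cfsg.Agent.Lib.Extra.Pair
import Cfsg.Agent.Lib.Core.Cores

set_option autoImplicit false
open Cfsg

namespace Cfsg.Agent.S5430

/-- Let Q be a large extraspecial 2-subgroup of the finite group G (extraspecial; centralizer equal to its centre; normal in the centralizer of its centre; normalizing no non-trivial subgroup of odd order) with centre generated by z, an involution, of width w ≥ 2 (order 2^(2w+1)); let g be an element outside the centralizer H of z with g z g⁻¹ in Q; write V for the subgroup generated by z and g z g⁻¹, X for the subgroup generated by Q and g Q g⁻¹, R for the subgroup generated by the centralizer of z in g Q g⁻¹ and the centralizer of g z g⁻¹ in Q, and E for the intersection of Q and g Q g⁻¹. Then R is the centralizer of V in X and is the largest normal 2-subgroup of X, and X/R is isomorphic to the symmetric group of degree 3; moreover the normalizer of V is the product of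 X and the centralizer of V in H, X is normal in it, and modulo R it is the direct product of X/R and of the centralizer of V in H modulo R. -/
theorem result {G : Type*} [Group G] [Finite G] (Q : Subgroup G) (hQ : Cfsg.IsLargeExtraspecial Q) (z : G) (hz : ((Subgroup.center ↥Q).map Q.subtype) = Subgroup.zpowers z) (hz2 : orderOf z = 2) (w : ℕ) (hw : 2 ≤ w) (hcard : Nat.card ↥Q = 2 ^ (2 * w + 1)) (g : G) (hgH : g ∉ Subgroup.centralizer ({z} : Set G)) (hgQ : g * z * g⁻¹ ∈ Q) (V X R E : Subgroup G) (hV : V = Subgroup.closure ({z, g * z * g⁻¹} : Set G)) (hX : X = Q ⊔ (Q).map (MulAut.conj g).toMonoidHom) (hR : R = ((Q).map (MulAut.conj g).toMonoidHom ⊓ Subgroup.centralizer ({z} : Set G)) ⊔ (Q ⊓ Subgroup.centralizer ({g * z * g⁻¹} : Set G))) (hE : E = Q ⊓ (Q).map (MulAut.conj g).toMonoidHom) : R = X ⊓ Subgroup.centralizer (V : Set G) ∧ R = (Cfsg.pCore 2 ↥X).map X.subtype ∧ (∃ h : (R.subgroupOf X).Normal, Nonempty (↥X ⧸ R.subgroupOf X ≃* Equiv.Perm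 (Fin 3))) ∧ Subgroup.normalizer (V : Set G) = X ⊔ (Subgroup.centralizer ({z} : Set G) ⊓ Subgroup.centralizer (V : Set G)) ∧ (∀ y ∈ Subgroup.normalizer (V : Set G), ∀ x ∈ X, y * x * y⁻¹ ∈ X) ∧ R ≤ Subgroup.centralizer ({z} : Set G) ⊓ Subgroup.centralizer (V : Set G) ∧ (∀ x ∈ X, ∀ c ∈ Subgroup.centralizer ({z} : Set G) ⊓ Subgroup.centralizer (V : Set G), x * c * x⁻¹ * c⁻¹ ∈ R) ∧ X ⊓ (Subgroup.centralizer ({z} : Set G) ⊓ Subgroup.centralizer (V : Set G)) = R := by
  classical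
  obtain ⟨hE', hC, hN, -⟩ := hQ
  haveI : Fact (Nat.Prime 2) := ⟨Nat.prime_two⟩
  have hctx := Cfsg.Lib.Extra.ctx_of hE' hC.le hN hz
  set x := g * z * g⁻¹ with hx
  set Q' := Q.map (MulAut.conj g).toMonoidHom with hQ'
  have hne : x ≠ z := fun e => hgH (Subgroup.mem_centralizer_singleton_iff.2 (mul_inv_eq_iff_eq_mul.1 e))
  have h : Cfsg.Lib.Extra.Pair Q z Q' x := ⟨hctx, hctx.conj g, hgQ, hctx.mem_symm hgQ, hne⟩
  have hzx := h.comm_zx
  have hVmem := fun w => h.moved_mem (w := w) hV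
  have hzV : z ∈ V := (hVmem z).2 (Or.inr (Or.inl rfl))
  have hxV : x ∈ V := (hVmem x).2 (Or.inr (Or.inr (Or.inl rfl)))
  have hCV : ∀ w, w ∈ Subgroup.centralizer (V : Set G) ↔ Commute w z ∧ Commute w x := by
    intro w
    refine ⟨fun hw => ⟨(Subgroup.mem_centralizer_iff.1 hw z hzV).symm, (Subgroup.mem_centralizer_iff.1 hw x hxV).symm⟩,
      fun hw => Subgroup.mem_centralizer_iff.2 fun v hv => ?_⟩
    rcases (hVmem v).1 hv with rfl | rfl | rfl | rfl
    exacts [by simp, hw.1.symm.eq, hw.2.symm.eq, (hw.1.mul_right hw.2).symm.eq]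
  have hnormV : ∀ w : G, w * z * w⁻¹ ∈ V → w * x * w⁻¹ ∈ V → w ∈ Subgroup.normalizer (V : Set G) := by
    intro w h1 h2
    refine Subgroup.mem_normalizer_fintype fun v hv => ?_
    rcases (hVmem v).1 hv with rfl | rfl | rfl | rfl
    · simp
    · exact h1
    · exact h2
    · rw [show w * (z * x) * w⁻¹ = w * z * w⁻¹ * (w * x * w⁻¹) by group]; exact mul_mem h1 h2
  have hXN : X ≤ Subgroup.normalizer (V : Set G) := by
    rw [hX]
    refine sup_le (fun q hq => hnormV q ?_ ?_) fun q hq => hnormV q ?_ ?_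
    · rw [(hctx.central q hq).symm.eq, mul_inv_cancel_right]; exact hzV
    · rw [show q * x * q⁻¹ = q * x * q⁻¹ * x⁻¹ * x by group]
      refine mul_mem ?_ hxV
      rcases hctx.comm q hq x hgQ with e | e <;> rw [e]
      exacts [one_mem _, hzV]
    · rw [show q * z * q⁻¹ = q * z * q⁻¹ * z⁻¹ * z by group]
      refine mul_mem ?_ hzV
      rcases h.snd.comm q hq z h.mem_snd with e | e <;> rw [e]
      exacts [one_mem _, hxV]
    · rw [(h.snd.central q hq).symm.eq, mul_inv_cancel_right]; exact hxV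
  have hRC : ∀ w ∈ R, Commute w z ∧ Commute w x := fun w hw => by
    rw [hR] at hw
    exact ⟨Subgroup.mem_centralizer_singleton_iff.1 (h.le_cen hw).1,
      Subgroup.mem_centralizer_singleton_iff.1 (h.le_cen hw).2⟩
  have hRX : R ≤ X := by rw [hR, hX]; exact h.pairR_le_sup
  have hker : R = X ⊓ Subgroup.centralizer (V : Set G) := by
    refine le_antisymm (fun w hw => ⟨hRX hw, (hCV w).2 (hRC w hw)⟩) fun w hw => ?_
    obtain ⟨h1, h2⟩ := (hCV w).1 hw.2
    have h3 := h.kernel rfl rfl (hX ▸ hw.1) h1 h2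
    rw [hR]; exact h3
  -- the action on the three involutions
  let T := {w : G // w = z ∨ w = x ∨ w = z * x}
  have hT : ∀ v : G, (v = z ∨ v = x ∨ v = z * x) ↔ v ∈ V ∧ v ≠ 1 := by
    intro v
    refine ⟨fun hv => ⟨(hVmem v).2 (Or.inr hv), ?_⟩, fun hv => ((hVmem v).1 hv.1).resolve_left hv.2⟩
    rcases hv with e | e | e <;> rw [e]
    exacts [hctx.ne_one, h.snd.ne_one, fun e' => hne (by
      rw [eq_inv_of_mul_eq_one_right e', hctx.inv_z])]
  have hmove : ∀ (w : X) (v : G), (v = z ∨ v = x ∨ v = z * x) ↔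
      ((MulAut.conj (w : G)).toEquiv v = z ∨ (MulAut.conj (w : G)).toEquiv v = x ∨
        (MulAut.conj (w : G)).toEquiv v = z * x) := by
    intro w v
    rw [hT, hT]
    show _ ↔ (w : G) * v * (w : G)⁻¹ ∈ V ∧ (w : G) * v * (w : G)⁻¹ ≠ 1
    exact and_congr (Subgroup.mem_normalizer_iff.1 (hXN w.2) v) (not_congr conj_eq_one_iff.symm)
  let φ : X →* Equiv.Perm T := MonoidHom.mk' (fun w => (MulAut.conj (w : G)).toEquiv.subtypeEquiv (hmove w))
    fun a b => Equiv.ext fun t => Subtype.ext (by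
      show (a : G) * b * t * ((a : G) * b)⁻¹ = a * (b * t * (b : G)⁻¹) * (a : G)⁻¹
      group)
  have hφ : ∀ (w : X) (t : T), ((φ w t : T) : G) = (w : G) * t * (w : G)⁻¹ := fun w t => rfl
  let tz : T := ⟨z, Or.inl rfl⟩
  let tx : T := ⟨x, Or.inr (Or.inl rfl)⟩
  have hkerφ : φ.ker = R.subgroupOf X := by
    ext w
    rw [MonoidHom.mem_ker, Subgroup.mem_subgroupOf, hker]
    refine ⟨fun e => ⟨w.2, (hCV _).2 ?_⟩, fun hw => Equiv.ext fun t => Subtype.ext ?_⟩
    · have e1 := congrArg (fun σ : Equiv.Perm T => ((σ tz : T) : G)) e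
      have e2 := congrArg (fun σ : Equiv.Perm T => ((σ tx : T) : G)) e
      simp only [hφ] at e1 e2
      exact ⟨mul_inv_eq_iff_eq_mul.1 e1, mul_inv_eq_iff_eq_mul.1 e2⟩
    · rw [hφ]
      show (w : G) * t * (w : G)⁻¹ = t
      obtain ⟨h1, h2⟩ := (hCV _).1 hw.2
      rcases t.2 with e | e | e <;> rw [e]
      exacts [mul_inv_eq_iff_eq_mul.2 h1, mul_inv_eq_iff_eq_mul.2 h2, mul_inv_eq_iff_eq_mul.2 (h1.mul_right h2)]
  have hsurj : Function.Surjective φ := by
    intro σ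
    obtain ⟨w, hw, h1, h2⟩ := h.hit (σ tz).2 (σ tx).2 (fun e => hne (congrArg Subtype.val
      (σ.injective (Subtype.ext e))).symm)
    refine ⟨⟨w, hX ▸ hw⟩, Equiv.ext fun t => ?_⟩
    have e3 : ∀ t : T, t = tz ∨ t = tx ∨ (t : G) = z * x := fun t =>
      t.2.imp (fun e => Subtype.ext e) fun e => e.imp (fun e => Subtype.ext e) id
    rcases e3 t with rfl | rfl | e
    · exact Subtype.ext h1
    · exact Subtype.ext h2
    · have hd := h.three_distinct
      have f1 : φ ⟨w, hX ▸ hw⟩ t ≠ σ tz := fun e' => by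
        have h5 : w * t * w⁻¹ = w * z * w⁻¹ := (congrArg Subtype.val e').trans h1.symm
        simp only [mul_left_inj, mul_right_inj] at h5
        exact hd.2.1 (h5.symm.trans e)
      have f2 : φ ⟨w, hX ▸ hw⟩ t ≠ σ tx := fun e' => by
        have h5 : w * t * w⁻¹ = w * x * w⁻¹ := (congrArg Subtype.val e').trans h2.symm
        simp only [mul_left_inj, mul_right_inj] at h5
        exact hd.2.2 (h5.symm.trans e)
      obtain ⟨u, hu⟩ := σ.surjective (φ ⟨w, hX ▸ hw⟩ t)
      rcases e3 u with rfl | rfl | eu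
      · exact absurd hu.symm f1
      · exact absurd hu.symm f2
      · rw [← hu, show u = t from Subtype.ext (eu.trans e.symm)]
  have hcard3 : Nat.card T = 3 := by
    obtain ⟨d1, d2, d3⟩ := h.three_distinct
    exact (Set.ncard_eq_three (s := {w : G | w = z ∨ w = x ∨ w = z * x})).2
      ⟨z, x, z * x, d1, d2, d3, by ext w; simp⟩
  haveI : Finite T := Nat.finite_of_card_ne_zero (by rw [hcard3]; decide)
  let e3 : T ≃ Fin 3 := Finite.equivFinOfCardEq hcard3
  haveI hn : (R.subgroupOf X).Normal := hkerφ ▸ MonoidHom.normal_ker φ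
  let iso : X ⧸ R.subgroupOf X ≃* Equiv.Perm (Fin 3) :=
    ((QuotientGroup.quotientMulEquivOfEq hkerφ.symm).trans
      (QuotientGroup.quotientKerEquivOfSurjective φ hsurj)).trans e3.permCongrHom
  have hR2 : IsPGroup 2 (R.subgroupOf X) := by
    refine IsPGroup.of_equiv ?_ (Subgroup.subgroupOfEquivOfLe hRX).symm
    rw [hR]; exact h.isPGroup_pairR
  have hcore : Cfsg.pCore 2 X = R.subgroupOf X := by
    refine le_antisymm ?_ (Lib.Core.le_pCore' hn hR2)
    intro w hw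
    let ψ : X →* Equiv.Perm (Fin 3) := iso.toMonoidHom.comp (QuotientGroup.mk' _)
    have hψ : Function.Surjective ψ := iso.surjective.comp (QuotientGroup.mk'_surjective _)
    have hbot : Cfsg.pCore 2 (Equiv.Perm (Fin 3)) = ⊥ := by
      rw [eq_bot_iff]
      intro σ hσ
      obtain ⟨k, hk⟩ := Lib.Core.pCore_isPGroup 2 (Equiv.Perm (Fin 3)) ⟨σ, hσ⟩
      have hord : ∀ τ : Equiv.Perm (Fin 3), τ ≠ 1 →
          τ ^ 3 = 1 ∨ ∃ π : Equiv.Perm (Fin 3), (τ * (π * τ * π⁻¹)) ^ 3 = 1 ∧ τ * (π * τ * π⁻¹) ≠ 1 := by decide +kernel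
      have h3 : ∀ τ ∈ Cfsg.pCore 2 (Equiv.Perm (Fin 3)), τ ^ 3 = 1 → τ = 1 := fun τ hτ hτ3 => by
        obtain ⟨k, hk⟩ := Lib.Core.pCore_isPGroup 2 (Equiv.Perm (Fin 3)) ⟨τ, hτ⟩
        exact orderOf_eq_one_iff.1 (Nat.eq_one_of_dvd_coprimes
          (((Nat.coprime_primes Nat.prime_two Nat.prime_three).2 (by decide)).pow_left k)
          (orderOf_dvd_of_pow_eq_one (congrArg Subtype.val hk : τ ^ 2 ^ k = 1)) (orderOf_dvd_of_pow_eq_one hτ3))
      rw [Subgroup.mem_bot]
      by_contra hne'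
      rcases hord σ hne' with e | ⟨π, e1, e2⟩
      · exact hne' (h3 σ hσ e)
      · exact e2 (h3 _ (mul_mem hσ (Subgroup.Normal.conj_mem inferInstance σ hσ π)) e1)
    have h1 : ψ w ∈ Cfsg.pCore 2 (Equiv.Perm (Fin 3)) := Lib.Core.map_pCore_le ψ hψ ⟨w, hw, rfl⟩
    rw [hbot, Subgroup.mem_bot] at h1
    exact (QuotientGroup.eq_one_iff w).1 (iso.injective (h1.trans (map_one iso).symm))
  have hC' : ∀ w ∈ Subgroup.centralizer ({z} : Set G) ⊓ Subgroup.centralizer (V : Set G),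
      w ∈ Subgroup.normalizer (V : Set G) ∧ ∀ u ∈ X, w * u * w⁻¹ ∈ X := fun w hw => by
    obtain ⟨h1, h2⟩ := (hCV w).1 hw.2
    refine ⟨Subgroup.centralizer_le_normalizer _ hw.2, fun u hu => ?_⟩
    rw [hX] at hu ⊢
    have hle : Q ⊔ Q' ≤ (Q ⊔ Q').comap (MulAut.conj w).toMonoidHom := sup_le
      (fun a ha => Subgroup.mem_sup_left ((Subgroup.mem_normalizer_iff.1 (hctx.norm w h1) a).1 ha))
      fun a ha => Subgroup.mem_sup_right ((Subgroup.mem_normalizer_iff.1 (h.snd.norm w h2) a).1 ha)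
    exact hle hu
  have hNV : Subgroup.normalizer (V : Set G) =
      X ⊔ (Subgroup.centralizer ({z} : Set G) ⊓ Subgroup.centralizer (V : Set G)) := by
    refine le_antisymm (fun n hn' => ?_) (sup_le hXN fun w hw => (hC' w hw).1)
    have m : ∀ v ∈ V, v ≠ 1 → n * v * n⁻¹ = z ∨ n * v * n⁻¹ = x ∨ n * v * n⁻¹ = z * x := fun v hv hv1 =>
      (hT _).2 ⟨(Subgroup.mem_normalizer_iff.1 hn' v).1 hv, fun e => hv1 (conj_eq_one_iff.1 e)⟩
    obtain ⟨w, hw, h1, h2⟩ := h.hit (m z hzV hctx.ne_one) (m x hxV h.snd.ne_one)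
      (fun e => hne (by simpa using e.symm))
    rw [← mul_inv_cancel_left w n]
    have hc1 : Commute (w⁻¹ * n) z := mul_inv_eq_iff_eq_mul.1 (by
      calc w⁻¹ * n * z * (w⁻¹ * n)⁻¹ = w⁻¹ * (n * z * n⁻¹) * w := by group
        _ = z := by rw [← h1]; group)
    have hc2 : Commute (w⁻¹ * n) x := mul_inv_eq_iff_eq_mul.1 (by
      calc w⁻¹ * n * x * (w⁻¹ * n)⁻¹ = w⁻¹ * (n * x * n⁻¹) * w := by group
        _ = x := by rw [← h2]; group)
    exact Subgroup.mul_mem_sup (hX ▸ hw) ⟨Subgroup.mem_centralizer_singleton_iff.2 hc1, (hCV _).2 ⟨hc1, hc2⟩⟩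
  refine ⟨hker, ?_, ⟨hn, ⟨iso⟩⟩, hNV, ?_, ?_, ?_, ?_⟩
  · rw [hcore, Subgroup.map_subgroupOf_eq_of_le hRX]
  · intro n hn' u hu
    have hXn : Subgroup.normalizer (V : Set G) ≤ Subgroup.normalizer (X : Set G) := by
      rw [hNV]
      exact sup_le Subgroup.le_normalizer fun w hw => Subgroup.mem_normalizer_fintype fun u hu => (hC' w hw).2 u hu
    exact (Subgroup.mem_normalizer_iff.1 (hXn hn') u).1 hu
  · exact fun w hw => ⟨Subgroup.mem_centralizer_singleton_iff.2 (hRC w hw).1, (hCV w).2 (hRC w hw)⟩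
  · intro u hu c hc
    rw [hker]
    have hcN := hC' c hc
    refine ⟨?_, (hCV _).2 ?_⟩
    · rw [show u * c * u⁻¹ * c⁻¹ = u * (c * u⁻¹ * c⁻¹) by group]
      exact mul_mem hu (hcN.2 _ (inv_mem hu))
    · have hfix : ∀ v ∈ V, c * v * c⁻¹ = v := fun v hv =>
        mul_inv_eq_iff_eq_mul.2 (Subgroup.mem_centralizer_iff.1 hc.2 v hv).symm
      have hfix' : ∀ v ∈ V, c⁻¹ * v * c = v := fun v hv => by
        nth_rewrite 1 [← hfix v hv]; group
      have key : ∀ v ∈ V, Commute (u * c * u⁻¹ * c⁻¹) v := fun v hv => mul_inv_eq_iff_eq_mul.1 (by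
        have hv' : u⁻¹ * v * u ∈ V := by simpa using (Subgroup.mem_normalizer_iff.1 (inv_mem (hXN hu)) v).1 hv
        calc u * c * u⁻¹ * c⁻¹ * v * (u * c * u⁻¹ * c⁻¹)⁻¹ = u * (c * (u⁻¹ * (c⁻¹ * v * c) * u) * c⁻¹) * u⁻¹ := by group
          _ = v := by rw [hfix' v hv, hfix _ hv']; group)
      exact ⟨key z hzV, key x hxV⟩
  · refine le_antisymm (fun w hw => by rw [hker]; exact ⟨hw.1, hw.2.2⟩) fun w hw => ⟨hRX hw,
      Subgroup.mem_centralizer_singleton_iff.2 (hRC w hw).1, (hCV w).2 (hRC w hw)⟩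

end Cfsg.Agent.S5430
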