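import Cfsg.Statements.S5431
import Cfsg.Agent.Lib.Extra.Pair

set_option autoImplicit false
open Cfsg

namespace Cfsg.Agent.S5431

/-- Let Q be a large extraspecial 2-subgroup of the finite group G (extraspecial; centralizer equal to its centre; normal in the centralizer of its centre; normalizing no non-trivial subgroup of odd order) with centre generated by z, an involution, of width w ≥ 2 (order 2^(2w+1)); let g be an element outside the centralizer H of z with g z g⁻¹ in Q; write V for the subgroup generated by z and g z g⁻¹, X for the subgroup generated by Q and g Q g⁻¹, R for the subgroup generated by the centralizer of z in g Q g⁻¹ and the centralizer of g z g⁻¹ in Q, and E for the intersection of Q and g Q g⁻¹. Then V is the centre of R, E lies in the second centre of R, R is nilpotent of class at most 3, E and R/E are elementary abelian, R/E is the direct product of the images of the centralizer of g z g⁻¹ in Q and of the centralizer of z in g Q g⁻¹ (R is their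 product and they meet in E), and the commutator subgroup of X and E lies in V. -/
theorem result {G : Type*} [Group G] [Finite G] (Q : Subgroup G) (hQ : Cfsg.IsLargeExtraspecial Q) (z : G) (hz : ((Subgroup.center ↥Q).map Q.subtype) = Subgroup.zpowers z) (hz2 : orderOf z = 2) (w : ℕ) (hw : 2 ≤ w) (hcard : Nat.card ↥Q = 2 ^ (2 * w + 1)) (g : G) (hgH : g ∉ Subgroup.centralizer ({z} : Set G)) (hgQ : g * z * g⁻¹ ∈ Q) (V X R E : Subgroup G) (hV : V = Subgroup.closure ({z, g * z * g⁻¹} : Set G)) (hX : X = Q ⊔ (Q).map (MulAut.conj g).toMonoidHom) (hR : R = ((Q).map (MulAut.conj g).toMonoidHom ⊓ Subgroup.centralizer ({z} : Set G)) ⊔ (Q ⊓ Subgroup.centralizer ({g * z * g⁻¹} : Set G))) (hE : E = Q ⊓ (Q).map (MulAut.conj g).toMonoidHom) : (Subgroup.center ↥R).map R.subtype = V ∧ E ≤ (Subgroup.upperCentralSeries ↥R 2).map R.subtype ∧ Subgroup.upperCentralSeries ↥R 3 = ⊤ ∧ Cfsg.IsElementaryAbelian 2 E ∧ (∀ x ∈ R, ∀ y ∈ R, x * y * x⁻¹ * y⁻¹ ∈ E ∧ x ^ 2 ∈ E) ∧ ((Q).map (MulAut.conj g).toMonoidHom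 ⊓ Subgroup.centralizer ({z} : Set G)) ⊓ (Q ⊓ Subgroup.centralizer ({g * z * g⁻¹} : Set G)) = E ∧ ⁅X, E⁆ ≤ V := by
  classical
  obtain ⟨hE', hC, hN, -⟩ := hQ
  haveI : Fact (Nat.Prime 2) := ⟨Nat.prime_two⟩
  have hctx := Cfsg.Lib.Extra.ctx_of hE' hC.le hN hz
  set x := g * z * g⁻¹ with hx
  set Q' := Q.map (MulAut.conj g).toMonoidHom with hQ'
  have hne : x ≠ z := fun e => hgH (Subgroup.mem_centralizer_singleton_iff.2 (mul_inv_eq_iff_eq_mul.1 e))
  have h : Cfsg.Lib.Extra.Pair Q z Q' x := ⟨hctx, hctx.conj g, hgQ, hctx.mem_symm hgQ, hne⟩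
  have mc : ∀ {a b : G}, a ∈ Subgroup.centralizer ({b} : Set G) ↔ Commute a b :=
    Subgroup.mem_centralizer_singleton_iff
  have hzx := h.comm_zx
  have hVmem := fun w => h.moved_mem (w := w) hV
  have hzV : z ∈ V := (hVmem z).2 (Or.inr (Or.inl rfl))
  have hxV : x ∈ V := (hVmem x).2 (Or.inr (Or.inr (Or.inl rfl)))
  set A1 := Q' ⊓ Subgroup.centralizer ({z} : Set G) with hA1
  set A2 := Q ⊓ Subgroup.centralizer ({x} : Set G) with hA2
  have hVE : V ≤ E := by
    rw [hV, hE, Subgroup.closure_le]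
    rintro w (rfl | rfl)
    exacts [⟨hctx.mem, h.mem_snd⟩, ⟨h.mem_fst, h.snd.mem⟩]
  have hA12 : A1 ⊓ A2 = E := by
    rw [hE]
    refine le_antisymm (fun w hw => ⟨hw.2.1, hw.1.1⟩) fun w hw =>
      ⟨⟨hw.2, mc.2 (hctx.central w hw.1).symm⟩, hw.1, mc.2 (h.snd.central w hw.2).symm⟩
  have hE1 : E ≤ A1 := hA12 ▸ inf_le_left
  have hE2 : E ≤ A2 := hA12 ▸ inf_le_right
  have hElem : ∀ e ∈ E, ∀ f ∈ E, e * f = f * e ∧ e * e = 1 := by
    intro e he f hf
    rw [hE] at he hf
    refine ⟨?_, ?_⟩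
    · rcases hctx.comm e he.1 f hf.1 with e1 | e1
      · exact mul_inv_eq_iff_eq_mul.1 (mul_inv_eq_one.1 e1)
      rcases h.snd.comm e he.2 f hf.2 with e2 | e2
      · exact mul_inv_eq_iff_eq_mul.1 (mul_inv_eq_one.1 e2)
      · exact absurd (e2.symm.trans e1) hne
    · rcases hctx.sq e he.1 with e1 | e1
      · exact e1
      rcases h.snd.sq e he.2 with e2 | e2
      · exact e2
      · exact absurd (e2.symm.trans e1) hne
  have hcR : ∀ w ∈ R, Commute w z ∧ Commute w x := fun w hw => by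
    rw [hR] at hw; exact ⟨mc.1 (h.le_cen hw).1, mc.1 (h.le_cen hw).2⟩
  have hA1R : A1 ≤ R := hR ▸ le_sup_left
  have hA2R : A2 ≤ R := hR ▸ le_sup_right
  have hER : E ≤ R := hE1.trans hA1R
  -- commutators with `E`
  have hXE : ∀ u ∈ X, u ∈ Subgroup.normalizer (V : Set G) ∧ ∀ e ∈ E, u * e * u⁻¹ * e⁻¹ ∈ V := by
    let S : Subgroup G :=
      { carrier := {u | u ∈ Subgroup.normalizer (V : Set G) ∧ ∀ e ∈ E, u * e * u⁻¹ * e⁻¹ ∈ V}
        one_mem' := ⟨one_mem _, fun e _ => by simp⟩
        mul_mem' := fun {a b} ha hb => ⟨mul_mem ha.1 hb.1, fun e he => by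
          have := mul_mem ((Subgroup.mem_normalizer_iff.1 ha.1 _).1 (hb.2 e he)) (ha.2 e he)
          simpa [mul_assoc] using this⟩
        inv_mem' := fun {a} ha => ⟨inv_mem ha.1, fun e he => by
          have := (Subgroup.mem_normalizer_iff.1 (inv_mem ha.1) _).1 (inv_mem (ha.2 e he))
          simpa [mul_assoc] using this⟩ }
    have key : ∀ {P : Subgroup G} {t : G}, Cfsg.Lib.Extra.Ctx P t → E ≤ P → t ∈ V → V ≤ P → P ≤ S := by
      intro P t hP hEP htV hVP u hu
      have hcm : ∀ e ∈ P, u * e * u⁻¹ * e⁻¹ ∈ V := fun e he => by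
        rcases hP.comm u hu e he with e1 | e1 <;> rw [e1]
        exacts [one_mem _, htV]
      refine ⟨Subgroup.mem_normalizer_fintype fun v hv => ?_, fun e he => hcm e (hEP he)⟩
      have := mul_mem (hcm v (hVP hv)) hv
      rwa [inv_mul_cancel_right] at this
    intro u hu
    refine (?_ : X ≤ S) hu
    rw [hX]
    exact sup_le (key hctx (hE ▸ inf_le_left) hzV (hVE.trans (hE ▸ inf_le_left)))
      (key h.snd (hE ▸ inf_le_right) hxV (hVE.trans (hE ▸ inf_le_right)))
  have hRX : R ≤ X := by rw [hR, hX]; exact h.pairR_le_sup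
  have hcen : (Subgroup.center R).map R.subtype = V := by
    apply le_antisymm
    · rintro w ⟨c, hc, rfl⟩
      have hcm : ∀ p ∈ R, Commute (c : G) p := fun p hp =>
        (congrArg Subtype.val (Subgroup.mem_center_iff.1 hc ⟨p, hp⟩)).symm
      obtain ⟨hcz, hcx⟩ := hcR c c.2
      obtain ⟨⟨y, hy, hyx⟩, -⟩ := h.exists_moves
      set m := (c : G) * y * (c : G)⁻¹ * y⁻¹ with hm
      have hmQ : m ∈ Q := mul_mem ((Subgroup.mem_normalizer_iff.1 (hctx.norm _ hcz) y).1 hy) (inv_mem hy)
      have hmp : ∀ p ∈ Q, Commute p x → Commute m p := by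
        intro p hp hpx
        have hp' : Commute (c : G) p := hcm p (hA2R ⟨hp, mc.2 hpx⟩)
        have hyp : y * p * y⁻¹ ∈ A2 := h.conj_self_mem hy ⟨hp, mc.2 hpx⟩
        have hyp' : y⁻¹ * p * y ∈ A2 := by
          have := h.conj_self_mem (inv_mem hy) (p := p) ⟨hp, mc.2 hpx⟩
          rwa [inv_inv] at this
        refine mul_inv_eq_iff_eq_mul.1 ?_
        calc m * p * m⁻¹ = (c : G) * (y * ((c : G)⁻¹ * (y⁻¹ * p * y) * c) * y⁻¹) * (c : G)⁻¹ := by
              rw [hm]; group
          _ = (c : G) * (y * (y⁻¹ * p * y) * y⁻¹) * (c : G)⁻¹ := by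
            rw [show (c : G)⁻¹ * (y⁻¹ * p * y) * c = y⁻¹ * p * y by
              rw [mul_assoc, ← (hcm _ (hA2R hyp')).eq, inv_mul_cancel_left]]
          _ = p := by rw [show y * (y⁻¹ * p * y) * y⁻¹ = p by group, hp'.eq, mul_inv_cancel_right]
      have hmm : m * y * (m * y) = y * y := by
        rw [hm, inv_mul_cancel_right]
        calc (c : G) * y * (c : G)⁻¹ * ((c : G) * y * (c : G)⁻¹) = c * (y * y) * (c : G)⁻¹ := by group
          _ = y * y := by
            rcases hctx.sq y hy with e | e <;> rw [e]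
            · simp
            · rw [hcz.eq, mul_inv_cancel_right]
      have hfin : ∀ c' : G, Commute c' y → (∀ p ∈ Q, Commute p x → Commute c' p) → c' = 1 ∨ c' = z := by
        intro c' h1 h2
        refine hctx.cent c' fun q hq => ?_
        rcases hctx.commute_or hy hyx hq h.mem_fst with e | e
        · exact h2 q hq e
        · have h3 := h1.inv_right.mul_right (h2 _ (mul_mem hy hq) e)
          rwa [inv_mul_cancel_left] at h3
      have hpc : ∀ p ∈ Q, Commute p x → Commute (c : G) p := fun p hp hpx => hcm p (hA2R ⟨hp, mc.2 hpx⟩)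
      have hxy : x * y = z * (y * x) := by
        calc x * y = z * (z * x * y) := by rw [← mul_assoc, ← mul_assoc, hctx.sq_z, one_mul]
          _ = z * (y * x) := by rw [← hyx, inv_mul_cancel_right]
      have hsq : ∀ u : G, Commute u z → u * u = 1 → u * y = z * (y * u) → u * y * (u * y) ≠ y * y := by
        intro u huz hu2 huy he
        refine hctx.ne_one ?_
        have : z * (y * u) * (u * y) = y * y := by rw [← huy]; exact he
        rwa [mul_assoc, mul_assoc y u, ← mul_assoc u u, hu2, one_mul, mul_eq_right] at this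
      have hm' : m = 1 ∨ m = z := by
        rcases hctx.double_centralizer h.mem_fst h.snd.ne_one hne hmQ (hmp x h.mem_fst (Commute.refl x)) hmp
          with e | e | e | e
        · exact Or.inl e
        · exact Or.inr e
        · exact absurd hmm (e ▸ hsq x hzx.symm h.snd.sq_z hxy)
        · refine absurd hmm (e ▸ hsq (z * x) ((Commute.refl z).mul_left hzx.symm) ?_ ?_)
          · rw [mul_assoc, ← mul_assoc x z, hzx.symm.eq, mul_assoc z x, h.snd.sq_z, mul_one, hctx.sq_z]
          · rw [mul_assoc z x y, hxy, ← mul_assoc y z, ← (hctx.central y hy).eq, mul_assoc z y x]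
      have hcy : (c : G) * y = m * (y * c) := by rw [hm]; group
      show (c : G) ∈ V
      rcases hm' with e | e
      · rw [e, one_mul] at hcy
        rcases hfin c hcy hpc with e' | e' <;> rw [e']
        exacts [one_mem _, hzV]
      · have h1 : Commute ((c : G) * x) y := by
          show (c : G) * x * y = y * ((c : G) * x)
          rw [mul_assoc, hxy, ← mul_assoc, hcz.eq, mul_assoc, ← mul_assoc (c : G) y, hcy, e, mul_assoc z,
            ← mul_assoc z z, hctx.sq_z, one_mul, mul_assoc]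
        have h2 : ∀ p ∈ Q, Commute p x → Commute ((c : G) * x) p := fun p hp hpx =>
          (hpc p hp hpx).mul_left hpx.symm
        rw [show (c : G) = (c : G) * x * x⁻¹ by group]
        rcases hfin _ h1 h2 with e' | e' <;> rw [e']
        exacts [mul_mem (one_mem _) (inv_mem hxV), mul_mem hzV (inv_mem hxV)]
    · intro v hv
      refine ⟨⟨v, hER (hVE hv)⟩, Subgroup.mem_center_iff.2 fun p => Subtype.ext ?_, rfl⟩
      obtain ⟨h1, h2⟩ := hcR p p.2
      show (p : G) * v = v * p
      rcases (hVmem v).1 hv with rfl | rfl | rfl | rfl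
      exacts [by simp, h1.eq, h2.eq, (h1.mul_right h2).eq]
  have hcmE : ∀ a ∈ R, ∀ b ∈ R, a * b * a⁻¹ * b⁻¹ ∈ E ∧ a ^ 2 ∈ E := by
    haveI : (E.subgroupOf R).Normal := (Subgroup.normal_subgroupOf_iff_le_normalizer hER).2 fun u hu =>
      Subgroup.mem_normalizer_fintype fun e he => by
        have := mul_mem (hVE ((hXE u (hRX hu)).2 e he)) he
        rwa [inv_mul_cancel_right] at this
    have hzE : z ∈ E := hVE hzV
    have hxE : x ∈ E := hVE hxV
    let π := QuotientGroup.mk' (E.subgroupOf R)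
    have hone : ∀ w : R, π w = 1 ↔ (w : G) ∈ E := fun w => QuotientGroup.eq_one_iff w
    have hgen : ∀ u : G, u ∈ A1 ∨ u ∈ A2 → u * u ∈ E ∧ ∀ v : G, v ∈ A1 ∨ v ∈ A2 → u * v * u⁻¹ * v⁻¹ ∈ E := by
      intro u hu
      refine ⟨?_, fun v hv => ?_⟩
      · rcases hu with hu | hu
        · rcases h.snd.sq u hu.1 with e | e <;> rw [e]
          exacts [one_mem _, hxE]
        · rcases hctx.sq u hu.1 with e | e <;> rw [e]
          exacts [one_mem _, hzE]
      · rcases hu with hu | hu <;> rcases hv with hv | hv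
        · rcases h.snd.comm u hu.1 v hv.1 with e | e <;> rw [e]
          exacts [one_mem _, hxE]
        · rw [← hA12]
          refine ⟨?_, mul_mem (h.cross_normalizes hu v hv) (A2.inv_mem hv)⟩
          rw [show u * v * u⁻¹ * v⁻¹ = u * (v * u⁻¹ * v⁻¹) by group]
          exact mul_mem hu (h.symm.cross_normalizes hv _ (A1.inv_mem hu))
        · rw [← hA12]
          refine ⟨mul_mem (h.symm.cross_normalizes hu v hv) (A1.inv_mem hv), ?_⟩
          rw [show u * v * u⁻¹ * v⁻¹ = u * (v * u⁻¹ * v⁻¹) by group]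
          exact mul_mem hu (h.cross_normalizes hv _ (A2.inv_mem hu))
        · rcases hctx.comm u hu.1 v hv.1 with e | e <;> rw [e]
          exacts [one_mem _, hzE]
    let T : Subgroup (R ⧸ E.subgroupOf R) := Subgroup.closure {t | ∃ w : R, ((w : G) ∈ A1 ∨ (w : G) ∈ A2) ∧ π w = t}
    have hpair : ∀ s ∈ {t | ∃ w : R, ((w : G) ∈ A1 ∨ (w : G) ∈ A2) ∧ π w = t},
        ∀ t ∈ {t | ∃ w : R, ((w : G) ∈ A1 ∨ (w : G) ∈ A2) ∧ π w = t}, s * t = t * s := by
      rintro _ ⟨a, ha, rfl⟩ _ ⟨b, hb, rfl⟩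
      have e : π (a * b * a⁻¹ * b⁻¹) = 1 := (hone _).2 ((hgen a ha).2 b hb)
      rw [map_mul, map_mul, map_mul, map_inv, map_inv, mul_inv_eq_one, mul_inv_eq_iff_eq_mul] at e
      exact e
    haveI : IsMulCommutative T := Subgroup.isMulCommutative_closure hpair
    have hTall : ∀ w : R, π w ∈ T := fun w => by
      have hle : R ≤ (T.comap π).map R.subtype := by
        nth_rewrite 1 [hR]
        exact sup_le (fun a ha => ⟨⟨a, hA1R ha⟩, Subgroup.subset_closure ⟨⟨a, hA1R ha⟩, Or.inl ha, rfl⟩, rfl⟩)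
          fun a ha => ⟨⟨a, hA2R ha⟩, Subgroup.subset_closure ⟨⟨a, hA2R ha⟩, Or.inr ha, rfl⟩, rfl⟩
      obtain ⟨v, hv, e⟩ := hle w.2
      rw [show w = v from Subtype.ext e.symm]
      exact hv
    have hcommQ : ∀ a b : R, π a * π b = π b * π a := fun a b =>
      congrArg Subtype.val (mul_comm' (⟨π a, hTall a⟩ : T) ⟨π b, hTall b⟩)
    have hsq : ∀ t ∈ T, t * t = 1 := by
      intro t ht
      induction ht using Subgroup.closure_induction with
      | mem t ht => obtain ⟨w, hw, rfl⟩ := ht; rw [← map_mul]; exact (hone _).2 (hgen w hw).1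
      | one => exact one_mul 1
      | mul s t _ _ hs ht =>
        obtain ⟨a, rfl⟩ := QuotientGroup.mk'_surjective _ s
        obtain ⟨b, rfl⟩ := QuotientGroup.mk'_surjective _ t
        calc π a * π b * (π a * π b) = π a * (π b * π a) * π b := by simp only [mul_assoc]
          _ = π a * π a * (π b * π b) := by rw [← hcommQ a b]; simp only [mul_assoc]
          _ = 1 := by rw [hs, ht, one_mul]
      | inv t _ ht => rw [← mul_inv_rev, ht, inv_one]
    intro a ha b hb
    constructor
    · refine (hone (⟨a, ha⟩ * ⟨b, hb⟩ * ⟨a, ha⟩⁻¹ * ⟨b, hb⟩⁻¹)).1 ?_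
      rw [map_mul, map_mul, map_mul, map_inv, map_inv, hcommQ]; group
    · refine (hone (⟨a, ha⟩ ^ 2)).1 ?_
      rw [map_pow, pow_two]; exact hsq _ (hTall _)
  have hZ1 : ∀ v : R, (v : G) ∈ V → v ∈ Subgroup.upperCentralSeries R 1 := fun v hv => by
    rw [← hcen] at hv
    obtain ⟨c, hc, e⟩ := hv
    rw [Subgroup.upperCentralSeries_one, show v = c from Subtype.ext e.symm]
    exact hc
  have hZ2 : ∀ e : R, (e : G) ∈ E → e ∈ Subgroup.upperCentralSeries R 2 := fun e he => by
    rw [Subgroup.mem_upperCentralSeries_succ_iff]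
    intro y
    refine hZ1 _ ?_
    have h1 := inv_mem ((hXE y (hRX y.2)).2 e he)
    simpa [commutatorElement_def, mul_assoc] using h1
  refine ⟨hcen, fun e he => ⟨⟨e, hER he⟩, hZ2 _ he, rfl⟩, ?_, ?_, hcmE, hA12, ?_⟩
  · rw [eq_top_iff]
    intro w _
    rw [Subgroup.mem_upperCentralSeries_succ_iff]
    exact fun y => hZ2 _ (hcmE w w.2 y y.2).1
  · refine ⟨⟨⟨fun a b => Subtype.ext (hElem a a.2 b b.2).1⟩⟩, fun a ha => ?_⟩
    rw [pow_two]; exact (hElem a ha a ha).2
  · rw [Subgroup.commutator_le]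
    intro u hu e he
    exact (hXE u hu).2 e he

end Cfsg.Agent.S5431
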