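import Cfsg.Statements.S5434
import Cfsg.Agent.Lib.Extra.SubExtra

set_option autoImplicit false
open Cfsg
open scoped commutatorElement

namespace Cfsg.Agent.S5434

/-- Let Q be a large extraspecial 2-subgroup of the finite group G (extraspecial; centralizer equal to its centre; normal in the centralizer of its centre; normalizing no non-trivial subgroup of odd order), and A a non-trivial subgroup of odd order of the normalizer of Q. Then Q is the central product of the centralizer of A in Q and the commutator subgroup [Q, A] (they generate Q and commute elementwise), [Q, A] is extraspecial, and the centralizer of A in Q is either the centre of Q or extraspecial. -/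
theorem result {G : Type*} [Group G] [Finite G] (Q : Subgroup G) (hQ : Cfsg.IsLargeExtraspecial Q) (A : Subgroup G) (hA : A ≤ Subgroup.normalizer (Q : Set G)) (hAodd : Odd (Nat.card ↥A)) (hA1 : A ≠ ⊥) : (Q ⊓ Subgroup.centralizer (A : Set G)) ⊔ ⁅Q, A⁆ = Q ∧ (∀ x ∈ Q ⊓ Subgroup.centralizer (A : Set G), ∀ y ∈ ⁅Q, A⁆, x * y = y * x) ∧ Cfsg.IsExtraspecial 2 ↥⁅Q, A⁆ ∧ (Q ⊓ Subgroup.centralizer (A : Set G) = ((Subgroup.center ↥Q).map Q.subtype) ∨ Cfsg.IsExtraspecial 2 ↥(Q ⊓ Subgroup.centralizer (A : Set G))) := by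
  classical
  obtain ⟨hE, hC, hN, -⟩ := hQ
  haveI : Fact (Nat.Prime 2) := ⟨Nat.prime_two⟩
  haveI : IsCyclic ↥((Subgroup.center Q).map Q.subtype) := isCyclic_of_prime_card (p := 2)
      (by rw [Subgroup.card_map_of_injective Q.subtype_injective]; exact hE.2)
  obtain ⟨z, hz⟩ := (Subgroup.isCyclic_iff_exists_zpowers_eq_top _).1 this
  have hX := Cfsg.Lib.Extra.ctx_of hE hC.le hN hz.symm
  have hcop : (Nat.card A).Coprime (Nat.card Q) := by
    obtain ⟨k, hk⟩ := IsPGroup.iff_card.1 hX.two
    rw [hk]; exact (Nat.coprime_two_right.2 hAodd).pow_right k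
  haveI : Group.IsNilpotent Q := hX.two.isNilpotent
  have hsol : Group.IsSolvable A ∨ Group.IsSolvable Q := Or.inr inferInstance
  set C := Q ⊓ Subgroup.centralizer (A : Set G) with hCdef
  set M := ⁅Q, A⁆ with hMdef
  have hsup : C ⊔ M = Q := by rw [sup_comm]; exact Lib.Coprime.commutator_sup_centralizer_eq hA hcop hsol
  have hMQ : M ≤ Q := Lib.Coprime.commutator_le_of_le_normalizer hA
  have hAz : ∀ x ∈ A, Commute x z := by
    intro x hx
    have hfix : x * z * x⁻¹ = 1 ∨ x * z * x⁻¹ = z := hX.cent _ fun q hq => by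
      have hq' : x⁻¹ * q * x ∈ Q := by simpa using (Subgroup.mem_normalizer_iff.1 (hA (inv_mem hx)) q).1 hq
      simpa [mul_assoc] using (Commute.conj_iff x).2 (hX.central _ hq')
    rcases hfix with h | h
    · exact absurd (conj_eq_one_iff.1 h) hX.ne_one
    · exact mul_inv_eq_iff_eq_mul.1 h
  have h0 : ∀ S : Subgroup G, (∀ s ∈ S, s = 1 ∨ s = z) → ⁅S, A⁆ = ⊥ := fun S hS => by
    rw [Subgroup.commutator_eq_bot_iff_le_centralizer]
    intro s hs
    refine Subgroup.mem_centralizer_iff.2 fun x hx => ?_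
    rcases hS s hs with rfl | rfl
    · simp
    · exact hAz x hx
  have hcomm : ∀ x ∈ C, ∀ y ∈ M, Commute x y := by
    have h1 : ⁅⁅C, Q⁆, A⁆ = ⊥ := h0 _ fun s hs => by
      have hle : ⁅C, Q⁆ ≤ Subgroup.zpowers z := by
        rw [Subgroup.commutator_le]
        intro a ha b hb
        rcases hX.comm a ha.1 b hb with h | h <;> rw [commutatorElement_def, h]
        exacts [one_mem _, Subgroup.mem_zpowers z]
      obtain ⟨k, rfl⟩ := Subgroup.mem_zpowers_iff.1 (hle hs)
      have hz2 : orderOf z = 2 := orderOf_eq_prime (by rw [pow_two]; exact hX.sq_z) hX.ne_one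
      rw [← zpow_mod_orderOf z k, hz2]
      rcases Int.emod_two_eq k with e | e <;> norm_num [e]
    have h2 : ⁅⁅A, C⁆, Q⁆ = ⊥ := by
      have : ⁅A, C⁆ = ⊥ := by
        rw [Subgroup.commutator_comm, Subgroup.commutator_eq_bot_iff_le_centralizer]
        exact inf_le_right
      rw [this, Subgroup.commutator_bot_left]
    have h3 := Subgroup.commutator_commutator_eq_bot_of_rotate (H₁ := Q) (H₂ := A) (H₃ := C) h2 h1
    rw [Subgroup.commutator_eq_bot_iff_le_centralizer] at h3
    exact fun x hx y hy => Subgroup.mem_centralizer_iff.1 (h3 hy) x hx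
  have hcent : ∀ x ∈ Q, (∀ a ∈ C, Commute x a) → (∀ a ∈ M, Commute x a) → x = 1 ∨ x = z := fun x _ h1 h2 => by
    refine hX.cent x fun q hq => ?_
    have hle : C ⊔ M ≤ Subgroup.centralizer {x} := sup_le
      (fun a ha => Subgroup.mem_centralizer_singleton_iff.2 (h1 a ha).symm)
      (fun a ha => Subgroup.mem_centralizer_singleton_iff.2 (h2 a ha).symm)
    exact (Subgroup.mem_centralizer_singleton_iff.1 (hle (hsup.symm ▸ hq))).symm
  have hQA : ⁅Q, A⁆ ≠ ⊥ := fun h => hA1 (by
    rw [Subgroup.commutator_eq_bot_iff_le_centralizer, Subgroup.le_centralizer_iff, hC] at h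
    refine Subgroup.eq_bot_of_card_eq _ ?_
    have hd := Subgroup.card_dvd_of_le h
    rw [Subgroup.card_map_of_injective Q.subtype_injective, hE.2] at hd
    rcases (Nat.dvd_prime Nat.prime_two).1 hd with e | e
    · exact e
    · rw [e] at hAodd; exact absurd hAodd (by decide))
  refine ⟨hsup, fun x hx y hy => hcomm x hx y hy, hX.extraspecial_of hMQ ?_ fun x hx h =>
    hcent x (hMQ hx) (fun a ha => (hcomm a ha x hx).symm) h, ?_⟩
  · by_contra hcon
    push Not at hcon
    exact hQA (Lib.Coprime.commutator_eq_bot_of_commutator_commutator_eq_bot hA hcop hsol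
      (h0 M fun y hy => hcent y (hMQ hy) (fun a ha => (hcomm a ha y hy).symm) (fun a ha => hcon y hy a ha)))
  · by_cases hab : ∃ a ∈ C, ∃ b ∈ C, ¬ Commute a b
    · exact Or.inr (hX.extraspecial_of inf_le_left hab fun x hx h =>
        hcent x hx.1 h (hcomm x hx))
    push Not at hab
    left
    rw [← hz]
    refine le_antisymm (fun x hx => ?_) (Subgroup.zpowers_le.2 ⟨hX.mem,
      Subgroup.mem_centralizer_iff.2 fun a ha => (hAz a ha).eq⟩)
    rcases hcent x hx.1 (fun a ha => hab x hx a ha) (hcomm x hx) with rfl | rfl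
    exacts [one_mem _, Subgroup.mem_zpowers x]

end Cfsg.Agent.S5434
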