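import Cfsg.Statements.S5435
import Cfsg.Agent.Lib.PGroup.Basic
import Cfsg.Agent.Lib.ZStar.Main
import Cfsg.Agent.Lib.Local.TwoTransfer
import Cfsg.Agent.Lib.TwoGroup.Models

set_option autoImplicit false
open Cfsg

namespace Cfsg.Agent.S5435

/-- Let L be a finite non-abelian simple group with an involution z whose centralizer R is a Sylow 2-subgroup of L whose Frattini subgroup is the subgroup generated by z. Then R is dihedral of order 8. -/
theorem result {L : Type*} [Group L] [Finite L] [IsSimpleGroup L] (hL : ¬ IsMulCommutative L) (z : L) (hz : orderOf z = 2) (R : Sylow 2 L) (hR : (R : Subgroup L) = Subgroup.centralizer ({z} : Set L)) (hΦ : (frattini ↥(R : Subgroup L)).map (R : Subgroup L).subtype = Subgroup.zpowers z) : Nonempty (↥(R : Subgroup L) ≃* DihedralGroup 4) := by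
  classical
  haveI : Fact (Nat.Prime 2) := ⟨Nat.prime_two⟩
  set S : Subgroup L := (R : Subgroup L) with hSdef
  have hzc : ∀ x : L, x ∈ S ↔ z * x = x * z := fun x => by
    rw [hR, Subgroup.mem_centralizer_singleton_iff]; exact eq_comm
  have hSp : IsPGroup 2 ↥S := R.2
  have hz2 : z * z = 1 := by rw [← pow_two, ← hz, pow_orderOf_eq_one]
  have hz1 : z ≠ 1 := fun h => by simp [h] at hz
  have hzS : z ∈ S := (hzc z).2 rfl
  have hmemz : ∀ x : L, x ∈ Subgroup.zpowers z → x = 1 ∨ x = z := by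
    intro x hx
    obtain ⟨k, rfl⟩ := Subgroup.mem_zpowers_iff.1 hx
    obtain ⟨m, rfl | rfl⟩ := Int.even_or_odd' k
    · left; rw [zpow_mul, zpow_two, hz2, one_zpow]
    · right; rw [zpow_add_one, zpow_mul, zpow_two, hz2, one_zpow, one_mul]
  have hphi : ∀ x : ↥S, x ∈ frattini ↥S → (x : L) = 1 ∨ (x : L) = z := fun x hx =>
    hmemz _ (hΦ ▸ Subgroup.mem_map_of_mem S.subtype hx)
  have hsq : ∀ x ∈ S, x * x = 1 ∨ x * x = z := by
    intro x hx
    have := hphi (⟨x, hx⟩ ^ 2) (Cfsg.Lib.PGroup.pow_mem_frattini hSp _)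
    simpa [pow_two] using this
  have hcomm : ∀ x ∈ S, ∀ y ∈ S, x * y * x⁻¹ * y⁻¹ = 1 ∨ x * y * x⁻¹ * y⁻¹ = z := by
    intro x hx y hy
    have := hphi _ (Cfsg.Lib.PGroup.commutator_le_frattini hSp
      (Subgroup.commutator_mem_commutator (Subgroup.mem_top (⟨x, hx⟩ : ↥S))
        (Subgroup.mem_top (⟨y, hy⟩ : ↥S))))
    simpa [commutatorElement_def] using this
  -- some square is `z`
  obtain ⟨x₀, hx₀, hx₀z⟩ : ∃ x ∈ S, x * x = z := by
    by_contra hno
    push Not at hno
    have h1 : ∀ x : ↥S, x * x = 1 := fun x =>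
      Subtype.ext ((hsq x x.2).resolve_right (hno x x.2))
    have habel : ∀ x y : ↥S, x * y = y * x := fun x y => by
      have h := h1 (x * y)
      calc x * y = x * (x * y * (x * y)) * y := by rw [h, mul_one]
        _ = (x * x) * (y * x) * (y * y) := by simp only [mul_assoc]
        _ = y * x := by rw [h1 x, h1 y, one_mul, mul_one]
    have hbot : frattini ↥S ≤ ⊥ := by
      refine Cfsg.Lib.PGroup.frattini_le_of_commutator_le_of_pow_mem (p := 2) ?_
        (fun g => by rw [Subgroup.mem_bot, pow_two, h1 g])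
      rw [commutator_def, Subgroup.commutator_le]
      intro a _ b _
      rw [Subgroup.mem_bot, commutatorElement_def, habel a b, mul_inv_cancel_right, mul_inv_cancel]
    rw [le_bot_iff.1 hbot, Subgroup.map_bot] at hΦ
    exact hz1 (Subgroup.mem_bot.1 (hΦ.symm ▸ Subgroup.mem_zpowers z))
  have hnorm : ∀ n ∈ Subgroup.normalizer (S : Set L), n * z * n⁻¹ = z := by
    intro n hn
    have h1 : n * x₀ * n⁻¹ ∈ S := (Subgroup.mem_normalizer_iff.1 hn x₀).1 hx₀
    have h2 : n * x₀ * n⁻¹ * (n * x₀ * n⁻¹) = n * z * n⁻¹ := by rw [← hx₀z]; group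
    rcases hsq _ h1 with h | h
    · rw [h2] at h
      exact absurd (conj_eq_one_iff.1 h) hz1
    · rw [h2] at h
      exact h
  -- another conjugate of `z` in `S`
  obtain ⟨g, hgz, hgne⟩ : ∃ g : L, Commute z (g * z * g⁻¹) ∧ g * z * g⁻¹ ≠ z := by
    by_contra hno
    push Not at hno
    have hiso : Cfsg.IsIsolatedInvolution z := ⟨hz, hno⟩
    have hO : Cfsg.oddCore L = ⊥ := by
      have hnorm' : (Cfsg.oddCore L).Normal := by
        first | infer_instance | exact Cfsg.Lib.Core.pPrimeCore_normal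
      refine (hnorm'.eq_bot_or_eq_top).resolve_right fun h => ?_
      exact Cfsg.Lib.ZStar.notMem_oddCore hz (h ▸ Subgroup.mem_top z)
    have hzZ := Cfsg.Lib.ZStar.mem_center_of_isolated hO hiso
    rcases (inferInstance : (Subgroup.center L).Normal).eq_bot_or_eq_top with h | h
    · exact hz1 (Subgroup.mem_bot.1 (h ▸ hzZ))
    · exact hL ⟨⟨fun a b => Subgroup.mem_center_iff.1 (h ▸ Subgroup.mem_top b) a⟩⟩
  set t := g * z * g⁻¹ with htdef
  have htS : t ∈ S := (hzc t).2 hgz.eq
  have ht2 : t * t = 1 := by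
    calc t * t = g * (z * z) * g⁻¹ := by rw [htdef]; group
      _ = 1 := by rw [hz2, mul_one, mul_inv_cancel]
  have ht1 : t ≠ 1 := fun h => hz1 (conj_eq_one_iff.1 h)
  -- the centralizer of `t` in `S` has exponent two
  have hexp : ∀ x ∈ S, x * t = t * x → x * x = 1 := by
    intro x hx hxt
    have hy : g⁻¹ * x * g ∈ S := (hzc _).2 <| by
      calc z * (g⁻¹ * x * g) = g⁻¹ * (t * x) * g := by rw [htdef]; group
        _ = g⁻¹ * (x * t) * g := by rw [hxt]
        _ = g⁻¹ * x * g * z := by rw [htdef]; group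
    have hxx : g⁻¹ * x * g * (g⁻¹ * x * g) = g⁻¹ * (x * x) * g := by group
    rcases hsq x hx with h | h
    · exact h
    · rcases hsq _ hy with h' | h'
      · rw [hxx, h] at h'
        exact absurd (by simpa using (conj_eq_one_iff (a := g⁻¹) (b := z)).1 (by simpa using h')) hz1
      · rw [hxx, h] at h'
        exfalso
        apply hgne
        calc g * z * g⁻¹ = g * (g⁻¹ * z * g) * g⁻¹ := by rw [h']
          _ = z := by group
  have hx₀t : x₀ * t ≠ t * x₀ := fun h => hz1 (hx₀z.symm.trans (hexp x₀ hx₀ h))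
  have hflip : ∀ x ∈ S, x * t ≠ t * x → x * t * x⁻¹ = z * t := by
    intro x hx hne
    rcases hcomm x hx t htS with h | h
    · refine absurd ?_ hne
      calc x * t = x * t * x⁻¹ * t⁻¹ * (t * x) := by group
        _ = t * x := by rw [h, one_mul]
    · calc x * t * x⁻¹ = x * t * x⁻¹ * t⁻¹ * t := by group
        _ = z * t := by rw [h]
  have htwo : ∀ x ∈ S, x * t ≠ t * x → (x₀⁻¹ * x) * t = t * (x₀⁻¹ * x) := by
    intro x hx hne
    have h1 := hflip x hx hne
    have h2 := hflip x₀ hx₀ hx₀t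
    calc (x₀⁻¹ * x) * t = x₀⁻¹ * (x * t * x⁻¹) * x := by group
      _ = x₀⁻¹ * (x₀ * t * x₀⁻¹) * x := by rw [h1, h2]
      _ = t * (x₀⁻¹ * x) := by group
  -- the centre of `S` is `⟨z⟩`
  have hcentre : ∀ u ∈ S, (∀ x ∈ S, x * u = u * x) → u = 1 ∨ u = z := by
    intro u hu hall
    have hu2 : u * u = 1 := hexp u hu (hall t htS).symm
    by_contra hne
    push Not at hne
    have hnotΦ : (⟨u, hu⟩ : ↥S) ∉ frattini ↥S := fun h => by
      rcases hphi _ h with h | h
      exacts [hne.1 h, hne.2 h]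
    obtain ⟨M, hM, huM⟩ : ∃ M : Subgroup ↥S, IsCoatom M ∧ (⟨u, hu⟩ : ↥S) ∉ M := by
      by_contra hno
      push Not at hno
      refine hnotΦ ?_
      simp only [frattini, Order.radical, Subgroup.mem_iInf]
      exact hno
    haveI hMn : M.Normal := Cfsg.Lib.PGroup.normal_of_isCoatom hSp hM
    have hidx : M.index = 2 := Cfsg.Lib.PGroup.index_of_isCoatom hSp hM
    have hNfix : ∀ n ∈ Subgroup.normalizer (S : Set L), n * u * n⁻¹ = u := by
      intro n hn
      have hnS : n ∈ S := (hzc n).2 (by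
        calc z * n = n * z * n⁻¹ * n := by rw [hnorm n hn]
          _ = n * z := by group)
      rw [hall n hnS, mul_inv_cancel_right]
    obtain ⟨f, hf⟩ := Cfsg.Lib.Local.exists_hom_of_central_involution R hu
      (Subgroup.mem_centralizer_iff.2 fun x hx => hall x hx) hu2 M hidx huM hNfix
    rcases (MonoidHom.normal_ker f).eq_bot_or_eq_top with h | h
    · have hinj : Function.Injective f := (MonoidHom.ker_eq_bot_iff f).1 h
      haveI : IsCyclic (↥S ⧸ M) := isCyclic_of_prime_card (p := 2) hidx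
      exact hL ⟨⟨fun a b => hinj (by
        obtain ⟨c, hc⟩ := IsCyclic.exists_generator (α := ↥S ⧸ M)
        obtain ⟨i, hi⟩ := Subgroup.mem_zpowers_iff.1 (hc (f a))
        obtain ⟨j, hj⟩ := Subgroup.mem_zpowers_iff.1 (hc (f b))
        rw [map_mul, map_mul, ← hi, ← hj, ← zpow_add, ← zpow_add, add_comm])⟩⟩
    · exact hf (MonoidHom.mem_ker.1 (h ▸ Subgroup.mem_top u))
  -- the centralizer of `t` in `S` is a four group
  have hfour : ∀ d ∈ S, d * t = t * d → d = 1 ∨ d = z ∨ d = t ∨ d = z * t := by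
    have hgen : ∀ d ∈ S, d * t = t * d → x₀ * d = d * x₀ → d = 1 ∨ d = z := by
      intro d hd hdt hd0
      refine hcentre d hd fun x hx => ?_
      have key : ∀ a ∈ S, a * t = t * a → a * d = d * a := by
        intro a ha hat
        have h1 := hexp a ha hat
        have h2 := hexp d hd hdt
        have h3 := hexp (a * d) (mul_mem ha hd) (by rw [mul_assoc, hdt, ← mul_assoc, hat, mul_assoc])
        calc a * d = a * (a * d * (a * d)) * d := by rw [h3, mul_one]
          _ = (a * a) * (d * a) * (d * d) := by simp only [mul_assoc]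
          _ = d * a := by rw [h1, h2, one_mul, mul_one]
      by_cases hxt : x * t = t * x
      · exact key x hx hxt
      · have h := key _ (mul_mem (inv_mem hx₀) hx) (htwo x hx hxt)
        calc x * d = x₀ * (x₀⁻¹ * x * d) := by group
          _ = x₀ * (d * (x₀⁻¹ * x)) := by rw [h]
          _ = x₀ * d * (x₀⁻¹ * x) := by group
          _ = d * x₀ * (x₀⁻¹ * x) := by rw [hd0]
          _ = d * x := by group
    intro d hd hdt
    rcases hcomm x₀ hx₀ d hd with h | h
    · have hd0 : x₀ * d = d * x₀ := by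
        calc x₀ * d = x₀ * d * x₀⁻¹ * d⁻¹ * (d * x₀) := by group
          _ = d * x₀ := by rw [h, one_mul]
      rcases hgen d hd hdt hd0 with e | e
      exacts [Or.inl e, Or.inr (Or.inl e)]
    · have h2 := hflip x₀ hx₀ hx₀t
      have hzd : z * d = d * z := (hzc d).1 hd
      have h1 : x₀ * d = z * d * x₀ := by
        calc x₀ * d = x₀ * d * x₀⁻¹ * d⁻¹ * (d * x₀) := by group
          _ = z * d * x₀ := by rw [h, mul_assoc]
      have h3 : x₀ * t = z * t * x₀ := by rw [← h2]; group
      have hdt0 : x₀ * (d * t) = d * t * x₀ := by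
        calc x₀ * (d * t) = x₀ * d * t := by rw [mul_assoc]
          _ = z * d * (x₀ * t) := by rw [h1, mul_assoc]
          _ = z * d * (z * t * x₀) := by rw [h3]
          _ = (z * d) * z * t * x₀ := by group
          _ = (d * z) * z * t * x₀ := by rw [hzd]
          _ = d * t * x₀ := by rw [mul_assoc d z z, hz2, mul_one]
      rcases hgen (d * t) (mul_mem hd htS) ((Commute.mul_left (hdt : Commute d t) (Commute.refl t)).eq)
        hdt0 with e | e
      · right; right; left
        calc d = d * t * t := by rw [mul_assoc, ht2, mul_one]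
          _ = t := by rw [e, one_mul]
      · right; right; right
        calc d = d * t * t := by rw [mul_assoc, ht2, mul_one]
          _ = z * t := by rw [e]
  have hx4 : orderOf x₀ = 4 := by
    refine orderOf_eq_prime_pow (p := 2) (n := 1) ?_ ?_
    · simpa [pow_two, hx₀z] using hz1
    · rw [show (2 : ℕ) ^ (1 + 1) = 2 * 2 from rfl, pow_mul, pow_two x₀, hx₀z, pow_two, hz2]
  have hinv : t * x₀ * t⁻¹ = x₀⁻¹ := by
    have h3 : x₀ * t = z * t * x₀ := by rw [← hflip x₀ hx₀ hx₀t]; group
    have hti : t⁻¹ = t := inv_eq_of_mul_eq_one_left ht2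
    have hzx : x₀⁻¹ = x₀ * z := inv_eq_of_mul_eq_one_left (by
      rw [mul_assoc, (hzc x₀).1 hx₀, ← mul_assoc, hx₀z, hz2])
    rw [hti, hzx, mul_assoc, h3]
    calc t * (z * t * x₀) = (t * z) * t * x₀ := by group
      _ = (z * t) * t * x₀ := by rw [(hzc t).1 htS]
      _ = z * x₀ := by rw [mul_assoc z, ht2, mul_one]
      _ = x₀ * z := (hzc x₀).1 hx₀
  have htnot : t ∉ Subgroup.zpowers x₀ := fun h => by
    obtain ⟨k, hk⟩ := Subgroup.mem_zpowers_iff.1 h
    apply hx₀t
    rw [← hk]
    exact (Commute.refl x₀).zpow_right k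
  have hSeq : Subgroup.closure ({x₀, t} : Set L) = S := by
    refine le_antisymm ((Subgroup.closure_le _).2 (by
      rintro a (rfl | rfl)
      · exact hx₀
      · exact htS)) ?_
    intro a ha
    have hx0 := Cfsg.Lib.TwoGroup.mem_closure_left x₀ t
    have htm := Cfsg.Lib.TwoGroup.mem_closure_right x₀ t
    have hzm : z ∈ Subgroup.closure ({x₀, t} : Set L) := hx₀z ▸ mul_mem hx0 hx0
    have key : ∀ d ∈ S, d * t = t * d → d ∈ Subgroup.closure ({x₀, t} : Set L) := by
      intro d hd hdt
      rcases hfour d hd hdt with e | e | e | e <;> rw [e]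
      exacts [one_mem _, hzm, htm, mul_mem hzm htm]
    by_cases hat : a * t = t * a
    · exact key a ha hat
    · rw [show a = x₀ * (x₀⁻¹ * a) by group]
      exact mul_mem hx0 (key _ (mul_mem (inv_mem hx₀) ha) (htwo a ha hat))
  obtain ⟨e⟩ := Cfsg.Lib.TwoGroup.equiv_dihedral ht2 hinv htnot
  rw [hx4] at e
  exact ⟨(MulEquiv.subgroupCongr hSeq.symm).trans e⟩

end Cfsg.Agent.S5435
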