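import Cfsg.Statements.S5436
import Cfsg.Agent.Lib.Extra.Structure
import Cfsg.Agent.S5433

set_option autoImplicit false
open Cfsg

namespace Cfsg.Agent.S5436

/-- Let z be an involution of the finite group G with centralizer H whose generalized Fitting subgroup Q is extraspecial of width at least 2 (order 2^(2w+1), w ≥ 2); suppose some conjugate of z other than z lies in Q, H/Q is a non-abelian simple group, H acts irreducibly by conjugation on Q modulo the subgroup generated by z (the only H-invariant subgroups of Q containing z are that subgroup and Q), and Q is not the subgroup generated by the conjugates of z lying in H. Then G is simple. -/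
theorem result {G : Type*} [Group G] [Finite G] (z : G) (hz : orderOf z = 2) (Q : Subgroup (Subgroup.centralizer ({z} : Set G))) [Q.Normal] (hF : Cfsg.generalizedFittingSubgroup ↥(Subgroup.centralizer ({z} : Set G)) = Q) (hQ : Cfsg.IsExtraspecial 2 ↥Q) (w : ℕ) (hw : 2 ≤ w) (hcard : Nat.card ↥Q = 2 ^ (2 * w + 1)) (hnwc : ∃ g : G, (∃ hq : g * z * g⁻¹ ∈ Subgroup.centralizer ({z} : Set G), (⟨g * z * g⁻¹, hq⟩ : Subgroup.centralizer ({z} : Set G)) ∈ Q) ∧ g * z * g⁻¹ ≠ z) (hsimp : IsSimpleGroup (↥(Subgroup.centralizer ({z} : Set G)) ⧸ Q)) (hna : ¬ IsMulCommutative (↥(Subgroup.centralizer ({z} : Set G)) ⧸ Q)) (hirr : ∀ W : Subgroup (Subgroup.centralizer ({z} : Set G)), W.Normal → W ≤ Q → (W = Q ∨ ∀ x ∈ W, (x : G) ∈ Subgroup.zpowers z)) (hwcl : Subgroup.closure {x : Subgroup.centralizer ({z} : Set G) | IsConj z (x : G)} ≠ Q) : IsSimpleGroup G := by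
  classical
  haveI : Fact (Nat.Prime 2) := ⟨Nat.prime_two⟩
  set Qg : Subgroup G := Q.map (Subgroup.centralizer ({z} : Set G)).subtype with hQg
  have hQC : Qg ≤ (Subgroup.centralizer ({z} : Set G)) := Subgroup.map_subtype_le _
  have hE : Cfsg.IsExtraspecial 2 ↥Qg :=
    Cfsg.Lib.Extra.isExtraspecial_congr (Q.equivMapOfInjective (Subgroup.centralizer ({z} : Set G)).subtype (Subgroup.centralizer ({z} : Set G)).subtype_injective) hQ
  have hF' : (Cfsg.generalizedFittingSubgroup ↥(Subgroup.centralizer ({z} : Set G))).map (Subgroup.centralizer ({z} : Set G)).subtype = Qg := by rw [hF]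
  obtain ⟨g, ⟨hgC, hgQ⟩, hgne⟩ := hnwc
  have hgQ' : g * z * g⁻¹ ∈ Qg := ⟨⟨_, hgC⟩, hgQ, rfl⟩
  have hL := Cfsg.Lib.Extra.large_of_fitting hz hQC hF' hE hgQ' hgne
  obtain ⟨hcen, -, -, hX⟩ := Cfsg.Lib.Extra.of_fitting hz hQC hF' hE
  haveI : Nontrivial G := ⟨⟨z, 1, hX.ne_one⟩⟩
  refine ⟨fun N hNn => ?_⟩
  rcases eq_or_ne N ⊥ with h | hN
  · exact Or.inl h
  right
  have hzN : z ∈ N := hX.mem_of_normalized hL.2.2.2 Subgroup.le_normalizer_of_normal hN
  have hconjN : ∀ h : G, h * z * h⁻¹ ∈ N := fun h => hNn.conj_mem z hzN h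
  set W : Subgroup (Subgroup.centralizer ({z} : Set G)) := Subgroup.closure {x : (Subgroup.centralizer ({z} : Set G)) | IsConj z (x : G)} with hW
  haveI hWn : W.Normal := by
    refine ⟨fun w hw c => ?_⟩
    induction hw using Subgroup.closure_induction with
    | mem w hw =>
      refine Subgroup.subset_closure ?_
      show IsConj z ((c * w * c⁻¹ : (Subgroup.centralizer ({z} : Set G))) : G)
      exact hw.trans (_root_.isConj_iff.2 ⟨(c : G), rfl⟩)
    | one => simp
    | mul a b _ _ ha hb =>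
      rw [show c * (a * b) * c⁻¹ = c * a * c⁻¹ * (c * b * c⁻¹) by group]
      exact mul_mem ha hb
    | inv a _ ha =>
      rw [show c * a⁻¹ * c⁻¹ = (c * a * c⁻¹)⁻¹ by group]
      exact inv_mem ha
  have hWN : W ≤ N.subgroupOf (Subgroup.centralizer ({z} : Set G)) := by
    rw [hW, Subgroup.closure_le]
    intro w hw
    obtain ⟨h, hh⟩ := _root_.isConj_iff.1 (hw : IsConj z (w : G))
    show (w : G) ∈ N
    rw [← hh]; exact hconjN h
  have hxW : (⟨_, hgC⟩ : (Subgroup.centralizer ({z} : Set G))) ∈ W := Subgroup.subset_closure (_root_.isConj_iff.2 ⟨g, rfl⟩)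
  have hQW : Q ≤ W := by
    rcases hirr (W ⊓ Q) inferInstance inf_le_right with h | h
    · exact h.ge.trans inf_le_left
    · have hx := h _ ⟨hxW, hgQ⟩
      rw [← hcen] at hx
      obtain ⟨k, hk⟩ := Subgroup.mem_zpowers_iff.1 (hcen ▸ hx)
      exfalso
      rw [← zpow_mod_orderOf z k, hz] at hk
      rcases Int.emod_two_eq k with e | e
      · rw [show (((2 : ℕ) : ℤ)) = 2 from rfl, e, zpow_zero] at hk
        exact hX.ne_one (conj_eq_one_iff.1 hk.symm)
      · rw [show (((2 : ℕ) : ℤ)) = 2 from rfl, e, zpow_one] at hk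
        exact hgne hk.symm
  have hWtop : W = ⊤ := by
    haveI := hsimp
    rcases (hWn.map (QuotientGroup.mk' Q) (QuotientGroup.mk'_surjective Q)).eq_bot_or_eq_top with h | h
    · rw [Subgroup.map_eq_bot_iff, QuotientGroup.ker_mk'] at h
      exact absurd (le_antisymm h hQW) hwcl
    · have h1 := congrArg (Subgroup.comap (QuotientGroup.mk' Q)) h
      rwa [Subgroup.comap_map_eq, QuotientGroup.ker_mk', Subgroup.comap_top, sup_eq_left.2 hQW] at h1
  have hCN : (Subgroup.centralizer ({z} : Set G)) ≤ N := fun c hc => hWN (hWtop ▸ Subgroup.mem_top (⟨c, hc⟩ : (Subgroup.centralizer ({z} : Set G))))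
  have hfr := Cfsg.Agent.S5433.result Qg hL N (hQC.trans hCN)
  rw [eq_top_iff, ← hfr]
  exact sup_le le_rfl fun n hn => hCN (Subgroup.mem_centralizer_singleton_iff.2 (hX.normalizer_commute hn).eq)

end Cfsg.Agent.S5436
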