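import Cfsg.Statements.S5437
import Mathlib

set_option autoImplicit false
open Cfsg

namespace Cfsg.Agent.S5437

/-- Let I be a set of involutions of the finite group G closed under conjugation, and H a subgroup of G. The following are equivalent: (1) for every member x of I lying in H, the conjugates of x lying in H form a single H-class and the centralizer of x lies in H; (2) for every g outside H, no member of I lies in both H and g H g⁻¹; (3) every member of I lying in H fixes exactly one coset in the action of G on the cosets of H. -/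
theorem result {G : Type*} [Group G] [Finite G] (I : Set G) (hI : ∀ x ∈ I, orderOf x = 2) (hIc : ∀ g : G, ∀ x ∈ I, g * x * g⁻¹ ∈ I) (H : Subgroup G) : ((∀ x ∈ I, x ∈ H → (∀ g : G, g * x * g⁻¹ ∈ H → ∃ h ∈ H, h * x * h⁻¹ = g * x * g⁻¹) ∧ Subgroup.centralizer ({x} : Set G) ≤ H) ↔ (∀ g : G, g ∉ H → ∀ x ∈ I, ¬ (x ∈ H ∧ x ∈ (H : Subgroup G).map (MulAut.conj g).toMonoidHom))) ∧ ((∀ g : G, g ∉ H → ∀ x ∈ I, ¬ (x ∈ H ∧ x ∈ (H : Subgroup G).map (MulAut.conj g).toMonoidHom)) ↔ ∀ x ∈ I, x ∈ H → ∃! c : G ⧸ H, x • c = c) := by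
  refine ⟨⟨?_, ?_⟩, ?_, ?_⟩
  · intro h g hg x hx ⟨hxH, y, hy, hyx⟩
    apply hg
    obtain ⟨h1, h2⟩ := h x hx hxH
    have hyx' : g * y * g⁻¹ = x := hyx
    have hy' : g⁻¹ * x * g = y := by rw [← hyx']; group
    obtain ⟨k, hk, hk'⟩ := h1 g⁻¹ (by rw [inv_inv, hy']; exact hy)
    rw [inv_inv] at hk'
    have : g * k ∈ Subgroup.centralizer ({x} : Set G) := by
      rw [Subgroup.mem_centralizer_singleton_iff]
      have := congrArg (fun u => g * u * k) hk'
      simpa [mul_assoc] using this
    simpa using H.mul_mem (h2 this) (H.inv_mem hk)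
  · intro h x hx hxH
    refine ⟨fun g hgx => ⟨g, ?_, rfl⟩, fun c hc => ?_⟩
    · by_contra hg
      exact h g hg (g * x * g⁻¹) (hIc g x hx) ⟨hgx, x, hxH, rfl⟩
    · by_contra hg
      rw [Subgroup.mem_centralizer_singleton_iff] at hc
      refine h c hg x hx ⟨hxH, x, hxH, ?_⟩
      show c * x * c⁻¹ = x
      rw [hc, mul_inv_cancel_right]
  · intro h x hx hxH
    refine ⟨(1 : G), ?_, ?_⟩
    · show ((x * 1 : G) : G ⧸ H) = _
      rw [QuotientGroup.eq]; simpa using H.inv_mem hxH
    · intro c hc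
      induction c using QuotientGroup.induction_on with
      | H g =>
        rw [QuotientGroup.eq]
        by_contra hg
        have h' : ((x * g : G) : G ⧸ H) = (g : G ⧸ H) := hc
        rw [QuotientGroup.eq] at h'
        refine h g (fun hgH => hg (by simpa using H.inv_mem hgH)) x hx ⟨hxH, g⁻¹ * x * g, ?_, ?_⟩
        · have := H.inv_mem h'
          simpa [mul_assoc] using this
        · show g * (g⁻¹ * x * g) * g⁻¹ = x
          group
  · rintro h g hg x hx ⟨hxH, y, hy, hyx⟩
    apply hg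
    have hyx' : g * y * g⁻¹ = x := hyx
    obtain ⟨c, -, hu⟩ := h x hx hxH
    have h1 : ((1 : G) : G ⧸ H) = c := hu _ (by
      show ((x * 1 : G) : G ⧸ H) = _
      rw [QuotientGroup.eq]; simpa using H.inv_mem hxH)
    have h2 : (g : G ⧸ H) = c := hu _ (by
      show ((x * g : G) : G ⧸ H) = _
      rw [QuotientGroup.eq, ← hyx']
      simpa [mul_assoc] using H.inv_mem hy)
    have h3 := h2.trans h1.symm
    rw [QuotientGroup.eq] at h3
    simpa using H.inv_mem h3

end Cfsg.Agent.S5437
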