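import Cfsg.Statements.S5438
import Mathlib

set_option autoImplicit false
open Cfsg

namespace Cfsg.Agent.S5438

/-- Let z be a 2-central involution of the finite group G (an involution central in some Sylow 2-subgroup) and H a subgroup containing z such that the coset H is the only coset of H fixed by z (in the action of G on the cosets of H). Then H has odd index in G, and for every 2-element x of H the conjugates of x lying in H form a single H-class. -/
theorem result {G : Type*} [Group G] [Finite G] (z : G) (hz : Cfsg.IsTwoCentralInvolution z) (H : Subgroup G) (hzH : z ∈ H) (hfix : ∀ g : G, g⁻¹ * z * g ∈ H → g ∈ H) : Odd H.index ∧ ∀ x ∈ H, (∃ k : ℕ, orderOf x = 2 ^ k) → ∀ g : G, g * x * g⁻¹ ∈ H → ∃ h ∈ H, h * x * h⁻¹ = g * x * g⁻¹ := by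
  haveI : Fact (Nat.Prime 2) := ⟨Nat.prime_two⟩
  obtain ⟨hz2, P, hzP, hPz⟩ := hz
  have hfix' : ∀ g : G, g * z * g⁻¹ ∈ H → g ∈ H := by
    intro g hg
    have := hfix g⁻¹ (by rwa [inv_inv])
    simpa using H.inv_mem this
  have hPH : (P : Subgroup G) ≤ H := by
    intro x hx
    apply hfix'
    rw [hPz x hx, mul_inv_cancel_right]
    exact hzH
  refine ⟨?_, ?_⟩
  · rw [← Nat.not_even_iff_odd, even_iff_two_dvd]
    intro h2
    exact P.not_dvd_index (h2.trans (Subgroup.index_dvd_of_le hPH))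
  · intro x hx hx2 g hgx
    obtain ⟨k, hk⟩ := hx2
    -- move `x` into the Sylow subgroup inside `H`
    have hxp : IsPGroup 2 (Subgroup.zpowers (⟨x, hx⟩ : H)) :=
      IsPGroup.of_card (n := k) (by rw [Nat.card_zpowers, Subgroup.orderOf_mk, hk])
    obtain ⟨S, hS⟩ := hxp.exists_le_sylow
    obtain ⟨h, hh⟩ := MulAction.exists_smul_eq H (P.subtype hPH) S
    set z1 : G := (h : G) * z * (h : G)⁻¹ with hz1
    have hxz : x * z1 = z1 * x := by
      have hxS : (⟨x, hx⟩ : H) ∈ (S : Subgroup H) := hS (Subgroup.mem_zpowers _)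
      rw [← hh, Sylow.coe_subgroup_smul] at hxS
      obtain ⟨u, hu, hue⟩ := hxS
      have hue' : (h : G) * (u : G) * (h : G)⁻¹ = x := congrArg Subtype.val hue
      have hc := hPz (u : G) hu
      rw [← hue', hz1]
      calc (h : G) * u * (h : G)⁻¹ * ((h : G) * z * (h : G)⁻¹) = h * (u * z) * (h : G)⁻¹ := by group
        _ = h * (z * u) * (h : G)⁻¹ := by rw [hc]
        _ = _ := by group
    set y := g * x * g⁻¹ with hy
    have hy2 : orderOf y = 2 ^ k := by
      rw [hy, ← hk]; exact (MulAut.conj g).orderOf_eq x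
    have hyp : IsPGroup 2 (Subgroup.zpowers (⟨y, hgx⟩ : H)) :=
      IsPGroup.of_card (n := k) (by rw [Nat.card_zpowers, Subgroup.orderOf_mk, hy2])
    obtain ⟨S', hS'⟩ := hyp.exists_le_sylow
    obtain ⟨h', hh'⟩ := MulAction.exists_smul_eq H (P.subtype hPH) S'
    set z2 : G := (h' : G) * z * (h' : G)⁻¹ with hz2'
    have hyz : y * z2 = z2 * y := by
      have hxS : (⟨y, hgx⟩ : H) ∈ (S' : Subgroup H) := hS' (Subgroup.mem_zpowers _)
      rw [← hh', Sylow.coe_subgroup_smul] at hxS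
      obtain ⟨u, hu, hue⟩ := hxS
      have hue' : (h' : G) * (u : G) * (h' : G)⁻¹ = y := congrArg Subtype.val hue
      have hc := hPz (u : G) hu
      rw [← hue', hz2']
      calc (h' : G) * u * (h' : G)⁻¹ * ((h' : G) * z * (h' : G)⁻¹) = h' * (u * z) * (h' : G)⁻¹ := by group
        _ = h' * (z * u) * (h' : G)⁻¹ := by rw [hc]
        _ = _ := by group
    have hz2H : z2 ∈ H := H.mul_mem (H.mul_mem h'.2 hzH) (H.inv_mem h'.2)
    set K := Subgroup.centralizer ({y} : Set G) with hK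
    have hw : g * z1 * g⁻¹ ∈ K := by
      rw [hK, Subgroup.mem_centralizer_singleton_iff, hy]
      calc g * z1 * g⁻¹ * (g * x * g⁻¹) = g * (z1 * x) * g⁻¹ := by group
        _ = g * (x * z1) * g⁻¹ := by rw [hxz]
        _ = _ := by group
    have hz2K : z2 ∈ K := by
      rw [hK, Subgroup.mem_centralizer_singleton_iff]; exact hyz.symm
    have ord : ∀ c : G, orderOf (c * z * c⁻¹) = 2 := fun c => ((MulAut.conj c).orderOf_eq z).trans hz2
    have hzp : IsPGroup 2 (Subgroup.zpowers (⟨z2, hz2K⟩ : K)) :=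
      IsPGroup.of_card (n := 1) (by rw [Nat.card_zpowers, Subgroup.orderOf_mk, hz2', ord, pow_one])
    obtain ⟨T, hT⟩ := hzp.exists_le_sylow
    have hTH : ∀ t ∈ (T : Subgroup K), (t : G) ∈ H := by
      by_contra hcon
      haveI : Group.IsNilpotent ↥(T : Subgroup K) := T.2.isNilpotent
      let A : Subgroup ↥(T : Subgroup K) := H.comap (K.subtype.comp (T : Subgroup K).subtype)
      have hA : A < ⊤ := lt_top_iff_ne_top.2 fun hA => hcon fun t ht => (hA ▸ Subgroup.mem_top _ : (⟨t, ht⟩ : ↥(T : Subgroup K)) ∈ A)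
      obtain ⟨n, hn, hnA⟩ := SetLike.exists_of_lt (Group.normalizerCondition_of_isNilpotent A hA)
      have hzT : (⟨z2, hz2K⟩ : K) ∈ (T : Subgroup K) := hT (Subgroup.mem_zpowers _)
      have hmem : (⟨_, hzT⟩ : ↥(T : Subgroup K)) ∈ A := hz2H
      have := (Subgroup.mem_normalizer_iff.1 hn _).1 hmem
      have h1 : ((n : K) : G) * z2 * ((n : K) : G)⁻¹ ∈ H := this
      have h2 : ((n : K) : G) * (h' : G) ∈ H := hfix' _ (by rw [hz2'] at h1; simpa [mul_assoc] using h1)
      exact hnA (show ((n : K) : G) ∈ H by simpa using H.mul_mem h2 (H.inv_mem h'.2))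
    have hwp : IsPGroup 2 (Subgroup.zpowers (⟨g * z1 * g⁻¹, hw⟩ : K)) :=
      IsPGroup.of_card (n := 1) (by
        rw [Nat.card_zpowers, Subgroup.orderOf_mk, show g * z1 * g⁻¹ = (g * h) * z * (g * h)⁻¹ by rw [hz1]; group, ord, pow_one])
    obtain ⟨T', hT'⟩ := hwp.exists_le_sylow
    obtain ⟨c, hc⟩ := MulAction.exists_smul_eq K T' T
    have hcw : (c : G) * (g * z1 * g⁻¹) * (c : G)⁻¹ ∈ H := by
      refine hTH (MulAut.conj c ⟨_, hw⟩) ?_
      rw [← hc, Sylow.coe_subgroup_smul]
      exact ⟨⟨_, hw⟩, hT' (Subgroup.mem_zpowers _), rfl⟩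
    have hcgh : (c : G) * g * (h : G) ∈ H := hfix' _ (by
      rw [hz1] at hcw
      simpa [mul_assoc] using hcw)
    refine ⟨(c : G) * g, by simpa using H.mul_mem hcgh (H.inv_mem h.2), ?_⟩
    have hcy : (c : G) * y = y * c := Subgroup.mem_centralizer_singleton_iff.1 c.2
    calc (c : G) * g * x * ((c : G) * g)⁻¹ = c * y * (c : G)⁻¹ := by rw [hy]; group
      _ = y := by rw [hcy, mul_inv_cancel_right]

end Cfsg.Agent.S5438
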