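import Cfsg.Statements.S5439
import Mathlib

set_option autoImplicit false
open Cfsg

namespace Cfsg.Agent.S5439

/-- Let I and J be two different conjugacy classes of involutions of the finite group G and H a subgroup such that every member of I ∪ J fixes exactly one coset in the action on the cosets of H, and such that for every a in I ∩ H and every b in (I ∪ J) ∩ H different from a and commuting with it, the centralizer of a b lies in H. Then H = G. -/
theorem result {G : Type*} [Group G] [Finite G] (I J : Set G) (a₀ b₀ : G) (ha₀ : orderOf a₀ = 2) (hb₀ : orderOf b₀ = 2) (hI : I = {x | IsConj a₀ x}) (hJ : J = {x | IsConj b₀ x}) (hIJ : I ≠ J) (H : Subgroup G) (hfix : ∀ x ∈ I ∪ J, ∃! c : G ⧸ H, x • c = c) (hcent : ∀ a ∈ I, a ∈ H → ∀ b ∈ I ∪ J, b ∈ H → a ≠ b → a * b = b * a → Subgroup.centralizer ({a * b} : Set G) ≤ H) : H = ⊤ := by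
  classical
  have hsq : ∀ x ∈ I ∪ J, x * x = 1 := by
    rintro x (hx | hx)
    · rw [hI] at hx
      obtain ⟨c, rfl⟩ := isConj_iff.1 hx
      rw [show c * a₀ * c⁻¹ * (c * a₀ * c⁻¹) = c * (a₀ ^ 2) * c⁻¹ by rw [pow_two]; group, ← ha₀, pow_orderOf_eq_one]
      group
    · rw [hJ] at hx
      obtain ⟨c, rfl⟩ := isConj_iff.1 hx
      rw [show c * b₀ * c⁻¹ * (c * b₀ * c⁻¹) = c * (b₀ ^ 2) * c⁻¹ by rw [pow_two]; group, ← hb₀, pow_orderOf_eq_one]
      group
  have hconjI : ∀ x ∈ I, ∀ g : G, g * x * g⁻¹ ∈ I := fun x hx g => by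
    rw [hI] at hx ⊢
    exact IsConj.trans hx (isConj_iff.2 ⟨g, rfl⟩)
  have hconjJ : ∀ x ∈ J, ∀ g : G, g * x * g⁻¹ ∈ J := fun x hx g => by
    rw [hJ] at hx ⊢
    exact IsConj.trans hx (isConj_iff.2 ⟨g, rfl⟩)
  have hdisj : ∀ x, x ∈ I → x ∉ J := fun x hxI hxJ => by
    apply hIJ
    rw [hI, hJ]
    rw [hI] at hxI
    rw [hJ] at hxJ
    ext y
    exact ⟨fun hy => hxJ.trans (hxI.symm.trans hy), fun hy => hxI.trans (hxJ.symm.trans hy)⟩
  have hfixmem : ∀ x : G, ∀ g : G, x • (g : G ⧸ H) = (g : G ⧸ H) ↔ g⁻¹ * x * g ∈ H := fun x g => by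
    rw [MulAction.Quotient.smul_coe, QuotientGroup.eq, ← H.inv_mem_iff]
    simp [mul_assoc]
  have hA : ∃ a ∈ I, a ∈ H := by
    obtain ⟨c, hc, -⟩ := hfix a₀ (Or.inl (by rw [hI]; exact IsConj.refl a₀))
    induction c using QuotientGroup.induction_on with
    | H g =>
      have h := hconjI a₀ (by rw [hI]; exact IsConj.refl a₀) g⁻¹
      rw [inv_inv] at h
      exact ⟨_, h, (hfixmem a₀ g).1 hc⟩
  obtain ⟨a, haI, haH⟩ := hA
  have hcomm : ∀ x ∈ I ∪ J, a * x = x * a → x ∈ H := by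
    intro x hx hax
    obtain ⟨c, hc, hcu⟩ := hfix a (Or.inl haI)
    have h1 : ((1 : G) : G ⧸ H) = c := hcu _ ((hfixmem a 1).2 (by simpa using haH))
    have h2 : x • c = c := hcu _ (by
      show a • x • c = x • c
      rw [← mul_smul, hax, mul_smul, hc])
    rw [← h1] at h2
    simpa using (hfixmem x 1).1 h2
  have hJH : ∀ b ∈ J, b ∈ H := by
    intro b hb
    have ha2 := hsq a (Or.inl haI)
    have hb2 := hsq b (Or.inr hb)
    have hab : ∀ j : ℕ, a * (a * b) ^ (2 * j) = ((a * b) ^ j)⁻¹ * a * (a * b) ^ j ∧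
        a * (a * b) ^ (2 * j + 1) = ((a * b) ^ j)⁻¹ * b * (a * b) ^ j := by
      have key : SemiconjBy a (a * b) (a * b)⁻¹ := by
        show a * (a * b) = (a * b)⁻¹ * a
        rw [mul_inv_rev, inv_eq_of_mul_eq_one_right hb2, inv_eq_of_mul_eq_one_right ha2, ← mul_assoc, ha2,
          one_mul, mul_assoc, ha2, mul_one]
      intro j
      have hj : a * (a * b) ^ j = ((a * b) ^ j)⁻¹ * a := by
        have h := (key.pow_right j).eq
        rwa [inv_pow] at h
      constructor
      · rw [two_mul, pow_add, ← mul_assoc, hj]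
      · rw [show 2 * j + 1 = j + (1 + j) by ring, pow_add, ← mul_assoc, hj, pow_add, pow_one]
        simp only [mul_assoc]
        rw [← mul_assoc a a, ha2, one_mul]
    have hconjpow : ∀ k : ℕ, a * (a * b) ^ k ∈ I ∪ J ∧ (Even k → a * (a * b) ^ k ∈ I) ∧
        (Odd k → a * (a * b) ^ k ∈ J) := by
      intro k
      obtain ⟨j, rfl⟩ | ⟨j, rfl⟩ := Nat.even_or_odd k
      · have h := hconjI a haI ((a * b) ^ j)⁻¹
        rw [inv_inv, ← (hab j).1, two_mul] at h
        exact ⟨Or.inl h, fun _ => h, fun ho => absurd ho (Nat.not_odd_iff_even.2 ⟨j, rfl⟩)⟩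
      · have h := hconjJ b hb ((a * b) ^ j)⁻¹
        rw [inv_inv, ← (hab j).2] at h
        exact ⟨Or.inr h, fun he => absurd he (Nat.not_even_iff_odd.2 ⟨j, rfl⟩), fun _ => h⟩
    have heven : Even (orderOf (a * b)) := by
      by_contra ho
      have h := (hconjpow (orderOf (a * b))).2.2 (Nat.not_even_iff_odd.1 ho)
      rw [pow_orderOf_eq_one, mul_one] at h
      exact hdisj a haI h
    obtain ⟨m, hm⟩ := heven
    set c := (a * b) ^ m with hcdef
    have hc2 : c * c = 1 := by rw [hcdef, ← pow_add, ← hm, pow_orderOf_eq_one]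
    have hac : a * c = c * a := by
      have h : SemiconjBy a (a * b) (a * b)⁻¹ := by
        show a * (a * b) = (a * b)⁻¹ * a
        rw [mul_inv_rev, inv_eq_of_mul_eq_one_right hb2, inv_eq_of_mul_eq_one_right ha2, ← mul_assoc, ha2,
          one_mul, mul_assoc, ha2, mul_one]
      have h' := (h.pow_right m).eq
      rw [inv_pow, ← hcdef, inv_eq_of_mul_eq_one_right hc2] at h'
      exact h'
    have hacm : a * c ∈ I ∪ J := (hconjpow m).1
    have hacH : a * c ∈ H := hcomm _ hacm (by rw [mul_assoc, ← hac])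
    have hne : a ≠ a * c := fun h => by
      have hc1 : c = 1 := by simpa using h.symm
      have hpos : 0 < orderOf (a * b) := orderOf_pos _
      have hd := orderOf_dvd_of_pow_eq_one (n := m) hc1
      have := Nat.le_of_dvd (by omega) hd
      omega
    have hC := hcent a haI haH (a * c) hacm hacH hne (by rw [mul_assoc, ← hac])
    apply hC
    rw [Subgroup.mem_centralizer_iff]
    intro y hy
    rw [Set.mem_singleton_iff.1 hy, ← mul_assoc, ha2, one_mul]
    have hcb : Commute c (a * b) := (Commute.refl (a * b)).pow_left m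
    calc c * b = c * (a * (a * b)) := by rw [← mul_assoc a, ha2, one_mul]
      _ = a * (c * (a * b)) := by rw [← mul_assoc, ← hac, mul_assoc]
      _ = a * ((a * b) * c) := by rw [hcb.eq]
      _ = b * c := by rw [← mul_assoc, ← mul_assoc, ha2, one_mul]
  have hb₀J : b₀ ∈ J := by rw [hJ]; exact IsConj.refl b₀
  obtain ⟨c, hc, hcu⟩ := hfix b₀ (Or.inr hb₀J)
  refine eq_top_iff.2 fun g _ => ?_
  have h1 : ((1 : G) : G ⧸ H) = c := hcu _ ((hfixmem b₀ 1).2 (by simpa using hJH b₀ hb₀J))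
  have h2 : ((g : G) : G ⧸ H) = c := hcu _ ((hfixmem b₀ g).2 (by
    have h := hJH _ (hconjJ b₀ hb₀J g⁻¹)
    rwa [inv_inv] at h))
  have h3 := QuotientGroup.eq.1 (h1.trans h2.symm)
  simpa using h3

end Cfsg.Agent.S5439
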