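import Cfsg.Statements.S5446
import Cfsg.Agent.Lib.FischerLarge.PointsCode

set_option autoImplicit false
open Cfsg

namespace Cfsg.Agent.S5446

/-- Let G be a finite group of large Fischer type at the involution z: the generalized Fitting subgroup Q of H = C_G(z) is extraspecial of order 2^13, H has normal subgroups Q ≤ H₁ ≤ H₂ with H₁/Q of order 3, H₂/H₁ the projective special unitary group of dimension 4 over the field with nine elements and H₂ of index 2 in H, and some conjugate of z other than z lies in Q. Let T be a Sylow 2-subgroup of G, A its Thompson subgroup (generated by the elementary abelian subgroups of T of largest order) and M = N_G(A) its normalizer. Then A is elementary abelian of order 2^11 and M/A is isomorphic to the Mathieu group of degree 24 (the automorphism group of the length-24 binary Golay code). -/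
theorem result {G : Type*} [Group G] [Finite G] (z : G) (Q : Subgroup (Subgroup.centralizer ({z} : Set G))) [Q.Normal] (hF : Cfsg.IsOfLargeFischerTypeAt z Q) (T : Sylow 2 G) (A M : Subgroup G) (hA : A = Cfsg.thompsonSubgroupOf 2 (T : Subgroup G)) (hM : M = Subgroup.normalizer (A : Set G)) : Cfsg.IsElementaryAbelian 2 A ∧ Nat.card A = 2 ^ 11 ∧ ∃ _ : (A.subgroupOf M).Normal, Nonempty (↥M ⧸ A.subgroupOf M ≃* ↥Cfsg.M24) := by
  obtain ⟨D⟩ := Lib.FischerLarge.exists_coord z Q hF
  obtain ⟨g₀, ⟨hq, hgQ⟩, hne⟩ := hF.1.2.2.2.2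
  have hs₀ : g₀ * z * g₀⁻¹ ∈ Q.map (Subgroup.centralizer ({z} : Set G)).subtype := ⟨_, hgQ, rfl⟩
  have hw : D.Wit g₀ (g₀ * z * g₀⁻¹) := ⟨rfl, hs₀, hne⟩
  obtain ⟨g, hg⟩ := D.thompson_eq hs₀ hne T
  have hAe : A = D.lagC.map (MulAut.conj g).toMonoidHom := hA.trans hg
  subst hM
  obtain ⟨F⟩ := Lib.FischerLarge.exists_ptFacts D.c_lt
  obtain ⟨t, ht⟩ := Set.nonempty_of_ncard_ne_zero (s := D.Ts) (by rw [(D.class_sizes F hw).2.1]; norm_num)
  have hc : IsConj t (g * t * g⁻¹) := isConj_iff.2 ⟨g, rfl⟩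
  obtain ⟨χ, hsurj, hker, -⟩ := D.exists_mathieu_conj hw g hAe (t := g * t * g⁻¹) (hAe ▸ ⟨t, ht.1, rfl⟩)
    (fun e => ht.2.1 (conj_eq_one_iff.1 e)) (fun h => ht.2.2 (h.trans hc.symm))
  haveI hn : (A.subgroupOf (Subgroup.normalizer (A : Set G))).Normal := hker ▸ MonoidHom.normal_ker χ
  refine ⟨⟨?_, ?_⟩, ?_, hn,
    ⟨(QuotientGroup.quotientMulEquivOfEq hker.symm).trans (QuotientGroup.quotientKerEquivOfSurjective χ hsurj)⟩⟩
  · refine isMulCommutative_iff.2 ?_
    rintro ⟨a, ha⟩ ⟨b, hb⟩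
    rw [hAe] at ha hb
    obtain ⟨x, hx, rfl⟩ := ha
    obtain ⟨y, hy, rfl⟩ := hb
    exact Subtype.ext ((D.lag_comm hx hy).map (MulAut.conj g).toMonoidHom).eq
  · intro a ha
    rw [hAe] at ha
    obtain ⟨x, hx, rfl⟩ := ha
    rw [← map_pow, pow_two, D.lagC_elem x hx, map_one]
  · rw [hAe, Subgroup.card_map_of_injective (MulAut.conj g).injective, D.lagC_image.1]

end Cfsg.Agent.S5446
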