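import Cfsg.Statements.S5447
import Cfsg.Agent.Lib.FischerLarge.FusionMain

set_option autoImplicit false
open Cfsg

namespace Cfsg.Agent.S5447

/-- Let G be a finite group of large Fischer type at the involution z: the generalized Fitting subgroup Q of H = C_G(z) is extraspecial of order 2^13, H has normal subgroups Q ≤ H₁ ≤ H₂ with H₁/Q of order 3, H₂/H₁ the projective special unitary group of dimension 4 over the field with nine elements and H₂ of index 2 in H, and some conjugate of z other than z lies in Q. Let T be a Sylow 2-subgroup of G, A its Thompson subgroup and M = N_G(A) its normalizer. Then M controls fusion in A (elements of A conjugate in G are conjugate in M), and M has exactly two orbits on the non-identity elements of A: those conjugate to z in G and those not. -/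
theorem result {G : Type*} [Group G] [Finite G] (z : G) (Q : Subgroup (Subgroup.centralizer ({z} : Set G))) [Q.Normal] (hF : Cfsg.IsOfLargeFischerTypeAt z Q) (T : Sylow 2 G) (A M : Subgroup G) (hA : A = Cfsg.thompsonSubgroupOf 2 (T : Subgroup G)) (hM : M = Subgroup.normalizer (A : Set G)) : (∀ a ∈ A, ∀ g : G, g * a * g⁻¹ ∈ A → ∃ m ∈ M, m * a * m⁻¹ = g * a * g⁻¹) ∧ (∃ a ∈ A, a ≠ 1 ∧ IsConj z a) ∧ (∃ a ∈ A, a ≠ 1 ∧ ¬ IsConj z a) ∧ ∀ a ∈ A, ∀ b ∈ A, a ≠ 1 → b ≠ 1 → (IsConj z a ↔ IsConj z b) → ∃ m ∈ M, m * a * m⁻¹ = b := by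
  obtain ⟨D⟩ := Lib.FischerLarge.exists_coord z Q hF
  obtain ⟨g₀, ⟨hq, hgQ⟩, hne⟩ := hF.1.2.2.2.2
  have hs₀ : g₀ * z * g₀⁻¹ ∈ Q.map (Subgroup.centralizer ({z} : Set G)).subtype := ⟨_, hgQ, rfl⟩
  obtain ⟨T₁, hCT, hth, hwc⟩ := D.exists_sylow_thompson hs₀ hne
  obtain ⟨t, htW, ht1, htz, hcl⟩ := D.two_classes hs₀ hne
  obtain ⟨g, hg⟩ := MulAction.exists_smul_eq G T₁ T
  have hTe : (T : Subgroup G) = (T₁ : Subgroup G).map (MulAut.conj g).toMonoidHom := by
    rw [← hg]; rfl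
  have hAe : A = D.lagC.map (MulAut.conj g).toMonoidHom := by
    rw [hA, hTe, ← Lib.Thompson.map_thompsonSubgroupOf _ _ (MulAut.conj g).injective.injOn, hth]
  subst hM
  haveI := Fact.mk Nat.prime_two
  have hwcA : Cfsg.IsWeaklyClosedSubgroup 2 A := hAe ▸ Lib.Local.wc_map_conj ⟨T₁, hCT, hwc⟩ g
  have hAab : ∀ a ∈ A, ∀ b ∈ A, Commute a b := by
    rw [hAe]
    rintro _ ⟨a, ha, rfl⟩ _ ⟨b, hb, rfl⟩
    exact (D.lagC_comm ha hb).map (MulAut.conj g).toMonoidHom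
  have hA2 : IsPGroup 2 ↥A := hAe ▸ D.lagC_two.map _
  have hfus : ∀ a ∈ A, ∀ k : G, k * a * k⁻¹ ∈ A → ∃ m ∈ Subgroup.normalizer (A : Set G),
      m * a * m⁻¹ = k * a * k⁻¹ :=
    fun a ha k hk => Lib.FischerLarge.exists_normalizer_conj_of_wc hA2 hwcA hAab ha hk
  have hclA : ∀ a ∈ A, a ≠ 1 → IsConj z a ∨ IsConj t a := by
    rw [hAe]
    rintro _ ⟨a, ha, rfl⟩ h1
    have hc : IsConj a (MulAut.conj g a) := isConj_iff.2 ⟨g, rfl⟩
    exact (hcl a ha fun e => h1 (by rw [e]; exact map_one (MulAut.conj g))).imp (·.trans hc) (·.trans hc)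
  have hmemA : ∀ x ∈ D.lagC, g * x * g⁻¹ ∈ A := fun x hx => hAe ▸ ⟨x, hx, rfl⟩
  refine ⟨hfus, ⟨g * z * g⁻¹, hmemA z (D.lagW_le_C D.z_lagW), fun e => D.ctx.ne_one (conj_eq_one_iff.1 e),
    isConj_iff.2 ⟨g, rfl⟩⟩, ⟨g * t * g⁻¹, hmemA t (D.lagW_le_C htW), fun e => ht1 (conj_eq_one_iff.1 e),
    fun h => htz (h.trans (isConj_iff.2 ⟨g, rfl⟩ : IsConj t (g * t * g⁻¹)).symm)⟩, fun a ha b hb h1a h1b hiff => ?_⟩
  obtain ⟨k, rfl⟩ : ∃ k, k * a * k⁻¹ = b := by
    refine isConj_iff.1 ?_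
    by_cases hza : IsConj z a
    · exact hza.symm.trans (hiff.1 hza)
    · exact ((hclA a ha h1a).resolve_left hza).symm.trans
        ((hclA b hb h1b).resolve_left fun h => hza (hiff.2 h))
  exact hfus a ha k hb

end Cfsg.Agent.S5447
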