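import Cfsg.Statements.S5448
import Cfsg.Agent.Lib.FischerLarge.PointsCode

set_option autoImplicit false
open scoped Pointwise
open Cfsg

namespace Cfsg.Agent.S5448

/-- Let G be a finite group of large Fischer type at the involution z: the generalized Fitting subgroup Q of H = C_G(z) is extraspecial of order 2^13, H has normal subgroups Q ≤ H₁ ≤ H₂ with H₁/Q of order 3, H₂/H₁ the projective special unitary group of dimension 4 over the field with nine elements and H₂ of index 2 in H, and some conjugate of z other than z lies in Q. Let T be a Sylow 2-subgroup of G, A its Thompson subgroup, M = N_G(A) its normalizer, and t an involution of A not conjugate to z in G. Then the centralizer of t in M, modulo A, is isomorphic to the setwise stabilizer of a two-element subset of the 24 points in the Mathieu group of degree 24 (the automorphism group of the smaller Mathieu group on 22 points). -/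
theorem result {G : Type*} [Group G] [Finite G] (z : G) (Q : Subgroup (Subgroup.centralizer ({z} : Set G))) [Q.Normal] (hF : Cfsg.IsOfLargeFischerTypeAt z Q) (T : Sylow 2 G) (A M : Subgroup G) (hA : A = Cfsg.thompsonSubgroupOf 2 (T : Subgroup G)) (hM : M = Subgroup.normalizer (A : Set G)) (t : G) (htA : t ∈ A) (ht2 : orderOf t = 2) (ht : ¬ IsConj z t) : ∃ _ : (A.subgroupOf (M ⊓ Subgroup.centralizer ({t} : Set G))).Normal, Nonempty (↥(M ⊓ Subgroup.centralizer ({t} : Set G)) ⧸ A.subgroupOf (M ⊓ Subgroup.centralizer ({t} : Set G)) ≃* ↥(Cfsg.M24 ⊓ MulAction.stabilizer (Equiv.Perm Cfsg.GolayPt) ({none, some 0} : Set Cfsg.GolayPt))) := by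
  obtain ⟨D⟩ := Lib.FischerLarge.exists_coord z Q hF
  obtain ⟨g₀, ⟨hq, hgQ⟩, hne⟩ := hF.1.2.2.2.2
  have hs₀ : g₀ * z * g₀⁻¹ ∈ Q.map (Subgroup.centralizer ({z} : Set G)).subtype := ⟨_, hgQ, rfl⟩
  have hw : D.Wit g₀ (g₀ * z * g₀⁻¹) := ⟨rfl, hs₀, hne⟩
  obtain ⟨g, hg⟩ := D.thompson_eq hs₀ hne T
  have hAe : A = D.lagC.map (MulAut.conj g).toMonoidHom := hA.trans hg
  subst hM
  obtain ⟨χ, hsurj, hker, hst⟩ := D.exists_mathieu_conj hw g hAe htA
    (fun e => by rw [e, orderOf_one] at ht2; exact absurd ht2 (by norm_num)) ht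
  set C := Subgroup.normalizer (A : Set G) ⊓ Subgroup.centralizer ({t} : Set G) with hC
  have hmem : ∀ m : G, m ∈ Subgroup.centralizer ({t} : Set G) ↔ m * t * m⁻¹ = t := fun m => by
    rw [Subgroup.mem_centralizer_singleton_iff, mul_inv_eq_iff_eq_mul]
  let ψ : ↥C →* ↥(Cfsg.M24 ⊓ MulAction.stabilizer (Equiv.Perm Cfsg.GolayPt) ({none, some 0} : Set Cfsg.GolayPt)) :=
    (Cfsg.M24.subtype.comp (χ.comp (Subgroup.inclusion inf_le_left))).codRestrict _ fun m =>
      ⟨(χ ⟨m, m.2.1⟩).2, (hst ⟨m, m.2.1⟩).1 ((hmem _).1 m.2.2)⟩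
  have hψs : Function.Surjective ψ := by
    intro x
    obtain ⟨m, hm⟩ := hsurj ⟨x, x.2.1⟩
    exact ⟨⟨m, m.2, (hmem _).2 ((hst m).2 (by rw [hm]; exact x.2.2))⟩, Subtype.ext (show ((χ m : ↥Cfsg.M24) : Equiv.Perm Cfsg.GolayPt) = x from congrArg Subtype.val hm)⟩
  have hψk : ψ.ker = A.subgroupOf C := by
    ext m
    rw [MonoidHom.mem_ker, Subgroup.mem_subgroupOf]
    refine Iff.trans ?_ (SetLike.ext_iff.1 hker ⟨m, m.2.1⟩)
    exact ⟨fun h => Subtype.ext (congrArg Subtype.val h :), fun h => Subtype.ext (congrArg Subtype.val h :)⟩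
  haveI hn : (A.subgroupOf C).Normal := hψk ▸ MonoidHom.normal_ker ψ
  exact ⟨hn, ⟨(QuotientGroup.quotientMulEquivOfEq hψk.symm).trans (QuotientGroup.quotientKerEquivOfSurjective ψ hψs)⟩⟩

end Cfsg.Agent.S5448
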