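import Cfsg.Statements.S5449
import Cfsg.Agent.Lib.FischerLarge.FourMain
-- import your own Cfsg.Agent.* helpers here

set_option autoImplicit false
open Cfsg

namespace Cfsg.Agent.S5449

/-- Let G be a finite group of large Fischer type at the involution z: the generalized Fitting subgroup Q of H = C_G(z) is extraspecial of order 2^13, H has normal subgroups Q ≤ H₁ ≤ H₂ with H₁/Q of order 3, H₂/H₁ the projective special unitary group of dimension 4 over the field with nine elements and H₂ of index 2 in H, and some conjugate of z other than z lies in Q. Then Q contains a four-group E, not containing z and containing an involution not conjugate to z in G, whose centralizer in G is quasisimple with quotient by E isomorphic to the projective special unitary group of dimension 6 over the field with four elements. -/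
theorem result {G : Type*} [Group G] [Finite G] (z : G) (Q : Subgroup (Subgroup.centralizer ({z} : Set G))) [Q.Normal] (hF : Cfsg.IsOfLargeFischerTypeAt z Q) : ∃ E : Subgroup G, E ≤ (Q.map (Subgroup.centralizer ({z} : Set G)).subtype) ∧ Cfsg.IsElementaryAbelian 2 E ∧ Nat.card E = 4 ∧ z ∉ E ∧ (∃ t ∈ E, orderOf t = 2 ∧ ¬ IsConj z t) ∧ Cfsg.IsQuasisimple ↥(Subgroup.centralizer (E : Set G)) ∧ ∃ (_ : (E.subgroupOf (Subgroup.centralizer (E : Set G))).Normal) (K : Type) (_ : Field K) (_ : Fintype K), Fintype.card K = 4 ∧ Nonempty (↥(Subgroup.centralizer (E : Set G)) ⧸ E.subgroupOf (Subgroup.centralizer (E : Set G)) ≃* Cfsg.PSU 6 K 2) := by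
  classical
  obtain ⟨D⟩ := Lib.FischerLarge.exists_coord z Q hF
  obtain ⟨g₀, ⟨hq, hgQ⟩, hne⟩ := hF.1.2.2.2.2
  have hs₀ : g₀ * z * g₀⁻¹ ∈ Q.map (Subgroup.centralizer ({z} : Set G)).subtype := ⟨_, hgQ, rfl⟩
  have hw : D.Wit g₀ (g₀ * z * g₀⁻¹) := ⟨rfl, hs₀, hne⟩
  obtain ⟨F⟩ := Lib.FischerLarge.exists_ptFacts D.c_lt
  obtain ⟨E, hE⟩ := D.exists_quad (D.line_mem_A F 3)
  haveI hn := Lib.FischerLarge.subgroupOf_central_normal E
  let R4 := Cfsg.Lib.SUSixU43.R4
  have hR4 : Fintype.card R4 = 4 := Cfsg.Lib.SUSixU43.card_r4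
  obtain ⟨ψ⟩ := D.quot_iso F hw hE (K := R4) hR4
  have : IsSimpleGroup (Cfsg.PSU 6 R4 2) := Cfsg.Lib.Linear.Herm.psu_simple (by rw [hR4]; norm_num) (by norm_num)
  have hsimp : IsSimpleGroup (↥(Subgroup.centralizer (E : Set G)) ⧸ E.subgroupOf (Subgroup.centralizer (E : Set G))) :=
    ψ.isSimpleGroup
  set q := QuotientGroup.mk' (E.subgroupOf (Subgroup.centralizer (E : Set G))) with hq'
  have hzK : z ∈ Subgroup.centralizer (E : Set G) :=
    Subgroup.mem_centralizer_iff.2 fun a ha => (D.ctx.central a (hE.le ha)).eq.symm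
  have hna : ∃ a b : ↥(Subgroup.centralizer (E : Set G)) ⧸ E.subgroupOf (Subgroup.centralizer (E : Set G)),
      a * b ≠ b * a := by
    by_contra hcomm
    push Not at hcomm
    let : CommGroup (↥(Subgroup.centralizer (E : Set G)) ⧸ E.subgroupOf (Subgroup.centralizer (E : Set G))) :=
      { (inferInstance : Group (↥(Subgroup.centralizer (E : Set G)) ⧸ E.subgroupOf (Subgroup.centralizer (E : Set G)))) with
        mul_comm := hcomm }
    have hp := IsSimpleGroup.prime_card
      (α := ↥(Subgroup.centralizer (E : Set G)) ⧸ E.subgroupOf (Subgroup.centralizer (E : Set G)))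
    obtain ⟨-, -, -, -, hc, -⟩ := D.quot_hyps hw hE hzK (F := ZMod 3) (ZMod.card 3) _ rfl
    have hd := Subgroup.card_subgroup_dvd_card
      (Subgroup.centralizer ({QuotientGroup.mk ⟨z, hzK⟩} : Set (↥(Subgroup.centralizer (E : Set G)) ⧸
        E.subgroupOf (Subgroup.centralizer (E : Set G)))))
    rw [hc] at hd
    rcases (Nat.dvd_prime hp).1 hd with h | h
    · norm_num at h
    · rw [← h] at hp
      norm_num at hp
  have hcenQ : Subgroup.center (↥(Subgroup.centralizer (E : Set G)) ⧸
      E.subgroupOf (Subgroup.centralizer (E : Set G))) = ⊥ := by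
    refine ((inferInstance : (Subgroup.center _).Normal).eq_bot_or_eq_top).resolve_right fun htop => ?_
    obtain ⟨a, b, hab⟩ := hna
    exact hab (Subgroup.mem_center_iff.1 (htop ▸ Subgroup.mem_top b) a)
  have hcen : Subgroup.center ↥(Subgroup.centralizer (E : Set G)) =
      E.subgroupOf (Subgroup.centralizer (E : Set G)) := by
    refine le_antisymm (fun a ha => ?_) fun a ha => ?_
    · have hqa : q a ∈ Subgroup.center (↥(Subgroup.centralizer (E : Set G)) ⧸
          E.subgroupOf (Subgroup.centralizer (E : Set G))) := Subgroup.mem_center_iff.2 fun b => by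
        obtain ⟨b, rfl⟩ := QuotientGroup.mk'_surjective _ b
        rw [← map_mul, ← map_mul, Subgroup.mem_center_iff.1 ha b]
      rw [hcenQ, Subgroup.mem_bot] at hqa
      exact (QuotientGroup.eq_one_iff a).1 hqa
    · exact Subgroup.mem_center_iff.2 fun b => Subtype.ext
        (Subgroup.mem_centralizer_iff.1 b.2 _ (Subgroup.mem_subgroupOf.1 ha)).symm
  have hperf : commutator ↥(Subgroup.centralizer (E : Set G)) = ⊤ := by
    have hmap : (commutator ↥(Subgroup.centralizer (E : Set G))).map q = ⊤ := by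
      rw [commutator_def, Subgroup.map_commutator, Subgroup.map_top_of_surjective q (QuotientGroup.mk'_surjective _)]
      rcases ((inferInstance : (commutator (↥(Subgroup.centralizer (E : Set G)) ⧸
        E.subgroupOf (Subgroup.centralizer (E : Set G)))).Normal)).eq_bot_or_eq_top with h | h
      · obtain ⟨a, b, hab⟩ := hna
        have h1 := Subgroup.commutator_mem_commutator (Subgroup.mem_top a) (Subgroup.mem_top b)
        rw [← commutator_def, h, Subgroup.mem_bot] at h1
        exact absurd (commutatorElement_eq_one_iff_mul_comm.1 h1) hab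
      · exact h
    rw [eq_top_iff]
    intro a _
    obtain ⟨c, hc, e⟩ := hmap ▸ Subgroup.mem_top (q a)
    have he : c⁻¹ * a ∈ E.subgroupOf (Subgroup.centralizer (E : Set G)) := QuotientGroup.eq.1 e
    obtain ⟨d, hd, hd'⟩ := D.quad_le_commutator F hw hE (Subgroup.mem_subgroupOf.1 he)
    have hd2 : d = c⁻¹ * a := Subtype.ext hd'
    have := mul_mem hc hd
    rwa [hd2, mul_inv_cancel_left] at this
  refine ⟨E, fun a ha => hE.le ha, ⟨⟨⟨fun a b => Subtype.ext (D.quad_comm hE a.2 b.2).eq⟩⟩,
    fun a ha => by rw [pow_two]; exact hE.sq a ha⟩, hE.card, D.quad_ne_z hE, ?_, ⟨⟨hperf⟩, ?_⟩, hn, R4,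
    inferInstance, inferInstance, hR4, ⟨ψ⟩⟩
  · obtain ⟨a, ha, hac⟩ := hE.cls 1
    rw [one_smul] at hac
    have ha1 : a ≠ 1 := fun h => D.A_ne_zero hE.small (by rw [← hac, h, D.cl_one])
    exact ⟨a, ha, orderOf_eq_prime (by rw [pow_two]; exact hE.sq a ha) ha1,
      D.small_not_conj (hE.le ha) (D.quad_cl_A hE ha ha1)⟩
  · exact (QuotientGroup.quotientMulEquivOfEq hcen).isSimpleGroup

end Cfsg.Agent.S5449
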