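import Cfsg.Statements.S5450
import Cfsg.Agent.Lib.FischerLarge.Fi22Part.Aut
-- import your own Cfsg.Agent.* helpers here

set_option autoImplicit false
open Cfsg Cfsg.Lib.FischerLarge

namespace Cfsg.Agent.S5450

/-- Let G be a finite group of large Fischer type at the involution z: the generalized Fitting subgroup Q of H = C_G(z) is extraspecial of order 2^13, H has normal subgroups Q ≤ H₁ ≤ H₂ with H₁/Q of order 3, H₂/H₁ the projective special unitary group of dimension 4 over the field with nine elements and H₂ of index 2 in H, and some conjugate of z other than z lies in Q. Let t be an involution of Q not conjugate to z in G, and K the generalized Fitting subgroup of the centralizer of t. Then K is quasisimple of index 2 in the centralizer of t, contains t, and the centralizer of t modulo the subgroup generated by t is isomorphic to the full automorphism group of the Fischer group Fi₂₂ (as presented). -/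
theorem result {G : Type*} [Group G] [Finite G] (z : G) (Q : Subgroup (Subgroup.centralizer ({z} : Set G))) [Q.Normal] (hF : Cfsg.IsOfLargeFischerTypeAt z Q) (t : G) (htQ : ∃ htc : t ∈ Subgroup.centralizer ({z} : Set G), (⟨t, htc⟩ : Subgroup.centralizer ({z} : Set G)) ∈ Q) (ht2 : orderOf t = 2) (ht : ¬ IsConj z t) (K : Subgroup ↥(Subgroup.centralizer ({t} : Set G))) (hK : K = Cfsg.generalizedFittingSubgroup ↥(Subgroup.centralizer ({t} : Set G))) [hn : ((Subgroup.zpowers t).subgroupOf (Subgroup.centralizer ({t} : Set G))).Normal] : Cfsg.IsQuasisimple ↥K ∧ K.index = 2 ∧ (∃ htc : t ∈ Subgroup.centralizer ({t} : Set G), (⟨t, htc⟩ : ↥(Subgroup.centralizer ({t} : Set G))) ∈ K) ∧ Nonempty (↥(Subgroup.centralizer ({t} : Set G)) ⧸ (Subgroup.zpowers t).subgroupOf (Subgroup.centralizer ({t} : Set G)) ≃* MulAut Cfsg.Spor.Fi22) := by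
  classical
  obtain ⟨D⟩ := exists_coord z Q hF
  obtain ⟨g₁, ⟨hq, hgQ⟩, hne₁⟩ := hF.1.2.2.2.2
  have hs₀ : g₁ * z * g₁⁻¹ ∈ Q.map (Subgroup.centralizer ({z} : Set G)).subtype := ⟨_, hgQ, rfl⟩
  have hw : D.Wit g₁ (g₁ * z * g₁⁻¹) := ⟨rfl, hs₀, hne₁⟩
  obtain ⟨htc, htQ'⟩ := htQ
  have htQ₀ : t ∈ Q.map (Subgroup.centralizer ({z} : Set G)).subtype := ⟨⟨t, htc⟩, htQ', rfl⟩
  have htt : t * t = 1 := by rw [← pow_two, ← ht2, pow_orderOf_eq_one]
  have ht1 : t ≠ 1 := fun e => by rw [e, orderOf_one] at ht2; exact absurd ht2 (by norm_num)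
  have htA : D.cl t ∈ D.A :=
    ((D.pt_iff htQ₀).1 ⟨htQ₀, htt, ht1, fun e => ht (e ▸ IsConj.refl z)⟩).resolve_right fun hB =>
      ht (D.class_B hw htQ₀ hB)
  obtain ⟨t2, hd⟩ := D.exists_duo htQ₀ htA
  obtain ⟨X1, o, H⟩ := hd.exists_isHalf hw
  have hKX : K = X1.subgroupOf (Subgroup.centralizer ({t} : Set G)) := hK.trans (hd.half_fitting H hw)
  subst hKX
  exact ⟨Lib.Core.quasisimple_congr (hd.half_quasisimple H hw) (Subgroup.subgroupOfEquivOfLe H.le).symm,
    hd.half_index H, ⟨Subgroup.mem_centralizer_singleton_iff.2 rfl, hd.t_mem_half H⟩, hd.cent_mulAut H hw⟩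

end Cfsg.Agent.S5450
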