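import Cfsg.Statements.S5451
import Cfsg.Agent.Lib.FischerLarge.SplitCent

set_option autoImplicit false
set_option maxRecDepth 4000
open Cfsg Cfsg.Lib.FischerLarge Cfsg.Lib.SUSixU43
attribute [local irreducible] KM Zc gen mat mulM prodM lettM stabBig phi

namespace Cfsg.Agent.S5451

/-- Let G be a finite group of large Fischer type at the involution z: the generalized Fitting subgroup Q of H = C_G(z) is extraspecial of order 2^13, H has normal subgroups Q ≤ H₁ ≤ H₂ with H₁/Q of order 3, H₂/H₁ the projective special unitary group of dimension 4 over the field with nine elements and H₂ of index 2 in H, and some conjugate of z other than z lies in Q. Let X be a subgroup of H of order 3 whose product with Q is normal in H (X maps onto the normal subgroup of order 3 of H/Q). Then the centralizer of X in H is quasisimple with cyclic centre of order 6 and central quotient isomorphic to the projective special unitary group of dimension 4 over the field with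 nine elements. -/
theorem result {G : Type*} [Group G] [Finite G] (z : G) (Q : Subgroup (Subgroup.centralizer ({z} : Set G))) [Q.Normal] (hF : Cfsg.IsOfLargeFischerTypeAt z Q) (X : Subgroup (Subgroup.centralizer ({z} : Set G))) (hX : Nat.card X = 3) (hXQ : (X ⊔ Q).Normal) : Cfsg.IsQuasisimple ↥(Subgroup.centralizer ((X : Subgroup (Subgroup.centralizer ({z} : Set G))) : Set (Subgroup.centralizer ({z} : Set G)))) ∧ IsCyclic ↥(Subgroup.center ↥(Subgroup.centralizer ((X : Subgroup (Subgroup.centralizer ({z} : Set G))) : Set (Subgroup.centralizer ({z} : Set G))))) ∧ Nat.card ↥(Subgroup.center ↥(Subgroup.centralizer ((X : Subgroup (Subgroup.centralizer ({z} : Set G))) : Set (Subgroup.centralizer ({z} : Set G))))) = 6 ∧ ∃ (K : Type) (_ : Field K) (_ : Fintype K), Fintype.card K = 9 ∧ Nonempty (↥(Subgroup.centralizer ((X : Subgroup (Subgroup.centralizer ({z} : Set G))) : Set (Subgroup.centralizer ({z} : Set G)))) ⧸ Subgroup.center ↥(Subgroup.centralizer ((X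 : Subgroup (Subgroup.centralizer ({z} : Set G))) : Set (Subgroup.centralizer ({z} : Set G)))) ≃* Cfsg.PSU 4 K 3) := by
  classical
  haveI := finite_G6
  haveI : Fact (Nat.Prime 3) := ⟨Nat.prime_three⟩
  obtain ⟨D⟩ := exists_coord z Q hF
  obtain ⟨g₁, ⟨hq, hgQ⟩, hne₁⟩ := hF.1.2.2.2.2
  have hg₁ : g₁ * z * g₁⁻¹ ∈ Q.map (Subgroup.centralizer ({z} : Set G)).subtype := ⟨_, hgQ, rfl⟩
  haveI : IsCyclic ↥X := isCyclic_of_prime_card hX
  obtain ⟨x₀, hx₀⟩ := IsCyclic.exists_generator (α := ↥X)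
  set y₀ : ↥(Subgroup.centralizer ({z} : Set G)) := (x₀ : ↥(Subgroup.centralizer ({z} : Set G))) with hy₀
  have hXy : X = Subgroup.zpowers y₀ := by
    refine le_antisymm (fun a ha => ?_) (Subgroup.zpowers_le.2 x₀.2)
    obtain ⟨i, hi⟩ := Subgroup.mem_zpowers_iff.1 (hx₀ ⟨a, ha⟩)
    exact ⟨i, congrArg Subtype.val hi⟩
  have hy3 : orderOf y₀ = 3 := by
    rw [← Nat.card_zpowers, ← hXy, hX]
  have hy3' : (y₀ : G) ^ 3 = 1 := by
    rw [← Subgroup.coe_pow, ← hy3, pow_orderOf_eq_one, OneMemClass.coe_one]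
  have hyM : (y₀ : G) ∈ D.M := by
    have hyz : Commute (y₀ : G) z := Subgroup.mem_centralizer_singleton_iff.1 y₀.2
    have h2 : (y₀ : G) * y₀ ∈ D.M := by
      by_cases h : (y₀ : G) ∈ D.M
      · exact mul_mem h h
      · exact D.mul_mem_M hyz hyz h h
    rw [show (y₀ : G) = ((y₀ : G) * y₀) * ((y₀ : G) * y₀) by
      calc (y₀ : G) = (y₀ : G) ^ 3 * y₀ := by rw [hy3', one_mul]
        _ = _ := by simp only [pow_succ, pow_zero, one_mul, mul_assoc]]
    exact mul_mem h2 h2
  -- the image in the model is scalar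
  let p : ↥D.M →* ↥Q112 := ((phi D.c_lt).comp (D.π.codRestrict (KM D.c) D.π_mem)).codRestrict Q112 fun m => by
    have h : phi D.c_lt (D.π.codRestrict (KM D.c) D.π_mem m) ∈ (phi D.c_lt).range := ⟨_, rfl⟩
    rwa [phi_range D.c_lt] at h
  have hps : Function.Surjective p := by
    rintro ⟨q, hq⟩
    obtain ⟨⟨a, ha⟩, haq⟩ : q ∈ (phi D.c_lt).range := by rw [phi_range D.c_lt]; exact hq
    obtain ⟨m, rfl⟩ := D.exists_pre ha
    exact ⟨m, Subtype.ext haq⟩
  haveI : IsSimpleGroup ↥Q112 := by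
    obtain ⟨e⟩ := psu_equiv_Q112
    haveI := simple_psu
    exact e.symm.isSimpleGroup
  set m₀ : ↥D.M := ⟨(y₀ : G), hyM⟩ with hm₀
  have hC6 : D.π m₀ ∈ C6 := by
    set N := Subgroup.zpowers (p m₀) with hN
    have hmem : ∀ w ∈ X ⊔ Q, ∀ hw : ((w : ↥(Subgroup.centralizer ({z} : Set G))) : G) ∈ D.M, p ⟨_, hw⟩ ∈ N := by
      intro w hw hwM
      rw [← SetLike.mem_coe, Subgroup.mul_normal X Q, Set.mem_mul] at hw
      obtain ⟨a, ha, b, hb, rfl⟩ := hw
      obtain ⟨i, rfl⟩ : a ∈ Subgroup.zpowers y₀ := hXy ▸ ha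
      have hbM : (b : G) ∈ D.M := D.Q_le ⟨b, hb, rfl⟩
      rw [show (⟨((y₀ ^ i * b : ↥(Subgroup.centralizer ({z} : Set G))) : G), hwM⟩ : ↥D.M) = m₀ ^ i * ⟨b, hbM⟩ from
        Subtype.ext (by simp [m₀]), map_mul, map_zpow]
      have hb1 : p ⟨b, hbM⟩ = 1 := by
        refine Subtype.ext ?_
        show phi D.c_lt (D.π.codRestrict (KM D.c) D.π_mem ⟨b, hbM⟩) = 1
        rw [show D.π.codRestrict (KM D.c) D.π_mem ⟨b, hbM⟩ = 1 from
          Subtype.ext ((D.π_ker _).2 ⟨b, hb, rfl⟩), map_one]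
      rw [hb1, mul_one]
      exact Subgroup.zpow_mem_zpowers _ _
    have hNn : N.Normal := by
      refine ⟨fun a ha q => ?_⟩
      obtain ⟨i, rfl⟩ := Subgroup.mem_zpowers_iff.1 ha
      obtain ⟨m, rfl⟩ := hps q
      rw [← map_zpow, ← map_inv, ← map_mul, ← map_mul]
      have hc := hXQ.conj_mem (y₀ ^ i) (Subgroup.mem_sup_left (zpow_mem x₀.2 i)) ⟨(m : G), D.M_le m.2⟩
      exact hmem _ hc (m * m₀ ^ i * m⁻¹).2
    rcases hNn.eq_bot_or_eq_top with h | h
    · refine ker_phi D.c_lt (g := D.π.codRestrict (KM D.c) D.π_mem m₀) ?_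
      have h1 : p m₀ = 1 := Subgroup.mem_bot.1 (h ▸ Subgroup.mem_zpowers _)
      exact congrArg Subtype.val h1
    · exfalso
      have h1 : Nat.card ↥N = 3265920 := by rw [h, Subgroup.card_top, card_Q112]
      rw [hN, Nat.card_zpowers] at h1
      have h2 : orderOf (p m₀) ∣ 3 := orderOf_dvd_of_pow_eq_one (by
        rw [← map_pow, show m₀ ^ 3 = 1 from Subtype.ext (by simpa [m₀] using hy3'), map_one])
      rw [h1] at h2
      norm_num at h2
  have hπ1 : D.π m₀ ≠ 1 := fun h => by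
    have hQ : (y₀ : G) ∈ Q.map (Subgroup.centralizer ({z} : Set G)).subtype := (D.π_ker m₀).1 h
    have hd : orderOf (y₀ : G) ∣ Nat.card ↥(Q.map (Subgroup.centralizer ({z} : Set G)).subtype) := by
      rw [← Subgroup.orderOf_mk _ hQ]
      exact orderOf_dvd_natCard _
    rw [Subgroup.orderOf_coe, hy3, D.cardQ] at hd
    norm_num at hd
  -- the generator mapping to the scalar
  obtain ⟨y, hXy', hyM', hπy⟩ : ∃ y : ↥(Subgroup.centralizer ({z} : Set G)), X = Subgroup.zpowers y ∧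
      ∃ hM : (y : G) ∈ D.M, D.π ⟨(y : G), hM⟩ = Zc := by
    rcases C6_cases hC6 with e | e | e
    · exact absurd e hπ1
    · exact ⟨y₀, hXy, hyM, e⟩
    · refine ⟨y₀ * y₀, ?_, mul_mem hyM hyM, ?_⟩
      · refine hXy.trans (le_antisymm (Subgroup.zpowers_le.2 ⟨2, ?_⟩) (Subgroup.zpowers_le.2
          (mul_mem (Subgroup.mem_zpowers _) (Subgroup.mem_zpowers _))))
        show (y₀ * y₀) ^ (2 : ℤ) = y₀
        rw [zpow_two]
        calc y₀ * y₀ * (y₀ * y₀) = y₀ ^ 3 * y₀ := by simp only [pow_succ, pow_zero, one_mul, mul_assoc]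
          _ = y₀ := by rw [← hy3, pow_orderOf_eq_one, one_mul]
      · rw [show (⟨((y₀ * y₀ : ↥(Subgroup.centralizer ({z} : Set G))) : G), mul_mem hyM hyM⟩ : ↥D.M) = m₀ * m₀ from
          rfl, map_mul, e]
        have hcube := Zc_cube
        calc Zc * Zc * (Zc * Zc) = Zc ^ 3 * Zc := by simp only [pow_succ, pow_zero, one_mul, mul_assoc]
          _ = Zc := by rw [hcube, one_mul]
  have hy3c : (y : G) ^ 3 = 1 := by
    rw [← Subgroup.coe_pow, show y ^ 3 = 1 by
      rw [← hX, hXy', Nat.card_zpowers, pow_orderOf_eq_one], OneMemClass.coe_one]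
  set L := Subgroup.centralizer ((X : Subgroup (Subgroup.centralizer ({z} : Set G))) : Set (Subgroup.centralizer ({z} : Set G))) with hL
  obtain ⟨hqs, hcyc, hc6, ⟨e⟩⟩ := D.cent_facts hyM' hπy hy3c hg₁ hne₁
    ((Subgroup.centralizer ({z} : Set G)).subtype.comp L.subtype)
    ((Subgroup.centralizer ({z} : Set G)).subtype_injective.comp L.subtype_injective) fun g => by
      constructor
      · rintro ⟨l, rfl⟩
        refine ⟨Subgroup.mem_centralizer_singleton_iff.1 (l : ↥(Subgroup.centralizer ({z} : Set G))).2, ?_⟩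
        exact (congrArg Subtype.val (Subgroup.mem_centralizer_iff.1 l.2 y (hXy' ▸ Subgroup.mem_zpowers y))).symm
      · rintro ⟨hgz, hgy⟩
        refine ⟨⟨⟨g, Subgroup.mem_centralizer_singleton_iff.2 hgz.eq⟩, Subgroup.mem_centralizer_iff.2 ?_⟩, rfl⟩
        intro a ha
        obtain ⟨i, rfl⟩ : a ∈ Subgroup.zpowers y := hXy' ▸ ha
        exact Subtype.ext (hgy.zpow_right i).symm.eq
  obtain ⟨e'⟩ := psu_equiv_Q112
  exact ⟨hqs, hcyc, hc6, Cfsg.Lib.PermAut.MclPsu.R9, inferInstance, inferInstance, Cfsg.Lib.PermAut.MclPsu.card_r9,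
    ⟨e.trans e'.symm⟩⟩

end Cfsg.Agent.S5451
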