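import Cfsg.Statements.S5453
import Cfsg.Agent.Lib.Fischer.Relations.Centralizer.InvolLift

set_option autoImplicit false
open Cfsg

namespace Cfsg.Agent.S5453

/-- Let G be a finite group with an involution d whose centralizer C is quasisimple, such that C modulo the subgroup generated by d is of type M(22) with respect to some conjugacy class of 3-transpositions generating it and also has an involution whose own centralizer is quasisimple with quotient by it isomorphic to the projective special unitary group of dimension 6 over the field with four elements and which is not weakly closed in that centralizer; and suppose some conjugate of d other than d commutes with d. Then every involution of C modulo the subgroup generated by d is the image of an involution of C, and d is not a square in G. -/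
theorem result {G : Type*} [Group G] [Finite G] (d : G) (hd : orderOf d = 2) (hq : Cfsg.IsQuasisimple ↥(Subgroup.centralizer ({d} : Set G))) [hzn : ((Subgroup.zpowers d).subgroupOf (Subgroup.centralizer ({d} : Set G))).Normal] (htype : ∃ E : Set (↥(Subgroup.centralizer ({d} : Set G)) ⧸ (Subgroup.zpowers d).subgroupOf (Subgroup.centralizer ({d} : Set G))), Cfsg.IsThreeTranspositionClass E ∧ Cfsg.IsOfTypeM22 _ E) (hinvol : ∃ d' : ↥(Subgroup.centralizer ({d} : Set G)) ⧸ (Subgroup.zpowers d).subgroupOf (Subgroup.centralizer ({d} : Set G)), orderOf d' = 2 ∧ Cfsg.IsQuasisimple ↥(Subgroup.centralizer ({d'} : Set _)) ∧ (∃ (K : Type) (_ : Field K) (_ : Fintype K), Fintype.card K = 4 ∧ ∃ _ : ((Subgroup.zpowers d').subgroupOf (Subgroup.centralizer ({d'} : Set _))).Normal, Nonempty (↥(Subgroup.centralizer ({d'} : Set _)) ⧸ (Subgroup.zpowers d').subgroupOf (Subgroup.centralizer ({d'} : Set _)) ≃* Cfsg.PSU 6 K 2)) ∧ ∃ g, g * d' * g⁻¹ ∈ Subgroup.centralizer ({d'} : Set _) ∧ g * d' * g⁻¹ ≠ d') (hnwc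 : ∃ g : G, g * d * g⁻¹ ∈ Subgroup.centralizer ({d} : Set G) ∧ g * d * g⁻¹ ≠ d) : (∀ x : ↥(Subgroup.centralizer ({d} : Set G)) ⧸ (Subgroup.zpowers d).subgroupOf (Subgroup.centralizer ({d} : Set G)), orderOf x = 2 → ∃ y : ↥(Subgroup.centralizer ({d} : Set G)), orderOf y = 2 ∧ (QuotientGroup.mk y : ↥(Subgroup.centralizer ({d} : Set G)) ⧸ (Subgroup.zpowers d).subgroupOf (Subgroup.centralizer ({d} : Set G))) = x) ∧ ¬ ∃ g : G, g ^ 2 = d := by
  set C := Subgroup.centralizer ({d} : Set G)
  set Z := (Subgroup.zpowers d).subgroupOf C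
  have hd2 : d * d = 1 := by rw [← pow_two, ← hd, pow_orderOf_eq_one]
  let π : C →* C ⧸ Z := QuotientGroup.mk' Z
  have hmem : ∀ k : C, k ∈ π.ker ↔ k ∈ Z := fun k => by rw [QuotientGroup.ker_mk']
  have hcentral : π.ker ≤ Subgroup.center C := by
    intro k hk
    obtain ⟨i, hi⟩ := Subgroup.mem_zpowers_iff.1 ((hmem k).1 hk)
    refine Subgroup.mem_center_iff.2 fun g => Subtype.ext ?_
    change (g : G) * (k : G) = (k : G) * (g : G)
    rw [show (k : G) = d ^ i from hi.symm]
    exact ((show Commute (g : G) d from Subgroup.mem_centralizer_singleton_iff.1 g.2).zpow_right i)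
  have hexp : ∀ k ∈ π.ker, k * k = 1 := by
    intro k hk
    obtain ⟨i, hi⟩ := Subgroup.mem_zpowers_iff.1 ((hmem k).1 hk)
    apply Subtype.ext
    change (k : G) * (k : G) = 1
    rw [show (k : G) = d ^ i from hi.symm, ← Commute.mul_zpow (Commute.refl d), hd2, one_zpow]
  obtain ⟨E, hE, h22⟩ := htype
  have hcen : Subgroup.center C = Z := by
    refine le_antisymm (fun z hz => ?_) (by rw [← QuotientGroup.ker_mk' Z]; exact hcentral)
    rw [← QuotientGroup.eq_one_iff, ← Subgroup.mem_bot, ← h22.1, Subgroup.mem_center_iff]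
    intro y
    obtain ⟨y, rfl⟩ := QuotientGroup.mk'_surjective Z y
    exact congrArg (QuotientGroup.mk' Z) (Subgroup.mem_center_iff.1 hz y)
  haveI := hq.2
  haveI : IsSimpleGroup (C ⧸ Z) :=
    MulEquiv.isSimpleGroup (QuotientGroup.quotientMulEquivOfEq hcen).symm
  have hlift : ∀ x : C ⧸ Z, orderOf x = 2 → ∃ y : C, orderOf y = 2 ∧ (QuotientGroup.mk y : C ⧸ Z) = x := by
    intro x hx
    obtain ⟨c, hc, hc2⟩ := Cfsg.Lib.Fischer.Relations.m22_involution_lift π (QuotientGroup.mk'_surjective Z)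
      hcentral hexp hE h22 x hx
    have hcx : (QuotientGroup.mk c : C ⧸ Z) = x := hc
    refine ⟨c, orderOf_eq_prime (by rw [pow_two, hc2]) fun h1 => ?_, hcx⟩
    rw [h1, QuotientGroup.mk_one] at hcx
    rw [← hcx, orderOf_one] at hx
    omega
  refine ⟨hlift, ?_⟩
  rintro ⟨g, hg⟩
  have hgC : g ∈ C := Subgroup.mem_centralizer_singleton_iff.2 (by rw [← hg]; exact (Commute.self_pow g 2).eq)
  set g' : C := ⟨g, hgC⟩
  have hdne : d ≠ 1 := fun h => by rw [h, orderOf_one] at hd; omega
  have hgz : (QuotientGroup.mk g' : C ⧸ Z) ≠ 1 := by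
    rw [Ne, QuotientGroup.eq_one_iff]
    intro h
    obtain ⟨i, hi⟩ := Subgroup.mem_zpowers_iff.1 (show g ∈ Subgroup.zpowers d from h)
    rw [← hi, pow_two, ← Commute.mul_zpow (Commute.refl d), hd2, one_zpow] at hg
    exact hdne hg.symm
  obtain ⟨y, hy, hyg⟩ := hlift (QuotientGroup.mk g') (orderOf_eq_prime (by
    rw [← QuotientGroup.mk_pow, QuotientGroup.eq_one_iff]
    show g ^ 2 ∈ Subgroup.zpowers d
    rw [hg]
    exact Subgroup.mem_zpowers d) hgz)
  have hk : g'⁻¹ * y ∈ π.ker := (hmem _).2 (QuotientGroup.eq.1 hyg.symm)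
  have h1 : (g'⁻¹ * y) * (g'⁻¹ * y) = 1 := hexp _ hk
  have hy2 : y * y = 1 := by rw [← pow_two, ← hy, pow_orderOf_eq_one]
  have h2 : g' * g' = 1 := by
    have hc := Subgroup.mem_center_iff.1 (hcentral hk) g'
    calc g' * g' = g' * g' * ((g'⁻¹ * y) * (g'⁻¹ * y)) := by rw [h1, mul_one]
      _ = g' * (g' * (g'⁻¹ * y)) * (g'⁻¹ * y) := by simp only [mul_assoc]
      _ = g' * ((g'⁻¹ * y) * g') * (g'⁻¹ * y) := by rw [hc]
      _ = 1 := by simp only [mul_assoc, mul_inv_cancel_left]; rw [hy2]
  exact hdne (hg.symm.trans ((pow_two g).trans (congrArg Subtype.val h2)))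

end Cfsg.Agent.S5453
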