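import Cfsg.Statements.S5454
import Cfsg.Agent.S5452
import Cfsg.Agent.Lib.CosetEnum.U62Double.Centralizer
import Cfsg.Agent.Lib.CosetEnum.Fi22Cent.Transfer

set_option autoImplicit false
set_option maxRecDepth 100000
open Cfsg

namespace Cfsg.Agent.S5454

/-- Let G be a finite group with an involution d whose centralizer C is quasisimple with C modulo the subgroup generated by d isomorphic to the projective special unitary group of dimension 6 over the field with four elements, and suppose some conjugate of d other than d commutes with d. Let S be a Sylow 2-subgroup of C and A the Thompson subgroup of S (generated by the elementary abelian subgroups of S of largest order), regarded as a subgroup of G. Then A is elementary abelian of order 2^10, exactly 22 conjugates of d lie in A, and the normalizer of A permutes them transitively. -/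
theorem result {G : Type*} [Group G] [Finite G] (d : G) (hd : orderOf d = 2) (hq : Cfsg.IsQuasisimple ↥(Subgroup.centralizer ({d} : Set G))) [hzn : ((Subgroup.zpowers d).subgroupOf (Subgroup.centralizer ({d} : Set G))).Normal] (K : Type) [Field K] [Fintype K] (hK : Fintype.card K = 4) (e : ↥(Subgroup.centralizer ({d} : Set G)) ⧸ (Subgroup.zpowers d).subgroupOf (Subgroup.centralizer ({d} : Set G)) ≃* Cfsg.PSU 6 K 2) (hnwc : ∃ g : G, g * d * g⁻¹ ∈ Subgroup.centralizer ({d} : Set G) ∧ g * d * g⁻¹ ≠ d) (S : Sylow 2 ↥(Subgroup.centralizer ({d} : Set G))) (A : Subgroup G) (hA : A = (Cfsg.thompsonSubgroupOf 2 (S : Subgroup ↥(Subgroup.centralizer ({d} : Set G)))).map (Subgroup.centralizer ({d} : Set G)).subtype) : Cfsg.IsElementaryAbelian 2 A ∧ Nat.card A = 2 ^ 10 ∧ Set.ncard {x : G | x ∈ A ∧ IsConj d x} = 22 ∧ ∀ x ∈ A, ∀ y ∈ A, IsConj d x → IsConj d y → ∃ n ∈ Subgroup.normalizer (A : Set G), n * x * n⁻¹ = y := by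
  have hnsq := (Cfsg.Agent.S5452.result d hd hq K hK e hnwc).2
  have hd2 : d * d = 1 := by rw [← pow_two, ← hd, pow_orderOf_eq_one]
  have hdC : d ∈ Subgroup.centralizer ({d} : Set G) := Subgroup.mem_centralizer_singleton_iff.2 rfl
  have hker : (e.toMonoidHom.comp (QuotientGroup.mk' ((Subgroup.zpowers d).subgroupOf
      (Subgroup.centralizer ({d} : Set G))))).ker =
      Subgroup.zpowers (⟨d, hdC⟩ : Subgroup.centralizer ({d} : Set G)) := by
    ext k
    rw [MonoidHom.mem_ker, MonoidHom.comp_apply, MulEquiv.coe_toMonoidHom,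
      MulEquiv.map_eq_one_iff, QuotientGroup.mk'_apply, QuotientGroup.eq_one_iff, Subgroup.mem_subgroupOf,
      Subgroup.mem_zpowers_iff, Subgroup.mem_zpowers_iff]
    exact ⟨fun ⟨i, hi⟩ => ⟨i, Subtype.ext (by rw [← hi]; simp)⟩, fun ⟨i, hi⟩ => ⟨i, by rw [← hi]; simp⟩⟩
  obtain ⟨T₀, e₀, he₀⟩ := Cfsg.Lib.CosetEnum.U62Double.exists_equiv_centralizer hK
    (d := (⟨d, hdC⟩ : Subgroup.centralizer ({d} : Set G)))
    (e.toMonoidHom.comp (QuotientGroup.mk' ((Subgroup.zpowers d).subgroupOf
      (Subgroup.centralizer ({d} : Set G))))) (e.surjective.comp (QuotientGroup.mk'_surjective _)) hker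
    (Subgroup.mem_center_iff.2 fun u => Subtype.ext (Subgroup.mem_centralizer_singleton_iff.1 u.2))
    (by rw [← hd]; exact (Subgroup.orderOf_coe _).symm)
    hq.1.commutator_eq_top
  have : Finite Cfsg.Spor.Fi22 := Nat.finite_of_card_ne_zero (by rw [T₀.card]; positivity)
  obtain ⟨T, hT⟩ := Cfsg.Lib.CosetEnum.Fi22Cent.exists_seventh T₀
  obtain ⟨A₀, -, -, -, hx, hd₀, -, -, -, hcls⟩ := Cfsg.Lib.CosetEnum.Fi22Out.exists_table
  rw [hd₀, hx] at hcls
  refine Cfsg.Lib.CosetEnum.Fi22Cent.main T hcls.1 hd2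
    (e₀.trans (MulEquiv.subgroupCongr ?_)) hdC ?_ hnsq hnwc S A hA
  · rw [Cfsg.Lib.CosetEnum.Fi22Cent.cen, hT]
  · exact he₀.trans hT.symm

end Cfsg.Agent.S5454
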