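import Cfsg.Statements.S5455
import Cfsg.Agent.Lib.CosetEnum.Fi22Two.Fusion
import Cfsg.Agent.Lib.Fischer.Relations.Involutions.Main

set_option autoImplicit false
open Cfsg

namespace Cfsg.Agent.S5455

open Cfsg.Lib.CosetEnum Cfsg.Lib.CosetEnum.Fi22Two Cfsg.Lib.Fischer Cfsg.Lib.Fischer.Relations

/-- An involution of a group of type M(22) is conjugate into the group of the twenty-two. -/
theorem exists_conj_base {Q : Type*} [Group Q] [Finite Q] {E : Set Q} (hT : Trans E)
    (hprim : Cfsg.IsPrimitiveUnderConj E) (h22 : Cfsg.IsOfTypeM22 Q E) (T : Fi22Norm.Fi22Tab Q E)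
    (hD : Cfsg.IsThreeTranspositionSet E) {y : Q} (hy : orderOf y = 2) : ∃ g, g * y * g⁻¹ ∈ base T := by
  have : Fact (Nat.Prime 2) := ⟨Nat.prime_two⟩
  obtain ⟨hDc, hG, -⟩ := m22_order hT hprim h22
  obtain ⟨F, _, _, hF, d₁, ⟨C⟩⟩ := m22_coord hT hprim h22
  obtain ⟨u, hu⟩ := C.exists_conj_commute hG hDc hy
  have hu2 : u * y * u⁻¹ * (u * y * u⁻¹) = 1 := by
    rw [show u * y * u⁻¹ * (u * y * u⁻¹) = u * (y * y) * u⁻¹ by group, ← pow_two, ← hy, pow_orderOf_eq_one]
    group
  obtain ⟨m, -, l, -, -, hl, hc, hprod⟩ := C.involution_isProd hu hu2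
  have hP : IsPGroup 2 (Subgroup.closure {a | a ∈ l}) := by
    have hcomm := Subgroup.closure_le_centralizer_centralizer {a | a ∈ l}
    intro g
    refine ⟨1, ?_⟩
    obtain ⟨g, hg⟩ := g
    apply Subtype.ext
    show g ^ (2 ^ 1) = 1
    have : g ^ 2 = 1 ∧ ∀ a ∈ l, Commute g a := by
      induction hg using Subgroup.closure_induction with
      | mem x hx => exact ⟨by rw [← hD.1 x (hl x hx), pow_orderOf_eq_one], fun a ha => hc x hx a ha⟩
      | one => exact ⟨one_pow 2, fun a _ => Commute.one_left a⟩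
      | mul a b ha hb iha ihb =>
        have hab : Commute a b := by
          have h1 : a ∈ Subgroup.centralizer (Subgroup.centralizer {a | a ∈ l} : Set Q) := hcomm ha
          exact ((Subgroup.mem_centralizer_iff.1 h1) b
            (Subgroup.mem_centralizer_iff.2 fun c hc' => (ihb.2 c hc').symm.eq)).symm
        exact ⟨by rw [hab.mul_pow, iha.1, ihb.1, one_mul], fun c hc' => (iha.2 c hc').mul_left (ihb.2 c hc')⟩
      | inv a ha iha => exact ⟨by rw [inv_pow, iha.1, inv_one], fun c hc' => (iha.2 c hc').inv_left⟩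
    simpa using this.1
  obtain ⟨P, hPle⟩ := hP.exists_le_sylow
  obtain ⟨T', hT'⟩ := exists_tab_sylow T P
  let P₀ : Sylow 2 Q := Sylow.ofCard (twoGroup T) (by rw [card_twoGroup, ← card_twoGroup T', hT', Sylow.card_eq_multiplicity])
  obtain ⟨h, hh⟩ := MulAction.exists_smul_eq Q P P₀
  have hmem : ∀ a ∈ l, h * a * h⁻¹ ∈ base T := by
    intro a ha
    have h1 : h * a * h⁻¹ ∈ twoGroup T := by
      show h * a * h⁻¹ ∈ (P₀ : Subgroup Q)
      rw [← hh, Sylow.coe_subgroup_smul]
      exact ⟨a, hPle (Subgroup.subset_closure ha), by simp [MulAut.conj_apply]⟩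
    obtain ⟨i, hi, e⟩ := mem_class_twoGroup T hD (hT.conj h a (hl a ha)) h1
    rw [← e, delta_P T hi]
    exact gen_mem T hi
  refine ⟨h * u, ?_⟩
  have hsub : l.prod ∈ (base T).comap (MulAut.conj h).toMonoidHom :=
    list_prod_mem fun a ha => by simpa [Subgroup.mem_comap] using hmem a ha
  rw [hprod, Subgroup.mem_comap] at hsub
  simpa [mul_assoc] using hsub

/-- Let G be a finite group with an involution d whose centralizer C is quasisimple, such that C modulo the subgroup generated by d is of type M(22) with respect to some conjugacy class of 3-transpositions generating it and also has an involution whose own centralizer is quasisimple with quotient by it isomorphic to the projective special unitary group of dimension 6 over the field with four elements and which is not weakly closed in that centralizer; and suppose some conjugate of d other than d commutes with d. Let S be a Sylow 2-subgroup of C and A the Thompson subgroup of S, regarded as a subgroup of G.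 Then A is elementary abelian of order 2^11, exactly 23 conjugates of d lie in A, and the normalizer of A permutes them transitively. -/
theorem result {G : Type*} [Group G] [Finite G] (d : G) (hd : orderOf d = 2) (hq : Cfsg.IsQuasisimple ↥(Subgroup.centralizer ({d} : Set G))) [hzn : ((Subgroup.zpowers d).subgroupOf (Subgroup.centralizer ({d} : Set G))).Normal] (htype : ∃ E : Set (↥(Subgroup.centralizer ({d} : Set G)) ⧸ (Subgroup.zpowers d).subgroupOf (Subgroup.centralizer ({d} : Set G))), Cfsg.IsThreeTranspositionClass E ∧ Cfsg.IsOfTypeM22 _ E) (hinvol : ∃ d' : ↥(Subgroup.centralizer ({d} : Set G)) ⧸ (Subgroup.zpowers d).subgroupOf (Subgroup.centralizer ({d} : Set G)), orderOf d' = 2 ∧ Cfsg.IsQuasisimple ↥(Subgroup.centralizer ({d'} : Set _)) ∧ (∃ (K : Type) (_ : Field K) (_ : Fintype K), Fintype.card K = 4 ∧ ∃ _ : ((Subgroup.zpowers d').subgroupOf (Subgroup.centralizer ({d'} : Set _))).Normal, Nonempty (↥(Subgroup.centralizer ({d'} : Set _)) ⧸ (Subgroup.zpowers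 d').subgroupOf (Subgroup.centralizer ({d'} : Set _)) ≃* Cfsg.PSU 6 K 2)) ∧ ∃ g, g * d' * g⁻¹ ∈ Subgroup.centralizer ({d'} : Set _) ∧ g * d' * g⁻¹ ≠ d') (hnwc : ∃ g : G, g * d * g⁻¹ ∈ Subgroup.centralizer ({d} : Set G) ∧ g * d * g⁻¹ ≠ d) (S : Sylow 2 ↥(Subgroup.centralizer ({d} : Set G))) (A : Subgroup G) (hA : A = (Cfsg.thompsonSubgroupOf 2 (S : Subgroup ↥(Subgroup.centralizer ({d} : Set G)))).map (Subgroup.centralizer ({d} : Set G)).subtype) : Cfsg.IsElementaryAbelian 2 A ∧ Nat.card A = 2 ^ 11 ∧ Set.ncard {x : G | x ∈ A ∧ IsConj d x} = 23 ∧ ∀ x ∈ A, ∀ y ∈ A, IsConj d x → IsConj d y → ∃ n ∈ Subgroup.normalizer (A : Set G), n * x * n⁻¹ = y := by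
  have : Fact (Nat.Prime 2) := ⟨Nat.prime_two⟩
  have hd2 : d * d = 1 := by rw [← pow_two, ← hd, pow_orderOf_eq_one]
  have hd1 : d ≠ 1 := fun h => by rw [h, orderOf_one] at hd; omega
  obtain ⟨E, hE, h22⟩ := htype
  let π : ↥(Subgroup.centralizer ({d} : Set G)) →* ↥(Subgroup.centralizer ({d} : Set G)) ⧸ ((Subgroup.zpowers d).subgroupOf (Subgroup.centralizer ({d} : Set G))) := QuotientGroup.mk' ((Subgroup.zpowers d).subgroupOf (Subgroup.centralizer ({d} : Set G)))
  obtain ⟨z, hz⟩ : ∃ z : ↥(Subgroup.centralizer ({d} : Set G)), (z : G) = d := ⟨⟨d, Subgroup.mem_centralizer_singleton_iff.2 rfl⟩, rfl⟩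
  have hdbl : IsDouble π z := by
    refine ⟨QuotientGroup.mk'_surjective ((Subgroup.zpowers d).subgroupOf (Subgroup.centralizer ({d} : Set G))), fun c => ?_, fun c => Subtype.ext ?_, Subtype.ext ?_, fun h => ?_⟩
    · rw [← MonoidHom.mem_ker, QuotientGroup.ker_mk', Subgroup.mem_subgroupOf]
      constructor
      · intro hc
        obtain ⟨i, hi⟩ := Subgroup.mem_zpowers_iff.1 hc
        rcases Int.even_or_odd i with ⟨k, rfl⟩ | ⟨k, rfl⟩
        · left
          refine Subtype.ext ?_
          rw [← hi, ← two_mul, zpow_mul, zpow_two, hd2, one_zpow]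
          rfl
        · right
          refine Subtype.ext ?_
          rw [← hi, hz, zpow_add, zpow_mul, zpow_two, hd2, one_zpow, one_mul, zpow_one]
      · rintro (rfl | rfl)
        · exact one_mem _
        · rw [hz]; exact Subgroup.mem_zpowers d
    · show (z : G) * c = c * z
      rw [hz]
      exact (Subgroup.mem_centralizer_singleton_iff.1 c.2).symm
    · show (z : G) * z = 1
      rw [hz, hd2]
    · exact hd1 (by rw [← hz, h]; rfl)
  have hcentral : π.ker ≤ Subgroup.center ↥(Subgroup.centralizer ({d} : Set G)) := fun k hk => by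
    rcases (hdbl.ker_iff k).1 hk with rfl | rfl
    · exact one_mem _
    · exact Subgroup.mem_center_iff.2 fun g => (hdbl.central g).eq.symm
  have hcen : Subgroup.center ↥(Subgroup.centralizer ({d} : Set G)) = ((Subgroup.zpowers d).subgroupOf (Subgroup.centralizer ({d} : Set G))) := by
    refine le_antisymm (fun z hz => ?_) (by rw [← QuotientGroup.ker_mk' ((Subgroup.zpowers d).subgroupOf (Subgroup.centralizer ({d} : Set G)))]; exact hcentral)
    rw [← QuotientGroup.eq_one_iff, ← Subgroup.mem_bot, ← h22.1, Subgroup.mem_center_iff]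
    intro y
    obtain ⟨y, rfl⟩ := QuotientGroup.mk'_surjective ((Subgroup.zpowers d).subgroupOf (Subgroup.centralizer ({d} : Set G))) y
    exact congrArg (QuotientGroup.mk' ((Subgroup.zpowers d).subgroupOf (Subgroup.centralizer ({d} : Set G)))) (Subgroup.mem_center_iff.1 hz y)
  haveI := hq.2
  haveI : IsSimpleGroup (↥(Subgroup.centralizer ({d} : Set G)) ⧸ ((Subgroup.zpowers d).subgroupOf (Subgroup.centralizer ({d} : Set G)))) :=
    MulEquiv.isSimpleGroup (QuotientGroup.quotientMulEquivOfEq hcen).symm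
  have hperf : commutator ↥(Subgroup.centralizer ({d} : Set G)) = ⊤ := Group.isPerfect_def.1 hq.1
  have hT := trans_of_class hE
  have hprim : Cfsg.IsPrimitiveUnderConj E := by
    obtain ⟨hZ', d₁, hd₁, c₁, hc₁, hnc, -⟩ := id h22
    exact primitive_of_simple hT ⟨d₁, hd₁, c₁, hc₁, fun h => hnc (h ▸ Commute.refl d₁)⟩ hZ'
  have hgrp : Cfsg.IsThreeTranspositionGroup E := ⟨hE.1, hT.conj, hT.gen⟩
  obtain ⟨T₀⟩ := Fi22Norm.exists_tab hgrp hprim h22
  obtain ⟨T, hTS⟩ := exists_tab_cover hdbl T₀ S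
  obtain ⟨L₀⟩ := exists_lifts_cover hE h22 hdbl T
  obtain ⟨L, hL⟩ := exists_coord_std T hdbl hperf L₀
  obtain ⟨hJ, huniq⟩ := thompson_cover T hdbl L₀
  have hmax : ∀ B : Subgroup ↥(Subgroup.centralizer ({d} : Set G)), Cfsg.IsElementaryAbelian 2 B → 2048 ≤ Nat.card B →
      ∃ c, ((base T).comap π).map (MulAut.conj c).toMonoidHom = B := by
    intro B hB hc
    have hP : IsPGroup 2 B := fun g => ⟨1, by
      refine Subtype.ext ?_
      show (g : ↥(Subgroup.centralizer ({d} : Set G))) ^ (2 ^ 1) = 1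
      exact hB.2 g.1 g.2⟩
    obtain ⟨S', hS'⟩ := hP.exists_le_sylow
    obtain ⟨c, hc'⟩ := MulAction.exists_smul_eq ↥(Subgroup.centralizer ({d} : Set G)) S' S
    have hle : B.map (MulAut.conj c).toMonoidHom ≤ (twoGroup T).comap π := by
      rw [hTS, ← hc', Sylow.coe_subgroup_smul]
      exact Subgroup.map_mono hS'
    have h := huniq _ hle (Cfsg.Lib.Thompson.isEA_map _ hB) (by
      rwa [Subgroup.card_map_of_injective (f := (MulAut.conj c).toMonoidHom) (MulAut.conj c).injective])
    refine ⟨c⁻¹, ?_⟩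
    rw [← h, Subgroup.map_map]
    convert Subgroup.map_id B
    ext x
    simp [mul_assoc]
  let U : Setup d (↥(Subgroup.centralizer ({d} : Set G)) ⧸ ((Subgroup.zpowers d).subgroupOf (Subgroup.centralizer ({d} : Set G)))) E := ⟨π, z, hdbl, hz, T, L, hL, hmax⟩
  have hAK : A = U.K := by rw [hA, ← hTS, hJ]; rfl
  have hne : ∃ x ∈ U.X, x ≠ d := by
    obtain ⟨g, hgC, hgd⟩ := hnwc
    obtain ⟨x, hx⟩ : ∃ x : ↥(Subgroup.centralizer ({d} : Set G)), (x : G) = g * d * g⁻¹ := ⟨⟨_, hgC⟩, rfl⟩
    have hx2 : x * x = 1 := Subtype.ext (by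
      show (x : G) * x = 1
      rw [hx, show g * d * g⁻¹ * (g * d * g⁻¹) = g * (d * d) * g⁻¹ by group, hd2]; group)
    have hxo : orderOf (π x) = 2 := by
      refine orderOf_eq_prime (by rw [← map_pow, pow_two, hx2, map_one]) fun h => ?_
      rcases (hdbl.ker_iff x).1 h with h' | h'
      · refine hd1 ?_
        have h'' : g * d * g⁻¹ = 1 := by rw [← hx, h']; rfl
        rwa [mul_inv_eq_one, mul_eq_left] at h''
      · exact hgd (by rw [← hx, h', hz])
    obtain ⟨u, hu⟩ := exists_conj_base hT hprim h22 T hE.1 hxo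
    obtain ⟨c, rfl⟩ := hdbl.surj u
    refine ⟨(c : G) * (g * d * g⁻¹) * (c : G)⁻¹, ⟨⟨c * x * c⁻¹, ?_, by simp [hx]⟩, ?_⟩, fun h => hgd ?_⟩
    · show π (c * x * c⁻¹) ∈ base T
      rw [map_mul, map_mul, map_inv]
      exact hu
    · exact (isConj_iff.2 ⟨g, rfl⟩).trans (isConj_iff.2 ⟨(c : G), rfl⟩)
    · rw [← mul_left_inj (c : G)⁻¹, ← mul_right_inj (c : G), ← mul_assoc, h]
      calc d = d * ((c : G) * (c : G)⁻¹) := by group
        _ = (c : G) * (d * (c : G)⁻¹) := by
          rw [← mul_assoc, ← Subgroup.mem_centralizer_singleton_iff.1 c.2, mul_assoc]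
  rw [hAK]
  refine ⟨U.isEA, U.card_K, U.ncard_eq hne, fun x hx y hy hxd hyd => ?_⟩
  obtain ⟨n₁, h₁, e₁⟩ := U.X_trans (x := x) ⟨hx, hxd⟩
  obtain ⟨n₂, h₂, e₂⟩ := U.X_trans (x := y) ⟨hy, hyd⟩
  refine ⟨n₂ * n₁⁻¹, mul_mem h₂ (inv_mem h₁), ?_⟩
  rw [← e₁, ← e₂]
  group

end Cfsg.Agent.S5455
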