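import Cfsg.Statements.S5457
import Cfsg.Agent.S5399
import Cfsg.Agent.S5456

set_option autoImplicit false
open Cfsg

namespace Cfsg.Agent.S5457

open Cfsg.Lib.Fischer Cfsg.Lib.Fischer.Relations Cfsg.Lib.Fischer.RadicalAbelian Cfsg.Lib.Linear.Herm

/-- The neighbourhood contains a path of four members. -/
theorem exists_path {G : Type*} [Group G] [Finite G] {D : Set G} {d b : G} {F : Type} [Field F] [Fintype F]
    {hF : Fintype.card F = 2 ^ 2} (C : Coord23 D d b hF) :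
    ∃ a ∈ perp D d, ∃ x ∈ perp D d, ∃ c ∈ perp D d, ∃ e ∈ perp D d,
      ¬ Commute a x ∧ ¬ Commute x c ∧ ¬ Commute c e ∧ Commute a c ∧ Commute x e ∧ Commute a e := by
  have hB6 : ∀ v w : Fin 6 → F, hB hF 6 v w = Cfsg.hermForm 6 F 2 w v := fun v w => hB_apply hF 6 v w
  have h2F : (2 : F) = 0 := (fourField hF).two
  have hsub : ∀ x ∈ perp D d, x ∈ D := fun x hx => hx.1
  have hpt : ∀ v : Fin 6 → F, v ≠ 0 → hB hF 6 v v = 0 → ∃ s, ∃ hs : s ∈ perp D d,
      bar hs ∈ perp (image (perp D d)) (bar C.bmem) ∧ ∃ k : F, k ≠ 0 ∧ C.co.U.c (bar hs) = k • v := by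
    intro v hv h0
    obtain ⟨q, hq, k, hk, e⟩ := C.co.exists_point hv h0
    obtain ⟨s, hs, rfl⟩ := exists_bar hq.1
    exact ⟨s, hs, hq, k, hk, e⟩
  have hne1 : ∀ i : Fin 6, ∀ v : Fin 6 → F, v i = 1 → v ≠ 0 := fun i v hv e => by simp [e] at hv
  obtain ⟨a, ha, ha', i, hi, ea⟩ := hpt ![1, 1, 0, 0, 0, 0] (hne1 0 _ rfl)
    (by simp [hB6, Cfsg.hermForm, Fin.sum_univ_six]; linear_combination h2F)
  obtain ⟨x, hx, hx', j, hj, ex⟩ := hpt ![0, 1, 1, 0, 0, 0] (hne1 1 _ rfl)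
    (by simp [hB6, Cfsg.hermForm, Fin.sum_univ_six]; linear_combination h2F)
  obtain ⟨c, hc, hc', k, hk, ec⟩ := hpt ![0, 0, 1, 1, 0, 0] (hne1 2 _ rfl)
    (by simp [hB6, Cfsg.hermForm, Fin.sum_univ_six]; linear_combination h2F)
  obtain ⟨e, he, he', n, hn, ee⟩ := hpt ![0, 0, 0, 1, 1, 0] (hne1 3 _ rfl)
    (by simp [hB6, Cfsg.hermForm, Fin.sum_univ_six]; linear_combination h2F)
  refine ⟨a, ha, x, hx, c, hc, e, he, ?_, ?_, ?_, ?_, ?_, ?_⟩
  all_goals
    rw [← bar_commute C.data.trans hsub (by assumption) (by assumption),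
      C.co.U.comm _ (by assumption) _ (by assumption)]
    simp [ea, ex, ec, ee, hB6, Cfsg.hermForm, Fin.sum_univ_six, hi, hj, hk, hn]

/-- Let G be a finite group with trivial centre generated by a conjugation-invariant set D of 3-transpositions on which it acts primitively, of type M(23), and suppose G also has an involution whose centralizer C is quasisimple, with C modulo the subgroup generated by that involution both of type M(22) (for some generating class of 3-transpositions) and possessing an involution whose own centralizer is quasisimple with quotient by it the projective special unitary group of dimension 6 over the field with four elements and which is not weakly closed in that centralizer, and with the first involution not weakly closed in C. Then D is the only conjugacy class of 3-transpositions generating G. -/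
theorem result {G : Type*} [Group G] [Finite G] {D : Set G} (hD : Cfsg.IsThreeTranspositionGroup D) (hprim : Cfsg.IsPrimitiveUnderConj D) (h23 : Cfsg.IsOfTypeM23 G D) (hM : ∃ d : G, orderOf d = 2 ∧ Cfsg.IsQuasisimple ↥(Subgroup.centralizer ({d} : Set G)) ∧ (∃ (_ : ((Subgroup.zpowers d).subgroupOf (Subgroup.centralizer ({d} : Set G))).Normal), (∃ E : Set (↥(Subgroup.centralizer ({d} : Set G)) ⧸ (Subgroup.zpowers d).subgroupOf (Subgroup.centralizer ({d} : Set G))), Cfsg.IsThreeTranspositionClass E ∧ Cfsg.IsOfTypeM22 _ E) ∧ ∃ d' : ↥(Subgroup.centralizer ({d} : Set G)) ⧸ (Subgroup.zpowers d).subgroupOf (Subgroup.centralizer ({d} : Set G)), orderOf d' = 2 ∧ Cfsg.IsQuasisimple ↥(Subgroup.centralizer ({d'} : Set _)) ∧ (∃ (K : Type) (_ : Field K) (_ : Fintype K), Fintype.card K = 4 ∧ ∃ _ : ((Subgroup.zpowers d').subgroupOf (Subgroup.centralizer ({d'} : Set _))).Normal, Nonempty (↥(Subgroup.centralizer ({d'} : Set _)) ⧸ (Subgroup.zpowers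 d').subgroupOf (Subgroup.centralizer ({d'} : Set _)) ≃* Cfsg.PSU 6 K 2)) ∧ ∃ g, g * d' * g⁻¹ ∈ Subgroup.centralizer ({d'} : Set _) ∧ g * d' * g⁻¹ ≠ d') ∧ ∃ g : G, g * d * g⁻¹ ∈ Subgroup.centralizer ({d} : Set G) ∧ g * d * g⁻¹ ≠ d) (D' : Set G) (hD' : Cfsg.IsThreeTranspositionClass D') : D' = D := by
  obtain ⟨hset, hconj, hgen⟩ := hD
  have hne : D.Nonempty := by
    obtain ⟨-, d, hd, -⟩ := h23
    exact ⟨d, hd⟩
  have hT : Trans D := ⟨hset, hconj, hprim.1, hgen, hne⟩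
  obtain ⟨d₁, K⟩ := m23_data hT hprim h23 fun c hc Q hQ =>
    Dvd.dvd.trans (by norm_num) (ReflSeven.quot_dvd Q hQ hc)
  obtain ⟨F, _, _, hF, b₁, ⟨C⟩⟩ := exists_coord23 K
  have h6 : NoRel D 6 := noRel_lift hT K.sep K.mem hprim.2.1 C.co.noRel
  obtain ⟨-, hDc, -, -, -⟩ := m23_order hT hprim h23
  obtain ⟨hset', ⟨d', hd', rfl⟩, -⟩ := hD'
  have hd'2 : d' * d' = 1 := by rw [← pow_two, ← hset'.1 d' hd', pow_orderOf_eq_one]
  obtain ⟨a₀, ha₀, hxa⟩ := exists_fixed_member hT (by rw [hDc]; norm_num) hd'2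
  obtain ⟨g, hg⟩ := hT.trans a₀ ha₀ d₁ K.mem
  obtain ⟨m, hm, hy⟩ := C.involution_isProd h6 (x := g * d' * g⁻¹) (hg ▸ (Commute.conj_iff g).2 hxa) (by
    calc g * d' * g⁻¹ * (g * d' * g⁻¹) = g * (d' * d') * g⁻¹ := by group
      _ = 1 := by rw [hd'2, mul_one, mul_inv_cancel])
  have hm' : IsProd D m d' := by simpa [mul_assoc] using hy.conj hT g⁻¹
  have hm1 : 1 ≤ m := Nat.one_le_iff_ne_zero.2 fun h0 => by
    obtain ⟨l, -, hlen, -, -, e⟩ := hm'
    rw [h0, List.length_eq_zero_iff] at hlen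
    have := hset'.1 d' hd'
    rw [← e, hlen] at this
    simp at this
  rcases eq_or_lt_of_le hm1 with rfl | hm2
  · obtain ⟨l, -, hlen, hl, -, e⟩ := hm'
    obtain ⟨a, rfl⟩ := List.length_eq_one_iff.1 hlen
    rw [List.prod_singleton] at e
    subst e
    ext x
    refine ⟨fun hx => ?_, fun hx => isConj_iff.2 (hT.trans a (hl a (by simp)) x hx)⟩
    obtain ⟨c, rfl⟩ := isConj_iff.1 hx
    exact hT.conj c a (hl a (by simp))
  exfalso
  obtain ⟨a, ha, b, hb, c, hc, e, he, hab, hbc, hce, hac, hbe, hae⟩ := exists_path C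
  have h5 : NoRel D 5 := fun l h1 h2 h3 h4 h5 => h6 l h1 h2 h3 h4 (by omega)
  have nac : a ≠ c := fun h => hce (h ▸ hae)
  have nbe : b ≠ e := fun h => hab (h ▸ hae)
  have hin : ∀ x, IsProd D m x → x ∈ conjugatesOf d' := fun x hx =>
    Cfsg.Agent.S5399.isConj_prod K hm1 hm hm' hx
  obtain ⟨z, hz, hzc, hza, hzb⟩ : ∃ z : G, z * z = 1 ∧ (∀ u ∈ perp D d₁, Commute z u) ∧
      IsProd D m (z * (a * c)) ∧ IsProd D m (z * (b * e)) := by
    interval_cases m
    · refine ⟨1, one_mul 1, fun u _ => Commute.one_left u, ⟨[a, c], ?_⟩, ⟨[b, e], ?_⟩⟩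
      · simp [nac, ha.1, hc.1, hac, hac.symm]
      · simp [nbe, hb.1, he.1, hbe, hbe.symm]
    · refine ⟨d₁, mul_self hT K.mem, fun u hu => hu.2.2, ⟨[d₁, a, c], ?_⟩, ⟨[d₁, b, e], ?_⟩⟩
      · obtain ⟨h1, h2, h3⟩ := IsTriple.mk K.mem ha.1 hc.1 ha.2.1.symm hc.2.1.symm nac ha.2.2 hc.2.2 hac
        exact ⟨h1, rfl, h2, h3, by simp⟩
      · obtain ⟨h1, h2, h3⟩ := IsTriple.mk K.mem hb.1 he.1 hb.2.1.symm he.2.1.symm nbe hb.2.2 he.2.2 hbe
        exact ⟨h1, rfl, h2, h3, by simp⟩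
  exact Cfsg.Agent.S5456.path_false hT h5 ha.1 hb.1 hc.1 he.1 hab hbc hce hac hbe hae hz (hzc a ha) (hzc c hc)
    (hset'.2 _ (hin _ hza) _ (hin _ hzb))

end Cfsg.Agent.S5457
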