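import Cfsg.Statements.S5459
import Mathlib

set_option autoImplicit false
open Cfsg

namespace Cfsg.Agent.S5459

open scoped commutatorElement


/-- Let G be a finite group with a quasisimple normal subgroup L and an involution d such that G is generated by L and d, the centre of L has odd order, and d inverts every element of the centre of L. If the commuting graph on the conjugacy class of the image of d in G modulo the centre of L is connected, then the commuting graph on the conjugacy class of d is connected. -/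
theorem result {G : Type*} [Group G] [Finite G] (L : Subgroup G) [L.Normal] (hL : Cfsg.IsQuasisimple ↥L) (d : G) (hd : orderOf d = 2) (hgen : L ⊔ Subgroup.zpowers d = ⊤) (hodd : Odd (Nat.card ↥(Subgroup.center ↥L))) (hinv : ∀ c ∈ (Subgroup.center ↥L).map L.subtype, d * c * d⁻¹ = c⁻¹) [hn : ((Subgroup.center ↥L).map L.subtype).Normal] (hconn : (Cfsg.commutingGraph (conjugatesOf (QuotientGroup.mk d : G ⧸ (Subgroup.center ↥L).map L.subtype))).Connected) : (Cfsg.commutingGraph (conjugatesOf d)).Connected := by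
  classical
  set Z := (Subgroup.center ↥L).map L.subtype with hZdef
  set Γ := Cfsg.commutingGraph (conjugatesOf d) with hΓ
  have hd0 : d ∈ conjugatesOf d := mem_conjugatesOf_self
  have hconj : ∀ x ∈ conjugatesOf d, ∀ g : G, g * x * g⁻¹ ∈ conjugatesOf d := fun x hx g =>
    id ((show IsConj d x from hx).trans (isConj_iff.2 ⟨g, rfl⟩))
  have hxinv : ∀ x ∈ conjugatesOf d, ∀ c ∈ Z, x * c * x⁻¹ = c⁻¹ := by
    intro x hx c hc
    obtain ⟨g, rfl⟩ := isConj_iff.1 (show IsConj d x from hx)
    have h1 := hinv (g⁻¹ * c * g) (by simpa using hn.conj_mem c hc g⁻¹)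
    calc g * d * g⁻¹ * c * (g * d * g⁻¹)⁻¹ = g * (d * (g⁻¹ * c * g) * d⁻¹) * g⁻¹ := by group
      _ = c⁻¹ := by rw [h1]; group
  have hsqrt : ∀ c ∈ Z, ∃ e ∈ Z, e * e = c := by
    rintro _ ⟨c, hc, rfl⟩
    have hcop : (Nat.card ↥(Subgroup.center ↥L)).Coprime 2 := (Nat.coprime_two_left.2 hodd).symm
    obtain ⟨e, he⟩ := (powCoprime hcop).surjective ⟨c, hc⟩
    refine ⟨_, ⟨(e : L), e.2, rfl⟩, ?_⟩
    rw [← map_mul, ← pow_two]
    exact congrArg (fun z : Subgroup.center ↥L => ((z : L) : G)) he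
  -- the component of `d`
  let R : G → G → Prop := fun x y => ∃ (hx : x ∈ conjugatesOf d) (hy : y ∈ conjugatesOf d), Γ.Reachable ⟨x, hx⟩ ⟨y, hy⟩
  have hRc : ∀ g x y, R x y → R (g * x * g⁻¹) (g * y * g⁻¹) := by
    rintro g x y ⟨hx, hy, h⟩
    let f : Γ →g Γ :=
      { toFun := fun z => ⟨g * z.1 * g⁻¹, hconj _ z.2 g⟩
        map_rel' := fun {u v} huv => by
          simp only [hΓ, Cfsg.commutingGraph, SimpleGraph.fromRel_adj] at huv ⊢
          obtain ⟨hne, huv⟩ := huv
          refine ⟨fun he => hne (Subtype.ext ?_), ?_⟩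
          · simpa using congrArg Subtype.val he
          · rcases huv with huv | huv
            · exact Or.inl ((huv.map (MulAut.conj g).toMonoidHom))
            · exact Or.inr ((huv.map (MulAut.conj g).toMonoidHom)) }
    exact ⟨hconj _ hx g, hconj _ hy g, h.map f⟩
  have hRt : ∀ {x y z}, R x y → R y z → R x z := fun ⟨hx, _, h⟩ ⟨_, hz, h'⟩ => ⟨hx, hz, h.trans h'⟩
  have hRs : ∀ {x y}, R x y → R y x := fun ⟨hx, hy, h⟩ => ⟨hy, hx, h.symm⟩
  let M : Subgroup G :=
    { carrier := {g | R d (g * d * g⁻¹)}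
      one_mem' := by
        show R d (1 * d * 1⁻¹)
        rw [show (1 : G) * d * 1⁻¹ = d by group]
        exact ⟨hd0, hd0, SimpleGraph.Reachable.refl _⟩
      mul_mem' := fun {g h} hg hh => by
        have h1 := hRc g _ _ hh
        show R d (g * h * d * (g * h)⁻¹)
        rw [show g * h * d * (g * h)⁻¹ = g * (h * d * h⁻¹) * g⁻¹ by group]
        exact hRt hg h1
      inv_mem' := fun {g} hg => by
        have h1 := hRc g⁻¹ _ _ hg
        show R d (g⁻¹ * d * g⁻¹⁻¹)
        rw [show g⁻¹ * (g * d * g⁻¹) * g⁻¹⁻¹ = d by group] at h1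
        exact hRs h1 }
  have hKM : ∀ x, R d x → x ∈ M := fun x hx => by
    have h1 := hRc x _ _ hx
    rw [show x * x * x⁻¹ = x by group] at h1
    exact hRt hx (hRs h1)
  -- every conjugate lies in `M * Z`
  have hlift : ∀ q : conjugatesOf (QuotientGroup.mk d : G ⧸ Z), ∃ x, R d x ∧ (QuotientGroup.mk x : G ⧸ Z) = q.1 := by
    intro q
    have hreach := (SimpleGraph.reachable_iff_reflTransGen _ _).1 (hconn.preconnected ⟨_, mem_conjugatesOf_self⟩ q)
    induction hreach with
    | refl => exact ⟨d, ⟨hd0, hd0, SimpleGraph.Reachable.refl _⟩, rfl⟩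
    | @tail u v _ huv ih =>
      obtain ⟨x, hx, hxu⟩ := ih
      obtain ⟨gq, hgq⟩ := isConj_iff.1 (show IsConj (QuotientGroup.mk d : G ⧸ Z) v.1 from v.2)
      obtain ⟨g, rfl⟩ := QuotientGroup.mk_surjective gq
      set y := g * d * g⁻¹ with hy
      have hyq : (QuotientGroup.mk y : G ⧸ Z) = v.1 := by rw [← hgq]; rfl
      obtain ⟨hxc, hxx, -⟩ := id hx
      have hycl : y ∈ conjugatesOf d := hconj _ hd0 g
      simp only [Cfsg.commutingGraph, SimpleGraph.fromRel_adj] at huv
      have huv' : Commute u.1 v.1 := huv.2.elim id Commute.symm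
      have hc : x * y * x⁻¹ * y⁻¹ ∈ Z := by
        rw [← QuotientGroup.eq_one_iff]
        rw [← hxu, ← hyq] at huv'
        simp only [QuotientGroup.mk_mul, QuotientGroup.mk_inv]
        rw [huv'.eq]
        group
      set c := x * y * x⁻¹ * y⁻¹ with hcdef
      obtain ⟨e, he, hee⟩ := hsqrt c hc
      obtain ⟨f, hf, hff⟩ := hsqrt e he
      have hyy : y * f⁻¹ * y⁻¹ = f := by
        rw [hxinv y hycl f⁻¹ (Z.inv_mem hf), inv_inv]
      have hy' : f * y * f⁻¹ = e * y := by
        rw [← hff, show f * y * f⁻¹ = f * (y * f⁻¹ * y⁻¹) * y by group, hyy]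
      have hcomm : Commute x (e * y) := by
        show x * (e * y) = e * y * x
        have h1 : x * y = c * y * x := by rw [hcdef]; group
        calc x * (e * y) = (x * e * x⁻¹) * (x * y) := by group
          _ = e⁻¹ * (c * y * x) := by rw [hxinv x hxx e he, h1]
          _ = e⁻¹ * (e * e * y * x) := by rw [hee]
          _ = e * y * x := by group
      have hey : e * y ∈ conjugatesOf d := hy' ▸ hconj y hycl f
      refine ⟨e * y, hRt hx ⟨hxx, hey, ?_⟩, ?_⟩
      · by_cases hxe : x = e * y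
        · subst hxe; exact SimpleGraph.Reachable.refl _
        · refine SimpleGraph.Adj.reachable ?_
          simp only [hΓ, Cfsg.commutingGraph, SimpleGraph.fromRel_adj]
          exact ⟨fun h => hxe (congrArg Subtype.val h), Or.inl hcomm⟩
      · rw [QuotientGroup.mk_mul, (QuotientGroup.eq_one_iff e).2 he, one_mul, hyq]
  have hclM : ∀ x ∈ conjugatesOf d, x ∈ M ⊔ Z := by
    intro x hx
    obtain ⟨g, rfl⟩ := isConj_iff.1 (show IsConj d x from hx)
    obtain ⟨w, hw, hwq⟩ := hlift ⟨(QuotientGroup.mk (g * d * g⁻¹) : G ⧸ Z),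
      id (isConj_iff.2 ⟨(g : G ⧸ Z), rfl⟩)⟩
    rw [QuotientGroup.eq] at hwq
    rw [← mul_inv_cancel_left w (g * d * g⁻¹)]
    exact Subgroup.mul_mem_sup (hKM w hw) hwq
  have hdM : d ∈ M := hKM d ⟨hd0, hd0, SimpleGraph.Reachable.refl _⟩
  -- `L` lies in `M`
  have hLM : L ≤ M := by
    obtain ⟨hperf, hsimple⟩ := hL
    set N := Subgroup.normalClosure ({d} : Set G) with hN
    haveI : (N.subgroupOf L).Normal := Subgroup.normal_subgroupOf
    have hperf' : ⁅(⊤ : Subgroup L), ⊤⁆ = ⊤ := hperf.commutator_eq_top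
    rcases hsimple.eq_bot_or_eq_top_of_normal ((N.subgroupOf L).map (QuotientGroup.mk' (Subgroup.center L)))
      ((inferInstance : (N.subgroupOf L).Normal).map _ (QuotientGroup.mk'_surjective _)) with h | h
    · -- `d` centralises `L`
      rw [Subgroup.map_eq_bot_iff, QuotientGroup.ker_mk'] at h
      have hmem : ∀ l : L, (⟨(l : G) * d * (l : G)⁻¹ * d⁻¹, by
          rw [show (l : G) * d * (l : G)⁻¹ * d⁻¹ = (l : G) * (d * (l : G)⁻¹ * d⁻¹) by group]
          exact L.mul_mem l.2 (Subgroup.Normal.conj_mem inferInstance _ (L.inv_mem l.2) d)⟩ : L) ∈ Subgroup.center L := by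
        intro l
        apply h
        rw [Subgroup.mem_subgroupOf]
        have hdN : d ∈ N := Subgroup.subset_normalClosure (Set.mem_singleton d)
        exact N.mul_mem (Subgroup.Normal.conj_mem inferInstance d hdN _) (N.inv_mem hdN)
      let φ : L →* Subgroup.center L :=
        MonoidHom.mk' (fun l => ⟨_, hmem l⟩) fun l m => by
          apply Subtype.ext; apply Subtype.ext
          have hc := congrArg Subtype.val (Subgroup.mem_center_iff.1 (hmem m) l)
          simp only [Subgroup.coe_mul] at hc ⊢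
          calc (l : G) * m * d * ((l : G) * m)⁻¹ * d⁻¹
              = ((l : G) * ((m : G) * d * (m : G)⁻¹ * d⁻¹)) * (d * (l : G)⁻¹ * d⁻¹) := by group
            _ = (((m : G) * d * (m : G)⁻¹ * d⁻¹) * (l : G)) * (d * (l : G)⁻¹ * d⁻¹) := by rw [hc]
            _ = ((m : G) * d * (m : G)⁻¹ * d⁻¹) * ((l : G) * d * (l : G)⁻¹ * d⁻¹) := by group
            _ = _ := by
              have h2 := congrArg Subtype.val (Subgroup.mem_center_iff.1 (hmem l)
                ⟨_, (Subtype.mk _ (hmem m) : Subgroup.center L).1.2⟩)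
              simpa [Subgroup.coe_mul] using h2
      have hker : φ.ker = ⊤ := by
        refine eq_top_iff.2 (hperf'.ge.trans ?_)
        rw [Subgroup.commutator_le]
        intro a _ b _
        rw [MonoidHom.mem_ker, map_commutatorElement, commutatorElement_eq_one_iff_mul_comm]
        exact Subtype.ext (Subgroup.mem_center_iff.1 (φ b).2 (φ a).1)
      intro l hl
      have h1 : φ ⟨l, hl⟩ = 1 := by rw [← MonoidHom.mem_ker, hker]; exact Subgroup.mem_top _
      have h2 : l * d * l⁻¹ * d⁻¹ = 1 := congrArg (fun z : Subgroup.center L => ((z : L) : G)) h1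
      show R d (l * d * l⁻¹)
      rw [mul_inv_eq_one.1 h2]
      exact ⟨hd0, hd0, SimpleGraph.Reachable.refl _⟩
    · -- the normal closure contains `L`
      have hsup : N.subgroupOf L ⊔ Subgroup.center L = ⊤ := by
        rw [← QuotientGroup.ker_mk' (Subgroup.center L), ← Subgroup.comap_map_eq, h, Subgroup.comap_top]
      have hLN : L ≤ M ⊔ Z := by
        have hNle : N ≤ M ⊔ Z := by
          rw [hN, Subgroup.normalClosure, Subgroup.closure_le]
          intro x hx
          obtain ⟨y, hy, hyx⟩ := Group.mem_conjugatesOfSet_iff.1 hx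
          rw [Set.mem_singleton_iff.1 hy] at hyx
          exact hclM x (id hyx)
        intro l hl
        have h1 : (⟨l, hl⟩ : L) ∈ N.subgroupOf L ⊔ Subgroup.center L := hsup ▸ Subgroup.mem_top _
        obtain ⟨u, hu, v, hv, huv⟩ := Subgroup.mem_sup_of_normal_left.1 h1
        have h2 : l = (u : G) * (v : G) := by rw [← Subgroup.coe_mul, huv]
        rw [h2]
        exact (M ⊔ Z).mul_mem (hNle hu) (Subgroup.mem_sup_right ⟨v, hv, rfl⟩)
      have hdec : ∀ a : L, ∃ m z : L, (m : G) ∈ M ∧ z ∈ Subgroup.center L ∧ a = z * m := by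
        intro a
        haveI : Z.Normal := hn
        obtain ⟨z, hz, m, hm, hzm⟩ := Subgroup.mem_sup_of_normal_left.1 ((sup_comm M Z) ▸ hLN a.2)
        obtain ⟨z', hz', rfl⟩ := hz
        refine ⟨⟨m, ?_⟩, z', hm, hz', Subtype.ext hzm.symm⟩
        rw [show m = (z' : G)⁻¹ * (a : G) by rw [← hzm]; simp]
        exact L.mul_mem (L.inv_mem z'.2) a.2
      have hle : ⁅(⊤ : Subgroup L), ⊤⁆ ≤ M.subgroupOf L := by
        rw [Subgroup.commutator_le]
        intro a _ b _
        obtain ⟨m, z, hm, hz, rfl⟩ := hdec a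
        obtain ⟨m', z', hm', hz', rfl⟩ := hdec b
        have c1 := Subgroup.mem_center_iff.1 hz
        have c2 := Subgroup.mem_center_iff.1 hz'
        have : ⁅z * m, z' * m'⁆ = ⁅m, m'⁆ := by
          simp only [commutatorElement_def]
          calc z * m * (z' * m') * (z * m)⁻¹ * (z' * m')⁻¹
              = z * (m * z') * m' * m⁻¹ * z⁻¹ * m'⁻¹ * z'⁻¹ := by group
            _ = z * (z' * m) * m' * m⁻¹ * z⁻¹ * m'⁻¹ * z'⁻¹ := by rw [c2 m]
            _ = z * ((z' * (m * m' * m⁻¹)) * z⁻¹) * m'⁻¹ * z'⁻¹ := by group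
            _ = z * (z⁻¹ * (z' * (m * m' * m⁻¹))) * m'⁻¹ * z'⁻¹ := by
              rw [Subgroup.mem_center_iff.1 ((Subgroup.center L).inv_mem hz)]
            _ = z' * (m * m' * m⁻¹ * m'⁻¹) * z'⁻¹ := by group
            _ = m * m' * m⁻¹ * m'⁻¹ := by rw [← c2 (m * m' * m⁻¹ * m'⁻¹), mul_inv_cancel_right]
        rw [this, Subgroup.mem_subgroupOf, commutatorElement_def]
        exact M.mul_mem (M.mul_mem (M.mul_mem hm hm') (M.inv_mem hm)) (M.inv_mem hm')
      rw [hperf'] at hle
      exact fun l hl => hle (Subgroup.mem_top (⟨l, hl⟩ : L))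
  have hMtop : M = ⊤ := eq_top_iff.2 (hgen.ge.trans (sup_le hLM (Subgroup.zpowers_le.2 hdM)))
  haveI : Nonempty (conjugatesOf d) := ⟨⟨d, hd0⟩⟩
  refine SimpleGraph.Connected.mk fun x y => ?_
  have hr : ∀ z : conjugatesOf d, Γ.Reachable ⟨d, hd0⟩ z := by
    intro z
    obtain ⟨g, hg⟩ := isConj_iff.1 (show IsConj d z.1 from z.2)
    obtain ⟨_, _, h⟩ : R d (g * d * g⁻¹) := (hMtop ▸ Subgroup.mem_top g : g ∈ M)
    convert h using 1
    exact Subtype.ext hg.symm
  exact (hr x).symm.trans (hr y)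

end Cfsg.Agent.S5459
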