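import Cfsg.Statements.S5460
import Cfsg.Agent.Lib.FischerLarge.Fi22Part.OuterMain
import Cfsg.Agent.Lib.Fischer.Cent23.Type23
-- import your own Cfsg.Agent.* helpers here

set_option autoImplicit false
open Cfsg Cfsg.Lib.FischerLarge

namespace Cfsg.Agent.S5460

/-- Let X be a finite group with a subgroup G₀ of index 2 that is of large Fischer type at an involution z central in some Sylow 2-subgroup of G₀ (the generalized Fitting subgroup Q of the centralizer C of z in G₀ is extraspecial of order 2^13, C has normal subgroups Q ≤ H₁ ≤ H₂ with H₁/Q of order 3, H₂/H₁ isomorphic to the projective special unitary group of dimension 4 over the field with nine elements and H₂ of index 2 in C, and some G₀-conjugate of z other than z lies in Q), and suppose the generalized Fitting subgroup of the centralizer of z in X is Q as well. Then there is an involution d of X outside G₀ commuting with z, and an involution t of the centralizer Y of d in G₀, such that: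 the centralizer of t in Y is quasisimple; its quotient by the subgroup generated by t is of type M(22) for some generating conjugacy class of 3-transpositions and has an involution whose own centralizer is quasisimple, with quotient by it the projective special unitary group of dimension 6 over the field with four elements, and which is not weakly closed in that centralizer; t is not weakly closed in its centralizer in Y; and the conjugacy class of t in Y is a class of 3-transpositions generating Y with respect to which Y is of type M(23). -/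
theorem result {X : Type*} [Group X] [Finite X] (G₀ : Subgroup X) (hidx : G₀.index = 2) (z : ↥G₀) (Q : Subgroup (Subgroup.centralizer ({z} : Set ↥G₀))) [Q.Normal] (hF : Cfsg.IsOfLargeFischerTypeAt z Q) (hcentral : ∃ P : Sylow 2 ↥G₀, z ∈ (P : Subgroup ↥G₀) ∧ ∀ x ∈ (P : Subgroup ↥G₀), Commute x z) (hFX : (Cfsg.generalizedFittingSubgroup ↥(Subgroup.centralizer ({(z : X)} : Set X))).map (Subgroup.subtype _) = ((Q.map (Subgroup.subtype _)).map G₀.subtype)) : ∃ d : X, orderOf d = 2 ∧ d ∉ G₀ ∧ Commute d (z : X) ∧ ∃ t : ↥(G₀ ⊓ Subgroup.centralizer ({d} : Set X)), orderOf t = 2 ∧ Cfsg.IsQuasisimple ↥(Subgroup.centralizer ({t} : Set ↥(G₀ ⊓ Subgroup.centralizer ({d} : Set X)))) ∧ (∃ (_ : ((Subgroup.zpowers t).subgroupOf (Subgroup.centralizer ({t} : Set ↥(G₀ ⊓ Subgroup.centralizer ({d} : Set X))))).Normal), (∃ E : Set (↥(Subgroup.centralizer ({t} : Set ↥(G₀ ⊓ Subgroup.centralizer ({d} : Set X)))) ⧸ (Subgroup.zpowers t).subgroupOf (Subgroup.centralizer ({t}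 : Set ↥(G₀ ⊓ Subgroup.centralizer ({d} : Set X))))), Cfsg.IsThreeTranspositionClass E ∧ Cfsg.IsOfTypeM22 _ E) ∧ ∃ d' : ↥(Subgroup.centralizer ({t} : Set ↥(G₀ ⊓ Subgroup.centralizer ({d} : Set X)))) ⧸ (Subgroup.zpowers t).subgroupOf (Subgroup.centralizer ({t} : Set ↥(G₀ ⊓ Subgroup.centralizer ({d} : Set X)))), orderOf d' = 2 ∧ Cfsg.IsQuasisimple ↥(Subgroup.centralizer ({d'} : Set _)) ∧ (∃ (K : Type) (_ : Field K) (_ : Fintype K), Fintype.card K = 4 ∧ ∃ _ : ((Subgroup.zpowers d').subgroupOf (Subgroup.centralizer ({d'} : Set _))).Normal, Nonempty (↥(Subgroup.centralizer ({d'} : Set _)) ⧸ (Subgroup.zpowers d').subgroupOf (Subgroup.centralizer ({d'} : Set _)) ≃* Cfsg.PSU 6 K 2)) ∧ ∃ g, g * d' * g⁻¹ ∈ Subgroup.centralizer ({d'} : Set _) ∧ g * d' * g⁻¹ ≠ d') ∧ (∃ g : ↥(G₀ ⊓ Subgroup.centralizer ({d} : Set X)), g * t * g⁻¹ ∈ Subgroup.centralizer ({t} : Set ↥(G₀ ⊓ Subgroup.centralizer ({d} : Set X))) ∧ g * t * g⁻¹ ≠ t) ∧ Cfsg.IsThreeTranspositionClass (conjugatesOf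 t) ∧ Cfsg.IsOfTypeM23 ↥(G₀ ⊓ Subgroup.centralizer ({d} : Set X)) (conjugatesOf t) := by
  classical
  obtain ⟨D⟩ := exists_coord z Q hF
  obtain ⟨Q₀, hQ₀⟩ : ∃ Q₀, Q₀ = Q.map (Subgroup.centralizer ({z} : Set ↥G₀)).subtype := ⟨_, rfl⟩
  obtain ⟨g₁, ⟨hq, hgQ⟩, hne₁⟩ := hF.1.2.2.2.2
  have hs₀ : g₁ * z * g₁⁻¹ ∈ Q.map (Subgroup.centralizer ({z} : Set ↥G₀)).subtype := ⟨_, hgQ, rfl⟩
  have hw : D.Wit g₁ (g₁ * z * g₁⁻¹) := ⟨rfl, hs₀, hne₁⟩
  obtain ⟨F, hFdef⟩ : ∃ F, F = Cfsg.generalizedFittingSubgroup ↥(Subgroup.centralizer ({(z : X)} : Set X)) :=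
    ⟨_, rfl⟩
  rw [← hFdef] at hFX
  haveI hFn : F.Normal := by
    haveI := Lib.Core.fittingSubgroup_normal' ↥(Subgroup.centralizer ({(z : X)} : Set X))
    rw [hFdef, Cfsg.generalizedFittingSubgroup]
    exact Subgroup.sup_normal _ _
  have O : Over G₀ z (Q.map (Subgroup.centralizer ({z} : Set ↥G₀)).subtype) := by
    refine ⟨hidx, hcentral, fun a ha x hx => ?_, fun a ha hall => ?_⟩
    · obtain ⟨w, hwF, hwx⟩ : (x : X) ∈ F.map (Subgroup.subtype _) := hFX ▸ ⟨x, hx, rfl⟩
      have h1 : a * (x : X) * a⁻¹ ∈ F.map (Subgroup.subtype _) :=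
        ⟨⟨a, mem_cent_of_commute ha⟩ * w * ⟨a, mem_cent_of_commute ha⟩⁻¹, hFn.conj_mem w hwF _, by
          rw [map_mul, map_mul, map_inv, hwx]; rfl⟩
      rw [hFX] at h1
      obtain ⟨y, hy, e⟩ := h1
      exact ⟨y, hy, e.symm⟩
    · have h1 : (⟨a, mem_cent_of_commute ha⟩ : ↥(Subgroup.centralizer ({(z : X)} : Set X))) ∈ F := by
        rw [hFdef]
        refine Lib.Core.centralizer_generalizedFitting_le (Subgroup.mem_centralizer_iff.2 fun w hw' => ?_)
        rw [← hFdef, SetLike.mem_coe] at hw'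
        obtain ⟨y, hy, e⟩ : (w : X) ∈ (Q.map (Subgroup.subtype _)).map G₀.subtype := hFX ▸ ⟨w, hw', rfl⟩
        refine Subtype.ext ?_
        show (w : X) * a = a * w
        rw [← e]
        exact (hall y hy).eq.symm
      obtain ⟨y, -, e⟩ : a ∈ (Q.map (Subgroup.subtype _)).map G₀.subtype := hFX ▸ ⟨_, h1, rfl⟩
      rw [← e]
      exact y.2
  obtain ⟨v, hv⟩ := Set.nonempty_of_ncard_ne_zero (s := D.A) (by rw [D.orb.cardA]; norm_num)
  obtain ⟨t, htQ, htv⟩ := D.cl_surj v
  obtain ⟨t2, hd⟩ := D.exists_duo htQ (htv ▸ hv)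
  obtain ⟨d, hd2, hdG, hdz, t', -, ht'2, hqs, hnwc, hn, hE, hinv⟩ := hd.exists_outer_data O hw
  refine ⟨d, hd2, hdG, hdz, t', ht'2, hqs, ⟨hn, hE, hinv⟩, hnwc, ?_⟩
  obtain ⟨E, hcls, h22⟩ := hE
  obtain ⟨y, H⟩ := Lib.Fischer.Cent23.hyp_of ht'2 hqs (QuotientGroup.mk' _) (QuotientGroup.mk'_surjective _)
    (QuotientGroup.ker_mk' _) hcls h22 hnwc
  exact Lib.Fischer.Cent23.type23 H

end Cfsg.Agent.S5460
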