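import Cfsg.Statements.S5461
import Cfsg.Agent.S5415
import Cfsg.Agent.S1715
import Cfsg.Agent.S1691
import Cfsg.Agent.Lib.MonsterFischer.Normalizer
import Cfsg.Agent.Lib.BigPerm.Fi24.Simple
import Cfsg.Agent.Lib.Fischer.Relations.TwentyFour.DerivedAut.Main
import Cfsg.Agent.Lib.Fischer.M24Exist.Fi24Type
import Cfsg.Agent.Lib.Fischer.Thm.Transport
import Cfsg.Agent.Lib.Fischer.Cent23.Type23

set_option autoImplicit false
open Cfsg

namespace Cfsg.Agent.S5461

/-- Conjugation of the presented group on its derived group is bijective. -/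
theorem conj_bijective :
    Function.Bijective (MulAut.conjNormal : Cfsg.Spor.Fi24 →* MulAut ↥(commutator Cfsg.Spor.Fi24)) := by
  haveI := Cfsg.Lib.BigPerm.Fi24.finite_Fi24
  obtain ⟨d, K⟩ := Cfsg.Lib.Fischer.Relations.m24_data
    (Cfsg.Lib.Fischer.trans_of_class Cfsg.Lib.BigPerm.Fi24.isClass)
    Cfsg.Lib.BigPerm.Fi24.isPrimitive Cfsg.Lib.BigPerm.Fi24.isOfTypeM24'
  refine ⟨K.conjNormal_injective, fun ψ => ?_⟩
  obtain ⟨Φ, hΦ⟩ := K.exists_extension ψ
  obtain ⟨g, hg⟩ := K.aut_inner Φ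
  refine ⟨g, MulEquiv.ext fun x => Subtype.ext ?_⟩
  rw [MulAut.conjNormal_apply, ← hΦ x, hg]

/-- The derived group is not commutative. -/
theorem noncomm : ¬ ∀ x y : Cfsg.Spor.Fi24', x * y = y * x := by
  intro h
  obtain ⟨hs, hcard⟩ := Cfsg.Lib.BigPerm.Fi24.isFi24'
  haveI := hs
  letI : CommGroup Cfsg.Spor.Fi24' := { (inferInstance : Group Cfsg.Spor.Fi24') with mul_comm := h }
  have hp : (Nat.card Cfsg.Spor.Fi24').Prime := IsSimpleGroup.prime_card
  rw [hcard] at hp
  have h2 := hp.eq_one_or_self_of_dvd 2 (by norm_num)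
  omega

/-- Let G be a finite group of Monster type at the involution z with Q the extraspecial normal subgroup of order 2^25 of C_G(z) (C_G(z)/Q identified with the first Conway group with Q modulo its centre the Leech lattice modulo 2, z not weakly closed in Q). Let s be a conjugate of z (in G) lying in Q and other than z, and Y a subgroup of order 3 of the joint centralizer of z and s lying in the centre of some Sylow 3-subgroup of it. Then the centralizer of Y is quasisimple, its quotient by Y is isomorphic to the commutator subgroup of the presented Fischer group Fi₂₄, and the normalizer of Y modulo Y is generated by a conjugacy class of 3-transpositions with respect to which it is of type M(24). -/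
theorem result {G : Type*} [Group G] [Finite G] (z : G) (Q : Subgroup (Subgroup.centralizer ({z} : Set G))) [Q.Normal] (hM : Cfsg.IsOfMonsterType z Q) (s : G) (hsQ : ∃ hsc : s ∈ Subgroup.centralizer ({z} : Set G), (⟨s, hsc⟩ : Subgroup.centralizer ({z} : Set G)) ∈ Q) (hs : IsConj z s) (hs1 : s ≠ z) (Y : Subgroup G) (hY : Y ≤ Subgroup.centralizer ({z, s} : Set G)) (hY3 : Nat.card Y = 3) (hc : ∃ P : Sylow 3 ↥(Subgroup.centralizer ({z, s} : Set G)), Y.subgroupOf (Subgroup.centralizer ({z, s} : Set G)) ≤ (Subgroup.center ↥(P : Subgroup ↥(Subgroup.centralizer ({z, s} : Set G)))).map (P : Subgroup ↥(Subgroup.centralizer ({z, s} : Set G))).subtype) [hn : (Y.subgroupOf (Subgroup.centralizer (Y : Set G))).Normal] [hn' : (Y.subgroupOf (Subgroup.normalizer (Y : Set G))).Normal] : Cfsg.IsQuasisimple ↥(Subgroup.centralizer (Y : Set G)) ∧ Cfsg.Spor.IsoFi24' (↥(Subgroup.centralizer (Y : Set G)) ⧸ Y.subgroupOf (Subgroup.centralizer (Y : Set G))) ∧ ∃ E : Set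 (↥(Subgroup.normalizer (Y : Set G)) ⧸ Y.subgroupOf (Subgroup.normalizer (Y : Set G))), Cfsg.IsThreeTranspositionClass E ∧ Cfsg.IsOfTypeM24 _ E := by
  obtain ⟨hsc, hsQ⟩ := hsQ
  have hlarge := Cfsg.Agent.S5415.result z Q hM s ⟨hsc, hsQ⟩ hs hs1 Y hY hY3 hc
  obtain ⟨zb, Qb, hQb, ⟨hzb, hF, hQe, hcard, hnwc⟩, N, M, hNn, hMn, hQN, hNM, hN, ⟨K, _, _, hK, ⟨eK⟩⟩, hM2⟩ := hlarge
  obtain ⟨eG⟩ := Cfsg.Agent.S1715.result zb hzb Qb N M hF hQe hcard hQN hNM hN K hK eK hM2 hnwc
  obtain ⟨a, rfl, -, ⟨D⟩⟩ := Cfsg.Lib.MonsterFischer.exists_datum hM ⟨⟨s, hsc⟩, hsQ⟩ hs hs1 Y hY hY3 hc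
  set C := Subgroup.centralizer (Subgroup.zpowers a : Set G) with hC
  set Y := Subgroup.zpowers a with hYdef
  have hYC : Y ≤ C := Subgroup.le_centralizer Y
  have hcen : Y.subgroupOf C ≤ Subgroup.center C := fun x hx => Subgroup.mem_center_iff.2 fun g =>
    Subtype.ext (Subgroup.mem_centralizer_iff.1 g.2 _ (Subgroup.mem_subgroupOf.1 hx)).symm
  have hder : Y.subgroupOf C ≤ commutator C := fun x hx => by
    have h1 : (x : G) ∈ ⁅C, C⁆ := (Subgroup.zpowers_le.2 (Cfsg.Lib.MonsterFischer.mem_commutator_cen D))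
      (Subgroup.mem_subgroupOf.1 hx)
    rw [← Subgroup.map_subtype_commutator] at h1
    obtain ⟨u, hu, e⟩ := h1
    rwa [← (Subtype.ext e : u = x)]
  have hsimple : IsSimpleGroup (C ⧸ Y.subgroupOf C) :=
    eG.isSimpleGroup_congr.2 Cfsg.Lib.BigPerm.Fi24.isFi24'.1
  obtain ⟨hqs, -⟩ := Cfsg.Lib.MonsterFischer.quasisimple_of_central (Y.subgroupOf C) hcen hder hsimple
    fun h => noncomm fun x y => eG.symm.injective (by rw [map_mul, map_mul]; exact h _ _)
  refine ⟨hqs, ⟨eG⟩, ?_⟩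
  obtain ⟨c, hca⟩ := Cfsg.Lib.MonsterFischer.exists_inverts D
  have hne : a ^ 2 ≠ a := fun h => by
    have h1 : a = 1 := by simpa [pow_two] using h
    have h3 := D.order
    rw [h1, orderOf_one] at h3
    omega
  have hmap : Y.map (MulAut.conj c).toMonoidHom = Y := by
    rw [hYdef, MonoidHom.map_zpowers]
    show Subgroup.zpowers (c * a * c⁻¹) = _
    rw [hca]
    refine le_antisymm (Subgroup.zpowers_le.2 (Subgroup.npow_mem_zpowers a 2)) (Subgroup.zpowers_le.2 ?_)
    have h4 : (a ^ 2) ^ 2 = a := by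
      rw [← pow_mul, ← pow_mod_orderOf, D.order, show 2 * 2 % 3 = 1 from rfl, pow_one]
    have h5 := Subgroup.npow_mem_zpowers (a ^ 2) 2
    rwa [h4] at h5
  have hcN : c ∈ Subgroup.normalizer (Y : Set G) := Subgroup.mem_normalizer_iff.2 fun y => by
    constructor
    · intro hy
      rw [← hmap]
      exact ⟨y, hy, rfl⟩
    · intro hy
      obtain ⟨w, hw, e⟩ := (hmap.symm ▸ hy : c * y * c⁻¹ ∈ Y.map (MulAut.conj c).toMonoidHom)
      rwa [← (MulAut.conj c).injective e]
  have hcC : c ∉ C := fun h => hne (by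
    rw [← hca, ← Subgroup.mem_centralizer_iff.1 h a (Subgroup.mem_zpowers a), mul_inv_cancel_right])
  haveI := Cfsg.Lib.BigPerm.Fi24.finite_Fi24
  obtain ⟨e⟩ := Cfsg.Lib.MonsterFischer.normalizer_quot (commutator Cfsg.Spor.Fi24) Cfsg.Agent.S1691.result
    conj_bijective Y hYC hqs.1.commutator_eq_top ⟨c, hcN, hcC⟩ eG
  exact ⟨e '' Cfsg.Lib.BigPerm.Fi24.D, Cfsg.Lib.Fischer.Cent23.class_map e Cfsg.Lib.BigPerm.Fi24.isClass,
    Cfsg.Lib.Fischer.Thm.isOfTypeM24_map e Cfsg.Lib.BigPerm.Fi24.isOfTypeM24'⟩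

end Cfsg.Agent.S5461
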