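import Cfsg.Statements.S5462
import Cfsg.Agent.Lib.Fischer.Relations.FixedMember.Main
import Cfsg.Agent.Lib.Fischer.Relations.FixedMember.Class

set_option autoImplicit false
open Cfsg

namespace Cfsg.Agent.S5462

/-- Let G be a finite group with trivial centre generated by a conjugation-invariant set D of 3-transpositions on which it acts primitively, such that for some d in D the subgroup generated by the members of D other than d commuting with d has central largest normal 2- and 3-subgroups, and suppose G with D is of type M(22). Then every automorphism of G of order 2 fixes some member of D. -/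
theorem result {G : Type*} [Group G] [Finite G] {D : Set G} (hD : Cfsg.IsThreeTranspositionGroup D) (hprim : Cfsg.IsPrimitiveUnderConj D) (d₀ : G) (hd₀ : d₀ ∈ D) (h3 : Cfsg.pCore 3 ↥(Subgroup.closure {y : G | y ∈ D ∧ y ≠ d₀ ∧ Commute d₀ y}) ≤ Subgroup.center ↥(Subgroup.closure {y : G | y ∈ D ∧ y ≠ d₀ ∧ Commute d₀ y})) (h2 : Cfsg.pCore 2 ↥(Subgroup.closure {y : G | y ∈ D ∧ y ≠ d₀ ∧ Commute d₀ y}) ≤ Subgroup.center ↥(Subgroup.closure {y : G | y ∈ D ∧ y ≠ d₀ ∧ Commute d₀ y})) (h22 : Cfsg.IsOfTypeM22 G D) (φ : MulAut G) (hφ : orderOf φ = 2) : ∃ d ∈ D, φ d = d := by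
  obtain ⟨hset, hconj, hgen⟩ := id hD
  have hT : Cfsg.Lib.Fischer.Trans D := ⟨hset, hconj, hprim.1, hgen, ⟨d₀, hd₀⟩⟩
  obtain ⟨F, _, _, hF, d₁, ⟨C⟩⟩ := Cfsg.Lib.Fischer.Relations.m22_coord hT hprim h22
  have hS : Cfsg.Lib.Fischer.Relations.FixedMember.Srg D hF := by
    refine ⟨C.fis, C.nbr, Cfsg.Lib.Fischer.Relations.params_of_one C.fis C.mem C.card_perp fun t ht => ?_,
      (Cfsg.Lib.Fischer.Relations.m22_order hT hprim h22).1⟩
    exact C.card_common_perp ht
  obtain ⟨a, ha⟩ := hT.ne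
  have hclass : D = conjugatesOf a := by
    ext x
    constructor
    · intro hx
      obtain ⟨g, hg⟩ := hT.trans a ha x hx
      exact isConj_iff.2 ⟨g, hg⟩
    · intro hx
      obtain ⟨g, rfl⟩ := isConj_iff.1 hx
      exact hconj g a ha
  have himg : φ '' D = D := by
    refine Cfsg.Lib.Fischer.Relations.FixedMember.class_unique hD hprim h22 _ ⟨⟨?_, ?_⟩, ⟨φ a, ?_, ?_⟩, ?_⟩
    · rintro _ ⟨x, hx, rfl⟩
      rw [φ.orderOf_eq]
      exact hset.1 x hx
    · rintro _ ⟨x, hx, rfl⟩ _ ⟨y, hy, rfl⟩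
      rcases hset.2 x hx y hy with h | h
      · exact Or.inl (by rw [← map_mul, ← map_pow, h, map_one])
      · exact Or.inr (by rw [← map_mul, ← map_pow, h, map_one])
    · exact Set.mem_image_of_mem _ ha
    · ext x
      constructor
      · rintro ⟨y, hy, rfl⟩
        obtain ⟨g, rfl⟩ := hT.trans a ha y hy
        exact isConj_iff.2 ⟨φ g, by simp⟩
      · intro hx
        obtain ⟨g, rfl⟩ := isConj_iff.1 hx
        exact ⟨φ.symm g * a * (φ.symm g)⁻¹, hconj _ a ha, by simp⟩
    · rw [show φ '' D = φ.toMonoidHom '' D from rfl, ← MonoidHom.map_closure, hgen]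
      exact Subgroup.map_top_of_surjective _ φ.surjective
  refine Cfsg.Lib.Fischer.Relations.FixedMember.exists_fixed hS φ (fun x => ?_) fun x hx => himg ▸ Set.mem_image_of_mem φ hx
  have h2 : φ ^ 2 = 1 := by rw [← hφ, pow_orderOf_eq_one]
  exact DFunLike.congr_fun h2 x

end Cfsg.Agent.S5462
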