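import Cfsg.Statements.S5463
import Cfsg.Agent.Lib.Fischer.Relations.M22

set_option autoImplicit false
open Cfsg

namespace Cfsg.Agent.S5463

/-- Let G be a finite group with trivial centre generated by a conjugation-invariant set D of 3-transpositions on which it acts primitively, such that for some d in D the subgroup generated by the members of D other than d commuting with d has central largest normal 2- and 3-subgroups, and suppose G with D is of type M(22). A product j of two distinct commuting members of D determines the pair: any two 2-element sets of commuting members of D with product j coincide. A product j of three distinct pairwise commuting members of D arises from exactly two such 3-element sets. -/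
theorem result {G : Type*} [Group G] [Finite G] {D : Set G} (hD : Cfsg.IsThreeTranspositionGroup D) (hprim : Cfsg.IsPrimitiveUnderConj D) (d₀ : G) (hd₀ : d₀ ∈ D) (h3 : Cfsg.pCore 3 ↥(Subgroup.closure {y : G | y ∈ D ∧ y ≠ d₀ ∧ Commute d₀ y}) ≤ Subgroup.center ↥(Subgroup.closure {y : G | y ∈ D ∧ y ≠ d₀ ∧ Commute d₀ y})) (h2 : Cfsg.pCore 2 ↥(Subgroup.closure {y : G | y ∈ D ∧ y ≠ d₀ ∧ Commute d₀ y}) ≤ Subgroup.center ↥(Subgroup.closure {y : G | y ∈ D ∧ y ≠ d₀ ∧ Commute d₀ y})) (h22 : Cfsg.IsOfTypeM22 G D) : (∀ (j : G) (l l' : List G), (l.Nodup ∧ l.length = 2 ∧ (∀ a ∈ l, a ∈ D) ∧ (∀ a ∈ l, ∀ b ∈ l, Commute a b) ∧ l.prod = j) → (l'.Nodup ∧ l'.length = 2 ∧ (∀ a ∈ l', a ∈ D) ∧ (∀ a ∈ l', ∀ b ∈ l', Commute a b) ∧ l'.prod = j) → (∀ x : G, x ∈ l ↔ x ∈ l')) ∧ ∀ (j : G) (l₀ : List G), (l₀.Nodup ∧ l₀.length = 3 ∧ (∀ a ∈ l₀, a ∈ D) ∧ (∀ a ∈ l₀, ∀ b ∈ l₀, Commute a b) ∧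 l₀.prod = j) → ∃ l₁ l₂ : List G, (l₁.Nodup ∧ l₁.length = 3 ∧ (∀ a ∈ l₁, a ∈ D) ∧ (∀ a ∈ l₁, ∀ b ∈ l₁, Commute a b) ∧ l₁.prod = j) ∧ (l₂.Nodup ∧ l₂.length = 3 ∧ (∀ a ∈ l₂, a ∈ D) ∧ (∀ a ∈ l₂, ∀ b ∈ l₂, Commute a b) ∧ l₂.prod = j) ∧ ¬ (∀ x : G, x ∈ l₁ ↔ x ∈ l₂) ∧ ∀ l : List G, (l.Nodup ∧ l.length = 3 ∧ (∀ a ∈ l, a ∈ D) ∧ (∀ a ∈ l, ∀ b ∈ l, Commute a b) ∧ l.prod = j) → ((∀ x : G, x ∈ l ↔ x ∈ l₁) ∨ (∀ x : G, x ∈ l ↔ x ∈ l₂)) := by
  classical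
  obtain ⟨hset, hconj, hgen⟩ := hD
  have hT : Lib.Fischer.Trans D := ⟨hset, hconj, hprim.1, hgen, ⟨d₀, hd₀⟩⟩
  obtain ⟨hZ, hsep, F, _, _, hF, hU⟩ := Lib.Fischer.Relations.m22_setup hT hprim h22
  obtain ⟨U⟩ := hU d₀ hd₀
  have h5 := Lib.Fischer.Relations.noRel_five hT (Lib.Fischer.RadicalAbelian.fourField hF)
    (Lib.Linear.Herm.hB_isSymm hF 6) (Lib.Linear.Herm.hB_nondegenerate hF 6)
    (by rw [Module.finrank_fin_fun]; norm_num) hd₀ U hprim.2.1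
  refine ⟨fun j l l' hl hl' => ?_, fun j l₀ hl₀ => ?_⟩
  · exact Lib.Fischer.Relations.mem_iff_of_prod_eq hT h5 hl.1 hl'.1 hl.2.2.1 hl'.2.2.1 hl.2.2.2.1 hl'.2.2.2.1
      (by omega) (by omega) (hl.2.2.2.2.trans hl'.2.2.2.2.symm)
  · obtain ⟨hnd, hlen, hmem, hc, rfl⟩ := hl₀
    match l₀, hlen with
    | [a, b, c], _ =>
      obtain ⟨e, f, g, ⟨h1, h2', h3', h4⟩, hne, hall⟩ :=
        Lib.Fischer.Relations.three_exactly_two hT hprim hZ hsep hU hnd hmem hc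
      exact ⟨[a, b, c], [e, f, g], ⟨hnd, rfl, hmem, hc, rfl⟩, ⟨h1, rfl, h2', h3', h4⟩,
        fun h => hne ((h e).2 (by simp)), fun l hl => hall l hl.1 hl.2.1 hl.2.2.1 hl.2.2.2.1 hl.2.2.2.2⟩

end Cfsg.Agent.S5463
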