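import Cfsg.Statements.S5469
import Cfsg.Agent.Lib.Fischer.Relations.TwoPair.Main

set_option autoImplicit false
open Cfsg

namespace Cfsg.Agent.S5469

/-- Let G be a finite group with trivial centre generated by a conjugation-invariant set D of 3-transpositions on which it acts primitively, such that for some d in D the subgroup generated by the members of D other than d commuting with d has central largest normal 2- and 3-subgroups, and suppose G with D is of type M(22). Let d₁, d₂ be distinct commuting members of D, j = d₁ d₂, K the joint centralizer of d₁ and d₂, C the centralizer of j and V the subgroup generated by d₁ and d₂. Then K has index 2 in C, V is the centre of K, and C has a normal subgroup E containing V with E/V elementary abelian of order 2^8 and C/E isomorphic to the full automorphism group of the projective special unitary group of dimension 4 over the field with four elements. -/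
theorem result {G : Type*} [Group G] [Finite G] {D : Set G} (hD : Cfsg.IsThreeTranspositionGroup D) (hprim : Cfsg.IsPrimitiveUnderConj D) (d₀ : G) (hd₀ : d₀ ∈ D) (h3 : Cfsg.pCore 3 ↥(Subgroup.closure {y : G | y ∈ D ∧ y ≠ d₀ ∧ Commute d₀ y}) ≤ Subgroup.center ↥(Subgroup.closure {y : G | y ∈ D ∧ y ≠ d₀ ∧ Commute d₀ y})) (h2 : Cfsg.pCore 2 ↥(Subgroup.closure {y : G | y ∈ D ∧ y ≠ d₀ ∧ Commute d₀ y}) ≤ Subgroup.center ↥(Subgroup.closure {y : G | y ∈ D ∧ y ≠ d₀ ∧ Commute d₀ y})) (h22 : Cfsg.IsOfTypeM22 G D) (d₁ d₂ : G) (h₁ : d₁ ∈ D) (h₂ : d₂ ∈ D) (hne : d₁ ≠ d₂) (hc : Commute d₁ d₂) (K C V : Subgroup G) (hK : K = Subgroup.centralizer ({d₁, d₂} : Set G)) (hC : C = Subgroup.centralizer ({d₁ * d₂} : Set G)) (hV : V = Subgroup.closure ({d₁, d₂} : Set G)) : K ≤ C ∧ (K.subgroupOf C).index = 2 ∧ (Subgroup.center ↥K).map K.subtype = V ∧ ∃ E : Subgroup G, V ≤ E ∧ E ≤ C ∧ (∀ c ∈ C, ∀ x ∈ E, c * x * c⁻¹ ∈ E) ∧ Nat.card E = 2 ^ 10 ∧ (∀ x ∈ E, ∀ y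 ∈ E, x * y * x⁻¹ * y⁻¹ ∈ V ∧ x ^ 2 ∈ V) ∧ ∃ (_ : (E.subgroupOf C).Normal) (F : Type) (_ : Field F) (_ : Fintype F), Fintype.card F = 4 ∧ Nonempty (↥C ⧸ E.subgroupOf C ≃* MulAut (Cfsg.PSU 4 F 2)) := by
  obtain ⟨hset, hconj, hgen⟩ := hD
  have hT : Cfsg.Lib.Fischer.Trans D := ⟨hset, hconj, hprim.1, hgen, ⟨d₀, hd₀⟩⟩
  obtain ⟨F, i1, i2, hF, ⟨P⟩⟩ :=
    Cfsg.Lib.Fischer.Relations.TwoPair.exists_base hT hprim h22 h₁ (⟨h₂, hne.symm, hc⟩ : d₂ ∈ Cfsg.Lib.Fischer.perp D d₁)
  subst hK hC hV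
  refine ⟨P.pair_le, P.index_pair, ?_, P.E, ?_, P.E_le, fun c hc x hx => P.E_conj hc hx, P.card_E, ?_, ?_⟩
  · ext z
    rw [P.mem_closure_pair, Subgroup.mem_map]
    constructor
    · rintro ⟨k, hk, rfl⟩
      exact P.inV_of_central fun l => Subgroup.mem_center_iff.1 hk l
    · intro hz
      have hmem : z ∈ Subgroup.centralizer ({d₁, d₂} : Set G) := by
        rcases hz with rfl | rfl | rfl | rfl
        exacts [one_mem _, P.d_mem, P.b_mem, mul_mem P.d_mem P.b_mem]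
      refine ⟨⟨z, hmem⟩, Subgroup.mem_center_iff.2 fun l => Subtype.ext ?_, rfl⟩
      obtain ⟨l1, l2⟩ := Cfsg.Lib.Fischer.Relations.TwoPair.mem_pair_centralizer.1 l.2
      show (l : G) * z = z * l
      rcases hz with rfl | rfl | rfl | rfl
      exacts [(Commute.one_right _).eq, l1.eq, l2.eq, (l1.mul_right l2).eq]
  · rw [Subgroup.closure_le]
    rintro x (rfl | rfl)
    exacts [P.E_pair.2.1, P.E_pair.2.2]
  · intro x hx y hy
    obtain ⟨hxK, hx1⟩ := P.mem_E.1 hx
    obtain ⟨hyK, hy1⟩ := P.mem_E.1 hy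
    have hJ : ∀ {u : G}, Cfsg.Lib.Fischer.Relations.TwoPair.InJ d₁ d₂ u →
        u ∈ Subgroup.closure ({d₁, d₂} : Set G) := fun {u} hu =>
      P.mem_closure_pair.2 (hu.elim Or.inl fun h => Or.inr (Or.inr (Or.inr h)))
    refine ⟨hJ ((P.kernel_inJ hy1).2 ⟨x, hxK⟩ hx1), ?_⟩
    rw [pow_two]
    exact hJ (P.kernel_inJ hx1).1
  · haveI hn : (P.E.subgroupOf (Subgroup.centralizer ({d₁ * d₂} : Set G))).Normal := by
      rw [← P.actHom_ker]; infer_instance
    exact ⟨hn, F, i1, i2, hF, ⟨(QuotientGroup.quotientMulEquivOfEq P.actHom_ker.symm).trans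
      (QuotientGroup.quotientKerEquivOfSurjective _ P.actHom_surjective)⟩⟩

end Cfsg.Agent.S5469
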