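import Cfsg.Statements.S5471
import Cfsg.Agent.Lib.Fischer.Relations.Involutions.Twenty

set_option autoImplicit false
open Cfsg

namespace Cfsg.Agent.S5471

open Cfsg.Lib.Fischer Cfsg.Lib.Fischer.Relations

/-- Any ordered triple goes to any other. -/
theorem tri_move {G : Type*} [Group G] [Finite G] {D : Set G} {d : G} (K : M23Data D d) {a b c a' b' c' : G}
    (h : IsTriple D (a, b, c)) (h' : IsTriple D (a', b', c')) :
    ∃ g : G, g * a * g⁻¹ = a' ∧ g * b * g⁻¹ = b' ∧ g * c * g⁻¹ = c' := by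
  have hT := K.trans
  obtain ⟨p, hp⟩ := hT.trans a h.mem.1 d K.mem
  obtain ⟨q, hq⟩ := hT.trans a' h'.mem.1 d K.mem
  have h1 := h.conj hT p
  have h2 := h'.conj hT q
  rw [hp] at h1
  rw [hq] at h2
  obtain ⟨g, f, e1, e2⟩ := K.pair_transitive h1.mem.2.1 h1.mem.2.2.1 h1.mem.2.2.2 h2.mem.2.1 h2.mem.2.2.1
    h2.mem.2.2.2
  have e : ∀ u, q⁻¹ * g * p * u * (q⁻¹ * g * p)⁻¹ = q⁻¹ * (g * (p * u * p⁻¹) * g⁻¹) * q := fun u => by group
  exact ⟨q⁻¹ * g * p, by rw [e, hp, f, ← hq]; group, by rw [e, e1]; group, by rw [e, e2]; group⟩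

/-- Let G be a finite group with trivial centre generated by a conjugation-invariant set D of 3-transpositions on which it acts primitively, such that for some d in D the subgroup generated by the members of D other than d commuting with d has central largest normal 2- and 3-subgroups, and suppose G with D is of type M(23). Let d₁, d₂, d₃ be distinct pairwise commuting members of D and j their product. Then the joint centralizer of d₁, d₂, d₃ is normal in the centralizer of j with quotient isomorphic to the symmetric group of degree 3. -/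
theorem result {G : Type*} [Group G] [Finite G] {D : Set G} (hD : Cfsg.IsThreeTranspositionGroup D) (hprim : Cfsg.IsPrimitiveUnderConj D) (d₀ : G) (hd₀ : d₀ ∈ D) (h3 : Cfsg.pCore 3 ↥(Subgroup.closure {y : G | y ∈ D ∧ y ≠ d₀ ∧ Commute d₀ y}) ≤ Subgroup.center ↥(Subgroup.closure {y : G | y ∈ D ∧ y ≠ d₀ ∧ Commute d₀ y})) (h2 : Cfsg.pCore 2 ↥(Subgroup.closure {y : G | y ∈ D ∧ y ≠ d₀ ∧ Commute d₀ y}) ≤ Subgroup.center ↥(Subgroup.closure {y : G | y ∈ D ∧ y ≠ d₀ ∧ Commute d₀ y})) (h23 : Cfsg.IsOfTypeM23 G D) (d₁ d₂ d₃ : G) (h₁ : d₁ ∈ D) (h₂ : d₂ ∈ D) (h₃ : d₃ ∈ D) (h12 : d₁ ≠ d₂) (h13 : d₁ ≠ d₃) (h23 : d₂ ≠ d₃) (c12 : Commute d₁ d₂) (c13 : Commute d₁ d₃) (c23 : Commute d₂ d₃) (K C : Subgroup G) (hK : K = Subgroup.centralizer ({d₁, d₂, d₃} : Set G)) (hC : C = Subgroup.centralizer ({d₁ * d₂ * d₃} : Set G)) : K ≤ C ∧ ∃ _ : (K.subgroupOf C).Normal, Nonempty (↥C ⧸ K.subgroupOf C ≃* Equiv.Perm (Fin 3)) := by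
  classical
  obtain ⟨hset, hconj, hgen⟩ := hD
  have hT : Trans D := ⟨hset, hconj, hprim.1, hgen, ⟨d₀, hd₀⟩⟩
  have hcore : ∀ e ∈ D, Cfsg.pCore 2 ↥(Subgroup.closure (perp D e)) ≤
      Subgroup.center ↥(Subgroup.closure (perp D e)) := fun e he => by
    obtain ⟨g, rfl⟩ := hprim.1 d₀ hd₀ e he
    exact core_perp_conj hT g d₀ h2
  rename_i h23'
  have h6 := m23_noRel hT hprim h23' hcore
  obtain ⟨d, Kd⟩ := m23_data hT hprim h23' fun c hc Q hQ =>
    Dvd.dvd.trans (by norm_num) (ReflSeven.quot_dvd Q hQ hc)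
  obtain ⟨f, hf⟩ : ∃ f : Fin 3 → G, f = ![d₁, d₂, d₃] := ⟨_, rfl⟩
  have hfD : ∀ i, f i ∈ D := by intro i; fin_cases i <;> simp [hf, h₁, h₂, h₃]
  have hfc : ∀ i j, Commute (f i) (f j) := by
    intro i j
    fin_cases i <;> fin_cases j <;> simp [hf, c12, c13, c23, c12.symm, c13.symm, c23.symm]
  have hfi : Function.Injective f := by
    intro i j
    fin_cases i <;> fin_cases j <;> simp [hf, h12, h13, h23, Ne.symm h12, Ne.symm h13, Ne.symm h23]
  have hfprod : (List.ofFn f).prod = d₁ * d₂ * d₃ := by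
    simp [hf, List.ofFn_succ, mul_assoc]
  have hCmem : ∀ x, x ∈ C ↔ x * (d₁ * d₂ * d₃) * x⁻¹ = d₁ * d₂ * d₃ := fun x => by
    rw [hC, Subgroup.mem_centralizer_singleton_iff, mul_inv_eq_iff_eq_mul]
  have hKmem : ∀ x, x ∈ K ↔ ∀ i, x * f i * x⁻¹ = f i := fun x => by
    rw [hK, Subgroup.mem_centralizer_iff]
    simp only [hf, Set.mem_insert_iff, Set.mem_singleton_iff, forall_eq_or_imp, forall_eq, Fin.forall_fin_succ,
      IsEmpty.forall_iff, and_true, Matrix.cons_val_zero, Matrix.cons_val_succ, mul_inv_eq_iff_eq_mul]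
    exact ⟨fun h => ⟨h.1.symm, h.2.1.symm, h.2.2.symm⟩, fun h => ⟨h.1.symm, h.2.1.symm, h.2.2.symm⟩⟩
  have hex : ∀ (x : ↥C) (i : Fin 3), ∃ j, f j = (x : G) * f i * (x : G)⁻¹ := by
    intro x i
    have hinj : Function.Injective fun u : G => (x : G) * u * (x : G)⁻¹ := (MulAut.conj (x : G)).injective
    have hiff := mem_iff_of_prod_eq hT h6 (l := (List.ofFn f).map fun u => (x : G) * u * (x : G)⁻¹)
      (l' := List.ofFn f) ((List.nodup_ofFn.2 hfi).map hinj) (List.nodup_ofFn.2 hfi)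
      (fun a ha => by
        obtain ⟨u, hu, rfl⟩ := List.mem_map.1 ha
        obtain ⟨j, rfl⟩ := List.mem_ofFn.1 hu
        exact hconj _ _ (hfD j))
      (fun a ha => by
        obtain ⟨j, rfl⟩ := List.mem_ofFn.1 ha
        exact hfD j)
      (fun a ha b hb => by
        obtain ⟨u, hu, rfl⟩ := List.mem_map.1 ha
        obtain ⟨v, hv, rfl⟩ := List.mem_map.1 hb
        obtain ⟨j, rfl⟩ := List.mem_ofFn.1 hu
        obtain ⟨k, rfl⟩ := List.mem_ofFn.1 hv
        exact (Commute.conj_iff _).2 (hfc j k))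
      (fun a ha b hb => by
        obtain ⟨j, rfl⟩ := List.mem_ofFn.1 ha
        obtain ⟨k, rfl⟩ := List.mem_ofFn.1 hb
        exact hfc j k)
      (by simp) (by simp) (by rw [prod_conj_list hT, hfprod]; exact (hCmem _).1 x.2)
    exact List.mem_ofFn.1 ((hiff _).1 (List.mem_map.2 ⟨f i, List.mem_ofFn.2 ⟨i, rfl⟩, rfl⟩))
  choose act hact using hex
  let _ : MulAction ↥C (Fin 3) :=
    { smul := act
      one_smul := fun i => hfi (show f (act 1 i) = f i by rw [hact]; simp)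
      mul_smul := fun x y i => hfi (show f (act (x * y) i) = f (act x (act y i)) by
        rw [hact, hact, hact]; simp [mul_assoc]) }
  obtain ⟨π, hπ⟩ : ∃ π : ↥C →* Equiv.Perm (Fin 3), ∀ x i, f (π x i) = (x : G) * f i * (x : G)⁻¹ :=
    ⟨MulAction.toPermHom ↥C (Fin 3), hact⟩
  have hker : K.subgroupOf C = π.ker := by
    ext x
    rw [Subgroup.mem_subgroupOf, hKmem, MonoidHom.mem_ker, Equiv.ext_iff]
    refine forall_congr' fun i => ?_
    rw [← hπ, hfi.eq_iff, Equiv.Perm.one_apply]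
  have hsurj : Function.Surjective π := by
    intro τ
    have htri : ∀ g : Fin 3 → Fin 3, Function.Injective g → IsTriple D (f (g 0), f (g 1), f (g 2)) := fun g hg =>
      IsTriple.mk (hfD _) (hfD _) (hfD _) ((hfi.comp hg).ne (by decide)) ((hfi.comp hg).ne (by decide))
        ((hfi.comp hg).ne (by decide)) (hfc _ _) (hfc _ _) (hfc _ _)
    obtain ⟨g, g0, g1, g2⟩ := tri_move Kd (htri id Function.injective_id) (htri τ τ.injective)
    have hg : ∀ i, g * f i * g⁻¹ = f (τ i) := by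
      intro i; fin_cases i
      exacts [g0, g1, g2]
    have hperm : (List.ofFn (f ∘ τ)).Perm (List.ofFn f) := Equiv.Perm.ofFn_comp_perm τ f
    have hgC : g ∈ C := by
      rw [hCmem, ← hfprod, ← prod_conj_list hT, List.map_ofFn]
      rw [show ((fun a => g * a * g⁻¹) ∘ f) = f ∘ τ from funext hg]
      exact prod_perm hperm fun a ha b hb => by
        obtain ⟨j, rfl⟩ := List.mem_ofFn.1 ha
        obtain ⟨k, rfl⟩ := List.mem_ofFn.1 hb
        exact hfc _ _
    refine ⟨⟨g, hgC⟩, Equiv.ext fun i => hfi ?_⟩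
    rw [hπ]
    exact hg i
  refine ⟨fun x hx => ?_, ?_⟩
  · rw [hCmem, ← hfprod, ← prod_conj_list hT, List.map_ofFn]
    exact congrArg (fun u => (List.ofFn u).prod) (funext fun i => (hKmem x).1 hx i)
  · have hn : (K.subgroupOf C).Normal := hker ▸ inferInstance
    exact ⟨hn, ⟨(QuotientGroup.quotientMulEquivOfEq hker).trans (QuotientGroup.quotientKerEquivOfSurjective π hsurj)⟩⟩

end Cfsg.Agent.S5471
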