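import Cfsg.Statements.S5514
import Cfsg.Statements.S5514
import Cfsg.Agent.Lib.OmegaSeven.Classes
import Cfsg.Agent.Lib.Linear.OrthCenter

set_option autoImplicit false
open Cfsg

namespace Cfsg.Agent.S5514

open Cfsg.Lib.OmegaSeven Cfsg.Lib.Linear.Orth
open scoped Matrix

theorem center_omega_trivial :
    Subgroup.center ↥(Cfsg.Omega (ZMod 3) (Cfsg.quadFormOdd 3 (ZMod 3))) = ⊥ := by
  obtain ⟨B, C⟩ := exists_space (isQuad_odd (F := ZMod 3) 3 (by decide))
  refine (Subgroup.eq_bot_iff_forall _).mpr fun z hz => ?_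
  have h7 : 7 ≤ Fintype.card (Unit ⊕ (Fin 3 ⊕ Fin 3)) := by simp
  rcases omega_center_pm C h7 hz with h | h
  · exact Subtype.ext (Subtype.ext (Units.ext h))
  · exfalso
    have hd : (Matrix.GeneralLinearGroup.det.comp (isometryGroup (ZMod 3) (Cfsg.quadFormOdd 3 (ZMod 3))).subtype)
        (z : ↥(isometryGroup (ZMod 3) (Cfsg.quadFormOdd 3 (ZMod 3)))) = 1 :=
      MonoidHom.mem_ker.mp (Abelianization.commutator_subset_ker _ z.2)
    have hd' := congrArg Units.val hd
    simp [h, Matrix.det_neg] at hd'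
    revert hd'
    decide

/-- The simple group is the commutator subgroup in triangular coordinates. -/
noncomputable def toO7 : Cfsg.POmega (ZMod 3) (Cfsg.quadFormOdd 3 (ZMod 3)) ≃* ↥O7' :=
  ((QuotientGroup.quotientMulEquivOfEq center_omega_trivial).trans QuotientGroup.quotientBot).trans
    ((isoIdx.subgroupMap _).trans (MulEquiv.subgroupCongr (by
      rw [O7', Cfsg.Omega, commutator_def, commutator_def, Subgroup.map_commutator,
        Subgroup.map_top_of_surjective _ isoIdx.surjective])))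

/-- A representative in the commutator subgroup. -/
noncomputable def repO (i : Fin 7) : ↥O7' :=
  ⟨uI (rep i), Uni_le (mem_Uni_iff.mpr ⟨rep i, by revert i; decide, rfl⟩)⟩

theorem uI_val (p : ℕ) : ((uI p : ↥G7) : GL (Fin 7) K).val = uMat p := uGL_val p

theorem order_repO (i : Fin 7) : orderOf (repO i) = 3 := by
  have h3 : ∀ j : Fin 7, uMat (rep j) * uMat (rep j) * uMat (rep j) = 1 ∧ uMat (rep j) ≠ 1 := by
    decide +kernel
  refine orderOf_eq_prime (Subtype.ext (Subtype.ext (Units.ext ?_))) fun h => (h3 i).2 ?_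
  · show ((uI (rep i) : GL (Fin 7) K) ^ 3).val = 1
    rw [Units.val_pow_eq_pow_val, uI_val, pow_succ, pow_two]
    exact (h3 i).1
  · rw [← uI_val]
    exact congrArg (fun g : ↥O7' => ((g : ↥G7) : GL (Fin 7) K).val) h

theorem classes :
    ∃ Y : Fin 7 → Subgroup ↥O7', (∀ i, Nat.card (Y i) = 3) ∧
      (∀ i j, (∃ g : ↥O7', (Y i).map (MulAut.conj g).toMonoidHom = Y j) → i = j) ∧
      (∀ X : Subgroup ↥O7', Nat.card X = 3 → ∃ i, ∃ g : ↥O7', X.map (MulAut.conj g).toMonoidHom = Y i) := by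
  refine ⟨fun i => Subgroup.zpowers (repO i), fun i => by rw [Nat.card_zpowers, order_repO], ?_, fun X hX => ?_⟩
  · rintro i j ⟨g, hg⟩
    simp only [MonoidHom.map_zpowers] at hg
    have hmem : g * repO i * g⁻¹ ∈ Subgroup.zpowers (repO j) := by
      rw [← hg]; exact Subgroup.mem_zpowers _
    obtain ⟨k, hk⟩ := Subgroup.mem_zpowers_iff.mp hmem
    rw [← zpow_mod_orderOf, order_repO] at hk
    refine rep_unique (g := (g : ↥G7)) g.2 ?_
    have hk' : k % ((3 : ℕ) : ℤ) = 0 ∨ k % ((3 : ℕ) : ℤ) = 1 ∨ k % ((3 : ℕ) : ℤ) = 2 := by omega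
    rcases hk' with e | e | e <;> rw [e] at hk
    · exfalso
      rw [zpow_zero] at hk
      have h1 := order_repO i
      rw [conj_eq_one_iff.mp hk.symm, orderOf_one] at h1
      omega
    · rw [zpow_one] at hk
      exact Or.inl (congrArg Subtype.val hk.symm)
    · refine Or.inr ?_
      have e2 : repO j ^ (2 : ℤ) = (repO j)⁻¹ := by
        refine eq_inv_of_mul_eq_one_left ?_
        rw [← zpow_add_one, show (2 : ℤ) + 1 = ((3 : ℕ) : ℤ) by norm_num, zpow_natCast]
        have h3 := pow_orderOf_eq_one (repO j)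
        rwa [order_repO] at h3
      rw [e2] at hk
      exact congrArg Subtype.val hk.symm
  · haveI : Fact (Nat.Prime 3) := ⟨by norm_num⟩
    obtain ⟨⟨x, hxX⟩, hx⟩ : ∃ x : ↥X, x ≠ 1 := by
      haveI : Nontrivial ↥X := Finite.one_lt_card_iff_nontrivial.mp (by rw [hX]; norm_num)
      exact exists_ne 1
    have hx1 : x ≠ 1 := fun h => hx (Subtype.ext h)
    have ho : orderOf x = 3 := by
      have := orderOf_dvd_natCard (⟨x, hxX⟩ : ↥X)
      rw [hX, Subgroup.orderOf_mk] at this
      exact ((Nat.dvd_prime (by norm_num)).mp this).resolve_left (fun h => hx1 (orderOf_eq_one_iff.mp h))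
    have hXz : X = Subgroup.zpowers x := (Subgroup.eq_of_le_of_card_ge (Subgroup.zpowers_le.mpr hxX)
      (by rw [Nat.card_zpowers, ho, hX])).symm
    obtain ⟨g, hg, r, hr⟩ := exists_rep (x := (x : ↥G7)) x.2
      (by have := congrArg Subtype.val (ho ▸ pow_orderOf_eq_one x); simpa using this)
      (fun h => hx1 (Subtype.ext h))
    refine ⟨r, ⟨g, hg⟩, ?_⟩
    rw [hXz, MonoidHom.map_zpowers]
    congr 1
    exact Subtype.ext hr

/-- The commutator subgroup of the isometry group of a non-degenerate 7-dimensional quadratic form over the field with three elements, modulo its (trivial) centre — the simple group Ω(7, 3) — has exactly seven conjugacy classes of subgroups of order 3. -/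
theorem result : ∃ Y : Fin 7 → Subgroup (Cfsg.POmega (ZMod 3) (Cfsg.quadFormOdd 3 (ZMod 3))), (∀ i, Nat.card (Y i) = 3) ∧ (∀ i j, (∃ g : Cfsg.POmega (ZMod 3) (Cfsg.quadFormOdd 3 (ZMod 3)), (Y i).map (MulAut.conj g).toMonoidHom = Y j) → i = j) ∧ (∀ X : Subgroup (Cfsg.POmega (ZMod 3) (Cfsg.quadFormOdd 3 (ZMod 3))), Nat.card X = 3 → ∃ i, ∃ g : Cfsg.POmega (ZMod 3) (Cfsg.quadFormOdd 3 (ZMod 3)), X.map (MulAut.conj g).toMonoidHom = Y i) := by
  obtain ⟨Y, hcard, hne, hall⟩ := classes
  have hconj : ∀ (g : ↥O7') (A : Subgroup ↥O7'),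
      (A.map (MulAut.conj g).toMonoidHom).map toO7.symm.toMonoidHom =
        (A.map toO7.symm.toMonoidHom).map (MulAut.conj (toO7.symm g)).toMonoidHom := fun g A => by
    rw [Subgroup.map_map, Subgroup.map_map]
    congr 1
    ext a
    simp
  have hinj : Function.Injective (Subgroup.map toO7.symm.toMonoidHom) :=
    Subgroup.map_injective toO7.symm.injective
  refine ⟨fun i => (Y i).map toO7.symm.toMonoidHom, fun i => ?_, ?_, fun X hX => ?_⟩
  · exact (Nat.card_congr (toO7.symm.subgroupMap (Y i)).toEquiv).symm.trans (hcard i)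
  · rintro i j ⟨g, hg⟩
    refine hne i j ⟨toO7 g, hinj ?_⟩
    rw [hconj, MulEquiv.symm_apply_apply]
    exact hg
  · obtain ⟨i, g, hg⟩ := hall (X.map toO7.toMonoidHom)
      ((Nat.card_congr (toO7.subgroupMap X).toEquiv).symm.trans hX)
    refine ⟨i, toO7.symm g, ?_⟩
    show _ = (Y i).map toO7.symm.toMonoidHom
    rw [← hg, hconj, Subgroup.map_map _ _ toO7.toMonoidHom]
    congr 1
    refine Eq.trans (Subgroup.map_id X).symm ?_
    congr 1
    ext a
    simp

end Cfsg.Agent.S5514
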