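import Cfsg.Statements.S5516
import Cfsg.Agent.Lib.D4Three.Outer
-- import your own Cfsg.Agent.* helpers here

set_option autoImplicit false
open Cfsg

namespace Cfsg.Agent.S5516

open Cfsg.Lie Cfsg.Lib.Chev Cfsg.Lib.D4Three

/-- Conjugation in the cyclic subgroup of an element of order three. -/
theorem conj_cases {G : Type*} [Group G] {x y : G} (hy : y ^ 3 = 1) (hx : x ≠ 1) (h : x ∈ Subgroup.zpowers y) :
    x = y ∨ x = y⁻¹ := by
  obtain ⟨k, rfl⟩ := Subgroup.mem_zpowers_iff.1 h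
  have hk : y ^ k = y ^ (k % 3) := zpow_eq_zpow_emod _ (by exact_mod_cast hy)
  rw [hk] at hx ⊢
  rcases (show k % 3 = 0 ∨ k % 3 = 1 ∨ k % 3 = 2 by omega) with e | e | e <;> rw [e] at hx ⊢
  · exact absurd (zpow_zero y) hx
  · exact Or.inl (zpow_one y)
  · refine Or.inr (eq_inv_of_mul_eq_one_left ?_)
    rw [← zpow_add_one, show (2 : ℤ) + 1 = ((3 : ℕ) : ℤ) by norm_num, zpow_natCast, hy]

/-- A generator of a subgroup of order three. -/
theorem exists_gen {G : Type*} [Group G] (X : Subgroup G) (hX : Nat.card X = 3) :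
    ∃ x : G, x ^ 3 = 1 ∧ x ≠ 1 ∧ X = Subgroup.zpowers x := by
  haveI : Finite X := Nat.finite_of_card_ne_zero (by omega)
  haveI : Nontrivial X := Finite.one_lt_card_iff_nontrivial.mp (by omega)
  obtain ⟨x, hx⟩ := exists_ne (1 : X)
  have h3 : x ^ 3 = 1 := hX ▸ pow_card_eq_one'
  have h3' : (x : G) ^ 3 = 1 := by simpa using congrArg Subtype.val h3
  have h1 : (x : G) ≠ 1 := fun h => hx (Subtype.ext h)
  exact ⟨x, h3', h1, (Subgroup.eq_of_le_of_card_ge (Subgroup.zpowers_le.2 x.2)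
    (by rw [hX, Nat.card_zpowers, orderOf_eq_prime h3' h1])).symm⟩

/-- Classes of subgroups of order three transported along an isomorphism. -/
theorem classes_generic {A B : Type*} [Group A] [Group B] {n : ℕ} (e : A ≃* B) (r : Fin n → A)
    (hcube : ∀ i, r i ^ 3 = 1) (hne : ∀ i, r i ≠ 1)
    (huniq : ∀ (g : A) (i j : Fin n), (g * r i * g⁻¹ = r j ∨ g * r i * g⁻¹ = (r j)⁻¹) → i = j)
    (hex : ∀ x : A, x ^ 3 = 1 → x ≠ 1 → ∃ g, ∃ i, g * x * g⁻¹ = r i) :
    ∃ Y : Fin n → Subgroup B, (∀ i, Nat.card (Y i) = 3) ∧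
    (∀ i j, (∃ g : B, (Y i).map (MulAut.conj g).toMonoidHom = Y j) → i = j) ∧
    ∀ X : Subgroup B, Nat.card X = 3 → ∃ i, ∃ g : B, X.map (MulAut.conj g).toMonoidHom = Y i := by
  have hord : ∀ i, orderOf (e (r i)) = 3 := fun i => by
    rw [e.orderOf_eq, orderOf_eq_prime (hcube i) (hne i)]
  refine ⟨fun i => Subgroup.zpowers (e (r i)), fun i => by rw [Nat.card_zpowers, hord], ?_, fun X hX => ?_⟩
  · rintro i j ⟨g, hg⟩
    simp only [MonoidHom.map_zpowers] at hg
    obtain ⟨c, rfl⟩ := e.surjective g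
    have hm : e (c * r i * c⁻¹) ∈ Subgroup.zpowers (e (r j)) := by
      rw [← hg, map_mul, map_mul, map_inv]; exact Subgroup.mem_zpowers _
    rcases conj_cases (by rw [← map_pow, hcube, map_one]) (fun h => hne i (by
        simpa [conj_eq_one_iff] using (map_eq_one_iff e e.injective).1 h)) hm with h | h
    · exact huniq c i j (Or.inl (e.injective h))
    · exact huniq c i j (Or.inr (e.injective (h.trans (map_inv e _).symm)))
  · obtain ⟨x, h3, h1, rfl⟩ := exists_gen X hX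
    obtain ⟨y, rfl⟩ := e.surjective x
    obtain ⟨c, i, hi⟩ := hex y (e.injective (by rw [map_pow, h3, map_one])) (fun h => h1 (by rw [h, map_one]))
    refine ⟨i, e c, ?_⟩
    rw [MonoidHom.map_zpowers]
    show Subgroup.zpowers (e c * e y * (e c)⁻¹) = Subgroup.zpowers (e (r i))
    rw [← hi, map_mul, map_mul, map_inv]

/-- The thirteen classes in the projective orthogonal group. -/
theorem classes : ∃ Y : Fin 13 → Subgroup P8, (∀ i, Nat.card (Y i) = 3) ∧
    (∀ i j, (∃ g : P8, (Y i).map (MulAut.conj g).toMonoidHom = Y j) → i = j) ∧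
    ∀ X : Subgroup P8, Nat.card X = 3 → ∃ i, ∃ g : P8, X.map (MulAut.conj g).toMonoidHom = Y i :=
  @classes_generic Cfsg.Lib.D4Three.G P8 _ _ 13 iso rep13 rep13_cube rep13_ne
    (fun _ _ _ h => rep13_unique h) (fun _ h3 h1 => exists_rep h3 h1)

/-- The orbits of a group acting through inner and graph automorphisms. -/
theorem orbits_generic {H A : Type*} [Group H] [Group A] (L : Subgroup H) [hn : L.Normal] (E : ↥L ≃* A)
    (φ : H →* MulAut A) (γ : Equiv.Perm (Fin 3) →* MulAut A)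
    (hφ : ∀ g l, φ g (E l) = E (MulAut.conjNormal g l))
    (hform : ∀ g, ∃ (y : A) (π : Equiv.Perm (Fin 3)), φ g = MulAut.conj y * γ π)
    (hsurj : ∀ (y : A) (π : Equiv.Perm (Fin 3)), ∃ g, φ g = MulAut.conj y * γ π)
    {n m : ℕ} (r : Fin n → A) (p : Fin m → Fin n) (hcube : ∀ i, r i ^ 3 = 1) (hne : ∀ i, r i ≠ 1)
    (hex : ∀ x : A, x ^ 3 = 1 → x ≠ 1 → ∃ g, ∃ i, g * x * g⁻¹ = r i)
    (hcover : ∀ i, ∃ o, ∃ π : Equiv.Perm (Fin 3), ∃ d : A, d * γ π (r (p o)) * d⁻¹ = r i)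
    (ι : A → ℕ) (hconj : ∀ g x, ι (g * x * g⁻¹) = ι x) (hinv : ∀ x, ι x⁻¹ = ι x) (hγ : ∀ π x, ι (γ π x) = ι x)
    (hinj : ∀ o o', ι (r (p o)) = ι (r (p o')) → o = o') :
    ∃ Y : Fin m → Subgroup H, (∀ i, Y i ≤ L ∧ Nat.card (Y i) = 3) ∧
      (∀ i j, (∃ g : H, (Y i).map (MulAut.conj g).toMonoidHom = Y j) → i = j) ∧
      ∀ X : Subgroup H, X ≤ L → Nat.card X = 3 → ∃ i, ∃ g : H, X.map (MulAut.conj g).toMonoidHom = Y i := by
  let y : Fin m → ↥L := fun o => E.symm (r (p o))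
  have hord : ∀ o, orderOf (y o : H) = 3 := fun o => by
    rw [Subgroup.orderOf_coe, E.symm.orderOf_eq, orderOf_eq_prime (hcube _) (hne _)]
  have hEconj : ∀ (g : H) (l : ↥L) (h : g * (l : H) * g⁻¹ ∈ L), E ⟨g * (l : H) * g⁻¹, h⟩ = φ g (E l) := by
    intro g l h
    rw [hφ]; congr 1
  refine ⟨fun o => Subgroup.zpowers (y o : H),
    fun o => ⟨Subgroup.zpowers_le.2 (y o).2, by rw [Nat.card_zpowers, hord]⟩, ?_, fun X hXL hX => ?_⟩
  · rintro i j ⟨g, hg⟩
    simp only [MonoidHom.map_zpowers] at hg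
    have hm : g * (y i : H) * g⁻¹ ∈ Subgroup.zpowers (y j : H) := by
      rw [← hg]; exact Subgroup.mem_zpowers _
    have h3 : (y j : H) ^ 3 = 1 := hord j ▸ pow_orderOf_eq_one _
    have hne' : g * (y i : H) * g⁻¹ ≠ 1 := fun h => by
      have := hord i; rw [conj_eq_one_iff.1 h, orderOf_one] at this; omega
    obtain ⟨c, π, hc⟩ := hform g
    have hin : g * (y i : H) * g⁻¹ ∈ L := hn.conj_mem _ (y i).2 g
    have hE := hEconj g (y i) hin
    rw [show E (y i) = r (p i) from E.apply_symm_apply _, hc, MulAut.mul_apply, MulAut.conj_apply] at hE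
    have hsum := congrArg ι hE
    rw [hconj, hγ] at hsum
    refine hinj i j ?_
    rw [← hsum]
    rcases conj_cases h3 hne' hm with h | h
    · rw [show (⟨_, hin⟩ : ↥L) = y j from Subtype.ext h]
      exact congrArg ι (E.apply_symm_apply _)
    · rw [show (⟨_, hin⟩ : ↥L) = (y j)⁻¹ from Subtype.ext h, map_inv, hinv]
      exact congrArg ι (E.apply_symm_apply _)
  · obtain ⟨x, h3, h1, rfl⟩ := exists_gen X hX
    have hxL : x ∈ L := hXL (Subgroup.mem_zpowers x)
    obtain ⟨c, i, hi⟩ := hex (E ⟨x, hxL⟩)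
      (by rw [← map_pow, show (⟨x, hxL⟩ : ↥L) ^ 3 = 1 from Subtype.ext h3, map_one])
      (fun h => h1 (congrArg Subtype.val ((map_eq_one_iff E E.injective).1 h)))
    obtain ⟨o, π, d, hd⟩ := hcover i
    obtain ⟨g, hg⟩ := hsurj (c⁻¹ * d) π
    have hgy : φ g (E (y o)) = E ⟨x, hxL⟩ := by
      rw [show E (y o) = r (p o) from E.apply_symm_apply _, hg, MulAut.mul_apply, MulAut.conj_apply,
        show c⁻¹ * d * γ π (r (p o)) * (c⁻¹ * d)⁻¹ = c⁻¹ * (d * γ π (r (p o)) * d⁻¹) * c by group, hd, ← hi]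
      group
    rw [← hEconj g (y o) (hn.conj_mem _ (y o).2 g)] at hgy
    have hx : g * (y o : H) * g⁻¹ = x := congrArg Subtype.val (E.injective hgy)
    refine ⟨o, g⁻¹, ?_⟩
    rw [MonoidHom.map_zpowers]
    congr 1
    show g⁻¹ * x * g⁻¹⁻¹ = _
    rw [← hx]; group

/-- Composition of isomorphisms. -/
def compIso {A B C : Type*} [Group A] [Group B] [Group C] (e : A ≃* B) (f : C ≃* B) : A ≃* C := e.trans f.symm

/-- The seven orbits of a group inducing a symmetric group of degree three. -/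
theorem orbits {H : Type*} [Group H] [Finite H] (L : Subgroup H) (hL : L = Cfsg.generalizedFittingSubgroup H)
    (e : ↥L ≃* P8) [hn : L.Normal] (hq : Nonempty (H ⧸ L ≃* Equiv.Perm (Fin 3))) :
    ∃ Y : Fin 7 → Subgroup H, (∀ i, Y i ≤ L ∧ Nat.card (Y i) = 3) ∧
      (∀ i j, (∃ g : H, (Y i).map (MulAut.conj g).toMonoidHom = Y j) → i = j) ∧
      ∀ X : Subgroup H, X ≤ L → Nat.card X = 3 → ∃ i, ∃ g : H, X.map (MulAut.conj g).toMonoidHom = Y i := by
  obtain ⟨E, φ, hφ, hform, hsurj⟩ := exists_coord L hL (@compIso ↥L P8 Cfsg.Lib.D4Three.G inferInstance inferInstance inferInstance e iso) hq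
  refine @orbits_generic H Cfsg.Lib.D4Three.G inferInstance inferInstance L hn E φ gr hφ hform hsurj 13 7 rep13 rep7 rep13_cube rep13_ne
    (fun x h3 h1 => exists_rep h3 h1) (fun i => ?_) invSum invSum_conj invSum_inv invSum_gr
    (fun o o' h => sumTab_inj o o' (by rw [← invSum_rep, ← invSum_rep]; exact h))
  obtain ⟨o, s, rfl⟩ := rep7_cover i
  obtain ⟨d, hd⟩ := gr_rep s (rep7 o)
  exact ⟨o, perm6 s, d, hd⟩

/-- PΩ⁺(8, 3) (the commutator subgroup of the isometry group of the hyperbolic quadratic form in dimension 8 over the field with three elements, modulo its centre) has exactly 13 conjugacy classes of subgroups of order 3; and a finite group G whose generalized Fitting subgroup L is isomorphic to PΩ⁺(8, 3) with G/L the symmetric group of degree 3 has exactly 7 orbits, under conjugation, on the subgroups of L of order 3. -/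
theorem result {G : Type*} [Group G] [Finite G] (L : Subgroup G) (hL : L = Cfsg.generalizedFittingSubgroup G) (hF : Nonempty (↥L ≃* Cfsg.POmega (ZMod 3) (Cfsg.quadFormPlus 4 (ZMod 3)))) [hn : L.Normal] (hq : Nonempty (G ⧸ L ≃* Equiv.Perm (Fin 3))) : (∃ Y : Fin 13 → Subgroup (Cfsg.POmega (ZMod 3) (Cfsg.quadFormPlus 4 (ZMod 3))), (∀ i, Nat.card (Y i) = 3) ∧ (∀ i j, (∃ g : Cfsg.POmega (ZMod 3) (Cfsg.quadFormPlus 4 (ZMod 3)), (Y i).map (MulAut.conj g).toMonoidHom = Y j) → i = j) ∧ (∀ X : Subgroup (Cfsg.POmega (ZMod 3) (Cfsg.quadFormPlus 4 (ZMod 3))), Nat.card X = 3 → ∃ i, ∃ g : Cfsg.POmega (ZMod 3) (Cfsg.quadFormPlus 4 (ZMod 3)), X.map (MulAut.conj g).toMonoidHom = Y i)) ∧ ∃ Y : Fin 7 → Subgroup G, (∀ i, Y i ≤ L ∧ Nat.card (Y i) = 3) ∧ (∀ i j, (∃ g : G, (Y i).map (MulAut.conj g).toMonoidHom = Y j) → i = j) ∧ ∀ X : Subgroup G, X ≤ L → Nat.card X = 3 → ∃ i, ∃ g : G, X.map (MulAut.conj g).toMonoidHom = Y i := by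
  exact ⟨classes, orbits L hL hF.some hq⟩

end Cfsg.Agent.S5516
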