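import Cfsg.Statements.S5517
import Cfsg.Agent.Lib.Fischer.Fi22Recog.Iso
import Cfsg.Agent.S1685
import Cfsg.Agent.S1686

set_option autoImplicit false
open Cfsg

namespace Cfsg.Agent.S5517

open Cfsg.Spor in
/-- All generators of the presented group are conjugate to the first one. -/
theorem gen_conj (v : Fi22.Gen) :
    (PresentedGroup.mk (coxRelators Fi22.edges ∪ {r | r ∈ Fi22.extra}) (FreeGroup.of v) : Fi22) ∈
      conjugatesOf Cfsg.Lib.Fischer.Fi22Recog.fiA := by
  let m : Fi22.Gen → Fi22 := fun u =>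
    PresentedGroup.mk (coxRelators Fi22.edges ∪ {r | r ∈ Fi22.extra}) (FreeGroup.of u)
  have hrel : ∀ u w, (m u * m w) ^ coxLabel Fi22.edges u w = 1 := fun u w => by
    show (PresentedGroup.mk _ (FreeGroup.of u) * PresentedGroup.mk _ (FreeGroup.of w)) ^ _ = 1
    rw [← map_mul, ← map_pow]
    exact PresentedGroup.one_of_mem (Or.inl ⟨u, Cfsg.Lib.CosetEnum.Fi22Pres.numbering.mem u, w,
      Cfsg.Lib.CosetEnum.Fi22Pres.numbering.mem w, rfl⟩)
  have hsq : ∀ u, m u * m u = 1 := fun u => by
    have h := hrel u u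
    rwa [coxLabel, if_pos rfl, pow_one] at h
  have hedge : ∀ u w, coxLabel Fi22.edges u w = 3 → IsConj (m u) (m w) := fun u w h3 => by
    have h := hrel u w
    rw [h3, pow_three] at h
    refine isConj_iff.2 ⟨m u * m w, ?_⟩
    have hu : (m u)⁻¹ = m u := inv_eq_of_mul_eq_one_right (hsq u)
    have hw : (m w)⁻¹ = m w := inv_eq_of_mul_eq_one_right (hsq w)
    rw [mul_inv_rev, hu, hw]
    calc m u * m w * m u * (m w * m u) = (m u * m w * ((m u * m w) * (m u * m w))) * ((m w)⁻¹) := by group
      _ = m w := by rw [h, one_mul, hw]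
  have ha : Cfsg.Lib.Fischer.Fi22Recog.fiA = m .a := rfl
  rw [ha]
  show IsConj (m .a) (m v)
  have ab := hedge .a .b (by decide)
  have ac := ab.trans (hedge .b .c (by decide))
  have ad := ac.trans (hedge .c .d (by decide))
  have ae := ad.trans (hedge .d .e (by decide))
  have af := ae.trans (hedge .e .f (by decide))
  have ah := ad.trans (hedge .d .h (by decide))
  cases v with
  | a => exact IsConj.refl _
  | b => exact ab
  | c => exact ac
  | d => exact ad
  | e => exact ae
  | f => exact af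
  | g => exact af.trans (hedge .f .g (by decide))
  | h => exact ah
  | i => exact ah.trans (hedge .h .i (by decide))

/-- Let G be a finite group with trivial centre generated by a conjugation-invariant set D of 3-transpositions on which it acts primitively, such that for some d in D the subgroup generated by the members of D other than d commuting with d has central largest normal 2- and 3-subgroups, and suppose G with D is of type M(22). Then G has a subgroup L generated by the members of D it contains and isomorphic to Ω(7, 3) (the commutator subgroup of the isometry group of a non-degenerate 7-dimensional quadratic form over the field with three elements, modulo its centre), and every Sylow 3-subgroup of L is a Sylow 3-subgroup of G. -/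
theorem result {G : Type*} [Group G] [Finite G] {D : Set G} (hD : Cfsg.IsThreeTranspositionGroup D) (hprim : Cfsg.IsPrimitiveUnderConj D) (d₀ : G) (hd₀ : d₀ ∈ D) (h3 : Cfsg.pCore 3 ↥(Subgroup.closure {y : G | y ∈ D ∧ y ≠ d₀ ∧ Commute d₀ y}) ≤ Subgroup.center ↥(Subgroup.closure {y : G | y ∈ D ∧ y ≠ d₀ ∧ Commute d₀ y})) (h2 : Cfsg.pCore 2 ↥(Subgroup.closure {y : G | y ∈ D ∧ y ≠ d₀ ∧ Commute d₀ y}) ≤ Subgroup.center ↥(Subgroup.closure {y : G | y ∈ D ∧ y ≠ d₀ ∧ Commute d₀ y})) (h22 : Cfsg.IsOfTypeM22 G D) : ∃ L : Subgroup G, Cfsg.IsDSubgroup D L ∧ Nonempty (↥L ≃* Cfsg.POmega (ZMod 3) (Cfsg.quadFormOdd 3 (ZMod 3))) ∧ ∀ P : Sylow 3 ↥L, ∃ P' : Sylow 3 G, (P : Subgroup ↥L).map L.subtype = (P' : Subgroup G) := by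
  obtain ⟨e, he⟩ := Cfsg.Lib.Fischer.Fi22Recog.exists_equiv hD hprim h22
  obtain ⟨iso⟩ := Cfsg.Agent.S1686.result
  have hidx := Cfsg.Agent.S1685.result
  revert iso hidx
  generalize hW : (Subgroup.closure ({Cfsg.Spor.Fi22.b, Cfsg.Spor.Fi22.c, Cfsg.Spor.Fi22.d, Cfsg.Spor.Fi22.e,
    Cfsg.Spor.Fi22.f, Cfsg.Spor.Fi22.g, Cfsg.Spor.Fi22.h, Cfsg.Spor.Fi22.i} :
    Set (FreeGroup Cfsg.Spor.Fi22.Gen))).map (PresentedGroup.mk (Cfsg.Spor.coxRelators Cfsg.Spor.Fi22.edges ∪
      {r | r ∈ Cfsg.Spor.Fi22.extra})) = H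
  intro iso hidx
  let φ : Cfsg.Spor.Fi22 →* G := e.toMonoidHom
  refine ⟨H.map φ, ?_, ⟨(H.equivMapOfInjective φ e.injective).symm.trans iso⟩, fun P => ?_⟩
  · refine le_antisymm ((Subgroup.closure_le _).2 fun x hx => hx.2) ?_
    rw [← hW, MonoidHom.map_closure, MonoidHom.map_closure, Subgroup.closure_le]
    rintro _ ⟨_, ⟨w, hw, rfl⟩, rfl⟩
    refine Subgroup.subset_closure ⟨?_, ?_⟩
    · rw [← he]
      refine ⟨_, ?_, rfl⟩
      rcases hw with rfl | rfl | rfl | rfl | rfl | rfl | rfl | rfl <;> exact gen_conj _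
    · exact Subgroup.subset_closure (Set.mem_image_of_mem _ (Set.mem_image_of_mem _ hw))
  · haveI := Fact.mk Nat.prime_three
    have hi : (H.map φ).index = 14080 := by
      rw [← hidx]
      exact Subgroup.index_map_of_bijective e.bijective H
    obtain ⟨P', hP'⟩ := ((P.isPGroup'.map (H.map φ).subtype) : IsPGroup 3 _).exists_le_sylow
    refine ⟨P', Subgroup.eq_of_le_of_card_ge hP' (le_of_eq ?_)⟩
    rw [Nat.card_congr ((P : Subgroup ↥(H.map φ)).equivMapOfInjective _ (H.map φ).subtype_injective).symm.toEquiv,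
      P.card_eq_multiplicity, P'.card_eq_multiplicity]
    have hmul := Subgroup.card_mul_index (H.map φ)
    rw [← hmul, hi, Nat.factorization_mul Nat.card_pos.ne' (by norm_num), Finsupp.add_apply,
      Nat.factorization_eq_zero_of_not_dvd (show ¬ 3 ∣ 14080 by norm_num), add_zero]

end Cfsg.Agent.S5517
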