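import Cfsg.Statements.S5518
import Cfsg.Agent.Lib.Fischer.Relations.Thirteen.Main
import Cfsg.Agent.S5500
-- import your own Cfsg.Agent.* helpers here

set_option autoImplicit false
open Cfsg

namespace Cfsg.Agent.S5518

/-- Let G be a finite group with trivial centre generated by a conjugation-invariant set D of 3-transpositions on which it acts primitively, such that for some d in D the subgroup generated by the members of D other than d commuting with d has central largest normal 2- and 3-subgroups, and suppose G with D is of type M(24). Then any two subgroups of order 13 are conjugate; and there are members a, b, c, d of D generating the direct product T of two symmetric groups of degree 3 (a, d non-commuting; b, c non-commuting; b and c commuting with a and d) whose centralizer K is isomorphic to the Chevalley group G₂(3), such that for every subgroup B of K of order 13: the normalizer of B lies in the normalizer of K, the normalizer F of B in K is a Frobenius group of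 order 78 with kernel B (order 78, centralizer of B in it equal to B), and the subgroup generated by F and T has index 2 in the normalizer of B. -/
theorem result {G : Type*} [Group G] [Finite G] {D : Set G} (hD : Cfsg.IsThreeTranspositionGroup D) (hprim : Cfsg.IsPrimitiveUnderConj D) (d₀ : G) (hd₀ : d₀ ∈ D) (h3 : Cfsg.pCore 3 ↥(Subgroup.closure {y : G | y ∈ D ∧ y ≠ d₀ ∧ Commute d₀ y}) ≤ Subgroup.center ↥(Subgroup.closure {y : G | y ∈ D ∧ y ≠ d₀ ∧ Commute d₀ y})) (h2 : Cfsg.pCore 2 ↥(Subgroup.closure {y : G | y ∈ D ∧ y ≠ d₀ ∧ Commute d₀ y}) ≤ Subgroup.center ↥(Subgroup.closure {y : G | y ∈ D ∧ y ≠ d₀ ∧ Commute d₀ y})) (h24 : Cfsg.IsOfTypeM24 G D) : (∀ X Y : Subgroup G, Nat.card X = 13 → Nat.card Y = 13 → ∃ g : G, X.map (MulAut.conj g).toMonoidHom = Y) ∧ ∃ (a b c d : G) (T K : Subgroup G), (∀ x ∈ [a, b, c, d], x ∈ D) ∧ ¬ Commute a d ∧ ¬ Commute b c ∧ Commute a b ∧ Commute a c ∧ Commute d b ∧ Commute d c ∧ T = Subgroup.closure ({a, b, c, d} : Set G) ∧ K = Subgroup.centralizer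 (T : Set G) ∧ Nonempty (↥K ≃* ↥(Cfsg.Lie.chevG2.group (ZMod 3))) ∧ ∀ B : Subgroup G, B ≤ K → Nat.card B = 13 → Subgroup.normalizer ((B : Subgroup G) : Set G) ≤ Subgroup.normalizer ((K : Subgroup G) : Set G) ∧ Nat.card ↥(K ⊓ Subgroup.normalizer ((B : Subgroup G) : Set G)) = 78 ∧ K ⊓ Subgroup.centralizer ((B : Subgroup G) : Set G) = B ∧ (((K ⊓ Subgroup.normalizer ((B : Subgroup G) : Set G)) ⊔ T).subgroupOf (Subgroup.normalizer ((B : Subgroup G) : Set G))).index = 2 := by
  obtain ⟨hset, hconj, hgen⟩ := hD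
  have hT : Lib.Fischer.Trans D := ⟨hset, hconj, hprim.1, hgen, ⟨d₀, hd₀⟩⟩
  obtain ⟨e, K⟩ := Lib.Fischer.Relations.m24_data hT hprim h24
  refine ⟨fun X Y hX hY => Lib.Fischer.Relations.Thirteen.thirteen_conj K hX hY, ?_⟩
  obtain ⟨c, hc, hec⟩ := Lib.Fischer.exists_not_commute K.fis K.mem
  obtain ⟨b₁, c₁, b₂, c₂, hmem, hnc₁, hnc₂, hne, hcls, hE, hG2⟩ :=
    Cfsg.Agent.S5500.result ⟨hset, hconj, hgen⟩ hprim d₀ hd₀ h3 h2 h24 e c K.mem hc hec
  obtain ⟨hb, heb, hcb⟩ := hmem b₂ (by simp)
  obtain ⟨hc₂, hec₂, hcc₂⟩ := hmem c₂ (by simp)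
  have q : Lib.Fischer.Relations.Thirteen.Quad D e b₂ c₂ c :=
    ⟨K.mem, hb, hc₂, hc, hec, hnc₂, heb, hec₂, hcb, hcc₂⟩
  refine ⟨e, b₂, c₂, c, _, _, ?_, hec, hnc₂, heb, hec₂, hcb, hcc₂, rfl, rfl, ?_, fun B hBK hB => ?_⟩
  · intro x hx
    simp only [List.mem_cons, List.not_mem_nil, or_false] at hx
    rcases hx with rfl | rfl | rfl | rfl
    exacts [q.ha, q.hb, q.hc, q.hd]
  · rw [Subgroup.centralizer_closure]
    refine (Nonempty.intro (MulEquiv.subgroupCongr ?_)).map2 (fun u v => MulEquiv.trans u v) hG2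
    congr 1
    ext x
    simp
    tauto
  · obtain ⟨h78, hCB, hidx⟩ := Lib.Fischer.Relations.Thirteen.quad_orders K q hB hBK
    exact ⟨Lib.Fischer.Relations.Thirteen.normalizer_le K q hB hBK, h78, hCB, hidx⟩

end Cfsg.Agent.S5518
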