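import Cfsg.Statements.S5522
import Cfsg.Agent.Lib.Concrete.SporMathieu

set_option linter.style.haveILetI false

set_option autoImplicit false
open Cfsg

namespace Cfsg.Agent.S5522

open Cfsg.Lib.Concrete
open scoped Pointwise

def sylTwo : List ℕ := [230182816762318701505336637137535104, 230589747568698130493283754953453696, 424702944704041164794799486331686272, 424936177676241787118351873811419520, 479421954503566921828241188863623264, 479830123010618316960334936359907424, 610716805295402030725951570071139584, 610961446608002731848341773020039424, 648333173198446926654847902756766784, 648686862168278498460716399908495424, 840084143360898622951695655263833600, 840318673454893097117647816042287616, 897544422103025235311323934121002400, 897915829269799049967667047276061088, 984555825605089698432431076887901216, 984818244535754528103549039458486304]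

def sylThree : List ℕ := [588904007180784343252010952244462848, 594828054250596267137404573885665792, 610799220754638456203048292918496640, 630281711879505623851104820410265792, 636922983282185927952448157091307584, 651941746268732095397217655905665600, 962171691471384792875694244509042816, 969077489916502254098451918490835040, 984818244535754528103549039458486304]

/-- Decidable certificate for a packed element of M11. -/
def okPerm (p : ℕ) : Bool :=
  bits24.all (fun i => decide (pget p i < 24)) && decide ((bits24.map (pget p)).Nodup) &&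
  basisMasks.all (fun b => isCode (pimg p b) && decide (pimg p b < 16777216)) &&
  decide (pimg p 340831 = 340831) && decide (pget p 0 = 0)

/-- A packed list is a subgroup certificate. -/
def okList (L : List ℕ) : Bool :=
  L.all okPerm && L.all (fun p => L.all fun q => L.any fun r => prodCheck p q r) && L.contains pId

/-- Elements killed by `r` fix a point outside the dodecad. -/
def okFix (L : List ℕ) (r : ℕ) : Bool :=
  L.all fun p => (decide (r = 2) && !prodCheck p p pId) ||
    bits24.any (fun i => decide (pget p i = i) && !(Nat.testBit 340831 i))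

theorem sylTwo_ok : okList sylTwo = true := by decide +kernel
theorem sylThree_ok : okList sylThree = true := by decide +kernel
theorem sylTwo_fix : okFix sylTwo 2 = true := by decide +kernel
theorem sylThree_fix : okFix sylThree 3 = true := by decide +kernel
theorem sylTwo_nodup : sylTwo.Nodup ∧ sylTwo.length = 16 := by decide +kernel
theorem sylThree_nodup : sylThree.Nodup ∧ sylThree.length = 9 := by decide +kernel

theorem exists_perm {p : ℕ} (h : okPerm p = true) : ∃ g ∈ Spor.M11, Rep g p := by
  simp only [okPerm, Bool.and_eq_true, decide_eq_true_eq, List.all_eq_true] at h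
  obtain ⟨⟨⟨⟨hlt, hnd⟩, hcode⟩, hdod⟩, hzero⟩ := h
  let f : GolayPt → GolayPt := fun x => gpt (Fin.ofNat 24 (pget p (gidx x).val))
  have hf : ∀ x, (gidx (f x)).val = pget p (gidx x).val := fun x => by
    simp only [f, gidx_gpt]
    exact Nat.mod_eq_of_lt (hlt _ (mem_bits24.2 (gidx x).isLt))
  have hinj : Function.Injective f := by
    intro x y hxy
    have h' : pget p (gidx x).val = pget p (gidx y).val := by rw [← hf, ← hf, hxy]
    exact gidx_injective (Fin.ext (List.inj_on_of_nodup_map hnd (mem_bits24.2 (gidx x).isLt)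
      (mem_bits24.2 (gidx y).isLt) h'))
  let g : Equiv.Perm GolayPt := Equiv.ofBijective f (Finite.injective_iff_bijective.1 hinj)
  have hrep : Rep g p := hf
  refine ⟨g, ⟨⟨rep_mem_M24 hrep (List.all_eq_true.2 fun b hb => ?_), ?_⟩, ?_⟩, hrep⟩
  · simp only [Bool.and_eq_true, decide_eq_true_eq]; exact hcode b hb
  · show g • Spor.squareDodecad = Spor.squareDodecad
    rw [squareDodecad_eq, hrep.smul_mset, hdod]
  · show g (some 0) = some 0
    apply gidx_injective
    apply Fin.ext
    rw [hrep]
    exact hzero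

/-- The subgroup of a packed list. -/
def sub (L : List ℕ) (hL : okList L = true) : Subgroup Spor.M11 where
  carrier := {g | ∃ p ∈ L, Rep (g : Equiv.Perm GolayPt) p}
  one_mem' := by
    simp only [okList, Bool.and_eq_true, List.contains_iff_mem] at hL
    exact ⟨pId, hL.2, rep_one⟩
  mul_mem' := by
    rintro a b ⟨p, hp, ha⟩ ⟨q, hq, hb⟩
    simp only [okList, Bool.and_eq_true, List.all_eq_true, List.any_eq_true] at hL
    obtain ⟨r, hr, hc⟩ := hL.1.2 p hp q hq
    exact ⟨r, hr, ha.mul hb hc⟩
  inv_mem' := by
    rintro a ⟨p, hp, ha⟩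
    simp only [okList, Bool.and_eq_true, List.all_eq_true, List.any_eq_true, List.contains_iff_mem] at hL
    have : ∀ n : ℕ, ∃ q ∈ L, Rep ((a ^ n : Spor.M11) : Equiv.Perm GolayPt) q := by
      intro n
      induction n with
      | zero => exact ⟨pId, hL.2, rep_one⟩
      | succ n ih =>
        obtain ⟨q, hq, hr⟩ := ih
        obtain ⟨r, hr', hc⟩ := hL.1.2 q hq p hp
        exact ⟨r, hr', by rw [pow_succ]; exact hr.mul ha hc⟩
    obtain ⟨n, -, hn⟩ : ∃ n, n < orderOf a ∧ a ^ n = a⁻¹ :=
      ⟨orderOf a - 1, Nat.sub_lt (orderOf_pos a) one_pos, by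
        rw [eq_inv_iff_mul_eq_one, ← pow_succ, Nat.sub_add_cancel (Nat.one_le_iff_ne_zero.2 (orderOf_pos a).ne'), pow_orderOf_eq_one]⟩
    exact hn ▸ this n

theorem card_sub (L : List ℕ) (hL : okList L = true) (hn : L.Nodup)
    (hinj : ∀ p ∈ L, ∀ q ∈ L, (∀ i, i < 24 → pget p i = pget q i) → p = q) : Nat.card (sub L hL) = L.length := by
  have hp : ∀ p ∈ L, ∃ g : sub L hL, Rep ((g : Spor.M11) : Equiv.Perm GolayPt) p := by
    intro p hp
    have h' := hL
    simp only [okList, Bool.and_eq_true, List.all_eq_true] at h'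
    obtain ⟨g, hg, hr⟩ := exists_perm (h'.1.1 p hp)
    exact ⟨⟨⟨g, hg⟩, p, hp, hr⟩, hr⟩
  choose F hF using hp
  refine ((Nat.card_congr (Equiv.ofBijective (fun p : {p // p ∈ L.toFinset} => F p.1 (List.mem_toFinset.1 p.2))
    ⟨?_, ?_⟩)).symm.trans ?_)
  · intro p q h
    have hr : ∀ i, i < 24 → pget p.1 i = pget q.1 i := fun i hi => by
      have h1 := (hF p.1 (List.mem_toFinset.1 p.2)).apply ⟨i, hi⟩
      rw [show F p.1 _ = F q.1 (List.mem_toFinset.1 q.2) from h,
        (hF q.1 (List.mem_toFinset.1 q.2)).apply ⟨i, hi⟩] at h1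
      exact h1.symm
    exact Subtype.ext (hinj p.1 (List.mem_toFinset.1 p.2) q.1 (List.mem_toFinset.1 q.2) hr)
  · rintro ⟨g, p, hp, hr⟩
    exact ⟨⟨p, List.mem_toFinset.2 hp⟩, Subtype.ext (Subtype.ext ((hF p hp).ext hr))⟩
  · rw [Nat.card_eq_fintype_card, Fintype.card_coe, List.toFinset_card_of_nodup hn]

theorem sylTwo_inj : ∀ p ∈ sylTwo, ∀ q ∈ sylTwo, (∀ i, i < 24 → pget p i = pget q i) → p = q := by decide +kernel
theorem sylThree_inj : ∀ p ∈ sylThree, ∀ q ∈ sylThree, (∀ i, i < 24 → pget p i = pget q i) → p = q := by decide +kernel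

/-- An element killed by `r` has a conjugate in a Sylow subgroup given by a list. -/
theorem conj_case {r k : ℕ} [Fact r.Prime] (L : List ℕ) (hL : okList L = true) (hn : L.Nodup)
    (hinj : ∀ p ∈ L, ∀ q ∈ L, (∀ i, i < 24 → pget p i = pget q i) → p = q)
    (hlen : L.length = r ^ k) (hk : ¬ r ∣ 7920 / r ^ k) (hdvd : r ^ k ∣ 7920)
    (hfix : okFix L r = true) (g : Spor.M11) (hg : orderOf g = r) :
    ∃ x : GolayPt, x ∉ Spor.squareDodecad ∧ (g : Equiv.Perm GolayPt) x = x := by
  have hcard : Nat.card (sub L hL) = r ^ k := (card_sub L hL hn hinj).trans hlen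
  have hM : Nat.card Spor.M11 = 7920 := card_sporM11
  have hidx : ¬ r ∣ (sub L hL).index := by
    have h := Subgroup.card_mul_index (sub L hL)
    rw [hcard, hM] at h
    rwa [← h, Nat.mul_div_cancel_left _ (pow_pos (Fact.out : r.Prime).pos _)] at hk
  let P : Sylow r Spor.M11 := (IsPGroup.of_card hcard).toSylow hidx
  have hgp : IsPGroup r (Subgroup.zpowers g) := IsPGroup.of_card (n := 1) (by rw [Nat.card_zpowers, hg, pow_one])
  obtain ⟨Q, hQ⟩ := hgp.exists_le_sylow
  obtain ⟨h, hh⟩ := MulAction.exists_smul_eq Spor.M11 P Q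
  have hmem : h⁻¹ * g * h ∈ sub L hL := by
    have h1 : g ∈ (Q : Subgroup Spor.M11) := hQ (Subgroup.mem_zpowers g)
    rw [← hh, Sylow.coe_subgroup_smul, Subgroup.mem_pointwise_smul_iff_inv_smul_mem, MulAut.smul_def,
      ← map_inv, MulAut.conj_apply, inv_inv] at h1
    exact h1
  obtain ⟨p, hp, hr⟩ := hmem
  have hf := List.all_eq_true.1 hfix p hp
  simp only [Bool.or_eq_true, Bool.and_eq_true, decide_eq_true_eq, Bool.not_eq_true', List.any_eq_true] at hf
  rcases hf with ⟨rfl, hsq⟩ | ⟨i, hi, hfi, hout⟩
  · exfalso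
    have h1 : (h⁻¹ * g * h) * (h⁻¹ * g * h) = 1 := by
      have := pow_orderOf_eq_one g
      rw [hg, pow_two] at this
      calc _ = h⁻¹ * (g * g) * h := by group
        _ = 1 := by rw [this]; group
    have : prodCheck p p pId = true := by
      rw [prodCheck, List.all_eq_true]
      intro i hi
      have hi' := mem_bits24.1 hi
      rw [Nat.beq_eq]
      have e1 := hr.apply ⟨i, hi'⟩
      have e2 := hr (((h⁻¹ * g * h : Spor.M11) : Equiv.Perm GolayPt) (gpt ⟨i, hi'⟩))
      rw [e1] at e2
      rw [← e2, ← Equiv.Perm.mul_apply, ← Subgroup.coe_mul, h1]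
      exact (rep_one.apply ⟨i, hi'⟩).symm
    rw [this] at hsq
    exact Bool.noConfusion hsq
  · have hi' := mem_bits24.1 hi
    have hx : ((h⁻¹ * g * h : Spor.M11) : Equiv.Perm GolayPt) (gpt ⟨i, hi'⟩) = gpt ⟨i, hi'⟩ :=
      hr.apply_eq hfi
    refine ⟨(h : Equiv.Perm GolayPt) (gpt ⟨i, hi'⟩), ?_, ?_⟩
    · have hd : (h : Equiv.Perm GolayPt) • Spor.squareDodecad = Spor.squareDodecad := h.2.1.2
      rw [← hd, ← Equiv.Perm.smul_def, Finset.smul_mem_smul_finset_iff, squareDodecad_eq, mem_mset, gidx_gpt, hout]
      exact Bool.false_ne_true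
    · simp only [Subgroup.coe_mul, InvMemClass.coe_inv, Equiv.Perm.mul_apply, Equiv.Perm.inv_eq_iff_eq] at hx
      exact hx

/-- The Mathieu group M₁₁, realised as the stabiliser of one point of the dodecad of squares inside the stabiliser M₁₂ of that dodecad in M₂₄, acts on the twelve coordinate positions outside the dodecad of squares (its 3-transitive action of degree 12); in this action every element of prime order fixes a point, i.e. the action is elusive. -/
theorem result (g : Equiv.Perm Cfsg.GolayPt) (hg : g ∈ Cfsg.Spor.M11) (hord : (orderOf g).Prime) :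
    ∃ x : Cfsg.GolayPt, x ∉ Cfsg.Spor.squareDodecad ∧ g x = x := by
  have hdvd : orderOf g ∣ 7920 := by
    rw [← card_sporM11, ← Subgroup.orderOf_mk g hg]; exact orderOf_dvd_natCard _
  generalize hr : orderOf g = r at hdvd hord
  haveI := Fact.mk hord
  have hcases : r = 2 ∨ r = 3 ∨ r = 5 ∨ r = 11 := by
    have hmem : r ∈ (7920 : ℕ).primeFactors := Nat.mem_primeFactors.2 ⟨hord, hdvd, by norm_num⟩
    have h7 : (7920 : ℕ) = 2 ^ 4 * 3 ^ 2 * 5 * 11 := by norm_num
    rw [h7] at hdvd
    have q2 : Nat.Prime 2 := by norm_num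
    have q3 : Nat.Prime 3 := by norm_num
    have q5 : Nat.Prime 5 := by norm_num
    have q11 : Nat.Prime 11 := by norm_num
    rcases (Nat.Prime.dvd_mul hord).1 hdvd with h | h
    · rcases (Nat.Prime.dvd_mul hord).1 h with h | h
      · rcases (Nat.Prime.dvd_mul hord).1 h with h | h
        · exact Or.inl ((Nat.prime_dvd_prime_iff_eq hord q2).1 (hord.dvd_of_dvd_pow h))
        · exact Or.inr (Or.inl ((Nat.prime_dvd_prime_iff_eq hord q3).1 (hord.dvd_of_dvd_pow h)))
      · exact Or.inr (Or.inr (Or.inl ((Nat.prime_dvd_prime_iff_eq hord q5).1 h)))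
    · exact Or.inr (Or.inr (Or.inr ((Nat.prime_dvd_prime_iff_eq hord q11).1 h)))
  rcases hcases with rfl | rfl | hrest
  · exact conj_case (k := 4) sylTwo sylTwo_ok sylTwo_nodup.1 sylTwo_inj sylTwo_nodup.2 (by norm_num) (by norm_num)
      sylTwo_fix ⟨g, hg⟩ ((Subgroup.orderOf_mk g hg).trans hr)
  · exact conj_case (k := 2) sylThree sylThree_ok sylThree_nodup.1 sylThree_inj sylThree_nodup.2 (by norm_num) (by norm_num)
      sylThree_fix ⟨g, hg⟩ ((Subgroup.orderOf_mk g hg).trans hr)
  · by_contra hne
    simp only [not_exists, not_and] at hne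
    have hd : g • Spor.squareDodecad = Spor.squareDodecad := hg.1.2
    have hstab : ∀ x, x ∉ Spor.squareDodecad → g x ∉ Spor.squareDodecad := fun x hx h => hx (by
      rw [← hd, ← Equiv.Perm.smul_def, Finset.smul_mem_smul_finset_iff] at h
      exact h)
    let τ : Function.End {x : GolayPt // x ∉ Spor.squareDodecad} := fun x => ⟨g x, hstab x x.2⟩
    have hiter : ∀ (n : ℕ) (x : {x : GolayPt // x ∉ Spor.squareDodecad}), ((τ ^ n) x).1 = (g ^ n) x.1 := by
      intro n
      induction n with
      | zero => intro x; rfl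
      | succ n ih =>
        intro x
        rw [pow_succ' τ, pow_succ' g]
        show g ((τ ^ n) x).1 = _
        rw [ih]; rfl
    have hτ : τ ^ r ^ 1 = 1 := by
      funext x
      apply Subtype.ext
      rw [pow_one, hiter, ← hr, pow_orderOf_eq_one]
      rfl
    have hm := Equiv.Perm.card_fixedPoints_modEq (p := r) hτ
    have h0 : Fintype.card (Function.fixedPoints τ) = 0 := by
      rw [Fintype.card_eq_zero_iff]
      exact ⟨fun ⟨x, hx⟩ => hne x.1 x.2 (congrArg Subtype.val hx)⟩
    have h12 : Fintype.card {x : GolayPt // x ∉ Spor.squareDodecad} = 12 := by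
      rw [Fintype.card_subtype]; decide +kernel
    rw [h0, h12, Nat.modEq_zero_iff_dvd] at hm
    rcases hrest with rfl | rfl <;> norm_num at hm

end Cfsg.Agent.S5522
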