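import Cfsg.Statements.S5529
import Cfsg.Agent.Lib.Concrete.M23Triples

set_option autoImplicit false
open Cfsg

namespace Cfsg.Agent.S5529

/-- Generation of the Mathieu group M₂₃ (the stabiliser of a point in the Mathieu group M₂₄ acting on 24 points) by triples of prime orders. Let p ≤ q ≤ r be primes dividing |M₂₃| = 10200960 = 2⁷·3²·5·7·11·23, not both p and q equal to 2. Then M₂₃ contains elements x, y, z of orders p, q, r with xyz = 1 and ⟨x, y⟩ = M₂₃ if and only if (p, q, r) is none of: (2, 3, r) for any r, (2, 5, 5), (2, 5, 7), (3, 3, 3), (3, 3, 5), (3, 3, 7). -/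
theorem result (p q r : ℕ) (hp : p.Prime) (hq : q.Prime)
    (hr : r.Prime) (hpq : p ≤ q) (hqr : q ≤ r) (hp2 : ¬ (p = 2 ∧ q = 2))
    (hdvd : p ∣ 10200960 ∧ q ∣ 10200960 ∧ r ∣ 10200960) :
    (∃ x y z : Cfsg.Spor.M23, orderOf x = p ∧ orderOf y = q ∧ orderOf z = r ∧ x * y * z = 1 ∧
        Subgroup.closure {x, y} = ⊤) ↔
      ¬ ((p = 2 ∧ q = 3) ∨ (p = 2 ∧ q = 5 ∧ r = 5) ∨ (p = 2 ∧ q = 5 ∧ r = 7) ∨ (p = 3 ∧ q = 3 ∧ r ≤ 7)) := by
  have hset : ∀ n : ℕ, n.Prime → n ∣ 10200960 → n ∈ [2, 3, 5, 7, 11, 23] := by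
    intro n hn hd
    rw [show (10200960 : ℕ) = 2 ^ 7 * 3 ^ 2 * 5 * 7 * 11 * 23 by norm_num] at hd
    simp only [hn.dvd_mul] at hd
    have key : ∀ a k : ℕ, a.Prime → n ∣ a ^ k → n = a := fun a k ha h =>
      (Nat.prime_dvd_prime_iff_eq hn ha).1 (hn.dvd_of_dvd_pow h)
    rcases hd with ((((h | h) | h) | h) | h) | h
    · simp [key 2 7 Nat.prime_two h]
    · simp [key 3 2 Nat.prime_three h]
    · simp [key 5 1 (by norm_num) (by rwa [pow_one])]
    · simp [key 7 1 (by norm_num) (by rwa [pow_one])]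
    · simp [key 11 1 (by norm_num) (by rwa [pow_one])]
    · simp [key 23 1 (by norm_num) (by rwa [pow_one])]
  constructor
  · rintro ⟨x, y, z, hx, hy, hz, hxyz, hgen⟩ hex
    have hb := Cfsg.Lib.Concrete.generation_bound x y z hxyz hgen
    obtain ⟨x2, x3, x5, x7, x1⟩ := Cfsg.Lib.Concrete.fixSpace_bound x.2
    obtain ⟨y2, y3, y5, y7, y1⟩ := Cfsg.Lib.Concrete.fixSpace_bound y.2
    obtain ⟨z2, z3, z5, z7, z1⟩ := Cfsg.Lib.Concrete.fixSpace_bound z.2
    rw [Subgroup.orderOf_coe] at x2 x3 x5 x7 x1 y2 y3 y5 y7 y1 z2 z3 z5 z7 z1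
    rcases hex with ⟨h1, h2⟩ | ⟨h1, h2, h3⟩ | ⟨h1, h2, h3⟩ | ⟨h1, h2, h3⟩ <;> subst h1 <;> subst h2
    · have := x2 hx; have := y3 hy; have := z1 (hz ▸ hr); omega
    · subst h3; have := x2 hx; have := y5 hy; have := z5 hz; omega
    · subst h3; have := x2 hx; have := y5 hy; have := z7 hz; omega
    · have := x3 hx; have := y3 hy
      have hr' := hset r hr hdvd.2.2
      simp only [List.mem_cons, List.not_mem_nil, or_false] at hr'
      rcases hr' with rfl | rfl | rfl | rfl | rfl | rfl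
      · omega
      · have := z3 hz; omega
      · have := z5 hz; omega
      · have := z7 hz; omega
      · omega
      · omega
  · intro hex
    obtain ⟨e, he, hpe⟩ := List.any_eq_true.1 (Cfsg.Lib.Concrete.m23Pairs_complete p (hset p hp hdvd.1)
      q (hset q hq hdvd.2.1) r (hset r hr hdvd.2.2) hpq hqr hp2 hex)
    simp only [Bool.and_eq_true, Nat.beq_eq] at hpe
    obtain ⟨⟨rfl, rfl⟩, rfl⟩ := hpe
    exact Cfsg.Lib.Concrete.exists_pair
      (List.all_eq_true.1 Cfsg.Lib.Concrete.m23Pairs_check e he) hp hq hr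

end Cfsg.Agent.S5529
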