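import Cfsg.Statements.S5541
import Mathlib

set_option autoImplicit false
open Cfsg

namespace Cfsg.Agent.S5541

/-- Let ρ be a representation of a group H on a finite-dimensional real vector space U whose only ρ-invariant subspaces are the zero subspace and U, and suppose U carries a non-zero ρ-invariant symmetric bilinear form. Then the following are equivalent: (1) there is a non-zero ρ-equivariant commutative bilinear product on U of which every ρ-equivariant bilinear product is a scalar multiple; (2) there is a non-zero ρ-invariant trilinear form on U that is symmetric under all permutations of its arguments and of which every ρ-invariant trilinear form is a scalar multiple. -/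
theorem result {H : Type*} [Group H] {U : Type*} [AddCommGroup U] [Module ℝ U] [FiniteDimensional ℝ U] (ρ : Representation ℝ H U) (hirr : ∀ W : Submodule ℝ U, (∀ g : H, W.map (ρ g) ≤ W) → W = ⊥ ∨ W = ⊤) (B : LinearMap.BilinForm ℝ U) (hB0 : B ≠ 0) (hBs : ∀ u v, B u v = B v u) (hBi : ∀ (g : H) (u v : U), B (ρ g u) (ρ g v) = B u v) : (∃ m : U →ₗ[ℝ] U →ₗ[ℝ] U, m ≠ 0 ∧ (∀ u v, m u v = m v u) ∧ (∀ (g : H) (u v : U), m (ρ g u) (ρ g v) = ρ g (m u v)) ∧ ∀ m' : U →ₗ[ℝ] U →ₗ[ℝ] U, (∀ (g : H) (u v : U), m' (ρ g u) (ρ g v) = ρ g (m' u v)) → ∃ c : ℝ, m' = c • m) ↔ (∃ t : U →ₗ[ℝ] U →ₗ[ℝ] U →ₗ[ℝ] ℝ, t ≠ 0 ∧ (∀ u v w, t u v w = t v u w ∧ t u v w = t u w v) ∧ (∀ (g : H) (u v w : U), t (ρ g u) (ρ g v) (ρ g w) = t u v w) ∧ ∀ t' : U →ₗ[ℝ] U →ₗ[ℝ] U →ₗ[ℝ] ℝ, (∀ (g : H) (u v w : U), t' (ρ g u) (ρ g v) (ρ g w) = t' u v w) → ∃ c : ℝ, t' = c • t) := by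
  -- the form is non-degenerate
  have hker : LinearMap.ker B = ⊥ := by
    rcases hirr (LinearMap.ker B) (fun g => by
        rintro _ ⟨u, hu, rfl⟩
        rw [SetLike.mem_coe, LinearMap.mem_ker] at hu
        rw [LinearMap.mem_ker]
        ext v
        have h := hBi g u (ρ g⁻¹ v)
        rw [ρ.self_inv_apply g v] at h
        rw [h, hu, LinearMap.zero_apply, LinearMap.zero_apply]) with h | h
    · exact h
    · exact absurd (LinearMap.ker_eq_top.1 h) hB0
  have hinj : Function.Injective B := LinearMap.ker_eq_bot.1 hker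
  let e : U ≃ₗ[ℝ] (U →ₗ[ℝ] ℝ) := LinearMap.linearEquivOfInjective B hinj Subspace.dual_finrank_eq.symm
  have he : ∀ u, e u = B u := fun u => rfl
  have hsep : ∀ u v : U, (∀ w, B u w = B v w) → u = v := fun u v h => hinj (LinearMap.ext h)
  -- the two translations
  let T : (U →ₗ[ℝ] U →ₗ[ℝ] U) → (U →ₗ[ℝ] U →ₗ[ℝ] U →ₗ[ℝ] ℝ) := fun m => m.compr₂ B
  let M : (U →ₗ[ℝ] U →ₗ[ℝ] U →ₗ[ℝ] ℝ) → (U →ₗ[ℝ] U →ₗ[ℝ] U) := fun t => t.compr₂ e.symm.toLinearMap
  have hT : ∀ m u v w, T m u v w = B (m u v) w := fun _ _ _ _ => rfl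
  have hM : ∀ t u v w, B (M t u v) w = t u v w := fun t u v w => by
    rw [← he]
    show e (e.symm (t u v)) w = _
    rw [e.apply_symm_apply]
  have hTinv : ∀ m : U →ₗ[ℝ] U →ₗ[ℝ] U, (∀ (g : H) (u v : U), m (ρ g u) (ρ g v) = ρ g (m u v)) →
      ∀ (g : H) (u v w : U), T m (ρ g u) (ρ g v) (ρ g w) = T m u v w := fun m hm g u v w => by
    rw [hT, hT, hm, hBi]
  have hMinv : ∀ t : U →ₗ[ℝ] U →ₗ[ℝ] U →ₗ[ℝ] ℝ,
      (∀ (g : H) (u v w : U), t (ρ g u) (ρ g v) (ρ g w) = t u v w) →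
      ∀ (g : H) (u v : U), M t (ρ g u) (ρ g v) = ρ g (M t u v) := fun t ht g u v => by
    refine hsep _ _ fun w => ?_
    have h := hBi g (M t u v) (ρ g⁻¹ w)
    rw [ρ.self_inv_apply g w] at h
    have h2 := ht g u v (ρ g⁻¹ w)
    rw [ρ.self_inv_apply g w] at h2
    rw [hM, h, hM, h2]
  constructor
  · rintro ⟨m, hm0, hmc, hmi, huniq⟩
    have hswap : ∀ u v w, T m u v w = T m v u w := fun u v w => by rw [hT, hT, hmc]
    let t' : U →ₗ[ℝ] U →ₗ[ℝ] U →ₗ[ℝ] ℝ := LinearMap.lflip.toLinearMap.comp (T m)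
    have ht' : ∀ u v w, t' u v w = T m u w v := fun _ _ _ => rfl
    obtain ⟨c, hc⟩ := huniq (M t') (hMinv t' fun g u v w => by rw [ht', ht', hTinv m hmi])
    have hkey : ∀ u v w, T m u w v = c * T m u v w := fun u v w => by
      rw [← ht', ← hM, hc, hT]
      simp [smul_eq_mul]
    obtain ⟨u₀, v₀, w₀, h0⟩ : ∃ u v w, T m u v w ≠ 0 := by
      by_contra h
      push Not at h
      apply hm0
      ext u v
      refine hsep _ _ fun w => ?_
      simpa [hT] using h u v w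
    have hc2 : c * c = 1 := by
      have h1 := hkey u₀ v₀ w₀
      rw [hkey u₀ w₀ v₀] at h1
      have h2 := hkey u₀ w₀ v₀
      rw [hkey u₀ v₀ w₀] at h2
      exact mul_right_cancel₀ h0 (by rw [one_mul, mul_assoc]; exact h2.symm)
    have hc1 : c = 1 := by
      rcases mul_self_eq_one_iff.1 hc2 with h | h
      · exact h
      · exfalso
        subst h
        apply h0
        have a1 := hkey u₀ v₀ w₀
        have a2 := hswap u₀ w₀ v₀
        have a3 := hkey w₀ u₀ v₀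
        have a4 := hswap w₀ v₀ u₀
        have a5 := hkey v₀ w₀ u₀
        have a6 := hswap v₀ u₀ w₀
        linarith
    refine ⟨T m, fun h => h0 (by rw [h]; rfl), fun u v w => ⟨hswap u v w, ?_⟩, hTinv m hmi, fun t ht => ?_⟩
    · rw [hkey u v w, hc1, one_mul]
    · obtain ⟨d, hd⟩ := huniq (M t) (hMinv t ht)
      refine ⟨d, ?_⟩
      ext u v w
      rw [← hM, hd]
      simp [hT]
  · rintro ⟨t, ht0, hts, hti, huniq⟩
    refine ⟨M t, fun h => ht0 ?_, fun u v => hsep _ _ fun w => by rw [hM, hM, (hts u v w).1], hMinv t hti,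
      fun m hm => ?_⟩
    · ext u v w
      rw [← hM, h]
      simp
    · obtain ⟨d, hd⟩ := huniq (T m) (hTinv m hm)
      refine ⟨d, ?_⟩
      ext u v
      refine hsep _ _ fun w => ?_
      rw [← hT, hd]
      simp [hM]

end Cfsg.Agent.S5541
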