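import Cfsg.Statements.S5543
import Mathlib

set_option autoImplicit false
open Cfsg

namespace Cfsg.Agent.S5543

/-- Let V be a finite-dimensional real vector space with a commutative bilinear product and a positive-definite symmetric bilinear form that associates with the product and satisfies the Norton inequality (the Majorana setting of the definitions). Let X be a group of linear automorphisms of V in which every element squares to the identity, and suppose every non-identity element x of X is a Majorana involution with an axial vector a(x) of squared length 1, such that for any two distinct non-identity x, y the product a(x) ∘ a(y) equals (1/8)(a(x) + a(y) − a(xy)) (the dihedral subalgebra of type 2A whose third axis belongs to the involution xy). Then X has order at most 4. -/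
theorem result {V : Type*} [AddCommGroup V] [Module ℝ V] [FiniteDimensional ℝ V] (mul : V →ₗ[ℝ] V →ₗ[ℝ] V) (B : LinearMap.BilinForm ℝ V) (hV : Cfsg.Axial.IsMajoranaAmbient mul B) (X : Subgroup (V ≃ₗ[ℝ] V)) (hX : ∀ x ∈ X, x * x = 1) (ax : (V ≃ₗ[ℝ] V) → V) (hax : ∀ x ∈ X, x ≠ 1 → Cfsg.Axial.IsMajoranaPair mul B x (ax x)) (h1 : ∀ x ∈ X, x ≠ 1 → B (ax x) (ax x) = 1) (h2A : ∀ x ∈ X, ∀ y ∈ X, x ≠ 1 → y ≠ 1 → x ≠ y → mul (ax x) (ax y) = (1 / 8 : ℝ) • (ax x + ax y - ax (x * y))) : Nat.card ↥X ≤ 4 := by
  classical
  obtain ⟨hcm, hBs, hpos, hassoc, -⟩ := hV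
  by_contra hcard
  push Not at hcard
  have hfin : Finite X := Nat.finite_of_card_ne_zero (by omega)
  have hinv : ∀ x : X, x * x = 1 := fun x => Subtype.ext (hX x x.2)
  have hcommX : ∀ x y : X, x * y = y * x := fun x y => by
    calc x * y = (y * y) * (x * y) * (x * x) := by rw [hinv, hinv]; group
      _ = y * ((y * x) * (y * x)) * x := by simp only [mul_assoc]
      _ = y * x := by rw [hinv, mul_one]
  haveI := Fintype.ofFinite X
  rw [Nat.card_eq_fintype_card] at hcard
  obtain ⟨x, hx⟩ : ∃ x : X, x ≠ 1 := Fintype.exists_ne_of_one_lt_card (by omega) 1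
  obtain ⟨y, hy⟩ : ∃ y : X, y ∉ ({1, x} : Finset X) := by
    by_contra h
    push Not at h
    have := (Finset.card_le_card (s := Finset.univ) fun z _ => h z).trans Finset.card_le_two
    rw [Finset.card_univ] at this
    omega
  obtain ⟨u, hu⟩ : ∃ u : X, u ∉ ({1, x, y, x * y} : Finset X) := by
    by_contra h
    push Not at h
    have := (Finset.card_le_card (s := Finset.univ) fun z _ => h z).trans Finset.card_le_four
    rw [Finset.card_univ] at this
    omega
  simp only [Finset.mem_insert, Finset.mem_singleton, not_or] at hy hu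
  let a : X → V := fun z => ax z
  have hself : ∀ z w : X, z * (z * w) = w := fun z w => by rw [← mul_assoc, hinv, one_mul]
  have hne : ∀ z w : X, z * w = 1 → z = w := fun z w h => by
    calc z = z * (z * w) := by rw [h, mul_one]
      _ = w := hself z w
  have hp : ∀ z w : X, z ≠ 1 → w ≠ 1 → z ≠ w → mul (a z) (a w) = (1 / 8 : ℝ) • (a z + a w - a (z * w)) :=
    fun z w hz hw hzw => h2A z z.2 w w.2 (fun h => hz (Subtype.ext h)) (fun h => hw (Subtype.ext h))
      (fun h => hzw (Subtype.ext h))
  obtain ⟨-, -, ⟨⟨-, hidem, -, hfus⟩, -⟩, -⟩ := hax x x.2 (fun h => hx (Subtype.ext h))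
  have hz1 : x * y ≠ 1 := fun h => hy.2 (hne x y h).symm
  have hzu1 : x * u ≠ 1 := fun h => hu.2.1 (hne x u h).symm
  have hzne : x ≠ x * y := fun h => hy.1 (by simpa using h.symm)
  have hzune : x ≠ x * u := fun h => hu.1 (by simpa using h.symm)
  have hquart : ∀ t : X, t ≠ 1 → t ≠ x → a t - a (x * t) ∈ Axial.eigen mul (a x) (1 / 4 : ℝ) := by
    intro t ht htx
    have h1' : x * t ≠ 1 := fun h => htx (hne x t h).symm
    have h2' : x ≠ x * t := fun h => ht (by simpa using h.symm)
    rw [Axial.eigen, Module.End.mem_eigenspace_iff, map_sub, hp x t hx ht (Ne.symm htx), hp x _ hx h1' h2', hself]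
    module
  have hp' := hfus _ (by simp [Axial.majoranaSpectrum]) _ (by simp [Axial.majoranaSpectrum]) _ (hquart y hy.1 hy.2) _
    (hquart u hu.1 hu.2.1)
  have hlaw : Axial.monsterLaw (1 / 4 : ℝ) (1 / 32) (1 / 4) (1 / 4) = {1, 0} := by
    unfold Axial.monsterLaw
    norm_num
  rw [hlaw] at hp'
  have e1 : y * u ≠ 1 := fun h => hu.2.2.1 (hne y u h).symm
  have hyxu : y ≠ x * u := fun h => hu.2.2.2 (by rw [h, hself])
  have hxyu : x * y ≠ u := fun h => hu.2.2.2 h.symm
  have hxyxu : x * y ≠ x * u := fun h => hu.2.2.1 (mul_left_cancel h).symm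
  set w : X := y * u with hw
  have hval : mul (a y - a (x * y)) (a u - a (x * u)) = (1 / 4 : ℝ) • (a (x * w) - a w) := by
    have f1 : y * (x * u) = x * w := by rw [hw, ← mul_assoc, hcommX y x, mul_assoc]
    have f2 : x * y * u = x * w := by rw [hw, mul_assoc]
    have f3 : x * y * (x * u) = w := by rw [mul_assoc, f1, hself]
    simp only [map_sub, LinearMap.sub_apply]
    rw [hp y u hy.1 hu.1 (Ne.symm hu.2.2.1), hp y _ hy.1 hzu1 hyxu, hp _ u hz1 hu.1 hxyu, hp _ _ hz1 hzu1 hxyxu,
      f1, f2, f3]
    module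
  rw [hval] at hp'
  have hwx : w ≠ x := fun h => hu.2.2.2 (by rw [← h, hw, mul_assoc, hcommX u y, hself])
  have hxw1 : x * w ≠ 1 := fun h => hwx (hne x w h).symm
  have hwxw : w ≠ x * w := fun h => hx (by simpa using h.symm)
  set v : V := (1 / 4 : ℝ) • (a (x * w) - a w) with hv
  have hv4 : mul (a x) v = (1 / 4 : ℝ) • v := by
    have h := Module.End.mem_eigenspace_iff.1 (hquart w e1 hwx)
    rw [show a (x * w) - a w = -(a w - a (x * w)) by abel] at hv
    rw [hv, map_smul, map_neg, h]
    module
  have hz : mul (a x) (mul (a x) v) = mul (a x) v := by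
    rw [Axial.eigenSum] at hp'
    refine Submodule.iSup_induction (motive := fun z => mul (a x) (mul (a x) z) = mul (a x) z) _ hp' ?_ (by simp) ?_
    · intro c z hz
      by_cases hc : c ∈ ({1, 0} : Set ℝ)
      · simp only [hc, iSup_pos, Axial.eigen, Module.End.mem_eigenspace_iff] at hz
        rcases hc with rfl | hc
        · rw [hz, one_smul, hz, one_smul]
        · rw [Set.mem_singleton_iff.1 hc, zero_smul] at hz
          rw [hz, map_zero]
      · simp only [hc, iSup_neg, Submodule.mem_bot, not_false_eq_true] at hz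
        simp [hz]
    · intro p q hp hq
      simp only [map_add, hp, hq]
  rw [hv4, map_smul, hv4, smul_smul] at hz
  have hv0 : v = 0 := by
    have h3 : ((1 / 4 : ℝ) * (1 / 4) - 1 / 4) • v = 0 := by rw [sub_smul, hz, sub_self]
    exact (smul_eq_zero.1 h3).resolve_left (by norm_num)
  rw [hv] at hv0
  have haeq : a (x * w) = a w := sub_eq_zero.1 ((smul_eq_zero.1 hv0).resolve_left (by norm_num))
  have hmul := hp w (x * w) e1 hxw1 hwxw
  have hid : mul (a w) (a w) = a w :=
    (hax w w.2 (fun h => e1 (Subtype.ext h))).2.2.1.1.2.1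
  have hwxw2 : w * (x * w) = x := by rw [hcommX x w, hself]
  rw [haeq, hid, hwxw2] at hmul
  have hax' : a x = (-6 : ℝ) • a w := by
    have h8 := congrArg (fun t : V => (8 : ℝ) • t) hmul
    simp only [smul_smul] at h8
    norm_num at h8
    have : a x = a w + a w - (8 : ℝ) • a w := by rw [h8]; abel
    rw [this]; module
  have hB1 : B (a x) (a x) = 1 := h1 x x.2 (fun h => hx (Subtype.ext h))
  have hBw : B (a w) (a w) = 1 := h1 w w.2 (fun h => e1 (Subtype.ext h))
  simp only [hax', map_smul, LinearMap.smul_apply, smul_eq_mul, hBw] at hB1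
  norm_num at hB1

end Cfsg.Agent.S5543
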