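import Cfsg.Statements.S5544
import Mathlib

set_option autoImplicit false
open Cfsg

/-!
Sakuma's theorem, by computing inside the span of the axes `a₋₂, …, a₃` and the three dihedral invariants:
two scalar equations in `λ₁ = B a₀ a₁`, `λ₂ = B a₀ a₂` leave exactly the nine Norton–Sakuma points.
-/

namespace Cfsg.Agent.S5544

open Cfsg.Axial

variable {V : Type*} [AddCommGroup V] [Module ℝ V]
  {mul : V →ₗ[ℝ] V →ₗ[ℝ] V} {B : LinearMap.BilinForm ℝ V}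

theorem mem_eigen {a : V} {c : ℝ} {v : V} : v ∈ eigen mul a c ↔ mul a v = c • v :=
  Module.End.mem_eigenspace_iff

theorem eigenSum_insert (a : V) (c : ℝ) (S : Set ℝ) :
    eigenSum mul a (insert c S) = eigen mul a c ⊔ eigenSum mul a S := iSup_insert

theorem eigenSum_singleton (a : V) (c : ℝ) : eigenSum mul a ({c} : Set ℝ) = eigen mul a c :=
  iSup_singleton

theorem decomp {μ : V ≃ₗ[ℝ] V} {a : V} (hμ : IsMajoranaPair mul B μ a) (b : V) :
    ∃ (t : ℝ) (p q r : V), mul a p = 0 ∧ mul a q = (1 / 4 : ℝ) • q ∧ mul a r = (1 / 32 : ℝ) • r ∧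
      b = t • a + p + q + r ∧ μ b = t • a + p + q - r := by
  obtain ⟨-, -, ⟨⟨-, hid, htop, -⟩, hprim⟩, hfix, hneg⟩ := hμ
  have hb : b ∈ eigenSum mul a majoranaSpectrum := htop ▸ Submodule.mem_top
  rw [majoranaSpectrum, eigenSum_insert, eigenSum_insert, eigenSum_insert, eigenSum_singleton, hprim] at hb
  obtain ⟨x, hx, y1, hy1, e1⟩ := Submodule.mem_sup.mp hb
  obtain ⟨p, hp, y2, hy2, e2⟩ := Submodule.mem_sup.mp hy1
  obtain ⟨q, hq, r, hr, e3⟩ := Submodule.mem_sup.mp hy2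
  obtain ⟨t, rfl⟩ := Submodule.mem_span_singleton.mp hx
  have hx' : t • a ∈ eigen mul a 1 := hprim ▸ hx
  have hbeq : b = t • a + p + q + r := by rw [← e1, ← e2, ← e3]; abel
  have hf : μ (t • a + p + q) = t • a + p + q := hfix _ (by
    rw [eigenSum_insert, eigenSum_insert, eigenSum_singleton]
    exact add_mem (add_mem (Submodule.mem_sup_left hx') (Submodule.mem_sup_right (Submodule.mem_sup_left hp)))
      (Submodule.mem_sup_right (Submodule.mem_sup_right hq)))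
  have hn : μ r = -r := hneg r hr
  refine ⟨t, p, q, r, ?_, mem_eigen.mp hq, mem_eigen.mp hr, hbeq, ?_⟩
  · rw [mem_eigen.mp hp, zero_smul]
  · rw [hbeq, map_add, hf, hn, sub_eq_add_neg]

theorem invol {μ : V ≃ₗ[ℝ] V} {a : V} (hμ : IsMajoranaPair mul B μ a) (x : V) : μ (μ x) = x := by
  obtain ⟨-, -, -, hfix, hneg⟩ := id hμ
  obtain ⟨t, p, q, r, -, -, hr, hx, hμx⟩ := decomp hμ x
  have hn : μ r = -r := hneg r (mem_eigen.mpr hr)
  have h2 : μ (t • a + p + q + r) = t • a + p + q - r := hx ▸ hμx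
  rw [map_add, hn] at h2
  have h3 : μ (t • a + p + q) = t • a + p + q := by linear_combination (norm := module) h2
  rw [hμx, map_sub, h3, hn, sub_neg_eq_add, ← hx]

theorem fix_axis {μ : V ≃ₗ[ℝ] V} {a : V} (hμ : IsMajoranaPair mul B μ a) : μ a = a := by
  obtain ⟨-, -, ⟨⟨-, hid, -, -⟩, -⟩, hfix, -⟩ := hμ
  refine hfix a (Submodule.mem_iSup_of_mem 1 (Submodule.mem_iSup_of_mem (by simp) ?_))
  exact mem_eigen.mpr (by rw [hid, one_smul])

/-- The involution is determined by its axial vector, equivariantly. -/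
theorem transport {μ μ' : V ≃ₗ[ℝ] V} {a a' : V} (hμ : IsMajoranaPair mul B μ a)
    (hμ' : IsMajoranaPair mul B μ' a') (g : V ≃ₗ[ℝ] V)
    (hg : ∀ u v : V, g (mul u v) = mul (g u) (g v)) (he : g a = a') : g * μ = μ' * g := by
  obtain ⟨-, -, -, hfix', hneg'⟩ := id hμ'
  obtain ⟨-, -, ⟨⟨-, hid, -, -⟩, -⟩, -, -⟩ := id hμ
  ext x
  show g (μ x) = μ' (g x)
  obtain ⟨t, p, q, r, hp, hq, hr, hx, hμx⟩ := decomp hμ x
  have hgp : ∀ (z : V) (c : ℝ), mul a z = c • z → g z ∈ eigen mul a' c := fun z c hz =>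
    mem_eigen.mpr (by rw [← he, ← hg, hz, map_smul])
  have h1 : μ' (g (t • a + p + q)) = g (t • a + p + q) := hfix' _ (by
    rw [map_add, map_add, eigenSum_insert, eigenSum_insert, eigenSum_singleton]
    exact add_mem (add_mem (Submodule.mem_sup_left (hgp _ 1 (by rw [map_smul, hid, one_smul])))
      (Submodule.mem_sup_right (Submodule.mem_sup_left (hgp _ 0 (by rw [hp, zero_smul])))))
      (Submodule.mem_sup_right (Submodule.mem_sup_right (hgp _ _ hq))))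
  have h2 : μ' (g r) = -g r := hneg' _ (hgp _ _ hr)
  rw [hμx, hx, map_sub g, map_add g _ r, map_add μ', h1, h2, sub_eq_add_neg]

theorem mul_invol {μ : V ≃ₗ[ℝ] V} {a : V} (hμ : IsMajoranaPair mul B μ a) : μ * μ = 1 := by
  ext x
  exact invol hμ x

theorem eq_of_one (hV : IsMajoranaAmbient mul B) {x y : V} (hx : B x x = 1) (hy : B y y = 1)
    (hxy : B x y = 1) : x = y := by
  by_contra h
  have := hV.2.2.1 (x - y) (sub_ne_zero.mpr h)
  simp only [map_sub, LinearMap.sub_apply, hx, hy, hxy, hV.2.1 y x] at this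
  norm_num at this

section Pair

variable (hV : IsMajoranaAmbient mul B) {μ ν : V ≃ₗ[ℝ] V} {a b : V}

include hV in
theorem swapMul (x y z : V) : B (mul x y) z = B y (mul x z) := by
  rw [hV.1 x y, hV.2.2.2.1]

include hV in
/-- `σ = ab - (a + b)/32` is fixed by the involution of `a`, and its product with `a`. -/
theorem first {t : ℝ} (hμ : IsMajoranaPair mul B μ a) (hn : B a a = 1) (ht : B a b = t) :
    μ (mul a b - (1 / 32 : ℝ) • (a + b)) = mul a b - (1 / 32 : ℝ) • (a + b) ∧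
      mul a (μ b) - (1 / 32 : ℝ) • (a + μ b) = mul a b - (1 / 32 : ℝ) • (a + b) ∧
      mul a (mul a b - (1 / 32 : ℝ) • (a + b)) = (3 / 4 * t - 25 / 1024) • a + (7 / 2048 : ℝ) • (b + μ b)
        + (7 / 32 : ℝ) • (mul a b - (1 / 32 : ℝ) • (a + b)) ∧
      ∃ p q r : V, mul a p = 0 ∧ mul a q = (1 / 4 : ℝ) • q ∧
        p = (7 / 16 : ℝ) • (b + μ b) + (3 * t - 1 / 8) • a - (4 : ℝ) • (mul a b - (1 / 32 : ℝ) • (a + b)) ∧
        q = (4 : ℝ) • (mul a b - (1 / 32 : ℝ) • (a + b)) + (1 / 8 - 4 * t) • a + (1 / 16 : ℝ) • (b + μ b) ∧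
        B p q = 0 ∧ B q r = 0 ∧ B a q = 0 ∧ b = t • a + p + q + r ∧ μ b = t • a + p + q - r ∧
        mul a r = (1 / 32 : ℝ) • r ∧ B a r = 0 ∧ B p r = 0 ∧ B a p = 0 := by
  have hid : mul a a = a := hμ.2.2.1.1.2.1
  have hμa := fix_axis hμ
  obtain ⟨t', p, q, r, hp, hq, hr, hb, hμb⟩ := decomp hμ b
  have horth : ∀ (x y : V) (c d : ℝ), mul a x = c • x → mul a y = d • y → c ≠ d → B x y = 0 := by
    intro x y c d hx hy hcd
    have e := swapMul hV a x y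
    rw [hx, hy, map_smul, map_smul, LinearMap.smul_apply, smul_eq_mul, smul_eq_mul] at e
    exact (mul_eq_zero.mp (show (c - d) * B x y = 0 by linear_combination e)).resolve_left (sub_ne_zero.mpr hcd)
  have ha1 : mul a a = (1 : ℝ) • a := by rw [hid, one_smul]
  have hp0 : mul a p = (0 : ℝ) • p := by rw [hp, zero_smul]
  have hap : B a p = 0 := horth a p 1 0 ha1 hp0 (by norm_num)
  have haq : B a q = 0 := horth a q 1 _ ha1 hq (by norm_num)
  have har : B a r = 0 := horth a r 1 _ ha1 hr (by norm_num)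
  have htt : t' = t := by
    rw [← ht, hb]
    simp only [map_add, map_smul, smul_eq_mul, hn, hap, haq, har, mul_one, add_zero]
  subst htt
  have hab : mul a b = t' • a + (1 / 4 : ℝ) • q + (1 / 32 : ℝ) • r := by
    rw [hb]; simp only [map_add, map_smul, hid, hp, hq, hr, add_zero]
  have hamb : mul a (μ b) = t' • a + (1 / 4 : ℝ) • q - (1 / 32 : ℝ) • r := by
    rw [hμb]; simp only [map_add, map_sub, map_smul, hid, hp, hq, hr, add_zero]
  refine ⟨?_, ?_, ?_, p, q, r, hp, hq, ?_, ?_, horth p q _ _ hp0 hq (by norm_num), horth q r _ _ hq hr (by norm_num),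
    haq, hb, hμb, hr, har, horth p r _ _ hp0 hr (by norm_num), hap⟩
  · rw [map_sub, map_smul, map_add, hμ.1, hμa, hamb, hab, hμb, hb]
    module
  · rw [hamb, hab, hμb, hb]
    module
  · rw [hab, hμb]
    simp only [hb, map_add, map_sub, map_smul, hid, hp, hq, hr]
    module
  · rw [hab, hμb, hb]
    module
  · rw [hab, hμb, hb]
    module

include hV in
/-- The computation centred at `a`. -/
theorem core (ha : IsMajoranaPair mul B μ a) (hb : IsMajoranaPair mul B ν b)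
    (hna : B a a = 1) (hnb : B b b = 1) {L Le Lo : ℝ} (hL : B a b = L) (hLe : B a (ν a) = Le)
    (hLo : B b (μ b) = Lo) (σ σe σo : V) (hσ : σ = mul a b - (1 / 32 : ℝ) • (a + b))
    (hσe : σe = mul a (ν a) - (1 / 32 : ℝ) • (a + ν a))
    (hσo : σo = mul b (μ b) - (1 / 32 : ℝ) • (b + μ b)) :
    Lo = Le ∧
      mul a σe = (3 / 4 * Le - 25 / 1024) • a + (7 / 2048 : ℝ) • (ν a + μ (ν a)) + (7 / 32 : ℝ) • σe ∧
      mul a σo = (5 / 3 * L - 32 / 3 * L ^ 2 - 127 / 3072 - Lo / 24) • a + (-(19 / 3072) + L / 6) • (b + μ b)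
        + (-(19 / 48) + 32 / 3 * L) • σ + (7 / 96 : ℝ) • σe + (7 / 6144 : ℝ) • (ν a + μ (ν a)) ∧
      mul σ σ = (7 / 6 * L ^ 2 - 7 / 384 * L - 7 / 98304 + 7 / 1536 * Lo) • a
        + (49 / 768 * L - 245 / 196608) • (b + μ b) + (49 / 196608 : ℝ) • (ν a + μ (ν a))
        + (-(5 / 12) * L - 13 / 1536) • σ + (7 / 2048 : ℝ) • σo + (-(7 / 1536) : ℝ) • σe := by
  have hc := hV.1
  have hid : mul a a = a := ha.2.2.1.1.2.1
  have hidb : mul b b = b := hb.2.2.1.1.2.1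
  have hlaw := ha.2.2.1.1.2.2.2
  have ha0 : a ≠ 0 := ha.2.2.1.1.1
  obtain ⟨hμσ, hamσ, haσ, p, q, r, hp, hq, hpe, hqe, hpq, hqr, haq, hbd, hμbd, hr, har, hpr, hap⟩ :=
    first hV ha hna hL
  obtain ⟨-, hame, haσe, -⟩ := first hV ha hna (b := ν a) hLe
  obtain ⟨-, -, hbσ, -⟩ := first hV hb hnb (b := a) (t := L) (by rw [hV.2.1, hL])
  rw [hc b a, add_comm b a] at hbσ
  rw [← hσ] at hμσ hamσ haσ hbσ hpe hqe
  rw [← hσe] at hame haσe
  set m := μ b with hm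
  set a2 := ν a with ha2
  set m2 := μ a2 with hm2
  have hmσ : mul m σ = (3 / 4 * L - 25 / 1024) • m + (7 / 2048 : ℝ) • (a + m2) + (7 / 32 : ℝ) • σ := by
    conv_lhs => rw [hm, ← hμσ, ← ha.1, hbσ]
    simp only [map_add, map_smul, fix_axis ha, hμσ, ← hm, ← hm2]
  have tab : mul a b = σ + (1 / 32 : ℝ) • (a + b) := by rw [hσ]; abel
  have tam : mul a m = σ + (1 / 32 : ℝ) • (a + m) := by rw [← hamσ]; abel
  have tbm : mul b m = σo + (1 / 32 : ℝ) • (b + m) := by rw [hσo]; abel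
  have tae : mul a a2 = σe + (1 / 32 : ℝ) • (a + a2) := by rw [hσe]; abel
  have tam2 : mul a m2 = σe + (1 / 32 : ℝ) • (a + m2) := by rw [← hame]; abel
  have hmm : mul m m = m := by rw [hm, ← ha.1, hidb]
  -- the three products of the eigenvectors
  have hpp : mul a (mul p p) = 0 := by
    have h := hlaw 0 (by simp [majoranaSpectrum]) 0 (by simp [majoranaSpectrum]) p
      (mem_eigen.mpr (by rw [hp, zero_smul])) p (mem_eigen.mpr (by rw [hp, zero_smul]))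
    have e : monsterLaw (1 / 4 : ℝ) (1 / 32) 0 0 = {0} := by norm_num [monsterLaw]
    rw [e, eigenSum_singleton, mem_eigen, zero_smul] at h
    exact h
  have hpq' : mul a (mul p q) = (1 / 4 : ℝ) • mul p q := by
    have h := hlaw 0 (by simp [majoranaSpectrum]) (1 / 4) (by simp [majoranaSpectrum]) p
      (mem_eigen.mpr (by rw [hp, zero_smul])) q (mem_eigen.mpr hq)
    have e : monsterLaw (1 / 4 : ℝ) (1 / 32) 0 (1 / 4) = {1 / 4} := by norm_num [monsterLaw]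
    rwa [e, eigenSum_singleton, mem_eigen] at h
  have hqq : mul a (mul q q) = (1 / 4 * B q q) • a := by
    have h := hlaw (1 / 4) (by simp [majoranaSpectrum]) (1 / 4) (by simp [majoranaSpectrum]) q
      (mem_eigen.mpr hq) q (mem_eigen.mpr hq)
    have e : monsterLaw (1 / 4 : ℝ) (1 / 32) (1 / 4) (1 / 4) = {1, 0} := by norm_num [monsterLaw]
    rw [e, eigenSum_insert, eigenSum_singleton, ha.2.2.1.2] at h
    obtain ⟨x, hx, z, hz, hxz⟩ := Submodule.mem_sup.mp h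
    obtain ⟨s, rfl⟩ := Submodule.mem_span_singleton.mp hx
    rw [mem_eigen, zero_smul] at hz
    have hs : mul a (mul q q) = s • a := by rw [← hxz, map_add, map_smul, hid, hz, add_zero]
    have h2 : B a (mul a (mul q q)) = 1 / 4 * B q q := by
      rw [hV.2.2.2.1, hid, hV.2.2.2.1 a q q, hq, map_smul, LinearMap.smul_apply, smul_eq_mul]
    rw [hs, map_smul, smul_eq_mul, hna, mul_one] at h2
    rw [hs, h2]
  have hnq : B q q = 4 * L - 4 * L ^ 2 - (1 - Lo) / 16 := by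
    have e1 : B (mul a b) b = L := by rw [← hV.2.2.2.1, hidb, hL]
    have eab : mul a b = L • a + (1 / 4 : ℝ) • q + (1 / 32 : ℝ) • r := by
      rw [hbd]; simp only [map_add, map_smul, hid, hp, hq, hr, add_zero]
    have e2 : B b b = 1 := hnb
    have e3 : B b m = Lo := hLo
    have sy : B q p = 0 := by rw [hV.2.1, hpq]
    have sy2 : B r p = 0 := by rw [hV.2.1, hpr]
    have sy3 : B r q = 0 := by rw [hV.2.1, hqr]
    have sy4 : B p a = 0 := by rw [hV.2.1, hap]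
    have sy5 : B q a = 0 := by rw [hV.2.1, haq]
    have sy6 : B r a = 0 := by rw [hV.2.1, har]
    rw [eab, hbd] at e1
    rw [hbd] at e2 e3
    rw [hμbd] at e3
    simp only [map_add, map_sub, map_smul, LinearMap.add_apply, LinearMap.sub_apply, LinearMap.smul_apply,
      smul_eq_mul, hna, hpq, hqr, haq, har, hpr, hap, sy, sy2, sy3, sy4, sy5, sy6] at e1 e2 e3
    linear_combination 4 * e1 - (1 / 16 : ℝ) * e2 + (1 / 16 : ℝ) * e3
  have table := And.intro hid (And.intro hidb hmm)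
  have eT : mul p p - mul q q = (1 / 4 * L - 9 / 256 - L ^ 2) • a + (75 / 256 - 23 / 8 * L) • (b + m)
      + (-(7 / 512) : ℝ) • (a2 + m2) + (8 * L - 2) • σ + (3 / 8 : ℝ) • σo := by
    rw [hpe, hqe]
    simp only [map_add, map_sub, map_smul, LinearMap.add_apply, LinearMap.sub_apply, LinearMap.smul_apply,
      table.1, table.2.1, table.2.2, hc b a, hc m a, hc m b, hc σ a, hc σ b, hc σ m, tab, tam, tbm, haσ, hbσ, hmσ]
    module
  have eS : mul p p + mul p q = (3 / 32 * L - 9 / 512) • a + (143 / 512 - 93 / 64 * L) • (b + m)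
      + (-(7 / 1024) : ℝ) • (a2 + m2) + (3 * L - 1) • σ + (7 / 16 : ℝ) • σo := by
    rw [hpe, hqe]
    simp only [map_add, map_sub, map_smul, LinearMap.add_apply, LinearMap.sub_apply, LinearMap.smul_apply,
      table.1, table.2.1, table.2.2, hc b a, hc m a, hc m b, hc σ a, hc σ b, hc σ m, tab, tam, tbm, haσ, hbσ, hmσ]
    module
  have haσo : mul a σo = (5 / 3 * L - 32 / 3 * L ^ 2 - 127 / 3072 - Lo / 24) • a
      + (-(19 / 3072) + L / 6) • (b + m) + (-(19 / 48) + 32 / 3 * L) • σ + (7 / 96 : ℝ) • σe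
      + (7 / 6144 : ℝ) • (a2 + m2) := by
    have h := congrArg (mul a) eT
    simp only [map_add, map_sub, map_smul, hid, tab, tam, tae, tam2, haσ, hpp, hqq, hnq] at h
    linear_combination (norm := module) (-(8 / 3) : ℝ) • h
  set Z : V := (1 / 6 + 29 / 12 * L) • σ + (71 / 12288 - 35 / 384 * L - 29 / 12 * L ^ 2 - 7 / 384 * Lo) • a
    + (1 / 384 + 29 / 768 * L) • (b + m) + (7 / 384 : ℝ) • σe + (7 / 24576 : ℝ) • (a2 + m2) with hZ
  have hZ' : mul p q = (4 : ℝ) • Z := by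
    have h := congrArg (mul a) eS
    simp only [map_add, map_sub, map_smul, hid, tab, tam, tae, tam2, haσ, haσo, hpp, hpq'] at h
    rw [hZ]
    linear_combination (norm := module) (4 : ℝ) • h
  have hLL : Lo = Le := by
    have h : mul a (mul p q) = (1 / 4 : ℝ) • mul p q := hpq'
    rw [hZ', hZ] at h
    simp only [map_add, map_sub, map_smul, hid, tab, tam, tae, tam2, haσ, haσe] at h
    have h' : (7 / 512 * (Le - Lo) : ℝ) • a = 0 := by
      linear_combination (norm := module) (1 / 4 : ℝ) • h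
    have := (smul_eq_zero.mp h').resolve_right ha0
    linarith
  refine ⟨hLL, haσe, haσo, ?_⟩
  have h := hZ'
  rw [hpe, hqe, hZ] at h
  simp only [map_add, map_sub, map_smul, LinearMap.add_apply, LinearMap.sub_apply, LinearMap.smul_apply,
    table.1, table.2.1, table.2.2, hc b a, hc m a, hc m b, hc σ a, hc σ b, hc σ m, tab, tam, tbm, haσ, hbσ, hmσ] at h
  linear_combination (norm := module) (-(1 / 16) : ℝ) • h

end Pair

/-- The two equations leave the nine Norton–Sakuma points. -/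
theorem nine {L Le : ℝ}
    (hF : -(3336 / 7) * L * Le - 15360 / 7 * L ^ 2 * Le + 501 / 56 * Le - 48 / 7 * Le ^ 2 + 1800 / 7 * L - 117 / 56
      - 69120 / 7 * L ^ 2 + 872448 / 7 * L ^ 3 - 786432 / 7 * L ^ 4 = 0)
    (hQ : 92160 / 7 * L ^ 2 + 216 / 7 * L + 8703 / 196 * Le - 351 / 196 - 33103872 / 49 * L ^ 3
      - 124392 / 49 * L * Le + 453771264 / 49 * L ^ 4 - 402653184 / 49 * L ^ 5 + 1195008 / 49 * L ^ 2 * Le
      - 19660800 / 49 * L ^ 3 * Le - 2088 / 49 * Le ^ 2 - 70656 / 49 * L * Le ^ 2 = 0) :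
    L = 1 ∨ (L = 1 / 8 ∧ Le = 1) ∨ (L = 0 ∧ Le = 1) ∨ (L = 13 / 256 ∧ Le = 13 / 256) ∨
      (L = 1 / 64 ∧ Le = 1 / 64) ∨ (L = 1 / 32 ∧ Le = 0) ∨ (L = 1 / 64 ∧ Le = 1 / 8) ∨
      (L = 3 / 128 ∧ Le = 3 / 128) ∨ (L = 5 / 256 ∧ Le = 13 / 256) := by
  set g1 : ℝ := -(8775 / 784) - 71460 / 49 * L + 138240 * L ^ 2 + 2949120 / 49 * L ^ 3 with hg1
  set g0 : ℝ := 1002240 / 49 * L ^ 2 - 55260 / 49 * L + 8775 / 784 + 30689280 / 49 * L ^ 3
    - 796262400 / 49 * L ^ 4 + 754974720 / 49 * L ^ 5 with hg0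
  have hG : g1 * Le + g0 = 0 := by
    rw [hg1, hg0]
    linear_combination hQ - (87 + 2944 * L) / 14 * hF
  have hR : (1709960483517235200 / 343 : ℝ) * (L * (L - 1) * (L - 1 / 8) * (L - 13 / 256) * (L - 1 / 64) ^ 2
      * (L - 1 / 32) * (L - 3 / 128) * (L - 5 / 256)) = 0 := by
    linear_combination g1 ^ 2 * hF
      - ((-(48 / 7)) * (g1 * Le - g0) + (501 / 56 - 3336 / 7 * L - 15360 / 7 * L ^ 2) * g1) * hG
  simp only [mul_eq_zero, pow_eq_zero_iff two_ne_zero, sub_eq_zero] at hR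
  rw [hg1, hg0] at hG
  rcases hR with h | ((((((((h | h) | h) | h) | h) | h) | h) | h))
  · norm_num at h
  · subst h
    exact Or.inr (Or.inr (Or.inl ⟨rfl, by linarith⟩))
  · exact Or.inl h
  · subst h
    exact Or.inr (Or.inl ⟨rfl, by norm_num at hG ⊢; linarith⟩)
  · subst h
    exact Or.inr (Or.inr (Or.inr (Or.inl ⟨rfl, by norm_num at hG ⊢; linarith⟩)))
  · subst h
    have : (Le - 1 / 64) * (Le - 1 / 8) = 0 := by linear_combination (-(7 / 48) : ℝ) * hF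
    rcases mul_eq_zero.mp this with h | h
    · exact Or.inr (Or.inr (Or.inr (Or.inr (Or.inl ⟨rfl, by linarith⟩))))
    · exact Or.inr (Or.inr (Or.inr (Or.inr (Or.inr (Or.inr (Or.inl ⟨rfl, by linarith⟩))))))
  · subst h
    exact Or.inr (Or.inr (Or.inr (Or.inr (Or.inr (Or.inl ⟨rfl, by norm_num at hG ⊢; linarith⟩)))))
  · subst h
    exact Or.inr (Or.inr (Or.inr (Or.inr (Or.inr (Or.inr (Or.inr (Or.inl ⟨rfl, by norm_num at hG ⊢; linarith⟩)))))))
  · subst h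
    exact Or.inr (Or.inr (Or.inr (Or.inr (Or.inr (Or.inr (Or.inr (Or.inr ⟨rfl, by norm_num at hG ⊢; linarith⟩)))))))

/-- Let V be a finite-dimensional real vector space with a commutative bilinear product and a positive-definite symmetric bilinear form that associates with the product and satisfies the Norton inequality (the Majorana setting of the definitions). Let μ₀ and μ₁ be Majorana involutions with axial vectors a₀ and a₁ of squared length 1, each involution having no other axial vector. Then the product μ₀μ₁ has order at most 6: some power (μ₀μ₁)^n with 1 ≤ n ≤ 6 is the identity (so the two involutions generate a dihedral group of order at most 12). This is the 6-transposition property of Majorana involutions. -/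
theorem result {V : Type*} [AddCommGroup V] [Module ℝ V] [FiniteDimensional ℝ V] (mul : V →ₗ[ℝ] V →ₗ[ℝ] V) (B : LinearMap.BilinForm ℝ V) (hV : Cfsg.Axial.IsMajoranaAmbient mul B) (μ₀ μ₁ : V ≃ₗ[ℝ] V) (a₀ a₁ : V) (h₀ : Cfsg.Axial.IsMajoranaPair mul B μ₀ a₀) (h₁ : Cfsg.Axial.IsMajoranaPair mul B μ₁ a₁) (hu₀ : ∀ a : V, Cfsg.Axial.IsMajoranaPair mul B μ₀ a → a = a₀) (hu₁ : ∀ a : V, Cfsg.Axial.IsMajoranaPair mul B μ₁ a → a = a₁) (hn₀ : B a₀ a₀ = 1) (hn₁ : B a₁ a₁ = 1) : ∃ n : ℕ, 1 ≤ n ∧ n ≤ 6 ∧ (μ₀ * μ₁) ^ n = 1 := by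
  have hc := hV.1
  have hsy := hV.2.1
  have f0 := fix_axis h₀
  have f1 := fix_axis h₁
  have i0 := invol h₀
  have i1 := invol h₁
  have B0 := h₀.2.1
  have B1 := h₁.2.1
  obtain ⟨L, hL⟩ : ∃ L, B a₀ a₁ = L := ⟨_, rfl⟩
  obtain ⟨Le, hLe⟩ : ∃ Le, B a₀ (μ₁ a₀) = Le := ⟨_, rfl⟩
  obtain ⟨Lo, hLo⟩ : ∃ Lo, B a₁ (μ₀ a₁) = Lo := ⟨_, rfl⟩
  obtain ⟨σ, hσ⟩ : ∃ σ, σ = mul a₀ a₁ - (1 / 32 : ℝ) • (a₀ + a₁) := ⟨_, rfl⟩
  obtain ⟨σe, hσe⟩ : ∃ σe, σe = mul a₀ (μ₁ a₀) - (1 / 32 : ℝ) • (a₀ + μ₁ a₀) := ⟨_, rfl⟩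
  obtain ⟨σo, hσo⟩ : ∃ σo, σo = mul a₁ (μ₀ a₁) - (1 / 32 : ℝ) • (a₁ + μ₀ a₁) := ⟨_, rfl⟩
  obtain ⟨hLL, haσe, haσo, hW⟩ := core hV h₀ h₁ hn₀ hn₁ hL hLe hLo σ σe σo hσ hσe hσo
  obtain ⟨-, -, -, hW'⟩ := core hV h₁ h₀ hn₁ hn₀ (by rw [hsy, hL]) hLo hLe σ σo σe
    (by rw [hσ, hc, add_comm a₀]) hσo hσe
  subst hLL
  -- invariance of the three vectors
  obtain ⟨m0σ, -, -, -⟩ := first hV h₀ hn₀ hL
  obtain ⟨m1σ, -, -, -⟩ := first hV h₁ hn₁ (b := a₀) (t := L) (by rw [hsy, hL])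
  rw [hc a₁ a₀, add_comm a₁ a₀] at m1σ
  rw [← hσ] at m0σ m1σ
  obtain ⟨m0e, hame, -, -⟩ := first hV h₀ hn₀ hLe
  rw [← hσe] at m0e hame
  obtain ⟨m1o, -, -, -⟩ := first hV h₁ hn₁ hLo
  rw [← hσo] at m1o
  have m1e : μ₁ σe = σe := by
    rw [hσe, map_sub, map_smul, map_add, h₁.1, i1, hc (μ₁ a₀), add_comm (μ₁ a₀)]
  have m0o : μ₀ σo = σo := by
    rw [hσo, map_sub, map_smul, map_add, h₀.1, i0, hc (μ₀ a₁), add_comm (μ₀ a₁)]
  set m := μ₀ a₁ with hm
  set a2 := μ₁ a₀ with ha2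
  set m2 := μ₀ a2 with hm2
  set a3 := μ₁ m with ha3
  set α : ℝ := (32768 * L ^ 2 - 512 * L + 128 * Lo - 2) / 7 with hα
  set β : ℝ := 256 * L - 5 with hβ
  have hR : α • (a₀ - a₁) + β • (a₁ + m - a₀ - a2) + (a2 + m2 - a3 - m) + (32 : ℝ) • (σo - σe) = 0 := by
    rw [hW] at hW'
    rw [hα, hβ]
    linear_combination (norm := module) (196608 / 49 : ℝ) • hW'
  -- inner products
  have dσ : B a₀ σ = (31 * L - 1) / 32 := by
    rw [hσ]
    simp only [map_sub, map_smul, map_add, smul_eq_mul, hV.2.2.2.1 a₀ a₀, h₀.2.2.1.1.2.1, hL, hn₀]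
    ring
  have de : B a₀ σe = (31 * Lo - 1) / 32 := by
    rw [hσe]
    simp only [map_sub, map_smul, map_add, smul_eq_mul, hV.2.2.2.1 a₀ a₀, h₀.2.2.1.1.2.1, hLe, hn₀]
    ring
  have dbσ : B a₁ σ = (31 * L - 1) / 32 := by
    rw [hσ, hc]
    simp only [map_sub, map_smul, map_add, smul_eq_mul, hV.2.2.2.1 a₁ a₁, h₁.2.2.1.1.2.1, hsy a₁ a₀, hL, hn₁]
    ring
  have dbo : B a₁ σo = (31 * Lo - 1) / 32 := by
    rw [hσo]
    simp only [map_sub, map_smul, map_add, smul_eq_mul, hV.2.2.2.1 a₁ a₁, h₁.2.2.1.1.2.1, hLo, hn₁]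
    ring
  have p2σ : B a2 σ = (31 * L - 1) / 32 := by rw [ha2, ← m1σ, B1, dσ]
  have pmσ : B m σ = (31 * L - 1) / 32 := by rw [hm, ← m0σ, B0, dbσ]
  have q2b : B a2 a₁ = L := by rw [ha2, ← f1, B1, hL]
  have qm : B m a₀ = L := by rw [hm, ← f0, B0, hsy, hL]
  have dbe : B a₁ σe = (30 * L + Lo - 1) / 32 := by
    have e : B a₁ (mul a₀ a2) = B σ a2 + 1 / 32 * (B a₀ a2 + B a₁ a2) := by
      rw [hV.2.2.2.1, hc a₁ a₀, show mul a₀ a₁ = σ + (1 / 32 : ℝ) • (a₀ + a₁) by rw [hσ]; abel]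
      simp only [map_add, map_smul, LinearMap.add_apply, LinearMap.smul_apply, smul_eq_mul]
    rw [hσe]
    simp only [map_sub, map_smul, map_add, smul_eq_mul, e, hsy σ a2, p2σ, hLe, hsy a₁ a2, q2b, hsy a₁ a₀, hL]
    ring
  have dao : B a₀ σo = (30 * L + Lo - 1) / 32 := by
    have e : B a₀ (mul a₁ m) = B σ m + 1 / 32 * (B a₀ m + B a₁ m) := by
      rw [hV.2.2.2.1, show mul a₀ a₁ = σ + (1 / 32 : ℝ) • (a₀ + a₁) by rw [hσ]; abel]
      simp only [map_add, map_smul, LinearMap.add_apply, LinearMap.smul_apply, smul_eq_mul]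
    rw [hσo]
    simp only [map_sub, map_smul, map_add, smul_eq_mul, e, hsy σ m, pmσ, hLo, hsy a₀ m, qm, hL]
    ring
  have p2e : B a2 σe = (31 * Lo - 1) / 32 := by rw [ha2, ← m1e, B1, de]
  have p2o : B a2 σo = (30 * L + Lo - 1) / 32 := by rw [ha2, ← m1o, B1, dao]
  have pme : B m σe = (30 * L + Lo - 1) / 32 := by rw [hm, ← m0e, B0, dbe]
  have pmo : B m σo = (31 * Lo - 1) / 32 := by rw [hm, ← m0o, B0, dbo]
  have p3σ : B a3 σ = (31 * L - 1) / 32 := by rw [ha3, ← m1σ, B1, pmσ]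
  have p3e : B a3 σe = (30 * L + Lo - 1) / 32 := by rw [ha3, ← m1e, B1, pme]
  have p3o : B a3 σo = (31 * Lo - 1) / 32 := by rw [ha3, ← m1o, B1, pmo]
  obtain ⟨l3, hl3⟩ : ∃ l, B a₀ a3 = l := ⟨_, rfl⟩
  obtain ⟨l4, hl4⟩ : ∃ l, B a2 m2 = l := ⟨_, rfl⟩
  obtain ⟨l4', hl4'⟩ : ∃ l, B m a3 = l := ⟨_, rfl⟩
  obtain ⟨l5, hl5⟩ : ∃ l, B m2 a3 = l := ⟨_, rfl⟩
  have q2a : B a2 a₀ = Lo := by rw [hsy, hLe]
  have q2m : B a2 m = l3 := by rw [ha2, ← i1 m, B1, ← ha3, hl3]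
  have q22 : B a2 a2 = 1 := by rw [ha2, B1, hn₀]
  have q23 : B a2 a3 = L := by rw [ha2, ha3, B1, hsy, qm]
  have q0m2 : B a₀ m2 = Lo := by rw [hm2, ← f0, B0, hLe]
  have qmb : B m a₁ = Lo := by rw [hsy, hLo]
  have qmm : B m m = 1 := by rw [hm, B0, hn₁]
  have qmm2 : B m m2 = L := by rw [hm, hm2, B0, hsy, q2b]
  have q3b : B a3 a₁ = Lo := by rw [ha3, ← f1, B1, qmb]
  have q33 : B a3 a3 = 1 := by rw [ha3, B1, qmm]
  have q3a : B a3 a₀ = l3 := by rw [hsy, hl3]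
  have q3m : B a3 m = l4' := by rw [hsy, hl4']
  have q32 : B a3 a2 = L := by rw [hsy, q23]
  have q3m2 : B a3 m2 = l5 := by rw [hsy, hl5]
  have e3 : l3 = α * (1 - L) + β * (2 * L - 1 - Lo) - 28 * Lo + 29 * L := by
    have h := congrArg (B a₀) hR
    simp only [map_add, map_sub, map_smul, map_zero, smul_eq_mul, hn₀, hL, hsy a₀ m, qm, hLe, q0m2, hl3,
      dao, de] at h
    linear_combination -h
  have e4 : l4 = -(α * (Lo - L) + β * (L + l3 - Lo - 1) + (1 - L - l3) + 30 * (L - Lo)) := by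
    have h := congrArg (B a2) hR
    simp only [map_add, map_sub, map_smul, map_zero, smul_eq_mul, q2a, q2b, q2m, q22, hl4, q23, p2o, p2e] at h
    linear_combination h
  have e4' : l4' = α * (L - Lo) + β * (Lo + 1 - L - l3) + (l3 + L - 1) + 30 * (Lo - L) := by
    have h := congrArg (B m) hR
    simp only [map_add, map_sub, map_smul, map_zero, smul_eq_mul, qm, qmb, qmm, hsy m a2, q2m, qmm2, hl4',
      pmo, pme] at h
    linear_combination -h
  have e5 : l5 = -(α * (l3 - Lo) + β * (Lo + l4' - l3 - L) + (L - 1 - l4') + 30 * (Lo - L)) := by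
    have h := congrArg (B a3) hR
    simp only [map_add, map_sub, map_smul, map_zero, smul_eq_mul, q3a, q3b, q3m, q32, q3m2, q33, p3o, p3e] at h
    linear_combination h
  have tae : mul a₀ a2 = σe + (1 / 32 : ℝ) • (a₀ + a2) := by rw [hσe]; abel
  have hse : B σe σe = (3 / 4 * Lo - 25 / 1024) * Lo + 7 / 2048 * (1 + l4) + 5 / 32 * ((31 * Lo - 1) / 32) := by
    conv_lhs => arg 2; rw [hσe]
    simp only [map_sub, map_smul, map_add, smul_eq_mul]
    rw [hV.2.2.2.1 σe a₀ a2, hc σe a₀, haσe]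
    simp only [map_add, map_smul, LinearMap.add_apply, LinearMap.smul_apply, smul_eq_mul, hLe, q22,
      hsy m2 a2, hl4, hsy σe a2, p2e, hsy σe a₀, de]
    ring
  have hso : B σe σo = (5 / 3 * L - 32 / 3 * L ^ 2 - 127 / 3072 - Lo / 24) * Lo
      + (-(19 / 3072) + L / 6) * (L + l3) + (-(19 / 48) + 32 / 3 * L) * ((31 * L - 1) / 32)
      + 7 / 96 * ((31 * Lo - 1) / 32) + 7 / 6144 * (1 + l4) - 1 / 16 * ((30 * L + Lo - 1) / 32) := by
    rw [hsy σe σo]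
    conv_lhs => arg 2; rw [hσe]
    simp only [map_sub, map_smul, map_add, smul_eq_mul]
    rw [hV.2.2.2.1 σo a₀ a2, hc σo a₀, haσo]
    simp only [map_add, map_smul, LinearMap.add_apply, LinearMap.smul_apply, smul_eq_mul, hLe, q22,
      hsy a₁ a2, q2b, hsy m a2, q2m, hsy σ a2, p2σ, hsy m2 a2, hl4, hsy σe a2, p2e, hsy σo a2, p2o,
      hsy σo a₀, dao]
    ring
  have hF : -(3336 / 7) * L * Lo - 15360 / 7 * L ^ 2 * Lo + 501 / 56 * Lo - 48 / 7 * Lo ^ 2 + 1800 / 7 * L - 117 / 56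
      - 69120 / 7 * L ^ 2 + 872448 / 7 * L ^ 3 - 786432 / 7 * L ^ 4 = 0 := by
    have h := congrArg (B σe) hR
    simp only [map_add, map_sub, map_smul, map_zero, smul_eq_mul, hsy σe a₀, de, hsy σe a₁, dbe, hsy σe m, pme,
      hsy σe a2, p2e, hsy σe m2, hse, hso,
      show B m2 σe = (31 * Lo - 1) / 32 by rw [hm2, ← m0e, B0, p2e], hsy σe a3, p3e] at h
    rw [e4, e3, hα, hβ] at h
    linear_combination h
  have hQ : 92160 / 7 * L ^ 2 + 216 / 7 * L + 8703 / 196 * Lo - 351 / 196 - 33103872 / 49 * L ^ 3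
      - 124392 / 49 * L * Lo + 453771264 / 49 * L ^ 4 - 402653184 / 49 * L ^ 5 + 1195008 / 49 * L ^ 2 * Lo
      - 19660800 / 49 * L ^ 3 * Lo - 2088 / 49 * Lo ^ 2 - 70656 / 49 * L * Lo ^ 2 = 0 := by
    have tab : mul a₀ a₁ = σ + (1 / 32 : ℝ) • (a₀ + a₁) := by rw [hσ]; abel
    have tam : mul a₀ m = σ + (1 / 32 : ℝ) • (a₀ + m) := by
      rw [← (first hV h₀ hn₀ hL).2.1.trans hσ.symm]; abel
    have tam2 : mul a₀ m2 = σe + (1 / 32 : ℝ) • (a₀ + m2) := by rw [← hame]; abel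
    have t33 : B a3 (mul a₀ a3) = l3 := by
      rw [hc a₀ a3, hV.2.2.2.1, show mul a3 a3 = a3 by rw [ha3, ← h₁.1, hm, ← h₀.1, h₁.2.2.1.1.2.1], q3a]
    have h := congrArg (fun x => B a3 (mul a₀ x)) hR
    simp only [map_add, map_sub, map_smul, map_zero, smul_eq_mul, h₀.2.2.1.1.2.1, tab, tam, tae, tam2, haσe, haσo,
      t33, q3a, q3b, q3m, q32, q3m2, p3σ, p3e, p3o] at h
    rw [e5, e4', e3, hα, hβ] at h
    linear_combination -h
  -- conclusion
  have hg : ∀ g g' : V ≃ₗ[ℝ] V, (∀ u v, g (mul u v) = mul (g u) (g v)) → (∀ u v, g' (mul u v) = mul (g' u) (g' v)) →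
      ∀ u v, (g * g') (mul u v) = mul ((g * g') u) ((g * g') v) := fun g g' h h' u v => by
    show g (g' (mul u v)) = mul (g (g' u)) (g (g' v))
    rw [h', h]
  have j0 : μ₀ * μ₀ = 1 := mul_invol h₀
  have j1 : μ₁ * μ₁ = 1 := mul_invol h₁
  have v0 : μ₀⁻¹ = μ₀ := inv_eq_of_mul_eq_one_right j0
  have v1 : μ₁⁻¹ = μ₁ := inv_eq_of_mul_eq_one_right j1
  have c0 : ∀ x : V ≃ₗ[ℝ] V, μ₀ * (μ₀ * x) = x := fun x => by rw [← mul_assoc, j0, one_mul]
  have c1 : ∀ x : V ≃ₗ[ℝ] V, μ₁ * (μ₁ * x) = x := fun x => by rw [← mul_assoc, j1, one_mul]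
  clear v0 v1
  have order2 : Lo = 1 → (μ₀ * μ₁) ^ 2 = 1 := fun h' => by
    have e : a2 = a₀ := (eq_of_one hV hn₀ q22 (by rw [hLe, h'])).symm
    have k := transport h₀ h₀ μ₁ h₁.1 e
    rw [show (μ₀ * μ₁) ^ 2 = μ₀ * (μ₁ * μ₀) * μ₁ by simp only [pow_succ, pow_zero, one_mul, mul_assoc], k]
    simp only [mul_assoc, c0, c1, j0, j1, one_mul, mul_one]
  have order3 : l3 = 1 → (μ₀ * μ₁) ^ 3 = 1 := fun h' => by
    have e : a3 = a₀ := (eq_of_one hV hn₀ q33 (by rw [hl3, h'])).symm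
    have k := transport h₁ h₀ (μ₁ * μ₀) (hg _ _ h₁.1 h₀.1) e
    rw [show (μ₀ * μ₁) ^ 3 = μ₀ * (μ₁ * μ₀ * μ₁) * μ₀ * μ₁ by simp only [pow_succ, pow_zero, one_mul, mul_assoc], k]
    simp only [mul_assoc, c0, c1, j0, j1, one_mul, mul_one]
  have order4 : l4 = 1 → (μ₀ * μ₁) ^ 4 = 1 := fun h' => by
    have e : m2 = a2 := (eq_of_one hV q22 (by rw [hm2, B0, q22]) (by rw [hl4, h'])).symm
    have e' : (μ₁ * μ₀ * μ₁) a₀ = a₀ := by
      show μ₁ (μ₀ (μ₁ a₀)) = a₀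
      rw [← ha2, ← hm2, e, ha2, i1]
    have k := transport h₀ h₀ (μ₁ * μ₀ * μ₁) (hg _ _ (hg _ _ h₁.1 h₀.1) h₁.1) e'
    rw [show (μ₀ * μ₁) ^ 4 = μ₀ * (μ₁ * μ₀ * μ₁ * μ₀) * (μ₁ * μ₀ * μ₁) by
      simp only [pow_succ, pow_zero, one_mul, mul_assoc], k]
    simp only [mul_assoc, c0, c1, j0, j1, one_mul, mul_one]
  have order5 : l5 = 1 → (μ₀ * μ₁) ^ 5 = 1 := fun h' => by
    have hm22 : B m2 m2 = 1 := by rw [hm2, B0, q22]
    have e : m2 = a3 := eq_of_one hV hm22 q33 (by rw [hl5, h'])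
    have e' : (μ₁ * μ₀ * μ₁ * μ₀) a₁ = a₀ := by
      show μ₁ (μ₀ (μ₁ (μ₀ a₁))) = a₀
      rw [← hm, ← ha3, ← e, hm2, i0, ha2, i1]
    have k := transport h₁ h₀ (μ₁ * μ₀ * μ₁ * μ₀) (hg _ _ (hg _ _ (hg _ _ h₁.1 h₀.1) h₁.1) h₀.1) e'
    rw [show (μ₀ * μ₁) ^ 5 = μ₀ * (μ₁ * μ₀ * μ₁ * μ₀ * μ₁) * μ₀ * μ₁ * μ₀ * μ₁ by
      simp only [pow_succ, pow_zero, one_mul, mul_assoc], k]
    simp only [mul_assoc, c0, c1, j0, j1, one_mul, mul_one]
  have order6 : α = 1 → β = 0 → (μ₀ * μ₁) ^ 6 = 1 := fun hα1 hβ0 => by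
    rw [hα1, hβ0] at hR
    have hR' := congrArg μ₀ hR
    simp only [map_add, map_sub, map_smul, map_zero, f0, ← hm, ← hm2, m0e, m0o,
      show μ₀ m = a₁ from i0 a₁, show μ₀ m2 = a2 from i0 a2] at hR'
    have e : μ₀ a3 = a3 := by linear_combination (norm := module) hR - hR'
    have e' : (μ₀ * μ₁ * μ₀ * μ₁ * μ₀) a₁ = a₁ := by
      show μ₀ (μ₁ (μ₀ (μ₁ (μ₀ a₁)))) = a₁
      rw [← hm, ← ha3, e, ha3, i1, hm, i0]
    have k := transport h₁ h₁ (μ₀ * μ₁ * μ₀ * μ₁ * μ₀)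
      (hg _ _ (hg _ _ (hg _ _ (hg _ _ h₀.1 h₁.1) h₀.1) h₁.1) h₀.1) e'
    rw [show (μ₀ * μ₁) ^ 6 = (μ₀ * μ₁ * μ₀ * μ₁ * μ₀ * μ₁) * (μ₀ * μ₁ * μ₀ * μ₁ * μ₀ * μ₁) by
      simp only [pow_succ, pow_zero, one_mul, mul_assoc]]
    nth_rewrite 1 [k]
    simp only [mul_assoc, c0, c1, j0, j1, one_mul, mul_one]
  rcases nine hF hQ with h | ⟨h, h'⟩ | ⟨h, h'⟩ | ⟨h, h'⟩ | ⟨h, h'⟩ | ⟨h, h'⟩ | ⟨h, h'⟩ | ⟨h, h'⟩ | ⟨h, h'⟩
  · -- 1A
    have e : a₀ = a₁ := eq_of_one hV hn₀ hn₁ (by rw [hL, h])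
    have k := transport h₀ h₁ 1 (fun _ _ => rfl) (by simpa using e)
    rw [one_mul, mul_one] at k
    exact ⟨1, le_rfl, by norm_num, by rw [pow_one, k, j1]⟩
  · exact ⟨2, by norm_num, by norm_num, order2 h'⟩
  · exact ⟨2, by norm_num, by norm_num, order2 h'⟩
  · exact ⟨3, by norm_num, by norm_num, order3 (by rw [e3, hα, hβ, h, h']; norm_num)⟩
  · exact ⟨3, by norm_num, by norm_num, order3 (by rw [e3, hα, hβ, h, h']; norm_num)⟩
  · exact ⟨4, by norm_num, by norm_num, order4 (by rw [e4, e3, hα, hβ, h, h']; norm_num)⟩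
  · exact ⟨4, by norm_num, by norm_num, order4 (by rw [e4, e3, hα, hβ, h, h']; norm_num)⟩
  · exact ⟨5, by norm_num, by norm_num, order5 (by rw [e5, e4', e3, hα, hβ, h, h']; norm_num)⟩
  · exact ⟨6, by norm_num, le_rfl, order6 (by rw [hα, h, h']; norm_num) (by rw [hβ, h]; norm_num)⟩

end Cfsg.Agent.S5544
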