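import Cfsg.Statements.S5545

set_option autoImplicit false
open Cfsg

namespace Cfsg.Agent.S5545

open Cfsg.Axial

variable {V : Type*} [AddCommGroup V] [Module ℝ V]
  {mul : V →ₗ[ℝ] V →ₗ[ℝ] V} {B : LinearMap.BilinForm ℝ V}

theorem mem_eigen {a : V} {c : ℝ} {v : V} : v ∈ eigen mul a c ↔ mul a v = c • v :=
  Module.End.mem_eigenspace_iff

theorem eigenSum_insert (a : V) (c : ℝ) (S : Set ℝ) :
    eigenSum mul a (insert c S) = eigen mul a c ⊔ eigenSum mul a S := iSup_insert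

theorem eigenSum_singleton (a : V) (c : ℝ) : eigenSum mul a ({c} : Set ℝ) = eigen mul a c :=
  iSup_singleton

/-- Eigenvectors for the eigenvalues `1`, `0`, `1/4` are independent. -/
theorem split {a x y z : V} (hx : x ∈ eigen mul a 1) (hy : y ∈ eigen mul a 0)
    (hz : z ∈ eigen mul a (1 / 4)) (h : x + y + z = 0) : x = 0 ∧ y = 0 ∧ z = 0 := by
  rw [mem_eigen] at hx hy hz
  have h1 := congrArg (mul a) h
  simp only [map_add, map_zero, hx, hy, hz, one_smul, zero_smul, add_zero] at h1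
  have h2 := congrArg (mul a) h1
  simp only [map_add, map_zero, map_smul, hx, hz, one_smul] at h2
  have ez : z = 0 := by
    have e : (3 / 16 : ℝ) • z = (x + (1 / 4 : ℝ) • z) - (x + (1 / 4 : ℝ) • (1 / 4 : ℝ) • z) := by
      module
    rw [h1, h2, sub_zero] at e
    exact (smul_eq_zero.mp e).resolve_left (by norm_num)
  rw [ez, smul_zero, add_zero] at h1
  rw [ez, h1, zero_add, add_zero] at h
  exact ⟨h1, h, ez⟩

/-- The image of a Majorana pair under a symmetry commuting with its involution. -/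
theorem move {μ ν : V ≃ₗ[ℝ] V} {a : V} (hμ : IsMajoranaPair mul B μ a)
    (hν : ∀ u v : V, ν (mul u v) = mul (ν u) (ν v)) (hc : ν * μ = μ * ν) :
    IsMajoranaPair mul B μ (ν a) := by
  obtain ⟨h1, h2, ⟨⟨hne, hid, htop, hlaw⟩, hprim⟩, hfix, hneg⟩ := hμ
  have he : ∀ c : ℝ, eigen mul (ν a) c = (eigen mul a c).map (ν : V →ₗ[ℝ] V) := fun c => by
    ext x
    rw [mem_eigen, Submodule.mem_map]
    constructor
    · intro hx
      refine ⟨ν.symm x, mem_eigen.mpr (ν.injective ?_), ν.apply_symm_apply x⟩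
      rw [hν, map_smul, ν.apply_symm_apply, hx]
    · rintro ⟨y, hy, rfl⟩
      rw [mem_eigen] at hy
      show mul (ν a) (ν y) = c • ν y
      rw [← hν, hy, map_smul]
  have hs : ∀ S : Set ℝ, eigenSum mul (ν a) S = (eigenSum mul a S).map (ν : V →ₗ[ℝ] V) := fun S => by
    simp only [eigenSum, he, Submodule.map_iSup]
  have hcx : ∀ y, μ (ν y) = ν (μ y) := fun y => (LinearEquiv.congr_fun hc y).symm
  refine ⟨h1, h2, ⟨⟨fun h => hne (ν.map_eq_zero_iff.mp h), by rw [← hν, hid], ?_, ?_⟩, ?_⟩, ?_, ?_⟩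
  · rw [hs, htop, Submodule.map_top]
    exact LinearEquiv.range ν
  · intro c hc' d hd u hu v hv
    rw [he] at hu hv
    obtain ⟨u, hu, rfl⟩ := hu
    obtain ⟨v, hv, rfl⟩ := hv
    rw [hs]
    exact ⟨mul u v, hlaw c hc' d hd u hu v hv, hν u v⟩
  · rw [he, hprim, Submodule.map_span, Set.image_singleton]
    rfl
  · intro x hx
    rw [hs] at hx
    obtain ⟨y, hy, rfl⟩ := hx
    show μ (ν y) = ν y
    rw [hcx]
    exact congrArg ν (hfix y hy)
  · intro x hx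
    rw [he] at hx
    obtain ⟨y, hy, rfl⟩ := hx
    show μ (ν y) = -ν y
    rw [hcx, ← map_neg]
    exact congrArg ν (hneg y hy)

/-- The shape of a vector fixed by the involution of `a`. -/
theorem decomp (hV : IsMajoranaAmbient mul B) {μ : V ≃ₗ[ℝ] V} {a b : V}
    (hμ : IsMajoranaPair mul B μ a) (hn : B a a = 1) (hb : μ b = b) :
    ∃ u ∈ eigen mul a 0, ∃ v ∈ eigen mul a (1 / 4),
      b = B a b • a + u + v ∧ mul a b = B a b • a + (1 / 4 : ℝ) • v ∧
      mul a (mul a b) = (3 / 4 * B a b) • a + (1 / 4 : ℝ) • mul a b := by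
  obtain ⟨-, hsym, -, hassoc, -⟩ := hV
  obtain ⟨-, -, ⟨⟨-, hid, htop, -⟩, hprim⟩, hfix, hneg⟩ := hμ
  have hb' : b ∈ eigenSum mul a majoranaSpectrum := htop ▸ Submodule.mem_top
  rw [majoranaSpectrum, eigenSum_insert, eigenSum_insert, eigenSum_insert, eigenSum_singleton,
    hprim] at hb'
  obtain ⟨x, hx, y1, hy1, hb1⟩ := Submodule.mem_sup.mp hb'
  obtain ⟨u, hu, y2, hy2, hb2⟩ := Submodule.mem_sup.mp hy1
  obtain ⟨v, hv, w, hw, hb3⟩ := Submodule.mem_sup.mp hy2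
  obtain rfl : b = x + (u + (v + w)) := by rw [hb3, hb2, hb1]
  clear hb1 hb2 hb3
  obtain ⟨t, rfl⟩ := Submodule.mem_span_singleton.mp hx
  have hx' : t • a ∈ eigen mul a 1 := hprim ▸ hx
  have hw0 : w = 0 := by
    have e1 : μ (t • a + u + v) = t • a + u + v := hfix _ (by
      rw [eigenSum_insert, eigenSum_insert, eigenSum_singleton]
      exact add_mem (add_mem (Submodule.mem_sup_left hx')
        (Submodule.mem_sup_right (Submodule.mem_sup_left hu)))
        (Submodule.mem_sup_right (Submodule.mem_sup_right hv)))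
    have e2 : μ w = -w := hneg w hw
    have e : (2 : ℝ) • w = (t • a + (u + (v + w))) - μ (t • a + (u + (v + w))) := by
      rw [show t • a + (u + (v + w)) = t • a + u + v + w by abel, map_add, e1, e2]
      module
    rw [hb, sub_self] at e
    exact (smul_eq_zero.mp e).resolve_left (by norm_num)
  subst hw0
  rw [mem_eigen] at hu hv
  have ho : ∀ (z : V) (k : ℝ), mul a z = k • z → k ≠ 1 → B a z = 0 := by
    intro z k hz hk
    have e := hassoc a a z
    rw [hid, hz, map_smul, smul_eq_mul] at e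
    have e2 : (k - 1) * B a z = 0 := by linear_combination e
    exact (mul_eq_zero.mp e2).resolve_left (sub_ne_zero.mpr hk)
  have ht : B a (t • a + (u + (v + 0))) = t := by
    simp only [map_add, map_smul, map_zero, hn, ho u 0 hu (by norm_num),
      ho v (1 / 4) hv (by norm_num), smul_eq_mul, mul_one, add_zero]
  have hab : mul a (t • a + (u + (v + 0))) = t • a + (1 / 4 : ℝ) • v := by
    simp only [map_add, map_smul, map_zero, hid, hu, hv, zero_smul, zero_add, add_zero]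
  refine ⟨u, mem_eigen.mpr hu, v, mem_eigen.mpr hv, ?_, ?_, ?_⟩
  · rw [ht]
    abel
  · rw [ht, hab]
  · rw [ht, hab]
    simp only [map_add, map_smul, hid, hv]
    module

/-- Two axial vectors of commuting involutions. -/
theorem main (hV : IsMajoranaAmbient mul B) {μ₀ μ₁ : V ≃ₗ[ℝ] V} {a₀ a₁ : V}
    (h₀ : IsMajoranaPair mul B μ₀ a₀) (h₁ : IsMajoranaPair mul B μ₁ a₁)
    (hu₀ : ∀ a : V, IsMajoranaPair mul B μ₀ a → a = a₀)
    (hu₁ : ∀ a : V, IsMajoranaPair mul B μ₁ a → a = a₁) (hn₀ : B a₀ a₀ = 1) (hn₁ : B a₁ a₁ = 1)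
    (hc : μ₀ * μ₁ = μ₁ * μ₀) (hne : a₀ ≠ a₁) :
    (B a₀ a₁ = 0 ∧ mul a₀ a₁ = 0) ∨ (B a₀ a₁ = 1 / 8 ∧
      mul (mul a₀ a₁) (mul a₀ a₁) = (3 / 128 : ℝ) • (a₀ + a₁) - (1 / 32 : ℝ) • mul a₀ a₁ ∧
      mul a₀ (mul a₀ a₁) = (3 / 32 : ℝ) • a₀ + (1 / 4 : ℝ) • mul a₀ a₁ ∧
      mul a₁ (mul a₀ a₁) = (3 / 32 : ℝ) • a₁ + (1 / 4 : ℝ) • mul a₀ a₁) := by
  have hcm := hV.1
  have hsym := hV.2.1
  have hid₀ : mul a₀ a₀ = a₀ := h₀.2.2.1.1.2.1
  have hid₁ : mul a₁ a₁ = a₁ := h₁.2.2.1.1.2.1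
  have hlaw := h₀.2.2.1.1.2.2.2
  have hprim : eigen mul a₀ 1 = Submodule.span ℝ {a₀} := h₀.2.2.1.2
  obtain ⟨u, hu, v, hv, hd, hp, hp2⟩ := decomp hV h₀ hn₀ (b := a₁)
    (hu₁ _ (move h₁ h₀.1 hc))
  obtain ⟨u', -, v', -, hd', hp', hq2⟩ := decomp hV h₁ hn₁ (b := a₀)
    (hu₀ _ (move h₀ h₁.1 hc.symm))
  rw [hsym a₁ a₀, hcm a₁ a₀] at hq2
  generalize hα : B a₀ a₁ = α at *
  have hu' := mem_eigen.mp hu
  have hv' := mem_eigen.mp hv
  rw [zero_smul] at hu'
  -- the products of eigenvectors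
  have huu : mul u u ∈ eigen mul a₀ 0 := by
    have h := hlaw 0 (by simp [majoranaSpectrum]) 0 (by simp [majoranaSpectrum]) u hu u hu
    have e : monsterLaw (1 / 4 : ℝ) (1 / 32) 0 0 = {0} := by norm_num [monsterLaw]
    rwa [e, eigenSum_singleton] at h
  have huv : mul u v ∈ eigen mul a₀ (1 / 4) := by
    have h := hlaw 0 (by simp [majoranaSpectrum]) (1 / 4) (by simp [majoranaSpectrum]) u hu v hv
    have e : monsterLaw (1 / 4 : ℝ) (1 / 32) 0 (1 / 4) = {1 / 4} := by norm_num [monsterLaw]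
    rwa [e, eigenSum_singleton] at h
  obtain ⟨c, z, hz, hvv⟩ : ∃ c : ℝ, ∃ z ∈ eigen mul a₀ 0, mul v v = c • a₀ + z := by
    have h := hlaw (1 / 4) (by simp [majoranaSpectrum]) (1 / 4) (by simp [majoranaSpectrum]) v hv v hv
    have e : monsterLaw (1 / 4 : ℝ) (1 / 32) (1 / 4) (1 / 4) = {1, 0} := by norm_num [monsterLaw]
    rw [e, eigenSum_insert, eigenSum_singleton, hprim] at h
    obtain ⟨x, hx, z, hz, hxz⟩ := Submodule.mem_sup.mp h
    obtain ⟨c, rfl⟩ := Submodule.mem_span_singleton.mp hx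
    exact ⟨c, z, hz, hxz.symm⟩
  have h1mem : ∀ k : ℝ, k • a₀ ∈ eigen mul a₀ 1 := fun k =>
    mem_eigen.mpr (by rw [map_smul, hid₀, one_smul])
  have hsq : mul a₁ a₁ = (α ^ 2 + c) • a₀ + (mul u u + z) + ((α / 2) • v + (2 : ℝ) • mul u v) := by
    rw [hd]
    simp only [map_add, map_smul, LinearMap.add_apply, LinearMap.smul_apply, hid₀, hu', hv',
      hcm u a₀, hcm v a₀, hcm v u, hvv, smul_zero, smul_smul]
    module
  rw [hid₁, hd] at hsq
  obtain ⟨-, -, e1q⟩ := split (a := a₀) (h1mem ((α ^ 2 + c) - α)) (sub_mem (add_mem huu hz) hu)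
    (sub_mem (add_mem (Submodule.smul_mem _ (α / 2) hv) (Submodule.smul_mem _ 2 huv)) hv)
    (by
      have e := sub_eq_zero.mpr hsq.symm
      rw [← e]
      module)
  have hprod : mul a₁ (mul a₀ a₁) =
      (α ^ 2 + c / 4) • a₀ + (1 / 4 : ℝ) • z + ((5 * α / 16) • v + (1 / 4 : ℝ) • mul u v) := by
    rw [hp, hd]
    simp only [map_add, map_smul, LinearMap.add_apply, LinearMap.smul_apply, hid₀, hu', hv',
      hcm u a₀, hcm v a₀, hcm v u, hvv, smul_zero, smul_smul]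
    module
  rw [hq2, hp, hd] at hprod
  obtain ⟨e21, e20, e2q⟩ := split (a := a₀) (h1mem ((α ^ 2 + c / 4) - (3 / 4 * α * α + α / 4)))
    (sub_mem (Submodule.smul_mem _ (1 / 4) hz) (Submodule.smul_mem _ (3 / 4 * α) hu))
    (sub_mem (add_mem (Submodule.smul_mem _ (5 * α / 16) hv) (Submodule.smul_mem _ (1 / 4) huv))
      (Submodule.smul_mem _ (3 / 4 * α + 1 / 16) hv))
    (by
      have e := sub_eq_zero.mpr hprod.symm
      rw [← e]
      module)
  have hkey : (1 - 8 * α) • v = 0 := by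
    linear_combination (norm := module) (16 : ℝ) • e2q - (2 : ℝ) • e1q
  have ha₀ : a₀ ≠ 0 := h₀.2.2.1.1.1
  by_cases hv0 : v = 0
  · left
    have hpz : mul a₀ a₁ = α • a₀ := by rw [hp, hv0, smul_zero, add_zero]
    have hα0 : α = 0 := by
      by_contra h0
      have e3 : (3 / 4 * α) • a₁ = (α ^ 2 - α / 4) • a₀ := by
        have e4 : mul a₁ (mul a₀ a₁) = α ^ 2 • a₀ := by
          rw [hpz, map_smul, hcm a₁ a₀, hpz, smul_smul, sq]
        rw [hq2, hpz] at e4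
        linear_combination (norm := module) e4
      obtain ⟨s, hs⟩ : ∃ s : ℝ, a₁ = s • a₀ := ⟨(3 / 4 * α)⁻¹ * (α ^ 2 - α / 4), by
        rw [← smul_smul, ← e3, inv_smul_smul₀ (mul_ne_zero (by norm_num) h0)]⟩
      have e5 : (s * s - s) • a₀ = 0 := by
        have e6 := hid₁
        rw [hs] at e6
        simp only [map_smul, LinearMap.smul_apply, hid₀, smul_smul] at e6
        linear_combination (norm := module) e6
      have hs' : s * (s - 1) = 0 := by
        have := (smul_eq_zero.mp e5).resolve_right ha₀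
        linear_combination this
      rcases mul_eq_zero.mp hs' with h | h
      · exact h₁.2.2.1.1.1 (by rw [hs, h, zero_smul])
      · exact hne (by rw [hs, sub_eq_zero.mp h, one_smul])
    exact ⟨hα0, by rw [hpz, hα0, zero_smul]⟩
  right
  have hα8 : α = 1 / 8 := by
    have := (smul_eq_zero.mp hkey).resolve_right hv0
    linarith
  subst hα8
  have hc8 : c = 7 / 64 := by
    have := (smul_eq_zero.mp e21).resolve_right ha₀
    linarith
  refine ⟨rfl, ?_, ?_, ?_⟩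
  · have hz8 : z = (3 / 8 : ℝ) • u := by linear_combination (norm := module) (4 : ℝ) • e20
    have hpp : mul (mul a₀ a₁) (mul a₀ a₁) =
        (23 / 1024 : ℝ) • a₀ + (1 / 64 : ℝ) • v + (3 / 128 : ℝ) • u := by
      rw [hp]
      simp only [map_add, map_smul, LinearMap.add_apply, LinearMap.smul_apply, hid₀, hv',
        hcm v a₀, hvv, hc8, hz8]
      module
    rw [hpp, hp, hd]
    module
  · rw [hp2]; norm_num
  · rw [hq2]; norm_num

/-- Let V be a finite-dimensional real vector space with a commutative bilinear product and a positive-definite symmetric bilinear form that associates with the product and satisfies the Norton inequality (the Majorana setting of the definitions). Let μ₀, μ₁ be commuting Majorana involutions with distinct axial vectors a₀ ≠ a₁ of squared length 1, each involution having no other axial vector. Then either a₀ and a₁ are orthogonal with a₀ ∘ a₁ = 0 (type 2B), or their inner product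 is 1/8 and, with a₂ = a₀ + a₁ − 8 a₀ ∘ a₁, the vector a₂ is an idempotent and a₀ ∘ a₂ = (1/8)(a₀ + a₂ − a₁), a₁ ∘ a₂ = (1/8)(a₁ + a₂ − a₀) (type 2A: the three idempotents span a subalgebra with aᵢ ∘ aⱼ = (1/8)(aᵢ + aⱼ − aₖ)). -/
theorem result {V : Type*} [AddCommGroup V] [Module ℝ V] [FiniteDimensional ℝ V] (mul : V →ₗ[ℝ] V →ₗ[ℝ] V) (B : LinearMap.BilinForm ℝ V) (hV : Cfsg.Axial.IsMajoranaAmbient mul B) (μ₀ μ₁ : V ≃ₗ[ℝ] V) (a₀ a₁ : V) (h₀ : Cfsg.Axial.IsMajoranaPair mul B μ₀ a₀) (h₁ : Cfsg.Axial.IsMajoranaPair mul B μ₁ a₁) (hu₀ : ∀ a : V, Cfsg.Axial.IsMajoranaPair mul B μ₀ a → a = a₀) (hu₁ : ∀ a : V, Cfsg.Axial.IsMajoranaPair mul B μ₁ a → a = a₁) (hn₀ : B a₀ a₀ = 1) (hn₁ : B a₁ a₁ = 1) (hc : μ₀ * μ₁ = μ₁ * μ₀) (hne : a₀ ≠ a₁) : (B a₀ a₁ = 0 ∧ mul a₀ a₁ = 0) ∨ (B a₀ a₁ = 1 / 8 ∧ mul (a₀ + a₁ - (8 : ℝ) • mul a₀ a₁) (a₀ + a₁ - (8 : ℝ) • mul a₀ a₁) = a₀ + a₁ - (8 : ℝ) • mul a₀ a₁ ∧ mul a₀ (a₀ + a₁ - (8 : ℝ) • mul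 a₀ a₁) = (1 / 8 : ℝ) • (a₀ + (a₀ + a₁ - (8 : ℝ) • mul a₀ a₁) - a₁) ∧ mul a₁ (a₀ + a₁ - (8 : ℝ) • mul a₀ a₁) = (1 / 8 : ℝ) • (a₁ + (a₀ + a₁ - (8 : ℝ) • mul a₀ a₁) - a₀)) := by
  rcases main hV h₀ h₁ hu₀ hu₁ hn₀ hn₁ hc hne with h | ⟨hα, hpp, h0p, h1p⟩
  · exact Or.inl h
  refine Or.inr ⟨hα, ?_, ?_, ?_⟩
  · have hid₀ : mul a₀ a₀ = a₀ := h₀.2.2.1.1.2.1
    have hid₁ : mul a₁ a₁ = a₁ := h₁.2.2.1.1.2.1
    simp only [map_add, map_sub, map_smul, LinearMap.add_apply, LinearMap.sub_apply,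
      LinearMap.smul_apply, hid₀, hid₁, hpp, h0p, h1p, hV.1 a₁ a₀, hV.1 (mul a₀ a₁) a₀,
      hV.1 (mul a₀ a₁) a₁]
    module
  · rw [map_sub, map_add, map_smul, h0p, h₀.2.2.1.1.2.1]
    module
  · rw [map_sub, map_add, map_smul, h1p, h₁.2.2.1.1.2.1, hV.1 a₁ a₀]
    module

end Cfsg.Agent.S5545
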