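import Cfsg.Statements.S5548
import Cfsg.Agent.Lib.H3.GolayModule
import Cfsg.Agent.S5393

set_option linter.style.haveILetI false

set_option autoImplicit false
open Cfsg

namespace Cfsg.Agent.S5548

open Cfsg.Lib.Concrete Cfsg.Lib.H3.Golay
open scoped Pointwise symmDiff

theorem one_mem : (fun _ : GolayPt => (1 : ZMod 2)) ∈ golayCode := Submodule.subset_span (Or.inr rfl)

theorem sum_eq_card (w : GolayPt → ZMod 2) : ∑ p, w p = ((support₂ w).card : ZMod 2) := by
  have : ∀ p, w p = if w p ≠ 0 then 1 else 0 := fun p => by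
    generalize w p = a; revert a; decide
  calc ∑ p, w p = ∑ p, (if w p ≠ 0 then (1 : ZMod 2) else 0) := Finset.sum_congr rfl fun p _ => this p
    _ = ((support₂ w).card : ZMod 2) := by rw [Finset.sum_boole]; rfl

theorem sum_code {c : GolayPt → ZMod 2} (hc : c ∈ golayCode) : ∑ p, c p = 0 := by
  obtain ⟨m, hm, he⟩ := mem_supports_iff.1 (⟨c, hc, rfl⟩ : support₂ c ∈ supports (golayCode : Set (GolayPt → ZMod 2)))
  have := List.all_eq_true.1 code_weights m hm
  rw [sum_eq_card, ← he, mset_card, mcnt_eq_pcnt]
  simp only [Bool.or_eq_true, beq_iff_eq] at this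
  rcases this with (((h | h) | h) | h) | h <;> rw [h] <;> decide

theorem zmod_two : ∀ k : ZMod 2, k = 0 ∨ k = 1 := by decide

theorem third : ∀ p q : GolayPt, ∃ r : GolayPt, r ≠ p ∧ r ≠ q := by decide +kernel

/-- Invariance. -/
def Inv (W : Submodule (ZMod 2) (GolayPt → ZMod 2)) : Prop := ∀ σ ∈ M24, ∀ w ∈ W, actW σ w ∈ W

theorem pairs_of_one {W : Submodule (ZMod 2) (GolayPt → ZMod 2)} (hW : Inv W) {a b : GolayPt} (hab : a ≠ b)
    (h : ind {a, b} ∈ W) {p q : GolayPt} (hpq : p ≠ q) : ind {p, q} ∈ W := by
  obtain ⟨g, hg, h1, h2⟩ := map_two hab hpq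
  have := hW g hg _ h
  rw [actW_ind, Finset.smul_finset_insert, Finset.smul_finset_singleton, Equiv.Perm.smul_def,
    Equiv.Perm.smul_def, h1, h2] at this
  exact this

theorem even_mem {W : Submodule (ZMod 2) (GolayPt → ZMod 2)}
    (h : ∀ p q : GolayPt, p ≠ q → ind {p, q} ∈ W) : ∀ w : GolayPt → ZMod 2, ∑ p, w p = 0 → w ∈ W := by
  suffices H : ∀ n : ℕ, ∀ s : Finset GolayPt, s.card = 2 * n → ind s ∈ W by
    intro w hw
    rw [sum_eq_card, ZMod.natCast_eq_zero_iff_even] at hw
    obtain ⟨n, hn⟩ := hw
    have := H n (support₂ w) (by omega)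
    rwa [ind_support₂] at this
  intro n
  induction n with
  | zero =>
    intro s hs
    obtain rfl := Finset.card_eq_zero.1 (show s.card = 0 by omega)
    have : ind (∅ : Finset GolayPt) = 0 := support₂_injective (by rw [support₂_ind]; simp [support₂])
    rw [this]; exact zero_mem W
  | succ n ih =>
    intro s hs
    obtain ⟨p, hp, q, hq, hne⟩ := Finset.one_lt_card.1 (show 1 < s.card by omega)
    have hsub : ({p, q} : Finset GolayPt) ⊆ s := by simp [Finset.insert_subset_iff, hp, hq]
    have he : s = (s \ {p, q}) ∆ {p, q} := by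
      rw [Finset.symmDiff_def]
      ext x
      have := @hsub x
      simp only [Finset.mem_union, Finset.mem_sdiff]
      tauto
    rw [he, ind_symmDiff]
    exact add_mem (ih _ (by rw [Finset.card_sdiff_of_subset hsub, Finset.card_pair hne, hs]; omega)) (h p q hne)

/-- An invariant space above the code. -/
theorem above {M : Submodule (ZMod 2) (GolayPt → ZMod 2)} (hM : Inv M) (hC : golayCode ≤ M) (hne : M ≠ golayCode) :
    ∀ p q : GolayPt, p ≠ q → ind {p, q} ∈ M := by
  obtain ⟨w, hw, hwC⟩ := SetLike.exists_of_lt (lt_of_le_of_ne hC hne.symm)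
  obtain ⟨v, hv, hwv⟩ := exists_coset_leader w
  rw [hammingNorm_eq_card_support₂] at hv
  have hvM : v ∈ M := by
    have := M.sub_mem hw (hC hwv)
    rwa [sub_sub_cancel] at this
  obtain ⟨c, hc⟩ : (support₂ v).Nonempty := by
    rw [Finset.nonempty_iff_ne_empty]
    intro he
    apply hwC
    have : v = 0 := support₂_injective (by rw [he]; simp [support₂])
    rwa [this, sub_zero] at hwv
  obtain ⟨d, hd⟩ : ∃ d, d ∉ support₂ v := by
    by_contra hall
    push Not at hall
    have : (Finset.univ : Finset GolayPt).card ≤ (support₂ v).card := Finset.card_le_card fun x _ => hall x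
    rw [Finset.card_univ] at this
    have h24 : Fintype.card GolayPt = 24 := rfl
    omega
  obtain ⟨g, hg, hgs⟩ := exchange (show (support₂ v).card ≤ 5 by omega) hc hd
  have hcd : c ≠ d := fun e => hd (e ▸ hc)
  have hv' : ind (support₂ v) ∈ M := by rwa [ind_support₂]
  have h1 := hM g hg _ hv'
  rw [actW_ind, hgs] at h1
  have h2 := add_mem h1 hv'
  rw [← ind_symmDiff] at h2
  have he : (insert d ((support₂ v).erase c)) ∆ support₂ v = {c, d} := by
    ext x
    simp only [Finset.mem_symmDiff, Finset.mem_insert, Finset.mem_erase, Finset.mem_singleton]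
    constructor
    · rintro (⟨rfl | ⟨-, h⟩, hn⟩ | ⟨hx, hn⟩)
      · exact Or.inr rfl
      · exact absurd h hn
      · push Not at hn
        left
        by_contra hne'
        exact hn.2 hne' hx
    · rintro (rfl | rfl)
      · exact Or.inr ⟨hc, by push Not; exact ⟨hcd, fun h => absurd rfl h⟩⟩
      · exact Or.inl ⟨Or.inl rfl, hd⟩
  rw [he] at h2
  exact fun p q hpq => pairs_of_one hM hcd h2 hpq

theorem above_cases {W : Submodule (ZMod 2) (GolayPt → ZMod 2)} (hW : Inv W) (hC : golayCode ≤ W) :
    W = golayCode ∨ (W : Set (GolayPt → ZMod 2)) = {w | ∑ p, w p = 0} ∨ W = ⊤ := by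
  by_cases hne : W = golayCode
  · exact Or.inl hne
  right
  have hE := even_mem (above hW hC hne)
  by_cases hodd : ∀ w ∈ W, ∑ p, w p = 0
  · exact Or.inl (Set.ext fun w => ⟨hodd w, hE w⟩)
  push Not at hodd
  obtain ⟨w, hw, hs⟩ := hodd
  right
  rw [eq_top_iff]
  intro x _
  by_cases hx : ∑ p, x p = 0
  · exact hE x hx
  have : x + w ∈ W := hE _ (by
    simp only [Pi.add_apply, Finset.sum_add_distrib]
    revert hx hs
    generalize ∑ p, x p = a
    generalize ∑ p, w p = b
    revert a b; decide)
  have := W.sub_mem this hw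
  rwa [add_sub_cancel_right] at this

theorem octads_two : ∃ a ∈ octList, ∃ b ∈ octList, Nat.xor a b ∈ octList := by
  have : (octList.any fun a => octList.any fun b => octList.contains (Nat.xor a b)) = true := by decide +kernel
  simpa [List.any_eq_true] using this

theorem octads_three : ∃ a ∈ octList, ∃ b ∈ octList, ∃ c ∈ octList, Nat.xor (Nat.xor a b) c = 16777215 := by
  have : (octList.any fun a => octList.any fun b => Nat.beq (Nat.land a b) 0 &&
      octList.contains (Nat.xor 16777215 (Nat.xor a b))) = true := by decide +kernel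
  simp only [List.any_eq_true, Bool.and_eq_true, List.contains_iff_mem] at this
  obtain ⟨a, ha, b, hb, -, hc⟩ := this
  refine ⟨a, ha, b, hb, _, hc, ?_⟩
  show (a ^^^ b) ^^^ (16777215 ^^^ (a ^^^ b)) = 16777215
  rw [Nat.xor_comm 16777215, ← Nat.xor_assoc, Nat.xor_self, Nat.zero_xor]

/-- An invariant subspace of the code. -/
theorem below {U : Submodule (ZMod 2) (GolayPt → ZMod 2)} (hU : Inv U) (hle : U ≤ golayCode) :
    U = ⊥ ∨ U = Submodule.span (ZMod 2) {fun _ => (1 : ZMod 2)} ∨ U = golayCode := by
  set one : GolayPt → ZMod 2 := fun _ => 1 with hone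
  by_cases h1 : one ∈ U
  · exact Or.inr (Cfsg.Agent.S5393.result.2 U h1 hle hU)
  left
  have h1a : ∀ σ : Equiv.Perm GolayPt, actW σ one = one := fun σ => rfl
  have hmem : ∀ {c}, c ∈ U ⊔ Submodule.span (ZMod 2) {one} → c ∈ U ∨ c + one ∈ U := by
    intro c hc
    obtain ⟨u, hu, z, hz, rfl⟩ := Submodule.mem_sup.1 hc
    obtain ⟨k, rfl⟩ := Submodule.mem_span_singleton.1 hz
    have hk := zmod_two k
    rcases hk with rfl | rfl
    · left; simpa using hu
    · right; rw [one_smul, add_assoc, add_self_word, add_zero]; exact hu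
  have hI : Inv (U ⊔ Submodule.span (ZMod 2) {one}) := by
    intro σ hσ w hw
    obtain ⟨u, hu, z, hz, rfl⟩ := Submodule.mem_sup.1 hw
    obtain ⟨k, rfl⟩ := Submodule.mem_span_singleton.1 hz
    rw [actW_add]
    refine Submodule.add_mem_sup (hU σ hσ u hu) ?_
    exact Submodule.mem_span_singleton.2 ⟨k, rfl⟩
  rcases Cfsg.Agent.S5393.result.2 (U ⊔ Submodule.span (ZMod 2) {one})
    (Submodule.mem_sup_right (Submodule.mem_span_singleton_self _))
    (sup_le hle ((Submodule.span_singleton_le_iff_mem _ _).2 one_mem)) hI with h | h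
  · rw [eq_bot_iff]
    intro u hu
    have := (sup_eq_right.1 h) hu
    obtain ⟨k, rfl⟩ := Submodule.mem_span_singleton.1 this
    have hk := zmod_two k
    rcases hk with rfl | rfl
    · simp
    · exact absurd (by simpa using hu) h1
  · exfalso
    have hoct : ∀ m ∈ octList, word m ∈ U ∨ word m + one ∈ U := fun m hm => hmem (h ▸
      (word_mem_golayCode_iff (octList_lt hm)).2
        ((mset_mem_supports_iff (octList_lt hm)).1 ((mset_mem_octads_iff (octList_lt hm)).2 hm).1))
    have htr : ∀ a ∈ octList, ∀ b ∈ octList, word a ∈ U → word b ∈ U := by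
      intro a ha b hb hau
      obtain ⟨g, hg, hgo⟩ := M24_octad_transitive ((mset_mem_octads_iff (octList_lt ha)).2 ha)
        ((mset_mem_octads_iff (octList_lt hb)).2 hb)
      have := hU g hg _ hau
      have he : actW g (word a) = word b :=
        support₂_injective (by rw [support₂_actW, support₂_word, support₂_word, hgo])
      rwa [he] at this
    obtain ⟨a, ha, b, hb, hab⟩ := octads_two
    obtain ⟨a', ha', b', hb', c', hc', habc⟩ := octads_three
    by_cases hau : word a ∈ U
    · apply h1
      have := add_mem (add_mem (htr a ha a' ha' hau) (htr a ha b' hb' hau)) (htr a ha c' hc' hau)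
      rw [← word_xor, ← word_xor] at this
      rw [show (a' ^^^ b') ^^^ c' = 16777215 from habc] at this
      have he : word 16777215 = one := support₂_injective (by rw [support₂_word, mset_full]; simp [support₂, hone])
      rwa [he] at this
    · have hbu : word b ∉ U := fun hh => hau (htr b hb a ha hh)
      have := add_mem ((hoct a ha).resolve_left hau) ((hoct b hb).resolve_left hbu)
      rw [add_add_add_comm, add_self_word, add_zero, ← word_xor] at this
      exact hau (htr _ hab a ha this)

/-- For the automorphism group of the length-24 binary Golay code of the definitions (the Mathieu group of degree 24) acting on binary words of length 24 by permuting coordinates, the only invariant subspaces of the space of all words are: zero, the span of the all-ones word, the code itself, the even-weight words, and the whole space. (So the permutation module has a unique composition series.) -/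
theorem result (W : Submodule (ZMod 2) (Cfsg.GolayPt → ZMod 2)) (hW : ∀ σ ∈ Cfsg.M24, ∀ w ∈ W, (fun p => w (σ.symm p)) ∈ W) : W = ⊥ ∨ W = Submodule.span (ZMod 2) {fun _ => (1 : ZMod 2)} ∨ W = Cfsg.golayCode ∨ (W : Set (Cfsg.GolayPt → ZMod 2)) = {w | ∑ p, w p = 0} ∨ W = ⊤ := by
  have hW' : Inv W := hW
  set one : GolayPt → ZMod 2 := fun _ => 1 with hone
  have hI : Inv (W ⊓ golayCode) := fun σ hσ w hw => ⟨hW' σ hσ w hw.1, actW_mem hσ hw.2⟩
  rcases eq_or_ne (W ⊓ golayCode) golayCode with hfull | hsmall
  · rcases above_cases hW' (inf_eq_right.1 hfull) with h | h | h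
    · exact Or.inr (Or.inr (Or.inl h))
    · exact Or.inr (Or.inr (Or.inr (Or.inl h)))
    · exact Or.inr (Or.inr (Or.inr (Or.inr h)))
  have hspan : ∀ c ∈ W ⊓ golayCode, c = 0 ∨ c = one := by
    intro c hc
    rcases below hI inf_le_right with h | h | h
    · rw [h] at hc; exact Or.inl ((Submodule.mem_bot _).1 hc)
    · rw [h] at hc
      obtain ⟨k, rfl⟩ := Submodule.mem_span_singleton.1 hc
      have hk := zmod_two k
      rcases hk with rfl | rfl <;> simp [hone]
    · exact absurd h hsmall
  by_cases hWC : W ≤ golayCode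
  · rcases below hI inf_le_right with h | h | h
    · left; rwa [inf_eq_left.2 hWC] at h
    · right; left; rwa [inf_eq_left.2 hWC] at h
    · exact absurd h hsmall
  exfalso
  have hIM : Inv (W ⊔ golayCode) := by
    intro σ hσ w hw
    obtain ⟨u, hu, z, hz, rfl⟩ := Submodule.mem_sup.1 hw
    rw [actW_add]
    exact Submodule.add_mem_sup (hW' σ hσ u hu) (actW_mem hσ hz)
  have hpairs := above hIM le_sup_right (fun h => hWC (sup_eq_right.1 h))
  obtain ⟨p, q, hpq⟩ : ∃ p q : GolayPt, p ≠ q := ⟨none, some 0, by simp⟩
  obtain ⟨w, hw, c, hc, hwc⟩ := Submodule.mem_sup.1 (hpairs p q hpq)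
  have hfix : ∀ g ∈ M24, g p = p → g q = q → actW g c = c := by
    intro g hg hp hq
    have hv : actW g (ind {p, q}) = ind {p, q} := by
      rw [actW_ind, Finset.smul_finset_insert, Finset.smul_finset_singleton, Equiv.Perm.smul_def,
        Equiv.Perm.smul_def, hp, hq]
    have hd : actW g c + c = actW g w + w := by
      rw [← hwc, actW_add] at hv
      calc actW g c + c = (actW g w + actW g c) + c + (actW g w) := by
            rw [add_comm (actW g w) (actW g c), add_assoc, add_assoc, ← add_assoc (actW g w), add_comm (actW g w) c,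
              add_assoc c, add_self_word, add_zero]
        _ = (w + c) + c + actW g w := by rw [hv]
        _ = actW g w + w := by rw [add_assoc w, add_self_word, add_zero, add_comm]
    have hin : actW g c + c ∈ W ⊓ golayCode :=
      ⟨hd ▸ add_mem (hW' g hg w hw) hw, add_mem (actW_mem hg hc) hc⟩
    rcases hspan _ hin with h | h
    · calc actW g c = actW g c + (c + c) := by rw [add_self_word, add_zero]
        _ = c := by rw [← add_assoc, h, zero_add]
    · exfalso
      have := congrFun h p
      simp only [Pi.add_apply, actW, hone] at this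
      rw [show g.symm p = p from g.symm_apply_eq.2 hp.symm] at this
      revert this
      generalize c p = a
      revert a; decide
  obtain ⟨r, hrp, hrq⟩ : ∃ r : GolayPt, r ≠ p ∧ r ≠ q := third p q
  have hconst : ∀ x, x ≠ p → x ≠ q → c x = c r := by
    intro x hxp hxq
    obtain ⟨g, hg, h1, h2, h3⟩ := map_three hpq hrp hrq hxp hxq
    have := congrFun (hfix g hg h1 h2) x
    simp only [actW] at this
    rw [show g.symm x = r from g.symm_apply_eq.2 h3.symm] at this
    exact this.symm
  have hc01 : c = 0 ∨ c = one := by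
    have h2 : ({p, q} : Finset GolayPt).card < 8 := by rw [Finset.card_pair hpq]; norm_num
    have hcases := zmod_two (c r)
    rcases hcases with h0 | h1
    · left
      refine eq_zero_of_small hc h2 fun x hx => ?_
      simp only [Finset.mem_insert, Finset.mem_singleton, not_or] at hx
      rw [hconst x hx.1 hx.2, h0]
    · right
      have : c + one = 0 := by
        refine eq_zero_of_small (add_mem hc one_mem) h2 fun x hx => ?_
        simp only [Finset.mem_insert, Finset.mem_singleton, not_or] at hx
        rw [Pi.add_apply, hconst x hx.1 hx.2, h1]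
        decide
      calc c = c + (one + one) := by rw [add_self_word, add_zero]
        _ = one := by rw [← add_assoc, this, zero_add]
  have hca : ∀ σ, actW σ c = c := fun σ => by rcases hc01 with rfl | rfl <;> rfl
  have hall : ∀ x y : GolayPt, x ≠ y → ind {x, y} + c ∈ W := by
    intro x y hxy
    obtain ⟨g, hg, h1, h2⟩ := map_two hpq hxy
    have := hW' g hg w hw
    have e : actW g w = ind {x, y} + c := by
      have hw' : w = ind {p, q} + c := by rw [← hwc, add_assoc, add_self_word, add_zero]
      rw [hw', actW_add, hca, actW_ind, Finset.smul_finset_insert, Finset.smul_finset_singleton,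
        Equiv.Perm.smul_def, Equiv.Perm.smul_def, h1, h2]
    rwa [e] at this
  have hp2 : ∀ x y : GolayPt, x ≠ y → ind {x, y} ∈ W := by
    intro x z hxz
    obtain ⟨y, hyx, hyz⟩ : ∃ y : GolayPt, y ≠ x ∧ y ≠ z := third x z
    have := add_mem (hall x y hyx.symm) (hall y z hyz)
    rw [add_add_add_comm, add_self_word, add_zero, ← ind_symmDiff] at this
    have he : ({x, y} : Finset GolayPt) ∆ {y, z} = {x, z} := by
      ext a
      simp only [Finset.mem_symmDiff, Finset.mem_insert, Finset.mem_singleton]
      constructor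
      · tauto
      · rintro (rfl | rfl)
        · exact Or.inl ⟨Or.inl rfl, by push Not; exact ⟨hyx.symm, hxz⟩⟩
        · exact Or.inr ⟨Or.inr rfl, by push Not; exact ⟨hxz.symm, hyz.symm⟩⟩
    rwa [he] at this
  exact hsmall (inf_eq_right.2 fun x hx => even_mem hp2 x (sum_code hx))

end Cfsg.Agent.S5548
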