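import Cfsg.Statements.S5550
import Cfsg.Agent.Lib.H3.GolayModule

set_option linter.style.haveILetI false

set_option autoImplicit false
open Cfsg

namespace Cfsg.Agent.S5550

open Cfsg.Lib.Concrete Cfsg.Lib.H3.Golay MulAction
open scoped Pointwise symmDiff

/-- Some element fixing `d` moves every small set as required (tetrads only up to congruence). -/
def Moves (d : Finset GolayPt) : Prop :=
  ∀ s : Finset GolayPt, s.Nonempty → s.card ≤ 4 → (s.card = 4 → ∀ o ∈ octads, o = d ∨ o = dᶜ → (s ∩ o).Nonempty) →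
    ∃ g ∈ M24, g • d = d ∧ g • s ≠ s ∧ (3 < s.card → (g • s ∩ s).Nonempty)

theorem of_point {g : Equiv.Perm GolayPt} {s : Finset GolayPt} {b : GolayPt} (hb : b ∈ s) (hgb : g b ∉ s) :
    g • s ≠ s := fun h => hgb (h ▸ Finset.smul_mem_smul_finset hb)

theorem inter_of_fix {g : Equiv.Perm GolayPt} {s : Finset GolayPt} {a : GolayPt} (ha : a ∈ s) (hga : g a = a) :
    (g • s ∩ s).Nonempty :=
  ⟨a, Finset.mem_inter.2 ⟨by
    have h := Finset.smul_mem_smul_finset (a := g) ha
    rwa [Equiv.Perm.smul_def, hga] at h, ha⟩⟩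

theorem smul_compl (g : Equiv.Perm GolayPt) (d : Finset GolayPt) : g • dᶜ = (g • d)ᶜ := by
  ext p
  rw [Finset.mem_compl, ← Finset.inv_smul_mem_iff, ← Finset.inv_smul_mem_iff, Finset.mem_compl]

theorem smul_univ_points (g : Equiv.Perm GolayPt) : g • (Finset.univ : Finset GolayPt) = Finset.univ :=
  Finset.eq_univ_iff_forall.2 fun p => by rw [← Finset.inv_smul_mem_iff]; exact Finset.mem_univ _

theorem moves_trivial {d : Finset GolayPt} (hd : ∀ g : Equiv.Perm GolayPt, g • d = d) : Moves d := by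
  intro s hne hs _
  obtain ⟨e, he⟩ : ∃ e, e ∉ s := by
    by_contra hall
    push Not at hall
    have : (Finset.univ : Finset GolayPt).card ≤ s.card := Finset.card_le_card fun x _ => hall x
    rw [Finset.card_univ] at this
    have : Fintype.card GolayPt = 24 := rfl
    omega
  obtain ⟨b, hb⟩ := hne
  by_cases h : ∃ a ∈ s, a ≠ b
  · obtain ⟨a, ha, hab⟩ := h
    obtain ⟨g, hg, h1, h2⟩ := map_two hab (fun h => he (h ▸ ha) : a ≠ e)
    exact ⟨g, hg, hd g, of_point hb (h2 ▸ he), fun _ => inter_of_fix ha h1⟩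
  · push Not at h
    obtain ⟨g, hg, h1⟩ := exists_map (k := 1) (by norm_num) ![b] ![e] (Function.injective_of_subsingleton _)
      (Function.injective_of_subsingleton _)
    refine ⟨g, hg, hd g, of_point hb (by rw [show g b = e from h1 0]; exact he), fun h3 => ?_⟩
    have : s ⊆ {b} := fun x hx => Finset.mem_singleton.2 (h x hx)
    have := Finset.card_le_card this
    simp at this
    omega

theorem cycle_lift {o : Finset GolayPt} (ho : o ∈ octads) {b e f : GolayPt} (hb : b ∈ o) (he : e ∈ o) (hf : f ∈ o)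
    (hbe : b ≠ e) (hbf : b ≠ f) (hef : e ≠ f) :
    ∃ g ∈ M24, g • o = o ∧ g b = e ∧ ∀ x ∈ o, x ≠ b → x ≠ e → x ≠ f → g x = x := by
  let B : ↥o := ⟨b, hb⟩
  let E : ↥o := ⟨e, he⟩
  let F : ↥o := ⟨f, hf⟩
  have hBE : B ≠ E := fun h => hbe (congrArg Subtype.val h)
  have hBF : B ≠ F := fun h => hbf (congrArg Subtype.val h)
  have hEF : E ≠ F := fun h => hef (congrArg Subtype.val h)
  have hσ : Equiv.swap B F * Equiv.swap B E ∈ alternatingGroup ↥o :=
    (Equiv.Perm.isThreeCycle_swap_mul_swap_same hBF hBE hEF.symm).mem_alternatingGroup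
  rw [← range_toOctadPerm ho] at hσ
  obtain ⟨g, hg⟩ := hσ
  refine ⟨g.1.1, g.1.2, g.2, ?_, fun x hx h1 h2 h3 => ?_⟩
  · have := congrArg Subtype.val (Equiv.congr_fun hg B)
    rw [toOctadPerm_apply] at this
    rw [show g.1.1 b = g.1.1 (B : GolayPt) from rfl, this, Equiv.Perm.mul_apply, Equiv.swap_apply_left,
      Equiv.swap_apply_of_ne_of_ne hBE.symm hEF]
  · have := congrArg Subtype.val (Equiv.congr_fun hg ⟨x, hx⟩)
    rw [toOctadPerm_apply] at this
    rw [show g.1.1 x = g.1.1 ((⟨x, hx⟩ : ↥o) : GolayPt) from rfl, this, Equiv.Perm.mul_apply,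
      show Equiv.swap B E ⟨x, hx⟩ = ⟨x, hx⟩ from
        Equiv.swap_apply_of_ne_of_ne (fun h => h1 (congrArg Subtype.val h)) (fun h => h2 (congrArg Subtype.val h)),
      show Equiv.swap B F ⟨x, hx⟩ = ⟨x, hx⟩ from
        Equiv.swap_apply_of_ne_of_ne (fun h => h1 (congrArg Subtype.val h)) (fun h => h3 (congrArg Subtype.val h))]

theorem moves_octad {o : Finset GolayPt} (ho : o ∈ octads) : Moves o := by
  intro s hne hs hmeet
  have hext : ∀ b : GolayPt, b ∉ o → ∃ g ∈ M24, g • o = o ∧ g b ∉ s ∧ ∀ x ∈ o, g x = x := by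
    intro b hb
    obtain ⟨e, he⟩ : ∃ e, e ∈ oᶜ \ s := by
      refine Finset.card_pos.1 ?_
      have h1 := Finset.le_card_sdiff s oᶜ
      have h2 : oᶜ.card = 16 := by rw [Finset.card_compl, ho.2]; rfl
      omega
    rw [Finset.mem_sdiff, Finset.mem_compl] at he
    obtain ⟨g, hg, hgb⟩ := fixSet_octad_transitive ho hb he.1
    obtain ⟨hgM, hfix⟩ := mem_fixSet.1 hg
    exact ⟨g, hgM, smul_eq_self_of_fix hfix, hgb ▸ he.2, hfix⟩
  by_cases hso : (s ∩ o).Nonempty
  · obtain ⟨a, ha⟩ := hso
    obtain ⟨has, hao⟩ := Finset.mem_inter.1 ha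
    have hspare : 4 ≤ (o \ s).card := by
      have := Finset.le_card_sdiff s o
      rw [ho.2] at this
      omega
    obtain ⟨e, he, f, hf, hef⟩ := Finset.one_lt_card.1 (show 1 < (o \ s).card by omega)
    rw [Finset.mem_sdiff] at he hf
    by_cases h : ∃ b ∈ s, b ≠ a
    · obtain ⟨b, hb, hba⟩ := h
      by_cases hbo : b ∈ o
      · obtain ⟨g, hg, hgo, hgb, hfix⟩ := cycle_lift ho hbo he.1 hf.1 (fun h => he.2 (h ▸ hb))
          (fun h => hf.2 (h ▸ hb)) hef
        exact ⟨g, hg, hgo, of_point hb (hgb ▸ he.2), fun _ =>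
          inter_of_fix has (hfix a hao hba.symm (fun h => he.2 (h ▸ has)) fun h => hf.2 (h ▸ has))⟩
      · obtain ⟨g, hg, hgo, hgb, hfix⟩ := hext b hbo
        exact ⟨g, hg, hgo, of_point hb hgb, fun _ => inter_of_fix has (hfix a hao)⟩
    · push Not at h
      obtain ⟨g, hg, hgo, hgb, -⟩ := cycle_lift ho hao he.1 hf.1 (fun h => he.2 (h ▸ has))
        (fun h => hf.2 (h ▸ has)) hef
      refine ⟨g, hg, hgo, of_point has (hgb ▸ he.2), fun h3 => ?_⟩
      have : s ⊆ {a} := fun x hx => Finset.mem_singleton.2 (h x hx)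
      have := Finset.card_le_card this
      simp at this
      omega
  · obtain ⟨b, hb⟩ := hne
    have hbo : b ∉ o := fun h => hso ⟨b, Finset.mem_inter.2 ⟨hb, h⟩⟩
    obtain ⟨g, hg, hgo, hgb, -⟩ := hext b hbo
    exact ⟨g, hg, hgo, of_point hb hgb, fun h3 => absurd (hmeet (by omega) o ho (Or.inl rfl)) hso⟩

theorem moves_dodecad {d : Finset GolayPt} (hd : d ∈ dodecads) (hd' : dᶜ ∈ dodecads) : Moves d := by
  intro s hne hs _
  have key : ∀ e ∈ dodecads, (∀ g : Equiv.Perm GolayPt, g • e = e → g • d = d) → ∀ a ∈ e, a ∈ s →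
      (s.card ≤ 3 → ∃ g ∈ M24, g • d = d ∧ g • s ≠ s) ∧
      (∀ b ∈ e, b ∈ s → b ≠ a → ∃ g ∈ M24, g • d = d ∧ g • s ≠ s ∧ (g • s ∩ s).Nonempty) := by
    intro e he hed a hae has
    obtain ⟨z, hz⟩ : ∃ z, z ∈ e \ s := by
      refine Finset.card_pos.1 ?_
      have := Finset.le_card_sdiff s e
      rw [he.2] at this
      omega
    rw [Finset.mem_sdiff] at hz
    have h2 := dod_two_transitive he
    rw [MulAction.is_two_pretransitive_iff] at h2
    have haz : a ≠ z := fun h => hz.2 (h ▸ has)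
    refine ⟨fun _ => ?_, fun b hbe hbs hba => ?_⟩
    · obtain ⟨g, h1, -⟩ := h2 (a := (⟨a, hae⟩ : dodPoints e)) (b := ⟨z, hz.1⟩) (c := ⟨z, hz.1⟩) (d := ⟨a, hae⟩)
        (fun h => haz (congrArg Subtype.val h)) (fun h => haz (congrArg Subtype.val h).symm)
      have h1' : g.1.1 a = z := congrArg Subtype.val h1
      exact ⟨g.1.1, g.1.2, hed _ g.2, of_point has (h1' ▸ hz.2)⟩
    · obtain ⟨g, h1, h3⟩ := h2 (a := (⟨a, hae⟩ : dodPoints e)) (b := ⟨b, hbe⟩) (c := ⟨a, hae⟩) (d := ⟨z, hz.1⟩)
        (fun h => hba (congrArg Subtype.val h).symm) (fun h => haz (congrArg Subtype.val h))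
      have h1' : g.1.1 a = a := congrArg Subtype.val h1
      have h3' : g.1.1 b = z := congrArg Subtype.val h3
      exact ⟨g.1.1, g.1.2, hed _ g.2, of_point hbs (h3' ▸ hz.2), inter_of_fix has h1'⟩
  have hc : ∀ g : Equiv.Perm GolayPt, g • dᶜ = dᶜ → g • d = d := fun g h => by
    rw [smul_compl] at h; exact compl_inj_iff.1 h
  by_cases h4 : 3 < s.card
  · by_cases hin : 1 < (s ∩ d).card
    · obtain ⟨a, ha, b, hb, hab⟩ := Finset.one_lt_card.1 hin
      rw [Finset.mem_inter] at ha hb
      obtain ⟨g, hg, h1, h2, h3⟩ := (key d hd (fun _ h => h) a ha.2 ha.1).2 b hb.2 hb.1 hab.symm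
      exact ⟨g, hg, h1, h2, fun _ => h3⟩
    · have : 1 < (s \ d).card := by
        have := Finset.card_sdiff_add_card_inter s d
        omega
      obtain ⟨a, ha, b, hb, hab⟩ := Finset.one_lt_card.1 this
      rw [Finset.mem_sdiff] at ha hb
      obtain ⟨g, hg, h1, h2, h3⟩ := (key dᶜ hd' hc a (Finset.mem_compl.2 ha.2) ha.1).2 b
        (Finset.mem_compl.2 hb.2) hb.1 hab.symm
      exact ⟨g, hg, h1, h2, fun _ => h3⟩
  · obtain ⟨a, ha⟩ := hne
    by_cases had : a ∈ d
    · obtain ⟨g, hg, h1, h2⟩ := (key d hd (fun _ h => h) a had ha).1 (by omega)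
      exact ⟨g, hg, h1, h2, fun h => absurd h h4⟩
    · obtain ⟨g, hg, h1, h2⟩ := (key dᶜ hd' hc a (Finset.mem_compl.2 had) ha).1 (by omega)
      exact ⟨g, hg, h1, h2, fun h => absurd h h4⟩

theorem one_mem : (fun _ : GolayPt => (1 : ZMod 2)) ∈ golayCode := Submodule.subset_span (Or.inr rfl)

theorem compl_mem {d : Finset GolayPt} (hd : d ∈ supports (golayCode : Set (GolayPt → ZMod 2))) :
    dᶜ ∈ supports (golayCode : Set (GolayPt → ZMod 2)) := by
  obtain ⟨c, hc, rfl⟩ := hd
  refine ⟨c + (fun _ => 1), add_mem hc one_mem, ?_⟩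
  rw [support₂_add]
  ext p
  simp [support₂, Finset.mem_symmDiff]

theorem moves_code {d : Finset GolayPt} (hd : d ∈ supports (golayCode : Set (GolayPt → ZMod 2))) : Moves d := by
  obtain ⟨m, hm, he⟩ := mem_supports_iff.1 hd
  have := List.all_eq_true.1 code_weights m hm
  have hcard : d.card = pcnt m := by rw [← he, mset_card, mcnt_eq_pcnt]
  simp only [Bool.or_eq_true, beq_iff_eq, ← hcard] at this
  have h24 : Fintype.card GolayPt = 24 := rfl
  rcases this with (((h | h) | h) | h) | h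
  · exact moves_trivial fun g => by rw [Finset.card_eq_zero.1 h, Finset.smul_finset_empty]
  · exact moves_octad ⟨hd, h⟩
  · exact moves_dodecad ⟨hd, h⟩ ⟨compl_mem hd, by rw [Finset.card_compl, h24, h]⟩
  · intro s hne hs hmeet
    obtain ⟨g, hg, h1, h2, h3⟩ := moves_octad (o := dᶜ) ⟨compl_mem hd, by rw [Finset.card_compl, h24, h]⟩ s hne hs
      fun h4 o ho hor => hmeet h4 o ho (by rwa [compl_compl, or_comm] at hor)
    rw [smul_compl] at h1
    exact ⟨g, hg, compl_inj_iff.1 h1, h2, h3⟩
  · exact moves_trivial fun g => by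
      rw [Finset.eq_univ_of_card d (h.trans h24.symm), smul_univ_points]

/-- A coset leader meeting a given octad. -/
theorem leader (w : GolayPt → ZMod 2) (x : GolayPt) :
    ∃ t : Finset GolayPt, t.card ≤ 4 ∧ w + ind t ∈ golayCode ∧ (t.card = 4 → x ∈ t) := by
  obtain ⟨v, hv, hwv⟩ := exists_coset_leader w
  rw [hammingNorm_eq_card_support₂] at hv
  rw [sub_eq_add_word, ← ind_support₂ v] at hwv
  set s := support₂ v
  by_cases h4 : s.card = 4
  · have hS := sextetOf_mem h4
    have hcard : ((sextetOf s).biUnion id).card = 24 := by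
      have hdis : ∀ t ∈ sextetOf s, ∀ u ∈ sextetOf s, t ≠ u → Disjoint (id t) (id u) :=
        fun t ht u hu hne => sextets_disjoint hS ht hu hne
      rw [Finset.card_biUnion hdis, Finset.sum_congr rfl (fun t ht => (hS.2.1 t ht : (id t).card = 4)), Finset.sum_const, hS.1]
      rfl
    have huniv := Finset.eq_univ_of_card _ (hcard.trans (show (24 : ℕ) = Fintype.card GolayPt from rfl))
    obtain ⟨t, ht, hxt⟩ := Finset.mem_biUnion.1 (huniv.symm ▸ Finset.mem_univ x)
    refine ⟨t, (hS.2.1 t ht).le, ?_, fun _ => hxt⟩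
    by_cases hts : t = s
    · rwa [hts]
    · obtain ⟨c, hc, hcs⟩ := (hS.2.2 t ht s (Finset.mem_insert_self _ _) hts).1
      have he : ind t + ind s = c := by
        rw [← ind_symmDiff, (sextets_disjoint hS ht (Finset.mem_insert_self _ _) hts).symmDiff_eq_sup]
        exact (congrArg ind hcs.symm).trans (ind_support₂ c)
      have := add_mem hwv hc
      rwa [← he, add_comm (ind t), ← add_assoc, add_assoc w, add_self_word, add_zero] at this
  · exact ⟨s, hv, hwv, fun h => absurd h h4⟩

/-- Let u be a word of the length-24 binary Golay code of the definitions (possibly zero or all-ones) and w any binary word of length 24 outside the code. Then some automorphism of the code (a coordinate permutation preserving it) fixes u but moves w to a word not congruent to w modulo the code: the stabilizer of a codeword fixes no non-zero element of the quotient of the space of all words by the code. -/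
theorem result (u : (Cfsg.GolayPt → ZMod 2)) (hu : u ∈ Cfsg.golayCode) (w : (Cfsg.GolayPt → ZMod 2)) (hw : w ∉ Cfsg.golayCode) : ∃ σ ∈ Cfsg.M24, (fun p => u (σ.symm p)) = u ∧ (fun p => w (σ.symm p)) - w ∉ Cfsg.golayCode := by
  have hd : support₂ u ∈ supports (golayCode : Set (GolayPt → ZMod 2)) := ⟨u, hu, rfl⟩
  set d := support₂ u with hdef
  obtain ⟨x, hx⟩ : ∃ x : GolayPt, ∀ o ∈ octads, o = d ∨ o = dᶜ → x ∈ o := by
    by_cases h : ∃ o ∈ octads, o = d ∨ o = dᶜ
    · obtain ⟨o, ho, hor⟩ := h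
      obtain ⟨x, hx⟩ := Finset.card_pos.1 (show 0 < o.card by rw [ho.2]; norm_num)
      refine ⟨x, fun o' ho' hor' => ?_⟩
      rcases hor with rfl | rfl <;> rcases hor' with rfl | rfl
      · exact hx
      · exfalso
        have h1 := Finset.card_compl d
        rw [ho'.2, ho.2] at h1
        revert h1
        show (8 : ℕ) = 24 - 8 → False
        norm_num
      · exfalso
        have h1 := Finset.card_compl d
        rw [ho'.2, ho.2] at h1
        revert h1
        show (8 : ℕ) = 24 - 8 → False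
        norm_num
      · exact hx
    · exact ⟨none, fun o ho hor => absurd ⟨o, ho, hor⟩ h⟩
  obtain ⟨t, ht, hwt, hxt⟩ := leader w x
  have hne : t.Nonempty := by
    rw [Finset.nonempty_iff_ne_empty]
    intro he
    apply hw
    have h0 : ind (∅ : Finset GolayPt) = 0 := support₂_injective (by rw [support₂_ind]; simp [support₂])
    rwa [he, h0, add_zero] at hwt
  obtain ⟨g, hg, hgd, hgt, hint⟩ := moves_code hd t hne ht fun h4 o ho hor =>
    ⟨x, Finset.mem_inter.2 ⟨hxt h4, hx o ho hor⟩⟩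
  refine ⟨g, hg, support₂_injective ((support₂_actW g u).trans hgd), fun hmem => ?_⟩
  have hmem' : actW g w + w ∈ golayCode := by rw [← sub_eq_add_word]; exact hmem
  have h2 := add_mem (add_mem hmem' (actW_mem hg hwt)) hwt
  have he : actW g w + w + actW g (w + ind t) + (w + ind t) = ind ((g • t) ∆ t) := by
    rw [actW_add, actW_ind, ind_symmDiff]
    calc actW g w + w + (actW g w + ind (g • t)) + (w + ind t)
        = (actW g w + actW g w) + (w + w) + (ind (g • t) + ind t) := by abel
      _ = _ := by rw [add_self_word, add_self_word, zero_add, zero_add]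
  rw [he] at h2
  refine ind_not_mem ?_ ?_ h2
  · rw [Finset.nonempty_iff_ne_empty]
    exact fun h => hgt (symmDiff_eq_bot.1 h)
  · have hle : (g • t) ∆ t ⊆ g • t ∪ t := fun y hy => by
      simp only [Finset.mem_symmDiff] at hy
      simp only [Finset.mem_union]
      tauto
    have h1 := Finset.card_le_card hle
    have h2 := Finset.card_union_add_card_inter (g • t) t
    rw [card_smul_points] at h2
    by_cases h3 : 3 < t.card
    · have := Finset.card_pos.2 (hint h3)
      omega
    · omega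

end Cfsg.Agent.S5550
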