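import Cfsg.Statements.S5553
import Cfsg.Agent.Lib.Concrete.LeechMod2

set_option autoImplicit false
open Cfsg

namespace Cfsg.Agent.S5553

/-- The Leech lattice of the definitions has an additive subgroup A containing twice the lattice, of index 2^12 in the lattice, all of whose vectors have squared length divisible by 32: the invariant quadratic form 'squared length over 16 modulo 2' on the lattice modulo twice the lattice (a 24-dimensional space over the field with two elements) vanishes on a 12-dimensional subspace, so it is of plus type. -/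
theorem result : ∃ A : AddSubgroup (Cfsg.GolayPt → ℤ), A ≤ Cfsg.leechLattice ∧ (∀ v ∈ Cfsg.leechLattice, (2 : ℤ) • v ∈ A) ∧ (A.addSubgroupOf Cfsg.leechLattice).index = 2 ^ 12 ∧ ∀ v ∈ A, (32 : ℤ) ∣ Cfsg.sqNorm v := by
  classical
  -- halves of the elements of the subgroup
  let φ : ↥Cfsg.Lib.Concrete.parityHom.ker →+ ZMod 2 := AddMonoidHom.mk'
    (fun u => (((∑ p, u.1 p) / 2 : ℤ) : ZMod 2)) fun u v => by
      have hdiv : ∀ w : ↥Cfsg.Lib.Concrete.parityHom.ker, (2 : ℤ) ∣ ∑ p, w.1 p := fun w => by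
        have h : ∑ p, w.1 p = ∑ p, (w.1 p - w.1 none) + 24 * w.1 none := by
          rw [Finset.sum_sub_distrib, Finset.sum_const, Finset.card_univ,
            show Fintype.card Cfsg.GolayPt = 24 by rfl]
          simp
        rw [h]
        exact dvd_add (Finset.dvd_sum fun p _ => Cfsg.Lib.Concrete.mem_parityKer.1 w.2 p)
          (dvd_mul_of_dvd_left (by norm_num) _)
      rw [← Int.cast_add, ← Int.add_ediv_of_dvd_left (hdiv u)]
      congr 2
      simp [Finset.sum_add_distrib]
  set B : AddSubgroup (Cfsg.GolayPt → ℤ) := φ.ker.map Cfsg.Lib.Concrete.parityHom.ker.subtype with hB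
  have hmemB : ∀ {u : Cfsg.GolayPt → ℤ}, u ∈ B ↔
      (∀ p, (2 : ℤ) ∣ u p - u none) ∧ (2 : ℤ) ∣ (∑ p, u p) / 2 := by
    intro u
    rw [hB, AddSubgroup.mem_map]
    constructor
    · rintro ⟨w, hw, rfl⟩
      exact ⟨Cfsg.Lib.Concrete.mem_parityKer.1 w.2, (ZMod.intCast_zmod_eq_zero_iff_dvd _ 2).1 hw⟩
    · rintro ⟨h1, h2⟩
      exact ⟨⟨u, Cfsg.Lib.Concrete.mem_parityKer.2 h1⟩, (ZMod.intCast_zmod_eq_zero_iff_dvd _ 2).2 h2, rfl⟩
  have hBidx : B.index = 2 ^ 24 := by
    rw [hB, AddSubgroup.index_map_subtype, Cfsg.Lib.Concrete.index_parityKer,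
      AddSubgroup.index_ker, AddMonoidHom.range_eq_top.2 fun a => ?_,
      Nat.card_congr AddSubgroup.topEquiv.toEquiv]
    · simp [Nat.card_eq_fintype_card]
    · refine ⟨⟨Pi.single none (2 * (a.val : ℤ)), Cfsg.Lib.Concrete.mem_parityKer.2 fun p => ?_⟩, ?_⟩
      · cases p with
        | none => simp
        | some t => simp
      · show (((∑ p, (Pi.single none (2 * (a.val : ℤ)) : Cfsg.GolayPt → ℤ) p) / 2 : ℤ) : ZMod 2) = a
        rw [Finset.sum_pi_single' none (2 * (a.val : ℤ)) Finset.univ, if_pos (Finset.mem_univ _),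
          Int.mul_ediv_cancel_left _ (by norm_num), Int.cast_natCast, ZMod.natCast_zmod_val]
  set A : AddSubgroup (Cfsg.GolayPt → ℤ) := B.map Cfsg.Lib.Concrete.dblHom with hA
  have hAidx : A.index = 2 ^ 48 := by
    have hd := Cfsg.Lib.Concrete.index_range_dblHom
    rw [hA, AddSubgroup.index_map_of_injective _ Cfsg.Lib.Concrete.dblHom_injective, hBidx, hd, ← pow_add]
  have hAL : A ≤ Cfsg.leechLattice := by
    rintro _ ⟨u, hu, rfl⟩
    obtain ⟨hpar, h4⟩ := hmemB.1 hu
    refine Cfsg.Lib.Concrete.mem_leechLattice_iff.2 (Cfsg.Lib.Concrete.mem_leechSet_iff.2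
      ⟨0, fun _ => ((u none : ℤ) : ZMod 2), ?_, fun p => ?_, ?_⟩)
    · have h : (fun _ => ((u none : ℤ) : ZMod 2) : Cfsg.GolayPt → ZMod 2) = ((u none : ℤ) : ZMod 2) • 1 := by
        funext p; simp
      rw [h]
      exact Submodule.smul_mem _ _ Cfsg.Lib.Concrete.one_mem_golayCode
    · show 2 • u p ≡ _ [ZMOD 4]
      have h1 := hpar p
      have h2 : ((((u none : ℤ) : ZMod 2).val : ℕ) : ℤ) = u none % 2 := ZMod.val_intCast _
      rw [h2, nsmul_eq_mul]
      unfold Int.ModEq
      omega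
    · have hs : ∑ p, (Cfsg.Lib.Concrete.dblHom u) p = 2 * ∑ p, u p := by
        rw [Finset.mul_sum]
        exact Finset.sum_congr rfl fun p _ => by simp [Cfsg.Lib.Concrete.dblHom]
      have h6 : ∀ p, (2 : ℤ) ∣ u p - u none := hpar
      have h5 : (2 : ℤ) ∣ ∑ p, u p := by
        have h : ∑ p, u p = ∑ p, (u p - u none) + 24 * u none := by
          rw [Finset.sum_sub_distrib, Finset.sum_const, Finset.card_univ,
            show Fintype.card Cfsg.GolayPt = 24 by rfl]
          simp
        rw [h]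
        exact dvd_add (Finset.dvd_sum fun p _ => h6 p) (dvd_mul_of_dvd_left (by norm_num) _)
      rw [hs]
      unfold Int.ModEq
      omega
  refine ⟨A, hAL, fun v hv => ?_, ?_, ?_⟩
  · refine ⟨v, hmemB.2 ?_, by funext p; simp [Cfsg.Lib.Concrete.dblHom]⟩
    obtain ⟨m, w, hw, hpt, hsum⟩ := Cfsg.Lib.Concrete.mem_leechSet_iff.1 (Cfsg.Lib.Concrete.mem_leechLattice_iff.1 hv)
    refine ⟨fun p => ?_, ?_⟩
    · have h1 := hpt p
      have h2 := hpt none
      unfold Int.ModEq at h1 h2
      omega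
    · unfold Int.ModEq at hsum
      omega
  · have h := AddSubgroup.relIndex_mul_index hAL
    rw [Cfsg.Lib.Concrete.index_leech, hAidx] at h
    show A.relIndex Cfsg.leechLattice = 2 ^ 12
    have : A.relIndex Cfsg.leechLattice * 2 ^ 36 = 2 ^ 12 * 2 ^ 36 := by rw [h]; norm_num
    exact Nat.eq_of_mul_eq_mul_right (by norm_num) this
  · rintro _ ⟨u, hu, rfl⟩
    obtain ⟨hpar, h4⟩ := hmemB.1 hu
    have hs : Cfsg.sqNorm (Cfsg.Lib.Concrete.dblHom u) = 4 * ∑ p, u p ^ 2 := by
      rw [Cfsg.sqNorm, Finset.mul_sum]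
      exact Finset.sum_congr rfl fun p _ => by simp [Cfsg.Lib.Concrete.dblHom]; ring
    rw [hs, show (32 : ℤ) = 4 * 8 from rfl]
    refine mul_dvd_mul_left _ ?_
    rcases Int.even_or_odd (u none) with ⟨a, ha⟩ | ⟨a, ha⟩
    · choose c hc using fun p => (show (2 : ℤ) ∣ u p by have := hpar p; omega)
      have h1 : ∑ p, u p ^ 2 = 4 * ∑ p, c p ^ 2 := by
        rw [Finset.mul_sum]; exact Finset.sum_congr rfl fun p _ => by rw [hc p]; ring
      have h2 : ∑ p, u p = 2 * ∑ p, c p := by
        rw [Finset.mul_sum]; exact Finset.sum_congr rfl fun p _ => hc p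
      have h3 : (2 : ℤ) ∣ ∑ p, c p := by omega
      have h5 : (2 : ℤ) ∣ ∑ p, c p ^ 2 := by
        have h : ∑ p, c p ^ 2 = ∑ p, (c p ^ 2 - c p) + ∑ p, c p := by
          rw [← Finset.sum_add_distrib]; exact Finset.sum_congr rfl fun p _ => by ring
        rw [h]
        refine dvd_add (Finset.dvd_sum fun p _ => ?_) h3
        have := Int.even_mul_pred_self (c p)
        rw [show c p ^ 2 - c p = c p * (c p - 1) by ring]
        exact this.two_dvd
      rw [h1]; omega
    · choose c hc using fun p => (show ∃ c, u p = 2 * c + 1 by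
        have := hpar p; exact ⟨(u p - 1) / 2, by omega⟩)
      have h1 : ∑ p, u p ^ 2 = 4 * ∑ p, (c p * (c p + 1)) + 24 := by
        rw [Finset.mul_sum]
        have h : (24 : ℤ) = ∑ _p : Cfsg.GolayPt, (1 : ℤ) := by
          rw [Finset.sum_const, Finset.card_univ, show Fintype.card Cfsg.GolayPt = 24 by rfl]; simp
        rw [h, ← Finset.sum_add_distrib]
        exact Finset.sum_congr rfl fun p _ => by rw [hc p]; ring
      have h2 : (2 : ℤ) ∣ ∑ p, (c p * (c p + 1)) :=
        Finset.dvd_sum fun p _ => (Int.even_mul_succ_self (c p)).two_dvd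
      rw [h1]; omega

end Cfsg.Agent.S5553
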