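import Cfsg.Statements.S5555
import Cfsg.Agent.Lib.Fischer.TwoThree.Quotient

set_option autoImplicit false
open Cfsg

namespace Cfsg.Agent.S5555

/-- Let G be a finite group generated by a conjugacy class D of 3-transpositions, with trivial centre and with generalized Fitting subgroup F*(G) = O₂(G) (so the Fitting subgroup is O₂(G) too). If G/O₂(G) is isomorphic to the derived group of SU₃(2) (the group of order 54 generated by nine 3-transpositions), then O₂(G) has a complement in G. -/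
theorem result {G : Type*} [Group G] [Finite G] {D : Set G} (hD : Cfsg.IsThreeTranspositionClass D)
    (hZ : Subgroup.center G = ⊥) (hF : Cfsg.generalizedFittingSubgroup G = Cfsg.pCore 2 G)
    (hq : ∃ (F : Type) (_ : Field F) (_ : Fintype F), Fintype.card F = 4 ∧ Nonempty (G ⧸ Cfsg.pCore 2 G ≃* ↥(commutator ↥(Cfsg.SU 3 F 2)))) :
    ∃ K : Subgroup G, (Cfsg.pCore 2 G).IsComplement' K := by
  have hT := Cfsg.Lib.Fischer.trans_of_class hD
  haveI : Fact (Nat.Prime 3) := ⟨Nat.prime_three⟩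
  have hne : ∃ a ∈ D, ∃ b ∈ D, a ≠ b := by
    by_contra h
    push Not at h
    obtain ⟨d, hd⟩ := hT.ne
    have hc : d ∈ Subgroup.center G := Subgroup.mem_center_iff.2 fun g => by
      have := h _ (hT.conj g d hd) d hd
      exact mul_inv_eq_iff_eq_mul.1 this
    rw [hZ, Subgroup.mem_bot] at hc
    exact Cfsg.Lib.Fischer.ne_one hT hd hc
  obtain ⟨F, _, _, hF4, ⟨e⟩⟩ := hq
  obtain ⟨a, u, d', -, hb⟩ := Cfsg.Lib.Fischer.TwoThree.exists_model hF4
  have hcard : Nat.card (G ⧸ Cfsg.pCore 2 G) = 2 * 3 ^ 3 := by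
    rw [Nat.card_congr e.toEquiv, ← Nat.card_congr (Equiv.ofBijective _ hb)]
    simp [Cfsg.Lib.Fischer.TwoThree.Word, Nat.card_eq_fintype_card]
  have h232 : ∃ P : Sylow 3 (G ⧸ Cfsg.pCore 2 G), (P : Subgroup (G ⧸ Cfsg.pCore 2 G)).Normal ∧
      ∃ k : ℕ, (P : Subgroup (G ⧸ Cfsg.pCore 2 G)).index = 2 ^ k := by
    obtain ⟨P⟩ := (inferInstance : Nonempty (Sylow 3 (G ⧸ Cfsg.pCore 2 G)))
    have hfac : (2 * 3 ^ 3 : ℕ).factorization 3 = 3 := by
      rw [Nat.factorization_mul (by norm_num) (by norm_num), Nat.Prime.factorization_pow Nat.prime_three]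
      simp [Nat.prime_two.factorization]
    have hP : Nat.card (P : Subgroup (G ⧸ Cfsg.pCore 2 G)) = 3 ^ 3 := by
      rw [P.card_eq_multiplicity, hcard, hfac]
    have hi : (P : Subgroup (G ⧸ Cfsg.pCore 2 G)).index = 2 := by
      have h := (P : Subgroup (G ⧸ Cfsg.pCore 2 G)).index_mul_card
      rw [hP, hcard] at h
      omega
    exact ⟨P, Subgroup.normal_of_index_eq_two hi, 1, by rw [hi]; rfl⟩
  obtain ⟨P, d, S⟩ := Cfsg.Lib.Fischer.TwoThree.exists_setup hT hne hF h232
  exact ⟨_, S.isComplement⟩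

end Cfsg.Agent.S5555
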