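import Cfsg.Statements.S5556
import Cfsg.Agent.Lib.Fischer.RadicalAbelian.ComplementFive

set_option autoImplicit false
open Cfsg Cfsg.Lib.Fischer Cfsg.Lib.Fischer.RadicalAbelian Cfsg.Lib.Linear.Herm

namespace Cfsg.Agent.S5556

/-- Let G be a finite group generated by a conjugacy class D of 3-transpositions, with trivial centre and with generalized Fitting subgroup F*(G) = O₂(G) (so the Fitting subgroup is O₂(G) too). If G/O₂(G) is isomorphic to SU₅(2), then O₂(G) is elementary abelian and has a complement in G. -/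
theorem result {G : Type*} [Group G] [Finite G] {D : Set G} (hD : Cfsg.IsThreeTranspositionClass D)
    (hZ : Subgroup.center G = ⊥) (hF : Cfsg.generalizedFittingSubgroup G = Cfsg.pCore 2 G)
    (hq : ∃ (F : Type) (_ : Field F) (_ : Fintype F), Fintype.card F = 4 ∧ Nonempty (G ⧸ Cfsg.pCore 2 G ≃* ↥(Cfsg.SU 5 F 2))) :
    Cfsg.IsElementaryAbelian 2 (Cfsg.pCore 2 G) ∧ ∃ K : Subgroup G, (Cfsg.pCore 2 G).IsComplement' K := by
  obtain ⟨F, _, _, hF4, ⟨e⟩⟩ := hq
  have hC := Cfsg.Lib.Core.centralizer_generalizedFitting_le (G := G)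
  rw [hF] at hC
  have hF' : Fintype.card F = 2 ^ 2 := hF4
  have hT := trans_of_class hD
  have hS := hB_isSymm hF' 5
  have hND := hB_nondegenerate hF' 5
  have h5 : Module.finrank F (Fin 5 → F) = 5 := Module.finrank_fin_fun F
  obtain ⟨Q⟩ := exists_quot hF4 (n := 5) (by omega) hT hZ e
  have S := Q.hyp hS hND h5.ge hT hZ hC
  have hV := isElementaryAbelian S (covers_five Q hS hND h5 S (odd_card_isotropic hF' 5 (by omega)))
  obtain ⟨z, hz⟩ := exists_twist Q hS hND h5 hT
  exact ⟨hV, exists_complement hT hV hZ hz⟩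

end Cfsg.Agent.S5556
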