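import Cfsg.Statements.S5558
import Cfsg.Agent.Lib.Fischer.UniqueClass.Main

set_option autoImplicit false
open Cfsg
open scoped IsMulCommutative

namespace Cfsg.Agent.S5558

/-- Let G be a finite group generated by a conjugacy class D of 3-transpositions, with trivial centre and with generalized Fitting subgroup F*(G) = O₂(G) (so the Fitting subgroup is O₂(G) too). If moreover O₂(G) is elementary abelian, then D is the only conjugacy class of 3-transpositions generating G. -/
theorem result {G : Type*} [Group G] [Finite G] {D : Set G} (hD : Cfsg.IsThreeTranspositionClass D)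
    (hZ : Subgroup.center G = ⊥) (hF : Cfsg.generalizedFittingSubgroup G = Cfsg.pCore 2 G)
    (hV : Cfsg.IsElementaryAbelian 2 (Cfsg.pCore 2 G)) :
    ∀ E : Set G, Cfsg.IsThreeTranspositionClass E → E = D := by
  intro E hE
  haveI := hV.1
  have V : Cfsg.Lib.Fischer.UniqueClass.Core G (Additive ↥(Cfsg.pCore 2 G)) :=
    { act := fun g => MonoidHom.toAdditive (MulAut.conjNormal (H := Cfsg.pCore 2 G) g).toMonoidHom
      emb := fun x => ((Additive.toMul x : ↥(Cfsg.pCore 2 G)) : G)
      emb_add := fun _ _ => rfl
      emb_inj := Subtype.val_injective.comp Additive.toMul.injective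
      emb_mem := fun x => (Additive.toMul x).2
      emb_surj := fun v hv => ⟨Additive.ofMul ⟨v, hv⟩, rfl⟩
      emb_act := fun g x => MulAut.conjNormal_apply g _
      two := fun x => by
        apply Additive.toMul.injective
        apply Subtype.ext
        show ((Additive.toMul x : ↥(Cfsg.pCore 2 G)) : G) * _ = 1
        rw [← pow_two]
        exact hV.2 _ (Additive.toMul x).2
      faith := fun g hg => by
        have h := Cfsg.Lib.Core.centralizer_generalizedFitting_le (G := G)
        rw [hF] at h
        refine h (Subgroup.mem_centralizer_iff.2 fun v hv => ?_)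
        have h1 : g * v * g⁻¹ = v :=
          (MulAut.conjNormal_apply g (⟨v, hv⟩ : ↥(Cfsg.pCore 2 G))).symm.trans
            (congrArg (fun y : Additive ↥(Cfsg.pCore 2 G) => ((Additive.toMul y : ↥(Cfsg.pCore 2 G)) : G))
              (hg (Additive.ofMul ⟨v, hv⟩)))
        calc v * g = g * v * g⁻¹ * g := by rw [h1]
          _ = g * v := inv_mul_cancel_right _ _
      centerless := hZ }
  exact Set.Subset.antisymm
    (Cfsg.Lib.Fischer.UniqueClass.subset_of_classes
      (Cfsg.Lib.Fischer.trans_of_class hE) (Cfsg.Lib.Fischer.trans_of_class hD) V)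
    (Cfsg.Lib.Fischer.UniqueClass.subset_of_classes
      (Cfsg.Lib.Fischer.trans_of_class hD) (Cfsg.Lib.Fischer.trans_of_class hE) V)

end Cfsg.Agent.S5558
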