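import Cfsg.Statements.S5560
import Cfsg.Agent.Lib.ZStar.PrimePower
-- import your own Cfsg.Agent.* helpers here

set_option autoImplicit false
open Cfsg

namespace Cfsg.Agent.S5560

/-- A Z*-type result for an odd prime p. Let G be a finite group and d an involution of G such that the product of any two conjugates of d has order a power of p. Then the product of any two conjugates of d lies in the largest normal p-subgroup O_p(G); in other words the conjugacy class of d lies in the coset O_p(G)d, and d is central modulo O_p(G). -/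
theorem result {G : Type*} [Group G] [Finite G] {p : ℕ} (hp : p.Prime) (hp2 : p ≠ 2)
    (d : G) (hd : orderOf d = 2)
    (hprod : ∀ a ∈ conjugatesOf d, ∀ b ∈ conjugatesOf d, ∃ k : ℕ, orderOf (a * b) = p ^ k) :
    ∀ a ∈ conjugatesOf d, ∀ b ∈ conjugatesOf d, a * b ∈ Cfsg.pCore p G := by
  intro a ha b hb
  obtain ⟨g, rfl⟩ := isConj_iff.1 ha
  obtain ⟨h, rfl⟩ := isConj_iff.1 hb
  have h1 := Lib.ZStar.prod_conj_mem_pCore hp hp2 d hd (fun k => hprod d (mem_conjugatesOf_self)
    _ (isConj_iff.2 ⟨k, rfl⟩)) (g⁻¹ * h)
  have hn : (Cfsg.pCore p G).Normal := inferInstance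
  have h2 := hn.conj_mem _ h1 g
  convert h2 using 1
  group

end Cfsg.Agent.S5560
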