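import Cfsg.Statements.S5562
import Mathlib

set_option autoImplicit false
open Cfsg

namespace Cfsg.Agent.S5562

/-- Let G be a finite group, d an involution of G whose conjugates pairwise have products of odd order, and x any involution of G. Then the conjugacy class of d is the disjoint union, over the conjugates a of d commuting with x, of the sets of conjugates of d commuting with ax: every conjugate of d commutes with ax for exactly one conjugate a of d that commutes with x. -/
theorem result {G : Type*} [Group G] [Finite G] (d : G) (hd : orderOf d = 2)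
    (hodd : ∀ a ∈ conjugatesOf d, ∀ b ∈ conjugatesOf d, Odd (orderOf (a * b)))
    (x : G) (hx : orderOf x = 2) :
    ∀ e ∈ conjugatesOf d,
      ∃! a : G, a ∈ conjugatesOf d ∧ Commute a x ∧ Commute e (a * x) := by
  intro e he
  have dd : d * d = 1 := by rw [← pow_two, ← hd, pow_orderOf_eq_one]
  have inv : ∀ a ∈ conjugatesOf d, a * a = 1 := by
    intro a ha
    obtain ⟨c, rfl⟩ := isConj_iff.1 (show IsConj d a from ha)
    rw [show c * d * c⁻¹ * (c * d * c⁻¹) = c * (d * d) * c⁻¹ by group, dd, mul_one, mul_inv_cancel]
  have xx : x * x = 1 := by rw [← pow_two, ← hx, pow_orderOf_eq_one]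
  have cl : ∀ g : G, ∀ a ∈ conjugatesOf d, g * a * g⁻¹ ∈ conjugatesOf d := fun g a ha =>
    (show IsConj d a from ha).trans (isConj_iff.2 ⟨g, rfl⟩)
  set e' := x * e * x with he'def
  have he' : e' ∈ conjugatesOf d := by
    have := cl x e he
    rwa [inv_eq_of_mul_eq_one_left xx] at this
  set r := e' * e with hr
  obtain ⟨s, hs⟩ := hodd e' he' e he
  have hrpow : r ^ (2 * s + 1) = 1 := by rw [← hs]; exact pow_orderOf_eq_one r
  have ei : e⁻¹ = e := inv_eq_of_mul_eq_one_left (inv e he)
  have e'i : e'⁻¹ = e' := inv_eq_of_mul_eq_one_left (inv e' he')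
  have her : e * r * e = r⁻¹ := by
    rw [hr, mul_inv_rev, ei, e'i, mul_assoc, mul_assoc, inv e he, mul_one]
  have herk : ∀ k : ℕ, e * r ^ k * e = (r ^ k)⁻¹ := by
    intro k
    have := conj_pow (i := k) (a := e) (b := r)
    rw [ei, her] at this
    rw [← this, inv_pow]
  obtain ⟨a, ha⟩ : ∃ a : G, a = e * r ^ s := ⟨_, rfl⟩
  have haD : a ∈ conjugatesOf d := by
    have h1 := cl (r ^ (s * s)) e he
    have h2 : r ^ (s * s) * e * (r ^ (s * s))⁻¹ = a := by
      have h3 : r ^ (s * s) * e = e * (r ^ (s * s))⁻¹ := by
        rw [← herk (s * s), ← mul_assoc, ← mul_assoc, inv e he, one_mul]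
      rw [h3, mul_assoc, ← mul_inv_rev, ← pow_add, ha]
      congr 1
      rw [inv_eq_iff_mul_eq_one, ← pow_add, show s * s + s * s + s = (2 * s + 1) * s by ring, pow_mul, hrpow, one_pow]
    rwa [h2] at h1
  have haa : a * e' * a = e := by
    have h1 : e' = r * e := by rw [hr, mul_assoc, inv e he, mul_one]
    rw [ha, h1]
    calc e * r ^ s * (r * e) * (e * r ^ s) = e * (r ^ s * r * (e * e) * r ^ s) := by group
      _ = e * r ^ (2 * s + 1) := by rw [inv e he, mul_one, ← pow_succ, ← pow_add]; congr 2; omega
      _ = e := by rw [hrpow, mul_one]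
  have hax : Commute a x := by
    have hxr : x * r * x = r⁻¹ := by
      rw [hr, mul_inv_rev, ei, e'i, he'def]
      calc x * (x * e * x * e) * x = (x * x) * e * (x * e * x) := by group
        _ = e * (x * e * x) := by rw [xx, one_mul]
    have hxrs : x * r ^ s * x = (r ^ s)⁻¹ := by
      have := conj_pow (i := s) (a := x) (b := r)
      rw [inv_eq_of_mul_eq_one_left xx, hxr] at this
      rw [← this, inv_pow]
    have hxa : x * a * x = a := by
      rw [ha]
      calc x * (e * r ^ s) * x = x * e * x * (x * r ^ s * x) := by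
            rw [show x * e * x * (x * r ^ s * x) = x * e * (x * x) * r ^ s * x by group, xx]; group
        _ = e' * (r ^ s)⁻¹ := by rw [hxrs]
        _ = r * e * (r ^ s)⁻¹ := by rw [hr, mul_assoc e' e e, inv e he, mul_one]
        _ = e * (r⁻¹ * (r ^ s)⁻¹) := by
            rw [← her]
            calc r * e * (r ^ s)⁻¹ = (e * e) * r * e * (r ^ s)⁻¹ := by rw [inv e he, one_mul]
              _ = _ := by group
        _ = e * r ^ s := by
            congr 1
            rw [← mul_inv_rev, inv_eq_iff_mul_eq_one, ← pow_succ, ← pow_add, show s + 1 + s = 2 * s + 1 by omega, hrpow]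
    show a * x = x * a
    calc a * x = (x * a * x) * x := by rw [hxa]
      _ = x * a := by rw [mul_assoc, xx, mul_one]
  refine ⟨a, ⟨haD, hax, ?_⟩, ?_⟩
  · show e * (a * x) = a * x * e
    calc e * (a * x) = a * e' * (a * a) * x := by nth_rewrite 1 [← haa]; group
      _ = a * e' * x := by rw [inv a haD, mul_one]
      _ = a * x * e * (x * x) := by rw [he'def]; group
      _ = _ := by rw [xx, mul_one]
  · rintro b ⟨hbD, -, hbe⟩
    have bb := inv b hbD
    have aa := inv a haD
    have hbe' : b * e' * b = e := by
      have h : e * (b * x) = b * x * e := hbe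
      calc b * e' * b = (b * x * e) * x * b := by rw [he'def]; group
        _ = e * b * (x * x) * b := by rw [← h]; group
        _ = e := by rw [xx, mul_one, mul_assoc, bb, mul_one]
    have ai : a⁻¹ = a := inv_eq_of_mul_eq_one_left aa
    have bi : b⁻¹ = b := inv_eq_of_mul_eq_one_left bb
    set h := a * b with hh
    have hee : e' = b * e * b := by
      rw [← hbe', show b * (b * e' * b) * b = (b * b) * e' * (b * b) by group, bb, one_mul, mul_one]
    have he_h : Commute h e := by
      show a * b * e = e * (a * b)
      conv_rhs => rw [← haa, hee]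
      rw [show a * (b * e * b) * a * (a * b) = a * b * e * b * (a * a) * b by group, aa, mul_one,
        mul_assoc (a * b * e), bb, mul_one]
    have hha : a * h * a = h⁻¹ := by
      rw [hh, mul_inv_rev, ai, bi, ← mul_assoc, aa, one_mul]
    have hhb : b * h * b = h⁻¹ := by
      rw [hh, mul_inv_rev, ai, bi, mul_assoc, mul_assoc a b b, bb, mul_one]
    have he'_h : Commute h e' := by
      rw [hee]
      have h1 : Commute (b * h⁻¹ * b) (b * e * b) := by
        show b * h⁻¹ * b * (b * e * b) = b * e * b * (b * h⁻¹ * b)
        rw [show b * h⁻¹ * b * (b * e * b) = b * h⁻¹ * (b * b) * e * b by group,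
          show b * e * b * (b * h⁻¹ * b) = b * e * (b * b) * h⁻¹ * b by group, bb, mul_one, mul_one,
          mul_assoc b h⁻¹ e, (he_h.inv_left).eq, ← mul_assoc]
      have h2 : b * h⁻¹ * b = h := by
        rw [← hhb, show b * (b * h * b) * b = (b * b) * h * (b * b) by group, bb, one_mul, mul_one]
      rwa [h2] at h1
    have hah : Commute h a := by
      rw [ha]
      exact he_h.mul_right ((he'_h.mul_right he_h).pow_right s)
    have h2 : h * h = 1 := by
      have : a * h * a = h := by rw [← hah.eq, mul_assoc, aa, mul_one]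
      rw [hha] at this
      rw [mul_eq_one_iff_inv_eq]; exact this
    obtain ⟨k, hk⟩ := hodd a haD b hbD
    have h1 : h ^ (2 * k + 1) = 1 := by rw [← hk, hh, pow_orderOf_eq_one]
    rw [pow_succ, pow_mul, pow_two, h2, one_pow, one_mul] at h1
    rw [eq_inv_of_mul_eq_one_left h1, bi]

end Cfsg.Agent.S5562
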