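import Cfsg.Statements.S5567
import Cfsg.Agent.Lib.JankoFour.Setting
import Cfsg.Agent.Lib.JankoFour.Split

set_option autoImplicit false
open Cfsg

namespace Cfsg.Agent.S5567

/-- Let G be a finite non-abelian simple group of Janko-four type (an involution z whose centralizer H has an extraspecial largest normal 2-subgroup E of order 2^13 containing its centralizer in H, a normal subgroup N ≥ E of H with N/E of order 3 and H/N the automorphism group of M₂₂, and a subgroup P ≤ N of order 3 with C_E(P) = ⟨z⟩, N_H(P) ≠ C_H(P) and P ≤ C_H(P)′). Then every elementary abelian subgroup V of G of order 2^11 contains its centralizer, and its normalizer is a split extension of V by a complement isomorphic to the Mathieu group M₂₄. -/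
theorem result {G : Type*} [Group G] [Finite G] [IsSimpleGroup G] (hG : ¬ IsMulCommutative G) (hJ : Cfsg.IsOfJankoFourType G) (V : Subgroup G) (hV : Cfsg.IsElementaryAbelian 2 V) (hcard : Nat.card ↥V = 2 ^ 11) :
    Subgroup.centralizer (V : Set G) ≤ V ∧ ∃ K : Subgroup G, K ≤ Subgroup.normalizer (V : Set G) ∧ K ⊓ V = ⊥ ∧ K ⊔ V = Subgroup.normalizer (V : Set G) ∧ Cfsg.Spor.IsoM24 ↥K := by
  obtain ⟨z, hJ⟩ := hJ
  obtain ⟨F, S, -, ⟨C⟩⟩ := Lib.JankoFour.exists_setting hG hJ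
  obtain ⟨g, hg⟩ := S.conj_big (Lib.JankoFour.isBig_of_elementary hV hcard)
  obtain ⟨ψ, hψ, hk, -⟩ := C.exists_psi
  obtain ⟨σ, hσ⟩ := C.exists_section ψ hψ hk
  have hmem : ∀ x : G, x ∈ V ↔ g * x * g⁻¹ ∈ S.Vb := fun x => by rw [← hg, Lib.JankoFour.mem_map_conj]
  let φ : ↥Cfsg.M24 →* G := (MulAut.conj g⁻¹).toMonoidHom.comp (S.NV.subtype.comp σ)
  have hφ : ∀ h, g * φ h * g⁻¹ = σ h := fun h => by
    show g * (g⁻¹ * (σ h : G) * g⁻¹⁻¹) * g⁻¹ = σ h
    group
  have hone : ∀ n : ↥S.NV, ψ n = 1 ↔ (n : G) ∈ S.Vb := fun n => by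
    rw [← MonoidHom.mem_ker, hk, Subgroup.mem_subgroupOf]
  have hinj : Function.Injective φ := fun a b e => by
    rw [← hσ a, ← hσ b, Subtype.ext (show (σ a : G) = σ b by rw [← hφ a, e, hφ b])]
  refine ⟨fun x hx => (hmem x).2 (S.centralizer_le (Subgroup.mem_centralizer_iff.2 fun y hy => ?_)), φ.range, ?_, ?_,
    ?_, ⟨(MonoidHom.ofInjective hinj).symm⟩⟩
  · have h := Subgroup.mem_centralizer_iff.1 hx (g⁻¹ * y * g)
      ((hmem _).2 (by rwa [show g * (g⁻¹ * y * g) * g⁻¹ = y by group]))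
    calc y * (g * x * g⁻¹) = g * ((g⁻¹ * y * g) * x) * g⁻¹ := by group
      _ = g * x * g⁻¹ * y := by rw [h]; group
  · rintro _ ⟨h, rfl⟩
    exact (S.map_normalizer hg).2 ((hφ h).symm ▸ (σ h).2)
  · refine (Subgroup.eq_bot_iff_forall _).2 ?_
    rintro _ ⟨⟨h, rfl⟩, hv⟩
    have h1 : ψ (σ h) = 1 := (hone _).2 (hφ h ▸ (hmem _).1 hv)
    rw [hσ] at h1
    rw [h1, map_one]
  · refine le_antisymm (sup_le ?_ Subgroup.le_normalizer) fun x hx => ?_
    · rintro _ ⟨h, rfl⟩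
      exact (S.map_normalizer hg).2 ((hφ h).symm ▸ (σ h).2)
    · let m : ↥S.NV := ⟨g * x * g⁻¹, (S.map_normalizer hg).1 hx⟩
      have hv : (φ (ψ m))⁻¹ * x ∈ V := by
        have h1 := (hone ((σ (ψ m))⁻¹ * m)).1 (by rw [map_mul, map_inv, hσ, inv_mul_cancel])
        rw [Subgroup.coe_mul, Subgroup.coe_inv, ← hφ] at h1
        refine (hmem _).2 ?_
        convert h1 using 1
        show g * ((φ (ψ m))⁻¹ * x) * g⁻¹ = (g * φ (ψ m) * g⁻¹)⁻¹ * (g * x * g⁻¹)
        group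
      have := Subgroup.mul_mem_sup (S := φ.range) (T := V) ⟨ψ m, rfl⟩ hv
      rwa [mul_inv_cancel_left] at this

end Cfsg.Agent.S5567
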