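import Cfsg.Statements.S5568
import Cfsg.Agent.Lib.JankoFour.Setting

set_option autoImplicit false
open Cfsg

namespace Cfsg.Agent.S5568

/-- Let G be a finite non-abelian simple group of Janko-four type (an involution z whose centralizer H has an extraspecial largest normal 2-subgroup E of order 2^13 containing its centralizer in H, a normal subgroup N ≥ E of H with N/E of order 3 and H/N the automorphism group of M₂₂, and a subgroup P ≤ N of order 3 with C_E(P) = ⟨z⟩, N_H(P) ≠ C_H(P) and P ≤ C_H(P)′). Let V be an elementary abelian subgroup of G of order 2^11. Then under conjugation by the normalizer of V the non-identity elements of V fall into an orbit of length 1771 consisting of conjugates of z and an orbit of length 276 consisting of involutions t not conjugate to z, and for such t the centralizer of t in G lies in the normalizer of V. -/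
theorem result {G : Type*} [Group G] [Finite G] [IsSimpleGroup G] (hG : ¬ IsMulCommutative G) (z : G) (hJ : Cfsg.IsOfJankoFourTypeAt z) (V : Subgroup G) (hV : Cfsg.IsElementaryAbelian 2 V) (hcard : Nat.card ↥V = 2 ^ 11) :
    ∃ z' t : G, z' ∈ V ∧ t ∈ V ∧ t ≠ 1 ∧ IsConj z z' ∧ ¬ IsConj z t ∧
    Set.ncard {v : G | ∃ n ∈ Subgroup.normalizer (V : Set G), n * z' * n⁻¹ = v} = 1771 ∧
    Set.ncard {v : G | ∃ n ∈ Subgroup.normalizer (V : Set G), n * t * n⁻¹ = v} = 276 ∧
    Subgroup.centralizer ({t} : Set G) ≤ Subgroup.normalizer (V : Set G) := by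
  classical
  obtain ⟨F, S, rfl, ⟨C⟩⟩ := Lib.JankoFour.exists_setting hG hJ
  obtain ⟨g, hg⟩ := S.conj_big (Lib.JankoFour.isBig_of_elementary hV hcard)
  obtain ⟨-, -, -, h1771, h276, hcls, -⟩ := C.model
  have hnc : ¬ IsConj F.z (C.el 2) := (C.el_two_cls).2
  have horb : ∀ a : G, Set.ncard {v : G | ∃ n ∈ Subgroup.normalizer (V : Set G),
      n * (g⁻¹ * a * g) * n⁻¹ = v} = (S.orb a).ncard := by
    intro a
    rw [← Set.ncard_image_of_injective (S.orb a) (MulAut.conj g⁻¹).injective]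
    congr 1
    ext v
    constructor
    · rintro ⟨n, hn, rfl⟩
      refine ⟨g * n * g⁻¹ * a * (g * n * g⁻¹)⁻¹, ⟨_, (S.map_normalizer hg).1 hn, rfl⟩, ?_⟩
      simp [MulAut.conj_apply, mul_assoc]
    · rintro ⟨_, ⟨m, hm, rfl⟩, rfl⟩
      refine ⟨g⁻¹ * m * g, (S.map_normalizer hg).2 ?_, by simp [MulAut.conj_apply, mul_assoc]⟩
      rwa [show g * (g⁻¹ * m * g) * g⁻¹ = m by group]
  have hmem : ∀ a ∈ S.Vb, g⁻¹ * a * g ∈ V := fun a ha => by
    rw [← Lib.JankoFour.mem_map_conj (d := g), hg, show g * (g⁻¹ * a * g) * g⁻¹ = a by group]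
    exact ha
  have ht : C.el 2 ∈ S.orb (C.nz 1) := (C.inD_iff_orb (by norm_num)).2 (by decide +kernel)
  refine ⟨g⁻¹ * F.z * g, g⁻¹ * C.el 2 * g, hmem _ S.z_mem, hmem _ (C.el_mem 2), fun e => C.el_two_cls.1 ?_, ?_, ?_,
    (horb F.z).trans h1771, (horb (C.el 2)).trans (by rw [S.orb_eq ht]; exact h276), ?_⟩
  · calc C.el 2 = g * (g⁻¹ * C.el 2 * g) * g⁻¹ := by group
      _ = 1 := by rw [e]; group
  · exact isConj_iff.2 ⟨g⁻¹, by rw [inv_inv]⟩
  · intro h
    exact hnc (h.trans (isConj_iff.2 ⟨g, by group⟩))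
  · intro x hx
    refine (S.map_normalizer hg).2 (C.centralizer_le_NV (C.el_mem 2) C.el_two_cls.1 hnc ?_)
    rw [Subgroup.mem_centralizer_singleton_iff] at hx ⊢
    calc g * x * g⁻¹ * C.el 2 = g * (x * (g⁻¹ * C.el 2 * g)) * g⁻¹ := by group
      _ = C.el 2 * (g * x * g⁻¹) := by rw [hx]; group

end Cfsg.Agent.S5568
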