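import Cfsg.Statements.S5574
import Cfsg.Agent.Lib.JankoFour.FromHyp
import Cfsg.Agent.Lib.JankoFour.Results
import Cfsg.Agent.Lib.JankoFourLocal.PentadLift
import Cfsg.Agent.Lib.JankoFourLocal.PointFacts

set_option autoImplicit false
open Cfsg

namespace Cfsg.Agent.S5574

/-- Let G be a finite non-abelian simple group of Janko-four type (an involution z whose centralizer H has an extraspecial largest normal 2-subgroup E of order 2^13 containing its centralizer in H, a normal subgroup N ≥ E of H with N/E of order 3 and H/N the automorphism group of M₂₂, and a subgroup P ≤ N of order 3 with C_E(P) = ⟨z⟩, N_H(P) ≠ C_H(P) and P ≤ C_H(P)′). Then G has a special 2-subgroup L of order 2^15 with centre of order 8 whose normalizer M satisfies: M/L is isomorphic to the direct product of the symmetric group of degree 5 and L₃(2); L has no complement in M; M nevertheless contains subgroups isomorphic to the symmetric group of degree 5 and to L₃(2); and M contains the normalizer of some Sylow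 5-subgroup and of some Sylow 7-subgroup of G. -/
theorem result {G : Type*} [Group G] [Finite G] [IsSimpleGroup G] (hG : ¬ IsMulCommutative G) (hJ : Cfsg.IsOfJankoFourType G) :
    ∃ L : Subgroup G, Cfsg.IsSpecial 2 ↥L ∧ Nat.card ↥L = 2 ^ 15 ∧ Nat.card ↥(Subgroup.center ↥L) = 8 ∧
    Nonempty (↥(Subgroup.normalizer (L : Set G)) ⧸ L.subgroupOf (Subgroup.normalizer (L : Set G)) ≃* Equiv.Perm (Fin 5) × Matrix.SpecialLinearGroup (Fin 3) (ZMod 2)) ∧
    (∀ K : Subgroup ↥(Subgroup.normalizer (L : Set G)), ¬ (L.subgroupOf (Subgroup.normalizer (L : Set G))).IsComplement' K) ∧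
    (∃ K₁ : Subgroup G, K₁ ≤ Subgroup.normalizer (L : Set G) ∧ Nonempty (↥K₁ ≃* Equiv.Perm (Fin 5))) ∧
    (∃ K₂ : Subgroup G, K₂ ≤ Subgroup.normalizer (L : Set G) ∧ Nonempty (↥K₂ ≃* Matrix.SpecialLinearGroup (Fin 3) (ZMod 2))) ∧
    (∃ Q : Sylow 5 G, Subgroup.normalizer ((Q : Subgroup G) : Set G) ≤ Subgroup.normalizer (L : Set G)) ∧
    (∃ S : Sylow 7 G, Subgroup.normalizer ((S : Subgroup G) : Set G) ≤ Subgroup.normalizer (L : Set G)) := by
  obtain ⟨z, P, hJ⟩ := hJ
  obtain ⟨F, -, -⟩ := Lib.JankoFour.exists_frame hJ Lib.JankoFour.AutM22.facts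
  have hres := Lib.JankoFour.pResidual_two_of_simple hG
  obtain ⟨x, hx, hxi, hxo⟩ := F.exists_five_lift Lib.JankoFour.AutM22.localData
  obtain ⟨R, -⟩ := (⟨x, hx, hxi, hxo, hres⟩ :
    Lib.JankoFour.Frame.FivePt F Lib.JankoFour.AutM22.localData).exists_pentad
  obtain ⟨K₂, hK₂, e₂⟩ := R.exists_sl_three Lib.JankoFour.AutM22.pointData hres
  exact ⟨R.L, R.isSpecial, R.card_L, R.card_center_L, R.quot_equiv, R.nonsplit, R.exists_sym_five,
    ⟨K₂, fun g hg => R.mem_normalizer_L.2 (hK₂ hg), e₂⟩, R.exists_sylow_five, R.exists_sylow_seven⟩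

end Cfsg.Agent.S5574
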