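import Cfsg.Statements.S5588
import Cfsg.Agent.Lib.CosetEnum.Groups.Y555
import Cfsg.Agent.Lib.CosetEnum.Groups.Y555Spider
import Cfsg.Prelude.Def_Spor_M

set_option autoImplicit false
open Cfsg

namespace Cfsg.Agent.S5588

open Cfsg.Spor Cfsg.Lib.CosetEnum

set_option maxRecDepth 100000
set_option maxHeartbeats 1600000
set_option linter.constructorNameAsVariable false

/-- The number of a node. -/
def num : Bimonster.Gen → ℕ
  | .a => 0
  | .b1 => 1
  | .c1 => 2
  | .d1 => 3
  | .e1 => 4
  | .f1 => 5
  | .b2 => 6
  | .c2 => 7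
  | .d2 => 8
  | .e2 => 9
  | .f2 => 10
  | .b3 => 11
  | .c3 => 12
  | .d3 => 13
  | .e3 => 14
  | .f3 => 15

/-- The node with a number. -/
def letter : ℕ → Bimonster.Gen
  | 0 => .a
  | 1 => .b1
  | 2 => .c1
  | 3 => .d1
  | 4 => .e1
  | 5 => .f1
  | 6 => .b2
  | 7 => .c2
  | 8 => .d2
  | 9 => .e2
  | 10 => .f2
  | 11 => .b3
  | 12 => .c3
  | 13 => .d3
  | 14 => .e3
  | _ => .f3

/-- The numbering of the sixteen nodes. -/
def numbering : Numbering Bimonster.Gen Bimonster.edges where
  num := num
  letter := letter
  k := 16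
  num_lt := fun a => by cases a <;> decide
  letter_num := fun a => by cases a <;> rfl
  num_letter := by decide
  mem := fun a => by cases a <;> decide

/-- The spider as a free word. -/
def spider : List (FreeGroup Bimonster.Gen) :=
  [(Bimonster.a * Bimonster.b1 * Bimonster.c1 * Bimonster.a * Bimonster.b2 * Bimonster.c2 *
    Bimonster.a * Bimonster.b3 * Bimonster.c3) ^ 10]

/-- One leg round of the spider. -/
def leg : List ℕ := [12, 11, 0, 7, 6, 0, 2, 1, 0]

/-- The spider word. -/
def spiderS : List ℕ := (List.replicate 10 leg).flatten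

/-- The transposed spider word. -/
def spiderT : List ℕ := (List.replicate 10 [12, 11, 0, 2, 1, 0, 7, 6, 0]).flatten

theorem wordVal_flatten {M : Type*} [Group M] (y : ℕ → M) (w : List ℕ) : ∀ m : ℕ,
    wordVal y (List.replicate m w).flatten = wordVal y w ^ m
  | 0 => by simp [wordVal]
  | m + 1 => by
    rw [List.replicate_succ, List.flatten_cons, wordVal_append, wordVal_flatten y w m, pow_succ]

/-- The generators of the presented group. -/
def x : ℕ → CoxPresented Bimonster.Gen Bimonster.edges spider := numbering.gens spider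

theorem x_mul_self : ∀ g, x g * x g = 1 := numbering.gens_mul_self spider

theorem map_spider {M : Type*} [Group M] (y : ℕ → M) :
    spider.map (FreeGroup.lift fun a => y (numbering.num a)) = [spiderS].map (wordVal y) := by
  simp only [spider, spiderS, List.map_cons, List.map_nil, wordVal_flatten, map_pow]
  simp [leg, wordVal, gen, eps, numbering, num, mul_assoc]

/-- The seven nodes of the inner diagram. -/
def σ7 (g : ℕ) : ℕ := [0, 1, 2, 6, 7, 11, 12].getD g eps

theorem rels16 : ∀ r ∈ numbering.pairs ++ [spiderS, spiderT], wordVal x r = 1 := by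
  have h0 : ∀ r ∈ numbering.pairs ++ [spiderS], wordVal x r = 1 :=
    numbering.wordVal_gens (by decide) (map_spider _)
  intro r hr
  rcases List.mem_append.1 hr with hr | hr
  · exact h0 r (List.mem_append_left _ hr)
  rcases List.mem_cons.1 hr with rfl | hr
  · exact h0 _ (List.mem_append_right _ (List.mem_singleton_self _))
  rw [List.mem_singleton] at hr
  subst hr
  have hlt : ∀ w ∈ Y5Spider.baseWords ++ [Y5SpiderBase.spiderT], ∀ g ∈ w, g < 7 := by
    decide +kernel
  have h := Y555Spider.spiderT_eq_one (fun g => x (σ7 g)) (fun w hw => by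
    rw [WordPres.wordVal_map x (k := 7) (by decide) σ7 (by decide +kernel) w
      (hlt w (List.mem_append_left _ hw))]
    exact shift_eq_one x_mul_self (R := Y5Spider.baseWords.map fun w => w.map σ7)
      (by decide +kernel) h0 _ (List.mem_map_of_mem hw))
  rw [WordPres.wordVal_map x (k := 7) (by decide) σ7 (by decide +kernel) _
      (hlt _ (List.mem_append_right _ (List.mem_singleton_self _)))] at h
  exact shift_eq_one x_mul_self (R0 := [Y5SpiderBase.spiderT.map σ7]) (R := [spiderT])
    (by decide +kernel) (by simpa using h) _ (List.mem_singleton_self _)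

/-- The nodes of a diagram of type `Y₅₃₂` for two chosen arms and the third. -/
def σ (i j k : ℕ) (g : ℕ) : ℕ :=
  [0, i + 1, i + 2, i + 3, i + 4, i + 5, j + 1, j + 2, j + 3, k + 1, k + 2].getD g eps

theorem arm (i j k : ℕ) (hσ : ∀ g < 11, σ i j k g ≠ eps)
    (hsh : shiftsOK (numbering.pairs ++ [spiderS, spiderT])
      (Y555Fi23.relWords.map fun r => r.map (σ i j k)) = true) :
    x (i + 5) * ((x 0 * x (i + 1) * x (j + 1) * x (k + 1) * x (i + 2) * x (j + 2) * x (i + 3)) ^ 9)⁻¹ =
      1 := by
  obtain ⟨φ, hφ⟩ := WordPres.exists_hom (k := 11) (R := Y555Fi23.relWords) (by decide)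
    (by decide +kernel) (fun g => x (σ i j k g)) (fun r hr => by
      rw [WordPres.wordVal_map x (k := 11) (by decide) (σ i j k) hσ r
        ((show ∀ r ∈ Y555Fi23.relWords, ∀ g ∈ r, g < 11 by decide +kernel) r hr)]
      exact shift_eq_one x_mul_self hsh rels16 _ (List.mem_map_of_mem hr))
  replace hφ : ∀ g < 11, φ (Y555Fi23.y g) = x (σ i j k g) := hφ
  have h := congrArg φ Y555Fi23.end_eq
  rw [show Y555Fi23.e7Word = (List.replicate 9 [3, 7, 2, 9, 6, 1, 0]).flatten by decide +kernel,
    wordVal_flatten, map_pow, hφ 5 (by decide)] at h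
  rw [mul_inv_eq_one]
  refine h.trans ?_
  congr 1
  simp [wordVal, gen, eps, hφ, σ, mul_assoc]


/-- In the group presented by the sixteen involutions of the Y₅₅₅ Coxeter diagram subject only to the Coxeter relations and the single spider relation (a b₁ c₁ a b₂ c₂ a b₃ c₃)^10 = 1, each of the further relators used in the definitions' presentation of the Bimonster (each end node equals the ninth power of the Coxeter element of a sub-diagram of type E₇) already holds. Equivalently, the Y₅₅₅ diagram with the spider relation alone presents the Bimonster. -/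
theorem result :
    ∀ r ∈ Cfsg.Spor.Bimonster.extra,
      (PresentedGroup.mk (Cfsg.Spor.coxRelators Cfsg.Spor.Bimonster.edges ∪ {r' | r' ∈ [(Cfsg.Spor.Bimonster.a * Cfsg.Spor.Bimonster.b1 * Cfsg.Spor.Bimonster.c1 * Cfsg.Spor.Bimonster.a * Cfsg.Spor.Bimonster.b2 * Cfsg.Spor.Bimonster.c2 * Cfsg.Spor.Bimonster.a * Cfsg.Spor.Bimonster.b3 * Cfsg.Spor.Bimonster.c3) ^ 10]}) r) = 1 := by
  intro r hr
  simp only [Bimonster.extra, List.mem_cons, List.not_mem_nil, or_false] at hr
  suffices h : FreeGroup.lift (fun a => x (num a)) r = 1 from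
    (DFunLike.congr_fun (numbering.lift_gens spider) r).symm.trans h
  rcases hr with rfl | rfl | rfl | rfl | rfl | rfl | rfl
  · exact (DFunLike.congr_fun (numbering.lift_gens spider) _).trans
      (PresentedGroup.one_of_mem (Or.inr (List.mem_singleton_self _)))
  · simp only [map_mul, map_inv, map_pow, FreeGroup.lift_apply_of, num]
    have h := arm 0 5 10 (by decide +kernel) (by decide +kernel)
    simp only [Nat.reduceAdd] at h
    exact h
  · simp only [map_mul, map_inv, map_pow, FreeGroup.lift_apply_of, num]
    have h := arm 0 10 5 (by decide +kernel) (by decide +kernel)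
    simp only [Nat.reduceAdd] at h
    exact h
  · simp only [map_mul, map_inv, map_pow, FreeGroup.lift_apply_of, num]
    have h := arm 5 0 10 (by decide +kernel) (by decide +kernel)
    simp only [Nat.reduceAdd] at h
    exact h
  · simp only [map_mul, map_inv, map_pow, FreeGroup.lift_apply_of, num]
    have h := arm 5 10 0 (by decide +kernel) (by decide +kernel)
    simp only [Nat.reduceAdd] at h
    exact h
  · simp only [map_mul, map_inv, map_pow, FreeGroup.lift_apply_of, num]
    have h := arm 10 0 5 (by decide +kernel) (by decide +kernel)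
    simp only [Nat.reduceAdd] at h
    exact h
  · simp only [map_mul, map_inv, map_pow, FreeGroup.lift_apply_of, num]
    have h := arm 10 5 0 (by decide +kernel) (by decide +kernel)
    simp only [Nat.reduceAdd] at h
    exact h

end Cfsg.Agent.S5588
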