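import Cfsg.Statements.S5594
import Cfsg.Agent.Lib.Leech.Negation

set_option autoImplicit false
open Cfsg
open scoped Pointwise

namespace Cfsg.Agent.S5594

/-- The automorphism group of the Leech lattice contains the negation map, and the subgroup of order 2 it generates has no complement: the automorphism group is a non-split extension of its quotient by that subgroup (it is not the direct product of a group of order 2 with the first Conway group). -/
theorem result :
    ∃ n : ↥Cfsg.Co0, (∀ v : ↥Cfsg.leechLattice, ((n • v : ↥Cfsg.leechLattice) : Cfsg.GolayPt → ℤ) = -(v : Cfsg.GolayPt → ℤ)) ∧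
    ∀ K : Subgroup ↥Cfsg.Co0, ¬ (Subgroup.zpowers n).IsComplement' K := by
  refine ⟨Cfsg.Lib.Leech.rootNeg * Cfsg.Lib.Leech.rootNeg, Cfsg.Lib.Leech.rootNeg_sq, fun K hK => ?_⟩
  set g := Cfsg.Lib.Leech.rootNeg with hg
  have hn2 : (g * g) * (g * g) = 1 := by
    refine Subtype.ext (Equiv.ext fun v => Subtype.ext ?_)
    show (((g * g : ↥Cfsg.Co0) • ((g * g : ↥Cfsg.Co0) • v) : ↥Cfsg.leechLattice) : Cfsg.GolayPt → ℤ) = _
    rw [Cfsg.Lib.Leech.rootNeg_sq, Cfsg.Lib.Leech.rootNeg_sq, neg_neg]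
    rfl
  have hn1 : g * g ≠ 1 := by
    intro h
    have h1 := congrFun (Cfsg.Lib.Leech.rootNeg_sq (Cfsg.Lib.Concrete.e8 none)) none
    rw [← hg, h, one_smul] at h1
    simp [Cfsg.Lib.Concrete.e8] at h1
  have hz : ∀ w ∈ Subgroup.zpowers (g * g), w = 1 ∨ w = g * g := by
    intro w hw
    obtain ⟨k, rfl⟩ := Subgroup.mem_zpowers_iff.1 hw
    obtain ⟨m, rfl | rfl⟩ := Int.even_or_odd' k
    · left; rw [zpow_mul, zpow_two, hn2, one_zpow]
    · right; rw [zpow_add_one, zpow_mul, zpow_two, hn2, one_zpow, one_mul]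
  have hdec : g ∈ ((Subgroup.zpowers (g * g) : Set ↥Cfsg.Co0)) * (K : Set ↥Cfsg.Co0) := by
    rw [hK.mul_eq]; exact Set.mem_univ g
  obtain ⟨w, hw, k, hk, hwk⟩ := hdec
  have hcomm : Commute w g := by
    rcases hz w hw with e | e <;> rw [e]
    exacts [Commute.one_left g, (Commute.refl g).mul_left (Commute.refl g)]
  have hw2 : w * w = 1 := by
    rcases hz w hw with e | e <;> rw [e]
    exacts [one_mul 1, hn2]
  have hk2 : k * k = g * g := by
    have hk' : k = w * g := by
      have h : w * k = g := hwk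
      rw [← h, ← mul_assoc, hw2, one_mul]
    rw [hk', hcomm.symm.mul_mul_mul_comm, hw2, one_mul]
  exact hn1 (Subgroup.disjoint_def.1 hK.disjoint (Subgroup.mem_zpowers (g * g)) (hk2 ▸ mul_mem hk hk))

end Cfsg.Agent.S5594
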