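import Cfsg.Statements.S5595
import Cfsg.Agent.Lib.Extra.Large

set_option autoImplicit false
open Cfsg

namespace Cfsg.Agent.S5595

/-- Setting: `z` is an involution of the finite group `G`; for each element `x`, `Q x` denotes the largest normal 2-subgroup of the centralizer of `x`; `Q z` is extraspecial and contains its own centralizer in `G` (a large extraspecial 2-subgroup in this sense). Call the conjugates of `z` singular, and say that singular `x` is orthogonal to singular `y` when `x ∈ Q y`. Then orthogonality is symmetric: if a conjugate `x` of `z` lies in `Q z`, then `z` lies in `Q x`. -/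
theorem result {G : Type*} [Group G] [Finite G]
    (Q : G → Subgroup G)
    (hQ : ∀ x : G, Q x = (Cfsg.pCore 2 ↥(Subgroup.centralizer ({x} : Set G))).map (Subgroup.centralizer ({x} : Set G)).subtype)
    (z : G) (hz : orderOf z = 2) (hE : Cfsg.IsExtraspecial 2 ↥(Q z))
    (hC : Subgroup.centralizer ((Q z : Subgroup G) : Set G) ≤ Q z)
    (g : G) (hx : g * z * g⁻¹ ∈ Q z) : z ∈ Q (g * z * g⁻¹) := by
  have hzz : z * z = 1 := by rw [← pow_two, ← hz, pow_orderOf_eq_one]
  have hcz : Cfsg.IsExtraspecial 2 ↥(Q z) := hE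
  haveI : Fact (Nat.Prime 2) := ⟨Nat.prime_two⟩
  have hle : Q z ≤ Subgroup.centralizer ({z} : Set G) := by rw [hQ z]; exact Subgroup.map_subtype_le _
  have hzQ : z ∈ Q z := hC (Subgroup.mem_centralizer_iff.2 fun q hq =>
    Subgroup.mem_centralizer_singleton_iff.1 (hle hq))
  have hzc : z ∈ (Subgroup.center (Q z)).map (Q z).subtype := ⟨⟨z, hzQ⟩, Subgroup.mem_center_iff.2 fun q =>
    Subtype.ext (Subgroup.mem_centralizer_singleton_iff.1 (hle q.2)), rfl⟩
  have hz' : (Subgroup.center (Q z)).map (Q z).subtype = Subgroup.zpowers z := by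
    refine (Subgroup.eq_of_le_of_card_ge (Subgroup.zpowers_le.2 hzc) ?_).symm
    rw [Nat.card_zpowers, hz, Subgroup.card_map_of_injective (Q z).subtype_injective, hE.2]
  have hX : Cfsg.Lib.Extra.Ctx (Q z) z := Cfsg.Lib.Extra.ctx_of hE
    (fun c hc => ⟨⟨c, hC hc⟩, Subgroup.mem_center_iff.2 fun q => Subtype.ext
      (Subgroup.mem_centralizer_iff.1 hc q q.2), rfl⟩)
    (by
      intro c hc
      have hcz : Commute c z := (Subgroup.mem_centralizer_iff.1 hc z hzc).symm
      rw [hQ z]
      exact Cfsg.Lib.Extra.core_normalized z c hcz) hz'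
  rw [hQ (g * z * g⁻¹)]
  exact (hX.conj g).le_core (hX.mem_symm hx)

end Cfsg.Agent.S5595
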