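import Cfsg.Statements.S5599
import Cfsg.Agent.Lib.H3.GolayModule

set_option linter.style.haveILetI false

set_option autoImplicit false
open scoped Pointwise
open Cfsg

namespace Cfsg.Agent.S5599

open Cfsg.Lib.Concrete Cfsg.Lib.H3.Golay
open scoped Pointwise

theorem mem_M22 {x : Equiv.Perm GolayPt} : x ∈ Spor.M22 ↔ x ∈ M24 ∧ x none = none ∧ x (some 0) = some 0 :=
  ⟨fun h => ⟨h.1.1, h.1.2, h.2⟩, fun h => ⟨⟨h.1, h.2.1⟩, h.2.2⟩⟩

theorem mem_pair {x : Equiv.Perm GolayPt} {a b : GolayPt} (h : x • ({a, b} : Finset GolayPt) = {a, b}) :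
    x a = a ∨ x a = b := by
  have := h ▸ Finset.smul_mem_smul_finset (a := x) (Finset.mem_insert_self a {b})
  simpa using this

theorem third_pt : ∀ a b c : GolayPt, ∃ r : GolayPt, r ≠ a ∧ r ≠ b ∧ r ≠ c := fun a b c => by
  have h : ({a, b, c} : Finset GolayPt).card ≤ 3 := Finset.card_le_three
  obtain ⟨r, -, hr⟩ := Finset.exists_mem_notMem_of_card_lt_card (show ({a, b, c} : Finset GolayPt).card <
    (Finset.univ : Finset GolayPt).card by rw [Finset.card_univ]; exact lt_of_le_of_lt h (by decide))
  simp only [Finset.mem_insert, Finset.mem_singleton, not_or] at hr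
  exact ⟨r, hr⟩

/-- In the automorphism group of the length-24 code, the two-point Mathieu group (permutations of the code's group fixing the extra point and the residue 0) has index 2 in the setwise stabiliser of that pair of points, and an element of the code's group interchanging the two points normalises the two-point group and induces on it, by conjugation, an automorphism that is not inner. -/
theorem result (g : Equiv.Perm Cfsg.GolayPt) (hg : g ∈ Cfsg.M24) (h₁ : g none = some 0) (h₂ : g (some 0) = none) : Cfsg.Spor.M22.relIndex (Cfsg.M24 ⊓ MulAction.stabilizer (Equiv.Perm Cfsg.GolayPt) ({none, some 0} : Finset Cfsg.GolayPt)) = 2 ∧ (∀ x ∈ Cfsg.Spor.M22, g * x * g⁻¹ ∈ Cfsg.Spor.M22) ∧ ¬ ∃ h ∈ Cfsg.Spor.M22, ∀ x ∈ Cfsg.Spor.M22, g * x * g⁻¹ = h * x * h⁻¹ := by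
  classical
  have hn0 : (none : GolayPt) ≠ some 0 := by decide
  have hconj : ∀ x ∈ Spor.M22, g * x * g⁻¹ ∈ Spor.M22 := by
    intro x hx
    obtain ⟨hx, hn, hz⟩ := mem_M22.1 hx
    refine mem_M22.2 ⟨mul_mem (mul_mem hg hx) (inv_mem hg), ?_, ?_⟩
    · rw [Equiv.Perm.mul_apply, Equiv.Perm.mul_apply, Equiv.Perm.inv_eq_iff_eq.2 h₂.symm, hz, h₂]
    · rw [Equiv.Perm.mul_apply, Equiv.Perm.mul_apply, Equiv.Perm.inv_eq_iff_eq.2 h₁.symm, hn, h₁]
  refine ⟨?_, hconj, ?_⟩
  · rw [Subgroup.relIndex, Subgroup.index_eq_two_iff]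
    refine ⟨⟨g, hg, ?_⟩, fun b => ?_⟩
    · show g • ({none, some 0} : Finset GolayPt) = {none, some 0}
      rw [Finset.smul_finset_insert, Finset.smul_finset_singleton, Equiv.Perm.smul_def, Equiv.Perm.smul_def, h₁, h₂,
        Finset.pair_comm]
    · obtain ⟨b, hb, hbs⟩ := b
      have hbs' : b • ({none, some 0} : Finset GolayPt) = {none, some 0} := hbs
      have hbs'' : b • ({some 0, none} : Finset GolayPt) = {some 0, none} := by rwa [Finset.pair_comm]
      simp only [Subgroup.mem_subgroupOf, Subgroup.coe_mul]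
      rcases mem_pair hbs' with hn | hn
      · have hz : b (some 0) = some 0 := (mem_pair hbs'').resolve_right fun h => hn0 (b.injective (hn.trans h.symm))
        refine Or.inr ⟨mem_M22.2 ⟨hb, hn, hz⟩, fun hbg => ?_⟩
        have := (mem_M22.1 hbg).2.1
        rw [Equiv.Perm.mul_apply, h₁, hz] at this
        exact hn0 this.symm
      · have hz : b (some 0) = none := (mem_pair hbs'').resolve_left fun h => hn0 (b.injective (hn.trans h.symm))
        refine Or.inl ⟨mem_M22.2 ⟨mul_mem hb hg, ?_, ?_⟩, fun h => hn0 ((mem_M22.1 h).2.1.symm.trans hn)⟩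
        · rw [Equiv.Perm.mul_apply, h₁, hz]
        · rw [Equiv.Perm.mul_apply, h₂, hn]
  · rintro ⟨h, hh, he⟩
    obtain ⟨hhM, hhn, hhz⟩ := mem_M22.1 hh
    set c := h⁻¹ * g with hc
    have hcom : ∀ x ∈ Spor.M22, c * x = x * c := by
      intro x hx
      calc c * x = h⁻¹ * (g * x * g⁻¹) * g := by rw [hc]; group
        _ = h⁻¹ * (h * x * h⁻¹) * g := by rw [he x hx]
        _ = x * c := by rw [hc]; group
    have hfix : ∀ p, p ≠ none → p ≠ some 0 → c p = p := by
      intro p hpn hp0
      by_contra hne
      by_cases hcp : c p = none ∨ c p = some 0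
      · obtain ⟨r, hr1, hr2, hr3⟩ := third_pt none (some 0) p
        obtain ⟨k, hk, k1, k2, k3⟩ := map_three hn0 hpn hp0 hr1 hr2
        have := congrArg (fun e : Equiv.Perm GolayPt => e p) (hcom k (mem_M22.2 ⟨hk, k1, k2⟩))
        simp only [Equiv.Perm.mul_apply, k3] at this
        have hfixed : k (c p) = c p := by rcases hcp with e | e <;> rw [e] <;> assumption
        rw [hfixed] at this
        exact hr3 (c.injective this)
      · push Not at hcp
        obtain ⟨r, hr, hr'⟩ : ∃ r : GolayPt, r ∉ ({none, some 0, p} : Finset GolayPt) ∧ r ≠ c p := by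
          obtain ⟨r, -, hr⟩ := Finset.exists_mem_notMem_of_card_lt_card (show (insert (c p) {none, some 0, p} :
            Finset GolayPt).card < (Finset.univ : Finset GolayPt).card by
              rw [Finset.card_univ]
              have := Finset.card_insert_le (c p) ({none, some 0, p} : Finset GolayPt)
              have := Finset.card_le_three (a := (none : GolayPt)) (b := some 0) (c := p)
              have h24 : Fintype.card GolayPt = 24 := rfl
              omega)
          simp only [Finset.mem_insert, not_or] at hr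
          exact ⟨r, by simp [hr.2], hr.1⟩
        simp only [Finset.mem_insert, Finset.mem_singleton, not_or] at hr
        obtain ⟨r1, r2, r3⟩ := hr
        have s1 := Ne.symm r1
        have s2 := Ne.symm r2
        have s3 := Ne.symm r3
        have c1 := Ne.symm hcp.1
        have c2 := Ne.symm hcp.2
        have p1 := Ne.symm hpn
        have p2 := Ne.symm hp0
        have n1 := Ne.symm hn0
        have e3 := Ne.symm hne
        obtain ⟨c0, c0'⟩ := hcp
        obtain ⟨k, hk, hkx⟩ := exists_map (k := 4) (by norm_num) ![none, some 0, p, c p] ![none, some 0, p, r]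
          (by intro i j e; fin_cases i <;> fin_cases j <;> simp_all)
          (by intro i j e; fin_cases i <;> fin_cases j <;> simp_all)
        have := congrArg (fun e : Equiv.Perm GolayPt => e p) (hcom k (mem_M22.2 ⟨hk, hkx 0, hkx 1⟩))
        simp only [Equiv.Perm.mul_apply] at this
        rw [show k p = p from hkx 2, show k (c p) = r from hkx 3] at this
        exact hr' this.symm
    have hcM : c ∈ M24 := mul_mem (inv_mem hhM) hg
    have h1 := eq_one_of_nine_fixed hcM (s := mset 1022) (by decide +kernel) (fun p hp => by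
      have key : ∀ p : GolayPt, p ∈ mset 1022 → p ≠ none ∧ p ≠ some 0 := by decide +kernel
      exact hfix p (key p hp).1 (key p hp).2)
    exact hn0 (by
      rw [hc, inv_mul_eq_one] at h1
      rw [← h₁, ← h1, hhn])

end Cfsg.Agent.S5599
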