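import Cfsg.Statements.S5604
import Cfsg.Agent.Lib.H3.PermList
import Cfsg.Agent.Lib.MathieuBlock.Checks
import Cfsg.Agent.Lib.Concrete.ClassFacts

set_option linter.style.haveILetI false

set_option autoImplicit false
open scoped Pointwise
open Cfsg

namespace Cfsg.Agent.S5604

open Cfsg.Lib.Concrete Cfsg.Lib.H3.PermList Cfsg.Lib.MathieuBlock MulAction
open scoped Pointwise

def normList : List ℕ :=
  (List.range 7).flatMap fun k => if Nat.beq k 0 then [] else m24Norm7.list k

def centList : List ℕ := normList.filter fun p => commCheck p m24Norm7.x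

def normalises (p : ℕ) : Bool :=
  (List.range 7).any fun k => bits24.all fun i => Nat.beq (pget p (pget m24Norm7.x i)) (piter m24Norm7.x k (pget p i))

theorem normList_ok : normList.all (fun p => okIn [] p && normalises p) = true ∧ sepList normList = true ∧
    normList.Nodup ∧ normList.length = 126 ∧ centList.length = 42 := by decide +kernel

theorem cent_nonabelian : (centList.any fun p => centList.any fun q => !commCheck p q) = true := by decide +kernel

theorem trio_fixed : (trioList.any fun l => normList.all fun p => sameList (l.map (pimg p)) l) = true := by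
  decide +kernel

theorem trio_lt {l : List ℕ} (hl : l ∈ trioList) : ∀ a ∈ l, a < 2 ^ 24 := by
  have h := trioFams
  simp only [famsOk, Bool.and_eq_true, List.all_eq_true] at h
  exact (famOk_sound (h.2 l hl)).2

/-- For a subgroup S of order 7 of the group of the length-24 code (a Sylow 7-subgroup): the normaliser of S has order 126, the centraliser of S has order 42 and is non-abelian, and the whole normaliser leaves some trio invariant. (These are the orders of a Frobenius group of order 21 times a symmetric group of degree 3; the isomorphism type itself is not asserted here.) -/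
theorem result (S : Subgroup ↥Cfsg.M24) (hS : Nat.card S = 7) : Nat.card ↥(Subgroup.normalizer (S : Set ↥Cfsg.M24)) = 126 ∧ Nat.card ↥(Subgroup.centralizer (S : Set ↥Cfsg.M24)) = 42 ∧ (∃ x ∈ Subgroup.centralizer (S : Set ↥Cfsg.M24), ∃ y ∈ Subgroup.centralizer (S : Set ↥Cfsg.M24), x * y ≠ y * x) ∧ ∃ T ∈ Cfsg.trios, ∀ n ∈ Subgroup.normalizer (S : Set ↥Cfsg.M24), ((n : ↥Cfsg.M24) : Equiv.Perm Cfsg.GolayPt) • T = T := by
  classical
  haveI : Fact (Nat.Prime 7) := ⟨by norm_num⟩
  obtain ⟨x₀, hx₀, hxr, hx7, hx1⟩ := exists_x m24Good7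
  have hxM : x₀ ∈ M24 := hx₀.1
  let x : M24 := ⟨x₀, hxM⟩
  have hxord : orderOf x = 7 := orderOf_eq_prime (Subtype.ext hx7) (fun h => hx1 (congrArg Subtype.val h))
  have hfac : (Nat.card M24).factorization 7 = 1 := by
    rw [card_M24, show (244823040 : ℕ) = 7 ^ 1 * 34974720 by norm_num, Nat.factorization_mul (by norm_num) (by norm_num),
      Nat.factorization_pow]
    simp [Nat.Prime.factorization (show Nat.Prime 7 by norm_num),
      Nat.factorization_eq_zero_of_not_dvd (show ¬ 7 ∣ 34974720 by norm_num)]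
  have hcX : Nat.card (Subgroup.zpowers x) = 7 ^ (Nat.card M24).factorization 7 := by
    rw [Nat.card_zpowers, hxord, hfac, pow_one]
  have hcS : Nat.card S = 7 ^ (Nat.card M24).factorization 7 := by rw [hS, hfac, pow_one]
  obtain ⟨c, hc⟩ := MulAction.exists_smul_eq M24 (Sylow.ofCard _ hcX) (Sylow.ofCard _ hcS)
  have hcS' : MulAut.conj c • Subgroup.zpowers x = S := by
    have := congrArg (fun P : Sylow 7 M24 => (P : Subgroup M24)) hc
    simpa [Sylow.coe_subgroup_smul, Sylow.coe_ofCard] using this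
  have memS : ∀ n : M24, n ∈ S ↔ c⁻¹ * n * c ∈ Subgroup.zpowers x := by
    intro n
    rw [← hcS', Subgroup.mem_pointwise_smul_iff_inv_smul_mem, MulAut.smul_def, ← map_inv, MulAut.conj_apply, inv_inv]
  have hN : ∀ n : M24, n ∈ Subgroup.normalizer (S : Set M24) ↔
      c⁻¹ * n * c ∈ Subgroup.normalizer (Subgroup.zpowers x : Set M24) := by
    intro n
    simp only [Subgroup.mem_normalizer_iff, memS, SetLike.mem_coe]
    constructor
    · intro h y
      have := h (c * y * c⁻¹)
      simp only [mul_assoc, inv_mul_cancel_left, inv_mul_cancel, mul_one, mul_inv_rev, inv_inv] at this ⊢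
      exact this
    · intro h y
      have := h (c⁻¹ * y * c)
      simp only [mul_assoc, mul_inv_rev, inv_inv, mul_inv_cancel_left] at this ⊢
      exact this
  have hC : ∀ n : M24, n ∈ Subgroup.centralizer (S : Set M24) ↔ c⁻¹ * n * c * x = x * (c⁻¹ * n * c) := by
    intro n
    rw [Subgroup.mem_centralizer_iff]
    constructor
    · intro h
      have hin : c * x * c⁻¹ ∈ S := by
        rw [memS, show c⁻¹ * (c * x * c⁻¹) * c = x by group]; exact Subgroup.mem_zpowers x
      have h1 := h _ hin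
      calc c⁻¹ * n * c * x = c⁻¹ * (n * (c * x * c⁻¹)) * c := by group
        _ = c⁻¹ * ((c * x * c⁻¹) * n) * c := by rw [h1]
        _ = x * (c⁻¹ * n * c) := by group
    · intro h y hy
      obtain ⟨k, hk⟩ := Subgroup.mem_zpowers_iff.1 ((memS y).1 hy)
      have hy' : y = c * x ^ k * c⁻¹ := by rw [hk]; group
      have hcom : Commute (c⁻¹ * n * c) (x ^ k) := Commute.zpow_right h k
      rw [hy']
      calc c * x ^ k * c⁻¹ * n = c * (x ^ k * (c⁻¹ * n * c)) * c⁻¹ := by group
        _ = c * ((c⁻¹ * n * c) * x ^ k) * c⁻¹ := by rw [hcom.eq]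
        _ = n * (c * x ^ k * c⁻¹) := by group
  set N := Subgroup.normalizer (Subgroup.zpowers x : Set M24) with hNdef
  have hnorm : ∀ g : M24, (∃ k : ℕ, g * x * g⁻¹ = x ^ k) → g ∈ N := by
    rintro g ⟨k, hk⟩
    rw [hNdef, Subgroup.mem_normalizer_iff]
    have h1 : (Subgroup.zpowers x).map (MulAut.conj g).toMonoidHom = Subgroup.zpowers x := by
      refine Subgroup.eq_of_le_of_card_ge ?_ ?_
      · rw [MonoidHom.map_zpowers, Subgroup.zpowers_le]
        show g * x * g⁻¹ ∈ _
        rw [hk]; exact Subgroup.pow_mem _ (Subgroup.mem_zpowers x) k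
      · exact le_of_eq (Nat.card_congr (Subgroup.equivMapOfInjective _ _ (MulAut.conj g).injective).toEquiv)
    intro y
    constructor
    · intro hy; rw [← h1]; exact ⟨y, hy, rfl⟩
    · intro hy
      rw [← h1] at hy
      obtain ⟨z, hz, hze⟩ := hy
      obtain rfl := (MulAut.conj g).injective hze
      exact hz
  have hnorm' : ∀ g : M24, g ∈ N → ∃ k : ℕ, g * x * g⁻¹ = x ^ k := by
    intro g hg
    have h1 : g * x * g⁻¹ ∈ Subgroup.zpowers x := (Subgroup.mem_normalizer_iff.1 hg x).1 (Subgroup.mem_zpowers x)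
    rw [← mem_powers_iff_mem_zpowers] at h1
    obtain ⟨k, hk⟩ := h1
    exact ⟨k, hk.symm⟩
  let NP : Subgroup (Equiv.Perm GolayPt) := N.map M24.subtype
  have hexN : ∀ p ∈ normList, ∃ g ∈ NP, Rep g p := by
    intro p hp
    have h := List.all_eq_true.1 normList_ok.1 p hp
    rw [Bool.and_eq_true] at h
    obtain ⟨g, hg, hgr⟩ := exists_in h.1
    obtain ⟨k, -, hk⟩ := List.any_eq_true.1 h.2
    refine ⟨g, ⟨⟨g, hg.1⟩, hnorm _ ⟨k, ?_⟩, rfl⟩, hgr⟩
    rw [mul_inv_eq_iff_eq_mul]
    apply Subtype.ext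
    show g * x₀ = (x₀ ^ k) * g
    refine Equiv.ext fun y => gidx_injective (Fin.ext ?_)
    rw [Equiv.Perm.mul_apply, Equiv.Perm.mul_apply, hgr, hxr, piter_eq hxr, hgr]
    exact Nat.eq_of_beq_eq_true (List.all_eq_true.1 hk _ (mem_bits24.2 (gidx y).isLt))
  have hNP : Nat.card NP = 126 := by
    refine le_antisymm ?_ ?_
    · have hle := card_norm_le m24Good7 M24 (fun g hg => ⟨hg, fun j hj => absurd hj (Nat.not_lt_zero j)⟩) x hxr
        (Subtype.ext hx7) (fun h => hx1 (congrArg Subtype.val h))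
      refine le_trans (le_of_eq ?_) hle
      rw [← Nat.card_congr (Subgroup.equivMapOfInjective N _ M24.subtype_injective).toEquiv]
      exact Nat.card_congr (Equiv.subtypeEquivRight fun g => ⟨hnorm' g, hnorm g⟩)
    · choose F hF hR using hexN
      rw [← normList_ok.2.2.2.1, ← List.toFinset_card_of_nodup normList_ok.2.2.1, ← Fintype.card_coe,
        ← Nat.card_eq_fintype_card]
      refine Nat.card_le_card_of_injective (fun p : {p // p ∈ normList.toFinset} =>
        (⟨F p.1 (List.mem_toFinset.1 p.2), hF _ _⟩ : NP)) fun p q h => Subtype.ext ?_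
      have e : F p.1 (List.mem_toFinset.1 p.2) = F q.1 (List.mem_toFinset.1 q.2) := congrArg Subtype.val h
      have h1 := hR p.1 (List.mem_toFinset.1 p.2)
      rw [e] at h1
      exact rep_unique normList_ok.2.1 (List.mem_toFinset.1 p.2) (List.mem_toFinset.1 q.2) h1 (hR _ _)
  have hallN := complete hexN normList_ok.2.1 normList_ok.2.2.1 (hNP.trans normList_ok.2.2.2.1.symm)
  let CP : Subgroup (Equiv.Perm GolayPt) := (Subgroup.centralizer ({x} : Set M24)).map M24.subtype
  have hexC : ∀ p ∈ centList, ∃ g ∈ CP, Rep g p := by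
    intro p hp
    obtain ⟨hp1, hp2⟩ := List.mem_filter.1 hp
    obtain ⟨g, hg, hgr⟩ := hexN p hp1
    obtain ⟨g', -, rfl⟩ := hg
    refine ⟨_, ⟨g', ?_, rfl⟩, hgr⟩
    show g' ∈ Subgroup.centralizer ({x} : Set M24)
    rw [Subgroup.mem_centralizer_singleton_iff]
    exact Subtype.ext ((comm_iff hgr hxr).2 hp2)
  have hallC : ∀ g ∈ CP, ∃ p ∈ centList, Rep g p := by
    rintro _ ⟨g, hg, rfl⟩
    have hg' : g * x = x * g := Subgroup.mem_centralizer_singleton_iff.1 hg
    obtain ⟨p, hp, hr⟩ := hallN g.1 ⟨g, hnorm g ⟨1, by rw [pow_one, hg', mul_inv_cancel_right]⟩, rfl⟩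
    exact ⟨p, List.mem_filter.2 ⟨hp, (comm_iff hr hxr).1 (congrArg Subtype.val hg')⟩, hr⟩
  have hsepC : sepList centList = true := by
    have h := normList_ok.2.1
    simp only [sepList, List.all_eq_true] at h ⊢
    exact fun a ha b hb => h a (List.mem_filter.1 ha).1 b (List.mem_filter.1 hb).1
  have hCP : Nat.card CP = 42 :=
    (card_of_list hexC hallC hsepC (normList_ok.2.2.1.filter _)).trans normList_ok.2.2.2.2
  refine ⟨?_, ?_, ?_, ?_⟩
  · have e : {n : M24 // n ∈ Subgroup.normalizer (S : Set M24)} ≃ {n : M24 // n ∈ N} :=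
      (MulAut.conj c⁻¹).toEquiv.subtypeEquiv fun n => by
        rw [hN]; simp
    rw [← hNP, ← Nat.card_congr (Subgroup.equivMapOfInjective N _ M24.subtype_injective).toEquiv]
    exact Nat.card_congr e
  · have e : {n : M24 // n ∈ Subgroup.centralizer (S : Set M24)} ≃ {n : M24 // n ∈ Subgroup.centralizer ({x} : Set M24)} :=
      (MulAut.conj c⁻¹).toEquiv.subtypeEquiv fun n => by
        rw [hC, Subgroup.mem_centralizer_singleton_iff]; simp
    rw [← hCP, ← Nat.card_congr (Subgroup.equivMapOfInjective _ _ M24.subtype_injective).toEquiv]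
    exact Nat.card_congr e
  · obtain ⟨p, hp, h2⟩ := List.any_eq_true.1 cent_nonabelian
    obtain ⟨q, hq, hpq⟩ := List.any_eq_true.1 h2
    obtain ⟨_, ⟨g, hg, rfl⟩, hgr⟩ := hexC p hp
    obtain ⟨_, ⟨h, hh, rfl⟩, hhr⟩ := hexC q hq
    refine ⟨c * g * c⁻¹, ?_, c * h * c⁻¹, ?_, fun e => ?_⟩
    · rw [hC, show c⁻¹ * (c * g * c⁻¹) * c = g by group]
      exact Subgroup.mem_centralizer_singleton_iff.1 hg
    · rw [hC, show c⁻¹ * (c * h * c⁻¹) * c = h by group]
      exact Subgroup.mem_centralizer_singleton_iff.1 hh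
    · have e' : g * h = h * g := by
        calc g * h = c⁻¹ * (c * g * c⁻¹ * (c * h * c⁻¹)) * c := by group
          _ = c⁻¹ * (c * h * c⁻¹ * (c * g * c⁻¹)) * c := by rw [e]
          _ = h * g := by group
      rw [(comm_iff hgr hhr).1 (congrArg Subtype.val e')] at hpq
      exact Bool.noConfusion hpq
  · obtain ⟨l, hl, hfix⟩ := List.any_eq_true.1 trio_fixed
    have hmem : lset l ∈ trios := by
      rw [trios_eq, Finset.mem_coe, mem_famSet]
      exact ⟨l, hl, rfl⟩
    refine ⟨(c : Equiv.Perm GolayPt) • lset l, (smul_mem_trios_iff c.2 _).2 hmem, fun n hn => ?_⟩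
    obtain ⟨p, hp, hr⟩ := hallN _ ⟨_, (hN n).1 hn, rfl⟩
    have h1 : (((c⁻¹ * n * c : M24) : M24) : Equiv.Perm GolayPt) • lset l = lset l :=
      (fix_fam_iff hr (trio_lt hl)).2 (List.all_eq_true.1 hfix p hp)
    rw [Subgroup.coe_mul, Subgroup.coe_mul, InvMemClass.coe_inv, mul_smul, mul_smul, inv_smul_eq_iff] at h1
    exact h1

end Cfsg.Agent.S5604
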