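import Cfsg.Statements.S5607
import Cfsg.Agent.Lib.H3.PermList
import Cfsg.Agent.Lib.MathieuBlock.Enum
import Cfsg.Agent.Lib.Concrete.ClassFacts
import Cfsg.Agent.Lib.Concrete.Mathieu

set_option linter.style.haveILetI false

set_option autoImplicit false
open scoped Pointwise
open Cfsg

namespace Cfsg.Agent.S5607

open Cfsg.Lib.Concrete Cfsg.Lib.H3.PermList Cfsg.Lib.MathieuBlock MulAction
open scoped Pointwise

def tStd : ℕ := 22905550945827948657697045989164119

def moveList : List ℕ := [21607476431495081844290992303677815, 49716831084914292512393970302699202, 111003978383557459169949518828646977, 151086221355701781375811534891524452, 177376383285717256686973256003528899, 217496444220459388687065399684060813, 256309492774778046149620909744703882, 309024509145868265979670153112716015, 350736383786683699595871869268838795, 404004470159510457729107920142049651, 444779664321674205035794712530096230, 481842196111032508351565087904412840, 510556726977179054942108316289386194, 552615249588173571250036029228876869,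 597527698085293925162998402359824496, 625091828822312559222500443655064871, 682366554667505978810228170434085966, 714279338109720697317595004556457142, 773072310617457613720313404252851340, 817816649672810521675807890802705481, 833897469109615372455854178306866421, 896338677386343533118694863358139892, 939041514243933539840028304500595025, 982808773341904765705022018148436000]

/-- Pruning by the centralising condition on base points paired by `tStd`. -/
def okC (j : ℕ) (f : ℕ → ℕ) : Bool :=
  (!Nat.beq j 0 || Nat.beq (f 0) 23) && (!Nat.beq j 1 || Nat.beq (f 1) (pget tStd (f 0))) &&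
  (!Nat.beq j 3 || Nat.beq (f 3) (pget tStd (f 2))) && (!Nat.beq j 5 || Nat.beq (f 5) (pget tStd (f 4)))

def stabList : List ℕ := (enumAll okC).filter fun p => commCheck p tStd && Nat.beq (pget p 23) 23

theorem tStd_ok : okIn [] tStd = true ∧ prodCheck tStd tStd pId = true ∧
    (bits24.all fun i => !Nat.beq (pget tStd i) i) = true ∧
    pget tStd 23 = 0 ∧ pget tStd 1 = 2 ∧ pget tStd 3 = 4 := by decide +kernel

theorem stabList_ok : stabList.all (fun p => okIn [] p) = true ∧ sepList stabList = true ∧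
    stabList.Nodup ∧ stabList.length = 320 := by decide +kernel

theorem moveList_ok : ((List.range 24).all fun i => okIn [] (moveList.getD i 0) && commCheck (moveList.getD i 0) tStd &&
    Nat.beq (pget (moveList.getD i 0) 23) i) = true := by decide +kernel

theorem sextet_fixed : (sextList.any fun l => moveList.all (fun p => sameList (l.map (pimg p)) l) &&
    stabList.all (fun p => sameList (l.map (pimg p)) l) && sameList (l.map (pimg tStd)) l) = true := by
  decide +kernel

theorem sext_lt {l : List ℕ} (hl : l ∈ sextList) : ∀ a ∈ l, a < 2 ^ 24 := by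
  have h := sextFams
  simp only [famsOk, Bool.and_eq_true, List.all_eq_true] at h
  exact (famOk_sound (h.2 l hl)).2

theorem okC_congr : ∀ j < 7, ∀ f f' : ℕ → ℕ, (∀ i ≤ j, f i = f' i) → okC j f = okC j f' := by
  intro j hj f f' h
  unfold okC
  interval_cases j <;> simp only [h _ le_rfl, h _ (Nat.zero_le _), show Nat.beq 0 1 = false from rfl,
    show Nat.beq 0 3 = false from rfl, show Nat.beq 0 5 = false from rfl]
  all_goals first
    | rfl
    | (simp only [h 0 (by omega), h 1 (by omega)]; rfl)
    | (simp only [h 2 (by omega), h 3 (by omega)]; rfl)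
    | (simp only [h 4 (by omega), h 5 (by omega)]; rfl)

/-- The centraliser of an element inside M24. -/
def cen (t : Equiv.Perm GolayPt) : Subgroup (Equiv.Perm GolayPt) :=
  M24 ⊓ Subgroup.centralizer ({t} : Set (Equiv.Perm GolayPt))

theorem mem_cen {t c : Equiv.Perm GolayPt} : c ∈ cen t ↔ c ∈ M24 ∧ c * t = t * c := by
  rw [cen, Subgroup.mem_inf, Subgroup.mem_centralizer_singleton_iff]

theorem facts {t : Equiv.Perm GolayPt} (htr : Rep t tStd) :
    Nat.card (cen t) = 7680 ∧ (∀ p q : GolayPt, ∃ c ∈ cen t, c p = q) ∧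
      ∃ l ∈ sextList, t • lset l = lset l ∧ ∀ c ∈ cen t, c • lset l = lset l := by
  classical
  have hmove : ∀ x : GolayPt, ∃ c ∈ cen t, c none = x ∧ Rep c (moveList.getD (gidx x).val 0) := by
    intro x
    have h := List.all_eq_true.1 moveList_ok (gidx x).val (List.mem_range.2 (gidx x).isLt)
    simp only [Bool.and_eq_true] at h
    obtain ⟨c, hc, hr⟩ := exists_in h.1.1
    refine ⟨c, mem_cen.2 ⟨hc.1, (comm_iff hr htr).2 h.1.2⟩, gidx_injective (Fin.ext ?_), hr⟩
    rw [hr none]
    exact Nat.eq_of_beq_eq_true h.2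
  let St := cen t ⊓ stabilizer (Equiv.Perm GolayPt) (none : GolayPt)
  have hex : ∀ p ∈ stabList, ∃ g ∈ St, Rep g p := by
    intro p hp
    obtain ⟨g, hg, hr⟩ := exists_in (List.all_eq_true.1 stabList_ok.1 p hp)
    have h2 := (List.mem_filter.1 hp).2
    rw [Bool.and_eq_true] at h2
    refine ⟨g, ⟨mem_cen.2 ⟨hg.1, (comm_iff hr htr).2 h2.1⟩, ?_⟩, hr⟩
    show g none = none
    apply gidx_injective
    apply Fin.ext
    rw [hr none]
    exact Nat.eq_of_beq_eq_true h2.2
  have hall : ∀ g ∈ St, ∃ p ∈ stabList, Rep g p := by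
    rintro g ⟨hg, hg0⟩
    obtain ⟨hgM, hgc⟩ := mem_cen.1 hg
    have hb : ∀ j < 7, bImg g j = (gidx (g (bp j))).val := fun _ _ => rfl
    have himg : ∀ a b : GolayPt, pget tStd (gidx a).val = (gidx b).val →
        (gidx (g b)).val = pget tStd (gidx (g a)).val := by
      intro a b hab
      have hb : t a = b := gidx_injective (Fin.ext (by rw [htr]; exact hab))
      rw [← htr, ← Equiv.Perm.mul_apply, ← hgc, Equiv.Perm.mul_apply, hb]
    obtain ⟨p, hp, hr⟩ := exists_mem_enumAll okC_congr hgM (fun j hj => by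
      have e0 : bImg g 0 = 23 := by
        show (gidx (g (bp 0))).val = 23
        have : bp 0 = none := by decide +kernel
        rw [this, show g none = none from hg0]; rfl
      have e1 : bImg g 1 = pget tStd (bImg g 0) := himg (bp 0) (bp 1) (by decide +kernel)
      have e3 : bImg g 3 = pget tStd (bImg g 2) := himg (bp 2) (bp 3) (by decide +kernel)
      have e5 : bImg g 5 = pget tStd (bImg g 4) := himg (bp 4) (bp 5) (by decide +kernel)
      unfold okC
      interval_cases j <;> simp [e0, e1, e3, e5, Nat.beq_eq] <;> rfl)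
    refine ⟨p, List.mem_filter.2 ⟨hp, ?_⟩, hr⟩
    rw [Bool.and_eq_true, Nat.beq_eq]
    refine ⟨(comm_iff hr htr).1 hgc, ?_⟩
    have h1 := hr none
    rw [show g none = none from hg0] at h1
    exact h1.symm
  have hSt : Nat.card St = 320 := (card_of_list hex hall stabList_ok.2.1 stabList_ok.2.2.1).trans stabList_ok.2.2.2
  refine ⟨?_, fun p q => ?_, ?_⟩
  · have horb : orbit (cen t) (none : GolayPt) = Set.univ := Set.eq_univ_of_forall fun x => by
      obtain ⟨c, hc, hcx, -⟩ := hmove x
      exact ⟨⟨c, hc⟩, hcx⟩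
    have h := Nat.card_congr (MulAction.orbitProdStabilizerEquivGroup (cen t) (none : GolayPt))
    have hs : Nat.card (stabilizer (cen t) (none : GolayPt)) = 320 := by
      rw [← hSt]
      exact Nat.card_congr ⟨fun c => ⟨c.1.1, c.1.2, c.2⟩, fun c => ⟨⟨c.1, c.2.1⟩, c.2.2⟩, fun c => rfl, fun c => rfl⟩
    rw [Nat.card_prod, hs, horb, Nat.card_univ, nat_card_golayPt] at h
    exact h.symm
  · obtain ⟨a, ha, hap, -⟩ := hmove p
    obtain ⟨b, hb, hbq, -⟩ := hmove q
    refine ⟨b * a⁻¹, mul_mem hb (inv_mem ha), ?_⟩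
    rw [Equiv.Perm.mul_apply, ← hap]
    simpa using hbq
  · obtain ⟨l, hl, hchk⟩ := List.any_eq_true.1 sextet_fixed
    simp only [Bool.and_eq_true, List.all_eq_true] at hchk
    refine ⟨l, hl, (fix_fam_iff htr (sext_lt hl)).2 hchk.2, fun c hc => ?_⟩
    obtain ⟨m, hm, hm0, hmr⟩ := hmove (c none)
    obtain ⟨p, hp, hr⟩ := hall (m⁻¹ * c) ⟨(cen t).mul_mem ((cen t).inv_mem hm) hc, by
      show m⁻¹ (c none) = none
      rw [← hm0]; simp⟩
    have h1 : (m⁻¹ * c) • lset l = lset l := (fix_fam_iff hr (sext_lt hl)).2 (hchk.1.2 p hp)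
    have hin : moveList.getD (gidx (c none)).val 0 ∈ moveList := by
      rw [List.getD_eq_getElem _ _ (show (gidx (c none)).val < moveList.length from (gidx (c none)).isLt)]
      exact List.getElem_mem _
    have h2 : m • lset l = lset l := (fix_fam_iff hmr (sext_lt hl)).2 (hchk.1.1 _ hin)
    rw [mul_smul, inv_smul_eq_iff, h2] at h1
    exact h1

/-- For a fixed-point-free involution t of the group of the length-24 code: its centraliser in that group has order 7680, is transitive on the 24 points, and is contained, together with t, in the stabiliser of some sextet. -/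
theorem result (t : Equiv.Perm Cfsg.GolayPt) (ht : t ∈ Cfsg.M24) (h₂ : orderOf t = 2) (h₀ : ∀ p, t p ≠ p) : Nat.card {c : Equiv.Perm Cfsg.GolayPt // c ∈ Cfsg.M24 ∧ c * t = t * c} = 7680 ∧ (∀ p q : Cfsg.GolayPt, ∃ c ∈ Cfsg.M24, c * t = t * c ∧ c p = q) ∧ ∃ S ∈ Cfsg.sextets, t • S = S ∧ ∀ c ∈ Cfsg.M24, c * t = t * c → c • S = S := by
  classical
  obtain ⟨t₀, ht₀, hr₀⟩ := exists_in tStd_ok.1
  have hne : ∀ p, t₀ p ≠ p := fun p h => by
    have h1 := List.all_eq_true.1 tStd_ok.2.2.1 (gidx p).val (mem_bits24.2 (gidx p).isLt)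
    rw [← hr₀ p, h] at h1
    simp at h1
  have ho : orderOf t₀ = 2 := orderOf_eq_prime (by rw [pow_two]; exact (hr₀.mul hr₀ tStd_ok.2.1).ext rep_one)
    (fun h => hne none (by rw [h]; rfl))
  obtain ⟨k, hk, hkt⟩ := involution_classes.2.2.2 t₀ ht₀.1 t ht ho h₂ (iff_of_true hne h₀)
  obtain ⟨hcard, htrans, l, hl, htl, hlfix⟩ := facts hr₀
  have hiff : ∀ c : Equiv.Perm GolayPt, (c ∈ M24 ∧ c * t = t * c) ↔ k⁻¹ * c * k ∈ cen t₀ := by
    intro c
    rw [mem_cen, ← hkt]
    constructor
    · rintro ⟨hc, he⟩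
      refine ⟨mul_mem (mul_mem (inv_mem hk) hc) hk, ?_⟩
      calc k⁻¹ * c * k * t₀ = k⁻¹ * (c * (k * t₀ * k⁻¹)) * k := by group
        _ = k⁻¹ * (k * t₀ * k⁻¹ * c) * k := by rw [he]
        _ = t₀ * (k⁻¹ * c * k) := by group
    · rintro ⟨hc, he⟩
      refine ⟨by simpa [mul_assoc] using mul_mem (mul_mem hk hc) (inv_mem hk), ?_⟩
      calc c * (k * t₀ * k⁻¹) = k * (k⁻¹ * c * k * t₀) * k⁻¹ := by group
        _ = k * (t₀ * (k⁻¹ * c * k)) * k⁻¹ := by rw [he]
        _ = k * t₀ * k⁻¹ * c := by group
  refine ⟨?_, fun p q => ?_, k • lset l, (smul_mem_sextets_iff hk _).2 ?_, ?_, fun c hc he => ?_⟩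
  · rw [← hcard]
    exact Nat.card_congr ((MulAut.conj k⁻¹).toEquiv.subtypeEquiv fun c => by rw [hiff]; simp)
  · obtain ⟨c, hc, hcp⟩ := htrans (k⁻¹ p) (k⁻¹ q)
    refine ⟨k * c * k⁻¹, ?_⟩
    have h := (hiff (k * c * k⁻¹)).2 (by simpa [mul_assoc] using hc)
    refine ⟨h.1, h.2, ?_⟩
    simp only [Equiv.Perm.mul_apply, hcp]
    simp
  · rw [sextets_eq, Finset.mem_coe, mem_famSet]
    exact ⟨l, hl, rfl⟩
  · rw [← hkt, mul_smul, mul_smul, inv_smul_smul, htl]
  · have := hlfix _ ((hiff c).1 ⟨hc, he⟩)
    rw [mul_smul, mul_smul, inv_smul_eq_iff] at this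
    exact this

end Cfsg.Agent.S5607
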