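import Cfsg.Statements.S5608
import Cfsg.Agent.Lib.Concrete.ClassFacts
import Cfsg.Agent.Lib.Concrete.SixPoints

set_option linter.style.haveILetI false

set_option autoImplicit false
open scoped Pointwise
open Cfsg

namespace Cfsg.Agent.S5608

open Cfsg.Lib.Concrete
open scoped Pointwise

theorem sign_free : ∀ σ : Equiv.Perm (Fin 6), (∀ i, σ i ≠ i) → (∀ i, σ (σ i) = i) → Equiv.Perm.sign σ = -1 := by
  decide +kernel

/-- A fixed-point-free involution does not centralise an element of order 3 with six fixed points. -/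
theorem no_free {x s : Equiv.Perm GolayPt} (hx : x ∈ M24) (hs : s ∈ M24) (h3 : orderOf x = 3)
    (h2 : orderOf s = 2) (hc : Commute x s) (h6 : (Finset.univ.filter fun p => x p = p).card = 6) :
    ∃ p, s p = p := by
  classical
  by_contra hfree
  push Not at hfree
  set F := Finset.univ.filter fun p => x p = p with hF
  have hmemF : ∀ p, p ∈ F ↔ x p = p := fun p => by simp [hF]
  have hxfix : x ∈ fixSet F := mem_fixSet.2 ⟨hx, fun a ha => (hmemF a).1 ha⟩
  have hdvd : 3 ∣ Nat.card (fixSet F) := by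
    rw [← h3, ← Subgroup.orderOf_mk x hxfix]; exact orderOf_dvd_natCard _
  have hnot : ¬ InOctad F := fun h => by
    rw [(card_fixSet_six h6).1 h] at hdvd; omega
  have hK : fixSet F = Subgroup.zpowers x := by
    refine (Subgroup.eq_of_le_of_card_ge (Subgroup.zpowers_le.2 hxfix) ?_).symm
    rw [(card_fixSet_six h6).2 hnot, Nat.card_zpowers, h3]
  have hx1 : x⁻¹ ≠ x := fun h => by
    have h' : x ^ 2 = 1 := by rw [pow_two]; exact inv_eq_iff_mul_eq_one.1 h
    have := orderOf_dvd_of_pow_eq_one h'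
    rw [h3] at this
    omega
  have hex : ∀ σ : Equiv.Perm ↥F, ∃ g ∈ M24, ∀ p : ↥F, g p = σ p := induces_sym_six h6
  choose L hLM hL using hex
  have hstab : ∀ σ, ∀ p ∈ F, (L σ)⁻¹ p ∈ F ∧ L σ p ∈ F := by
    intro σ p hp
    refine ⟨?_, ?_⟩
    · have h := hL σ (σ.symm ⟨p, hp⟩)
      rw [Equiv.apply_symm_apply] at h
      rw [Equiv.Perm.inv_eq_iff_eq.2 h.symm]
      exact (σ.symm ⟨p, hp⟩).2
    · rw [hL σ ⟨p, hp⟩]; exact (σ ⟨p, hp⟩).2
  have hcases : ∀ σ, L σ * x * (L σ)⁻¹ = x ∨ L σ * x * (L σ)⁻¹ = x⁻¹ := by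
    intro σ
    have hm : L σ * x * (L σ)⁻¹ ∈ fixSet F := mem_fixSet.2
      ⟨mul_mem (mul_mem (hLM σ) hx) (inv_mem (hLM σ)), fun a ha => by
        rw [Equiv.Perm.mul_apply, Equiv.Perm.mul_apply, (hmemF _).1 (hstab σ a ha).1, ← Equiv.Perm.mul_apply,
          mul_inv_cancel, Equiv.Perm.one_apply]⟩
    rw [hK, Subgroup.mem_zpowers_iff] at hm
    obtain ⟨k, hk⟩ := hm
    have hk3 : x ^ k = x ^ (k % 3) := by
      rw [← zpow_mod_orderOf x k, h3]; rfl
    rw [hk3] at hk
    have : k % 3 = 0 ∨ k % 3 = 1 ∨ k % 3 = 2 := by omega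
    rcases this with h | h | h <;> rw [h] at hk
    · exfalso
      rw [zpow_zero, eq_comm, conj_eq_one_iff] at hk
      rw [hk, orderOf_one] at h3
      omega
    · left; rw [← hk, zpow_one]
    · right
      rw [← hk]
      have hx3 : x ^ (3 : ℕ) = 1 := h3 ▸ pow_orderOf_eq_one x
      rw [show (2 : ℤ) = ((2 : ℕ) : ℤ) from rfl, zpow_natCast, eq_inv_iff_mul_eq_one, ← pow_succ, hx3]
  let f : Equiv.Perm ↥F → ℤˣ := fun σ => if L σ * x * (L σ)⁻¹ = x then 1 else -1
  have hlift : ∀ σ (g : Equiv.Perm GolayPt), g ∈ M24 → (∀ p : ↥F, g p = σ p) →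
      g * x * g⁻¹ = L σ * x * (L σ)⁻¹ := by
    intro σ g hg hgp
    have hm : (L σ)⁻¹ * g ∈ fixSet F := mem_fixSet.2 ⟨mul_mem (inv_mem (hLM σ)) hg, fun a ha => by
      rw [Equiv.Perm.mul_apply, Equiv.Perm.inv_eq_iff_eq, hgp ⟨a, ha⟩, ← hL σ ⟨a, ha⟩]⟩
    rw [hK, Subgroup.mem_zpowers_iff] at hm
    obtain ⟨k, hk⟩ := hm
    have hg' : g = L σ * x ^ k := by rw [hk]; group
    rw [hg']; group
  let fh : Equiv.Perm ↥F →* ℤˣ := MonoidHom.mk' f fun σ τ => by
    have e : L (σ * τ) * x * (L (σ * τ))⁻¹ = L σ * (L τ * x * (L τ)⁻¹) * (L σ)⁻¹ := by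
      rw [← hlift (σ * τ) (L σ * L τ) (mul_mem (hLM σ) (hLM τ)) fun p => by
        rw [Equiv.Perm.mul_apply, hL τ p, hL σ (τ p), Equiv.Perm.mul_apply]]
      group
    rcases hcases σ with a | a <;> rcases hcases τ with b | b
    · simp only [f, e, a, b, if_true]; rfl
    · have e' : L σ * x⁻¹ * (L σ)⁻¹ = x⁻¹ := by
        rw [show L σ * x⁻¹ * (L σ)⁻¹ = (L σ * x * (L σ)⁻¹)⁻¹ by group, a]
      simp only [f, e, b, e', a, if_true, if_neg hx1, one_mul]
    · simp only [f, e, b, a, if_true, if_neg hx1, mul_one]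
    · have e' : L σ * x⁻¹ * (L σ)⁻¹ = x := by
        rw [show L σ * x⁻¹ * (L σ)⁻¹ = (L σ * x * (L σ)⁻¹)⁻¹ by group, a, inv_inv]
      simp only [f, e, b, e', a, if_true, if_neg hx1, neg_mul_neg, one_mul]
  have hinv : ∃ k ∈ M24, k * x * k⁻¹ = x⁻¹ := by
    have h3' : orderOf x⁻¹ = 3 := by rw [orderOf_inv]; exact h3
    have h6' : (Finset.univ.filter fun p => x⁻¹ p = p).card = 6 := by
      rw [← h6]; congr 1; ext p
      simp only [hF, Finset.mem_filter, Finset.mem_univ, true_and, Equiv.Perm.inv_eq_iff_eq]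
      exact eq_comm
    rcases three_of_fixed hx h3 with ⟨-, c, hcM, hr⟩ | ⟨a0, -⟩
    · rcases three_of_fixed (inv_mem hx) h3' with ⟨-, d, hdM, hr'⟩ | ⟨a0', -⟩
      · exact conj_of_same_rep hcM hdM hr hr'
      · omega
    · rw [← hF] at a0; omega
  obtain ⟨k, hkM, hk⟩ := hinv
  have hkF : ∀ p, p ∈ F ↔ k p ∈ F := fun p => by
    rw [hmemF, hmemF]
    constructor
    · intro hp
      have := congrArg (fun e : Equiv.Perm GolayPt => e (k p)) hk
      simp only [Equiv.Perm.mul_apply, Equiv.Perm.inv_def, Equiv.symm_apply_apply, hp] at this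
      exact (Equiv.eq_symm_apply x).1 this
    · intro hp
      have := congrArg (fun e : Equiv.Perm GolayPt => e (k p)) hk
      rw [Equiv.Perm.mul_apply, Equiv.Perm.mul_apply, ← Equiv.Perm.mul_apply k⁻¹ k, inv_mul_cancel, Equiv.Perm.one_apply] at this
      rw [Equiv.Perm.inv_eq_iff_eq.2 hp.symm] at this
      exact k.injective this
  have hsurj : Function.Surjective fh := by
    intro u
    rcases Int.units_eq_one_or u with rfl | rfl
    · exact ⟨1, map_one fh⟩
    · refine ⟨k.subtypePerm fun p => (hkF p).symm, ?_⟩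
      show f _ = -1
      simp only [f]
      rw [← hlift _ k hkM fun p => rfl, hk, if_neg hx1]
  have hsF : ∀ p, p ∈ F ↔ s p ∈ F := fun p => by
    rw [hmemF, hmemF, ← Equiv.Perm.mul_apply, hc.eq, Equiv.Perm.mul_apply, s.injective.eq_iff]
  let σ : Equiv.Perm ↥F := s.subtypePerm fun p => (hsF p).symm
  have hf1 : fh σ = 1 := by
    show f σ = 1
    simp only [f]
    rw [← hlift σ s hs fun p => rfl, ← hc.eq, mul_assoc, mul_inv_cancel, mul_one, if_pos rfl]
  have hsq : ∀ p, s (s p) = p := fun p => by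
    have h := h2 ▸ pow_orderOf_eq_one s
    rw [pow_two] at h
    rw [← Equiv.Perm.mul_apply, h, Equiv.Perm.one_apply]
  rw [Equiv.Perm.eq_sign_of_surjective_hom hsurj] at hf1
  let e := F.equivFinOfCardEq h6
  rw [← Equiv.Perm.sign_permCongr e] at hf1
  rw [sign_free (e.permCongr σ)] at hf1
  · exact absurd hf1 (by decide)
  · intro i h
    rw [Equiv.permCongr_apply, Equiv.apply_eq_iff_eq_symm_apply] at h
    exact hfree _ (congrArg Subtype.val h)
  · intro i
    rw [Equiv.permCongr_apply, Equiv.permCongr_apply, Equiv.symm_apply_apply, Equiv.apply_eq_iff_eq_symm_apply]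
    exact Subtype.ext (hsq _)

/-- If an element of order 3 and an involution of the group of the length-24 code commute, then either the element of order 3 has exactly 6 fixed points and the involution exactly 8, or both are fixed-point-free. -/
theorem result (x s : Equiv.Perm Cfsg.GolayPt) (hx : x ∈ Cfsg.M24) (hs : s ∈ Cfsg.M24) (h₃ : orderOf x = 3) (h₂ : orderOf s = 2) (hc : Commute x s) : ((Finset.univ.filter fun p => x p = p).card = 6 ∧ (Finset.univ.filter fun p => s p = p).card = 8) ∨ ((Finset.univ.filter fun p => x p = p).card = 0 ∧ (Finset.univ.filter fun p => s p = p).card = 0) := by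
  rcases involution_of_fixed hs h₂ with ⟨h8, -⟩ | ⟨h0, -⟩
  · left
    refine ⟨?_, h8⟩
    rcases three_of_fixed hx h₃ with ⟨h6, -⟩ | ⟨h0', -⟩
    · exact h6
    · exfalso
      haveI : Fact (Nat.Prime 3) := ⟨Nat.prime_three⟩
      have hfree := (fix_zero_iff x).1 h0'
      let τ : Function.End {p : GolayPt // s p = p} := fun p => ⟨x p.1, by
        rw [← Equiv.Perm.mul_apply, ← hc.eq, Equiv.Perm.mul_apply, p.2]⟩
      have hiter : ∀ (n : ℕ) (p : {p : GolayPt // s p = p}), ((τ ^ n) p).1 = (x ^ n) p.1 := by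
        intro n
        induction n with
        | zero => intro p; rfl
        | succ n ih =>
          intro p
          rw [pow_succ' τ, pow_succ' x]
          show x ((τ ^ n) p).1 = _
          rw [ih]; rfl
      have hτ : τ ^ 3 ^ 1 = 1 := by
        funext p
        apply Subtype.ext
        rw [pow_one, hiter, ← h₃, pow_orderOf_eq_one]
        rfl
      have hm := Equiv.Perm.card_fixedPoints_modEq (p := 3) hτ
      have hz : Fintype.card (Function.fixedPoints τ) = 0 := by
        rw [Fintype.card_eq_zero_iff]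
        exact ⟨fun ⟨p, hp⟩ => hfree p.1 (congrArg Subtype.val hp)⟩
      rw [hz, Fintype.card_subtype, h8, Nat.modEq_zero_iff_dvd] at hm
      omega
  · right
    refine ⟨?_, h0⟩
    rcases three_of_fixed hx h₃ with ⟨h6, -⟩ | ⟨h0', -⟩
    · obtain ⟨p, hp⟩ := no_free hx hs h₃ h₂ hc h6
      exact absurd hp ((fix_zero_iff s).1 h0 p)
    · exact h0'

end Cfsg.Agent.S5608
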