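import Cfsg.Statements.S5609
import Cfsg.Agent.Lib.Concrete.OrbitFacts
-- import your own Cfsg.Agent.* helpers here

set_option autoImplicit false
open scoped Pointwise
open Cfsg

namespace Cfsg.Agent.S5609

open Cfsg Cfsg.Lib.Concrete
open scoped Pointwise

/-- The three cases for an octad against the base octad. -/
def graphTest : Bool :=
  octList.all fun m => Nat.beq m m24BaseOctad || Nat.beq (pcnt (Nat.land m24BaseOctad m)) 0 ||
    (Nat.beq (pcnt (Nat.land m24BaseOctad m)) 4 &&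
      octList.any fun x => Nat.beq (Nat.land m24BaseOctad x) 0 && Nat.beq (Nat.land m x) 0) ||
    (Nat.beq (pcnt (Nat.land m24BaseOctad m)) 2 &&
      (octList.all fun x => !(Nat.beq (Nat.land m24BaseOctad x) 0 && Nat.beq (Nat.land m x) 0)) &&
      octList.any fun x => Nat.beq (Nat.land m24BaseOctad x) 0 && Nat.beq (pcnt (Nat.land m x)) 4)

theorem graph_check : graphTest = true := by decide +kernel

theorem pair_cases {o o' : Finset GolayPt} (ho : o ∈ octads) (ho' : o' ∈ octads) (hne : o ≠ o') :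
    (o ∩ o').card = 0 ∨
    ((o ∩ o').card = 4 ∧ ∃ x ∈ octads, Disjoint o x ∧ Disjoint o' x) ∨
    ((o ∩ o').card = 2 ∧ (∀ x ∈ octads, ¬ (Disjoint o x ∧ Disjoint o' x)) ∧
      ∃ x ∈ octads, Disjoint o x ∧ (o' ∩ x).card = 4) := by
  obtain ⟨g, hg, hgo⟩ := exists_octad_std ho
  have hi : g⁻¹ • o = mset m24BaseOctad := by rw [← hgo, inv_smul_smul]; rfl
  obtain ⟨m, hm, hm'⟩ := exists_image_oct (inv_mem hg) ho'
  have hback : ∀ x ∈ octList, ∃ y ∈ octads, g⁻¹ • y = mset x := fun x hx =>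
    ⟨g • mset x, smul_octad_mem hg ((mset_mem_octads_iff (octList_lt hx)).2 hx), inv_smul_smul _ _⟩
  have hcard := inter_card_of_smul hi hm'
  have hz : ∀ a b, (pcnt (Nat.land a b) = 0 ↔ Nat.land a b = 0) ∨ 2 ^ 24 ≤ a := fun a b => by
    by_cases ha : 2 ^ 24 ≤ a
    · exact Or.inr ha
    · refine Or.inl ⟨fun h => ?_, fun h => by rw [h]; rfl⟩
      refine mset_inj (lt_of_le_of_lt Nat.and_le_left (Nat.lt_of_not_le ha)) (by norm_num) ?_
      rw [mset_zero, ← Finset.card_eq_zero, mset_card, mcnt_eq_pcnt, h]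
  have hdis : ∀ {A B : Finset GolayPt} {a b : ℕ}, g⁻¹ • A = mset a → g⁻¹ • B = mset b → a < 2 ^ 24 →
      (Disjoint A B ↔ Nat.land a b = 0) := fun {A B a b} hA hB ha => by
    rw [disjoint_iff_pcnt hA hB]; exact (hz a b).resolve_right (not_le.2 ha)
  have hb24 : m24BaseOctad < 2 ^ 24 := by decide
  have h := List.all_eq_true.1 (show graphTest = true from graph_check) m hm
  simp only [Bool.or_eq_true, Bool.and_eq_true, Nat.beq_eq, List.any_eq_true, List.all_eq_true, Bool.not_eq_true'] at h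
  rcases h with ((h | h) | ⟨h4, x, hx, h1, h2⟩) | ⟨⟨h2', hall⟩, x, hx, h1, h2⟩
  · exact absurd (smul_left_cancel g⁻¹ (hi.trans ((congrArg mset h).symm.trans hm'.symm))) hne
  · exact Or.inl (hcard.trans h)
  · obtain ⟨y, hy, hgy⟩ := hback x hx
    exact Or.inr (Or.inl ⟨hcard.trans h4, y, hy, (hdis hi hgy hb24).2 h1, (hdis hm' hgy (octList_lt hm)).2 h2⟩)
  · refine Or.inr (Or.inr ⟨hcard.trans h2', fun z hz' hd => ?_, ?_⟩)
    · obtain ⟨c, hc, hgc⟩ := exists_image_oct (inv_mem hg) hz'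
      have := hall c hc
      rw [(hdis hi hgc hb24).1 hd.1, (hdis hm' hgc (octList_lt hm)).1 hd.2] at this
      exact absurd this (by decide)
    · obtain ⟨y, hy, hgy⟩ := hback x hx
      exact ⟨y, hy, (hdis hi hgy hb24).2 h1, (inter_card_of_smul hm' hgy).trans h2⟩

theorem adj_iff (a b : octads) : (blockGraph octads).Adj a b ↔ Disjoint (a : Finset GolayPt) b := by
  rw [blockGraph, SimpleGraph.fromRel_adj]
  refine ⟨fun h => h.2.elim id fun h' => h'.symm, fun h => ⟨fun e => ?_, Or.inl h⟩⟩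
  subst e
  have := a.2.2
  rw [disjoint_self.1 h] at this
  simp at this

theorem dist_cases {o o' : Finset GolayPt} (ho : o ∈ octads) (ho' : o' ∈ octads) (hne : o ≠ o') :
    (blockGraph octads).Reachable ⟨o, ho⟩ ⟨o', ho'⟩ ∧
    (((o ∩ o').card = 0 ∧ (blockGraph octads).dist ⟨o, ho⟩ ⟨o', ho'⟩ = 1) ∨
     ((o ∩ o').card = 4 ∧ (blockGraph octads).dist ⟨o, ho⟩ ⟨o', ho'⟩ = 2) ∨
     ((o ∩ o').card = 2 ∧ (blockGraph octads).dist ⟨o, ho⟩ ⟨o', ho'⟩ = 3)) := by
  set G := blockGraph octads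
  set a : octads := ⟨o, ho⟩
  set b : octads := ⟨o', ho'⟩
  have hab : a ≠ b := fun h => hne (congrArg Subtype.val h)
  rcases pair_cases ho ho' hne with h | ⟨h, x, hx, hd1, hd2⟩ | ⟨h, hno, x, hx, hd1, hc4⟩
  · have hadj : G.Adj a b := (adj_iff a b).2 (Finset.disjoint_iff_inter_eq_empty.2 (Finset.card_eq_zero.1 h))
    exact ⟨hadj.reachable, Or.inl ⟨h, SimpleGraph.dist_eq_one_iff_adj.2 hadj⟩⟩
  · have e1 : G.Adj a ⟨x, hx⟩ := (adj_iff _ _).2 hd1
    have e2 : G.Adj ⟨x, hx⟩ b := (adj_iff _ _).2 hd2.symm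
    have hr : G.Reachable a b := e1.reachable.trans e2.reachable
    refine ⟨hr, Or.inr (Or.inl ⟨h, ?_⟩)⟩
    have hle : G.dist a b ≤ 2 := SimpleGraph.dist_le (SimpleGraph.Walk.cons e1 (SimpleGraph.Walk.cons e2 SimpleGraph.Walk.nil))
    have h1 : G.dist a b ≠ 1 := fun h1 => by
      have := (adj_iff a b).1 (SimpleGraph.dist_eq_one_iff_adj.1 h1)
      rw [Finset.disjoint_iff_inter_eq_empty] at this
      rw [this] at h; simp at h
    have h0 : G.dist a b ≠ 0 := fun h0 => hab (hr.dist_eq_zero_iff.1 h0)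
    omega
  · obtain ⟨y, hy, hy1, hy2⟩ : ∃ y ∈ octads, Disjoint o' y ∧ Disjoint x y := by
      rcases pair_cases ho' hx (fun e => by rw [e, Finset.inter_self, hx.2] at hc4; omega) with g | ⟨-, y, hy, g1, g2⟩ | ⟨g, -⟩
      · omega
      · exact ⟨y, hy, g1, g2⟩
      · omega
    have e1 : G.Adj a ⟨x, hx⟩ := (adj_iff _ _).2 hd1
    have e2 : G.Adj ⟨x, hx⟩ ⟨y, hy⟩ := (adj_iff _ _).2 hy2
    have e3 : G.Adj ⟨y, hy⟩ b := (adj_iff _ _).2 hy1.symm
    have hr : G.Reachable a b := e1.reachable.trans (e2.reachable.trans e3.reachable)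
    refine ⟨hr, Or.inr (Or.inr ⟨h, ?_⟩)⟩
    have hle : G.dist a b ≤ 3 :=
      SimpleGraph.dist_le (SimpleGraph.Walk.cons e1 (SimpleGraph.Walk.cons e2 (SimpleGraph.Walk.cons e3 SimpleGraph.Walk.nil)))
    have h1 : G.dist a b ≠ 1 := fun h1 => by
      have := (adj_iff a b).1 (SimpleGraph.dist_eq_one_iff_adj.1 h1)
      rw [Finset.disjoint_iff_inter_eq_empty] at this
      rw [this] at h; simp at h
    have h2 : G.dist a b ≠ 2 := fun h2 => by
      obtain ⟨w, hw⟩ := hr.exists_walk_length_eq_dist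
      rw [h2] at hw
      have c1 := w.adj_getVert_succ (i := 0) (by omega)
      have c2 := w.adj_getVert_succ (i := 1) (by omega)
      have he : w.getVert 2 = b := hw ▸ w.getVert_length
      rw [w.getVert_zero] at c1
      rw [he] at c2
      exact hno _ (w.getVert 1).2 ⟨(adj_iff _ _).1 c1, ((adj_iff _ _).1 c2).symm⟩
    have h0 : G.dist a b ≠ 0 := fun h0 => hab (hr.dist_eq_zero_iff.1 h0)
    omega

/-- In the graph on the 759 octads of the length-24 code in which two octads are adjacent when they are disjoint, the graph is connected (of diameter 3) and two distinct octads are at distance 1, 2 or 3 exactly when they meet in 0, 4 or 2 points respectively. -/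
theorem result (o o' : Finset Cfsg.GolayPt) (ho : o ∈ Cfsg.octads) (ho' : o' ∈ Cfsg.octads) (hne : o ≠ o') : (Cfsg.blockGraph Cfsg.octads).Connected ∧ ((Cfsg.blockGraph Cfsg.octads).dist ⟨o, ho⟩ ⟨o', ho'⟩ = 1 ↔ (o ∩ o').card = 0) ∧ ((Cfsg.blockGraph Cfsg.octads).dist ⟨o, ho⟩ ⟨o', ho'⟩ = 2 ↔ (o ∩ o').card = 4) ∧ ((Cfsg.blockGraph Cfsg.octads).dist ⟨o, ho⟩ ⟨o', ho'⟩ = 3 ↔ (o ∩ o').card = 2) := by
  obtain ⟨-, h⟩ := dist_cases ho ho' hne
  haveI : Nonempty Cfsg.octads := ⟨⟨o, ho⟩⟩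
  refine ⟨⟨fun a b => ?_⟩, ?_, ?_, ?_⟩
  · by_cases e : a = b
    · subst e; exact SimpleGraph.Reachable.refl _
    · exact (dist_cases a.2 b.2 fun h => e (Subtype.ext h)).1
  all_goals rcases h with ⟨h1, h2⟩ | ⟨h1, h2⟩ | ⟨h1, h2⟩ <;> omega

end Cfsg.Agent.S5609
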