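import Cfsg.Statements.S5618
import Cfsg.Agent.Lib.H3.DodecadTools

set_option linter.style.haveILetI false

set_option autoImplicit false
open scoped Pointwise
open Cfsg

namespace Cfsg.Agent.S5618

open Cfsg.Lib.Concrete Cfsg.Lib.H3.DodecadTools MulAction
open scoped Pointwise

/-- For a dodecad d of the length-24 code and a hexad C on it (a 6-point intersection of d with an octad): the joint stabiliser of d and C in the code's group is isomorphic to the symmetric group of degree 6, and it acts faithfully both on the six points of C and on the six points of d outside C. -/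
theorem result (d : Finset Cfsg.GolayPt) (hd : d ∈ Cfsg.dodecads) (C : Finset Cfsg.GolayPt) (hC : C ∈ Cfsg.hexadsOn d) : Nonempty (↥(MulAction.stabilizer Cfsg.M24 d ⊓ MulAction.stabilizer Cfsg.M24 C) ≃* Equiv.Perm (Fin 6)) ∧ (∀ g ∈ MulAction.stabilizer Cfsg.M24 d ⊓ MulAction.stabilizer Cfsg.M24 C, (∀ p ∈ C, ((g : ↥Cfsg.M24) : Equiv.Perm Cfsg.GolayPt) p = p) → g = 1) ∧ ∀ g ∈ MulAction.stabilizer Cfsg.M24 d ⊓ MulAction.stabilizer Cfsg.M24 C, (∀ p ∈ d \ C, ((g : ↥Cfsg.M24) : Equiv.Perm Cfsg.GolayPt) p = p) → g = 1 := by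
  classical
  obtain ⟨hC6, o, ho, hod⟩ := hC
  have hCo : C ⊆ o := by rw [← hod]; exact Finset.inter_subset_left
  have hCd : C ⊆ d := by rw [← hod]; exact Finset.inter_subset_right
  have hfaith : ∀ (T : Finset GolayPt), T ⊆ d → 5 ≤ T.card →
      ∀ g ∈ stabilizer M24 d ⊓ stabilizer M24 C, (∀ p ∈ T, ((g : ↥M24) : Equiv.Perm GolayPt) p = p) → g = 1 := by
    intro T hT h5 g hg hfix
    obtain ⟨x, hx⟩ := exists_emb_of_card h5
    exact Subtype.ext (eq_one_of_five hd g.2 hg.1 x (fun i => hT (hx i)) fun i => hfix _ (hx i))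
  refine ⟨?_, hfaith C hCd (by omega), hfaith (d \ C) Finset.sdiff_subset
    (by rw [Finset.card_sdiff_of_subset hCd, hd.2, hC6]; norm_num)⟩
  have hstab : ∀ (g : ↥(stabilizer M24 d ⊓ stabilizer M24 C)) (a : GolayPt), (g.1.1 : Equiv.Perm GolayPt) a ∈ C ↔ a ∈ C := by
    intro g a
    have he : g.1.1 • C = C := g.2.2
    have h1 := Finset.smul_mem_smul_finset_iff (s := C) (b := a) g.1.1
    rw [he] at h1
    exact h1
  let ρ : ↥(stabilizer M24 d ⊓ stabilizer M24 C) →* Equiv.Perm ↥C :=
    { toFun := fun g => g.1.1.subtypePerm (hstab g)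
      map_one' := Equiv.ext fun _ => rfl
      map_mul' := fun _ _ => Equiv.ext fun _ => rfl }
  have hinj : Function.Injective ρ := by
    rw [injective_iff_map_eq_one]
    intro g hg
    exact Subtype.ext (hfaith C hCd (by omega) g.1 g.2 fun p hp => congrArg Subtype.val (Equiv.congr_fun hg ⟨p, hp⟩))
  have hsurj : Function.Surjective ρ := by
    intro π
    obtain ⟨x, hx⟩ := exists_emb_of_card (show 5 ≤ C.card by omega)
    let x' : Fin 5 ↪ ↥C := ⟨fun i => ⟨x i, hx i⟩, fun i j h => x.injective (congrArg Subtype.val h)⟩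
    let y : Fin 5 ↪ GolayPt := (x'.trans π.toEmbedding).trans (Function.Embedding.subtype _)
    obtain ⟨g, hg, hgd, hgx⟩ := map_five hd x y (fun i => hCd (hx i)) (fun i => hCd (π (x' i)).2)
    have hy : ∀ i, y i ∈ C := fun i => (π (x' i)).2
    have hgo : g • o = o := by
      refine octads_eq_of_five (smul_octad_mem hg ho) ho (s := Finset.univ.map y)
        (by rw [Finset.card_map, Finset.card_univ, Fintype.card_fin]) ?_ ?_
      · intro p hp
        obtain ⟨i, -, rfl⟩ := Finset.mem_map.1 hp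
        rw [← hgx i, ← Equiv.Perm.smul_def, Finset.smul_mem_smul_finset_iff]
        exact hCo (hx i)
      · intro p hp
        obtain ⟨i, -, rfl⟩ := Finset.mem_map.1 hp
        exact hCo (hy i)
    have hgC : g • C = C := by rw [← hod, Finset.smul_finset_inter, hgo, hgd]
    refine ⟨⟨⟨g, hg⟩, hgd, hgC⟩, ?_⟩
    set σ := ρ ⟨⟨g, hg⟩, hgd, hgC⟩ with hσ
    have hagree : ∀ i, σ (x' i) = π (x' i) := fun i => Subtype.ext (hgx i)
    have hone : π⁻¹ * σ = 1 := by
      by_contra hne
      have h2 := (π⁻¹ * σ).two_le_card_support_of_ne_one hne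
      have hsub : (π⁻¹ * σ).support ⊆ (Finset.univ.map x')ᶜ := fun a ha => by
        rw [Finset.mem_compl]
        intro hmem
        obtain ⟨i, -, rfl⟩ := Finset.mem_map.1 hmem
        rw [Equiv.Perm.mem_support, Equiv.Perm.mul_apply, hagree i] at ha
        exact ha (by simp)
      have := Finset.card_le_card hsub
      rw [Finset.card_compl, Finset.card_map, Finset.card_univ, Fintype.card_fin, Fintype.card_coe, hC6] at this
      omega
    exact (inv_mul_eq_one.1 hone).symm
  exact ⟨(MulEquiv.ofBijective ρ ⟨hinj, hsurj⟩).trans (C.equivFinOfCardEq hC6).permCongrHom⟩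

end Cfsg.Agent.S5618
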