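import Cfsg.Statements.S5619
import Cfsg.Agent.Lib.H3.PermList

set_option linter.style.haveILetI false

set_option autoImplicit false
open scoped Pointwise
open Cfsg

namespace Cfsg.Agent.S5619

open Cfsg.Lib.Concrete Cfsg.Lib.H3.PermList MulAction
open scoped Pointwise

def mNine : List ℕ := [961963715077338816282939691488096288, 962006281525897706408302126136085536, 962371918955368510574636649896478752, 962531741252923543313518575080817696, 962571055222123691414819409771970592, 962651512066574722611277533849979936, 963259191394733507442561449212874784, 963346641302244241982471832828512288, 963664325109153113581401109879641120, 963879149272479759044529865121483808, 963955192730199845796036410746782752, 964040814920702717206949018817605664, 964568192192786429819549379874963488, 964597655164639888112068412019594272, 965131035075015849898837032318863392, 965217743802123914032639568871803936, 965246890165736009736356715589355552, 965334175772909427513039479730965536, 965876376176710813449685691979416608, 966273766038144300211841176966873120, 966433488791888753810104868638601248, 966475956924560098024124728230971424,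 966514024817160734567731215827293216, 966647147312550362262553289495693344, 967205586982904567856335449009762336, 967245399870776688315609714097963040, 967565579364797696450790798777256992, 967720771237155294815693095891472416, 967762008827156065747442177669482528, 967808889114777328653557654606070816, 968537154239807687515146284522097696, 968857831455515482223705517320685600, 969024486132758659813332891300418592, 969102504825768087605693146117877792, 969143109226073620753785256210337824, 969223508477797508009485017507053600, 969759747487835800301622965049035808, 969802841622095796538075665876486176, 969852439484254754509860925335521312, 970176760161687505077112675680472096, 970411472219799805744821576735789088, 970449309856341001412185157384941600, 972349693700215201285774100112362528, 972434291699668814096336427006641184, 972932111411285522547004812712626208, 972957809807092669634089971507335200, 973001842969189728748868071892566048, 973054518210042674313238929715267616, 973644892453930826191055284001622048, 973686997150873985752216794762907680, 973726299115478498653469978768608288, 974257329572637444797480459831464992,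 974297736089239669581392726270806048, 974417045151256171238762148303291424, 975001419139280808564148490343204896, 975354635540339156191227561498493984, 975568851705503039487060938489180192, 975594682009894295465223200571952160, 975638510105531350037094770374431776, 975715822418356939135336861837708320, 981493791035034042311865010661508128, 981523573003594718468298866901505056, 982021529418017966324684496639282208, 982050282450476681547471510865185824, 982134331149196916848982203999305760, 982215698222945954287950344517881888, 984036102911248115080220955032835104, 984076628145453245054117117809803296, 984128563442642855769045999180853280, 984437871387219516632992196493742112, 984600170262332565272975762020961312, 984818244535754528103549039458486304]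

def quatA : List ℕ := [984818244535754528103549039458486304, 961963715077338816282939691488096288, 975354635540339156191227561498493984, 974257329572637444797480459831464992]

def quatX : List ℕ := [965217743802123914032639568871803936, 982134331149196916848982203999305760, 967720771237155294815693095891472416, 969852439484254754509860925335521312]

def quatImg : QuaternionGroup 2 → ℕ
  | .a i => quatA.getD i.val 0
  | .xa i => quatX.getD i.val 0

theorem mNine_ok : mNine.all (okIn [mD, mP, mQ, mR]) = true := by decide +kernel
theorem mNine_sep : sepList mNine = true := by decide +kernel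
theorem mNine_nodup : mNine.Nodup ∧ mNine.length = 72 := by decide +kernel
theorem mNine_counts : (mNine.filter fun p => bits24.all fun i => Nat.beq (piter p 3 i) i).length = 9 ∧
    (mNine.filter fun p => bits24.all fun i => Nat.beq (piter p 9 i) i).length = 9 := by decide +kernel
theorem quat_mem : ∀ x : QuaternionGroup 2, quatImg x ∈ mNine := by decide +kernel
theorem quat_mul : ∀ x y : QuaternionGroup 2, prodCheck (quatImg x) (quatImg y) (quatImg (x * y)) = true := by
  decide +kernel
theorem quat_inj : ∀ x y : QuaternionGroup 2, quatImg x = quatImg y → x = y := by decide +kernel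

/-- The group theory. -/
theorem structure_core {H : Type*} [Group H] [Finite H] (hH : Nat.card H = 72)
    (h3 : Nat.card {y : H // y ^ 3 = 1} = 9) (h9 : Nat.card {y : H // y ^ 9 = 1} = 9)
    (f : QuaternionGroup 2 →* H) (hf : Function.Injective f) :
    (∀ Q : Sylow 3 H, (Q : Subgroup H).Normal ∧ Nat.card ↥Q = 9 ∧ ∀ x ∈ (Q : Subgroup H), x ^ 3 = 1) ∧
      ∀ P : Sylow 2 H, Nonempty (↥P ≃* QuaternionGroup 2) := by
  haveI : Fact (Nat.Prime 3) := ⟨Nat.prime_three⟩
  haveI : Fact (Nat.Prime 2) := ⟨Nat.prime_two⟩
  have f3 : (Nat.card H).factorization 3 = 2 := by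
    rw [hH, show (72 : ℕ) = 2 ^ 3 * 3 ^ 2 by norm_num, Nat.factorization_mul (by norm_num) (by norm_num),
      Nat.factorization_pow, Nat.factorization_pow]
    simp [Nat.Prime.factorization Nat.prime_two, Nat.Prime.factorization Nat.prime_three]
  have f2 : (Nat.card H).factorization 2 = 3 := by
    rw [hH, show (72 : ℕ) = 2 ^ 3 * 3 ^ 2 by norm_num, Nat.factorization_mul (by norm_num) (by norm_num),
      Nat.factorization_pow, Nat.factorization_pow]
    simp [Nat.Prime.factorization Nat.prime_two, Nat.Prime.factorization Nat.prime_three]
  have h39 : {y : H | y ^ 3 = 1} = {y : H | y ^ 9 = 1} := by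
    refine Set.eq_of_subset_of_ncard_le (fun y (hy : y ^ 3 = 1) => ?_) ?_ (Set.toFinite _)
    · show y ^ 9 = 1
      rw [show 9 = 3 * 3 from rfl, pow_mul, hy, one_pow]
    · rw [← Nat.card_coe_set_eq, ← Nat.card_coe_set_eq]
      exact le_of_eq (h9.trans h3.symm)
  refine ⟨fun Q => ?_, fun P => ?_⟩
  · have hQ : Nat.card ↥Q = 9 := Q.card_eq_multiplicity.trans (by rw [f3]; rfl)
    have hcar : ((Q : Subgroup H) : Set H) = {y : H | y ^ 3 = 1} := by
      refine Set.eq_of_subset_of_ncard_le (fun y hy => ?_) ?_ (Set.toFinite _)
      · have : (⟨y, hy⟩ : ↥(Q : Subgroup H)) ^ Nat.card ↥Q = 1 := pow_card_eq_one'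
        rw [hQ] at this
        have h' : y ^ 9 = 1 := congrArg Subtype.val this
        rw [h39]; exact h'
      · rw [← Nat.card_coe_set_eq, ← Nat.card_coe_set_eq]
        exact le_of_eq (h3.trans hQ.symm)
    refine ⟨⟨fun n hn g => ?_⟩, hQ, fun x hx => ?_⟩
    · have h' : n ^ 3 = 1 := by
        have : n ∈ ((Q : Subgroup H) : Set H) := hn
        rw [hcar] at this; exact this
      show g * n * g⁻¹ ∈ ((Q : Subgroup H) : Set H)
      rw [hcar]
      show (g * n * g⁻¹) ^ 3 = 1
      rw [conj_pow, h']; group
    · have : x ∈ ((Q : Subgroup H) : Set H) := hx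
      rw [hcar] at this; exact this
  · have hr : Nat.card f.range = 2 ^ (Nat.card H).factorization 2 := by
      rw [f2, ← Nat.card_congr (MonoidHom.ofInjective hf).toEquiv, Nat.card_eq_fintype_card, QuaternionGroup.card]
      norm_num
    exact ⟨(Sylow.equiv P (Sylow.ofCard f.range hr)).trans
      ((MulEquiv.subgroupCongr (Sylow.coe_ofCard f.range hr)).trans (MonoidHom.ofInjective hf).symm)⟩

/-- In the group of the length-24 code, the subgroup fixing a dodecad setwise and three of its points individually (a group of order 72) has a normal Sylow 3-subgroup that is elementary abelian of order 9, and its Sylow 2-subgroups are quaternion of order 8. -/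
theorem result (d : Finset Cfsg.GolayPt) (hd : d ∈ Cfsg.dodecads) (p q r : Cfsg.GolayPt) (hp : p ∈ d) (hq : q ∈ d) (hr : r ∈ d) (hpq : p ≠ q) (hpr : p ≠ r) (hqr : q ≠ r) : (∀ Q : Sylow 3 ↥(MulAction.stabilizer Cfsg.M24 d ⊓ MulAction.stabilizer Cfsg.M24 p ⊓ MulAction.stabilizer Cfsg.M24 q ⊓ MulAction.stabilizer Cfsg.M24 r), (Q : Subgroup ↥(MulAction.stabilizer Cfsg.M24 d ⊓ MulAction.stabilizer Cfsg.M24 p ⊓ MulAction.stabilizer Cfsg.M24 q ⊓ MulAction.stabilizer Cfsg.M24 r)).Normal ∧ Nat.card ↥Q = 9 ∧ ∀ x ∈ (Q : Subgroup ↥(MulAction.stabilizer Cfsg.M24 d ⊓ MulAction.stabilizer Cfsg.M24 p ⊓ MulAction.stabilizer Cfsg.M24 q ⊓ MulAction.stabilizer Cfsg.M24 r)), x ^ 3 = 1) ∧ ∀ P : Sylow 2 ↥(MulAction.stabilizer Cfsg.M24 d ⊓ MulAction.stabilizer Cfsg.M24 p ⊓ MulAction.stabilizer Cfsg.M24 q ⊓ MulAction.stabilizer Cfsg.M24 r), Nonempty (↥P ≃* QuaternionGroup 2) := by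
  have hex : ∀ m ∈ mNine, ∃ g ∈ stabMasks [mD, mP, mQ, mR], Rep g m := fun m hm =>
    exists_in (List.all_eq_true.1 mNine_ok m hm)
  have hK : Nat.card (stabMasks [mD, mP, mQ, mR]) = mNine.length := card_stab_dod_three.trans mNine_nodup.2.symm
  obtain ⟨e⟩ := (std_dod_three_in hd hp hq hr hpq hpr hqr).equiv
    (stabilizer M24 d ⊓ stabilizer M24 p ⊓ stabilizer M24 q ⊓ stabilizer M24 r) fun x => by
    simp only [List.mem_cons, List.not_mem_nil, or_false, forall_eq_or_imp, forall_eq, Subgroup.mem_inf,
      mem_stabilizer_iff, smul_singleton_perm, Finset.singleton_inj]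
    constructor
    · rintro ⟨⟨⟨a, b⟩, c⟩, e⟩; exact ⟨a, b, c, e⟩
    · rintro ⟨a, b, c, e⟩; exact ⟨⟨⟨a, b⟩, c⟩, e⟩
  choose F hF hR using hex
  let g : QuaternionGroup 2 →* stabMasks [mD, mP, mQ, mR] := MonoidHom.mk'
    (fun x => ⟨F (quatImg x) (quat_mem x), hF _ _⟩) fun x y => Subtype.ext
      ((hR _ (quat_mem (x * y))).ext ((hR _ (quat_mem x)).mul (hR _ (quat_mem y)) (quat_mul x y)))
  have hg : Function.Injective g := fun x y h => quat_inj x y (by
    have e' : F (quatImg x) (quat_mem x) = F (quatImg y) (quat_mem y) := congrArg Subtype.val h
    have h1 := hR (quatImg x) (quat_mem x)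
    rw [e'] at h1
    exact rep_unique mNine_sep (quat_mem x) (quat_mem y) h1 (hR _ _))
  have hkill : ∀ n : ℕ, Nat.card {y : ↥(stabilizer M24 d ⊓ stabilizer M24 p ⊓ stabilizer M24 q ⊓ stabilizer M24 r) // y ^ n = 1} =
      (mNine.filter fun p => bits24.all fun i => Nat.beq (piter p n i) i).length := by
    intro n
    rw [← card_killed (fun m hm => ⟨F m hm, hF m hm, hR m hm⟩) mNine_sep mNine_nodup.1 hK n]
    exact Nat.card_congr (e.toEquiv.subtypeEquiv fun y => by
      show y ^ n = 1 ↔ (e y) ^ n = 1
      rw [← map_pow, map_eq_one_iff e e.injective])
  exact structure_core (card_three_point_stabilizer hd hp hq hr hpq hpr hqr)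
    ((hkill 3).trans mNine_counts.1) ((hkill 9).trans mNine_counts.2)
    (e.symm.toMonoidHom.comp g) (e.symm.injective.comp hg)

end Cfsg.Agent.S5619
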