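import Cfsg.Statements.S5620
import Cfsg.Agent.Lib.Concrete.SporMathieu
import Cfsg.Agent.Lib.Concrete.Maximal

set_option linter.style.haveILetI false

set_option autoImplicit false
open scoped Pointwise
open Cfsg

namespace Cfsg.Agent.S5620

open Cfsg.Lib.Concrete MulAction
open scoped Pointwise

theorem mem_M12 {x : Equiv.Perm GolayPt} : x ∈ Spor.M12 ↔ x ∈ M24 ∧ x • Spor.squareDodecad = Spor.squareDodecad :=
  Iff.rfl

theorem none_not_mem : (none : GolayPt) ∉ Spor.squareDodecad := by
  rw [squareDodecad_eq]; decide +kernel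

theorem stab_compl {g : Equiv.Perm GolayPt} {d : Finset GolayPt} : g • dᶜ = dᶜ ↔ g • d = d := by
  rw [smul_compl_points]
  exact compl_inj_iff

/-- Inside the stabiliser of the dodecad of squares (a Mathieu group of degree 12), the stabiliser of the residue 0 (a point of the dodecad) and the stabiliser of the extra point (a point outside the dodecad) are isomorphic but not conjugate; conjugation by a suitable element of the code's group that maps the dodecad of squares onto its complement carries the first onto the second. -/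
theorem result : Nonempty (↥(Cfsg.Spor.M12 ⊓ MulAction.stabilizer (Equiv.Perm Cfsg.GolayPt) (none : Cfsg.GolayPt)) ≃* ↥Cfsg.Spor.M11) ∧ (¬ ∃ k ∈ Cfsg.Spor.M12, MulAut.conj k • Cfsg.Spor.M11 = Cfsg.Spor.M12 ⊓ MulAction.stabilizer (Equiv.Perm Cfsg.GolayPt) (none : Cfsg.GolayPt)) ∧ ∃ g ∈ Cfsg.M24, g • Cfsg.Spor.squareDodecad = Finset.univ \ Cfsg.Spor.squareDodecad ∧ MulAut.conj g • Cfsg.Spor.M11 = Cfsg.Spor.M12 ⊓ MulAction.stabilizer (Equiv.Perm Cfsg.GolayPt) (none : Cfsg.GolayPt) := by
  classical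
  set D := Spor.squareDodecad with hD
  have hDm : D ∈ dodecads := squareDodecad_mem
  have h0 : (some 0 : GolayPt) ∈ D := zero_mem_squareDodecad
  obtain ⟨g₁, hg₁, hg₁d⟩ := M24_dodecad_transitive hDm (compl_dodecad hDm)
  haveI : IsPretransitive (stabilizer M24 Dᶜ) (dodPoints Dᶜ) :=
    have := dod_two_transitive (compl_dodecad hDm)
    isPretransitive_of_is_two_pretransitive
  have hmem : g₁ (some 0) ∈ Dᶜ := hg₁d ▸ Finset.smul_mem_smul_finset (a := g₁) h0
  obtain ⟨k, hk⟩ := MulAction.exists_smul_eq (stabilizer M24 Dᶜ) (⟨g₁ (some 0), hmem⟩ : dodPoints Dᶜ)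
    ⟨none, Finset.mem_compl.2 none_not_mem⟩
  set g := k.1.1 * g₁ with hg
  have hgM : g ∈ M24 := mul_mem k.1.2 hg₁
  have hgd : g • D = Dᶜ := by rw [hg, mul_smul, hg₁d]; exact k.2
  have hg0 : g (some 0) = none := congrArg Subtype.val hk
  have hconj : MulAut.conj g • Spor.M11 = Spor.M12 ⊓ stabilizer (Equiv.Perm GolayPt) (none : GolayPt) := by
    ext x
    rw [Subgroup.mem_pointwise_smul_iff_inv_smul_mem, MulAut.smul_def, ← map_inv, MulAut.conj_apply, inv_inv]
    constructor
    · rintro ⟨⟨hx, hxd⟩, hx0⟩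
      have hxM : x ∈ M24 := by
        have := mul_mem (mul_mem hgM (show g⁻¹ * x * g ∈ M24 from hx)) (inv_mem hgM : g⁻¹ ∈ M24)
        simpa [mul_assoc] using this
      refine ⟨⟨hxM, ?_⟩, ?_⟩
      · have hxd' : g⁻¹ • x • g • D = D := by rw [← mul_smul, ← mul_smul, ← mul_assoc]; exact hxd
        rw [hgd, inv_smul_eq_iff, hgd] at hxd'
        exact stab_compl.1 hxd'
      · have hx0' : g⁻¹ (x (g (some 0))) = some 0 := hx0
        rw [hg0, Equiv.Perm.inv_eq_iff_eq, hg0] at hx0'
        exact hx0'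
    · rintro ⟨⟨hx, hxd⟩, hx0⟩
      refine ⟨⟨M24.mul_mem (M24.mul_mem (M24.inv_mem hgM) hx) hgM, ?_⟩, ?_⟩
      · show (g⁻¹ * x * g) • D = D
        rw [mul_smul, mul_smul, hgd, stab_compl.2 hxd, ← hgd, inv_smul_smul]
      · show g⁻¹ (x (g (some 0))) = some 0
        rw [hg0, show x none = none from hx0, ← hg0]
        simp
  refine ⟨?_, ?_, g, hgM, ?_, hconj⟩
  · have e := Subgroup.equivSMul (MulAut.conj g) Spor.M11
    exact ⟨(e.trans (MulEquiv.subgroupCongr hconj)).symm⟩
  · rintro ⟨k', hk', he⟩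
    have hfixed : k' (some 0) ∈ D := by
      have h1 := Finset.smul_mem_smul_finset (a := k') h0
      rw [(mem_M12.1 hk').2] at h1
      exact h1
    set a := k' (some 0) with ha
    obtain ⟨b, hb, hba⟩ := Finset.exists_mem_ne (show 1 < D.card by rw [hDm.2]; norm_num) a
    have hDc : D.card = 12 := hDm.2
    obtain ⟨r, hr, hra, hrb⟩ : ∃ r ∈ D, r ≠ a ∧ r ≠ b := by
      obtain ⟨r, hr, hrn⟩ := Finset.exists_mem_notMem_of_card_lt_card (show ({a, b} : Finset GolayPt).card < D.card by
        have := Finset.card_le_two (a := a) (b := b); omega)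
      simp only [Finset.mem_insert, Finset.mem_singleton, not_or] at hrn
      exact ⟨r, hr, hrn.1, hrn.2⟩
    have a1 := Ne.symm hba
    have a2 := Ne.symm hra
    have a3 := Ne.symm hrb
    obtain ⟨h, hh, hhd, hhn, hhi⟩ := m11_three_transitive (compl_dodecad hDm) (p := (none : GolayPt))
      (Finset.mem_compl.2 none_not_mem)
      ⟨![a, b, r], by intro i j e; fin_cases i <;> fin_cases j <;> simp_all⟩
      ⟨![b, a, r], by intro i j e; fin_cases i <;> fin_cases j <;> simp_all⟩
      (by intro i; fin_cases i <;> simp only [Finset.mem_compl, not_not] <;> assumption)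
      (by intro i; fin_cases i <;> simp only [Finset.mem_compl, not_not] <;> assumption)
    have hin : h ∈ MulAut.conj k' • Spor.M11 := by
      rw [he]
      exact ⟨⟨hh, stab_compl.1 hhd⟩, hhn⟩
    rw [Subgroup.mem_pointwise_smul_iff_inv_smul_mem, MulAut.smul_def, ← map_inv, MulAut.conj_apply, inv_inv] at hin
    have hfix : k'⁻¹ (h (k' (some 0))) = some 0 := hin.2
    rw [Equiv.Perm.inv_eq_iff_eq, ← ha] at hfix
    have : h a = b := hhi 0
    exact hba (this.symm.trans hfix)
  · rw [← Finset.compl_eq_univ_sdiff]; exact hgd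

end Cfsg.Agent.S5620
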