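import Cfsg.Statements.S5622
import Cfsg.Agent.Lib.Concrete.GolayAbstract

set_option autoImplicit false
open Cfsg

namespace Cfsg.Agent.S5622

/-- Let C be a self-dual binary code of length 24 with minimum weight at least 8 (a 12-dimensional subspace of the 24-dimensional space over the field with two elements, any two of whose words have dot product zero, with no non-zero word of weight below 8 — an abstract extended binary Golay code). Then the minimum weight of C is exactly 8, and the supports of the words of weight 8 (the octads) form a Steiner system S(5, 8, 24) on the 24 coordinates: every 5 coordinates lie in the support of exactly one word of weight 8. -/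
theorem result (C : Submodule (ZMod 2) (Fin 24 → ZMod 2)) (hdim : Module.finrank (ZMod 2) C = 12) (horth : ∀ v ∈ C, ∀ w ∈ C, ∑ i, v i * w i = 0) (hmin : ∀ w ∈ C, w ≠ 0 → 8 ≤ hammingNorm w) : (∃ w ∈ C, hammingNorm w = 8) ∧ Cfsg.IsSteinerSystem 5 8 (Cfsg.wordsOfWeight (C : Set (Fin 24 → ZMod 2)) 8) := by
  obtain ⟨o, ho, ho8, -⟩ := Cfsg.Agent.GolayAbstract.exists_octad C hdim hmin {0, 1, 2, 3, 4} rfl
  refine ⟨⟨o, ho, ho8⟩, fun b hb => hb.2, fun s hs => ?_⟩
  obtain ⟨o, ho, ho8, hso⟩ := Cfsg.Agent.GolayAbstract.exists_octad C hdim hmin s hs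
  refine ⟨_, ⟨⟨⟨o, ho, rfl⟩, ho8⟩, hso⟩, ?_⟩
  rintro _ ⟨⟨⟨o', ho', rfl⟩, ho'8⟩, hso'⟩
  show Cfsg.Agent.GolayAbstract.supp o' = Cfsg.Agent.GolayAbstract.supp o
  by_contra hne
  have hne' : o' + o ≠ 0 := fun h0 => hne (by
    rw [show o' = o from funext fun j => by
      have := congrFun h0 j
      simp only [Pi.add_apply, Pi.zero_apply] at this
      exact CharTwo.add_eq_zero.mp this])
  have h := hmin _ (C.add_mem ho' ho) hne'
  rw [← Cfsg.Agent.GolayAbstract.card_supp, Cfsg.Agent.GolayAbstract.supp_add, symmDiff_def,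
    Finset.sup_eq_union, Finset.card_union_of_disjoint disjoint_sdiff_sdiff] at h
  have hint : 5 ≤ (Cfsg.Agent.GolayAbstract.supp o' ∩ Cfsg.Agent.GolayAbstract.supp o).card :=
    hs ▸ Finset.card_le_card (Finset.subset_inter hso' hso)
  have h1 := Finset.card_sdiff_add_card_inter (Cfsg.Agent.GolayAbstract.supp o') (Cfsg.Agent.GolayAbstract.supp o)
  have h2 := Finset.card_sdiff_add_card_inter (Cfsg.Agent.GolayAbstract.supp o) (Cfsg.Agent.GolayAbstract.supp o')
  rw [Finset.inter_comm] at h2
  have h3 : (Cfsg.Agent.GolayAbstract.supp o').card = 8 := ho'8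
  have h4 : (Cfsg.Agent.GolayAbstract.supp o).card = 8 := ho8
  omega

end Cfsg.Agent.S5622
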