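import Cfsg.Statements.S5623
import Cfsg.Agent.Lib.Concrete.GolayAbstract

set_option autoImplicit false
open Cfsg

namespace Cfsg.Agent.S5623

/-- Let C be a self-dual binary code of length 24 with minimum weight at least 8 (a 12-dimensional subspace of the 24-dimensional space over the field with two elements, any two of whose words have dot product zero, with no non-zero word of weight below 8 — an abstract extended binary Golay code). Then every coset w + C of C in the ambient space contains either exactly one word of weight at most 4, which then has weight at most 3, or exactly six words of weight at most 4, all of weight exactly 4 and with pairwise disjoint supports (a sextet). -/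
theorem result (C : Submodule (ZMod 2) (Fin 24 → ZMod 2)) (hdim : Module.finrank (ZMod 2) C = 12) (horth : ∀ v ∈ C, ∀ w ∈ C, ∑ i, v i * w i = 0) (hmin : ∀ w ∈ C, w ≠ 0 → 8 ≤ hammingNorm w) (w : Fin 24 → ZMod 2) : (∃ u : Fin 24 → ZMod 2, {u : Fin 24 → ZMod 2 | u - w ∈ C ∧ hammingNorm u ≤ 4} = {u} ∧ hammingNorm u ≤ 3) ∨ ({u : Fin 24 → ZMod 2 | u - w ∈ C ∧ hammingNorm u ≤ 4}.ncard = 6 ∧ ∀ u ∈ {u : Fin 24 → ZMod 2 | u - w ∈ C ∧ hammingNorm u ≤ 4}, hammingNorm u = 4 ∧ ∀ u' ∈ {u : Fin 24 → ZMod 2 | u - w ∈ C ∧ hammingNorm u ≤ 4}, u ≠ u' → Disjoint (Finset.univ.filter fun i => u i ≠ 0) (Finset.univ.filter fun i => u' i ≠ 0)) := by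
  classical
  set L : Set (Fin 24 → ZMod 2) := {u : Fin 24 → ZMod 2 | u - w ∈ C ∧ hammingNorm u ≤ 4} with hL
  have hmem : ∀ u, u ∈ L ↔ u + w ∈ C ∧ (Cfsg.Agent.GolayAbstract.supp u).card ≤ 4 := fun u => by
    have e : u - w = u + w := funext fun j => by simp [CharTwo.sub_eq_add]
    show u - w ∈ C ∧ _ ↔ _
    rw [e]; rfl
  have hdiff : ∀ u ∈ L, ∀ v ∈ L, u + v ∈ C := by
    intro u hu v hv
    have h := C.add_mem ((hmem u).mp hu).1 ((hmem v).mp hv).1
    have e : (u + w) + (v + w) = u + v := by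
      funext j
      simp only [Pi.add_apply]
      rw [add_add_add_comm, CharTwo.add_self_eq_zero, add_zero]
    rwa [e] at h
  by_cases hsm : ∃ u ∈ L, (Cfsg.Agent.GolayAbstract.supp u).card ≤ 3
  · obtain ⟨u, hu, hu3⟩ := hsm
    refine Or.inl ⟨u, Set.eq_singleton_iff_unique_mem.mpr ⟨hu, fun v hv => ?_⟩, hu3⟩
    have := ((hmem v).mp hv).2
    exact Cfsg.Agent.GolayAbstract.eq_of_small C hmin (hdiff v hv u hu) (by omega)
  push Not at hsm
  have h4 : ∀ u ∈ L, (Cfsg.Agent.GolayAbstract.supp u).card = 4 := fun u hu => by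
    have := ((hmem u).mp hu).2
    have := hsm u hu
    omega
  have hdisj : ∀ u ∈ L, ∀ v ∈ L, u ≠ v →
      Disjoint (Cfsg.Agent.GolayAbstract.supp u) (Cfsg.Agent.GolayAbstract.supp v) := by
    intro u hu v hv hne
    have hne' : u + v ≠ 0 := fun h0 => hne (funext fun j => by
      have := congrFun h0 j
      simp only [Pi.add_apply, Pi.zero_apply] at this
      exact CharTwo.add_eq_zero.mp this)
    have h := hmin _ (hdiff u hu v hv) hne'
    rw [← Cfsg.Agent.GolayAbstract.card_supp, Cfsg.Agent.GolayAbstract.supp_add, symmDiff_def,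
      Finset.sup_eq_union, Finset.card_union_of_disjoint disjoint_sdiff_sdiff] at h
    have h1 := Finset.card_sdiff_add_card_inter (Cfsg.Agent.GolayAbstract.supp u) (Cfsg.Agent.GolayAbstract.supp v)
    have h2 := Finset.card_sdiff_add_card_inter (Cfsg.Agent.GolayAbstract.supp v) (Cfsg.Agent.GolayAbstract.supp u)
    rw [Finset.inter_comm] at h2
    have := h4 u hu
    have := h4 v hv
    rw [Finset.disjoint_iff_inter_eq_empty, ← Finset.card_eq_zero]
    omega
  refine Or.inr ⟨?_, fun u hu => ⟨h4 u hu, fun v hv hne => hdisj u hu v hv hne⟩⟩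
  set Lf : Finset (Fin 24 → ZMod 2) := L.toFinite.toFinset with hLf
  have hmf : ∀ u, u ∈ Lf ↔ u ∈ L := fun u => Set.Finite.mem_toFinset _
  have hcov : Lf.biUnion Cfsg.Agent.GolayAbstract.supp = Finset.univ := by
    rw [Finset.eq_univ_iff_forall]
    intro i
    obtain ⟨u, hu, hu2⟩ := Cfsg.Agent.GolayAbstract.exists_leader C hdim hmin w i
    have huL : u ∈ L := (hmem u).mpr ⟨hu, by omega⟩
    have := h4 u huL
    exact Finset.mem_biUnion.mpr ⟨u, (hmf u).mpr huL, (hu2.resolve_left (by omega)).2⟩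
  have hcard := congrArg Finset.card hcov
  rw [Finset.card_biUnion (fun u hu v hv hne => hdisj u ((hmf u).mp hu) v ((hmf v).mp hv) hne),
    Finset.sum_congr rfl (fun u hu => h4 u ((hmf u).mp hu)), Finset.sum_const, smul_eq_mul,
    Finset.card_univ, Fintype.card_fin] at hcard
  rw [Set.ncard_eq_toFinset_card L L.toFinite]
  show Lf.card = 6
  omega

end Cfsg.Agent.S5623
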