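import Cfsg.Statements.S5625
import Mathlib

set_option autoImplicit false
open Cfsg

namespace Cfsg.Agent.S5625

open Finset

variable {α : Type*} [Fintype α] [DecidableEq α]

theorem containing (hα : Fintype.card α = 24) (Bf : Finset (Finset α)) (hk : ∀ b ∈ Bf, b.card = 8)
    (hu : ∀ s : Finset α, s.card = 5 → ∃! b, b ∈ Bf ∧ s ⊆ b) (T : Finset α) (hT : T.card ≤ 5) :
    (Bf.filter (T ⊆ ·)).card * (8 - T.card).choose (5 - T.card) =
      (24 - T.card).choose (5 - T.card) := by
  set U := ((univ \ T).powersetCard (5 - T.card)) with hU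
  have hd : ∀ r ∈ U, Disjoint T r := fun r hr =>
    Finset.disjoint_of_subset_right (mem_powersetCard.mp hr).1 disjoint_sdiff
  have hU2 : ∀ r ∈ U, (T ∪ r).card = 5 := fun r hr => by
    rw [card_union_of_disjoint (hd r hr), (mem_powersetCard.mp hr).2]; omega
  have hkey : ((Bf.filter (T ⊆ ·)).sigma fun b => (b \ T).powersetCard (5 - T.card)).card = U.card := by
    refine card_bij (fun p _ => p.2) ?_ ?_ ?_
    · intro p hp
      obtain ⟨hb, hr⟩ := mem_sigma.mp hp
      obtain ⟨h1, h2⟩ := mem_powersetCard.mp hr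
      exact mem_powersetCard.mpr ⟨h1.trans (sdiff_subset_sdiff (subset_univ _) le_rfl), h2⟩
    · rintro ⟨b, r⟩ hp ⟨b', r'⟩ hp' (rfl : r = r')
      obtain ⟨hb, hr⟩ := mem_sigma.mp hp
      obtain ⟨hb', hr'⟩ := mem_sigma.mp hp'
      have hrU : r ∈ U := mem_powersetCard.mpr
        ⟨((mem_powersetCard.mp hr).1).trans (sdiff_subset_sdiff (subset_univ _) le_rfl),
          (mem_powersetCard.mp hr).2⟩
      obtain ⟨c, -, hc⟩ := hu _ (hU2 r hrU)
      have h1 := hc b ⟨(mem_filter.mp hb).1, union_subset (mem_filter.mp hb).2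
        (((mem_powersetCard.mp hr).1).trans sdiff_subset)⟩
      have h2 := hc b' ⟨(mem_filter.mp hb').1, union_subset (mem_filter.mp hb').2
        (((mem_powersetCard.mp hr').1).trans sdiff_subset)⟩
      rw [h1, h2]
    · intro r hr
      obtain ⟨b, ⟨hb, hsub⟩, -⟩ := hu _ (hU2 r hr)
      refine ⟨⟨b, r⟩, mem_sigma.mpr ⟨mem_filter.mpr ⟨hb, union_subset_left hsub⟩, ?_⟩, rfl⟩
      refine mem_powersetCard.mpr ⟨fun x hx => ?_, (mem_powersetCard.mp hr).2⟩
      rw [mem_sdiff]
      exact ⟨hsub (mem_union_right _ hx), fun hxT => (Finset.disjoint_left.mp (hd r hr)) hxT hx⟩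
  rw [card_sigma] at hkey
  rw [Finset.sum_congr rfl (fun b hb => by
    rw [card_powersetCard, card_sdiff_of_subset (mem_filter.mp hb).2, hk b (mem_filter.mp hb).1]),
    sum_const, smul_eq_mul] at hkey
  rw [hkey, hU, card_powersetCard, card_sdiff_of_subset (subset_univ _), card_univ, hα]

theorem moments (Bf : Finset (Finset α)) (Y : Finset α) (j : ℕ) :
    ∑ b ∈ Bf, ((b ∩ Y).card).choose j = ∑ T ∈ Y.powersetCard j, (Bf.filter (T ⊆ ·)).card := by
  have h1 : ∀ b ∈ Bf, ((b ∩ Y).card).choose j = ∑ T ∈ Y.powersetCard j, if T ⊆ b then 1 else 0 := by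
    intro b _
    rw [← card_powersetCard, sum_boole]
    congr 1
    ext T
    simp only [mem_powersetCard, mem_filter, subset_inter_iff]
    tauto
  rw [sum_congr rfl h1, sum_comm]
  refine sum_congr rfl fun T _ => ?_
  rw [sum_boole]; rfl

/-- In any Steiner system S(5, 8, 24) and for any set Y of three points, the blocks meeting Y in exactly 3, 2, 1 and 0 points number 21, 168, 360 and 210 respectively (so there are 759 blocks in all). -/
theorem result (α : Type*) [Fintype α] [DecidableEq α] (hα : Fintype.card α = 24) (B : Set (Finset α)) (hB : Cfsg.IsSteinerSystem 5 8 B) (Y : Finset α) (hY : Y.card = 3) : {b : Finset α | b ∈ B ∧ (b ∩ Y).card = 3}.ncard = 21 ∧ {b : Finset α | b ∈ B ∧ (b ∩ Y).card = 2}.ncard = 168 ∧ {b : Finset α | b ∈ B ∧ (b ∩ Y).card = 1}.ncard = 360 ∧ {b : Finset α | b ∈ B ∧ (b ∩ Y).card = 0}.ncard = 210 := by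
  classical
  set Bf : Finset (Finset α) := Finset.univ.filter (· ∈ B) with hBf
  have hm : ∀ b, b ∈ Bf ↔ b ∈ B := fun b => by simp [hBf]
  have hk : ∀ b ∈ Bf, b.card = 8 := fun b hb => hB.1 b ((hm b).mp hb)
  have hu : ∀ s : Finset α, s.card = 5 → ∃! b, b ∈ Bf ∧ s ⊆ b := fun s hs => by
    simpa [hm] using hB.2 s hs
  have hc := containing hα Bf hk hu
  have e3 : ∀ k, {b : Finset α | b ∈ B ∧ (b ∩ Y).card = k}.ncard =
      (Bf.filter fun b => (b ∩ Y).card = k).card := fun k => by
    rw [← Set.ncard_coe_finset]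
    congr 1
    ext b
    simp [hm]
  rw [e3, e3, e3, e3]
  have hle : ∀ b ∈ Bf, (b ∩ Y).card ≤ 3 := fun b _ => hY ▸ Finset.card_le_card Finset.inter_subset_right
  set c : ℕ → ℕ := fun k => (Bf.filter fun b => (b ∩ Y).card = k).card
  have hsum : ∀ j, ∑ b ∈ Bf, ((b ∩ Y).card).choose j =
      c 0 * (0 : ℕ).choose j + c 1 * (1 : ℕ).choose j + c 2 * (2 : ℕ).choose j + c 3 * (3 : ℕ).choose j := by
    intro j
    rw [← Finset.sum_fiberwise_of_maps_to (g := fun b => (b ∩ Y).card) (t := Finset.range 4)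
      (fun b hb => Finset.mem_range.mpr (by have := hle b hb; omega))]
    simp only [Finset.sum_range_succ, Finset.sum_range_zero, zero_add]
    congr 1
    congr 1
    congr 1
    all_goals
      rw [Finset.sum_congr rfl (fun b hb => by rw [(Finset.mem_filter.mp hb).2]), Finset.sum_const,
        smul_eq_mul]
  have hlam : ∀ j v, j ≤ 3 → v * (8 - j).choose (5 - j) = (24 - j).choose (5 - j) →
      0 < (8 - j).choose (5 - j) →
      ∑ b ∈ Bf, ((b ∩ Y).card).choose j = (3 : ℕ).choose j * v := by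
    intro j v hj hv hpos
    rw [moments, Finset.sum_congr rfl (g := fun _ => v), Finset.sum_const, Finset.card_powersetCard,
      hY, smul_eq_mul]
    intro T hT
    have h := hc T (by rw [(Finset.mem_powersetCard.mp hT).2]; omega)
    rw [(Finset.mem_powersetCard.mp hT).2, ← hv] at h
    exact Nat.eq_of_mul_eq_mul_right hpos h
  have a0 := hlam 0 759 (by norm_num) (by decide) (by decide)
  have a1 := hlam 1 253 (by norm_num) (by decide) (by decide)
  have a2 := hlam 2 77 (by norm_num) (by decide) (by decide)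
  have a3 := hlam 3 21 (by norm_num) (by decide) (by decide)
  rw [hsum] at a0 a1 a2 a3
  norm_num [Nat.choose] at a0 a1 a2 a3
  refine ⟨?_, ?_, ?_, ?_⟩
  · show c 3 = 21; omega
  · show c 2 = 168; omega
  · show c 1 = 360; omega
  · show c 0 = 210; omega

end Cfsg.Agent.S5625
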