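import Cfsg.Statements.S5632
import Cfsg.Agent.Lib.Linear.Subspace

set_option autoImplicit false
open Cfsg

namespace Cfsg.Agent.S5632

/-- For a finite field F and subspaces 0 < W < U of F^n with dim W + dim U = n, the elements of SL_n(F) stabilising both W and U form a subgroup that is not maximal in SL_n(F): some subgroup lies strictly between it and SL_n(F). -/
theorem result {F : Type*} [Field F] [Fintype F] (n : ℕ) (W U : Submodule F (Fin n → F)) (hW0 : W ≠ ⊥) (hWU : W < U) (hdim : Module.finrank F W + Module.finrank F U = n) : ∃ K : Subgroup (Matrix.GeneralLinearGroup (Fin n) F), Cfsg.Geo.subspaceStabilizer W ⊓ Cfsg.Geo.subspaceStabilizer U ⊓ Cfsg.Geo.specialLinear (Fin n) F < K ∧ K < Cfsg.Geo.specialLinear (Fin n) F := by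
  obtain ⟨u, huU, huW⟩ := SetLike.exists_of_lt hWU
  have hUtop : U ≠ ⊤ := by
    rintro rfl
    rw [finrank_top, Module.finrank_fin_fun] at hdim
    exact hW0 (Submodule.finrank_eq_zero.1 (by omega))
  obtain ⟨z, -, hz⟩ := SetLike.exists_of_lt (lt_top_iff_ne_top.2 hUtop)
  refine ⟨_, Cfsg.Lib.Linear.subspaceStabilizer_pair_lt W U u z huU hz ?_,
    Cfsg.Lib.Linear.subspaceStabilizer_inf_SL_lt W hW0 (fun h => hUtop (top_le_iff.1 (h ▸ hWU.le)))⟩
  intro h
  obtain ⟨w, hw, y, hy, he⟩ := Submodule.mem_sup.1 h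
  obtain ⟨c, rfl⟩ := Submodule.mem_span_singleton.1 hy
  rcases eq_or_ne c 0 with rfl | hc
  · rw [zero_smul, add_zero] at he
    exact huW (he ▸ hw)
  · apply hz
    have : c • z ∈ U := by
      have := U.sub_mem huU (hWU.le hw)
      rwa [← he, add_sub_cancel_left] at this
    simpa [smul_smul, inv_mul_cancel₀ hc] using U.smul_mem c⁻¹ this

end Cfsg.Agent.S5632
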