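import Cfsg.Statements.S5635
import Cfsg.Agent.Lib.Linear.WeightNotMax

set_option autoImplicit false
open Cfsg

namespace Cfsg.Agent.S5635

/-- For a finite field F with q elements and n ≥ 13, let D be a decomposition of F^n into t ≥ 2 independent subspaces of equal dimension m spanning F^n, where m = 1 and q ≤ 4, or m = 2 and q = 2. Then the elements of SL_n(F) permuting the members of D form a subgroup that is not maximal: some subgroup lies strictly between it and SL_n(F). -/
theorem result {F : Type*} [Field F] [Fintype F] (n : ℕ) (hn : 13 ≤ n) {t : ℕ} (m : ℕ) (D : Fin t → Submodule F (Fin n → F)) (hD : Cfsg.Geo.IsMDecomposition m D) (h : (m = 1 ∧ Fintype.card F ≤ 4) ∨ (m = 2 ∧ Fintype.card F = 2)) : ∃ K : Subgroup (Matrix.GeneralLinearGroup (Fin n) F), Cfsg.Geo.decompositionStabilizer D ⊓ Cfsg.Geo.specialLinear (Fin n) F < K ∧ K < Cfsg.Geo.specialLinear (Fin n) F := by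
  classical
  have hint := DirectSum.isInternal_submodule_of_iSupIndep_of_iSup_eq_top hD.indep hD.iSup_eq_top
  have hdim := (LinearEquiv.ofBijective (DirectSum.coeLinearMap D) hint).finrank_eq
  rw [Module.finrank_directSum] at hdim
  simp only [hD.finrank_eq, Finset.sum_const, Finset.card_univ, Fintype.card_fin, smul_eq_mul,
    Module.finrank_fintype_fun_eq_card] at hdim
  have ht : 5 ≤ t := by rcases h with ⟨rfl, -⟩ | ⟨rfl, -⟩ <;> omega
  have h1 := Fintype.one_lt_card (α := F)
  have hc := Nat.cast_card_eq_zero F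
  have htwo : Fintype.card F = 2 ∨ Fintype.card F = 4 → (2 : F) = 0 := by
    rintro (h2 | h2) <;> rw [h2] at hc
    · exact_mod_cast hc
    · refine pow_eq_zero_iff two_ne_zero |>.mp (?_ : (2 : F) ^ 2 = 0)
      rw [sq]
      exact_mod_cast hc
  by_cases h3 : m = 1 ∧ Fintype.card F = 3
  · obtain ⟨rfl, h3⟩ := h3
    refine Cfsg.Lib.Linear.Weight.not_max_SL hD ht ?_
      (Cfsg.Lib.Linear.Weight.ind_four_three h3)
    rw [h3] at hc
    have hthree : (3 : F) = 0 := by exact_mod_cast hc
    push_cast
    linear_combination (2 : F) * hthree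
  have h24 : (Fintype.card F = 2 ∨ Fintype.card F = 4) ∧ Fintype.card F ^ m ≤ 4 := by
    rcases h with ⟨rfl, hq⟩ | ⟨rfl, hq⟩
    · simp only [true_and] at h3
      exact ⟨by omega, by rw [pow_one]; exact hq⟩
    · exact ⟨Or.inl hq, by rw [hq]; norm_num⟩
  have h2 := htwo h24.1
  refine Cfsg.Lib.Linear.Weight.not_max_SL hD ht ?_ (Cfsg.Lib.Linear.Weight.ind_four_two h2 ?_)
  · push_cast
    linear_combination (3 : F) * h2
  · rw [Nat.card_eq_fintype_card, Fintype.card_fun, Fintype.card_fin]
    exact h24.2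

end Cfsg.Agent.S5635
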