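import Cfsg.Statements.S5638
import Mathlib

set_option linter.style.haveILetI false

set_option autoImplicit false
open Cfsg

namespace Cfsg.Agent.S5638

open scoped Kronecker in
/-- Over two elements a Kronecker stabiliser lies in a proper overgroup. -/
theorem exists_between_kronecker {F : Type*} [Field F] [Fintype F] (hq : Fintype.card F = 2) {m : ℕ}
    (i j : Fin m) (hij : i ≠ j) :
    ∃ N : Subgroup (GL (Fin 2 × Fin m) F), Cfsg.Geo.kroneckerSubgroup 2 m F < N ∧ N < ⊤ := by
  classical
  have h2 : ∀ x : F, x = 0 ∨ x = 1 := by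
    intro x
    have hu : ({0, 1} : Finset F) = Finset.univ := Finset.eq_univ_of_card _ (by rw [Finset.card_pair zero_ne_one, hq])
    have := Finset.mem_univ x
    rw [← hu] at this
    simpa using this
  have h11 : (1 : F) + 1 = 0 := (h2 (1 + 1)).resolve_right (fun h => one_ne_zero (by linear_combination h : (1:F) = 0))
  let om : GL (Fin 2) F := ⟨!![0, 1; 1, 1], !![1, 1; 1, 0],
    by ext a b; fin_cases a <;> fin_cases b <;> simp [Matrix.mul_apply, h11],
    by ext a b; fin_cases a <;> fin_cases b <;> simp [Matrix.mul_apply, h11]⟩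
  let ι : GL (Fin 2) F →* GL (Fin 2 × Fin m) F := Units.map
    { toFun := fun A => A ⊗ₖ (1 : Matrix (Fin m) (Fin m) F)
      map_one' := Matrix.one_kronecker_one
      map_mul' := fun A B => by rw [← Matrix.mul_kronecker_mul, one_mul] : Matrix (Fin 2) (Fin 2) F →* Matrix (Fin 2 × Fin m) (Fin 2 × Fin m) F }
  have hι : ∀ A : GL (Fin 2) F, (ι A).val = A.val ⊗ₖ (1 : Matrix (Fin m) (Fin m) F) := fun A => rfl
  have hom3 : orderOf om = 3 := by
    have : Fact (Nat.Prime 3) := ⟨Nat.prime_three⟩
    refine orderOf_eq_prime ?_ ?_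
    · apply Units.ext
      rw [Units.val_pow_eq_pow_val, Units.val_one, pow_three]
      ext a b
      fin_cases a <;> fin_cases b <;> simp [om, Matrix.mul_apply, h11]
    · intro h
      have := congrArg (fun g : GL (Fin 2) F => g.val 0 0) h
      simp [om] at this
  have hnorm : (Subgroup.zpowers om).Normal := by
    apply Subgroup.normal_of_index_eq_two
    have hG : Nat.card (GL (Fin 2) F) = 6 := by
      rw [Matrix.card_GL_field, hq]; decide
    have := Subgroup.card_mul_index (Subgroup.zpowers om)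
    rw [Nat.card_zpowers, hom3, hG] at this
    omega
  set Z := (Subgroup.zpowers om).map ι with hZ
  refine ⟨Subgroup.normalizer (Z : Set (GL (Fin 2 × Fin m) F)), ?_, ?_⟩
  · refine lt_of_le_of_ne ?_ ?_
    · rintro g ⟨a, b, hg⟩
      have key : ∀ A : GL (Fin 2) F, g * ι A * g⁻¹ = ι (a * A * a⁻¹) := by
        intro A
        rw [mul_inv_eq_iff_eq_mul]
        apply Units.ext
        rw [Units.val_mul, Units.val_mul, hg, hι, hι, ← Matrix.mul_kronecker_mul,
          ← Matrix.mul_kronecker_mul, mul_one, one_mul]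
        congr 1
        simp [mul_assoc]
      rw [Subgroup.mem_normalizer_iff]
      intro x
      constructor
      · rintro ⟨A, hA, rfl⟩
        exact ⟨a * A * a⁻¹, hnorm.conj_mem A hA a, (key A).symm⟩
      · rintro ⟨A, hA, hAx⟩
        refine ⟨a⁻¹ * A * a, ?_, ?_⟩
        · simpa using hnorm.conj_mem A hA a⁻¹
        · have h := key (a⁻¹ * A * a)
          rw [show a * (a⁻¹ * A * a) * a⁻¹ = A by group, hAx] at h
          exact mul_left_cancel (mul_right_cancel h)
    · intro heq
      let Nm : Matrix (Fin m) (Fin m) F := Matrix.single i j 1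
      have hN : Nm * Nm = 0 := Matrix.single_mul_single_of_ne (α := F) (1 : F) i j i hij.symm 1
      have hY : ((1 : Matrix (Fin 2 × Fin m) (Fin 2 × Fin m) F) + om.val ⊗ₖ Nm) *
          (1 - om.val ⊗ₖ Nm) = 1 := by
        rw [mul_sub, mul_one, add_mul, one_mul, ← Matrix.mul_kronecker_mul, hN, Matrix.kronecker_zero]
        abel
      let y : GL (Fin 2 × Fin m) F := ⟨_, _, hY, mul_eq_one_comm.1 hY⟩
      have hy : y ∈ Subgroup.centralizer (Z : Set (GL (Fin 2 × Fin m) F)) := by
        rintro _ ⟨A, ⟨k, rfl⟩, rfl⟩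
        apply Units.ext
        rw [Units.val_mul, Units.val_mul, hι]
        show _ * ((1 : Matrix (Fin 2 × Fin m) (Fin 2 × Fin m) F) + om.val ⊗ₖ Nm) = (1 + om.val ⊗ₖ Nm) * _
        rw [mul_add, mul_one, add_mul, one_mul, ← Matrix.mul_kronecker_mul, ← Matrix.mul_kronecker_mul,
          one_mul, mul_one]
        congr 2
        exact congrArg Units.val ((Commute.refl om).zpow_left k).eq
      have hy' : y ∈ Cfsg.Geo.kroneckerSubgroup 2 m F := heq ▸ Subgroup.centralizer_le_normalizer _ hy
      obtain ⟨a, b, hab⟩ := hy'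
      have e1 := congrFun₂ hab ((0 : Fin 2), i) ((0 : Fin 2), i)
      have e2 := congrFun₂ hab ((0 : Fin 2), i) ((1 : Fin 2), j)
      have e3 := congrFun₂ hab ((0 : Fin 2), i) ((1 : Fin 2), i)
      simp [y, om, Nm, Matrix.kronecker_apply, Matrix.single, hij, hij.symm, Matrix.one_apply] at e1 e2 e3
      rcases e3 with h | h
      · rw [h] at e2; simp at e2
      · rw [h] at e1; simp at e1
  · refine lt_top_iff_ne_top.2 fun htop => ?_
    let Z1 : Matrix (Fin 2 × Fin m) (Fin 2 × Fin m) F := Matrix.single (0, i) (0, j) 1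
    have hN : Z1 * Z1 = 0 := Matrix.single_mul_single_of_ne (α := F) (1 : F) ((0 : Fin 2), i) (0, j) (0, i)
      (fun h => hij (congrArg Prod.snd h).symm) 1
    have hY : (1 + Z1) * (1 - Z1) = 1 := by
      rw [mul_sub, mul_one, add_mul, one_mul, hN]; abel
    let z : GL (Fin 2 × Fin m) F := ⟨_, _, hY, mul_eq_one_comm.1 hY⟩
    have hz : z ∈ Subgroup.normalizer (Z : Set (GL (Fin 2 × Fin m) F)) := htop ▸ Subgroup.mem_top z
    obtain ⟨A, hA, hAx⟩ := ((Subgroup.mem_normalizer_iff.1 hz) (ι om)).1 ⟨om, Subgroup.mem_zpowers om, rfl⟩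
    have hA' : A = 1 ∨ A = om ∨ A = om ^ 2 := by
      obtain ⟨k, rfl⟩ := hA
      show om ^ k = 1 ∨ om ^ k = om ∨ om ^ k = om ^ 2
      rw [← zpow_mod_orderOf, hom3]
      have h1 := Int.emod_nonneg k (show ((3 : ℕ) : ℤ) ≠ 0 by norm_num)
      have h2 := Int.emod_lt_of_pos k (show (0 : ℤ) < ((3 : ℕ) : ℤ) by norm_num)
      generalize k % ((3 : ℕ) : ℤ) = r at h1 h2 ⊢
      obtain rfl | rfl | rfl : r = 0 ∨ r = 1 ∨ r = 2 := by omega
      · exact Or.inl (zpow_zero om)
      · exact Or.inr (Or.inl (zpow_one om))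
      · exact Or.inr (Or.inr (zpow_natCast om 2))
    rw [eq_mul_inv_iff_mul_eq] at hAx
    have e := congrArg (fun g : GL (Fin 2 × Fin m) F => g.val ((0 : Fin 2), i) ((1 : Fin 2), j)) hAx
    try simp only at e
    rw [Units.val_mul, Units.val_mul, hι, hι] at e
    rcases hA' with rfl | rfl | rfl <;>
      simp [z, Z1, om, pow_two, mul_add, add_mul, Matrix.kronecker_apply, Matrix.single,
        Matrix.mul_apply, Fintype.sum_prod_type, hij, hij.symm, Matrix.one_apply] at e

/-- Over the field with 2 elements, for n = 2 n₂ ≥ 13, the stabiliser in SL_n of a tensor decomposition with factors of dimensions 2 and n₂ (the conjugate by any P of the Kronecker-product subgroup transported along any bijection Fin n ≃ Fin 2 × Fin n₂, intersected with SL_n) is not a maximal subgroup: some subgroup lies strictly between it and SL_n. -/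
theorem result {F : Type*} [Field F] [Fintype F] (n : ℕ) (hn : 13 ≤ n) (hq : Fintype.card F = 2) (n₂ : ℕ) (e : Fin n ≃ Fin 2 × Fin n₂) (P : Matrix.GeneralLinearGroup (Fin n) F) : ∃ K : Subgroup (Matrix.GeneralLinearGroup (Fin n) F), Cfsg.Geo.tensorProductSubgroup 2 n₂ e P ⊓ Cfsg.Geo.specialLinear (Fin n) F < K ∧ K < Cfsg.Geo.specialLinear (Fin n) F := by
  classical
  have hm : 2 ≤ n₂ := by
    have := Fintype.card_congr e
    simp at this
    omega
  obtain ⟨N, h1, h2⟩ := exists_between_kronecker hq (⟨0, by omega⟩ : Fin n₂) ⟨1, by omega⟩ (by simp [Fin.ext_iff])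
  have hS : Cfsg.Geo.specialLinear (Fin n) F = ⊤ := by
    ext g
    simp only [Subgroup.mem_top, iff_true, Cfsg.Geo.specialLinear, MonoidHom.mem_ker]
    have : Subsingleton Fˣ := by
      rw [← Fintype.card_le_one_iff_subsingleton, Fintype.card_units, hq]
    exact Subsingleton.elim _ _
  rw [hS, inf_top_eq]
  refine ⟨(N.map (Cfsg.Geo.glReindex e.symm).toMonoidHom).map (MulAut.conj P).toMonoidHom, ?_, ?_⟩
  · refine (Subgroup.map_lt_map_iff_of_injective (f := (MulAut.conj P).toMonoidHom) (MulAut.conj P).injective).2 ?_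
    exact (Subgroup.map_lt_map_iff_of_injective (f := (Cfsg.Geo.glReindex (F := F) e.symm).toMonoidHom) (Cfsg.Geo.glReindex (F := F) e.symm).injective).2 h1
  · rw [lt_top_iff_ne_top] at h2 ⊢
    intro h
    apply h2
    apply Subgroup.map_injective (f := (Cfsg.Geo.glReindex (F := F) e.symm).toMonoidHom) (Cfsg.Geo.glReindex (F := F) e.symm).injective
    apply Subgroup.map_injective (f := (MulAut.conj P).toMonoidHom) (MulAut.conj P).injective
    rw [Subgroup.map_top_of_surjective ((Cfsg.Geo.glReindex (F := F) e.symm).toMonoidHom) (Cfsg.Geo.glReindex (F := F) e.symm).surjective,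
      Subgroup.map_top_of_surjective ((MulAut.conj P).toMonoidHom) (MulAut.conj P).surjective]
    exact h

end Cfsg.Agent.S5638
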