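import Cfsg.Statements.S5648
import Cfsg.Agent.Lib.Linear.WeightNotMax
import Cfsg.Agent.Lib.Linear.SymplecticGroup
import Cfsg.Agent.Lib.Linear.OrthBlocksOf

set_option autoImplicit false
open Cfsg

namespace Cfsg.Agent.S5648

/-- Over the field with 2 elements and for m ≥ 7, let D be a decomposition of F^(2m) into t pairwise orthogonal non-degenerate 2-dimensional subspaces for the standard alternating form (t = m ≥ 2). Then the elements of Sp_2m(2) permuting the members of D form a subgroup that is not maximal: some subgroup lies strictly between it and Sp_2m(2). -/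
theorem result {F : Type*} [Field F] [Fintype F] (m : ℕ) (hm : 7 ≤ m) (hq : Fintype.card F = 2) {t : ℕ} (D : Fin t → Submodule F (Fin m ⊕ Fin m → F)) (hD : Cfsg.Geo.IsNondegenerateMDecomposition (Cfsg.sympForm m F) 2 D) : ∃ K : Subgroup (Matrix.GeneralLinearGroup (Fin m ⊕ Fin m) F), Cfsg.Geo.decompositionStabilizer D ⊓ Cfsg.spGL m F < K ∧ K < Cfsg.spGL m F := by
  classical
  have hn := Cfsg.Lib.Linear.Orth.decomp_card hD.decomp
  simp only [Fintype.card_sum, Fintype.card_fin] at hn
  have ht : 5 ≤ t := by omega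
  have hF : ∀ c : F, c = 0 ∨ c = 1 := fun c => by
    by_contra hc
    push Not at hc
    have h := Finset.card_le_univ ({0, 1, c} : Finset F)
    have h3 : ({0, 1, c} : Finset F).card = 3 := by simp [Ne.symm hc.1, Ne.symm hc.2]
    rw [h3, hq] at h
    omega
  have h2 : (2 : F) = 0 := by
    have := Nat.cast_card_eq_zero F
    rw [hq] at this
    exact_mod_cast this
  obtain ⟨φ, hφ⟩ := Cfsg.Lib.Linear.Weight.exists_coords hD.decomp
  set ω := Cfsg.Lib.Linear.Symp.spB m F
  have hωa : ∀ v, ω v v = 0 := Cfsg.Lib.Linear.Symp.spB_isAlt m F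
  have hswap : ∀ x y, ω x y = ω y x := fun x y => by
    have h := hωa (x + y)
    rw [map_add, map_add, LinearMap.add_apply, LinearMap.add_apply, hωa, hωa] at h
    linear_combination h - ω y x * h2
  let e : Fin 2 → Fin 2 → F := fun j => Pi.single j 1
  let P : Fin t → (Fin 2 → F) → Fin m ⊕ Fin m → F := fun i a => φ (Pi.single i a)
  have hPm : ∀ i a, P i a ∈ D i := fun i a => Cfsg.Lib.Linear.Weight.single_mem φ hφ i a
  have horth : ∀ i l, i ≠ l → ∀ a b, ω (P i a) (P l b) = 0 := fun i l h a b => by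
    rw [Cfsg.Lib.Linear.Symp.spB_apply]
    exact hD.orthogonal i l h _ (hPm i a) _ (hPm l b)
  have hPlin : ∀ i (a : Fin 2 → F), P i a = a 0 • P i (e 0) + a 1 • P i (e 1) := fun i a => by
    simp only [P, ← map_smul, ← Pi.single_smul, ← map_add, ← Pi.single_add]
    congr 2
    funext j
    fin_cases j <;> simp [e]
  have hc : ∀ i, ω (P i (e 0)) (P i (e 1)) = 1 := fun i => (hF _).resolve_left fun h0 => by
    obtain ⟨⟨x, hx, hxy⟩, -⟩ := hD.nondegenerate i (P i (e 0)) (hPm _ _) (fun h => by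
      simp only [P, LinearEquiv.map_eq_zero_iff, Pi.single_eq_zero_iff] at h
      exact one_ne_zero (α := F) (by simpa [e] using congrFun h 0))
    refine hxy ?_
    obtain ⟨y, rfl⟩ := φ.surjective x
    have hy : φ y = P i (y i) := by
      show φ y = φ (Pi.single i (y i))
      congr 1
      funext l
      by_cases hl : l = i
      · subst hl; rw [Pi.single_eq_same]
      · rw [Pi.single_eq_of_ne hl]; simpa using (hφ _ _).mp hx l hl
    rw [hy, hPlin, ← Cfsg.Lib.Linear.Symp.spB_apply, map_add, LinearMap.add_apply, map_smul,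
      map_smul, LinearMap.smul_apply, LinearMap.smul_apply, hωa,
      hswap (P i (e 1)) (P i (e 0)),
      h0]
    simp
  let d : LinearMap.BilinForm F (Fin 2 → F) :=
    LinearMap.mk₂ F (fun a b => a 0 * b 1 - a 1 * b 0) (fun a b c => by simp; ring)
      (fun r a b => by simp; ring) (fun a b c => by simp; ring) (fun r a b => by simp; ring)
  have hform : ∀ y y', ω (φ y) (φ y') = ∑ i, d (y i) (y' i) := fun y y' => by
    have hy : ∀ z : Fin t → Fin 2 → F, φ z = ∑ i, P i (z i) := fun z => by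
      simp only [P, ← map_sum, Finset.univ_sum_single]
    rw [hy y, map_sum, LinearMap.sum_apply]
    refine Finset.sum_congr rfl fun i _ => ?_
    rw [hy y', map_sum, Finset.sum_eq_single i (fun l _ hl => horth i l (Ne.symm hl) _ _)
      (fun h => absurd (Finset.mem_univ i) h), hPlin i (y i), hPlin i (y' i)]
    simp only [map_add, map_smul, LinearMap.add_apply, LinearMap.smul_apply, hωa, hc,
      hswap (P i (e 1)) (P i (e 0)),
      smul_eq_mul, d, LinearMap.mk₂_apply]
    linear_combination (y i 1 * y' i 0) * h2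
  have hmem : ∀ g : Matrix.GeneralLinearGroup (Fin m ⊕ Fin m) F,
      (∀ u v, ω (g.val.mulVec u) (g.val.mulVec v) = ω u v) → g ∈ Cfsg.spGL m F :=
    fun g hg u v => by
      simp only [← Cfsg.Lib.Linear.Symp.spB_apply]
      exact hg u v
  refine ⟨Cfsg.Lib.Linear.Weight.preserving (Cfsg.Lib.Linear.Weight.wt φ) ⊓ Cfsg.spGL m F, ?_, ?_⟩
  · refine lt_of_le_not_ge
      (inf_le_inf (Cfsg.Lib.Linear.Weight.stab_le_preserving φ hφ) le_rfl) fun hle => ?_
    obtain ⟨g, -, hN, hb, hg⟩ := Cfsg.Lib.Linear.Weight.exists_mix φ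
      (by push_cast; linear_combination (3 : F) * h2)
      (Cfsg.Lib.Linear.Weight.ind_four_two h2 (by simp [Nat.card_eq_fintype_card, hq]))
      (i0 := ⟨0, by omega⟩) (i1 := ⟨1, by omega⟩) (i2 := ⟨2, by omega⟩) (i3 := ⟨3, by omega⟩)
      (i4 := ⟨4, by omega⟩) (by simp [Fin.ext_iff])
    obtain ⟨σ, hσ⟩ := (hle ⟨hN, hmem g fun u v => by
      obtain ⟨y, rfl⟩ := φ.surjective u
      obtain ⟨y', rfl⟩ := φ.surjective v
      rw [hform y y', ← hb d y y', ← hform, φ.apply_symm_apply, φ.apply_symm_apply]⟩).1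
    have hu : e 0 ≠ 0 := fun h => one_ne_zero (α := F) (by simpa [e] using congrFun h 0)
    obtain ⟨e4, e1⟩ := hg (e 0)
    have hmem : g.val.mulVec (P ⟨0, by omega⟩ (e 0)) ∈ D (σ ⟨0, by omega⟩) := by
      rw [← hσ]
      exact ⟨_, hPm _ _, by rw [Matrix.toLin'_apply]⟩
    have hz := (hφ _ _).mp hmem
    by_cases hl : σ (⟨0, by omega⟩ : Fin t) = ⟨4, by omega⟩
    · refine smul_ne_zero (show (5 : F) ≠ 0 from fun h => one_ne_zero (α := F)
        (by linear_combination h - 2 * h2)) hu ?_
      rw [← e1]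
      exact hz _ (by rw [hl]; simp [Fin.ext_iff])
    · exact hu (e4 ▸ hz _ (Ne.symm hl))
  · refine lt_of_le_not_ge inf_le_right fun hle => ?_
    let i0 : Fin t := ⟨0, by omega⟩
    let i1 : Fin t := ⟨1, by omega⟩
    have h01 : i0 ≠ i1 := by simp [i0, i1, Fin.ext_iff]
    obtain ⟨u, hudef⟩ : ∃ u, u = P i0 (e 0) + P i1 (e 0) := ⟨_, rfl⟩
    let T0 : (Fin m ⊕ Fin m → F) →ₗ[F] (Fin m ⊕ Fin m → F) :=
      LinearMap.id + LinearMap.smulRight (ω.flip u) u
    have hT0 : ∀ x, T0 x = x + ω x u • u := fun x => rfl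
    have hinv : ∀ x, T0 (T0 x) = x := fun x => by
      rw [hT0, hT0, map_add, map_smul, LinearMap.add_apply, LinearMap.smul_apply, hωa, smul_zero,
        add_zero, add_assoc, ← add_smul, ← two_mul, h2, zero_mul, zero_smul, add_zero]
    let T : (Fin m ⊕ Fin m → F) ≃ₗ[F] (Fin m ⊕ Fin m → F) :=
      LinearEquiv.ofLinear T0 T0 (LinearMap.ext hinv) (LinearMap.ext hinv)
    have hact : ∀ x, (Cfsg.Lib.Linear.Weight.glOf T).val.mulVec x = x + ω x u • u := fun x => by
      rw [Cfsg.Lib.Linear.Weight.glOf_act]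
      rfl
    have hsp : Cfsg.Lib.Linear.Weight.glOf T ∈ Cfsg.spGL m F := hmem _ fun x y => by
      simp only [hact, map_add, map_smul, LinearMap.add_apply, LinearMap.smul_apply, hωa,
        hswap u y, smul_eq_mul]
      linear_combination (ω x u * ω y u) * h2
    have hg := (hle hsp).1 (P i0 (e 1))
    have hxu : ω (P i0 (e 1)) u = 1 := by
      rw [hudef, map_add, horth i0 i1 h01, hswap, hc, add_zero]
    rw [hact, hxu, one_smul] at hg
    simp only [hudef, P, ← map_add, Cfsg.Lib.Linear.Weight.wt, φ.symm_apply_apply, Pi.add_apply] at hg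
    have hne : e 1 + e 0 ≠ 0 := fun h => one_ne_zero (α := F) (by simpa [e] using congrFun h 0)
    have he0 : e 0 ≠ 0 := fun h => one_ne_zero (α := F) (by simpa [e] using congrFun h 0)
    have he1 : e 1 ≠ 0 := fun h => one_ne_zero (α := F) (by simpa [e] using congrFun h 1)
    rw [Fintype.sum_eq_add i0 i1 h01 (fun i hi => by simp [hi.1, hi.2, Cfsg.Lib.Linear.Weight.ind_zero]),
      Finset.sum_eq_single i0 (fun i _ hi => by simp [hi, Cfsg.Lib.Linear.Weight.ind_zero])
        (fun h => absurd (Finset.mem_univ i0) h)] at hg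
    simp [h01, Ne.symm h01, Cfsg.Lib.Linear.Weight.ind_ne, hne, he0, he1] at hg

end Cfsg.Agent.S5648
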