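import Cfsg.Statements.S5653
import Cfsg.Agent.Lib.Linear.UnitaryMax

/-! Stabilisers of totally singular subspaces are maximal in special unitary groups. -/

set_option autoImplicit false
open Cfsg Module
open Cfsg.Lib.Linear Cfsg.Lib.Linear.Herm

namespace Cfsg.Agent.S5653

theorem main {F : Type*} [Field F] [Fintype F] (n q : ℕ) (hF : Fintype.card F = q ^ 2) (hn : 6 ≤ n)
    (W : Submodule F (Fin n → F)) (hW0 : W ≠ ⊥) (hW : Cfsg.Geo.IsTotallySingularFor (Cfsg.hermForm n F q) W) :
    Cfsg.Geo.IsMaximalIn (Cfsg.GU n F q ⊓ Cfsg.Geo.specialLinear (Fin n) F)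
      (Cfsg.Geo.subspaceStabilizer W ⊓ (Cfsg.GU n F q ⊓ Cfsg.Geo.specialLinear (Fin n) F)) := by
  have C : Big.Space (hB hF n) :=
    ⟨frob_ne_id hF, frob_frob hF, hB_isSymm hF n, hB_nondegenerate hF n, by rw [finrank_fin_fun]; omega⟩
  have hWi : ∀ u ∈ W, ∀ v ∈ W, hB hF n u v = 0 := fun u hu v hv => hW v hv u hu
  obtain ⟨w, hw, hw0⟩ := Submodule.exists_mem_ne_zero_of_ne_bot hW0
  obtain ⟨f, hf, hwf, -⟩ := Big.exists_partner_perp C (hWi w hw w hw) ⊥ (by simpa using hw0)
    (fun x hx => by rw [(Submodule.mem_bot F).1 hx]; simp)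
  refine UMax.isMaximalIn_su hF C W (UMax.sStab_ne_of hF hw hf (fun h => ?_) ?_)
    fun L h1 h2 => UMax.maximal_singular hF C hWi h1 h2
  · rw [hWi w hw f h] at hwf; exact zero_ne_one hwf
  · rw [Big.swap_one C hwf]; exact one_ne_zero

/-- Let F be the field with q² elements and n ≥ 13, and let SU_n(q) be the group of matrices of determinant one preserving the standard unitary form Σ u_i v_i^q on F^n (the intersection of the unitary group GU_n with the kernel of the determinant). The elements of SU_n(q) stabilising a non-zero subspace on which the form vanishes identically form a maximal subgroup of SU_n(q). -/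
theorem result {F : Type*} [Field F] [Fintype F] (n q : ℕ) (hF : Fintype.card F = q ^ 2) (hn : 13 ≤ n) (W : Submodule F (Fin n → F)) (hW0 : W ≠ ⊥) (hW : Cfsg.Geo.IsTotallySingularFor (Cfsg.hermForm n F q) W) : Cfsg.Geo.IsMaximalIn (Cfsg.GU n F q ⊓ Cfsg.Geo.specialLinear (Fin n) F) (Cfsg.Geo.subspaceStabilizer W ⊓ (Cfsg.GU n F q ⊓ Cfsg.Geo.specialLinear (Fin n) F)) := by
  exact main n q hF (by omega) W hW0 hW

end Cfsg.Agent.S5653
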