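import Cfsg.Statements.S5654
import Cfsg.Agent.Lib.Linear.UnitaryMax

/-! Stabilisers of non-degenerate subspaces are maximal in special unitary groups. -/

set_option autoImplicit false
open Cfsg Module
open Cfsg.Lib.Linear Cfsg.Lib.Linear.Herm

namespace Cfsg.Agent.S5654

theorem main {F : Type*} [Field F] [Fintype F] (n q : ℕ) (hF : Fintype.card F = q ^ 2) (hn : 6 ≤ n)
    (W : Submodule F (Fin n → F)) (hW0 : W ≠ ⊥) (hW : Cfsg.Geo.IsNondegenerateOn (Cfsg.hermForm n F q) W)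
    (hdim : 2 * finrank F W < n) :
    Cfsg.Geo.IsMaximalIn (Cfsg.GU n F q ⊓ Cfsg.Geo.specialLinear (Fin n) F)
      (Cfsg.Geo.subspaceStabilizer W ⊓ (Cfsg.GU n F q ⊓ Cfsg.Geo.specialLinear (Fin n) F)) := by
  have C : Big.Space (hB hF n) :=
    ⟨frob_ne_id hF, frob_frob hF, hB_isSymm hF n, hB_nondegenerate hF n, by rw [finrank_fin_fun]; omega⟩
  have hWn : W ⊓ perp hF W = ⊥ := by
    rw [Submodule.eq_bot_iff]
    rintro x ⟨hx, hxp⟩
    by_contra hx0
    obtain ⟨-, y, hy, hxy⟩ := hW x hx hx0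
    exact hxy (hxp y hy)
  obtain ⟨w, hw, hw0⟩ := Submodule.exists_mem_ne_zero_of_ne_bot hW0
  obtain ⟨⟨x, hx, hxw⟩, -⟩ := hW w hw hw0
  have hUdim := finrank_perp hF W
  obtain ⟨b, hb, hb0⟩ := Submodule.exists_mem_ne_zero_of_ne_bot
    (show perp hF W ≠ ⊥ from fun h => by rw [h, finrank_bot] at hUdim; omega)
  obtain ⟨v, hv, -, hvv, hv0, -⟩ := UMax.exists_vec hF C hWn (by omega) hb hb0 0 (-(hB hF n x x))
    (by rw [map_neg, (hB_isSymm hF n).eq])
  refine UMax.isMaximalIn_su hF C W (UMax.sStab_ne_of hF hw (v := x + v) ?_ (fun h => ?_) ?_)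
    fun L h1 h2 => UMax.maximal_nondegenerate hF C hWn hdim (by omega) h1 h2
  · simp only [map_add, LinearMap.add_apply, show hB hF n x v = 0 from hv x hx, hB_symm_zero hF (hv x hx), hvv]
    ring
  · exact hv0 (by
      have : v ∈ W ⊓ perp hF W := ⟨(W.add_mem_iff_right hx).1 h, hv⟩
      rwa [hWn, Submodule.mem_bot] at this)
  · rw [map_add, LinearMap.add_apply, hB_symm_zero hF (hv w hw), add_zero]
    exact fun h => hxw (hB_symm_zero hF h)

/-- Let F be the field with q² elements and n ≥ 13. In SU_n(q) (determinant-one isometries of the standard unitary form on F^n) the stabiliser of a non-zero subspace W on which the form is non-degenerate and with 2 dim W < n is a maximal subgroup. -/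
theorem result {F : Type*} [Field F] [Fintype F] (n q : ℕ) (hF : Fintype.card F = q ^ 2) (hn : 13 ≤ n) (W : Submodule F (Fin n → F)) (hW0 : W ≠ ⊥) (hW : Cfsg.Geo.IsNondegenerateOn (Cfsg.hermForm n F q) W) (hdim : 2 * Module.finrank F W < n) : Cfsg.Geo.IsMaximalIn (Cfsg.GU n F q ⊓ Cfsg.Geo.specialLinear (Fin n) F) (Cfsg.Geo.subspaceStabilizer W ⊓ (Cfsg.GU n F q ⊓ Cfsg.Geo.specialLinear (Fin n) F)) := by
  exact main n q hF (by omega) W hW0 hW hdim

end Cfsg.Agent.S5654
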