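import Cfsg.Statements.S5655
import Cfsg.Agent.Lib.Linear.UDec.Monomial
import Cfsg.Agent.Lib.Linear.UDec.Blocks

/-! Stabilisers of orthogonal decompositions are maximal in special unitary groups. -/

set_option autoImplicit false
open Cfsg Module
open Cfsg.Lib.Linear Cfsg.Lib.Linear.Herm Cfsg.Lib.Linear.UDec

namespace Cfsg.Agent.S5655

section

variable {F : Type*} [Field F] [Fintype F] {n q : ℕ} (hF : Fintype.card F = q ^ 2)
  {t : ℕ} {D : Fin t → Submodule F (Fin n → F)} {k : ℕ}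

omit [Fintype F] in
theorem card_eq (h : Cfsg.Geo.IsMDecomposition k D) : n = t * k := by
  classical
  have hint := DirectSum.isInternal_submodule_of_iSupIndep_of_iSup_eq_top h.indep h.iSup_eq_top
  have e := (LinearEquiv.ofBijective (DirectSum.coeLinearMap D) hint).finrank_eq
  rw [finrank_fin_fun, Module.finrank_directSum] at e
  rw [← e]
  simp [h.finrank_eq]

omit [Fintype F] in
theorem perm_iff (hD : Cfsg.Geo.IsMDecomposition k D) (g : GL (Fin n) F) :
    g ∈ Cfsg.Geo.decompositionStabilizer D ↔ PermBlocks D (UMax.glEquiv n F g) := by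
  constructor
  · rintro ⟨π, hπ⟩ i
    exact ⟨π i, fun v hv => by rw [← hπ i]; exact ⟨v, hv, rfl⟩⟩
  · intro h
    choose p hp using h
    have himg : ∀ i, (D i).map (Matrix.toLin' (g : Matrix (Fin n) (Fin n) F)) = D (p i) := fun i =>
      Submodule.eq_of_le_of_finrank_eq (fun _ ⟨y, hy, e⟩ => e ▸ hp i y hy) (by
        have hi : Function.Injective (Matrix.toLin' (g : Matrix (Fin n) (Fin n) F)) :=
          (UMax.glEquiv n F g).injective
        rw [← (Submodule.equivMapOfInjective _ hi (D i)).finrank_eq, hD.finrank_eq, hD.finrank_eq])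
    have hinj : Function.Injective p := by
      intro i i' hii
      by_contra hne
      have hd := hD.indep.pairwiseDisjoint hne
      have hne0 : D i' ≠ ⊥ := fun h0 => by
        have := hD.finrank_eq i'
        rw [h0, finrank_bot] at this
        have := hD.pos
        omega
      obtain ⟨x, hx, hx0⟩ := Submodule.exists_mem_ne_zero_of_ne_bot hne0
      have hgx : (UMax.glEquiv n F g) x ∈ (D i).map (Matrix.toLin' (g : Matrix (Fin n) (Fin n) F)) := by
        rw [himg i, hii]; exact hp i' x hx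
      obtain ⟨y, hy, e⟩ := hgx
      have : y = x := (UMax.glEquiv n F g).injective e
      exact hx0 (Submodule.disjoint_def.1 hd x (this ▸ hy) hx)
    exact ⟨Equiv.ofBijective p (Finite.injective_iff_bijective.1 hinj), himg⟩

end

theorem moving {F : Type*} [Field F] [Fintype F] (n q : ℕ) (hF : Fintype.card F = q ^ 2) (hn : 4 ≤ n)
    {t : ℕ} (k : ℕ) (D : Fin t → Submodule F (Fin n → F))
    (hD : Cfsg.Geo.IsNondegenerateMDecomposition (Cfsg.hermForm n F q) k D) :
    ∃ g ∈ tvGroup (hB hF n), ¬ PermBlocks D g := by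
  classical
  have horth : ∀ i j, i ≠ j → ∀ u ∈ D i, ∀ v ∈ D j, hB hF n u v = 0 := fun i j hij u hu v hv =>
    hD.orthogonal j i hij.symm v hv u hu
  have hnd : ∀ i, ∀ w ∈ D i, (∀ x ∈ D i, hB hF n x w = 0) → w = 0 := fun i w hw h => by
    by_contra hw0
    obtain ⟨-, x, hx, hxw⟩ := hD.nondegenerate i w hw hw0
    exact hxw (h x hx)
  have hnk := card_eq hD.decomp
  choose b hb1 hb2 hb3 using fun i => exists_basis (hF := hF) k (D i) (hnd i) (hD.decomp.finrank_eq i)
  have ht := hD.decomp.two_le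
  obtain ⟨f, hf23, hfo⟩ : ∃ f : Fin 4 → Fin t × Fin k, (f 1).1 ≠ (f 2).1 ∧ Function.Injective f := by
    rcases Nat.lt_or_ge k 2 with hk | hk
    · have hk1 : k = 1 := by have := hD.decomp.pos; omega
      subst hk1
      rw [mul_one] at hnk
      refine ⟨fun a => (⟨a, by have := a.isLt; omega⟩, 0), by simp [Fin.ext_iff], fun a a' h => ?_⟩
      simpa [Fin.ext_iff] using h
    · refine ⟨fun a => (⟨a.1 / 2, by have := a.isLt; omega⟩, ⟨a.1 % 2, by omega⟩), by simp [Fin.ext_iff],
        fun a a' h => ?_⟩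
      simp only [Prod.mk.injEq, Fin.mk.injEq] at h
      exact Fin.ext (by omega)
  set u : Fin 4 → (Fin n → F) := fun a => b (f a).1 (f a).2 with hu
  have huu : ∀ a a', hB hF n (u a) (u a') = if a = a' then 1 else 0 := by
    intro a a'
    by_cases h1 : (f a).1 = (f a').1
    · have : ∀ (p : Fin t × Fin k) (p' : Fin t × Fin k), p.1 = p'.1 →
          hB hF n (b p.1 p.2) (b p'.1 p'.2) = if p = p' then 1 else 0 := by
        rintro ⟨i, c⟩ ⟨i', c'⟩ (rfl : i = i')
        simp [hb2, Prod.ext_iff]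
      rw [hu, this _ _ h1]
      simp [hfo.eq_iff]
    · rw [if_neg (fun h => h1 (by rw [h]))]
      exact horth _ _ h1 _ (hb1 _ _) _ (hb1 _ _)
  obtain ⟨ζ, hζ⟩ := exists_norm_fixed (frob_ne_id hF) (frob_frob hF) (a := (-1 : F))
    (neg_ne_zero.2 one_ne_zero) (by rw [map_neg, map_one])
  obtain ⟨β, hβ0, hβ⟩ := exists_trace_zero (frob_ne_id hF) (frob_frob hF)
  set z := u 0 + ζ • u 1 + u 2 + ζ • u 3 with hz
  have hzz : hB hF n z z = 0 := by
    simp only [hz, map_add, LinearMap.add_apply, map_smul, LinearMap.map_smulₛₗ, LinearMap.smul_apply,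
      smul_eq_mul, RingHom.id_apply, huu]
    simp
    linear_combination (2 : F) * hζ
  have h : β + frob hF β + frob hF β * β * hB hF n z z = 0 := by
    rw [hzz, mul_zero, add_zero]; exact hβ
  refine ⟨qrefl z β h, Subgroup.subset_closure ⟨z, β, h, hzz, rfl⟩, fun hp => ?_⟩
  obtain ⟨j, hj⟩ := hp (f 0).1
  have hmem := hj (u 0) (hb1 _ _)
  have hz0 : hB hF n z (u 0) = 1 := by
    simp only [hz, map_add, LinearMap.add_apply, LinearMap.map_smulₛₗ, LinearMap.smul_apply, smul_eq_mul, huu]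
    simp
  have e1 : hB hF n (u 1) (qrefl z β h (u 0)) = β * ζ := by
    rw [qrefl_apply, hz0, hz]
    simp [map_add, map_smul, huu]
  have e2 : hB hF n (u 2) (qrefl z β h (u 0)) = β := by
    rw [qrefl_apply, hz0, hz]
    simp [map_add, map_smul, huu]
  have hζ0 : ζ ≠ 0 := fun h => by simp [h] at hζ
  have j1 : (f 1).1 = j := by
    by_contra hne
    exact mul_ne_zero hβ0 hζ0 (e1 ▸ horth _ j hne _ (hb1 _ _) _ hmem)
  have j2 : (f 2).1 = j := by
    by_contra hne
    exact hβ0 (e2 ▸ horth _ j hne _ (hb1 _ _) _ hmem)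
  exact hf23 (j1.trans j2.symm)

theorem main_ge_four {F : Type*} [Field F] [Fintype F] (n q : ℕ) (hF : Fintype.card F = q ^ 2)
    (hn : 4 ≤ n) {t : ℕ} (k : ℕ) (D : Fin t → Submodule F (Fin n → F))
    (hD : Cfsg.Geo.IsNondegenerateMDecomposition (Cfsg.hermForm n F q) k D) (hex : ¬ (k = 2 ∧ q = 2))
    (hone : k = 1 → (n = 4 ∧ q ≠ 3) ∨ ((n = 6 ∨ 10 ≤ n) ∧ (10 ≤ n ∨ 3 ≤ q))) :
    Cfsg.Geo.IsMaximalIn (Cfsg.GU n F q ⊓ Cfsg.Geo.specialLinear (Fin n) F)
      (Cfsg.Geo.decompositionStabilizer D ⊓ (Cfsg.GU n F q ⊓ Cfsg.Geo.specialLinear (Fin n) F)) := by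
  classical
  have C : Big.Space (hB hF n) :=
    ⟨frob_ne_id hF, frob_frob hF, hB_isSymm hF n, hB_nondegenerate hF n, by rw [finrank_fin_fun]; omega⟩
  have horth : ∀ i j, i ≠ j → ∀ u ∈ D i, ∀ v ∈ D j, hB hF n u v = 0 := fun i j hij u hu v hv =>
    hD.orthogonal j i hij.symm v hv u hu
  have hnd : ∀ i, ∀ w ∈ D i, (∀ x ∈ D i, hB hF n x w = 0) → w = 0 := fun i w hw h => by
    by_contra hw0
    obtain ⟨-, x, hx, hxw⟩ := hD.nondegenerate i w hw hw0
    exact hxw (h x hx)
  have hnk := card_eq hD.decomp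
  choose b hb1 hb2 hb3 using fun i => exists_basis (hF := hF) k (D i) (hnd i) (hD.decomp.finrank_eq i)
  -- the overgroups
  have key : ∀ L : Subgroup ((Fin n → F) ≃ₗ[F] (Fin n → F)), L ≤ tvGroup (hB hF n) →
      (∀ g ∈ tvGroup (hB hF n), PermBlocks D g → g ∈ L) →
      (∀ g ∈ L, PermBlocks D g) ∨ L = tvGroup (hB hF n) := by
    intro L hL hmem
    rcases Nat.lt_or_ge k 2 with hk | hk
    · have hk1 : k = 1 := by have := hD.decomp.pos; omega
      subst hk1
      rw [mul_one] at hnk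
      subst hnk
      have hcase := hone rfl
      set e : Fin n → (Fin n → F) := fun i => b i 0 with he
      have hsp : ∀ i, ∀ v ∈ D i, v = hB hF n (e i) v • e i := fun i v hv => by
        conv_lhs => rw [hb3 i v hv]
        simp [he]
      have heo : Ortho hF e := fun i j => by
        rcases eq_or_ne i j with rfl | hij
        · simp [he, hb2]
        · rw [if_neg hij]; exact horth i j hij _ (hb1 i 0) _ (hb1 j 0)
      have hiff : ∀ g : (Fin n → F) ≃ₗ[F] (Fin n → F), Mono e g ↔ PermBlocks D g := fun g => by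
        constructor
        · intro h i
          obtain ⟨j, c, hc⟩ := h i
          refine ⟨j, fun v hv => ?_⟩
          rw [hsp i v hv, map_smul, hc]
          exact (D j).smul_mem _ ((D j).smul_mem _ (hb1 j 0))
        · intro h i
          obtain ⟨j, hj⟩ := h i
          exact ⟨j, _, hsp j _ (hj _ (hb1 i 0))⟩
      have O : Over hF e L := ⟨hn, hL, heo, fun g hg hm => hmem g hg ((hiff g).1 hm)⟩
      rcases O.mono_or_top hcase with h | h
      · exact Or.inl fun g hg => (hiff g).1 (h g hg)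
      · exact Or.inr h
    · have X : Blk hF D k L := ⟨by omega, hL, hk, hD.decomp.finrank_eq, horth, hnd, hD.decomp.iSup_eq_top,
        fun h2 h2' => hex ⟨h2, h2'⟩, hmem⟩
      exact X.perm_or_top
  obtain ⟨v, hv, hmove⟩ := moving n q hF (by omega) k D hD
  -- transfer to matrices
  set e := (UMax.glEquiv n F).toMonoidHom with he
  have hdet : ∀ g : GL (Fin n) F, LinearEquiv.det (e g) = Matrix.GeneralLinearGroup.det g := fun g => by
    refine Units.ext ?_
    rw [LinearEquiv.coe_det]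
    exact LinearMap.det_toLin' _
  have hS : ∀ g : GL (Fin n) F,
      g ∈ Cfsg.GU n F q ⊓ Cfsg.Geo.specialLinear (Fin n) F ↔ e g ∈ tvGroup (hB hF n) := fun g => by
    rw [Big.mem_tv C, hdet, Subgroup.mem_inf]
    exact and_congr ⟨fun hg u v => hg v u, fun hg u v => hg v u⟩ MonoidHom.mem_ker
  have hsur : Function.Surjective e := (UMax.glEquiv n F).surjective
  refine ⟨lt_of_le_of_ne inf_le_right fun hc => ?_, fun M hM1 hM2 => ?_⟩
  · obtain ⟨g, rfl⟩ := hsur v
    have : g ∈ Cfsg.GU n F q ⊓ Cfsg.Geo.specialLinear (Fin n) F := (hS g).2 hv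
    rw [← hc] at this
    exact hmove ((perm_iff hD.decomp g).1 this.1)
  · have hmap : ∀ g : GL (Fin n) F, e g ∈ M.map e ↔ g ∈ M := fun g =>
      Subgroup.mem_map_iff_mem (UMax.glEquiv n F).injective
    rcases key (M.map e) (by rintro _ ⟨g, hg, rfl⟩; exact (hS g).1 (hM2 hg))
        (fun g hg hp => by
          obtain ⟨g, rfl⟩ := hsur g
          exact (hmap g).2 (hM1 ⟨(perm_iff hD.decomp g).2 hp, (hS g).2 hg⟩)) with h | h
    · refine Or.inl (le_antisymm (fun g hg => ⟨(perm_iff hD.decomp g).2 (h _ ((hmap g).2 hg)), hM2 hg⟩) hM1)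
    · refine Or.inr (le_antisymm hM2 fun g hg => (hmap g).1 ?_)
      rw [h]
      exact (hS g).1 hg

theorem main_ge_six {F : Type*} [Field F] [Fintype F] (n q : ℕ) (hF : Fintype.card F = q ^ 2)
    (hn : n = 6 ∨ 10 ≤ n) {t : ℕ} (k : ℕ) (D : Fin t → Submodule F (Fin n → F))
    (hD : Cfsg.Geo.IsNondegenerateMDecomposition (Cfsg.hermForm n F q) k D) (hex : ¬ (k = 2 ∧ q = 2))
    (hone : k = 1 → 10 ≤ n ∨ 3 ≤ q) :
    Cfsg.Geo.IsMaximalIn (Cfsg.GU n F q ⊓ Cfsg.Geo.specialLinear (Fin n) F)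
      (Cfsg.Geo.decompositionStabilizer D ⊓ (Cfsg.GU n F q ⊓ Cfsg.Geo.specialLinear (Fin n) F)) :=
  main_ge_four n q hF (by omega) k D hD hex fun h => Or.inr ⟨hn, hone h⟩

theorem main {F : Type*} [Field F] [Fintype F] (n q : ℕ) (hF : Fintype.card F = q ^ 2) (hn : 10 ≤ n)
    {t : ℕ} (k : ℕ) (D : Fin t → Submodule F (Fin n → F))
    (hD : Cfsg.Geo.IsNondegenerateMDecomposition (Cfsg.hermForm n F q) k D) (hex : ¬ (k = 2 ∧ q = 2)) :
    Cfsg.Geo.IsMaximalIn (Cfsg.GU n F q ⊓ Cfsg.Geo.specialLinear (Fin n) F)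
      (Cfsg.Geo.decompositionStabilizer D ⊓ (Cfsg.GU n F q ⊓ Cfsg.Geo.specialLinear (Fin n) F)) :=
  main_ge_six n q hF (Or.inr hn) k D hD hex fun _ => Or.inl hn

/-- Let F be the field with q² elements and n ≥ 13. Let D be a decomposition of F^n into t ≥ 2 pairwise orthogonal subspaces of equal dimension k, each non-degenerate for the standard unitary form, spanning F^n. Unless k = 2 and q = 2, the elements of SU_n(q) permuting the members of D form a maximal subgroup of SU_n(q). -/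
theorem result {F : Type*} [Field F] [Fintype F] (n q : ℕ) (hF : Fintype.card F = q ^ 2) (hn : 13 ≤ n) {t : ℕ} (k : ℕ) (D : Fin t → Submodule F (Fin n → F)) (hD : Cfsg.Geo.IsNondegenerateMDecomposition (Cfsg.hermForm n F q) k D) (hex : ¬ (k = 2 ∧ q = 2)) : Cfsg.Geo.IsMaximalIn (Cfsg.GU n F q ⊓ Cfsg.Geo.specialLinear (Fin n) F) (Cfsg.Geo.decompositionStabilizer D ⊓ (Cfsg.GU n F q ⊓ Cfsg.Geo.specialLinear (Fin n) F)) :=
  main n q hF (by omega) k D hD hex

end Cfsg.Agent.S5655
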