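import Cfsg.Statements.S5656
import Cfsg.Agent.Lib.Linear.WeightStab
import Cfsg.Agent.Lib.Linear.TransvectionGL

set_option autoImplicit false
open Cfsg

namespace Cfsg.Agent.S5656

open scoped Matrix

section

variable {F : Type*} [Field F] {n : ℕ}

theorem h_add_left (u u' v : Fin n → F) :
    Cfsg.hermForm n F 2 (u + u') v = Cfsg.hermForm n F 2 u v + Cfsg.hermForm n F 2 u' v := by
  simp [Cfsg.hermForm, add_mul, Finset.sum_add_distrib]

theorem h_smul_left (c : F) (u v : Fin n → F) :
    Cfsg.hermForm n F 2 (c • u) v = c * Cfsg.hermForm n F 2 u v := by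
  simp [Cfsg.hermForm, Finset.mul_sum, mul_assoc]

theorem h_smul_right (c : F) (u v : Fin n → F) :
    Cfsg.hermForm n F 2 u (c • v) = c ^ 2 * Cfsg.hermForm n F 2 u v := by
  simp [Cfsg.hermForm, Finset.mul_sum, mul_pow]
  exact Finset.sum_congr rfl fun i _ => by ring

theorem h_add_right (h2 : (2 : F) = 0) (u v v' : Fin n → F) :
    Cfsg.hermForm n F 2 u (v + v') = Cfsg.hermForm n F 2 u v + Cfsg.hermForm n F 2 u v' := by
  simp only [Cfsg.hermForm, Pi.add_apply, ← Finset.sum_add_distrib]
  exact Finset.sum_congr rfl fun i _ => by linear_combination (u i * v i * v' i) * h2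

theorem h_symm (h2 : (2 : F) = 0) (h4 : ∀ a : F, a ^ 4 = a) (u v : Fin n → F) :
    Cfsg.hermForm n F 2 v u = Cfsg.hermForm n F 2 u v ^ 2 := by
  haveI : CharP F 2 := CharTwo.of_one_ne_zero_of_two_eq_zero one_ne_zero h2
  haveI : ExpChar F 2 := ExpChar.prime Nat.prime_two
  simp only [Cfsg.hermForm, sum_pow_char]
  exact Finset.sum_congr rfl fun i _ => by rw [mul_pow, ← pow_mul, h4, mul_comm]

theorem h_zero_left (v : Fin n → F) : Cfsg.hermForm n F 2 0 v = 0 := by simp [Cfsg.hermForm]

theorem h_sub_left (u u' v : Fin n → F) :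
    Cfsg.hermForm n F 2 (u - u') v = Cfsg.hermForm n F 2 u v - Cfsg.hermForm n F 2 u' v := by
  simp [Cfsg.hermForm, sub_mul, Finset.sum_sub_distrib]

end

/-- Let F be the field with 4 elements (q = 2) and n ≥ 13. Let D be a decomposition of F^n into t pairwise orthogonal 2-dimensional subspaces, each non-degenerate for the standard unitary form Σ u_i v_i². Then the elements of SU_n(2) permuting the members of D form a subgroup that is not maximal: some subgroup lies strictly between it and SU_n(2). -/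
theorem result {F : Type*} [Field F] [Fintype F] (n : ℕ) (hF : Fintype.card F = 4) (hn : 13 ≤ n) {t : ℕ} (D : Fin t → Submodule F (Fin n → F)) (hD : Cfsg.Geo.IsNondegenerateMDecomposition (Cfsg.hermForm n F 2) 2 D) : ∃ K : Subgroup (Matrix.GeneralLinearGroup (Fin n) F), Cfsg.Geo.decompositionStabilizer D ⊓ (Cfsg.GU n F 2 ⊓ Cfsg.Geo.specialLinear (Fin n) F) < K ∧ K < (Cfsg.GU n F 2 ⊓ Cfsg.Geo.specialLinear (Fin n) F) := by
  classical
  have h2 : (2 : F) = 0 := by
    have := Nat.cast_card_eq_zero F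
    rw [hF] at this
    have h22 : (2 : F) ^ 2 = 0 := by rw [sq]; exact_mod_cast this
    exact pow_eq_zero_iff two_ne_zero |>.mp h22
  have h4 : ∀ a : F, a ^ 4 = a := fun a => by rw [← hF]; exact FiniteField.pow_card a
  have h3 : ∀ a : F, a ≠ 0 → a ^ 3 = 1 := fun a ha => by
    have := FiniteField.pow_card_sub_one_eq_one a ha
    rwa [hF] at this
  set h := Cfsg.hermForm n F 2 with hh
  have hself01 : ∀ v, h v v = 0 ∨ h v v = 1 := fun v => by
    by_cases h0 : h v v = 0
    · exact Or.inl h0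
    · refine Or.inr (mul_left_cancel₀ h0 ?_)
      rw [mul_one, ← sq]
      exact (h_symm h2 h4 v v).symm
  have hint := DirectSum.isInternal_submodule_of_iSupIndep_of_iSup_eq_top hD.decomp.indep
    hD.decomp.iSup_eq_top
  have hdim := (LinearEquiv.ofBijective (DirectSum.coeLinearMap D) hint).finrank_eq
  rw [Module.finrank_directSum] at hdim
  simp only [hD.decomp.finrank_eq, Finset.sum_const, Finset.card_univ, Fintype.card_fin,
    smul_eq_mul, Module.finrank_fintype_fun_eq_card] at hdim
  have ht : 5 ≤ t := by omega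
  -- an orthonormal basis of each block
  have hbas : ∀ i, ∃ b : Fin 2 → Fin n → F, (∀ j, b j ∈ D i) ∧ (∀ j, h (b j) (b j) = 1) ∧
      (∀ j l, j ≠ l → h (b j) (b l) = 0) ∧
      ∀ v ∈ D i, ∃ a : Fin 2 → F, v = a 0 • b 0 + a 1 • b 1 := by
    intro i
    obtain ⟨p, hp, hp1⟩ : ∃ p ∈ D i, h p p = 1 := by
      by_contra hne
      push Not at hne
      have hz : ∀ p ∈ D i, h p p = 0 := fun p hp => (hself01 p).resolve_right (hne p hp)
      obtain ⟨v, hv, hv0⟩ := Submodule.exists_mem_ne_zero_of_ne_bot (p := D i) (fun hb => by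
        have := hD.decomp.finrank_eq i
        rw [hb, finrank_bot] at this
        omega)
      obtain ⟨⟨x, hx, hxv⟩, -⟩ := hD.nondegenerate i v hv hv0
      have key : ∀ c : F, c * h x v + (c * h x v) ^ 2 = 0 := fun c => by
        have h1 := hz _ ((D i).add_mem ((D i).smul_mem c hx) hv)
        simp only [hh] at h1 hz ⊢
        rw [h_add_left, h_add_right h2, h_add_right h2, hz _ ((D i).smul_mem c hx), hz v hv,
          zero_add, add_zero, h_smul_left] at h1
        rw [h_symm h2 h4 (c • x) v, h_smul_left] at h1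
        exact h1
      obtain ⟨w, hw0, hw1⟩ : ∃ w : F, w ≠ 0 ∧ w ≠ 1 := by
        by_contra hne'
        push Not at hne'
        have hle : (Finset.univ : Finset F) ⊆ {0, 1} := fun a _ => by
          by_cases ha : a = 0
          · simp [ha]
          · simp [hne' a ha]
        have h5 := (Finset.card_le_card hle).trans Finset.card_le_two
        rw [Finset.card_univ, hF] at h5
        omega
      have h1 := key (w / h x v)
      rw [div_mul_cancel₀ _ hxv, sq] at h1
      have h1' : w * (1 + w) = 0 := by linear_combination h1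
      exact hw1 (by linear_combination (mul_eq_zero.mp h1').resolve_left hw0 - h2)
    obtain ⟨v, hv, hvp⟩ : ∃ v ∈ D i, v ∉ Submodule.span F {p} := by
      by_contra hne
      push Not at hne
      have h1 := (Submodule.finrank_mono (show D i ≤ Submodule.span F {p} from hne)).trans
        (finrank_span_le_card {p})
      rw [hD.decomp.finrank_eq i] at h1
      simp at h1
    set w := v - h v p • p with hw
    have hwm : w ∈ D i := (D i).sub_mem hv ((D i).smul_mem _ hp)
    have hwp : h w p = 0 := by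
      simp only [hh, hw]
      rw [h_sub_left, h_smul_left]
      simp only [← hh, hp1, mul_one, sub_self]
    have hw0 : w ≠ 0 := fun h0 => hvp (Submodule.mem_span_singleton.mpr
      ⟨h v p, (sub_eq_zero.mp h0).symm⟩)
    have hli : LinearIndependent F ![p, w] := LinearIndependent.pair_iff.mpr fun a c hac => by
      have h1 := congrArg (fun z => h z p) hac
      simp only [hh] at h1
      rw [h_add_left, h_smul_left, h_smul_left, h_zero_left] at h1
      simp only [← hh, hp1, hwp, mul_one, mul_zero, add_zero] at h1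
      refine ⟨h1, ?_⟩
      rw [h1, zero_smul, zero_add, smul_eq_zero] at hac
      exact hac.resolve_right hw0
    have hspan : Submodule.span F (Set.range ![p, w]) = D i :=
      Submodule.eq_of_le_of_finrank_eq (Submodule.span_le.mpr (by
        rintro _ ⟨j, rfl⟩; fin_cases j; exacts [hp, hwm]))
        (by rw [finrank_span_eq_card hli, Fintype.card_fin, hD.decomp.finrank_eq])
    have hco : ∀ z ∈ D i, ∃ a : Fin 2 → F, z = a 0 • p + a 1 • w := fun z hz => by
      obtain ⟨a, rfl⟩ := (Submodule.mem_span_range_iff_exists_fun F).mp (hspan ▸ hz)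
      exact ⟨a, by simp [Fin.sum_univ_two]⟩
    have hww : h w w = 1 := (hself01 w).resolve_left fun h0 => by
      obtain ⟨⟨x, hx, hxw⟩, -⟩ := hD.nondegenerate i w hwm hw0
      obtain ⟨a, rfl⟩ := hco x hx
      refine hxw ?_
      have hpw : h p w = 0 := by simp only [hh]; rw [h_symm h2 h4, ← hh, hwp]; simp
      simp only [hh]
      rw [h_add_left, h_smul_left, h_smul_left]
      simp only [← hh, hpw, h0, mul_zero, add_zero]
    refine ⟨![p, w], fun j => by fin_cases j; exacts [hp, hwm],
      fun j => by fin_cases j; exacts [hp1, hww], fun j l hjl => ?_, hco⟩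
    fin_cases j <;> fin_cases l
    · exact absurd rfl hjl
    · show h p w = 0
      simp only [hh]; rw [h_symm h2 h4, ← hh, hwp]; simp
    · exact hwp
    · exact absurd rfl hjl
  choose b hb hb1 hbo hco using hbas
  let bb : Fin t × Fin 2 → Fin n → F := fun p => b p.1 p.2
  have ho : ∀ p r, p ≠ r → h (bb p) (bb r) = 0 := fun p r hpr => by
    by_cases he : p.1 = r.1
    · show h (b p.1 p.2) (b r.1 r.2) = 0
      rw [he]
      exact hbo _ _ _ fun h' => hpr (Prod.ext he h')
    · exact hD.orthogonal _ _ he _ (hb _ _) _ (hb _ _)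
  have hno : ∀ i l, i ≠ l → ∀ j, b i j ∉ D l := fun i l hil j hm => by
    have := hD.orthogonal i l hil _ (hb i j) _ hm
    rw [hb1] at this
    exact one_ne_zero this
  let W : (Fin n → F) → ℕ := fun x => Nat.card {p // h x (bb p) ≠ 0}
  have hWact : ∀ g : Matrix.GeneralLinearGroup (Fin n) F,
      (∀ u v, h (g.val *ᵥ u) (g.val *ᵥ v) = h u v) →
      (∀ p, ∃ r, g.val *ᵥ bb p ∈ Submodule.span F {bb r}) →
      g ∈ Cfsg.Lib.Linear.Weight.preserving W := by
    intro g hg hp
    choose π hπ using hp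
    have hμ : ∀ p, ∃ μ : F, μ ≠ 0 ∧ g.val *ᵥ bb p = μ • bb (π p) := fun p => by
      obtain ⟨μ, hμ⟩ := Submodule.mem_span_singleton.mp (hπ p)
      refine ⟨μ, fun h0 => ?_, hμ.symm⟩
      have h1 := hg (bb p) (bb p)
      rw [← hμ, h0, zero_smul, show h (bb p) (bb p) = 1 from hb1 _ _] at h1
      simp [hh, h_zero_left] at h1
    have hinj : Function.Injective π := fun p r e => by
      by_contra hpr
      obtain ⟨μ, hμ0, hp'⟩ := hμ p
      obtain ⟨ν, hν0, hr'⟩ := hμ r
      have h1 := hg (bb p) (bb r)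
      rw [ho p r hpr, hp', hr', e] at h1
      simp only [hh] at h1
      rw [h_smul_left, h_smul_right] at h1
      simp only [← hh, show h (bb (π r)) (bb (π r)) = 1 from hb1 _ _, mul_one] at h1
      exact mul_ne_zero hμ0 (pow_ne_zero 2 hν0) h1
    intro x
    refine (Nat.card_congr ((Equiv.ofBijective π
      (Finite.injective_iff_bijective.mp hinj)).subtypeEquiv fun p => ?_)).symm
    obtain ⟨μ, hμ0, hp'⟩ := hμ p
    rw [Equiv.ofBijective_apply, ← hg x (bb p), hp']
    simp only [hh]
    rw [h_smul_right, mul_ne_zero_iff]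
    exact ⟨fun h => h.2, fun h => ⟨pow_ne_zero 2 hμ0, h⟩⟩
  -- unitary transvections
  have htv : ∀ p : Fin n → F, h p p = 0 → ∃ g ∈ Cfsg.GU n F 2 ⊓ Cfsg.Geo.specialLinear (Fin n) F,
      (∀ u v, h (g.val *ᵥ u) (g.val *ᵥ v) = h u v) ∧ ∀ x, g.val *ᵥ x = x + h x p • p := by
    intro p hp
    have hd : ∀ x, (fun i => p i ^ 2) ⬝ᵥ x = h x p := fun x => dotProduct_comm _ _
    have hap : (fun i => p i ^ 2) ⬝ᵥ p = 0 := by rw [hd, hp]
    refine ⟨Cfsg.Lib.Linear.tv p _ hap, ?_⟩
    have hact : ∀ x, (Cfsg.Lib.Linear.tv p _ hap).val *ᵥ x = x + h x p • p := fun x => by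
      rw [Cfsg.Lib.Linear.coe_tv, Cfsg.Lib.Linear.tvMat_mulVec, hd]
    have hiso : ∀ u v, h ((Cfsg.Lib.Linear.tv p _ hap).val *ᵥ u)
        ((Cfsg.Lib.Linear.tv p _ hap).val *ᵥ v) = h u v := fun u v => by
      rw [hact, hact]
      simp only [hh] at hp ⊢
      rw [h_add_left, h_add_right h2, h_add_right h2, h_smul_left, h_smul_left, h_smul_right,
        h_smul_right, h_symm h2 h4 v p, hp]
      linear_combination (Cfsg.hermForm n F 2 u p * Cfsg.hermForm n F 2 v p ^ 2) * h2
    exact ⟨⟨hiso, Cfsg.Lib.Linear.tv_mem_SL _ _ hap⟩, hiso, hact⟩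
  let i0 : Fin t := ⟨0, by omega⟩
  let i1 : Fin t := ⟨1, by omega⟩
  have h01 : i0 ≠ i1 := by simp [i0, i1, Fin.ext_iff]
  refine ⟨Cfsg.Lib.Linear.Weight.preserving W ⊓
    (Cfsg.GU n F 2 ⊓ Cfsg.Geo.specialLinear (Fin n) F), ?_, ?_⟩
  · refine lt_of_le_not_ge (fun g hg => ⟨?_, hg.2⟩) fun hle => ?_
    · obtain ⟨σ, hσ⟩ := hg.1
      have hgI : ∀ u v, h (g.val *ᵥ u) (g.val *ᵥ v) = h u v := hg.2.1
      refine hWact g hgI fun p => ?_
      have hm : g.val *ᵥ bb p ∈ D (σ p.1) := by
        rw [← hσ]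
        exact ⟨_, hb _ _, by rw [Matrix.toLin'_apply]⟩
      obtain ⟨a, ha⟩ := hco _ _ hm
      have h1 := hgI (bb p) (bb p)
      rw [show h (bb p) (bb p) = 1 from hb1 _ _, ha] at h1
      simp only [hh] at h1
      rw [h_add_left, h_add_right h2, h_add_right h2, h_smul_left, h_smul_left, h_smul_left,
        h_smul_left, h_smul_right, h_smul_right, h_smul_right, h_smul_right] at h1
      simp only [← hh, hb1, hbo _ 0 1 (by decide), hbo _ 1 0 (by decide), mul_zero, mul_one,
        add_zero, zero_add] at h1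
      by_cases h0 : a 0 = 0
      · refine ⟨(σ p.1, 1), ?_⟩
        rw [ha, h0, zero_smul, zero_add]
        exact Submodule.smul_mem _ _ (Submodule.mem_span_singleton_self _)
      by_cases h1' : a 1 = 0
      · refine ⟨(σ p.1, 0), ?_⟩
        rw [ha, h1', zero_smul, add_zero]
        exact Submodule.smul_mem _ _ (Submodule.mem_span_singleton_self _)
      exfalso
      exact one_ne_zero (α := F) (by linear_combination h1 - h3 _ h0 - h3 _ h1')
    -- exchange two frame vectors
    have hiso0 : h (b i0 0 + b i1 0) (b i0 0 + b i1 0) = 0 := by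
      simp only [hh]
      rw [h_add_left, h_add_right h2, h_add_right h2]
      simp only [← hh, hb1, show h (b i0 0) (b i1 0) = 0 from ho (i0, 0) (i1, 0) (by simp [h01]),
        show h (b i1 0) (b i0 0) = 0 from ho (i1, 0) (i0, 0) (by simp [Ne.symm h01])]
      linear_combination h2
    obtain ⟨g, hg, hgI, hact⟩ := htv _ hiso0
    have hval : ∀ p, h (bb p) (b i0 0 + b i1 0) =
        if p = (i0, 0) ∨ p = (i1, 0) then 1 else 0 := fun p => by
      simp only [hh]
      rw [h_add_right h2]
      simp only [← hh]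
      show h (bb p) (bb (i0, 0)) + h (bb p) (bb (i1, 0)) = _
      by_cases e0 : p = (i0, 0)
      · rw [e0, show h (bb (i0, 0)) (bb (i0, 0)) = 1 from hb1 _ _, ho _ _ (by simp [h01])]
        simp
      by_cases e1 : p = (i1, 0)
      · rw [e1, show h (bb (i1, 0)) (bb (i1, 0)) = 1 from hb1 _ _, ho _ _ (by simp [Ne.symm h01])]
        simp
      · rw [ho p _ e0, ho p _ e1]
        simp [e0, e1]
    have hdd : ∀ v : Fin n → F, v + v = 0 := fun v => by rw [← two_smul F v, h2, zero_smul]
    have hg0 : g.val *ᵥ bb (i0, 0) = bb (i1, 0) := by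
      rw [hact, hval, if_pos (Or.inl rfl), one_smul]
      show b i0 0 + (b i0 0 + b i1 0) = b i1 0
      rw [← add_assoc, hdd, zero_add]
    have hgK : g ∈ Cfsg.Lib.Linear.Weight.preserving W := hWact g hgI fun p => by
      by_cases e0 : p = (i0, 0)
      · exact ⟨(i1, 0), by rw [e0, hg0]; exact Submodule.mem_span_singleton_self _⟩
      by_cases e1 : p = (i1, 0)
      · refine ⟨(i0, 0), ?_⟩
        rw [e1, hact, hval, if_pos (Or.inr rfl), one_smul]
        show b i1 0 + (b i0 0 + b i1 0) ∈ _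
        rw [add_left_comm, hdd, add_zero]
        exact Submodule.mem_span_singleton_self _
      · refine ⟨p, ?_⟩
        rw [hact, hval, if_neg (by simp [e0, e1]), zero_smul, add_zero]
        exact Submodule.mem_span_singleton_self _
    obtain ⟨σ, hσ⟩ := (hle ⟨hgK, hg⟩).1
    have e1 : b i1 0 ∈ D (σ i0) := by
      rw [← hσ]
      exact ⟨_, hb i0 0, by rw [Matrix.toLin'_apply]; exact hg0⟩
    have e2 : b i0 1 ∈ D (σ i0) := by
      rw [← hσ]
      refine ⟨_, hb i0 1, ?_⟩
      rw [Matrix.toLin'_apply, show g.val *ᵥ b i0 1 = g.val *ᵥ bb (i0, 1) from rfl, hact, hval,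
        if_neg (by simp [h01]), zero_smul, add_zero]
    by_cases he : σ i0 = i1
    · exact hno i0 i1 h01 1 (he ▸ e2)
    · exact hno i1 (σ i0) (Ne.symm he) 0 e1
  · refine lt_of_le_not_ge inf_le_right fun hle => ?_
    let i2 : Fin t := ⟨2, by omega⟩
    let i3 : Fin t := ⟨3, by omega⟩
    let S : Finset (Fin t) := {i0, i1, i2, i3}
    let p := b i0 0 + b i1 0 + b i2 0 + b i3 0
    have hin : ∀ i, i = i0 ∨ i = i1 ∨ i = i2 ∨ i = i3 → h (b i 0) p = 1 := by
      intro i hi
      simp only [hh, p]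
      rw [h_add_right h2, h_add_right h2, h_add_right h2]
      have o : ∀ x y : Fin t, x ≠ y → Cfsg.hermForm n F 2 (b x 0) (b y 0) = 0 :=
        fun x y hxy => ho (x, 0) (y, 0) (by simp [hxy])
      have s1 : ∀ x : Fin t, Cfsg.hermForm n F 2 (b x 0) (b x 0) = 1 := fun x => hb1 x 0
      rcases hi with rfl | rfl | rfl | rfl <;>
        simp [o, s1, i0, i1, i2, i3, Fin.ext_iff]
    have hpp : h p p = 0 := by
      simp only [hh, p]
      rw [h_add_left, h_add_left, h_add_left]
      simp only [← hh]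
      rw [hin i0 (Or.inl rfl), hin i1 (Or.inr (Or.inl rfl)), hin i2 (Or.inr (Or.inr (Or.inl rfl))),
        hin i3 (Or.inr (Or.inr (Or.inr rfl)))]
      linear_combination (2 : F) * h2
    obtain ⟨g, hg, hgI, hact⟩ := htv p hpp
    have hW := (hle hg).1 (b i0 0)
    have h1 : W (b i0 0) = 1 := by
      refine Nat.card_eq_one_iff_unique.mpr ⟨⟨fun u v => Subtype.ext ?_⟩, ⟨(i0, 0), ?_⟩⟩
      · have key : ∀ r, h (b i0 0) (bb r) ≠ 0 → r = (i0, 0) := fun r hr => by
          by_contra hne
          exact hr (ho (i0, 0) r (Ne.symm hne))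
        rw [key _ u.2, key _ v.2]
      · show h (b i0 0) (b i0 0) ≠ 0
        rw [hb1]; exact one_ne_zero
    rw [h1, hact, hin i0 (Or.inl rfl), one_smul] at hW
    obtain ⟨hsub, -⟩ := Nat.card_eq_one_iff_unique.mp hW
    have hval : ∀ i, i = i1 ∨ i = i2 → h (b i0 0 + p) (bb (i, 0)) ≠ 0 := by
      intro i hi
      have hi0 : i0 ≠ i := by rcases hi with rfl | rfl <;> simp [i0, i1, i2, Fin.ext_iff]
      simp only [hh]
      rw [h_add_left]
      simp only [← hh]
      show h (b i0 0) (b i 0) + h p (b i 0) ≠ 0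
      rw [show h (b i0 0) (b i 0) = 0 from ho (i0, 0) (i, 0) (by simp [hi0]), zero_add,
        show h p (b i 0) = h (b i 0) p ^ 2 from h_symm h2 h4 _ _,
        hin i (by rcases hi with rfl | rfl <;> simp), one_pow]
      exact one_ne_zero
    have := congrArg Subtype.val (@Subsingleton.elim _ hsub
      (⟨(i1, 0), hval i1 (Or.inl rfl)⟩ : {r // h (b i0 0 + p) (bb r) ≠ 0})
      ⟨(i2, 0), hval i2 (Or.inr rfl)⟩)
    simp [i1, i2, Fin.ext_iff] at this

end Cfsg.Agent.S5656
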