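import Cfsg.Statements.S5657
import Cfsg.Agent.Lib.Linear.UnitaryGen

set_option autoImplicit false
open Cfsg

namespace Cfsg.Agent.S5657

open scoped Matrix
open Cfsg.Lib.Linear.Herm Module

variable {F V : Type*} [Field F] [Finite F] [AddCommGroup V] [Module F V] [FiniteDimensional F V]
  {σ : F →+* F} {B : V →ₛₗ[σ] V →ₗ[F] F}

/-- The vector is isotropic and all its transvections lie in `L`. -/
def Centre (B : V →ₛₗ[σ] V →ₗ[F] F) (L : Subgroup (V ≃ₗ[F] V)) (v : V) : Prop :=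
  B v v = 0 ∧ ∀ (c : F) (h : c + σ c + σ c * c * B v v = 0), qrefl v c h ∈ L

omit [Finite F] [FiniteDimensional F V] in
theorem tv_cond {v : V} (hv : B v v = 0) {c : F} (hc : c + σ c = 0) :
    c + σ c + σ c * c * B v v = 0 := by rw [hv, hc, mul_zero, add_zero]

omit [Finite F] [FiniteDimensional F V] in
theorem centre_invariant {L : Subgroup (V ≃ₗ[F] V)} (hL : L ≤ iso B) {g : V ≃ₗ[F] V} (hg : g ∈ L)
    {v : V} (hv : Centre B L v) : Centre B L (g v) := by
  refine ⟨by rw [hL hg v v, hv.1], fun c h => ?_⟩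
  have h' : c + σ c + σ c * c * B v v = 0 := by rw [← hL hg v v]; exact h
  have := mul_mem (mul_mem hg (hv.2 c h')) (inv_mem hg)
  rwa [qrefl_conj (hL hg)] at this

omit [Finite F] [FiniteDimensional F V] in
theorem centre_smul (hσ2 : ∀ a, σ (σ a) = a) {L : Subgroup (V ≃ₗ[F] V)} {v : V} (hv : Centre B L v) (t : F) :
    Centre B L (t • v) := by
  have hvt : B (t • v) (t • v) = 0 := by simp [hv.1]
  refine ⟨hvt, fun c h => ?_⟩
  have hc : c + σ c = 0 := by rwa [hvt, mul_zero, add_zero] at h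
  have h' := hv.2 (σ t * t * c) (tv_cond hv.1 (by
    rw [map_mul, map_mul, hσ2]; linear_combination (σ t * t) * hc))
  convert h' using 1
  refine LinearEquiv.ext fun x => ?_
  simp [qrefl_apply, smul_smul]
  congr 1
  ring

/-- A short root element. -/
noncomputable def sr (z : F) (hz : z + σ z = 0) (a b : V) (ha : B a a = 0) (hb : B b b = 0)
    (hab : B (a + b) (a + b) = 0) : V ≃ₗ[F] V :=
  qrefl (a + b) z (tv_cond hab hz) * qrefl a (-z) (tv_cond ha (by rw [map_neg]; linear_combination -hz)) *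
    qrefl b (-z) (tv_cond hb (by rw [map_neg]; linear_combination -hz))

variable {z : F}

/-- Isotropic and perpendicular. -/
def OPair (B : V →ₛₗ[σ] V →ₗ[F] F) (a b : V) : Prop := B a a = 0 ∧ B b b = 0 ∧ B a b = 0 ∧ B b a = 0

omit [Finite F] [FiniteDimensional F V] in
theorem OPair.sum {a b : V} (h : OPair B a b) : B (a + b) (a + b) = 0 := by
  obtain ⟨h1, h2, h3, h4⟩ := h
  simp [h1, h2, h3, h4]

/-- The short element of an orthogonal isotropic pair. -/
noncomputable def srP (hz : z + σ z = 0) {a b : V} (h : OPair B a b) : V ≃ₗ[F] V :=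
  sr z hz a b h.1 h.2.1 h.sum

omit [Finite F] [FiniteDimensional F V] in
theorem srP_apply (hz : z + σ z = 0) {a b : V} (h : OPair B a b) (x : V) :
    srP hz h x = x + (z * B b x) • a + (z * B a x) • b := by
  obtain ⟨h1, h2, h3, h4⟩ := h
  simp [srP, sr, LinearEquiv.mul_apply, h1, h2, h3, h4]
  module

omit [Finite F] [FiniteDimensional F V] in
theorem srP_mem_iso (hS : B.IsSymm) (hz : z + σ z = 0) {a b : V} (h : OPair B a b) :
    srP hz h ∈ iso B :=
  mul_mem (mul_mem (qrefl_mem_iso hS _ _ _) (qrefl_mem_iso hS _ _ _)) (qrefl_mem_iso hS _ _ _)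

omit [Finite F] [FiniteDimensional F V] in
theorem srP_mem_tv (hz : z + σ z = 0) {a b : V} (h : OPair B a b) : srP hz h ∈ tvGroup B :=
  mul_mem (mul_mem (Subgroup.subset_closure ⟨_, _, _, h.sum, rfl⟩)
    (Subgroup.subset_closure ⟨_, _, _, h.1, rfl⟩)) (Subgroup.subset_closure ⟨_, _, _, h.2.1, rfl⟩)

omit [Finite F] [FiniteDimensional F V] in
theorem srP_conj (hz : z + σ z = 0) {g : V ≃ₗ[F] V} (hg : g ∈ iso B) {a b : V} (h : OPair B a b)
    (h' : OPair B (g a) (g b)) : g * srP hz h * g⁻¹ = srP hz h' := by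
  refine LinearEquiv.ext fun x => ?_
  have hx : g (g⁻¹ x) = x := by rw [← LinearEquiv.mul_apply, mul_inv_cancel]; rfl
  rw [LinearEquiv.mul_apply, LinearEquiv.mul_apply, srP_apply, srP_apply, map_add, map_add, map_smul,
    map_smul, hx, ← hg b (g⁻¹ x), ← hg a (g⁻¹ x), hx]

omit [Finite F] [FiniteDimensional F V] in
theorem OPair.symm {a b : V} (h : OPair B a b) : OPair B b a := ⟨h.2.1, h.1, h.2.2.2, h.2.2.1⟩

omit [Finite F] [FiniteDimensional F V] in
theorem srP_comm (hz : z + σ z = 0) {a b : V} (h : OPair B a b) : srP hz h = srP hz h.symm :=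
  LinearEquiv.ext fun x => by rw [srP_apply, srP_apply, add_right_comm]

omit [Finite F] [FiniteDimensional F V] in
/-- Two short elements with a common centre give a long one. -/
theorem long_of_short (hS : B.IsSymm) (hσ2 : ∀ a, σ (σ a) = a) (hz : z + σ z = 0) {L : Subgroup (V ≃ₗ[F] V)}
    {a b b' : V} (h : OPair B a b) (h' : OPair B b' a) (h1 : srP hz h ∈ L) (h2 : srP hz h' ∈ L)
    (l : F) (hle : l = z * (z * B b b' + σ (z * B b b'))) (hl : l + σ l + σ l * l * B a a = 0) :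
    qrefl a l hl ∈ L := by
  have haa := h.1
  have hba := h.2.2.2
  have hb'a := h'.2.2.1
  have hab' := h'.2.2.2
  have hg := srP_mem_iso hS hz h
  have hga : srP hz h a = a := by rw [srP_apply, hba, haa]; simp
  have hgb : srP hz h b' = b' + (z * B b b') • a := by rw [srP_apply, hab']; simp
  have hP : OPair B (srP hz h b') (srP hz h a) :=
    ⟨by rw [hg, h'.1], by rw [hg, haa], by rw [hg, hb'a], by rw [hg, hab']⟩
  have e : srP hz h * srP hz h' * (srP hz h)⁻¹ = srP hz h' * qrefl a l hl := by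
    rw [srP_conj hz hg h' hP]
    refine LinearEquiv.ext fun x => ?_
    rw [LinearEquiv.mul_apply, qrefl_apply, srP_apply hz hP, srP_apply hz h', hga, hgb, hle]
    simp [haa, hb'a]
    module
  have := L.mul_mem (L.inv_mem h2) (L.mul_mem (L.mul_mem h1 h2) (L.inv_mem h1))
  rwa [e, inv_mul_cancel_left] at this

variable {W₁ W₂ : Submodule F V}

omit [Finite F] [FiniteDimensional F V] in
theorem pairing (hS : B.IsSymm) (hB : B.Nondegenerate) (hc : IsCompl W₁ W₂)
    (h2 : ∀ x ∈ W₂, ∀ y ∈ W₂, B x y = 0) {y : V} (hy : y ∈ W₂) (h : ∀ a ∈ W₁, B a y = 0) :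
    y = 0 := by
  refine hB.2 y fun v => ?_
  obtain ⟨a, ha, b, hb, rfl⟩ := Submodule.mem_sup.mp (hc.sup_eq_top ▸ Submodule.mem_top : v ∈ W₁ ⊔ W₂)
  rw [map_add, LinearMap.add_apply, h a ha, h2 b hb y hy, add_zero]

omit [FiniteDimensional F V] in
theorem exists_sep (hS : B.IsSymm) (hB : B.Nondegenerate) (hc : IsCompl W₁ W₂)
    (h2 : ∀ x ∈ W₂, ∀ y ∈ W₂, B x y = 0) {y u : V} (hy : y ∈ W₂) (hu : u ∈ W₂)
    (hne : ∀ t : F, u ≠ t • y) : ∃ a ∈ W₁, B a y = 0 ∧ B a u ≠ 0 := by
  by_contra hno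
  push Not at hno
  by_cases hy' : ∀ a ∈ W₁, B a y = 0
  · have hu0 := pairing hS hB hc h2 hu fun a ha => hno a ha (hy' a ha)
    exact hne 0 (by rw [hu0, zero_smul])
  push Not at hy'
  obtain ⟨a₀, ha₀, hay⟩ := hy'
  refine hne (B a₀ u / B a₀ y) ?_
  rw [← sub_eq_zero]
  refine pairing hS hB hc h2 (sub_mem hu (W₂.smul_mem _ hy)) fun a ha => ?_
  obtain ⟨t, ht⟩ : ∃ t, σ t = B a y / B a₀ y :=
    ⟨_, (Finite.injective_iff_surjective.mp σ.injective (B a y / B a₀ y)).choose_spec⟩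
  have h := hno (a - t • a₀) (sub_mem ha (W₁.smul_mem _ ha₀))
    (by simp [ht, div_mul_cancel₀ _ hay])
  simp only [map_sub, map_smul, LinearMap.sub_apply, LinearMap.smul_apply, LinearMap.map_smulₛₗ,
    smul_eq_mul, ht] at h ⊢
  field_simp at h ⊢
  linear_combination h

omit [FiniteDimensional F V] in
/-- A short root element in the other variable. -/
theorem srP_smul_swap (hσ2 : ∀ a, σ (σ a) = a) (hz : z + σ z = 0) {u v : V} (s : F)
    (h : OPair B (s • v) u) (h' : OPair B (σ s • u) v) : srP hz h = srP hz h' := by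
  refine LinearEquiv.ext fun x => ?_
  simp only [srP_apply, LinearMap.map_smulₛₗ, LinearMap.smul_apply, smul_eq_mul, hσ2]
  module

omit [FiniteDimensional F V] in
/-- The case of a pair whose second components leave only the line of `u₂` perpendicular. -/
theorem long_degen [FiniteDimensional F V] (hσ : σ ≠ RingHom.id F) (hσ2 : ∀ a, σ (σ a) = a) (hS : B.IsSymm)
    (hB : B.Nondegenerate) (hc : IsCompl W₁ W₂)
    (h1 : ∀ x ∈ W₁, ∀ y ∈ W₁, B x y = 0) (h2 : ∀ x ∈ W₂, ∀ y ∈ W₂, B x y = 0)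
    (hz : z + σ z = 0) (hz0 : z ≠ 0) {L : Subgroup (V ≃ₗ[F] V)}
    (hsr : ∀ a ∈ W₁, ∀ b ∈ W₂, ∀ h : OPair B a b, srP hz h ∈ L) {u v : V}
    (huv : ∀ (s : F) (h : OPair B (s • u) v), srP hz h ∈ L)
    (h : OPair B u v) {u₁ u₂ v₁ v₂ : V} (hu₁ : u₁ ∈ W₁) (hu₂ : u₂ ∈ W₂) (hv₁ : v₁ ∈ W₁)
    (hv₂ : v₂ ∈ W₂) (hu : u₁ + u₂ = u) (hv : v₁ + v₂ = v) (hu0 : u₂ ≠ 0)
    (hne : ∀ t : F, v₂ ≠ t • u₂) (e1 : B u u₂ = 0) (e2 : B v u₂ = 0) :
    ∃ y ∈ W₂, y ≠ 0 ∧ Centre B L y := by
  obtain ⟨a, haW, hay, hav₂⟩ := exists_sep hS hB hc h2 hu₂ hv₂ hne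
  have hau : B a u = 0 := by rw [← hu, map_add, h1 a haW u₁ hu₁, zero_add]; exact hay
  have hav : B v a ≠ 0 := fun e => hav₂ (by
    have := hS.isRefl _ _ e
    rwa [← hv, map_add, h1 a haW v₁ hv₁, zero_add] at this)
  have hu12 : B u₁ u₂ = 0 := by
    rw [← hu, map_add, LinearMap.add_apply, h2 u₂ hu₂ u₂ hu₂, add_zero] at e1; exact e1
  refine ⟨u₂, hu₂, hu0, h2 u₂ hu₂ u₂ hu₂, fun d hd => ?_⟩
  have hdz : d + σ d = 0 := by rwa [h2 u₂ hu₂ u₂ hu₂, mul_zero, add_zero] at hd
  obtain ⟨δ, hδ⟩ : ∃ δ : F, δ + σ δ = d / z := exists_trace_eq hσ hσ2 (by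
    rw [map_div₀, eq_neg_of_add_eq_zero_right hdz, eq_neg_of_add_eq_zero_right hz, neg_div_neg_eq])
  let s := δ / (z * B v a)
  have hsd : z * (s * B v a) = δ := by simp only [s]; field_simp
  have hP : OPair B (s • u) v := ⟨by simp [h.1], h.2.1, by simp [h.2.2.1], by simp [h.2.2.2]⟩
  have haP : OPair B a u₂ := ⟨h1 a haW a haW, h2 u₂ hu₂ u₂ hu₂, hay, hS.isRefl _ _ hay⟩
  have hgi := srP_mem_iso hS hz hP
  set g := srP hz hP with hgdef
  have hgy : g u₂ = u₂ := by rw [hgdef, srP_apply]; simp [e1, e2]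
  have hga : g a = a + δ • u := by
    rw [hgdef, srP_apply, LinearMap.map_smulₛₗ, LinearMap.smul_apply, smul_eq_mul,
      hS.isRefl _ _ hau, mul_zero, mul_zero, zero_smul, add_zero, smul_smul,
      show z * B v a * s = δ by rw [← hsd]; ring]
  have hP' : OPair B (g a) (g u₂) :=
    ⟨by rw [hgi, haP.1], by rw [hgi, haP.2.1], by rw [hgi, hay], by rw [hgi, haP.2.2.2]⟩
  have hg := L.mul_mem (L.mul_mem (huv s hP) (hsr a haW u₂ hu₂ haP)) (L.inv_mem (huv s hP))
  rw [show srP hz hP = g from rfl, srP_conj hz hgi haP hP'] at hg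
  have hp : OPair B (a + δ • u₁) u₂ := by
    have hpW := W₁.add_mem haW (W₁.smul_mem δ hu₁)
    have e : B (a + δ • u₁) u₂ = 0 := by simp [hay, hu12]
    exact ⟨h1 _ hpW _ hpW, h2 u₂ hu₂ u₂ hu₂, e, hS.isRefl _ _ e⟩
  have heq : srP hz hP' = srP hz hp * qrefl u₂ d hd := by
    refine LinearEquiv.ext fun x => ?_
    rw [LinearEquiv.mul_apply, srP_apply hz hP', hga, hgy, srP_apply hz hp, qrefl_apply, ← hu]
    simp only [map_add, map_smul, LinearMap.add_apply, LinearMap.map_smulₛₗ, LinearMap.smul_apply,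
      smul_eq_mul, haP.2.1, hu12, hay]
    match_scalars <;> first
      | ring1
      | linear_combination (z * B u₂ x) * hδ + (B u₂ x) * mul_div_cancel₀ d hz0
      | linear_combination (B u₂ x) * mul_div_cancel₀ d hz0 + (z * B u₂ x) * hδ
  rw [heq] at hg
  exact (Subgroup.mul_mem_cancel_left L (hsr _ (W₁.add_mem haW (W₁.smul_mem δ hu₁)) u₂ hu₂ hp)).1 hg

omit [FiniteDimensional F V] in
theorem long_in [FiniteDimensional F V] (hσ : σ ≠ RingHom.id F) (hσ2 : ∀ a, σ (σ a) = a) (hS : B.IsSymm)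
    (hB : B.Nondegenerate) (hc : IsCompl W₁ W₂)
    (h1 : ∀ x ∈ W₁, ∀ y ∈ W₁, B x y = 0) (h2 : ∀ x ∈ W₂, ∀ y ∈ W₂, B x y = 0)
    (hdim : 3 ≤ finrank F W₂) (hz : z + σ z = 0) (hz0 : z ≠ 0) {L : Subgroup (V ≃ₗ[F] V)}
    (hsr : ∀ a ∈ W₁, ∀ b ∈ W₂, ∀ h : OPair B a b, srP hz h ∈ L) {u v : V}
    (huv : ∀ (s : F) (h : OPair B (s • u) v), srP hz h ∈ L)
    (h : OPair B u v) {u₁ u₂ v₁ v₂ : V} (hu₁ : u₁ ∈ W₁) (hu₂ : u₂ ∈ W₂) (hv₁ : v₁ ∈ W₁)
    (hv₂ : v₂ ∈ W₂) (hu : u₁ + u₂ = u) (hv : v₁ + v₂ = v) (hu0 : u₂ ≠ 0)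
    (huv₂ : ∀ t : F, v₂ ≠ t • u₂) :
    ∃ y ∈ W₂, y ≠ 0 ∧ Centre B L y := by
  have hv0 : v₂ ≠ 0 := fun e => huv₂ 0 (by rw [e, zero_smul])
  obtain ⟨y, hyW, hyu, hyv, hy0⟩ : ∃ y ∈ W₂, B u y = 0 ∧ B v y = 0 ∧ y ≠ 0 := by
    let K := W₂ ⊓ (LinearMap.ker (B u) ⊓ LinearMap.ker (B v))
    have h3 := LinearMap.finrank_range_add_finrank_ker (((B u).prod (B v)).comp W₂.subtype)
    have h4 := Submodule.finrank_le (LinearMap.range (((B u).prod (B v)).comp W₂.subtype))
    rw [Module.finrank_prod, Module.finrank_self] at h4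
    have h5 : LinearMap.ker (((B u).prod (B v)).comp W₂.subtype) = K.comap W₂.subtype := by
      ext ⟨x, hx⟩
      simp [K, hx]
    rw [h5, (Submodule.comapSubtypeEquivOfLe (show K ≤ W₂ from inf_le_left)).finrank_eq] at h3
    obtain ⟨y, hy, hy'⟩ := Submodule.exists_mem_ne_zero_of_ne_bot
      (fun he : K = ⊥ => by rw [he, finrank_bot] at h3; omega)
    exact ⟨y, hy.1, hy.2.1, hy.2.2, hy'⟩
  by_cases hyu₂ : ∃ t : F, u₂ = t • y
  · obtain ⟨t, ht⟩ := hyu₂
    exact long_degen hσ hσ2 hS hB hc h1 h2 hz hz0 hsr huv h hu₁ hu₂ hv₁ hv₂ hu hv hu0 huv₂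
      (by rw [ht, map_smul, hyu, smul_zero]) (by rw [ht, map_smul, hyv, smul_zero])
  by_cases hyv₂ : ∃ t : F, v₂ = t • y
  · obtain ⟨t, ht⟩ := hyv₂
    refine long_degen hσ hσ2 hS hB hc h1 h2 hz hz0 hsr (fun s hh => ?_) h.symm hv₁ hv₂ hu₁ hu₂ hv hu hv0
      (fun t' e => ?_) (by rw [ht, map_smul, hyv, smul_zero]) (by rw [ht, map_smul, hyu, smul_zero])
    · have h' : OPair B (σ s • u) v := ⟨by simp [h.1], h.2.1, by simp [h.2.2.1], by simp [h.2.2.2]⟩
      rw [srP_smul_swap hσ2 hz s hh h']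
      exact huv _ h'
    · rcases eq_or_ne t' 0 with rfl | ht'
      · exact hu0 (by rw [e, zero_smul])
      · exact huv₂ t'⁻¹ (by rw [e, smul_smul, inv_mul_cancel₀ ht', one_smul])
  push Not at hyu₂ hyv₂
  obtain ⟨a₁, a1W, a1y, a1u⟩ := exists_sep hS hB hc h2 hyW hu₂
    hyu₂
  obtain ⟨a₂, a2W, a2y, a2v⟩ := exists_sep hS hB hc h2 hyW hv₂
    hyv₂
  obtain ⟨a, haW, hay, hau, hav⟩ : ∃ a ∈ W₁, B a y = 0 ∧ B a u₂ ≠ 0 ∧ B a v₂ ≠ 0 := by
    by_cases e1 : B a₁ v₂ = 0
    · by_cases e2 : B a₂ u₂ = 0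
      · exact ⟨a₁ + a₂, add_mem a1W a2W, by simp [a1y, a2y], by simp [e2, a1u], by simp [e1, a2v]⟩
      · exact ⟨a₂, a2W, a2y, e2, a2v⟩
    · exact ⟨a₁, a1W, a1y, a1u, e1⟩
  have hau' : B a u = B a u₂ := by rw [← hu, map_add, h1 a haW u₁ hu₁, zero_add]
  have hav' : B a v = B a v₂ := by rw [← hv, map_add, h1 a haW v₁ hv₁, zero_add]
  -- choose the scalar
  obtain ⟨x₀, hx₀⟩ : ∃ x₀ : F, x₀ + σ x₀ = 1 := exists_trace_eq hσ hσ2 (map_one σ)
  have hX : B v a * B a u ≠ 0 := mul_ne_zero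
    (fun e => hav (by rw [← hav', ← hS.eq v a, e, map_zero])) (hau' ▸ hau)
  let s := x₀ / (B v a * B a u)
  have hP : OPair B (s • u) v := ⟨by simp [h.1], h.2.1, by simp [h.2.2.1], by simp [h.2.2.2]⟩
  have haP : OPair B a y := ⟨h1 a haW a haW, h2 y hyW y hyW, hay, hS.isRefl _ _ hay⟩
  have hgi := srP_mem_iso hS hz hP
  set g := srP hz hP with hgdef
  have hg := L.mul_mem (L.mul_mem (huv s hP) (hsr a haW y hyW haP)) (L.inv_mem (huv s hP))
  have hgy : g y = y := by rw [hgdef, srP_apply]; simp [hyu, hyv]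
  set a' := g a with ha'
  have hP' : OPair B a' (g y) := ⟨by rw [hgi, haP.1], by rw [hgi, haP.2.1], by rw [hgi, hay], by rw [hgi, haP.2.2.2]⟩
  rw [show srP hz hP = g from rfl, srP_conj hz hgi haP hP'] at hg
  have hyP : OPair B y a' := by rw [← hgy]; exact hP'.symm
  have hy' : srP hz hyP ∈ L := by
    convert hg using 1
    rw [srP_comm hz hP']
    congr 1
    exact hgy.symm
  have hγ : B a' a ≠ 0 := by
    intro e
    have e' : B a a' = 0 := hS.isRefl _ _ e
    rw [ha', hgdef, srP_apply] at e'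
    simp only [map_add, map_smul, LinearMap.map_smulₛₗ, LinearMap.smul_apply, smul_eq_mul,
      RingHom.id_apply, haP.1, zero_add] at e'
    have hsX : s * (B v a * B a u) = x₀ := div_mul_cancel₀ _ hX
    have hsX' : σ s * (B a v * B u a) = σ x₀ := by
      rw [← hsX, map_mul, map_mul, hS.eq v a, hS.eq a u]
    have : z * (x₀ + σ x₀) = 0 := by
      rw [← hsX', ← hsX]; linear_combination e'
    rw [hx₀, mul_one] at this
    exact hz0 this
  refine ⟨y, hyW, hy0, h2 y hyW y hyW, fun c hc => ?_⟩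
  have hcz : c + σ c = 0 := by rwa [h2 y hyW y hyW, mul_zero, add_zero] at hc
  -- the partner is a multiple of `a`
  obtain ⟨δ, hδ⟩ : ∃ δ : F, δ + σ δ = c / z := exists_trace_eq hσ hσ2 (by
    rw [map_div₀, eq_neg_of_add_eq_zero_right hcz, eq_neg_of_add_eq_zero_right hz, neg_div_neg_eq])
  let t := δ / (z * B a' a)
  have hPt : OPair B (t • a) y := ⟨by simp [haP.1], haP.2.1, by simp [hay], by simp [haP.2.2.2]⟩
  have hval : z * B a' (t • a) = δ := by
    simp only [map_smul, smul_eq_mul, t]; field_simp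
  have hl : z * (z * B a' (t • a) + σ (z * B a' (t • a))) = c := by
    rw [hval, hδ, mul_div_cancel₀ _ hz0]
  exact long_of_short hS hσ2 hz hyP hPt hy' (hsr _ (W₁.smul_mem t haW) y hyW hPt) c hl.symm hc

omit [FiniteDimensional F V] in
theorem spread [FiniteDimensional F V] (hσ2 : ∀ a, σ (σ a) = a) (hS : B.IsSymm)
    (hB : B.Nondegenerate) (hc : IsCompl W₁ W₂)
    (h1 : ∀ x ∈ W₁, ∀ y ∈ W₁, B x y = 0) (h2 : ∀ x ∈ W₂, ∀ y ∈ W₂, B x y = 0)
    (hz : z + σ z = 0) (hz0 : z ≠ 0) {L : Subgroup (V ≃ₗ[F] V)} (hL : L ≤ iso B)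
    (hsr : ∀ a ∈ W₁, ∀ b ∈ W₂, ∀ h : OPair B a b, srP hz h ∈ L) {y : V} (hy : y ∈ W₂) (hy0 : y ≠ 0)
    (hlong : Centre B L y) : ∀ y' ∈ W₂, Centre B L y' := by
  intro y' hy'
  by_cases hp : ∀ t : F, y' ≠ t • y
  · obtain ⟨a, haW, hab, hay⟩ := exists_sep hS hB hc h2 (sub_mem hy' hy) hy (u := y)
      (y := y' - y) fun t e => by
        rcases eq_or_ne t 0 with rfl | ht
        · exact hy0 (by rw [e, zero_smul])
        · refine hp (t⁻¹ + 1) ?_
          rw [add_smul, one_smul]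
          nth_rw 1 [e]
          rw [smul_smul, inv_mul_cancel₀ ht, one_smul, sub_add_cancel]
    let b := (z * B a y)⁻¹ • (y' - y)
    have hbW : b ∈ W₂ := W₂.smul_mem _ (sub_mem hy' hy)
    have hP : OPair B a b := ⟨h1 a haW a haW, h2 b hbW b hbW, by simp only [b, map_smul, hab, smul_zero],
      by simp only [b, LinearMap.map_smulₛₗ, LinearMap.smul_apply, hS.isRefl _ _ hab, smul_zero]⟩
    have h := centre_invariant hL (hsr a haW b hbW hP) hlong
    rw [srP_apply, h2 b hbW y hy, mul_zero, zero_smul, add_zero] at h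
    simp only [b, smul_smul, mul_inv_cancel₀ (mul_ne_zero hz0 hay), one_smul, add_sub_cancel] at h
    exact h
  · push Not at hp
    obtain ⟨t, rfl⟩ := hp
    exact centre_smul hσ2 hlong t

/-- A matrix in `GL` as a linear equivalence. -/
noncomputable def toEquiv {ι : Type} [Fintype ι] [DecidableEq ι] {F : Type*} [Field F] :
    GL ι F ≃* ((ι → F) ≃ₗ[F] (ι → F)) :=
  Matrix.GeneralLinearGroup.toLin.trans (LinearMap.GeneralLinearGroup.generalLinearEquiv F (ι → F))

omit [Finite F] [FiniteDimensional F V] in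
/-- Products of commuting transvections with perpendicular centres. -/
theorem exists_sum_tv {ι : Type*} (S : Finset ι) (f : ι → V) (c : F) (hc : c + σ c = 0)
    (hf : ∀ i j, B (f i) (f j) = 0) :
    ∃ t ∈ tvGroup B, ∀ x, t x = x + ∑ i ∈ S, (c * B (f i) x) • f i := by
  classical
  induction S using Finset.induction with
  | empty => exact ⟨1, one_mem _, fun x => by simp⟩
  | insert i S hi ih =>
    obtain ⟨t, ht, htx⟩ := ih
    refine ⟨qrefl (f i) c (tv_cond (hf i i) hc) * t,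
      mul_mem (Subgroup.subset_closure ⟨_, _, _, hf i i, rfl⟩) ht, fun x => ?_⟩
    rw [LinearEquiv.mul_apply, htx, qrefl_apply, Finset.sum_insert hi]
    simp only [map_add, map_sum, map_smul, hf, smul_zero, Finset.sum_const_zero, add_zero]
    abel

theorem exists_swap (hσ2 : ∀ a, σ (σ a) = a) (hS : B.IsSymm) (hB : B.Nondegenerate)
    (hc : IsCompl W₁ W₂) (h1 : ∀ x ∈ W₁, ∀ y ∈ W₁, B x y = 0) (h2 : ∀ x ∈ W₂, ∀ y ∈ W₂, B x y = 0)
    (hdim : finrank F W₁ = finrank F W₂) (hz : z + σ z = 0) (hz0 : z ≠ 0) :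
    ∃ s : V ≃ₗ[F] V, s ∈ tvGroup B ∧ (∀ x ∈ W₁, s x ∈ W₂) ∧ ∀ y ∈ W₂, s y ∈ W₁ := by
  classical
  let bs := Module.finBasis F W₁
  have hdual : ∀ i, ∃ f ∈ W₂, ∀ j, B f (bs j : V) = if j = i then 1 else 0 := by
    intro i
    obtain ⟨u, hu⟩ := exists_eq_apply hσ2 hB ((bs.coord i).comp (W₁.projectionOnto W₂ hc))
    obtain ⟨a, ha, f, hf, rfl⟩ := Submodule.mem_sup.mp (hc.sup_eq_top ▸ Submodule.mem_top : u ∈ W₁ ⊔ W₂)
    refine ⟨f, hf, fun j => ?_⟩
    have := LinearMap.congr_fun hu (bs j : V)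
    rw [map_add, LinearMap.add_apply, h1 a ha _ (bs j).2, zero_add, LinearMap.comp_apply,
      Submodule.projectionOnto_apply_left hc] at this
    rw [this]
    simp [Module.Basis.coord_apply, Finsupp.single_apply]
  choose f hfW hf using hdual
  have hef : ∀ i j, B (bs i : V) (f j) = if i = j then 1 else 0 := fun i j => by
    rw [← hS.eq, hf]; split_ifs <;> simp
  let l : F := -z⁻¹
  have hl : l + σ l = 0 := by
    simp only [l, map_neg, map_inv₀, eq_neg_of_add_eq_zero_right hz, inv_neg]; ring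
  obtain ⟨U, hU, hUx⟩ := exists_sum_tv (B := B) Finset.univ f z hz fun i j => h2 _ (hfW i) _ (hfW j)
  obtain ⟨T, hT, hTx⟩ := exists_sum_tv (B := B) Finset.univ (fun i => (bs i : V)) l hl
    fun i j => h1 _ (bs i).2 _ (bs j).2
  have hUe : ∀ j, U (bs j : V) = (bs j : V) + z • f j := fun j => by
    rw [hUx]; simp [hf]
  have hUf : ∀ j, U (f j) = f j := fun j => by
    rw [hUx]; simp [fun i => h2 _ (hfW i) _ (hfW j)]
  have hTe : ∀ j, T (bs j : V) = (bs j : V) := fun j => by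
    rw [hTx]; simp [fun i => h1 _ (bs i).2 _ (bs j).2]
  have hTf : ∀ j, T (f j) = f j + l • (bs j : V) := fun j => by
    rw [hTx]; simp [hef]
  have hzl : z * l = -1 := by simp [l, hz0]
  have hse : ∀ j, (U * T * U) (bs j : V) = z • f j := fun j => by
    have hTU : T (U (bs j : V)) = z • f j := by
      rw [hUe, map_add, map_smul, hTe, hTf, smul_add, smul_smul, hzl]
      module
    rw [LinearEquiv.mul_apply, LinearEquiv.mul_apply, hTU, map_smul, hUf]
  have hsf : ∀ j, (U * T * U) (f j) = l • (bs j : V) := fun j => by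
    rw [LinearEquiv.mul_apply, LinearEquiv.mul_apply, hUf, hTf, map_add, map_smul, hUf, hUe,
      smul_add, smul_smul, mul_comm l z, hzl]
    module
  have hW1 : ∀ x ∈ W₁, ∃ c : _ → F, x = ∑ j, c j • (bs j : V) := fun x hx =>
    ⟨bs.repr ⟨x, hx⟩, by
      refine ((congrArg Subtype.val (bs.sum_repr ⟨x, hx⟩)).symm.trans ?_)
      rw [AddSubmonoidClass.coe_finset_sum]
      rfl⟩
  have h12 : ∀ x ∈ W₁, (U * T * U) x ∈ W₂ := fun x hx => by
    obtain ⟨c, rfl⟩ := hW1 x hx
    rw [map_sum]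
    exact sum_mem fun j _ => by rw [map_smul, hse]; exact W₂.smul_mem _ (W₂.smul_mem _ (hfW j))
  refine ⟨U * T * U, mul_mem (mul_mem hU hT) hU, h12, fun y hy => ?_⟩
  have himg : W₁.map (U * T * U).toLinearMap = W₂ := by
    refine Submodule.eq_of_le_of_finrank_le (fun _ ⟨x, hx, he⟩ => he ▸ h12 x hx) ?_
    rw [LinearEquiv.finrank_map_eq, hdim]
  obtain ⟨x, hx, rfl⟩ := himg.symm ▸ hy
  obtain ⟨c, rfl⟩ := hW1 x hx
  rw [map_sum, map_sum]
  refine sum_mem fun j _ => ?_
  show (U * T * U) ((U * T * U) (c j • (bs j : V))) ∈ W₁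
  rw [map_smul, map_smul, hse, map_smul, hsf]
  exact W₁.smul_mem _ (W₁.smul_mem _ (W₁.smul_mem _ (bs j).2))

/-- The same from dimension twelve on. -/
theorem main {F : Type*} [Field F] [Fintype F] (n q : ℕ) (hF : Fintype.card F = q ^ 2) (hn : 6 ≤ n) (k : ℕ) (hk : 2 * k = n) (D : Fin 2 → Submodule F (Fin n → F)) (hD : Cfsg.Geo.IsMDecomposition k D) (hts : ∀ i, Cfsg.Geo.IsTotallySingularFor (Cfsg.hermForm n F q) (D i)) : Cfsg.Geo.IsMaximalIn (Cfsg.GU n F q ⊓ Cfsg.Geo.specialLinear (Fin n) F) (Cfsg.Geo.decompositionStabilizer D ⊓ (Cfsg.GU n F q ⊓ Cfsg.Geo.specialLinear (Fin n) F)) := by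
  classical
  set B := hB hF n with hBdef
  have hσ := frob_ne_id hF
  have hσ2 := frob_frob hF
  have hS : B.IsSymm := hB_isSymm hF n
  have hB' : B.Nondegenerate := hB_nondegenerate hF n
  obtain ⟨z, hz0, hz⟩ := exists_trace_zero hσ hσ2
  have hfin := hD.finrank_eq
  have hsing : ∀ i, ∀ x ∈ D i, ∀ y ∈ D i, B x y = 0 := fun i x hx y hy => hts i y hy x hx
  have hc : ∀ i : Fin 2, IsCompl (D i) (D (Equiv.swap 0 1 i)) := by
    have h01 : IsCompl (D 0) (D 1) := by
      refine ⟨hD.indep.pairwiseDisjoint (by decide : (0 : Fin 2) ≠ 1), ?_⟩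
      rw [codisjoint_iff, eq_top_iff, ← hD.iSup_eq_top, iSup_le_iff, Fin.forall_fin_two]
      exact ⟨le_sup_left, le_sup_right⟩
    rw [Fin.forall_fin_two]
    exact ⟨by simpa using h01, by simpa using h01.symm⟩
  let e : GL (Fin n) F ≃* ((Fin n → F) ≃ₗ[F] (Fin n → F)) := toEquiv
  have hsp : ∀ g, g ∈ Cfsg.GU n F q ⊓ Cfsg.Geo.specialLinear (Fin n) F ↔ e g ∈ tvGroup B := by
    intro g
    rw [mem_tvGroup_iff hσ hσ2 hS hB' (Or.inl (by rw [Module.finrank_fin_fun]; omega)),
      Subgroup.mem_inf]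
    refine and_congr ⟨fun h u v => h v u, fun h u v => h v u⟩ ?_
    have hd : (LinearEquiv.det (e g) : F) = (Matrix.GeneralLinearGroup.det g : F) := by
      rw [LinearEquiv.coe_det, show ((e g : (Fin n → F) ≃ₗ[F] (Fin n → F)) : (Fin n → F) →ₗ[F] (Fin n → F)) =
          Matrix.toLin' (g : Matrix (Fin n) (Fin n) F) from LinearMap.ext fun x => rfl,
        LinearMap.det_toLin']
      rfl
    constructor
    · intro h
      exact Units.ext (hd.trans (congrArg Units.val (MonoidHom.mem_ker.mp h)))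
    · intro h
      exact MonoidHom.mem_ker.mpr (Units.ext (hd.symm.trans (congrArg Units.val h)))
  set N := Cfsg.Geo.decompositionStabilizer D ⊓ (Cfsg.GU n F q ⊓ Cfsg.Geo.specialLinear (Fin n) F)
  have hmemN : ∀ g : GL (Fin n) F, e g ∈ tvGroup B → ∀ σ : Equiv.Perm (Fin 2),
      (∀ i, ∀ x ∈ D i, e g x ∈ D (σ i)) → g ∈ N := by
    intro g hg σ hσ
    refine Subgroup.mem_inf.mpr ⟨⟨σ, fun i => ?_⟩, (hsp g).mpr hg⟩
    refine Submodule.eq_of_le_of_finrank_le ?_ (le_of_eq ?_)
    · rintro _ ⟨x, hx, rfl⟩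
      exact hσ i x hx
    · rw [hfin, show Matrix.toLin' (g : Matrix _ _ F) = (e g).toLinearMap from
        LinearMap.ext fun x => rfl, LinearEquiv.finrank_map_eq, hfin]
  refine ⟨lt_of_le_of_ne inf_le_right fun heq => ?_, fun L hNL hLG => ?_⟩
  · have h01 := hc 0
    rw [Equiv.swap_apply_left] at h01
    obtain ⟨b, hb, hb0⟩ := Submodule.exists_mem_ne_zero_of_ne_bot
      (fun he : D 1 = ⊥ => by have := hfin 1; rw [he, finrank_bot] at this; omega)
    obtain ⟨x, hx, hxb⟩ : ∃ x ∈ D 0, B x b ≠ 0 := by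
      by_contra h; push Not at h; exact hb0 (pairing hS hB' h01 (hsing 1) hb h)
    have hbx : B b x ≠ 0 := fun e => hxb (hS.isRefl _ _ e)
    let t := qrefl b z (tv_cond (B := B) (hsing 1 b hb b hb) hz)
    have hmem : e.symm t ∈ N := by
      rw [heq, hsp, MulEquiv.apply_symm_apply]
      exact Subgroup.subset_closure ⟨_, _, _, hsing 1 b hb b hb, rfl⟩
    obtain ⟨σ', hσ'⟩ := hmem.1
    have h1 : e (e.symm t) x ∈ D (σ' 0) := by rw [← hσ' 0]; exact ⟨x, hx, rfl⟩
    rw [MulEquiv.apply_symm_apply, qrefl_apply] at h1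
    have hsm : (z * B b x) • b ∈ D 1 := (D 1).smul_mem _ hb
    rcases Fin.exists_fin_two.mp ⟨σ' 0, rfl⟩ with hσ0 | hσ0 <;> rw [hσ0] at h1
    · have : (z * B b x) • b ∈ D 0 ⊓ D 1 := ⟨by simpa using sub_mem h1 hx, hsm⟩
      rw [h01.inf_eq_bot, Submodule.mem_bot, smul_eq_zero] at this
      exact this.elim (mul_ne_zero hz0 hbx) hb0
    · have : x ∈ D 0 ⊓ D 1 := ⟨hx, by simpa using sub_mem h1 hsm⟩
      rw [h01.inf_eq_bot, Submodule.mem_bot] at this
      exact hxb (by simp [this])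
  · by_cases hLN : L ≤ N
    · exact Or.inl (le_antisymm hLN hNL)
    right
    obtain ⟨g, hgL, hgN⟩ := SetLike.not_le_iff_exists.mp hLN
    let L' := L.map e.toMonoidHom
    have hLT : L' ≤ tvGroup B := by
      rintro _ ⟨h, hh, rfl⟩
      exact (hsp h).mp (hLG hh)
    have hL' : L' ≤ iso B := hLT.trans (tvGroup_le_iso hS)
    have hsub : ∀ x, e.symm x ∈ N → x ∈ L' := fun x hx => ⟨e.symm x, hNL hx, e.apply_symm_apply x⟩
    have hsr : ∀ i, ∀ a ∈ D i, ∀ b ∈ D (Equiv.swap 0 1 i), ∀ h : OPair B a b, srP hz h ∈ L' := by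
      intro i a ha b hb hab
      refine hsub _ (hmemN _ (by rw [MulEquiv.apply_symm_apply]; exact srP_mem_tv hz hab) 1 fun j x hx => ?_)
      rw [MulEquiv.apply_symm_apply, srP_apply, Equiv.Perm.one_apply]
      have hji : j = i ∨ j = Equiv.swap 0 1 i :=
        (by decide : ∀ i j : Fin 2, j = i ∨ j = Equiv.swap 0 1 i) i j
      rcases hji with rfl | rfl
      · rw [hsing j a ha x hx, mul_zero, zero_smul, add_zero]
        exact add_mem hx ((D j).smul_mem _ ha)
      · rw [hsing _ b hb x hx, mul_zero, zero_smul, add_zero]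
        exact add_mem hx ((D _).smul_mem _ hb)
    obtain ⟨s, hs, hs0, hs1⟩ := exists_swap hσ2 hS hB' (by simpa using hc 0 : IsCompl (D 0) (D 1))
      (hsing 0) (hsing 1) ((hfin 0).trans (hfin 1).symm) hz hz0
    have hsswap : ∀ i, ∀ x ∈ D i, s x ∈ D (Equiv.swap 0 1 i) := by
      rw [Fin.forall_fin_two]; exact ⟨by simpa using hs0, by simpa using hs1⟩
    have hsL : s ∈ L' := hsub s (hmemN _ (by rw [MulEquiv.apply_symm_apply]; exact hs) (Equiv.swap 0 1)
      fun i x hx => by rw [MulEquiv.apply_symm_apply]; exact hsswap i x hx)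
    -- a long root element with centre in one of the two subspaces
    obtain ⟨i, y, hy, hy0, hlong⟩ : ∃ i, ∃ y ∈ D i, y ≠ 0 ∧ Centre B L' y := by
      by_contra hno
      push Not at hno
      have h01 : IsCompl (D 0) (D 1) := by simpa using hc 0
      have key : ∀ i₀, ∀ x ∈ D i₀, e g x ∈ D 0 ∨ e g x ∈ D 1 := by
        intro i₀ x hx
        by_contra hcon
        push Not at hcon
        obtain ⟨u₁, hu₁, u₂, hu₂, hu⟩ := Submodule.mem_sup.mp
          (h01.sup_eq_top ▸ Submodule.mem_top : e g x ∈ D 0 ⊔ D 1)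
        have hu₁0 : u₁ ≠ 0 := fun h => hcon.2 (by rw [← hu, h, zero_add]; exact hu₂)
        have hu₂0 : u₂ ≠ 0 := fun h => hcon.1 (by rw [← hu, h, add_zero]; exact hu₁)
        have hx0 : x ≠ 0 := fun h => hcon.1 (by rw [h, map_zero]; exact zero_mem _)
        -- a perpendicular vector of the other side leaving the plane of the two components
        set j₀ := Equiv.swap 0 1 i₀ with hj₀
        obtain ⟨y, hy, hxy, hyP⟩ : ∃ y ∈ D j₀, B x y = 0 ∧
            e g y ∉ Submodule.span F ({u₁, u₂} : Set (Fin n → F)) := by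
          by_contra hall
          push Not at hall
          set K := D j₀ ⊓ LinearMap.ker (B x) with hK
          have hdis : Disjoint (Submodule.span F {x}) K :=
            (hc i₀).disjoint.mono ((Submodule.span_singleton_le_iff_mem _ _).2 hx) inf_le_left
          have hle : (Submodule.span F {x} ⊔ K).map (e g).toLinearMap ≤
              Submodule.span F ({u₁, u₂} : Set (Fin n → F)) := by
            rw [Submodule.map_sup, sup_le_iff, Submodule.map_span, Submodule.span_le,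
              Set.image_singleton, Set.singleton_subset_iff]
            refine ⟨?_, fun _ ⟨w, hw, he⟩ => he ▸ hall w hw.1 hw.2⟩
            show e g x ∈ _
            rw [← hu]
            exact add_mem (Submodule.subset_span (by simp)) (Submodule.subset_span (by simp))
          have a1 := Submodule.finrank_mono hle
          rw [LinearEquiv.finrank_map_eq] at a1
          have a2 := Submodule.finrank_sup_add_finrank_inf_eq (Submodule.span F {x}) K
          rw [disjoint_iff.mp hdis, finrank_bot, finrank_span_singleton hx0] at a2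
          have a3 : finrank F (Submodule.span F ({u₁, u₂} : Set (Fin n → F))) ≤ 2 := by
            have := finrank_span_finset_le_card (R := F) ({u₁, u₂} : Finset (Fin n → F))
            rw [Finset.coe_pair] at this
            exact this.trans Finset.card_le_two
          have a4 := LinearMap.finrank_range_add_finrank_ker ((B x).comp (D j₀).subtype)
          have a5 := Submodule.finrank_le (LinearMap.range ((B x).comp (D j₀).subtype))
          rw [Module.finrank_self] at a5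
          have a6 : LinearMap.ker ((B x).comp (D j₀).subtype) = K.comap (D j₀).subtype := by
            ext ⟨w, hw⟩
            simp [hK, hw]
          rw [a6, (Submodule.comapSubtypeEquivOfLe (show K ≤ D j₀ from inf_le_left)).finrank_eq,
            hfin] at a4
          omega
        have hg' : e g ∈ L' := ⟨g, hgL, rfl⟩
        have hgi := hL' hg'
        have hP : OPair B (e g x) (e g y) := ⟨by rw [hgi, hsing i₀ x hx x hx],
          by rw [hgi, hsing j₀ y hy y hy], by rw [hgi, hxy], by rw [hgi, hS.isRefl _ _ hxy]⟩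
        have huv : ∀ (s : F) (h : OPair B (s • e g x) (e g y)), srP hz h ∈ L' := by
          intro s h
          have hP' : OPair B (s • x) y := ⟨by simp [hsing i₀ x hx x hx], hsing j₀ y hy y hy,
            by simp [hxy], by simp [hS.isRefl _ _ hxy]⟩
          have := L'.mul_mem (L'.mul_mem hg' (hsr i₀ _ ((D i₀).smul_mem s hx) y hy hP'))
            (L'.inv_mem hg')
          rw [srP_conj hz hgi hP' (by rw [map_smul]; exact h)] at this
          convert this using 1
          congr 1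
          rw [map_smul]
        have huv' : ∀ (s : F) (h : OPair B (s • e g x) (e g y)), srP hz h ∈ L' := huv
        obtain ⟨v₁, hv₁, v₂, hv₂, hv⟩ := Submodule.mem_sup.mp
          (h01.sup_eq_top ▸ Submodule.mem_top : e g y ∈ D 0 ⊔ D 1)
        by_cases ha : ∀ t : F, v₂ ≠ t • u₂
        · obtain ⟨y', hy', hy'0, hl⟩ := long_in hσ hσ2 hS hB' h01 (hsing 0) (hsing 1)
            (by rw [hfin]; omega) hz hz0 (by simpa using hsr 0) huv hP hu₁ hu₂ hv₁ hv₂ hu hv hu₂0 ha
          exact hno 1 y' hy' hy'0 hl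
        push Not at ha
        obtain ⟨t, ht⟩ := ha
        obtain ⟨y', hy', hy'0, hl⟩ := long_in hσ hσ2 hS hB' h01.symm (hsing 1) (hsing 0)
          (by rw [hfin]; omega) hz hz0 (by simpa using hsr 1) huv' hP hu₂ hu₁ hv₂ hv₁
          (by rw [add_comm, hu]) (by rw [add_comm, hv]) hu₁0 fun t' ht' => hyP (by
            rw [← hv, ht, ht']
            exact add_mem (Submodule.smul_mem _ _ (Submodule.subset_span (by simp)))
              (Submodule.smul_mem _ _ (Submodule.subset_span (by simp))))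
        exact hno 0 y' hy' hy'0 hl
      have inunion : ∀ i, ∀ x ∈ D i, e g x ∈ D 0 ∨ e g x ∈ D 1 := key
      have hone : ∀ i, ∃ j, ∀ x ∈ D i, e g x ∈ D j := by
        intro i
        by_contra hne
        push Not at hne
        obtain ⟨x, hx, hx0⟩ := hne 0
        obtain ⟨x', hx', hx1⟩ := hne 1
        have a1 := (inunion i x hx).resolve_left hx0
        have a2 := (inunion i x' hx').resolve_right hx1
        rcases inunion i (x + x') (add_mem hx hx') with h | h <;> rw [map_add] at h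
        · exact hx0 (by simpa using sub_mem h a2)
        · exact hx1 (by simpa using sub_mem h a1)
      choose π hπ using hone
      have hinj : Function.Injective π := by
        intro a b hab
        by_contra hne
        have h1 : (D a ⊔ D b).map (e g).toLinearMap ≤ D (π a) := by
          rw [Submodule.map_sup, sup_le_iff]
          exact ⟨fun _ ⟨z, hz, he⟩ => he ▸ hπ a z hz, fun _ ⟨z, hz, he⟩ => by rw [hab]; exact he ▸ hπ b z hz⟩
        have h2 := Submodule.finrank_mono h1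
        rw [LinearEquiv.finrank_map_eq] at h2
        have h3 := Submodule.finrank_sup_add_finrank_inf_eq (D a) (D b)
        rw [disjoint_iff.mp (hD.indep.pairwiseDisjoint hne), finrank_bot, hfin, hfin] at h3
        rw [hfin] at h2
        omega
      exact hgN (hmemN g ((hsp g).mp (hLG hgL))
        (Equiv.ofBijective π (Finite.injective_iff_bijective.mp hinj)) (fun i x hx => hπ i x hx))
    -- all centres
    have hi' : ∀ i : Fin 2, Equiv.swap 0 1 (Equiv.swap 0 1 i) = i := Equiv.swap_apply_self 0 1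
    have hWi : ∀ y' ∈ D i, Centre B L' y' :=
      spread hσ2 hS hB' (hc i).symm (hsing _) (hsing i) hz hz0 hL'
        (fun a ha b hb h => hsr _ a ha b (by rw [hi']; exact hb) h) hy hy0 hlong
    have hWj : ∀ x ∈ D (Equiv.swap 0 1 i), Centre B L' x := by
      intro x hx
      have h1 := hsswap _ x hx
      rw [hi'] at h1
      have h2 := centre_invariant hL' (L'.inv_mem hsL) (hWi _ h1)
      rwa [show s⁻¹ (s x) = x by rw [← LinearEquiv.mul_apply, inv_mul_cancel]; rfl] at h2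
    have hall : tvGroup B ≤ L' := by
      rw [tvGroup, Subgroup.closure_le]
      rintro _ ⟨v, c, hc', hv, rfl⟩
      suffices h : Centre B L' v from h.2 c hc'
      obtain ⟨a, ha, b, hb, rfl⟩ := Submodule.mem_sup.mp
        ((hc i).sup_eq_top ▸ Submodule.mem_top : v ∈ D i ⊔ D (Equiv.swap 0 1 i))
      have hab : B b a + B a b = 0 := by
        simpa [hsing i a ha a ha, hsing _ b hb b hb, add_comm] using hv
      rcases eq_or_ne a 0 with rfl | ha0
      · rw [zero_add]; exact hWj b hb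
      have step : ∀ w, Centre B L' w → ∀ b ∈ D (Equiv.swap 0 1 i), B b w ≠ 0 →
          B b w + B w b = 0 → Centre B L' (w + b) := by
        intro w hw b hb hwb htr
        have hh := (hWj b hb).2 (B b w)⁻¹ (tv_cond (hsing _ b hb b hb) (by
          rw [map_inv₀, hS.eq, eq_neg_of_add_eq_zero_right htr, inv_neg, add_neg_cancel]))
        have h := centre_invariant hL' hh hw
        rwa [qrefl_apply, inv_mul_cancel₀ hwb, one_smul] at h
      by_cases hab0 : B b a = 0
      · have hab' : B a b = 0 := hS.isRefl _ _ hab0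
        obtain ⟨b₁, hb₁, hab₁⟩ : ∃ b₁ ∈ D (Equiv.swap 0 1 i), B b₁ a ≠ 0 := by
          by_contra h
          push Not at h
          exact ha0 (pairing hS hB' (hc i).symm (hsing i) ha h)
        obtain ⟨r, hr⟩ : ∃ r : F, frob hF r = z / B b₁ a :=
          ⟨_, (Finite.injective_iff_surjective.mp (frob hF).injective (z / B b₁ a)).choose_spec⟩
        let b₂ := r • b₁
        have hb₂ : b₂ ∈ D (Equiv.swap 0 1 i) := (D _).smul_mem _ hb₁
        have e2 : B b₂ a = z := by simp [b₂, hr, div_mul_cancel₀ _ hab₁]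
        have e3 : B a b₂ = -z := by rw [← hS.eq, e2, eq_neg_of_add_eq_zero_right hz]
        have h := step _ (step a (hWi a ha) b₂ hb₂ (by rw [e2]; exact hz0)
          (by rw [e2, e3, add_neg_cancel])) (b - b₂) (sub_mem hb hb₂)
          (by simpa [hab0, e2, hsing _ b hb b₂ hb₂, hsing _ b₂ hb₂ b₂ hb₂] using hz0)
          (by simp [hab0, hab', e2, e3, hsing _ b hb b₂ hb₂, hsing _ b₂ hb₂ b₂ hb₂,
                hsing _ b₂ hb₂ b hb])
        rwa [add_assoc, add_sub_cancel] at h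
      · exact step a (hWi a ha) b hb hab0 hab
    refine le_antisymm hLG fun x hx => ?_
    have : e x ∈ L' := hall ((hsp x).mp hx)
    obtain ⟨y, hy, hyx⟩ := this
    exact e.injective hyx ▸ hy

/-- Let F be the field with q² elements and n = 2k ≥ 13. Let D be a decomposition of F^n into two complementary subspaces of dimension k on each of which the standard unitary form vanishes identically. Then the elements of SU_n(q) preserving or interchanging the two subspaces form a maximal subgroup of SU_n(q). -/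
theorem result {F : Type*} [Field F] [Fintype F] (n q : ℕ) (hF : Fintype.card F = q ^ 2) (hn : 13 ≤ n) (k : ℕ) (hk : 2 * k = n) (D : Fin 2 → Submodule F (Fin n → F)) (hD : Cfsg.Geo.IsMDecomposition k D) (hts : ∀ i, Cfsg.Geo.IsTotallySingularFor (Cfsg.hermForm n F q) (D i)) : Cfsg.Geo.IsMaximalIn (Cfsg.GU n F q ⊓ Cfsg.Geo.specialLinear (Fin n) F) (Cfsg.Geo.decompositionStabilizer D ⊓ (Cfsg.GU n F q ⊓ Cfsg.Geo.specialLinear (Fin n) F)) := by
  exact main n q hF (by omega) k hk D hD hts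

end Cfsg.Agent.S5657
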