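import Cfsg.Statements.S5659
import Cfsg.Agent.Lib.Linear.SubfieldHermStd
import Cfsg.Agent.Lib.Linear.SingularVectors

set_option autoImplicit false
open Cfsg

namespace Cfsg.Agent.S5659

open scoped Matrix
open Cfsg.Lib.Linear Cfsg.Lib.Linear.Rat0 Cfsg.Lib.Linear.SubU Module

variable {ι : Type} [Fintype ι] [DecidableEq ι] {F : Type*} [Field F] {σ : F →+* F}
  {F₀ : Subfield F} {J : Matrix ι ι F₀}

/-- The standing hypotheses: a Hermitian form whose rational part is symmetric. -/
structure Ctx (σ : F →+* F) (F₀ : Subfield F) (J : Matrix ι ι F₀) : Prop where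
  inv : ∀ x, σ (σ x) = x
  ne : σ ≠ RingHom.id F
  fix : ∀ x ∈ F₀, σ x = x
  mem_of : ∀ x, σ x = x → x ∈ F₀
  det : J.det ≠ 0
  herm : ∀ u v, frm σ F₀ J v u = σ (frm σ F₀ J u v)
  two : (2 : F) ≠ 0
  card : 6 ≤ Fintype.card ι

theorem Ctx.frm_perp (C : Ctx σ F₀ J) {u v : ι → F} (h : frm σ F₀ J u v = 0) :
    frm σ F₀ J v u = 0 := by rw [C.herm, h, map_zero]

/-- The symmetric form on rational vectors. -/
def g0 (J : Matrix ι ι F₀) (x y : ι → F₀) : F₀ := x ⬝ᵥ (J *ᵥ y)

theorem Ctx.cov_rv (C : Ctx σ F₀ J) (y : ι → F₀) : cov σ F₀ J (rv F₀ y) = rv F₀ (J *ᵥ y) := by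
  rw [cov, show (fun i => σ (rv F₀ y i)) = rv F₀ y from funext fun i => C.fix _ (y i).2]
  funext i
  exact (RingHom.map_mulVec F₀.subtype J y i).symm

theorem Ctx.frm_rv (C : Ctx σ F₀ J) (x y : ι → F₀) :
    frm σ F₀ J (rv F₀ x) (rv F₀ y) = (g0 J x y : F) := by
  rw [frm, C.cov_rv, rv_dot]; rfl

theorem Ctx.g0_symm (C : Ctx σ F₀ J) (x y : ι → F₀) : g0 J x y = g0 J y x :=
  Subtype.ext (by rw [← C.frm_rv, C.herm, C.frm_rv, C.fix _ (g0 J y x).2])

theorem g0_add (x y z : ι → F₀) : g0 J (x + y) z = g0 J x z + g0 J y z := add_dotProduct _ _ _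
theorem g0_smul (c : F₀) (x z : ι → F₀) : g0 J (c • x) z = c * g0 J x z := smul_dotProduct _ _ _

theorem Ctx.exists_cov (C : Ctx σ F₀ J) (q : ι → F₀) : ∃ p : ι → F₀, J *ᵥ p = q :=
  ⟨J⁻¹ *ᵥ q, by rw [Matrix.mulVec_mulVec, Matrix.mul_nonsing_inv _ (isUnit_iff_ne_zero.mpr C.det),
    Matrix.one_mulVec]⟩

theorem Ctx.two' (C : Ctx σ F₀ J) : (2 : F₀) ≠ 0 := fun h => C.two (by
  have h1 := congrArg F₀.subtype h
  rwa [map_ofNat, map_zero] at h1)

/-- The quadratic form on rational vectors. -/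
def q0 (J : Matrix ι ι F₀) (x : ι → F₀) : F₀ := g0 J x x

/-- Its polar form. -/
def b0 (J : Matrix ι ι F₀) : LinearMap.BilinForm F₀ (ι → F₀) := Matrix.toBilin' ((2 : F₀) • J)

theorem b0_apply (x y : ι → F₀) : b0 J x y = 2 * g0 J x y := by
  rw [b0, Matrix.toBilin'_apply', Matrix.smul_mulVec, dotProduct_smul]; rfl

theorem q0_smul (c : F₀) (x : ι → F₀) : q0 J (c • x) = c ^ 2 * q0 J x := by
  rw [q0, g0_smul, q0, g0, g0, Matrix.mulVec_smul, dotProduct_smul, smul_eq_mul]; ring

theorem Ctx.polar (C : Ctx σ F₀ J) (x y : ι → F₀) :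
    QuadraticMap.polar (q0 J) x y = b0 J x y := by
  have h : g0 J y x = g0 J x y := C.g0_symm y x
  rw [b0_apply, QuadraticMap.polar, q0, q0, q0, g0_add]
  simp only [g0, Matrix.mulVec_add, dotProduct_add] at h ⊢
  linear_combination h

theorem Ctx.nondeg (C : Ctx σ F₀ J) (v : ι → F₀) (h : ∀ u, b0 J u v = 0) : v = 0 := by
  refine Matrix.mulVec_injective_of_isUnit ((Matrix.isUnit_iff_isUnit_det J).mpr
    (isUnit_iff_ne_zero.mpr C.det)) (show J *ᵥ v = J *ᵥ 0 from ?_)
  rw [Matrix.mulVec_zero]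
  funext i
  have h1 := h (Pi.single i 1)
  rw [b0_apply, mul_eq_zero, g0, single_dotProduct, one_mul] at h1
  exact h1.resolve_left C.two'

theorem Ctx.nondeg' (C : Ctx σ F₀ J) (v : ι → F₀) (h : ∀ u, b0 J v u = 0) : v = 0 :=
  C.nondeg v fun u => by rw [b0_apply, C.g0_symm, ← b0_apply]; exact h u

/-- The rational vectors perpendicular to a family. -/
def perp {k : ℕ} (J : Matrix ι ι F₀) (s : Fin k → ι → F₀) : Submodule F₀ (ι → F₀) :=
  LinearMap.ker (LinearMap.pi fun i => b0 J (s i))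

theorem Ctx.mem_perp (C : Ctx σ F₀ J) {k : ℕ} {s : Fin k → ι → F₀} {v : ι → F₀} :
    v ∈ perp J s ↔ ∀ i, g0 J v (s i) = 0 := by
  refine ⟨fun h i => ?_, fun h => LinearMap.mem_ker.mpr (funext fun i => ?_)⟩
  · have h1 : b0 J (s i) v = 0 := congrFun (LinearMap.mem_ker.mp h) i
    rw [b0_apply, mul_eq_zero] at h1
    rw [C.g0_symm]
    exact h1.resolve_left C.two'
  · show b0 J (s i) v = 0
    rw [b0_apply, C.g0_symm, h i, mul_zero]

theorem Ctx.finrank_perp_ge (_ : Ctx σ F₀ J) {k : ℕ} (s : Fin k → ι → F₀) :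
    Fintype.card ι ≤ finrank F₀ (perp J s) + k := by
  have h4 := LinearMap.finrank_range_add_finrank_ker (LinearMap.pi fun i => b0 J (s i))
  have h5 := Submodule.finrank_le (LinearMap.range (LinearMap.pi fun i => b0 J (s i)))
  rw [finrank_fintype_fun_eq_card] at h4
  rw [finrank_fin_fun] at h5
  show _ ≤ finrank F₀ (LinearMap.ker (LinearMap.pi fun i => b0 J (s i))) + k
  omega

theorem Ctx.span_perp [Finite F] (C : Ctx σ F₀ J) {k : ℕ} (hk : k ≤ 1) (s : Fin k → ι → F₀) :
    perp J s ≤ Submodule.span F₀ {w | w ∈ perp J s ∧ q0 J w = 0} := by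
  refine Sing.singular_span q0_smul C.polar C.nondeg _ ?_
  have h1 := C.finrank_perp_ge s
  have := C.card
  rw [finrank_fintype_fun_eq_card]
  omega

/-- A vector perpendicular to a family, pairing to one with a vector outside its span. -/
theorem Ctx.exists_dual (C : Ctx σ F₀ J) {k : ℕ} (s : Fin k → ι → F₀)
    {x : ι → F₀} (hx : x ∉ Submodule.span F₀ (Set.range s)) :
    ∃ v, (∀ i, g0 J v (s i) = 0) ∧ g0 J x v = 1 := by
  obtain ⟨φ, hφx, hφ⟩ := Submodule.exists_dual_map_eq_bot_of_notMem hx inferInstance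
  obtain ⟨v, hv⟩ := C.exists_cov (fun i => (φ x)⁻¹ * φ (Pi.single i 1))
  have hvφ : ∀ w, g0 J w v = (φ x)⁻¹ * φ w := fun w => by
    rw [g0, hv]
    conv_rhs => rw [pi_eq_sum_univ' w]
    simp [dotProduct, Finset.mul_sum, mul_left_comm]
  refine ⟨v, fun i => ?_, by rw [hvφ, inv_mul_cancel₀ hφx]⟩
  rw [C.g0_symm, hvφ]
  have : φ (s i) ∈ (Submodule.span F₀ (Set.range s)).map φ :=
    ⟨s i, Submodule.subset_span ⟨i, rfl⟩, rfl⟩
  rw [hφ, Submodule.mem_bot] at this
  rw [this, mul_zero]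

theorem g0_add_right (x y z : ι → F₀) : g0 J x (y + z) = g0 J x y + g0 J x z := by
  rw [g0, Matrix.mulVec_add, dotProduct_add]; rfl
theorem g0_smul_right (c : F₀) (x z : ι → F₀) : g0 J x (c • z) = c * g0 J x z := by
  rw [g0, Matrix.mulVec_smul, dotProduct_smul, smul_eq_mul]; rfl

/-- A singular vector perpendicular to a family, pairing to one with a singular vector `x`
perpendicular to it and outside its span. -/
theorem Ctx.exists_sing (C : Ctx σ F₀ J) {k : ℕ} (s : Fin k → ι → F₀) {x : ι → F₀}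
    (hxq : q0 J x = 0) (hxs : ∀ i, g0 J x (s i) = 0) (hx : x ∉ Submodule.span F₀ (Set.range s)) :
    ∃ q, q0 J q = 0 ∧ (∀ i, g0 J q (s i) = 0) ∧ g0 J x q = 1 := by
  obtain ⟨v, hv, hxv⟩ := C.exists_dual s hx
  refine ⟨v + (-(q0 J v / 2)) • x, ?_, fun i => ?_, ?_⟩
  · have := C.two'
    rw [q0, g0_add, g0_add_right, g0_add_right, g0_smul, g0_smul, g0_smul_right, g0_smul_right,
      C.g0_symm v x, hxv, show g0 J x x = 0 from hxq, q0]
    field_simp
    ring
  · rw [g0_add, g0_smul, hv, hxs, mul_zero, add_zero]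
  · rw [g0_add_right, g0_smul_right, hxv, show g0 J x x = 0 from hxq, mul_zero, add_zero]

/-- A singular vector perpendicular to a family and outside a small space. -/
theorem Ctx.exists_fresh_off [Finite F] (C : Ctx σ F₀ J) {k : ℕ} (hk : k ≤ 1) (s : Fin k → ι → F₀)
    (W : Submodule F₀ (ι → F₀)) (hW : finrank F₀ W + k < Fintype.card ι) :
    ∃ q, q0 J q = 0 ∧ (∀ i, g0 J q (s i) = 0) ∧ q ∉ W := by
  have h4 := C.finrank_perp_ge s
  by_contra hne
  push Not at hne
  have h := Submodule.finrank_mono ((C.span_perp hk s).trans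
    (Submodule.span_le.mpr fun w hw => hne w hw.2 (C.mem_perp.mp hw.1)))
  omega

/-- A singular vector perpendicular to a family and outside its span. -/
theorem Ctx.exists_fresh [Finite F] (C : Ctx σ F₀ J) {k : ℕ} (hk : k ≤ 1) (s : Fin k → ι → F₀) :
    ∃ q, q0 J q = 0 ∧ (∀ i, g0 J q (s i) = 0) ∧ q ∉ Submodule.span F₀ (Set.range s) :=
  C.exists_fresh_off hk s _ (by
    have h6 : finrank F₀ (Submodule.span F₀ (Set.range s)) ≤ k :=
      (finrank_range_le_card (R := F₀) s).trans (Fintype.card_fin k).le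
    have := C.card
    omega)

/-- A singular vector perpendicular to two vectors and off their lines. -/
theorem Ctx.exists_off [Finite F] (C : Ctx σ F₀ J) {a b : ι → F₀} (ha : a ≠ 0) (hb : b ≠ 0) :
    ∃ z, q0 J z = 0 ∧ g0 J z a = 0 ∧ g0 J z b = 0 ∧ z ∉ Submodule.span F₀ {a} ∧
      z ∉ Submodule.span F₀ {b} := by
  obtain ⟨φ, hφa, hφb⟩ : ∃ φ : (ι → F₀) →ₗ[F₀] F₀, φ a ≠ 0 ∧ φ b ≠ 0 := by
    obtain ⟨i, hi⟩ := Function.ne_iff.mp ha
    obtain ⟨j, hj⟩ := Function.ne_iff.mp hb
    simp only [Pi.zero_apply] at hi hj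
    by_cases h1 : b i = 0
    · by_cases h2 : a j = 0
      · refine ⟨(LinearMap.proj i : (ι → F₀) →ₗ[F₀] F₀) + LinearMap.proj j, ?_, ?_⟩
        · show a i + a j ≠ 0
          rw [h2, add_zero]; exact hi
        · show b i + b j ≠ 0
          rw [h1, zero_add]; exact hj
      · exact ⟨LinearMap.proj j, h2, hj⟩
    · exact ⟨LinearMap.proj i, hi, h1⟩
  have h1 := C.finrank_perp_ge ![a, b]
  have h2 := LinearMap.finrank_range_add_finrank_ker (φ.comp (perp J ![a, b]).subtype)
  have h3 := Submodule.finrank_le (LinearMap.range (φ.comp (perp J ![a, b]).subtype))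
  rw [Module.finrank_self] at h3
  obtain ⟨z, ⟨w, hw, rfl⟩, hz0, hzq⟩ := Sing.exists_singular q0_smul C.polar
    ((LinearMap.ker (φ.comp (perp J ![a, b]).subtype)).map (perp J ![a, b]).subtype) (by
      rw [Submodule.finrank_map_subtype_eq]; have := C.card; omega)
  have hp := C.mem_perp.mp w.2
  have hφw : φ w = 0 := hw
  have key : ∀ c : ι → F₀, φ c ≠ 0 → (w : ι → F₀) ∈ Submodule.span F₀ {c} → (w : ι → F₀) = 0 := by
    intro c hc hm
    obtain ⟨t, ht⟩ := Submodule.mem_span_singleton.mp hm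
    have h4 : t * φ c = 0 := by rw [← smul_eq_mul, ← map_smul φ, ht]; exact hφw
    rw [← ht, (mul_eq_zero.mp h4).resolve_right hc, zero_smul]
  exact ⟨_, hzq, hp 0, hp 1, fun hm => hz0 (key a hφa hm), fun hm => hz0 (key b hφb hm)⟩

/-- Mutually perpendicular subspaces have small dimension. -/
theorem Ctx.perp_bound (C : Ctx σ F₀ J) (U W : Submodule F₀ (ι → F₀))
    (h : ∀ u ∈ U, ∀ w ∈ W, g0 J u w = 0) : finrank F₀ U + finrank F₀ W ≤ Fintype.card ι := by
  let Φ : W →ₗ[F₀] Module.Dual F₀ (ι → F₀) := (b0 J).domRestrict W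
  have hinj : Function.Injective Φ := by
    rw [injective_iff_map_eq_zero]
    intro w hw
    exact Subtype.ext (C.nondeg' _ fun u => LinearMap.congr_fun hw u)
  have hle : LinearMap.range Φ ≤ U.dualAnnihilator := by
    rintro _ ⟨w, rfl⟩
    rw [Submodule.mem_dualAnnihilator]
    intro u hu
    show b0 J w u = 0
    rw [b0_apply, C.g0_symm, h u hu w w.2, mul_zero]
  have h1 := Submodule.finrank_mono hle
  rw [LinearMap.finrank_range_of_inj hinj] at h1
  have h2 := Subspace.finrank_add_finrank_dualAnnihilator_eq U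
  rw [finrank_fintype_fun_eq_card] at h2
  omega

theorem Ctx.perp_of_singular (C : Ctx σ F₀ J) {U : Submodule F₀ (ι → F₀)}
    (h : ∀ u ∈ U, q0 J u = 0) : ∀ u ∈ U, ∀ w ∈ U, g0 J u w = 0 := fun u hu w hw => by
  have e : QuadraticMap.polar (q0 J) u w = 0 := by
    simp [QuadraticMap.polar, h u hu, h w hw, h _ (U.add_mem hu hw)]
  rw [C.polar, b0_apply] at e
  exact (mul_eq_zero.mp e).resolve_left C.two'

/-- Two perpendicular singular vectors have a perpendicular vector of any non-zero norm. -/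
theorem Ctx.exists_value [Finite F] (C : Ctx σ F₀ J) (y w : ι → F₀) {c : F₀} (hc : c ≠ 0) :
    ∃ p, g0 J p y = 0 ∧ g0 J p w = 0 ∧ q0 J p = c := by
  have hU := C.finrank_perp_ge ![y, w]
  have hcard := C.card
  obtain ⟨v, hv, hqv⟩ : ∃ v ∈ perp J ![y, w], q0 J v ≠ 0 := by
    by_contra hne
    push Not at hne
    have := C.perp_bound _ _ (C.perp_of_singular hne)
    omega
  obtain ⟨v', hv', hvv, hqv'⟩ : ∃ v' ∈ perp J ![y, w], g0 J v v' = 0 ∧ q0 J v' ≠ 0 := by
    by_contra hne
    push Not at hne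
    set U' := perp J ![y, w] ⊓ perp J ![v] with hU'
    have hs : ∀ u ∈ U', q0 J u = 0 := fun u hu =>
      hne u hu.1 ((C.g0_symm _ _).trans (C.mem_perp.mp hu.2 0))
    have hvU : v ∉ U' := fun hm => hqv (hs v hm)
    have h1 := C.perp_bound U' (U' ⊔ Submodule.span F₀ {v}) fun u hu z hz => by
      obtain ⟨z₁, hz₁, z₂, hz₂, rfl⟩ := Submodule.mem_sup.mp hz
      obtain ⟨t, rfl⟩ := Submodule.mem_span_singleton.mp hz₂
      rw [g0_add_right, g0_smul_right, C.perp_of_singular hs u hu z₁ hz₁,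
        show g0 J u v = 0 from C.mem_perp.mp hu.2 0]
      simp
    have h2 := Submodule.finrank_lt_finrank_of_lt (show U' < U' ⊔ Submodule.span F₀ {v} from
      left_lt_sup.mpr fun hle => hvU (hle (Submodule.mem_span_singleton_self v)))
    have h3 := Submodule.finrank_sup_add_finrank_inf_eq (perp J ![y, w]) (perp J ![v])
    have h4 := C.finrank_perp_ge ![v]
    have h5 := Submodule.finrank_le (perp J ![y, w] ⊔ perp J ![v])
    rw [finrank_fintype_fun_eq_card] at h5
    rw [← hU'] at h3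
    omega
  letI := Fintype.ofFinite F₀
  have hodd : Fintype.card F₀ % 2 = 1 := FiniteField.odd_card_of_char_ne_two fun h => C.two' (by
    haveI := ringChar.charP F₀
    have := CharP.cast_eq_zero F₀ (ringChar F₀)
    rw [h] at this
    exact_mod_cast this)
  obtain ⟨a, b, hab⟩ := FiniteField.exists_root_sum_quadratic
    (f := Polynomial.C (q0 J v) * Polynomial.X ^ 2)
    (g := Polynomial.C (q0 J v') * Polynomial.X ^ 2 + Polynomial.C (-c))
    (Polynomial.degree_C_mul_X_pow 2 hqv)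
    (by
      rw [Polynomial.degree_add_eq_left_of_degree_lt] <;> rw [Polynomial.degree_C_mul_X_pow 2 hqv']
      · rfl
      · exact lt_of_le_of_lt Polynomial.degree_C_le (by norm_num))
    hodd
  simp only [Polynomial.eval_mul, Polynomial.eval_C, Polynomial.eval_pow, Polynomial.eval_X,
    Polynomial.eval_add] at hab
  have hm := C.mem_perp.mp ((perp J ![y, w]).add_mem (Submodule.smul_mem _ a hv)
    (Submodule.smul_mem _ b hv'))
  refine ⟨a • v + b • v', hm 0, hm 1, ?_⟩
  rw [q0] at hab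
  simp only [q0, g0_add, g0_add_right, g0_smul, g0_smul_right, C.g0_symm v' v, hvv] at hab ⊢
  linear_combination hab

/-- The nilpotent part of a root element. -/
def rootX (σ : F →+* F) (F₀ : Subfield F) (J : Matrix ι ι F₀) (p y : ι → F) (l : F) :
    Matrix ι ι F :=
  emat σ F₀ J p y - emat σ F₀ J y p + l • emat σ F₀ J y y

theorem rootX_mulVec (p y v : ι → F) (l : F) : (1 + rootX σ F₀ J p y l) *ᵥ v =
    v + (frm σ F₀ J v y • p - frm σ F₀ J v p • y) + (l * frm σ F₀ J v y) • y := by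
  rw [rootX, Matrix.add_mulVec, Matrix.one_mulVec, Matrix.add_mulVec, Matrix.sub_mulVec,
    Matrix.smul_mulVec, emat_mulVec, emat_mulVec, emat_mulVec, smul_smul, add_assoc]

/-- The root element lies in `L`. -/
def InR (σ : F →+* F) (F₀ : Subfield F) (J : Matrix ι ι F₀) (L : Subgroup (GL ι F))
    (p y : ι → F) (l : F) : Prop :=
  frm σ F₀ J p y = 0 ∧ frm σ F₀ J y y = 0 ∧ ∃ g ∈ L, (g : Matrix ι ι F) = 1 + rootX σ F₀ J p y l

variable {L : Subgroup (GL ι F)}

theorem rootX_mul (C : Ctx σ F₀ J) {p p' y : ι → F} (hy : frm σ F₀ J y y = 0)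
    (h : frm σ F₀ J p y = 0) (h' : frm σ F₀ J p' y = 0) (l l' : F) :
    (1 + rootX σ F₀ J p y l) * (1 + rootX σ F₀ J p' y l') =
      1 + rootX σ F₀ J (p + p') y (l + l' - frm σ F₀ J p' p) := by
  simp only [rootX, add_mul, mul_add, sub_mul, mul_sub, one_mul, mul_one, smul_mul_assoc,
    mul_smul_comm, emat_mul, h', C.frm_perp h, hy, zero_smul, smul_zero, add_zero, zero_add,
    sub_zero, emat_add_left, emat_add_right, add_smul, sub_smul]
  abel

theorem InR.mul (C : Ctx σ F₀ J) {p p' y : ι → F} {l l' : F} (h : InR σ F₀ J L p y l)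
    (h' : InR σ F₀ J L p' y l') :
    InR σ F₀ J L (p + p') y (l + l' - frm σ F₀ J p' p) := by
  obtain ⟨h, hy, g, hg, hge⟩ := h
  obtain ⟨h', -, g', hg', hge'⟩ := h'
  exact ⟨by rw [frm_add_left, h, h', add_zero], hy, g * g', L.mul_mem hg hg',
    by rw [Units.val_mul, hge, hge', rootX_mul C hy h h']⟩

theorem inR_zero {y : ι → F} (hy : frm σ F₀ J y y = 0) : InR σ F₀ J L 0 y 0 :=
  ⟨frm_zero_left _, hy, 1, L.one_mem, by simp [rootX, emat_zero_left, emat_zero_right]⟩

theorem InR.inv' (C : Ctx σ F₀ J) {p y : ι → F} {l : F} (h : InR σ F₀ J L p y l) :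
    InR σ F₀ J L (-p) y (-l - frm σ F₀ J p p) := by
  obtain ⟨h, hy, g, hg, hge⟩ := h
  refine ⟨by rw [frm_neg_left, h, neg_zero], hy, g⁻¹, L.inv_mem hg,
    Units.inv_eq_of_mul_eq_one_right ?_⟩
  rw [hge, rootX_mul C hy h (by rw [frm_neg_left, h, neg_zero]), add_neg_cancel, frm_neg_left,
    show l + (-l - frm σ F₀ J p p) - -frm σ F₀ J p p = 0 by ring]
  simp [rootX, emat_zero_left, emat_zero_right]

theorem InR.conj (hLG : L ≤ spIso σ F₀ J) {g : GL ι F} (hg : g ∈ L) {p y : ι → F} {l : F}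
    (h : InR σ F₀ J L p y l) :
    InR σ F₀ J L ((g : Matrix ι ι F) *ᵥ p) ((g : Matrix ι ι F) *ᵥ y) l := by
  obtain ⟨h, hy, x, hx, hxe⟩ := h
  have hf := (mem_spIso.mp (hLG hg)).1
  refine ⟨by rw [hf, h], by rw [hf, hy], g * x * g⁻¹, L.mul_mem (L.mul_mem hg hx) (L.inv_mem hg), ?_⟩
  rw [Units.val_mul, Units.val_mul, hxe, rootX, rootX, emat, emat, emat, emat, emat, emat]
  simp only [cov_conj (hLG hg), mul_add, mul_sub, add_mul, sub_mul, mul_one, mul_smul_comm,
    smul_mul_assoc, Matrix.mul_vecMulVec, Matrix.vecMulVec_mul]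
  rw [← Units.val_mul, mul_inv_cancel, Units.val_one]

theorem InR.conj' (hLG : L ≤ spIso σ F₀ J) {p y u v : ι → F} {l m : F}
    (hg : InR σ F₀ J L p y l) (h : InR σ F₀ J L u v m) :
    InR σ F₀ J L (u + (frm σ F₀ J u y • p - frm σ F₀ J u p • y) + (l * frm σ F₀ J u y) • y)
      (v + (frm σ F₀ J v y • p - frm σ F₀ J v p • y) + (l * frm σ F₀ J v y) • y) m := by
  obtain ⟨-, -, g, hg, hge⟩ := hg
  have := InR.conj hLG hg h
  rwa [hge, rootX_mulVec, rootX_mulVec] at this

theorem InR.flip (C : Ctx σ F₀ J) {x y : ι → F} {s : F} (hx : frm σ F₀ J x x = 0)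
    (h : InR σ F₀ J L (s • x) y 0) : InR σ F₀ J L (-σ s • y) x 0 := by
  obtain ⟨h, -, g, hg, hge⟩ := h
  refine ⟨?_, hx, g, hg, ?_⟩
  · rw [frm_smul_left] at h
    rcases mul_eq_zero.mp h with e | e
    · rw [e, map_zero, neg_zero, zero_smul, frm_zero_left]
    · rw [frm_smul_left, C.frm_perp e, mul_zero]
  · rw [hge, rootX, rootX]
    simp only [emat_smul_left, emat_smul_right, zero_smul, add_zero, C.inv, map_neg]
    module

theorem inR_scale (C : Ctx σ F₀ J) {y : ι → F} {δ c : F} (hδ : δ ≠ 0)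
    (h : InR σ F₀ J L 0 y (c * (δ * σ δ))) : InR σ F₀ J L 0 (δ • y) c := by
  obtain ⟨-, hy, g, hg, hge⟩ := h
  refine ⟨frm_zero_left _, by rw [frm_smul_left, frm_smul_right, hy, mul_zero, mul_zero], g, hg, ?_⟩
  rw [hge, rootX, rootX]
  simp [emat_zero_left, emat_zero_right, emat_smul_left, emat_smul_right, smul_smul, mul_assoc,
    mul_comm δ]

section Rational

variable (C : Ctx σ F₀ J) (hN : ratIso σ F₀ J ≤ L) (hLG : L ≤ spIso σ F₀ J)

include C in
theorem iso_rv {x : ι → F₀} (h : q0 J x = 0) : frm σ F₀ J (rv F₀ x) (rv F₀ x) = 0 := by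
  rw [C.frm_rv, show g0 J x x = 0 from h]; rfl

include C in
theorem perp_rv {x y : ι → F₀} (h : g0 J x y = 0) : frm σ F₀ J (rv F₀ x) (rv F₀ y) = 0 := by
  rw [C.frm_rv, h]; rfl

include C in
theorem short_isometry {x y : ι → F} (hx : frm σ F₀ J x x = 0) (hy : frm σ F₀ J y y = 0)
    (h : frm σ F₀ J x y = 0) :
    ∃ g : GL ι F, g ∈ spIso σ F₀ J ∧ (g : Matrix ι ι F) = 1 + rootX σ F₀ J x y 0 := by
  have h' := C.frm_perp h
  let U : Matrix ι (Fin 2) F := Matrix.of fun i j => ![x i, y i] j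
  let V : Matrix (Fin 2) ι F := Matrix.of ![cov σ F₀ J y, -cov σ F₀ J x]
  have e : 1 + rootX σ F₀ J x y 0 = 1 + U * V := by
    ext i j
    simp [rootX, emat, U, V, Matrix.vecMulVec_apply, Matrix.mul_apply, Fin.sum_univ_two]
    ring
  have e0 : V * U = 0 := by
    ext i j
    have hrow : ∀ v w : ι → F, ∑ i, cov σ F₀ J v i * w i = frm σ F₀ J w v := fun v w => by
      rw [frm, dotProduct_comm]; rfl
    fin_cases i <;> fin_cases j <;>
      simp [U, V, Matrix.mul_apply, hrow, h, h', hx, hy, Finset.sum_neg_distrib]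
  have hdet : (1 + rootX σ F₀ J x y 0).det = 1 := by
    rw [e, Matrix.det_one_add_mul_comm, e0, add_zero, Matrix.det_one]
  refine ⟨Matrix.GeneralLinearGroup.mkOfDetNeZero _ (by rw [hdet]; exact one_ne_zero),
    mem_spIso.mpr ⟨fun u v => ?_, hdet⟩, rfl⟩
  show frm σ F₀ J ((1 + rootX σ F₀ J x y 0) *ᵥ u) ((1 + rootX σ F₀ J x y 0) *ᵥ v) = _
  simp only [rootX_mulVec, zero_mul, zero_smul, add_zero, frm_add_left, frm_add_right, frm_sub_left,
    frm_sub_right, frm_smul_left, frm_smul_right, hx, hy, h, h', C.herm v x, C.herm v y]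
  ring

include C hN in
theorem rat {x y : ι → F₀} (hx : q0 J x = 0) (hy : q0 J y = 0) (h : g0 J x y = 0) :
    InR σ F₀ J L (rv F₀ x) (rv F₀ y) 0 := by
  obtain ⟨g, hg, hge⟩ := short_isometry C (iso_rv C hx) (iso_rv C hy) (perp_rv C h)
  refine ⟨perp_rv C h, iso_rv C hy, g, hN (Subgroup.mem_inf.mpr
    ⟨(mem_subfieldSubgroup_one F₀ _).mpr ⟨1, one_ne_zero, fun i j => ?_⟩, hg⟩), hge⟩
  have hE : ∀ a b : ι → F₀, emat σ F₀ J (rv F₀ a) (rv F₀ b) i j ∈ F₀ := fun a b => by
    rw [emat, Matrix.vecMulVec_apply, C.cov_rv]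
    exact F₀.mul_mem (a i).2 ((J *ᵥ b) j).2
  rw [one_mul, hge, rootX, zero_smul, add_zero, Matrix.add_apply, Matrix.one_apply]
  refine F₀.add_mem ?_ (F₀.sub_mem (hE _ _) (hE _ _))
  split_ifs
  · exact F₀.one_mem
  · exact F₀.zero_mem

include C hN in
/-- The rational root elements with rational centre. -/
theorem rat_gen {x y : ι → F₀} (hy : q0 J y = 0) (h : g0 J x y = 0) :
    InR σ F₀ J L (rv F₀ x) (rv F₀ y) ((-(q0 J x / 2) : F₀) : F) := by
  set l : F := ((-(q0 J x / 2) : F₀) : F) with hl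
  have hxy := perp_rv C h
  have hyx := C.frm_perp hxy
  have hyy := iso_rv C hy
  have hxx : frm σ F₀ J (rv F₀ x) (rv F₀ x) = (q0 J x : F) := C.frm_rv x x
  have hσl : σ l = l := C.fix _ (SetLike.coe_mem _)
  have hl2 : l + σ l = -(q0 J x : F) := by
    rw [hσl, hl]
    have := C.two
    have h2' : ((2 : F₀) : F) = 2 := map_ofNat F₀.subtype 2
    push_cast
    rw [h2']
    field_simp
    ring
  let U : Matrix ι (Fin 2) F := Matrix.of fun i j => ![rv F₀ x i, rv F₀ y i] j
  let V : Matrix (Fin 2) ι F := Matrix.of ![cov σ F₀ J (rv F₀ y),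
    -cov σ F₀ J (rv F₀ x) + l • cov σ F₀ J (rv F₀ y)]
  have e : 1 + rootX σ F₀ J (rv F₀ x) (rv F₀ y) l = 1 + U * V := by
    ext i j
    simp [rootX, emat, U, V, Matrix.vecMulVec_apply, Matrix.mul_apply, Fin.sum_univ_two]
    ring
  have hrow : ∀ v w : ι → F, ∑ i, cov σ F₀ J v i * w i = frm σ F₀ J w v := fun v w => by
    rw [frm, dotProduct_comm]; rfl
  have e00 : (V * U) 0 0 = 0 := (hrow _ _).trans hxy
  have e01 : (V * U) 0 1 = 0 := (hrow _ _).trans hyy
  have e11 : (V * U) 1 1 = 0 := by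
    simp [U, V, Matrix.mul_apply, add_mul, mul_assoc, Finset.sum_add_distrib, ← Finset.mul_sum, hrow,
      hyx, hyy]
  have hdet : (1 + rootX σ F₀ J (rv F₀ x) (rv F₀ y) l).det = 1 := by
    rw [e, Matrix.det_one_add_mul_comm, Matrix.det_fin_two]
    simp [e00, e01, e11]
  let g : GL ι F := Matrix.GeneralLinearGroup.mkOfDetNeZero _ (by rw [hdet]; exact one_ne_zero)
  have hge : (g : Matrix ι ι F) = 1 + rootX σ F₀ J (rv F₀ x) (rv F₀ y) l := rfl
  refine ⟨hxy, hyy, g, hN (Subgroup.mem_inf.mpr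
    ⟨(mem_subfieldSubgroup_one F₀ _).mpr ⟨1, one_ne_zero, fun i j => ?_⟩,
      mem_spIso.mpr ⟨fun u v => ?_, hdet⟩⟩), hge⟩
  · have hE : ∀ a b : ι → F₀, emat σ F₀ J (rv F₀ a) (rv F₀ b) i j ∈ F₀ := fun a b => by
      rw [emat, Matrix.vecMulVec_apply, C.cov_rv]
      exact F₀.mul_mem (a i).2 ((J *ᵥ b) j).2
    rw [one_mul, hge, rootX, Matrix.add_apply, Matrix.one_apply]
    refine F₀.add_mem ?_ (F₀.add_mem (F₀.sub_mem (hE _ _) (hE _ _))
      (F₀.mul_mem (SetLike.coe_mem _) (hE _ _)))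
    split_ifs
    · exact F₀.one_mem
    · exact F₀.zero_mem
  · rw [hge]
    simp only [rootX_mulVec, frm_add_left, frm_add_right, frm_sub_left, frm_sub_right, frm_smul_left,
      frm_smul_right, map_mul, hxy, hyx, hyy, hxx, C.herm v (rv F₀ x), C.herm v (rv F₀ y), C.inv]
    linear_combination (frm σ F₀ J u (rv F₀ y) * σ (frm σ F₀ J v (rv F₀ y))) * hl2

/-- Short root elements of coefficient `s` with rational centres. -/
def Good (σ : F →+* F) (F₀ : Subfield F) (J : Matrix ι ι F₀) (L : Subgroup (GL ι F)) (s : F) :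
    Prop :=
  ∀ x y : ι → F₀, q0 J x = 0 → q0 J y = 0 → g0 J x y = 0 → InR σ F₀ J L (s • rv F₀ x) (rv F₀ y) 0

/-- An irrational root element. -/
def CaseA (σ : F →+* F) (F₀ : Subfield F) (J : Matrix ι ι F₀) (L : Subgroup (GL ι F)) : Prop :=
  ∃ x y : ι → F₀, q0 J x = 0 ∧ q0 J y = 0 ∧ g0 J x y = 0 ∧ y ≠ 0 ∧
    x ∉ Submodule.span F₀ {y} ∧ ∃ s : F, s ∉ F₀ ∧ InR σ F₀ J L (s • rv F₀ x) (rv F₀ y) 0

theorem not_mem_pair {a b c : ι → F₀} {W : Submodule F₀ (ι → F₀)} (hb : b ∈ W) (hc : c ∈ W)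
    (ha : a ∉ W) (hbc : c ∉ Submodule.span F₀ {b}) :
    c ∉ Submodule.span F₀ (Set.range ![a, b]) := by
  intro h
  rw [Matrix.range_cons, Matrix.range_cons, Matrix.range_empty, Set.union_empty,
    Set.singleton_union, Submodule.mem_span_pair] at h
  obtain ⟨s, t, e⟩ := h
  rcases eq_or_ne s 0 with rfl | hs
  · rw [zero_smul, zero_add] at e
    exact hbc (Submodule.mem_span_singleton.mpr ⟨t, e⟩)
  · refine ha ?_
    have h2 := W.smul_mem s⁻¹ (W.sub_mem hc (W.smul_mem t hb))
    rwa [← e, add_sub_cancel_right, smul_smul, inv_mul_cancel₀ hs, one_smul] at h2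

theorem not_mem_singleton {a b : ι → F₀} (ha : a ≠ 0) (h : b ∉ Submodule.span F₀ {a}) :
    a ∉ Submodule.span F₀ {b} := by
  intro h'
  obtain ⟨t, e⟩ := Submodule.mem_span_singleton.mp h'
  have ht : t ≠ 0 := fun e' => ha (by rw [← e, e', zero_smul])
  exact h (Submodule.mem_span_singleton.mpr
    ⟨t⁻¹, by rw [← e, smul_smul, inv_mul_cancel₀ ht, one_smul]⟩)

theorem mem_range {k : ℕ} (s : Fin k → ι → F₀) (i : Fin k) :
    s i ∈ Submodule.span F₀ (Set.range s) := Submodule.subset_span ⟨i, rfl⟩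

theorem not_mem_single {k : ℕ} {s : Fin k → ι → F₀} {z : ι → F₀}
    (h : z ∉ Submodule.span F₀ (Set.range s)) (i : Fin k) : z ∉ Submodule.span F₀ {s i} :=
  fun h' => h (Submodule.span_mono (Set.singleton_subset_iff.mpr (Set.mem_range_self i)) h')

/-- The root element with centre `y` and direction `s • p`, with real coefficient. -/
def Dir (σ : F →+* F) (F₀ : Subfield F) (J : Matrix ι ι F₀) (L : Subgroup (GL ι F)) (s : F)
    (y p : ι → F₀) : Prop :=
  InR σ F₀ J L (s • rv F₀ p) (rv F₀ y) (-(s * σ s * (q0 J p : F)) / 2)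

include C in
theorem Dir.add {s : F} {y p p' : ι → F₀} (h : Dir σ F₀ J L s y p) (h' : Dir σ F₀ J L s y p') :
    Dir σ F₀ J L s y (p + p') := by
  have := InR.mul C h h'
  rw [← smul_add, ← rv_add] at this
  unfold Dir
  convert this using 1
  simp only [frm_smul_left, frm_smul_right, C.frm_rv, q0, g0_add, g0_add_right, C.g0_symm p p']
  push_cast
  have := C.two
  field_simp
  ring

include C in
theorem Dir.neg {s : F} {y p : ι → F₀} (h : Dir σ F₀ J L s y p) : Dir σ F₀ J L s y (-p) := by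
  have := InR.inv' C h
  rw [← smul_neg, ← rv_neg] at this
  unfold Dir
  have hq : q0 J (-p) = q0 J p := by rw [← neg_one_smul F₀ p, q0_smul]; ring
  convert this using 1
  rw [frm_smul_left, frm_smul_right, C.frm_rv, hq, show g0 J p p = q0 J p from rfl]
  have := C.two
  field_simp
  ring

include C hN hLG in
/-- Pushing a direction to a singular vector which is not perpendicular to it. -/
theorem eichler [Finite F] {s : F} {y x w : ι → F₀} (hy : q0 J y = 0) (hxy : g0 J x y = 0)
    (h : Dir σ F₀ J L s y x) (hw : q0 J w = 0) (hwy : g0 J w y = 0) (hxw : g0 J x w ≠ 0) :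
    Dir σ F₀ J L s y w := by
  have himg : ∀ p, g0 J p y = 0 → g0 J p w = 0 → Dir σ F₀ J L s y
      (x + (g0 J x w • p - g0 J x p • w) + (-(q0 J p / 2) * g0 J x w) • w) := by
    intro p hpy hpw
    have h1 := InR.conj' hLG (rat_gen C hN hw hpw) h
    have e1 : frm σ F₀ J (rv F₀ y) (rv F₀ w) = 0 := perp_rv C ((C.g0_symm _ _).trans hwy)
    have e2 : frm σ F₀ J (rv F₀ y) (rv F₀ p) = 0 := perp_rv C ((C.g0_symm _ _).trans hpy)
    simp only [e1, e2, zero_smul, sub_zero, add_zero, mul_zero, frm_smul_left, C.frm_rv] at h1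
    have hq : q0 J (x + (g0 J x w • p - g0 J x p • w) + (-(q0 J p / 2) * g0 J x w) • w) = q0 J x := by
      simp only [q0, sub_eq_add_neg, ← neg_smul, g0_add, g0_add_right, g0_smul, g0_smul_right,
        C.g0_symm p x, C.g0_symm w x, C.g0_symm w p, hpw, show g0 J w w = 0 from hw]
      have := C.two'
      field_simp
      ring
    unfold Dir
    rw [hq]
    convert h1 using 1
    funext i
    simp [rv]
    ring
  obtain ⟨p, hpy, hpw, hpq⟩ := C.exists_value y w (c := -(g0 J x w)⁻¹)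
    (neg_ne_zero.mpr (inv_ne_zero hxw))
  have hny : g0 J (-p) y = 0 := by rw [← neg_one_smul F₀ p, g0_smul, hpy, mul_zero]
  have hnw : g0 J (-p) w = 0 := by rw [← neg_one_smul F₀ p, g0_smul, hpw, mul_zero]
  have h2 := ((Dir.add C (himg p hpy hpw) (himg (-p) hny hnw)).add C (h.neg C)).add C (h.neg C)
  convert h2 using 1
  have hqn : q0 J (-p) = -(g0 J x w)⁻¹ := by
    rw [← neg_one_smul F₀ p, q0_smul, hpq]; ring
  rw [hpq, hqn, show g0 J x (-p) = -g0 J x p by rw [← neg_one_smul F₀ p, g0_smul_right]; ring]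
  have := C.two'
  match_scalars <;> field_simp <;> ring

include C hN hLG in
theorem spread [Finite F] {x y w : ι → F₀} {s : F} (h : InR σ F₀ J L (s • rv F₀ x) (rv F₀ y) 0)
    (hy : q0 J y = 0) (hx : q0 J x = 0) (hxy : g0 J x y = 0) (hy0 : x ∉ Submodule.span F₀ {y})
    (hw : q0 J w = 0) (hwy : g0 J w y = 0) : InR σ F₀ J L (s • rv F₀ w) (rv F₀ y) 0 := by
  have hD : Dir σ F₀ J L s y x := by
    unfold Dir
    rw [hx, ZeroMemClass.coe_zero, mul_zero, neg_zero, zero_div]; exact h
  have back : ∀ w, q0 J w = 0 → Dir σ F₀ J L s y w → InR σ F₀ J L (s • rv F₀ w) (rv F₀ y) 0 := by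
    intro w hw hd
    unfold Dir at hd
    rwa [hw, ZeroMemClass.coe_zero, mul_zero, neg_zero, zero_div] at hd
  -- vectors off the line of `y`
  have off : ∀ w, q0 J w = 0 → g0 J w y = 0 → w ∉ Submodule.span F₀ {y} → Dir σ F₀ J L s y w := by
    intro w hw hwy hw0
    by_cases hxw : g0 J x w = 0
    swap
    · exact eichler C hN hLG hy hxy hD hw hwy hxw
    obtain ⟨v, hv1, hv2, hv3⟩ : ∃ v, g0 J v y = 0 ∧ g0 J x v ≠ 0 ∧ g0 J w v ≠ 0 := by
      by_cases hm : w ∈ Submodule.span F₀ (Set.range ![x, y])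
      · rw [Matrix.range_cons, Matrix.range_cons, Matrix.range_empty, Set.union_empty,
          Set.singleton_union, Submodule.mem_span_pair] at hm
        obtain ⟨a, b, e⟩ := hm
        obtain ⟨v, hv, hxv⟩ := C.exists_dual ![y] (x := x) (by
          rw [Matrix.range_cons, Matrix.range_empty, Set.union_empty]; exact hy0)
        refine ⟨v, hv 0, by rw [hxv]; exact one_ne_zero, ?_⟩
        rw [← e, g0_add, g0_smul, g0_smul, hxv, mul_one, C.g0_symm y v, show g0 J v y = 0 from hv 0,
          mul_zero, add_zero]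
        intro ha
        exact hw0 (Submodule.mem_span_singleton.mpr ⟨b, by rw [← e, ha, zero_smul, zero_add]⟩)
      · obtain ⟨v₁, hv₁, hwv⟩ := C.exists_dual ![x, y] hm
        obtain ⟨v₂, hv₂, hxv⟩ := C.exists_dual ![y] (x := x) (by
          rw [Matrix.range_cons, Matrix.range_empty, Set.union_empty]; exact hy0)
        by_cases h2 : g0 J w v₂ = 0
        · refine ⟨v₁ + v₂, by rw [g0_add, show g0 J v₁ y = 0 from hv₁ 1, show g0 J v₂ y = 0 from hv₂ 0,
            add_zero], ?_, ?_⟩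
          · rw [g0_add_right, C.g0_symm x v₁, show g0 J v₁ x = 0 from hv₁ 0, hxv, zero_add]
            exact one_ne_zero
          · rw [g0_add_right, hwv, h2, add_zero]; exact one_ne_zero
        · exact ⟨v₂, hv₂ 0, by rw [hxv]; exact one_ne_zero, h2⟩
    -- make it singular along `x`
    set z := v + (-(q0 J v / (2 * g0 J x v))) • x with hz
    have hzq : q0 J z = 0 := by
      have := C.two'
      rw [hz, q0, g0_add, g0_add_right, g0_add_right, g0_smul, g0_smul, g0_smul_right, g0_smul_right,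
        C.g0_symm v x, show g0 J x x = 0 from hx, q0]
      field_simp
      ring
    have hzy : g0 J z y = 0 := by rw [hz, g0_add, g0_smul, hv1, hxy, mul_zero, add_zero]
    have hxz : g0 J x z ≠ 0 := by
      rw [hz, g0_add_right, g0_smul_right, show g0 J x x = 0 from hx, mul_zero, add_zero]; exact hv2
    have hzw : g0 J z w ≠ 0 := by
      rw [hz, g0_add, g0_smul, hxw, mul_zero, add_zero, C.g0_symm v w]; exact hv3
    exact eichler C hN hLG hy hzy (eichler C hN hLG hy hxy hD hzq hzy hxz) hw hwy hzw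
  refine back w hw ?_
  by_cases hw0 : w ∈ Submodule.span F₀ {y}
  swap
  · exact off w hw hwy hw0
  obtain ⟨c, rfl⟩ := Submodule.mem_span_singleton.mp hw0
  have hxc : x + c • y ∉ Submodule.span F₀ {y} := fun hm => hy0 (by
    simpa using (Submodule.span F₀ {y}).sub_mem hm
      (Submodule.smul_mem _ c (Submodule.mem_span_singleton_self y)))
  have h1 := (off (x + c • y) (by
      rw [q0, g0_add, g0_add_right, g0_add_right, g0_smul, g0_smul, g0_smul_right, g0_smul_right,
        C.g0_symm y x, hxy, show g0 J x x = 0 from hx, show g0 J y y = 0 from hy]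
      ring)
    (by rw [g0_add, g0_smul, hxy, show g0 J y y = 0 from hy, mul_zero, add_zero]) hxc).add C (hD.neg C)
  rwa [add_neg_cancel_comm] at h1

include C hN hLG in
theorem good_of_short [Finite F] {x y : ι → F₀} (hx : q0 J x = 0) (hy : q0 J y = 0)
    (hxy : g0 J x y = 0) (hy0 : y ≠ 0) (hxy' : x ∉ Submodule.span F₀ {y}) {s : F}
    (h : InR σ F₀ J L (s • rv F₀ x) (rv F₀ y) 0) : Good σ F₀ J L s := by
  intro p q hp hq hpq
  by_cases hq0 : q = 0
  · rw [hq0, rv_zero]
    exact ⟨frm_zero_right _, frm_zero_left _, 1, L.one_mem,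
      by simp [rootX, emat_zero_left, emat_zero_right]⟩
  obtain ⟨z, hz, hz'y, hz'q, hzy, hzq⟩ := C.exists_off hy0 hq0
  have h1 := (spread C hN hLG h hy hx hxy hxy' hz hz'y).flip C (iso_rv C hz)
  have h2 := (spread C hN hLG h1 hz hy ((C.g0_symm _ _).trans hz'y) (not_mem_singleton hy0 hzy) hq
    ((C.g0_symm _ _).trans hz'q)).flip C (iso_rv C hq)
  rw [map_neg, neg_neg, C.inv] at h2
  exact spread C hN hLG h2 hq hz hz'q hzq hp hpq

include C hN hLG in
theorem good_all [Finite F] (hC : CaseA σ F₀ J L) (s : F) : Good σ F₀ J L s := by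
  obtain ⟨x, y, hx, hy, hxy, hy0, hxy', c, hc, h⟩ := hC
  have hg := good_of_short C hN hLG hx hy hxy hy0 hxy' h
  have hcc : c - σ c ≠ 0 := fun e => hc (C.mem_of c (sub_eq_zero.mp e).symm)
  set b := (s - σ s) / (c - σ c) with hb
  have hbm : b ∈ F₀ := C.mem_of _ (by
    rw [hb, map_div₀, map_sub, map_sub, C.inv, C.inv, ← neg_sub s, ← neg_sub c, neg_div_neg_eq])
  have ham : s - b * c ∈ F₀ := C.mem_of _ (by
    rw [map_sub, map_mul, C.fix b hbm]
    have : b * (c - σ c) = s - σ s := div_mul_cancel₀ _ hcc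
    linear_combination this)
  intro p q hp hq hpq
  have h1 := rat C hN (x := (⟨_, ham⟩ : F₀) • p) (by rw [q0_smul, hp, mul_zero]) hq
    (by rw [g0_smul, hpq, mul_zero])
  have h2 := hg ((⟨b, hbm⟩ : F₀) • p) q (by rw [q0_smul, hp, mul_zero]) hq
    (by rw [g0_smul, hpq, mul_zero])
  have h3 := h1.mul C h2
  rw [rv_smul, rv_smul, smul_smul, ← add_smul] at h3
  convert h3 using 2
  · ring
  · simp only [frm_smul_left, frm_smul_right, iso_rv C hp]
    ring

include C hN hLG in
/-- Long root elements with rational centre. -/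
theorem long_all [Finite F] (hall : ∀ s, Good σ F₀ J L s) {y : ι → F₀} (hy : q0 J y = 0)
    {c : F} (hc : σ c = -c) : InR σ F₀ J L 0 (rv F₀ y) c := by
  obtain ⟨x, hx, hx', hxW⟩ := C.exists_fresh (by omega) ![y]
  obtain ⟨x', hx₀, hx₁, hxx⟩ := C.exists_sing ![y] hx (fun i => by fin_cases i; exact hx' 0) hxW
  obtain ⟨t, ht⟩ := Herm.exists_trace_eq C.ne C.inv (a := 1) (map_one σ)
  have hA := hall (c * t) x y hx hy (hx' 0)
  have hB := rat C hN hx₀ hy (hx₁ 0)
  have h := ((hA.mul C hB).mul C (hA.inv' C)).mul C (hB.inv' C)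
  simp only [frm_add_right, frm_neg_left, frm_neg_right, frm_smul_left, frm_smul_right,
    iso_rv C hx, iso_rv C hx₀, C.frm_rv x x', C.frm_rv x' x, hxx, C.g0_symm x' x,
    OneMemClass.coe_one, map_mul, hc] at h
  rw [show (c * t) • rv F₀ x + rv F₀ x' + -((c * t) • rv F₀ x) + -rv F₀ x' = 0 by abel] at h
  convert h using 1
  linear_combination -c * ht

include C hN hLG in
/-- Every root element with rational centre. -/
theorem root_all [Finite F] (hall : ∀ s, Good σ F₀ J L s) {y : ι → F₀} (hy : q0 J y = 0)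
    (hy0 : y ≠ 0) {p : ι → F} (hp : frm σ F₀ J p (rv F₀ y) = 0) {l : F}
    (hl : l + σ l = -frm σ F₀ J p p) : InR σ F₀ J L p (rv F₀ y) l := by
  let K : AddSubgroup (ι → F) :=
    { carrier := {p | ∃ l, l + σ l = -frm σ F₀ J p p ∧ InR σ F₀ J L p (rv F₀ y) l}
      add_mem' := fun {u v} ⟨a, ha', ha⟩ ⟨b, hb', hb⟩ => ⟨_, by
        simp only [frm_add_left, frm_add_right, map_sub, map_add, C.herm v u, C.inv]
        linear_combination ha' + hb', ha.mul C hb⟩
      zero_mem' := ⟨0, by rw [map_zero, frm_zero_left]; ring, inR_zero (iso_rv C hy)⟩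
      neg_mem' := fun {u} ⟨a, ha', ha⟩ => ⟨_, by
        rw [frm_neg_left, frm_neg_right, neg_neg, map_sub, map_neg]
        linear_combination -ha' + C.herm u u, ha.inv' C⟩ }
  have hrat : ∀ (z : ι → F₀), g0 J z y = 0 → ∀ t : F, t • rv F₀ z ∈ K := by
    intro z hz t
    let K' : Submodule F₀ (ι → F₀) :=
      { carrier := {z | ∀ t : F, t • rv F₀ z ∈ K}
        add_mem' := fun {a b} ha hb t => by rw [rv_add, smul_add]; exact K.add_mem (ha t) (hb t)
        zero_mem' := fun t => by rw [rv_zero, smul_zero]; exact K.zero_mem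
        smul_mem' := fun c a ha t => by rw [rv_smul, smul_smul]; exact ha _ }
    refine (Submodule.span_le (p := K')).mpr ?_
      (C.span_perp (k := 1) (by omega) ![y] (C.mem_perp.mpr fun i => by fin_cases i; exact hz)) t
    rintro w ⟨hw, hqw⟩ t
    exact ⟨0, by rw [map_zero, frm_smul_left, frm_smul_right, iso_rv C hqw]; ring,
      hall t w y hqw hy (C.mem_perp.mp hw 0)⟩
  obtain ⟨m, -, -, hm⟩ := C.exists_sing (k := 0) ![] hy (fun i => i.elim0) (by simpa using hy0)
  let φ : ι → F₀ := J *ᵥ y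
  let z : ι → ι → F₀ := fun i => Pi.single i 1 - φ i • m
  have hz : ∀ i, g0 J (z i) y = 0 := fun i => by
    simp only [z, g0, sub_dotProduct, smul_dotProduct, single_dotProduct, one_mul, smul_eq_mul]
    rw [← g0, C.g0_symm, hm, mul_one, sub_self]
  have hsum : p = ∑ i, p i • rv F₀ (z i) := by
    have h0 : ∑ i, p i * (φ i : F) = 0 := by
      rw [← hp, frm, C.cov_rv]; rfl
    simp only [z, rv_sub, rv_smul, rv_single, smul_sub, Finset.sum_sub_distrib, smul_smul,
      ← Finset.sum_smul, h0, zero_smul, sub_zero]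
    exact pi_eq_sum_univ' p
  obtain ⟨l₀, h₀', h₀⟩ : p ∈ K := by rw [hsum]; exact K.sum_mem fun i _ => hrat _ (hz i) _
  have h := h₀.mul C (long_all C hN hLG hall hy (c := l - l₀) (by
    rw [map_sub]; linear_combination hl - h₀'))
  rwa [add_zero, frm_zero_left, sub_zero, add_sub_cancel] at h

include C hN hLG in
/-- Long root elements with any centre. -/
theorem long_any [Finite F] (hall : ∀ s, Good σ F₀ J L s) {u : ι → F}
    (hu : frm σ F₀ J u u = 0) {c : F} (hc : σ c = -c) : InR σ F₀ J L 0 u c := by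
  rcases eq_or_ne u 0 with rfl | hu0
  · exact ⟨frm_zero_left _, hu, 1, L.one_mem, by simp [rootX, emat_zero_left]⟩
  obtain ⟨y, hy, hy0, hδ⟩ : ∃ y : ι → F₀, q0 J y = 0 ∧ y ≠ 0 ∧
      frm σ F₀ J u (rv F₀ y) ≠ 0 := by
    by_contra hne
    push Not at hne
    let K' : Submodule F₀ (ι → F₀) :=
      { carrier := {z | frm σ F₀ J u (rv F₀ z) = 0}
        add_mem' := fun {a b} ha hb => by
          simp only [Set.mem_ofPred_eq] at ha hb ⊢
          rw [rv_add, frm_add_right, ha, hb, add_zero]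
        zero_mem' := frm_zero_right _
        smul_mem' := fun c a ha => by
          simp only [Set.mem_ofPred_eq] at ha ⊢
          rw [rv_smul, frm_smul_right, ha, mul_zero] }
    have hall0 : ∀ z : ι → F₀, z ∈ K' := fun z => by
      refine (Submodule.span_le (p := K')).mpr (fun w hw => ?_)
        (C.span_perp (k := 0) (by omega) ![] (C.mem_perp.mpr fun i => i.elim0))
      by_cases hw0 : w = 0
      · rw [hw0]; exact K'.zero_mem
      · exact hne w hw.2 hw0
    refine hu0 (funext fun i => ?_)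
    obtain ⟨q, hq⟩ := C.exists_cov (Pi.single i 1)
    have : frm σ F₀ J u (rv F₀ q) = 0 := hall0 q
    rwa [frm, C.cov_rv, hq, rv_single, dotProduct_single, mul_one] at this
  obtain ⟨y', hy', -, hyy⟩ := C.exists_sing (k := 0) ![] hy (fun i => i.elim0) (by simpa using hy0)
  set δ := frm σ F₀ J u (rv F₀ y) with hδdef
  set η := frm σ F₀ J u (rv F₀ y') with hηdef
  set p : ι → F := rv F₀ y' - δ⁻¹ • u with hpdef
  have e1 : frm σ F₀ J (rv F₀ y') (rv F₀ y) = 1 := by rw [C.frm_rv, C.g0_symm, hyy]; rfl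
  have e3 : frm σ F₀ J (rv F₀ y') u = σ η := by rw [C.herm u]
  have hpy : frm σ F₀ J p (rv F₀ y) = 0 := by
    rw [frm_sub_left, e1, frm_smul_left, ← hδdef, inv_mul_cancel₀ hδ, sub_self]
  have hup : frm σ F₀ J u p = η := by
    rw [frm_sub_right, frm_smul_right, hu, mul_zero, sub_zero, ← hηdef]
  have hl : η / δ + σ (η / δ) = -frm σ F₀ J p p := by
    simp only [hpdef, frm_sub_left, frm_sub_right, frm_smul_left, frm_smul_right, hu,
      iso_rv C hy', e3, ← hηdef, map_inv₀, map_div₀]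
    ring
  obtain ⟨-, -, g, hg, hge⟩ := root_all C hN hLG hall hy hy0 hpy hl
  have himg : (g : Matrix ι ι F) *ᵥ u = δ • rv F₀ y' := by
    rw [hge, rootX_mulVec, hup, ← hδdef, hpdef, smul_sub, smul_smul, mul_inv_cancel₀ hδ, one_smul,
      div_mul_cancel₀ _ hδ]
    abel
  have h1 := inR_scale C hδ (long_all C hN hLG hall hy' (c := c * (δ * σ δ))
    (by rw [map_mul, map_mul, hc, C.inv]; ring))
  rw [← himg] at h1
  have h2 := InR.conj hLG (L.inv_mem hg) h1
  rwa [Matrix.mulVec_zero, Matrix.mulVec_mulVec, ← Units.val_mul, inv_mul_cancel, Units.val_one,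
    Matrix.one_mulVec] at h2

include C hN hLG in
theorem caseA_full [Finite F] (hC : CaseA σ F₀ J L) : spIso σ F₀ J ≤ L := by
  have hall := good_all C hN hLG hC
  let B : (ι → F) →ₛₗ[σ] (ι → F) →ₗ[F] F :=
    LinearMap.mk₂'ₛₗ σ (RingHom.id F) (fun u v => frm σ F₀ J v u)
      (fun a b v => frm_add_right a b v)
      (fun c a v => frm_smul_right c a v)
      (fun a u v => frm_add_left u v a)
      (fun c a v => frm_smul_left c v a)
  have hB : ∀ u v, B u v = frm σ F₀ J v u := fun u v => rfl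
  have hS : B.IsSymm := ⟨fun u v => (C.herm v u).symm⟩
  have hB' : B.Nondegenerate := by
    have hright : ∀ v, (∀ u, B u v = 0) → v = 0 := fun v hv => funext fun i => by
      obtain ⟨q, hq⟩ := C.exists_cov (Pi.single i 1)
      have h := (hB (rv F₀ q) v).symm.trans (hv _)
      rwa [frm, C.cov_rv, hq, rv_single, dotProduct_single, mul_one] at h
    exact ⟨fun u hu => hright u fun w => hS.isRefl _ _ (hu w), hright⟩
  let φ : GL ι F →* ((ι → F) ≃ₗ[F] (ι → F)) :=
    { toFun := fun g => LinearEquiv.ofLinear (Matrix.toLin' (g : Matrix ι ι F))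
        (Matrix.toLin' ((g⁻¹ : GL ι F) : Matrix ι ι F))
        (by rw [← Matrix.toLin'_mul, ← Units.val_mul, mul_inv_cancel, Units.val_one,
          Matrix.toLin'_one])
        (by rw [← Matrix.toLin'_mul, ← Units.val_mul, inv_mul_cancel, Units.val_one,
          Matrix.toLin'_one])
      map_one' := LinearEquiv.ext fun x => by simp
      map_mul' := fun g g' => LinearEquiv.ext fun x => (Matrix.mulVec_mulVec x _ _).symm }
  have hle : Herm.tvGroup B ≤ L.map φ := by
    rw [Herm.tvGroup, Subgroup.closure_le]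
    rintro _ ⟨w, m, hm, hw, rfl⟩
    have hm' : m + σ m = 0 := by rwa [hw, mul_zero, add_zero] at hm
    obtain ⟨-, -, g, hg, hge⟩ := long_any C hN hLG hall (u := w) hw (c := m)
      (eq_neg_of_add_eq_zero_right hm')
    refine ⟨g, hg, LinearEquiv.ext fun x => ?_⟩
    show (g : Matrix ι ι F) *ᵥ x = _
    rw [hge, rootX_mulVec, Herm.qrefl_apply, hB]
    simp [frm_zero_right]
  intro g hg
  obtain ⟨hgf, hgd⟩ := mem_spIso.mp hg
  have hdim : 4 ≤ Module.finrank F (ι → F) := by
    rw [Module.finrank_fintype_fun_eq_card]; have := C.card; omega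
  have hmem : φ g ∈ Herm.tvGroup B := by
    refine (Herm.mem_tvGroup_iff C.ne C.inv hS hB' (Or.inl hdim) _).mpr ⟨fun u v => hgf v u, ?_⟩
    refine Units.ext ?_
    rw [LinearEquiv.coe_det]
    show LinearMap.det (Matrix.toLin' (g : Matrix ι ι F)) = 1
    rw [LinearMap.det_toLin', hgd]
  obtain ⟨g', hg', he⟩ := hle hmem
  rwa [show g = g' from Units.ext (Matrix.toLin'.injective (LinearMap.ext fun x =>
    (LinearEquiv.congr_fun he x).symm))]

include C hN hLG in
/-- Without irrational root elements a stabiliser of a rational singular point is rational on its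
perpendicular space, up to that point. -/
theorem stab_rat [Finite F] (hC : ¬CaseA σ F₀ J L) {g : GL ι F} (hg : g ∈ L) {z d : ι → F₀}
    (hz : q0 J z = 0) (hz0 : z ≠ 0) (hgz : (g : Matrix ι ι F) *ᵥ rv F₀ z = rv F₀ z)
    (hd : g0 J d z = 0) :
    ∃ (a : ι → F₀) (μ : F), (g : Matrix ι ι F) *ᵥ rv F₀ d = rv F₀ a + μ • rv F₀ z := by
  obtain ⟨c, hc0, hc⟩ := Herm.exists_trace_zero C.ne C.inv
  have hσc : σ c = -c := eq_neg_of_add_eq_zero_right hc
  have h2c : (2 : F) * c ≠ 0 := mul_ne_zero C.two hc0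
  have hcF : c ∉ F₀ := fun hm => h2c (by
    have := C.fix c hm
    rw [hσc] at this
    linear_combination -this)
  have h1 := InR.conj hLG hg (rat_gen C hN hz hd)
  rw [hgz] at h1
  set P := (g : Matrix ι ι F) *ᵥ rv F₀ d with hP
  let b : ι → F₀ := fun i => ⟨(P i - σ (P i)) / (2 * c), C.mem_of _ (by
    rw [map_div₀, map_sub, map_mul, map_ofNat, C.inv, hσc, mul_neg, div_neg, ← neg_div, neg_sub])⟩
  let a : ι → F₀ := fun i => ⟨(P i + σ (P i)) / 2, C.mem_of _ (by
    rw [map_div₀, map_add, map_ofNat, C.inv, add_comm])⟩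
  have hPab : P = rv F₀ a + c • rv F₀ b := by
    funext i
    simp only [Pi.add_apply, Pi.smul_apply, smul_eq_mul, rv, a, b]
    field_simp [C.two]
    ring
  have hperp := h1.1
  rw [hPab, frm_add_left, frm_smul_left, C.frm_rv, C.frm_rv] at hperp
  have hbz : g0 J b z = 0 := by
    have h := congrArg σ hperp
    rw [map_add, map_mul, map_zero, hσc, C.fix _ (g0 J a z).2, C.fix _ (g0 J b z).2] at h
    refine Subtype.ext ((mul_eq_zero.mp ?_).resolve_left h2c)
    linear_combination hperp - h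
  have haz : g0 J a z = 0 := by
    refine Subtype.ext ?_
    rw [hbz, ZeroMemClass.coe_zero, mul_zero, add_zero] at hperp
    exact hperp
  by_cases hb : b ∈ Submodule.span F₀ {z}
  · obtain ⟨t, ht⟩ := Submodule.mem_span_singleton.mp hb
    exact ⟨a, c * t, by rw [hPab, ← ht, rv_smul, smul_smul]⟩
  exfalso
  have h2 := (rat_gen C hN hz haz).inv' C
  have h3 := h2.mul C h1
  rw [hPab, neg_add_cancel_left] at h3
  generalize (-(_ : F) - _) + _ - _ = m at h3
  -- the long root elements at `z`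
  obtain ⟨w, hwz, hbw⟩ := C.exists_dual ![z] (x := b) (by
    rw [Matrix.range_cons, Matrix.range_empty, Set.union_empty]; exact hb)
  have hlong : ∀ e : F, σ e = -e → InR σ F₀ J L 0 (rv F₀ z) e := by
    intro e he
    have hem : e / (2 * c) ∈ F₀ := C.mem_of _ (by
      rw [map_div₀, map_mul, map_ofNat, he, hσc, mul_neg, neg_div_neg_eq])
    have hB := rat_gen C hN hz (x := (⟨_, hem⟩ : F₀) • w)
      (by rw [g0_smul, show g0 J w z = 0 from hwz 0, mul_zero])
    have h := ((h3.mul C hB).mul C (h3.inv' C)).mul C (hB.inv' C)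
    simp only [rv_smul, frm_add_right, frm_neg_left, frm_neg_right, frm_smul_left, frm_smul_right,
      C.frm_rv, hbw, C.g0_symm w b, map_mul, hσc, C.fix _ hem, OneMemClass.coe_one] at h
    rw [show c • rv F₀ b + (e / (2 * c)) • rv F₀ w + -(c • rv F₀ b) + -((e / (2 * c)) • rv F₀ w) = 0 by
      abel] at h
    convert h using 1
    field_simp [C.two]
    ring
  have hσm : m + σ m = -frm σ F₀ J (c • rv F₀ b) (c • rv F₀ b) := by
    obtain ⟨hp, hzz, g', hg', hge⟩ := h3
    obtain ⟨v, -, hv⟩ := C.exists_dual (k := 0) ![] (x := z) (by simpa using hz0)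
    have hvz : frm σ F₀ J (rv F₀ v) (rv F₀ z) = 1 := by rw [C.frm_rv, C.g0_symm, hv]; rfl
    have hzv := C.frm_perp (u := rv F₀ z) (v := c • rv F₀ b)
    have h := (mem_spIso.mp (hLG hg')).1 (rv F₀ v) (rv F₀ v)
    rw [hge, rootX_mulVec] at h
    have hpz := C.frm_perp hp
    simp only [frm_add_left, frm_add_right, frm_sub_left, frm_sub_right, frm_smul_left, frm_smul_right,
      hvz, C.herm (rv F₀ v) (rv F₀ z), hzz, map_one, map_mul, map_zero] at h hp hpz
    simp only [C.herm (rv F₀ v) (rv F₀ b), map_mul, hσc, mul_one, one_mul] at h ⊢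
    have hc1 := C.herm (rv F₀ b) (rv F₀ z)
    rw [frm_smul_left, frm_smul_right]
    have e1 : frm σ F₀ J (rv F₀ b) (rv F₀ z) = 0 := perp_rv C hbz
    rw [e1] at h
    rw [C.frm_perp e1] at h
    simp only [map_zero, mul_zero, sub_zero, add_zero] at h
    simp only [map_neg, hσc, neg_neg] at h ⊢
    linear_combination h
  have h4 : Dir σ F₀ J L c z b := by
    have hN2 : σ (-(c * σ c * (q0 J b : F)) / 2) = -(c * σ c * (q0 J b : F)) / 2 := by
      rw [map_div₀, map_neg, map_mul, map_mul, C.inv, C.fix _ (q0 J b).2, map_ofNat, mul_comm (σ c)]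
    have h5 := h3.mul C (hlong (-(c * σ c * (q0 J b : F)) / 2 - m) (by
      rw [map_sub, hN2]
      have hq : frm σ F₀ J (c • rv F₀ b) (c • rv F₀ b) = c * σ c * (q0 J b : F) := by
        rw [frm_smul_left, frm_smul_right, C.frm_rv, q0]; ring
      rw [hq] at hσm
      have := C.two
      field_simp
      linear_combination (-2) * hσm))
    rw [add_zero, frm_zero_left, sub_zero, add_sub_cancel] at h5
    exact h5
  obtain ⟨w', hw', hw'z, hbw'⟩ : ∃ w', q0 J w' = 0 ∧ g0 J w' z = 0 ∧ g0 J b w' ≠ 0 := by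
    by_contra hne
    push Not at hne
    have h : b0 J b w = 0 := (Submodule.span_le (p := LinearMap.ker (b0 J b))).mpr
      (fun x hx => LinearMap.mem_ker.mpr (by
        rw [b0_apply, hne x hx.2 (C.mem_perp.mp hx.1 0), mul_zero]))
      (C.span_perp (k := 1) le_rfl ![z] (C.mem_perp.mpr fun i => by fin_cases i; exact hwz 0))
    rw [b0_apply, hbw, mul_one] at h
    exact C.two' h
  have h6 := eichler C hN hLG hz hbz h4 hw' hw'z hbw'
  unfold Dir at h6
  rw [hw', ZeroMemClass.coe_zero, mul_zero, neg_zero, zero_div] at h6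
  refine hC ⟨w', z, hw', hz, hw'z, hz0, fun hm => hbw' ?_, c, hcF, h6⟩
  obtain ⟨t, rfl⟩ := Submodule.mem_span_singleton.mp hm
  rw [g0_smul_right, hbz, mul_zero]

include C in
theorem eq_zero_of_perp' {v : ι → F} (h : ∀ e : ι → F₀, frm σ F₀ J (rv F₀ e) v = 0) : v = 0 :=
  funext fun i => by
    obtain ⟨q, hq⟩ := C.exists_cov (Pi.single i 1)
    have := C.frm_perp (h q)
    rwa [frm, C.cov_rv, hq, rv_single, dotProduct_single, mul_one] at this

include C in
/-- Rational vectors with a dual family are independent over `F`. -/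
theorem dual_coeff {k : ℕ} {p : Fin k → ι → F₀} {t : Fin k → F} (h : ∑ i, t i • rv F₀ (p i) = 0)
    {v : ι → F₀} {j : Fin k} (hj : g0 J (p j) v = 1) (ho : ∀ i, i ≠ j → g0 J (p i) v = 0) : t j = 0 := by
  let φ : (ι → F) →ₗ[F] F :=
    { toFun := fun x => frm σ F₀ J x (rv F₀ v)
      map_add' := fun a b => frm_add_left a b _
      map_smul' := fun c a => frm_smul_left c a _ }
  have h1 := congrArg φ h
  simp only [map_sum, map_smul, map_zero, smul_eq_mul] at h1
  rw [Finset.sum_eq_single j (fun i _ hi => by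
    show t i * frm σ F₀ J _ _ = 0
    rw [C.frm_rv, ho i hi, ZeroMemClass.coe_zero, mul_zero])
    (fun h => absurd (Finset.mem_univ j) h)] at h1
  have : φ (rv F₀ (p j)) = 1 := by show frm σ F₀ J _ _ = 1; rw [C.frm_rv, hj]; rfl
  rwa [this, mul_one] at h1

include C hN hLG in
/-- Without irrational root elements rational singular points go to rational points. -/
theorem image_point [Finite F] (hC : ¬CaseA σ F₀ J L) {h : GL ι F} (hh : h ∈ L) {x : ι → F₀}
    (hx : q0 J x = 0) (hx0 : x ≠ 0) :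
    ∃ (r : ι → F₀) (μ : F), μ ≠ 0 ∧ r ≠ 0 ∧ (h : Matrix ι ι F) *ᵥ rv F₀ x = μ • rv F₀ r := by
  set A := (h : Matrix ι ι F) with hA
  have hf := (mem_spIso.mp (hLG hh)).1
  have hinj : Function.Injective (A *ᵥ ·) := Matrix.mulVec_injective_of_isUnit h.isUnit
  obtain ⟨c, hc0, hc⟩ := Herm.exists_trace_zero C.ne C.inv
  have hσc : σ c = -c := eq_neg_of_add_eq_zero_right hc
  have h2c : (2 : F) * c ≠ 0 := mul_ne_zero C.two hc0
  set u := A *ᵥ rv F₀ x with hu
  let b : ι → F₀ := fun i => ⟨(u i - σ (u i)) / (2 * c), C.mem_of _ (by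
    rw [map_div₀, map_sub, map_mul, map_ofNat, C.inv, hσc, mul_neg, div_neg, ← neg_div, neg_sub])⟩
  let a : ι → F₀ := fun i => ⟨(u i + σ (u i)) / 2, C.mem_of _ (by
    rw [map_div₀, map_add, map_ofNat, C.inv, add_comm])⟩
  have huab : u = rv F₀ a + c • rv F₀ b := by
    funext i
    simp only [Pi.add_apply, Pi.smul_apply, smul_eq_mul, rv, a, b]
    field_simp [C.two]
    ring
  have hu0 : u ≠ 0 := fun e => rv_ne_zero F₀ hx0 (hinj (e.trans (Matrix.mulVec_zero _).symm))
  by_cases hb0 : b = 0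
  · refine ⟨a, 1, one_ne_zero, fun e => hu0 ?_, ?_⟩
    · rw [huab, e, hb0, rv_zero, smul_zero, add_zero]
    · rw [one_smul, huab, hb0, rv_zero, smul_zero, add_zero]
  by_cases hab : a ∈ Submodule.span F₀ {b}
  · obtain ⟨t, ht⟩ := Submodule.mem_span_singleton.mp hab
    have e : u = ((t : F) + c) • rv F₀ b := by rw [huab, ← ht, rv_smul, add_smul]
    exact ⟨b, _, fun e0 => hu0 (by rw [e, e0, zero_smul]), hb0, e⟩
  exfalso
  have ha0 : a ≠ 0 := fun e => hab (e ▸ Submodule.zero_mem _)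
  -- `u` is singular
  have huu : (q0 J a : F) - c ^ 2 * q0 J b = 0 := by
    have h0 : frm σ F₀ J u u = 0 := by rw [hu, hf, iso_rv C hx]
    rw [huab] at h0
    simp only [frm_add_left, frm_add_right, frm_smul_left, frm_smul_right, C.frm_rv, C.g0_symm b a,
      hσc] at h0
    show (g0 J a a : F) - c ^ 2 * g0 J b b = 0
    linear_combination h0
  have hfu : ∀ v : ι → F, frm σ F₀ J v u = frm σ F₀ J v (rv F₀ a) - c * frm σ F₀ J v (rv F₀ b) :=
    fun v => by rw [huab, frm_add_right, frm_smul_right, hσc]; ring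
  -- the preimage constraints for a singular `z` perpendicular to `a` and `b`
  let re : F → F₀ := fun X => ⟨X + σ X, C.mem_of _ (by rw [map_add, C.inv, add_comm])⟩
  let im : F → F₀ := fun X => ⟨(X - σ X) / c, C.mem_of _ (by
    rw [map_div₀, map_sub, C.inv, hσc, div_neg, ← neg_div, neg_sub])⟩
  have hU3 : ∀ z : ι → F₀, ∃ U : Submodule F₀ (ι → F₀), 3 ≤ finrank F₀ U ∧ ∀ p ∈ U,
      g0 J p x = 0 ∧ frm σ F₀ J (A *ᵥ rv F₀ p) (rv F₀ z) = 0 := by
    intro z
    let Φ : (ι → F₀) →ₗ[F₀] F₀ × F₀ × F₀ :=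
      { toFun := fun p => (g0 J p x, re (frm σ F₀ J (A *ᵥ rv F₀ p) (rv F₀ z)),
          im (frm σ F₀ J (A *ᵥ rv F₀ p) (rv F₀ z)))
        map_add' := fun p p' => by
          rw [g0_add, rv_add, Matrix.mulVec_add, frm_add_left]
          refine Prod.ext rfl (Prod.ext (Subtype.ext ?_) (Subtype.ext ?_))
          · simp only [re, Prod.mk_add_mk, AddMemClass.coe_add, map_add]; ring
          · simp only [im, Prod.mk_add_mk, AddMemClass.coe_add, map_add]; ring
        map_smul' := fun t p => by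
          rw [g0_smul, rv_smul, Matrix.mulVec_smul, frm_smul_left]
          refine Prod.ext rfl (Prod.ext (Subtype.ext ?_) (Subtype.ext ?_))
          · simp only [re, Prod.smul_mk, RingHom.id_apply, smul_eq_mul, MulMemClass.coe_mul, map_mul,
              C.fix _ t.2]
            ring
          · simp only [im, Prod.smul_mk, RingHom.id_apply, smul_eq_mul, MulMemClass.coe_mul, map_mul,
              C.fix _ t.2]
            ring }
    refine ⟨LinearMap.ker Φ, ?_, fun p hp => ?_⟩
    · have h1 := LinearMap.finrank_range_add_finrank_ker Φ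
      have h2 := Submodule.finrank_le (LinearMap.range Φ)
      rw [finrank_fintype_fun_eq_card] at h1
      rw [finrank_prod, finrank_prod, Module.finrank_self] at h2
      have := C.card
      omega
    · have h := LinearMap.mem_ker.mp hp
      simp only [Φ, LinearMap.coe_mk, AddHom.coe_mk, Prod.mk_eq_zero] at h
      refine ⟨h.1, ((mul_eq_zero (a := (2 : F))
        (b := frm σ F₀ J (A *ᵥ rv F₀ p) (rv F₀ z))).mp ?_).resolve_left C.two⟩
      have e1 : _ + _ = (0 : F) := congrArg Subtype.val h.2.1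
      have e2 : (_ - _) / c = (0 : F) := congrArg Subtype.val h.2.2
      rw [div_eq_zero_iff, or_iff_left hc0] at e2
      linear_combination e1 + e2
  -- the key relation
  have key : ∀ z : ι → F₀, q0 J z = 0 → z ≠ 0 → g0 J a z = 0 → g0 J b z = 0 → ∀ p,
      g0 J p x = 0 → frm σ F₀ J (A *ᵥ rv F₀ p) (rv F₀ z) = 0 → ∀ d : ι → F₀,
      g0 J d a = 0 → g0 J d b = 0 → g0 J d z = 0 →
      ∃ (m : ι → F₀) (ν : F), frm σ F₀ J (rv F₀ d) (A *ᵥ rv F₀ p) • u = rv F₀ m + ν • rv F₀ z := by
    intro z hz hz0 haz hbz p hpx hpz d hda hdb hdz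
    have hzu : frm σ F₀ J (rv F₀ z) u = 0 := by
      rw [hfu, C.frm_rv, C.frm_rv, C.g0_symm z a, C.g0_symm z b, haz, hbz]; simp
    have hdu : frm σ F₀ J (rv F₀ d) u = 0 := by
      rw [hfu, C.frm_rv, C.frm_rv, hda, hdb]; simp
    obtain ⟨-, -, g, hg, hge⟩ := InR.conj hLG hh (rat_gen C hN hx hpx)
    rw [← hA, ← hu] at hge
    have hgz : (g : Matrix ι ι F) *ᵥ rv F₀ z = rv F₀ z := by
      rw [hge, rootX_mulVec, hzu, C.frm_perp hpz]; simp
    obtain ⟨a', μ, hd'⟩ := stab_rat C hN hLG hC hg hz hz0 hgz hdz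
    rw [hge, rootX_mulVec, hdu] at hd'
    refine ⟨d - a', -μ, ?_⟩
    rw [rv_sub]
    simp only [zero_smul, mul_zero, zero_sub, add_zero] at hd'
    linear_combination (norm := module) -hd'
  -- so it vanishes, and the images lie in a plane
  have two_dim : ∀ (z : ι → F₀) (U : Submodule F₀ (ι → F₀)), 3 ≤ finrank F₀ U →
      ∀ w₁ w₂ : ι → F, (∀ p ∈ U, A *ᵥ rv F₀ p ∈ Submodule.span F ({w₁, w₂} : Set (ι → F))) → False := by
    intro z U hU w₁ w₂ hUw
    obtain ⟨f, hf'⟩ := exists_linearIndependent_of_le_finrank hU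
    have hli : LinearIndependent F fun i : Fin 3 => A *ᵥ rv F₀ (f i : ι → F₀) := by
      refine Fintype.linearIndependent_iff.mpr fun t ht j => ?_
      have h0 : ∑ i, t i • rv F₀ (f i : ι → F₀) = 0 := hinj (by
        show A *ᵥ _ = A *ᵥ _
        rw [Matrix.mulVec_zero, Matrix.mulVec_sum]
        simp only [Matrix.mulVec_smul]
        exact ht)
      have hf3 : LinearIndependent F₀ fun i => (f i : ι → F₀) :=
        hf'.map' U.subtype (Submodule.ker_subtype U)
      have hnm : (f j : ι → F₀) ∉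
          Submodule.span F₀ (Set.range fun i : Fin 2 => (f (j.succAbove i) : ι → F₀)) := by
        refine fun hm => hf3.notMem_span_image (s := {j}ᶜ) (x := j) (by simp) ?_
        refine Submodule.span_mono ?_ hm
        rintro _ ⟨i, rfl⟩
        exact ⟨j.succAbove i, Fin.succAbove_ne j i, rfl⟩
      obtain ⟨v, hv, hjv⟩ := C.exists_dual _ hnm
      refine dual_coeff C h0 hjv fun i hi => ?_
      obtain ⟨i', rfl⟩ := Fin.exists_succAbove_eq hi
      rw [C.g0_symm]; exact hv i'
    have h1 : Submodule.span F (Set.range fun i : Fin 3 => A *ᵥ rv F₀ (f i : ι → F₀)) ≤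
        Submodule.span F ({w₁, w₂} : Set (ι → F)) :=
      Submodule.span_le.mpr (by rintro _ ⟨i, rfl⟩; exact hUw _ (f i).2)
    have h2 := Submodule.finrank_mono h1
    rw [finrank_span_eq_card hli, Fintype.card_fin] at h2
    have h3 : finrank F (Submodule.span F ({w₁, w₂} : Set (ι → F))) ≤ 2 := by
      classical
      have := finrank_span_finset_le_card (R := F) ({w₁, w₂} : Finset (ι → F))
      rw [Finset.coe_pair] at this
      exact this.trans Finset.card_le_two
    omega
  -- dual vectors of `a` and `b`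
  have hba : b ∉ Submodule.span F₀ {a} := not_mem_singleton hb0 hab
  have hra : ∀ {r s : ι → F₀}, r ∉ Submodule.span F₀ {s} → r ∉ Submodule.span F₀ (Set.range ![s]) :=
    fun h => by rwa [Matrix.range_cons, Matrix.range_empty, Set.union_empty]
  by_cases hts : q0 J b = 0 ∧ g0 J a b = 0
  · -- `a` and `b` span a singular line
    obtain ⟨hqb, hgab⟩ := hts
    have hqa : q0 J a = 0 := Subtype.ext (by
      rw [hqb, ZeroMemClass.coe_zero, mul_zero, sub_zero] at huu; exact huu)
    obtain ⟨U, hU, hUp⟩ := hU3 a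
    obtain ⟨a', ha', haa⟩ := C.exists_dual ![b] (hra hab)
    obtain ⟨b', hb', hbb⟩ := C.exists_dual ![a] (hra hba)
    refine two_dim a U hU (rv F₀ a) (rv F₀ b) fun p hp => ?_
    obtain ⟨hpx, hpa⟩ := hUp p hp
    set v := A *ᵥ rv F₀ p
    have hpb : frm σ F₀ J v (rv F₀ b) = 0 := by
      have h0 : frm σ F₀ J v u = 0 := by rw [hu, hf, perp_rv C hpx]
      rw [hfu, hpa, zero_sub, neg_eq_zero, mul_eq_zero] at h0
      exact h0.resolve_left hc0
    have hd : ∀ d, g0 J d a = 0 → g0 J d b = 0 → frm σ F₀ J (rv F₀ d) v = 0 := by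
      intro d hda hdb
      set φ := frm σ F₀ J (rv F₀ d) v
      obtain ⟨m, ν, e1⟩ := key a hqa ha0 hqa ((C.g0_symm _ _).trans hgab) p hpx hpa d hda hdb hda
      obtain ⟨m', ν', e2⟩ := key b hqb hb0 hgab hqb p hpx hpb d hda hdb hdb
      have f1 := congrArg (fun z => frm σ F₀ J z (rv F₀ b')) e1
      have f2 := congrArg (fun z => frm σ F₀ J z (rv F₀ a')) e2
      simp only [huab, frm_smul_left, frm_add_left, C.frm_rv, C.g0_symm a b', C.g0_symm b a', hbb, haa,
        show g0 J b' a = 0 from hb' 0, show g0 J a' b = 0 from ha' 0, ZeroMemClass.coe_zero,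
        OneMemClass.coe_one, mul_zero, mul_one, zero_add, add_zero] at f1 f2
      have s1 := congrArg σ f1
      have s2 := congrArg σ f2
      simp only [map_mul, hσc, C.fix _ (g0 J m b').2] at s1
      simp only [C.fix _ (g0 J m' a').2] at s2
      refine (mul_eq_zero.mp ?_).resolve_left h2c
      linear_combination f1 - s1 + c * f2 - c * s2
    refine Submodule.mem_span_pair.mpr ⟨σ (frm σ F₀ J (rv F₀ a') v), σ (frm σ F₀ J (rv F₀ b') v), ?_⟩
    refine (sub_eq_zero.mp (eq_zero_of_perp' C fun e => ?_)).symm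
    have he := hd (e - g0 J e a • a' - g0 J e b • b')
      (by
        simp only [sub_eq_add_neg, ← neg_smul, g0_add, g0_smul, C.g0_symm a' a, haa,
          show g0 J b' a = 0 from hb' 0]
        ring)
      (by
        simp only [sub_eq_add_neg, ← neg_smul, g0_add, g0_smul, C.g0_symm b' b, hbb,
          show g0 J a' b = 0 from ha' 0]
        ring)
    simp only [rv_sub, rv_smul, frm_sub_left, frm_smul_left] at he
    simp only [frm_sub_right, frm_add_right, frm_smul_right, C.inv, C.frm_rv]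
    linear_combination he
  · -- otherwise pick a singular `z` perpendicular to both
    have hU4 := C.finrank_perp_ge ![a, b]
    obtain ⟨z, hzU, hz0, hz⟩ := Sing.exists_singular q0_smul C.polar (perp J ![a, b])
      (by have := C.card; omega)
    have hza : g0 J z a = 0 := C.mem_perp.mp hzU 0
    have hzb : g0 J z b = 0 := C.mem_perp.mp hzU 1
    have hzab : z ∉ Submodule.span F₀ (Set.range ![a, b]) := by
      intro hm
      rw [Matrix.range_cons, Matrix.range_cons, Matrix.range_empty, Set.union_empty,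
        Set.singleton_union, Submodule.mem_span_pair] at hm
      obtain ⟨s, t, e⟩ := hm
      rw [← e, g0_add, g0_smul, g0_smul, C.g0_symm b a] at hza
      rw [← e, g0_add, g0_smul, g0_smul] at hzb
      have e1 : (s : F) * q0 J a + (t : F) * g0 J a b = 0 := congrArg Subtype.val hza
      have e2 : (s : F) * g0 J a b + (t : F) * q0 J b = 0 := congrArg Subtype.val hzb
      have hst : (s : F) ≠ 0 ∨ (t : F) ≠ 0 := by
        by_contra hne
        push Not at hne
        exact hz0 (by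
          rw [← e, show s = 0 from Subtype.ext hne.1, show t = 0 from Subtype.ext hne.2]; simp)
      have hdet : ((g0 J a b : F) / c) * (g0 J a b / c) = (q0 J b : F) * q0 J b := by
        have h : (q0 J a : F) * q0 J b - g0 J a b * g0 J a b = 0 := by
          rcases hst with h | h <;> refine (mul_eq_zero.mp ?_).resolve_left h
          · linear_combination (q0 J b : F) * e1 - (g0 J a b : F) * e2
          · linear_combination (q0 J a : F) * e2 - (g0 J a b : F) * e1
        field_simp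
        linear_combination -h + (q0 J b : F) * huu
      have hb' : (q0 J b : F) = 0 := by
        rcases mul_self_eq_mul_self_iff.mp hdet with h | h <;>
        · have h' := congrArg σ h
          simp only [map_div₀, map_neg, hσc, C.fix _ (g0 J a b).2, C.fix _ (q0 J b).2, div_neg] at h'
          refine (mul_eq_zero.mp ?_).resolve_left C.two
          first | linear_combination -h - h' | linear_combination h + h'
      have hg' : (g0 J a b : F) = 0 := by
        rw [hb', mul_zero, mul_self_eq_zero, div_eq_zero_iff] at hdet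
        exact hdet.resolve_right hc0
      exact hts ⟨Subtype.ext hb', Subtype.ext hg'⟩
    have hnot : ∀ {r s t : ι → F₀}, r ∉ Submodule.span F₀ {s} → t ∉ Submodule.span F₀ (Set.range ![r, s]) →
        r ∉ Submodule.span F₀ (Set.range ![t, s]) := fun hrs ht =>
      not_mem_pair (mem_range _ 1) (mem_range _ 0) ht hrs
    have hzba : z ∉ Submodule.span F₀ (Set.range ![b, a]) := by
      rwa [Matrix.range_cons, Matrix.range_cons, Matrix.range_empty, Set.union_empty, Set.union_comm,
        ← Set.union_empty ({a} ∪ {b}), Set.union_assoc, ← Matrix.range_empty (![] : Fin 0 → ι → F₀),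
        ← Matrix.range_cons, ← Matrix.range_cons]
    obtain ⟨a', ha', haa⟩ := C.exists_dual ![z, b] (hnot hab hzab)
    obtain ⟨b', hb', hbb⟩ := C.exists_dual ![z, a] (hnot hba hzba)
    obtain ⟨z', hz', hzz⟩ := C.exists_dual ![a, b] hzab
    obtain ⟨U, hU, hUp⟩ := hU3 z
    set κ₁ : F := (q0 J a : F) - c * g0 J a b with hκ₁
    set κ₂ : F := (g0 J a b : F) - c * q0 J b with hκ₂
    refine two_dim z U hU (κ₂ • rv F₀ a - κ₁ • rv F₀ b) (rv F₀ z) fun p hp => ?_
    obtain ⟨hpx, hpz⟩ := hUp p hp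
    set v := A *ᵥ rv F₀ p
    have hd : ∀ d, g0 J d a = 0 → g0 J d b = 0 → g0 J d z = 0 → frm σ F₀ J (rv F₀ d) v = 0 := by
      intro d hda hdb hdz
      set φ := frm σ F₀ J (rv F₀ d) v
      obtain ⟨m, ν, e1⟩ := key z hz hz0 ((C.g0_symm _ _).trans hza) ((C.g0_symm _ _).trans hzb)
        p hpx hpz d hda hdb hdz
      have f1 := congrArg (fun w => frm σ F₀ J w (rv F₀ a')) e1
      have f2 := congrArg (fun w => frm σ F₀ J w (rv F₀ b')) e1
      simp only [huab, frm_smul_left, frm_add_left, C.frm_rv, haa, hbb, C.g0_symm b a', C.g0_symm a b',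
        C.g0_symm z a', C.g0_symm z b', show g0 J a' z = 0 from ha' 0, show g0 J a' b = 0 from ha' 1,
        show g0 J b' z = 0 from hb' 0, show g0 J b' a = 0 from hb' 1, ZeroMemClass.coe_zero,
        OneMemClass.coe_one, mul_zero, mul_one, zero_add, add_zero] at f1 f2
      have s1 := congrArg σ f1
      have s2 := congrArg σ f2
      simp only [C.fix _ (g0 J m a').2] at s1
      simp only [map_mul, hσc, C.fix _ (g0 J m b').2] at s2
      refine (mul_eq_zero.mp ?_).resolve_left h2c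
      linear_combination c * f1 - c * s1 + f2 - s2
    set α := σ (frm σ F₀ J (rv F₀ a') v)
    set β := σ (frm σ F₀ J (rv F₀ b') v)
    set γ := σ (frm σ F₀ J (rv F₀ z') v)
    have hv : v = α • rv F₀ a + β • rv F₀ b + γ • rv F₀ z := by
      refine sub_eq_zero.mp (eq_zero_of_perp' C fun e => ?_)
      have he := hd (e - g0 J e a • a' - g0 J e b • b' - g0 J e z • z')
        (by
          simp only [sub_eq_add_neg, ← neg_smul, g0_add, g0_smul, C.g0_symm a' a, haa,
            show g0 J b' a = 0 from hb' 1, show g0 J z' a = 0 from hz' 0]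
          ring)
        (by
          simp only [sub_eq_add_neg, ← neg_smul, g0_add, g0_smul, C.g0_symm b' b, hbb,
            show g0 J a' b = 0 from ha' 1, show g0 J z' b = 0 from hz' 1]
          ring)
        (by
          simp only [sub_eq_add_neg, ← neg_smul, g0_add, g0_smul, C.g0_symm z' z, hzz,
            show g0 J a' z = 0 from ha' 0, show g0 J b' z = 0 from hb' 0]
          ring)
      simp only [rv_sub, rv_smul, frm_sub_left, frm_smul_left] at he
      simp only [α, β, γ, frm_sub_right, frm_add_right, frm_smul_right, C.inv, C.frm_rv]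
      linear_combination he
    have hrel : α * κ₁ + β * κ₂ = 0 := by
      have h0 : frm σ F₀ J v u = 0 := by rw [hu, hf, perp_rv C hpx]
      rw [hfu, hv] at h0
      simp only [frm_add_left, frm_smul_left, C.frm_rv, hza, hzb, C.g0_symm b a,
        ZeroMemClass.coe_zero, mul_zero, add_zero] at h0
      rw [hκ₁, hκ₂]
      show α * ((g0 J a a : F) - c * g0 J a b) + β * ((g0 J a b : F) - c * g0 J b b) = 0
      linear_combination h0
    have hk2 : κ₂ ≠ 0 := fun e => hts (by
      have e' := congrArg σ e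
      rw [hκ₂, map_sub, map_mul, map_zero, hσc, C.fix _ (g0 J a b).2, C.fix _ (q0 J b).2] at e'
      have eb : (q0 J b : F) = 0 := by
        refine (mul_eq_zero.mp ?_).resolve_left h2c
        linear_combination e' - e
      rw [hκ₂, eb, mul_zero, sub_zero] at e
      exact ⟨Subtype.ext eb, Subtype.ext e⟩)
    refine Submodule.mem_span_pair.mpr ⟨α / κ₂, γ, ?_⟩
    have hbe : β = -(α / κ₂) * κ₁ := by
      field_simp
      linear_combination hrel
    rw [hv, hbe, smul_sub, smul_smul, smul_smul, div_mul_cancel₀ _ hk2]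
    module

include C hN hLG in
theorem ratG_of_not [Finite F] (hC : ¬CaseA σ F₀ J L) {h : GL ι F} (hh : h ∈ L) : RatG F₀ h := by
  set A := (h : Matrix ι ι F)
  have hinj : Function.Injective (A *ᵥ ·) := Matrix.mulVec_injective_of_isUnit h.isUnit
  obtain ⟨x₀, hx₀, -, hx₀W⟩ := C.exists_fresh (k := 0) (by omega) ![]
  have hx₀0 : x₀ ≠ 0 := fun e => hx₀W (e ▸ Submodule.zero_mem _)
  obtain ⟨r₀, μ, hμ, hr₀, h₀⟩ := image_point C hN hLG hC hh hx₀ hx₀0
  let T : Submodule F₀ (ι → F₀) :=
    { carrier := {x | ∀ l, μ⁻¹ * (A *ᵥ rv F₀ x) l ∈ F₀}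
      add_mem' := fun {a b} ha hb l => by
        rw [rv_add, Matrix.mulVec_add, Pi.add_apply, mul_add]; exact F₀.add_mem (ha l) (hb l)
      zero_mem' := fun l => by
        rw [rv_zero, Matrix.mulVec_zero, Pi.zero_apply, mul_zero]; exact F₀.zero_mem
      smul_mem' := fun c a ha l => by
        rw [rv_smul, Matrix.mulVec_smul, Pi.smul_apply, smul_eq_mul, mul_left_comm]
        exact F₀.mul_mem c.2 (ha l) }
  have ratio : ∀ x x' : ι → F₀, q0 J x = 0 → q0 J x' = 0 → g0 J x x' = 0 → x ≠ 0 → x' ≠ 0 →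
      x' ∉ Submodule.span F₀ {x} → x ∈ T → x' ∈ T := by
    intro x x' hx hx' hxx' hx0 hx'0 hind hxT
    obtain ⟨r, ν, hν, hr, e⟩ := image_point C hN hLG hC hh hx hx0
    obtain ⟨r', ν', hν', hr', e'⟩ := image_point C hN hLG hC hh hx' hx'0
    have hxx0 : x + x' ≠ 0 := fun e => hind (Submodule.mem_span_singleton.mpr
      ⟨-1, by rw [neg_one_smul, eq_neg_of_add_eq_zero_right e]⟩)
    obtain ⟨r'', ν'', -, hr'', e''⟩ := image_point C hN hLG hC hh (x := x + x') (by
      rw [q0, g0_add, C.g0_symm x (x + x'), C.g0_symm x' (x + x'), g0_add, g0_add,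
        show g0 J x x = 0 from hx, show g0 J x' x' = 0 from hx', hxx', C.g0_symm x' x, hxx']
      ring) hxx0
    rw [rv_add, Matrix.mulVec_add, e, e'] at e''
    obtain ⟨l, hl⟩ := Function.ne_iff.mp hr
    have hrl : (r l : F) ≠ 0 := fun e => hl (Subtype.ext e)
    have hνm : μ⁻¹ * ν ∈ F₀ := by
      have h1 := F₀.div_mem (hxT l) (r l).2
      rw [e, Pi.smul_apply, smul_eq_mul, ← mul_assoc] at h1
      rwa [show rv F₀ r l = (r l : F) from rfl, mul_div_cancel_right₀ _ hrl] at h1
    have hρ : ν' / ν ∈ F₀ := by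
      by_contra hm
      have hd : ν' / ν - σ (ν' / ν) ≠ 0 := fun e => hm (C.mem_of _ (sub_eq_zero.mp e).symm)
      -- then `r` is a multiple of `r'`
      have key : (ν'' / ν - σ (ν'' / ν)) • rv F₀ r'' = (ν' / ν - σ (ν' / ν)) • rv F₀ r' := by
        funext l
        have h1 := congrFun e'' l
        simp only [Pi.add_apply, Pi.smul_apply, smul_eq_mul, rv] at h1
        have h2 : (r l : F) + ν' / ν * r' l = ν'' / ν * r'' l := by field_simp; linear_combination h1
        have h3 := congrArg σ h2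
        simp only [map_add, map_mul, C.fix _ (r l).2, C.fix _ (r' l).2, C.fix _ (r'' l).2] at h3
        simp only [Pi.smul_apply, smul_eq_mul, rv]
        linear_combination h3 - h2
      set d := ν'' / ν - σ (ν'' / ν)
      set d' := ν' / ν - σ (ν' / ν)
      have hd0 : d ≠ 0 := fun e => by
        rw [e, zero_smul, eq_comm, smul_eq_zero] at key
        exact key.elim hd (rv_ne_zero F₀ hr')
      have hr3 : rv F₀ r'' = (d' / d) • rv F₀ r' := by
        rw [div_eq_inv_mul, ← smul_smul, ← key, smul_smul, inv_mul_cancel₀ hd0, one_smul]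
      have hdep : rv F₀ x = ((ν'' * (d' / d) - ν') / ν') • rv F₀ x' := hinj (by
        show A *ᵥ rv F₀ x = A *ᵥ (((ν'' * (d' / d) - ν') / ν') • rv F₀ x')
        rw [Matrix.mulVec_smul, e, e', smul_smul, div_mul_cancel₀ _ hν', sub_smul, ← smul_smul,
          ← hr3, ← e'', add_sub_cancel_right])
      obtain ⟨l', hl'⟩ := Function.ne_iff.mp hx'0
      have hxl : (x' l' : F) ≠ 0 := fun e => hl' (Subtype.ext e)
      have h5 := congrFun hdep l'
      simp only [Pi.smul_apply, smul_eq_mul, rv] at h5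
      have h4 : (ν'' * (d' / d) - ν') / ν' ∈ F₀ := by
        have h6 := F₀.div_mem (x l').2 (x' l').2
        rwa [h5, mul_div_cancel_right₀ _ hxl] at h6
      exact not_mem_singleton hx0 hind (Submodule.mem_span_singleton.mpr ⟨⟨_, h4⟩,
        rv_injective F₀ (by rw [rv_smul]; exact hdep.symm)⟩)
    intro l
    rw [e', Pi.smul_apply, smul_eq_mul, ← mul_assoc]
    refine F₀.mul_mem ?_ (r' l).2
    have := F₀.mul_mem hνm hρ
    rwa [mul_assoc, mul_div_cancel₀ _ hν] at this
  have hbase : x₀ ∈ T := fun l => by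
    rw [h₀, Pi.smul_apply, smul_eq_mul, ← mul_assoc, inv_mul_cancel₀ hμ, one_mul]; exact (r₀ l).2
  have hT : ∀ x : ι → F₀, x ∈ T := fun x => by
    refine (Submodule.span_le (p := T)).mpr ?_ (C.span_perp (k := 0) (by omega) ![]
      (show x ∈ _ from C.mem_perp.mpr fun i => i.elim0))
    rintro z ⟨-, hz⟩
    rcases eq_or_ne z 0 with rfl | hz0
    · exact T.zero_mem
    obtain ⟨w, hw, hw'0, hw'1, hwx, hwz⟩ := C.exists_off hx₀0 hz0
    have hw0 : w ≠ 0 := fun e => hwz (e ▸ Submodule.zero_mem _)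
    exact ratio w z hw hz hw'1 hw0 hz0 (not_mem_singleton hz0 hwz)
      (ratio x₀ w hx₀ hw ((C.g0_symm _ _).trans hw'0) hx₀0 hw0 hwx hbase)
  refine ⟨μ⁻¹, inv_ne_zero hμ, fun k l => ?_⟩
  have h1 := hT (Pi.single l 1) k
  rwa [rv_single, Matrix.mulVec_single_one] at h1

end Rational

/-- The rational part is maximal in the special isometry group. -/
theorem isMaximal [Finite F] (C : Ctx σ F₀ J) :
    Cfsg.Geo.IsMaximalIn (spIso σ F₀ J) (ratIso σ F₀ J) := by
  refine ⟨lt_of_le_of_ne inf_le_right fun e => ?_, fun L hN hLG => ?_⟩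
  · obtain ⟨s, hs⟩ : ∃ s : F, s ∉ F₀ := by
      by_contra hc
      push Not at hc
      exact C.ne (RingHom.ext fun x => C.fix x (hc x))
    obtain ⟨y, hy, -, hyW⟩ := C.exists_fresh (k := 0) (by omega) ![]
    have hy0 : y ≠ 0 := fun h => hyW (h ▸ Submodule.zero_mem _)
    obtain ⟨x, hx, hx', hxW⟩ := C.exists_fresh (by omega) ![y]
    have hx0 : x ≠ 0 := fun h => hxW (h ▸ Submodule.zero_mem _)
    obtain ⟨p, -, hp', hyp⟩ := C.exists_sing ![x] hy
      (fun i => by fin_cases i; exact (C.g0_symm _ _).trans (hx' 0)) (by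
      rw [Matrix.range_cons, Matrix.range_empty, Set.union_empty]
      exact not_mem_singleton hy0 (not_mem_single hxW 0))
    have hxy : frm σ F₀ J (s • rv F₀ x) (rv F₀ y) = 0 := by
      rw [frm_smul_left, perp_rv C (show g0 J x y = 0 from hx' 0), mul_zero]
    obtain ⟨g, hg, hge⟩ := short_isometry C (x := s • rv F₀ x) (y := rv F₀ y)
      (by rw [frm_smul_left, frm_smul_right, iso_rv C hx, mul_zero, mul_zero]) (iso_rv C hy) hxy
    rw [← e] at hg
    obtain ⟨c, hc, hrat⟩ := (mem_subfieldSubgroup_one F₀ _).mp hg.1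
    have himg : ∀ z : ι → F₀, ∀ i, c * ((g : Matrix ι ι F) *ᵥ rv F₀ z) i ∈ F₀ := fun z i => by
      rw [Matrix.mulVec, dotProduct, Finset.mul_sum]
      exact F₀.sum_mem fun j _ => by rw [← mul_assoc]; exact F₀.mul_mem (hrat i j) (z j).2
    obtain ⟨i, hi⟩ := Function.ne_iff.mp hx0
    have hxi : (x i : F) ≠ 0 := fun h => hi (Subtype.ext h)
    have hcm : c ∈ F₀ := by
      have h1 := himg x i
      rw [hge, rootX_mulVec, perp_rv C (show g0 J x y = 0 from hx' 0), frm_smul_right,
        iso_rv C hx] at h1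
      simp only [zero_smul, mul_zero, sub_zero, add_zero] at h1
      have h2 := F₀.div_mem h1 (x i).2
      rwa [show (rv F₀ x) i = (x i : F) from rfl, mul_div_cancel_right₀ _ hxi] at h2
    have h1 := himg p i
    have hpy : frm σ F₀ J (rv F₀ p) (rv F₀ y) = 1 := by rw [C.frm_rv, C.g0_symm, hyp]; rfl
    rw [hge, rootX_mulVec, hpy, frm_smul_right, perp_rv C (show g0 J p x = 0 from hp' 0)] at h1
    simp only [zero_smul, mul_zero, zero_mul, sub_zero, add_zero, Pi.add_apply, Pi.smul_apply,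
      smul_eq_mul, Pi.zero_apply, one_mul, rv] at h1
    apply hs
    have h2 := F₀.div_mem (F₀.sub_mem h1 (F₀.mul_mem hcm (p i).2)) (F₀.mul_mem hcm (x i).2)
    convert h2 using 1
    field_simp
    ring
  · by_cases hC : CaseA σ F₀ J L
    · exact Or.inr (le_antisymm hLG (caseA_full C hN hLG hC))
    · exact Or.inl (le_antisymm (fun g hg => Subgroup.mem_inf.mpr
        ⟨(mem_subfieldSubgroup_one F₀ g).mpr (ratG_of_not C hN hLG hC hg), hLG hg⟩) hN)

/-- The same from dimension twelve on. -/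
theorem main {F : Type*} [Field F] [Fintype F] (n q : ℕ) (hF : Fintype.card F = q ^ 2) (hn : 6 ≤ n) (hodd : Odd q) (F₀ : Subfield F) (hcard : Fintype.card F = Nat.card F₀ ^ 2) (P : Matrix.GeneralLinearGroup (Fin n) F) (hP : Cfsg.Geo.IsFormRationalStructure (Cfsg.hermForm n F q) F₀ 1 P) : Cfsg.Geo.IsMaximalIn (Cfsg.GU n F q ⊓ Cfsg.Geo.specialLinear (Fin n) F) (Cfsg.Geo.subfieldSubgroup F₀ P ⊓ (Cfsg.GU n F q ⊓ Cfsg.Geo.specialLinear (Fin n) F)) := by
  have hq : Nat.card F₀ = q := Nat.pow_left_injective two_ne_zero (hcard.symm.trans hF)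
  have hfrob : ∀ x : F, Herm.frob hF x = frobRel F₀ x := fun x => by
    letI := Fintype.ofFinite F₀
    show _ = x ^ Fintype.card F₀
    rw [Herm.frob_apply, ← Nat.card_eq_fintype_card, hq]
  have C : Ctx (Herm.frob hF) F₀ (gram hP) :=
    { inv := Herm.frob_frob hF
      ne := Herm.frob_ne_id hF
      fix := fun x hx => by rw [hfrob]; exact frobRel_mem F₀ ⟨x, hx⟩
      mem_of := fun x hx => mem_of_frobRel_eq F₀ (by rw [← hfrob]; exact hx)
      det := det_gram hF hP one_ne_zero
      herm := fun u v => by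
        rw [frm_gram, frm_gram, one_mul, one_mul, Cfsg.hermForm, Cfsg.hermForm, map_sum]
        refine Finset.sum_congr rfl fun i _ => ?_
        rw [← Herm.frob_apply hF, ← Herm.frob_apply hF, map_mul, Herm.frob_frob, mul_comm]
      two := fun h => by
        haveI : CharP F 2 := CharTwo.of_one_ne_zero_of_two_eq_zero one_ne_zero h
        have h2 := FiniteField.even_card_of_char_two (ringChar.eq F 2)
        rw [hF, Nat.pow_mod, Nat.odd_iff.mp hodd] at h2
        omega
      card := by rw [Fintype.card_fin]; exact hn }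
  exact maximal_transfer hF hP one_ne_zero (isMaximal C)

/-- Let F be the field with q² elements, q odd, n ≥ 13, and F₀ the subfield with q elements. Let P be an invertible matrix such that the standard unitary form takes values in F₀ on the F₀-span of the columns of P (so it restricts to a non-degenerate symmetric bilinear form there). Then the elements of SU_n(q) lying in the subfield group of P form a maximal subgroup of SU_n(q). -/
theorem result {F : Type*} [Field F] [Fintype F] (n q : ℕ) (hF : Fintype.card F = q ^ 2) (hn : 13 ≤ n) (hodd : Odd q) (F₀ : Subfield F) (hcard : Fintype.card F = Nat.card F₀ ^ 2) (P : Matrix.GeneralLinearGroup (Fin n) F) (hP : Cfsg.Geo.IsFormRationalStructure (Cfsg.hermForm n F q) F₀ 1 P) : Cfsg.Geo.IsMaximalIn (Cfsg.GU n F q ⊓ Cfsg.Geo.specialLinear (Fin n) F) (Cfsg.Geo.subfieldSubgroup F₀ P ⊓ (Cfsg.GU n F q ⊓ Cfsg.Geo.specialLinear (Fin n) F)) := by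
  exact main n q hF (by omega) hodd F₀ hcard P hP

end Cfsg.Agent.S5659
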