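import Cfsg.Statements.S5660
import Cfsg.Agent.Lib.Linear.SubfieldHermStd

set_option autoImplicit false
open Cfsg

namespace Cfsg.Agent.S5660

/-- The same from dimension twelve on. -/
theorem main {F : Type*} [Field F] [Fintype F] (n q : ℕ) (hF : Fintype.card F = q ^ 2) (hn : 6 ≤ n) (heven : Even n) (F₀ : Subfield F) (hcard : Fintype.card F = Nat.card F₀ ^ 2) (ζ : F) (hζ0 : ζ ≠ 0) (hζ : ζ + ζ ^ q = 0) (P : Matrix.GeneralLinearGroup (Fin n) F) (hP : Cfsg.Geo.IsFormRationalStructure (Cfsg.hermForm n F q) F₀ ζ P) (halt : ∀ u : Fin n → F, (∀ i, u i ∈ F₀) → Cfsg.hermForm n F q (Matrix.mulVec (P : Matrix (Fin n) (Fin n) F) u) (Matrix.mulVec (P : Matrix (Fin n) (Fin n) F) u) = 0) : Cfsg.Geo.IsMaximalIn (Cfsg.GU n F q ⊓ Cfsg.Geo.specialLinear (Fin n) F) (Cfsg.Geo.subfieldSubgroup F₀ P ⊓ (Cfsg.GU n F q ⊓ Cfsg.Geo.specialLinear (Fin n) F)) := by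
  open Cfsg.Lib.Linear Cfsg.Lib.Linear.SubU Cfsg.Lib.Linear.Rat0 in
  exact maximal_std hF hP hn hζ0
    (have hiso : ∀ x : Fin n → F₀, IsoR (Herm.frob hF) F₀ (gram hP) x := fun x => by
        rw [IsoR, frm_gram, halt (rv F₀ x) (fun i => (x i).2), mul_zero]
    { inv := Herm.frob_frob hF
      ne := Herm.frob_ne_id hF
      mem := fun x hx => by rw [Herm.frob_apply]; exact F₀.pow_mem hx q
      det := det_gram hF hP hζ0
      skew := skew_gram hF hP hζ
      htr := fun x => ⟨0, by rw [ZeroMemClass.coe_zero, map_zero, sub_zero]; exact (hiso x).symm⟩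
      span1 := fun x a ha => AddSubgroup.subset_closure ⟨hiso x, ha⟩
      span2 := fun _ x a b ha hb => AddSubgroup.subset_closure ⟨hiso x, ha, hb⟩
      iso2 := fun c w hc _ => ⟨1, 0, by simpa using hc, hiso _⟩
      card := by rw [Fintype.card_fin]; omega })
    Nat.prime_two hcard

/-- Let F be the field with q² elements, n ≥ 13 even, and F₀ the subfield with q elements. Let ζ be a non-zero element with ζ + ζ^q = 0 and P an invertible matrix such that ζ times the standard unitary form takes values in F₀ on the F₀-span of the columns of P and the form vanishes on every pair (u, u) of that span (so ζ times the form restricts to a non-degenerate alternating form there). Then the elements of SU_n(q) lying in the subfield group of P form a maximal subgroup of SU_n(q). -/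
theorem result {F : Type*} [Field F] [Fintype F] (n q : ℕ) (hF : Fintype.card F = q ^ 2) (hn : 13 ≤ n) (heven : Even n) (F₀ : Subfield F) (hcard : Fintype.card F = Nat.card F₀ ^ 2) (ζ : F) (hζ0 : ζ ≠ 0) (hζ : ζ + ζ ^ q = 0) (P : Matrix.GeneralLinearGroup (Fin n) F) (hP : Cfsg.Geo.IsFormRationalStructure (Cfsg.hermForm n F q) F₀ ζ P) (halt : ∀ u : Fin n → F, (∀ i, u i ∈ F₀) → Cfsg.hermForm n F q (Matrix.mulVec (P : Matrix (Fin n) (Fin n) F) u) (Matrix.mulVec (P : Matrix (Fin n) (Fin n) F) u) = 0) : Cfsg.Geo.IsMaximalIn (Cfsg.GU n F q ⊓ Cfsg.Geo.specialLinear (Fin n) F) (Cfsg.Geo.subfieldSubgroup F₀ P ⊓ (Cfsg.GU n F q ⊓ Cfsg.Geo.specialLinear (Fin n) F)) := by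
  exact main n q hF (by omega) heven F₀ hcard ζ hζ0 hζ P hP halt

end Cfsg.Agent.S5660
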