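import Cfsg.Statements.S5662
import Cfsg.Agent.Lib.Linear.AschSp.General

set_option autoImplicit false
open Cfsg

namespace Cfsg.Agent.S5662

/-- Subgroup structure of the finite symplectic groups. Let F be a finite field and m ≥ 2 with (m, |F|) ≠ (2, 2), and let Sp_2m(F) be the group of invertible matrices preserving the standard alternating form on F^(2m). Let H be a subgroup of Sp_2m(F) whose product with the scalar matrices ±1 is not all of Sp_2m(F) (H does not cover PSp_2m(F)). Then either H is contained in a member of one of the eight geometric classes of subgroups of Sp_2m(F) (with the conditions built into InSymplecticClass), or H is in the residual class: modulo scalars it is almost simple, and the perfect preimage of its socle acts absolutely irreducibly, is realisable over no proper subfield, and fixes no non-degenerate quadratic form and no non-degenerate unitary form on F^(2m).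 -/
theorem result {F : Type*} [Field F] [Fintype F] (m : ℕ) (hm : 2 ≤ m) (hex : ¬ (m = 2 ∧ Fintype.card F = 2)) (H : Subgroup (Matrix.GeneralLinearGroup (Fin m ⊕ Fin m) F)) (hH : H ≤ Cfsg.spGL m F) (hproper : H ⊔ (Cfsg.Geo.scalars (Fin m ⊕ Fin m) F ⊓ Cfsg.spGL m F) ≠ Cfsg.spGL m F) : (∃ M : Subgroup (Matrix.GeneralLinearGroup (Fin m ⊕ Fin m) F), Cfsg.Geo.InSymplecticClass m F M ∧ H ≤ M) ∨ Cfsg.Geo.InSymplecticResidualClass H := by
  have hcases := Cfsg.Lib.Linear.AschSp.sp_cases (m := m) (by omega) hH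
  rcases hcases with ⟨W, h0, hts, hle⟩ | ⟨W, h0, hnd, hlt, hle⟩ | ⟨t, k, D, hD, _, hle⟩ | ⟨D, hodd, hD, hts, hle⟩ |
    ⟨r, K, hr, hK, hsa, halt, _, hle⟩ | ⟨K, hodd, hK, hadj, hne, hle⟩ |
    ⟨hodd, n₁, n₂, e, P, f₁, f₂, _, _, hn₂, hf₁, hf₂, hst, hle⟩ |
    ⟨k, t, e, P, f₁, hodd, hto, ht, _, _, hexc, hf₁, hst, hle⟩ |
    ⟨F₁, r, P, ζ, _, hr, hc, hζ, hP, hle⟩ | ⟨R, p, k, hR, habs, hsim, _, hp, hpo, hc, hcard, hz, hmin, _, hle⟩ |
    ⟨heven, Q, hQ, hpol, hle⟩ | hres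
  · exact Or.inl ⟨_, Or.inl (Or.inl ⟨W, h0, hts, rfl⟩), le_inf hle hH⟩
  · exact Or.inl ⟨_, Or.inl (Or.inr (Or.inl ⟨W, h0, hnd, hlt, rfl⟩)), le_inf hle hH⟩
  · exact Or.inl ⟨_, Or.inl (Or.inr (Or.inr (Or.inl ⟨t, k, D, hD, rfl⟩))), le_inf hle hH⟩
  · exact Or.inl ⟨_, Or.inl (Or.inr (Or.inr (Or.inr (Or.inl ⟨D, hodd, hD, hts, rfl⟩)))), le_inf hle hH⟩
  · exact Or.inl ⟨_, Or.inr (Or.inl ⟨r, K, hr, hK, hsa, halt, rfl⟩), le_inf hle hH⟩
  · exact Or.inl ⟨_, Or.inr (Or.inr (Or.inl ⟨K, hodd, hK, hadj, hne, rfl⟩)), le_inf hle hH⟩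
  · exact Or.inl ⟨_, Or.inr (Or.inr (Or.inr (Or.inl ⟨n₁, n₂, e, P, f₁, f₂, hodd, hn₂, hf₁, hf₂, hst, rfl⟩))),
      le_inf hle hH⟩
  · exact Or.inl ⟨_, Or.inr (Or.inr (Or.inr (Or.inr ⟨k, t, e, P, f₁, hodd, hto, ht, hexc, hf₁, hst, rfl⟩))),
      le_inf hle hH⟩
  · exact Or.inl ⟨_, Or.inl (Or.inr (Or.inr (Or.inr (Or.inr (Or.inl ⟨F₁, r, P, ζ, hr, hc, hζ, hP, rfl⟩))))),
      le_inf hle hH⟩
  · exact Or.inl ⟨_, Or.inl (Or.inr (Or.inr (Or.inr (Or.inr (Or.inr (Or.inl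
      ⟨R, p, k, hR, habs, hsim, hp, hpo, hc, hcard, hz, hmin, rfl⟩)))))), le_inf hle hH⟩
  · exact Or.inl ⟨_, Or.inl (Or.inr (Or.inr (Or.inr (Or.inr (Or.inr (Or.inr
      ⟨Q, heven, hQ, hpol, rfl⟩)))))), le_inf hle hH⟩
  · exact Or.inr hres

end Cfsg.Agent.S5662
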