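import Cfsg.Statements.S5667
import Cfsg.Agent.Lib.Linear.Tensor.Transvections
import Cfsg.Agent.Lib.Linear.SymplecticGroup

set_option autoImplicit false
open Cfsg

namespace Cfsg.Agent.S5667

/-- Over the field with 3 elements and for m ≥ 7, suppose the standard alternating form on F^(2m) is similar, through P and e, to the tensor product of a non-degenerate symplectic form f₁ on F^(n₁) and a non-degenerate symmetric bilinear form f₂ on F^3. Then the elements of Sp_2m(3) in the stabiliser of this tensor decomposition form a subgroup that is not maximal: some subgroup lies strictly between it and Sp_2m(3). -/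
theorem result {F : Type*} [Field F] [Fintype F] (m : ℕ) (hm : 7 ≤ m) (hq : Fintype.card F = 3) (n₁ : ℕ) (e : (Fin m ⊕ Fin m) ≃ Fin n₁ × Fin 3) (P : Matrix.GeneralLinearGroup (Fin m ⊕ Fin m) F) (f₁ : (Fin n₁ → F) → (Fin n₁ → F) → F) (f₂ : (Fin 3 → F) → (Fin 3 → F) → F) (hf₁ : Cfsg.Geo.IsSymplecticForm f₁) (hf₂ : Cfsg.Geo.IsSymmetricForm f₂) (hT : Cfsg.Geo.IsTensorFormStructure id (Cfsg.sympForm m F) f₁ f₂ e P) : ∃ K : Subgroup (Matrix.GeneralLinearGroup (Fin m ⊕ Fin m) F), Cfsg.Geo.tensorProductSubgroup n₁ 3 e P ⊓ Cfsg.spGL m F < K ∧ K < Cfsg.spGL m F := by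
  classical
  obtain ⟨κ, v, hκ, hv⟩ := Cfsg.Lib.Linear.TensorFrame.exists_frame_three hq hf₂
  have S₁ := Cfsg.Lib.Linear.TensorFrame.Ses.of_bilinear hf₁.bilinear
  have S₂ := Cfsg.Lib.Linear.TensorFrame.Ses.of_bilinear hf₂.bilinear
  have Sf : Cfsg.Lib.Linear.TensorFrame.Ses (RingHom.id F) (Cfsg.sympForm m F) := by
    constructor <;> intros <;>
      simp [← Cfsg.Lib.Linear.Symp.spB_apply, map_add, map_smul]
  have hcard := Fintype.card_congr e
  simp at hcard
  have h0 : ((Pi.single ⟨0, by omega⟩ 1 : Fin n₁ → F)) ≠ 0 :=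
    Pi.single_ne_zero_iff.mpr one_ne_zero
  obtain ⟨⟨a', ha'⟩, -⟩ := hf₁.nondegenerate _ h0
  refine Cfsg.Lib.Linear.TensorFrame.not_max_transvection Sf S₂ S₁
    (Cfsg.Lib.Linear.TensorFrame.pairing₂ (σ := RingHom.id F) S₁ S₂ hT) hκ hv
    (Cfsg.Lib.Linear.TensorFrame.frameRule_three hq S₂ hκ hv)
    (fun g hg x y => hg x y) (fun u hu => ?_) (hf₁.alternating _) ha' 0 1 (by decide)
  have hd : ∀ x, (Matrix.J (Fin m) F).mulVec u ⬝ᵥ x = Cfsg.sympForm m F x u := fun x =>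
    dotProduct_comm _ _
  have hz : (Matrix.J (Fin m) F).mulVec u ⬝ᵥ u = 0 := by rw [hd, hu]
  have hact : ∀ x, (Cfsg.Lib.Linear.tv u _ hz).val.mulVec x = x + Cfsg.sympForm m F x u • u :=
    fun x => by rw [Cfsg.Lib.Linear.coe_tv, Cfsg.Lib.Linear.tvMat_mulVec, hd]
  refine ⟨_, fun x y => ?_, hact⟩
  show Cfsg.sympForm m F ((Cfsg.Lib.Linear.tv u _ hz).val.mulVec x)
    ((Cfsg.Lib.Linear.tv u _ hz).val.mulVec y) = _
  rw [hact, hact, Sf.add_left, Sf.add_right, Sf.add_right, Sf.smul_left, Sf.smul_left,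
    Sf.smul_right, Sf.smul_right, hu]
  have hsk : Cfsg.sympForm m F u y = - Cfsg.sympForm m F y u := by
    simp only [← Cfsg.Lib.Linear.Symp.spB_apply]
    exact (LinearMap.BilinForm.IsAlt.neg_eq (Cfsg.Lib.Linear.Symp.spB_isAlt m F) y u).symm
  simp only [RingHom.id_apply, hsk]
  ring

end Cfsg.Agent.S5667
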