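import Cfsg.Statements.S5671
import Cfsg.Agent.Lib.Linear.Tensor.Transvections

set_option autoImplicit false
open Cfsg

namespace Cfsg.Agent.S5671

/-- Let F be the field with 4 elements (q = 2) and n = 2 n₂ ≥ 13. Suppose the standard unitary form Σ u_i v_i² on F^n is similar, through P and e, to the tensor product of non-degenerate unitary forms f₁ on F^2 and f₂ on F^(n₂). Then the elements of SU_n(2) in the stabiliser of this tensor decomposition form a subgroup that is not maximal: some subgroup lies strictly between it and SU_n(2). -/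
theorem result {F : Type*} [Field F] [Fintype F] (n : ℕ) (hF : Fintype.card F = 4) (hn : 13 ≤ n) (n₂ : ℕ) (e : Fin n ≃ Fin 2 × Fin n₂) (P : Matrix.GeneralLinearGroup (Fin n) F) (f₁ : (Fin 2 → F) → (Fin 2 → F) → F) (f₂ : (Fin n₂ → F) → (Fin n₂ → F) → F) (hf₁ : Cfsg.Geo.IsUnitaryFormPow 2 f₁) (hf₂ : Cfsg.Geo.IsUnitaryFormPow 2 f₂) (hT : Cfsg.Geo.IsTensorFormStructure (fun x : F => x ^ 2) (Cfsg.hermForm n F 2) f₁ f₂ e P) : ∃ K : Subgroup (Matrix.GeneralLinearGroup (Fin n) F), Cfsg.Geo.tensorProductSubgroup 2 n₂ e P ⊓ (Cfsg.GU n F 2 ⊓ Cfsg.Geo.specialLinear (Fin n) F) < K ∧ K < (Cfsg.GU n F 2 ⊓ Cfsg.Geo.specialLinear (Fin n) F) := by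
  classical
  have S₁ := Cfsg.Lib.Linear.TensorFrame.ses_unitary hF hf₁
  have S₂ := Cfsg.Lib.Linear.TensorFrame.ses_unitary hF hf₂
  have hh : Cfsg.Geo.IsUnitaryFormPow 2 (Cfsg.hermForm n F 2) := by
    refine ⟨fun x y v => ?_, fun c x v => ?_, fun v w => ?_, fun v hv => ?_⟩
    · simp only [Cfsg.hermForm, Pi.add_apply, add_mul, Finset.sum_add_distrib]
    · simp only [Cfsg.hermForm, Pi.smul_apply, smul_eq_mul, Finset.mul_sum, mul_assoc]
    · show Cfsg.hermForm n F 2 v w = Cfsg.hermForm n F 2 w v ^ 2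
      rw [← Cfsg.Lib.Linear.TensorFrame.sqHom_apply hF]
      simp only [Cfsg.hermForm, map_sum, map_mul]
      refine Finset.sum_congr rfl fun i _ => ?_
      simp only [Cfsg.Lib.Linear.TensorFrame.sqHom_apply]
      rw [← pow_mul, show v i ^ (2 * 2) = v i from by
        have := FiniteField.pow_card (v i); rwa [hF] at this]
      ring
    · obtain ⟨i, hi⟩ := Function.ne_iff.1 hv
      simp only [Pi.zero_apply] at hi
      constructor <;> refine ⟨Pi.single i 1, ?_⟩ <;> simp [Cfsg.hermForm, Pi.single_apply, hi]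
  have Sf := Cfsg.Lib.Linear.TensorFrame.ses_unitary hF hh
  have hcard := Fintype.card_congr e
  simp at hcard
  obtain ⟨v, hv⟩ := Cfsg.Lib.Linear.TensorFrame.exists_frame_two hF hf₁
  obtain ⟨a, ha0, ha⟩ := Cfsg.Lib.Linear.TensorFrame.exists_iso hF hf₂ (by omega)
  obtain ⟨⟨a', ha'⟩, -⟩ := hf₂.nondegenerate a ha0
  refine Cfsg.Lib.Linear.TensorFrame.not_max_transvection Sf S₁ S₂
    (Cfsg.Lib.Linear.TensorFrame.pairing₁ S₁ S₂ hT) one_ne_zero hv
    (Cfsg.Lib.Linear.TensorFrame.frameRule_two hF hf₁ hv)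
    (fun g hg x y => hg.1 x y) (fun u hu => ?_) ha ha' 0 1 (by decide)
  have hd : ∀ x, (fun i => u i ^ 2) ⬝ᵥ x = Cfsg.hermForm n F 2 x u := fun x =>
    dotProduct_comm _ _
  have hz : (fun i => u i ^ 2) ⬝ᵥ u = 0 := by rw [hd, hu]
  have hact : ∀ x, (Cfsg.Lib.Linear.tv u _ hz).val.mulVec x = x + Cfsg.hermForm n F 2 x u • u :=
    fun x => by rw [Cfsg.Lib.Linear.coe_tv, Cfsg.Lib.Linear.tvMat_mulVec, hd]
  refine ⟨_, ⟨fun x y => ?_, Cfsg.Lib.Linear.tv_mem_SL _ _ hz⟩, hact⟩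
  show Cfsg.hermForm n F 2 ((Cfsg.Lib.Linear.tv u _ hz).val.mulVec x)
    ((Cfsg.Lib.Linear.tv u _ hz).val.mulVec y) = _
  rw [hact, hact, Sf.add_left, Sf.add_right, Sf.add_right, Sf.smul_left, Sf.smul_left,
    Sf.smul_right, Sf.smul_right, hu, hh.herm u y,
    Cfsg.Lib.Linear.TensorFrame.sqHom_apply]
  linear_combination (Cfsg.hermForm n F 2 x u * Cfsg.hermForm n F 2 y u ^ 2) *
    Cfsg.Lib.Linear.TensorFrame.two_eq hF

end Cfsg.Agent.S5671
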