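import Cfsg.Agent.Lib.Linear.AschOrth.OddCases

set_option autoImplicit false
open Cfsg

namespace Cfsg.Agent.S5673

/-- Subgroup structure of the odd-dimensional orthogonal groups. Let F be a finite field of odd order and m ≥ 3, let Q be the standard quadratic form x₀² + Σ x_i y_i on F^(2m+1), and let Ω be the commutator subgroup of its isometry group, viewed inside GL_(2m+1)(F). Let H be a subgroup of Ω whose product with the scalar matrices in Ω is not all of Ω. Then either H is contained in a member of one of the geometric classes of subgroups of the isometry group (with the conditions built into InOrthogonalOddClass), or H is in the residual class: modulo scalars it is almost simple, and the perfect preimage of its socle acts absolutely irreducibly, is realisable over no proper subfield, and fixes no non-degenerate unitary form. -/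
theorem result {F : Type*} [Field F] [Fintype F] (hodd : Odd (Fintype.card F)) (m : ℕ) (hm : 3 ≤ m) (H : Subgroup (Matrix.GeneralLinearGroup (Unit ⊕ (Fin m ⊕ Fin m)) F)) (hH : H ≤ Cfsg.Geo.omegaGL (Cfsg.quadFormOdd m F)) (hproper : H ⊔ (Cfsg.Geo.scalars (Unit ⊕ (Fin m ⊕ Fin m)) F ⊓ Cfsg.Geo.omegaGL (Cfsg.quadFormOdd m F)) ≠ Cfsg.Geo.omegaGL (Cfsg.quadFormOdd m F)) : (∃ M : Subgroup (Matrix.GeneralLinearGroup (Unit ⊕ (Fin m ⊕ Fin m)) F), Cfsg.Geo.InOrthogonalOddClass m F M ∧ H ≤ M) ∨ Cfsg.Geo.InOrthogonalResidualClass H := by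
  have h2 := Cfsg.Lib.Linear.Orth.two_ne_zero_of_odd_card hodd
  obtain ⟨B, C⟩ := Cfsg.Lib.Linear.Orth.exists_space (Cfsg.Lib.Linear.Orth.isQuad_odd (F := F) m h2)
  have hn : Fintype.card (Unit ⊕ (Fin m ⊕ Fin m)) = 2 * m + 1 := Cfsg.Lib.Linear.Orth.card_odd_index m
  have hHI : H ≤ Cfsg.isometryGroup F (Cfsg.quadFormOdd m F) := fun g hg =>
    Cfsg.Lib.Linear.Asch.omegaGL_le_iso (hH hg)
  rcases Cfsg.Lib.Linear.AschOrth.odd_general C hodd (by rw [hn]; exact ⟨m, rfl⟩) (by omega)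
    (fun F₁ v hv => add_mem (pow_mem (hv _) 2) (sum_mem fun i _ => mul_mem (hv _) (hv _))) hHI with
    ⟨W, h0, hs, h⟩ | ⟨W, h0, h1, hnd, h⟩ | ⟨t, k, D, hk, hD, h⟩ | ⟨t, D, hp, hD, h⟩ | ⟨r, K, hr, hrn, hK, hsa, h⟩ |
    ⟨n₁, n₂, e, P, f₁, f₂, h3, hlt, hf₁, hf₂, hT, h⟩ | ⟨F₀, r, P, hr, hc, hP, h⟩ |
    ⟨k, t, e, P, f₁, hk, ht, hex, hf, hT, h⟩ | hres
  · exact Or.inl ⟨_, Or.inl ⟨W, h0, hs, rfl⟩, le_inf h hHI⟩
  · exact Or.inl ⟨_, Or.inr (Or.inl ⟨W, h0, h1, hnd, rfl⟩), le_inf h hHI⟩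
  · exact Or.inl ⟨_, Or.inr (Or.inr (Or.inl ⟨t, k, D, hk, hD, rfl⟩)), le_inf h hHI⟩
  · exact Or.inl ⟨_, Or.inr (Or.inr (Or.inr (Or.inl ⟨t, D, hp, hD, rfl⟩))), le_inf h hHI⟩
  · exact Or.inl ⟨_, Or.inr (Or.inr (Or.inr (Or.inr (Or.inl
      ⟨r, K, hr, hn ▸ hrn, hK, hsa, rfl⟩)))), le_inf h hHI⟩
  · exact Or.inl ⟨_, Or.inr (Or.inr (Or.inr (Or.inr (Or.inr (Or.inl
      ⟨n₁, n₂, e, P, f₁, f₂, h3, hlt, hf₁, hf₂, hT, rfl⟩))))), le_inf h hHI⟩
  · exact Or.inl ⟨_, Or.inr (Or.inr (Or.inr (Or.inr (Or.inr (Or.inr (Or.inl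
      ⟨F₀, r, P, hr, hc, hP, rfl⟩)))))), le_inf h hHI⟩
  · exact Or.inl ⟨_, Or.inr (Or.inr (Or.inr (Or.inr (Or.inr (Or.inr (Or.inr
      ⟨k, t, e, P, f₁, hk, ht, hex, hf, hT, rfl⟩)))))), le_inf h hHI⟩
  · exact Or.inr hres

end Cfsg.Agent.S5673
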