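import Cfsg.Statements.S5677
import Cfsg.Agent.Lib.Linear.OrthBlocksOf
import Cfsg.Agent.Lib.Linear.OrthOdd

set_option autoImplicit false
open Cfsg

namespace Cfsg.Agent.S5677

/-- Let F be a finite field of odd order q, m ≥ 6, Q the standard quadratic form on F^(2m+1) and Ω the commutator subgroup of its isometry group. Let D be a decomposition of F^(2m+1) into t ≥ 2 pairwise orthogonal, pairwise Q-isometric subspaces of equal dimension k > 1 on which the polar form is non-degenerate. Unless q = 3 and k = 3, the elements of Ω permuting the members of D form a maximal subgroup of Ω. -/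
theorem result {F : Type*} [Field F] [Fintype F] (hodd : Odd (Fintype.card F)) (m : ℕ) (hm : 6 ≤ m) {t : ℕ} (k : ℕ) (hk : 1 < k) (D : Fin t → Submodule F (Unit ⊕ (Fin m ⊕ Fin m) → F)) (hD : Cfsg.Geo.IsOrthogonalMDecomposition (Cfsg.quadFormOdd m F) k D) (hex : ¬ (Fintype.card F = 3 ∧ k = 3)) : Cfsg.Geo.IsMaximalIn (Cfsg.Geo.omegaGL (Cfsg.quadFormOdd m F)) (Cfsg.Geo.decompositionStabilizer D ⊓ Cfsg.Geo.omegaGL (Cfsg.quadFormOdd m F)) := by
  have h2 : (2 : F) ≠ 0 := Cfsg.Lib.Linear.Orth.two_ne_zero_of_odd_card hodd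
  obtain ⟨B, C⟩ := Cfsg.Lib.Linear.Orth.exists_space (Cfsg.Lib.Linear.Orth.isQuad_odd m h2)
  have hn := Cfsg.Lib.Linear.Orth.decomp_card hD.decomp.decomp
  rw [Cfsg.Lib.Linear.Orth.card_odd_index] at hn
  have hkodd : Odd k := by
    have : Odd (t * k) := ⟨m, hn.symm⟩
    exact (Nat.odd_mul.mp this).2
  have hk2 : k % 2 = 1 := Nat.odd_iff.mp hkodd
  refine (Cfsg.Lib.Linear.Orth.blocks_of_geo C h2 (by omega) hD).maximal ?_
  by_cases h5 : 5 ≤ k
  · exact Or.inl h5
  refine Or.inr (Cfsg.Lib.Linear.Orth.exists_mu ?_)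
  have hne : Fintype.card F ≠ 3 := fun h => hex ⟨h, by omega⟩
  have h1 := Fintype.one_lt_card (α := F)
  have hq := Nat.odd_iff.mp hodd
  omega

end Cfsg.Agent.S5677
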