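import Cfsg.Statements.S5680
import Cfsg.Agent.Lib.Linear.OrthExtThree.Max
import Cfsg.Agent.Lib.Linear.OrthExt.Max
import Cfsg.Agent.Lib.Linear.OrthOdd

set_option autoImplicit false
open Cfsg

namespace Cfsg.Agent.S5680

/-- Let F be a finite field of odd order, m ≥ 6, Q the standard quadratic form on F^(2m+1) and Ω the commutator subgroup of its isometry group. Let K be a subfield of the algebra of (2m+1) × (2m+1) matrices over F containing the scalars, of prime degree r over F with r ≠ 2m + 1, whose elements are self-adjoint for the polar form of Q. Then the elements of Ω normalising K form a maximal subgroup of Ω. -/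
theorem result {F : Type*} [Field F] [Fintype F] (hodd : Odd (Fintype.card F)) (m : ℕ) (hm : 6 ≤ m) (r : ℕ) (hr : r.Prime) (hrn : 2 * m + 1 ≠ r) (K : Subalgebra F (Matrix (Unit ⊕ (Fin m ⊕ Fin m)) (Unit ⊕ (Fin m ⊕ Fin m)) F)) (hK : Cfsg.Geo.IsFieldSubalgebra r K) (hsa : Cfsg.Geo.IsSelfAdjointFor (QuadraticMap.polar (Cfsg.quadFormOdd m F)) K) : Cfsg.Geo.IsMaximalIn (Cfsg.Geo.omegaGL (Cfsg.quadFormOdd m F)) (Cfsg.Geo.subalgebraNormalizer K ⊓ Cfsg.Geo.omegaGL (Cfsg.quadFormOdd m F)) := by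
  have h2 := Cfsg.Lib.Linear.Orth.two_ne_zero_of_odd_card hodd
  obtain ⟨B, C⟩ := Cfsg.Lib.Linear.Orth.exists_space (Cfsg.Lib.Linear.Orth.isQuad_odd m h2)
  obtain ⟨d, hd⟩ : ∃ d, Fintype.card (Unit ⊕ (Fin m ⊕ Fin m)) = r * d := by
    letI : Field K := (Cfsg.Lib.Linear.OrthExt.isField_of K ⟨Sum.inl ()⟩ hK.comm hK.inv).toField
    letI : Module K (Unit ⊕ (Fin m ⊕ Fin m) → F) := Cfsg.Lib.Linear.OrthExt.moduleK K
    haveI : IsScalarTower F K (Unit ⊕ (Fin m ⊕ Fin m) → F) :=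
      ⟨fun c k v => show Matrix.mulVec (c • (k : Matrix (Unit ⊕ (Fin m ⊕ Fin m))
          (Unit ⊕ (Fin m ⊕ Fin m)) F)) v =
        c • Matrix.mulVec (k : Matrix (Unit ⊕ (Fin m ⊕ Fin m)) (Unit ⊕ (Fin m ⊕ Fin m)) F) v from
        Matrix.smul_mulVec c _ v⟩
    have h := Module.finrank_mul_finrank F K (Unit ⊕ (Fin m ⊕ Fin m) → F)
    rw [hK.finrank_eq, Module.finrank_fintype_fun_eq_card] at h
    exact ⟨_, h.symm⟩
  have hn : r * d = 2 * m + 1 := by
    rw [← hd, Fintype.card_sum, Fintype.card_sum, Fintype.card_unit, Fintype.card_fin]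
    omega
  obtain ⟨s, hs⟩ : Odd d := (Nat.odd_mul.1 ⟨m, hn⟩).2
  rcases Nat.lt_or_ge d 5 with h5 | h5
  · rcases (by omega : d = 1 ∨ d = 3) with rfl | rfl
    · exact absurd (hn.symm.trans (mul_one r)) hrn
    · exact Cfsg.Lib.Linear.OrthExtThree.maximal C h2 hr (by omega) K hK hsa (by omega)
  · have h5r : r * 5 ≤ r * d := Nat.mul_le_mul_left r h5
    exact Cfsg.Lib.Linear.OrthExt.maximal C h2 hr K hK hsa (by omega) (Or.inl (by omega))

end Cfsg.Agent.S5680
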