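import Cfsg.Statements.S5686
import Cfsg.Agent.Lib.Linear.OrthParity
-- import your own Cfsg.Agent.* helpers here

set_option autoImplicit false
open Cfsg

namespace Cfsg.Agent.S5686

open Module Cfsg.Lib.Linear.Orth
open scoped Matrix

/-- Let F be a finite field with q elements, n ≥ 13 even, Q a non-degenerate quadratic form on F^n of plus type (some subspace of dimension n/2 is totally singular), and Ω the commutator subgroup of the isometry group of Q, viewed inside GL_n(F). The elements of Ω stabilising a subspace of dimension n/2 − 1 on which Q vanishes form a subgroup that is not maximal: some subgroup lies strictly between it and Ω. -/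
theorem result {F : Type*} [Field F] [Fintype F] {n : ℕ} (hn : 13 ≤ n) (heven : Even n) (Q : (Fin n → F) → F) (hQ : Cfsg.Geo.IsNondegenerateQuadraticForm Q) (hplus : Cfsg.Geo.IsPlusTypeOn Q ⊤) (W : Submodule F (Fin n → F)) (hW : Cfsg.Geo.IsTotallySingularQuad Q W) (hdim : 2 * (Module.finrank F W + 1) = n) : ∃ K : Subgroup (Matrix.GeneralLinearGroup (Fin n) F), Cfsg.Geo.subspaceStabilizer W ⊓ Cfsg.Geo.omegaGL Q < K ∧ K < Cfsg.Geo.omegaGL Q := by
  obtain ⟨B, C⟩ := exists_space hQ
  have hc : Fintype.card (Fin n) = n := Fintype.card_fin n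
  obtain ⟨M0, -, hM0, hM0d⟩ := hplus
  rw [finrank_top, finrank_fin_fun] at hM0d
  have hA : IsHalf Q M0 := ⟨hM0, by rw [hM0d, hc]⟩
  obtain ⟨x, hxA, hxW, hxp⟩ := exists_mem_perp C hA (W := W) (by omega)
  set M := W ⊔ Submodule.span F {x}
  have hxM : x ∈ M := Submodule.mem_sup_right (Submodule.mem_span_singleton_self x)
  have hM : IsHalf Q M := by
    refine ⟨fun y hy => ?_, ?_⟩
    · obtain ⟨w, hw, q, hq, rfl⟩ := Submodule.mem_sup.mp hy
      obtain ⟨c, rfl⟩ := Submodule.mem_span_singleton.mp hq
      rw [C.add, hW w hw, C.smul, hM0 x hxA, map_smul, hxp w hw]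
      simp
    · have h1 := Submodule.finrank_lt_finrank_of_lt
        (lt_of_le_of_ne le_sup_left fun h => hxW (h ▸ hxM) : W < M)
      have h2 : finrank F M ≤ finrank F W + 1 := by
        refine (Submodule.finrank_add_le_finrank_add_finrank _ _).trans ?_
        gcongr
        exact (finrank_span_singleton (fun h : x = 0 => hxW (h ▸ W.zero_mem))).le
      omega
  refine ⟨Cfsg.Geo.subspaceStabilizer M ⊓ Cfsg.Geo.omegaGL Q,
    lt_of_le_not_ge (fun g hg => ⟨mem_stab_of_mapsTo fun y hy => ?_, hg.2⟩) (fun hle => ?_), ?_⟩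
  · have hgO : g ∈ isometryGroup F Q :=
      root_le_iso C ⊤ ((omegaGL_eq C (by omega : 5 ≤ Fintype.card (Fin n))) ▸ hg.2)
    have hWle : W ≤ M ⊓ img g M := fun w hw => by
      refine ⟨Submodule.mem_sup_left hw, mem_img.mpr (Submodule.mem_sup_left ?_)⟩
      exact stab_mem (Subgroup.inv_mem _ hg.1) hw
    have h1 := omega_parity C (by omega) hg.2 hM hM
    rw [inf_idem] at h1
    have h2 := Submodule.finrank_mono hWle
    have h3 := Submodule.finrank_mono (inf_le_left : M ⊓ img g M ≤ M)
    have h4 := hM.2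
    have heq : M ⊓ img g M = img g M := by
      refine Submodule.eq_of_le_of_finrank_eq inf_le_right ?_
      rw [finrank_img]
      omega
    have : g.val *ᵥ y ∈ img g M := ⟨y, hy, rfl⟩
    rw [← heq] at this
    exact this.1
  · obtain ⟨w, hw, hw0⟩ := Submodule.exists_mem_ne_zero_of_ne_bot
      (p := W) (fun h => by rw [h, finrank_bot] at hdim; omega)
    obtain ⟨a, hxa, hwa⟩ := C.exists_perp (A := Submodule.span F {x}) (x := w) (fun h => by
      obtain ⟨c, rfl⟩ := Submodule.mem_span_singleton.mp h
      have hc0 : c ≠ 0 := fun h0 => hw0 (by rw [h0, zero_smul])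
      exact hxW ((Submodule.smul_mem_iff W hc0).mp hw))
    have hxa' := hxa x (Submodule.mem_span_singleton_self x)
    have hxQ := hM0 x hxA
    have hmem : sGL Q B x a ∈ Cfsg.Geo.subspaceStabilizer M ⊓ Cfsg.Geo.omegaGL Q :=
      ⟨mem_stab_of_mapsTo fun y hy => by
        rw [sGL_act C hxQ hxa', ts_orth C hM.1 hxM hy, zero_smul, add_zero]
        exact M.sub_mem hy (M.smul_mem _ hxM),
       omegaGL_eq C (by omega : 5 ≤ Fintype.card (Fin n)) ▸
        sGL_mem_root trivial trivial hxQ hxa'⟩
    have h := stab_mem (hle hmem).1 hw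
    rw [sGL_act C hxQ hxa', C.symm a w, hwa, ts_orth C hM.1 hxM (Submodule.mem_sup_left hw)] at h
    simp only [zero_smul, add_zero, mul_zero, one_smul] at h
    exact hxW (by simpa using W.sub_mem hw h)
  · exact (singular_max C (by omega) (fun h => hxW (by
      have := h ▸ hxM; rw [Submodule.mem_bot] at this; exact this ▸ W.zero_mem))
      hM.1 fun N hN hlt => by
        have h1 := Submodule.finrank_lt_finrank_of_lt hlt
        have h2 := ts_bound C hN
        have h3 := hM.2
        omega).1

end Cfsg.Agent.S5686
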