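import Cfsg.Statements.S5689
import Cfsg.Agent.Lib.Linear.OrthSplitMax

set_option autoImplicit false
open Cfsg

namespace Cfsg.Agent.S5689

open Module Cfsg.Lib.Linear.Orth
open scoped Matrix

variable {ι : Type} [Fintype ι] [DecidableEq ι] {F : Type*} [Field F] [Finite F]
  {Q : (ι → F) → F} {B : LinearMap.BilinForm F (ι → F)}

/-- An even-dimensional non-degenerate subspace has a similitude of multiplier minus one. -/
theorem antiIso (C : Space Q B) : ∀ (r : ℕ) (U : Submodule F (ι → F)), NDeg B U →
    finrank F U = 2 * r → ∃ J : U →ₗ[F] U, ∀ u : U, Q (J u : ι → F) = -Q (u : ι → F) := by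
  have := Fintype.ofFinite F
  by_cases h2 : (2 : F) = 0
  · intro r U _ _
    refine ⟨LinearMap.id, fun u => ?_⟩
    rw [LinearMap.id_apply, eq_neg_iff_add_eq_zero]
    linear_combination (Q (u : ι → F)) * h2
  have hodd : Fintype.card F % 2 = 1 := FiniteField.odd_card_of_char_ne_two fun h => h2 (by
    haveI := ringChar.charP F
    have := CharP.cast_eq_zero F (ringChar F)
    rw [h] at this
    exact_mod_cast this)
  intro r
  induction r with
  | zero =>
    intro U _ hr
    refine ⟨0, fun u => ?_⟩
    have h0 : U = ⊥ := Submodule.finrank_eq_zero.mp (by simpa using hr)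
    have h1 : (u : ι → F) = 0 := by
      have h := u.2
      simp only [h0, Submodule.mem_bot] at h
      exact h
    simp [h1, C.zero]
  | succ r ih =>
    intro U hU hr
    obtain ⟨x, hx, hQx⟩ := exists_nonsing C hU (fun h => by rw [h, finrank_bot] at hr; omega)
    have hxx : B x x ≠ 0 := by rw [C.self]; exact mul_ne_zero h2 hQx
    set U1 := perpIn B U (Submodule.span F {x}) with hU1
    have hproj : ∀ z ∈ U, z - (B x z / B x x) • x ∈ U1 := fun z hz => by
      refine ⟨U.sub_mem hz (U.smul_mem _ hx), fun a ha => ?_⟩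
      obtain ⟨c, rfl⟩ := Submodule.mem_span_singleton.mp ha
      simp [div_mul_cancel₀ _ hxx]
    have nd1 : NDeg B U1 := fun z hz h => hU z hz.1 fun w hw => by
      have h1 := h _ (hproj w hw)
      rw [map_sub, map_smul, C.symm z x, hz.2 x (Submodule.mem_span_singleton_self x)] at h1
      simpa using h1
    obtain ⟨y, hy, hQy⟩ := exists_nonsing C nd1 (fun h => by
      have h1 := finrank_perpIn (B := B) U (Submodule.span F {x})
      rw [← hU1, h, finrank_bot, finrank_span_singleton (fun h => hQx (by rw [h]; exact C.zero))] at h1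
      omega)
    have hxy : B x y = 0 := hy.2 x (Submodule.mem_span_singleton_self x)
    have hyy : B y y ≠ 0 := by rw [C.self]; exact mul_ne_zero h2 hQy
    set U2 := perpIn B U (Submodule.span F {x, y}) with hU2
    have hm2 : ∀ {z}, z ∈ U2 → B x z = 0 ∧ B y z = 0 := fun {z} hz =>
      ⟨hz.2 x (Submodule.subset_span (by simp)), hz.2 y (Submodule.subset_span (by simp))⟩
    have hproj2 : ∀ z ∈ U, z - (B x z / B x x) • x - (B y z / B y y) • y ∈ U2 := fun z hz => by
      refine ⟨U.sub_mem (U.sub_mem hz (U.smul_mem _ hx)) (U.smul_mem _ hy.1), fun a ha => ?_⟩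
      obtain ⟨c, d, rfl⟩ := Submodule.mem_span_pair.mp ha
      simp [div_mul_cancel₀ _ hxx, div_mul_cancel₀ _ hyy, hxy, C.symm y x]
    have nd2 : NDeg B U2 := fun z hz h => hU z hz.1 fun w hw => by
      have h1 := h _ (hproj2 w hw)
      rw [map_sub, map_sub, map_smul, map_smul, C.symm z x, C.symm z y, (hm2 hz).1, (hm2 hz).2]
        at h1
      simpa using h1
    have hdim : finrank F U2 = 2 * r := by
      have h1 := finrank_perpIn (B := B) U (Submodule.span F {x, y})
      have h2 := finrank_span_pair_le x y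
      rw [← hU2] at h1
      have h3 : U2 < U1 := lt_of_le_of_ne (fun z hz => ⟨hz.1, fun a ha =>
          hz.2 a (Submodule.span_mono (by simp) ha)⟩)
        fun h => hyy ((hm2 (h ▸ hy : y ∈ U2)).2)
      have h4 : U1 < U := lt_of_le_of_ne (fun z hz => hz.1) fun h => hxx (by
        have : x ∈ U1 := h ▸ hx
        exact this.2 x (Submodule.mem_span_singleton_self x))
      have h5 := Submodule.finrank_lt_finrank_of_lt h3
      have h6 := Submodule.finrank_lt_finrank_of_lt h4
      omega
    obtain ⟨J, hJ⟩ := ih U2 nd2 hdim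
    obtain ⟨a, b, hab⟩ := FiniteField.exists_root_sum_quadratic
      (f := Polynomial.C (Q x) * Polynomial.X ^ 2)
      (g := Polynomial.C (Q y) * Polynomial.X ^ 2 + Polynomial.C (Q x))
      (Polynomial.degree_C_mul_X_pow 2 hQx) (by
        rw [Polynomial.degree_add_eq_left_of_degree_lt] <;> rw [Polynomial.degree_C_mul_X_pow 2 hQy]
        · rfl
        · exact lt_of_le_of_lt Polynomial.degree_C_le (by norm_num)) hodd
    simp only [Polynomial.eval_mul, Polynomial.eval_C, Polynomial.eval_pow, Polynomial.eval_X,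
      Polynomial.eval_add] at hab
    let cx : U →ₗ[F] F := (B x x)⁻¹ • (B x).comp U.subtype
    let cy : U →ₗ[F] F := (B y y)⁻¹ • (B y).comp U.subtype
    let P : U →ₗ[F] U2 := LinearMap.codRestrict U2
      (U.subtype - cx.smulRight x - cy.smulRight y) fun u => by
        simpa [cx, cy, div_eq_inv_mul] using hproj2 u u.2
    let x' : ι → F := a • x + b • y
    let y' : ι → F := -(b * (Q y / Q x)) • x + a • y
    let Jf : U →ₗ[F] (ι → F) :=
      cx.smulRight x' + cy.smulRight y' + U2.subtype.comp (J.comp P)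
    refine ⟨LinearMap.codRestrict U Jf fun u => ?_, fun u => ?_⟩
    · exact U.add_mem (U.add_mem
        (U.smul_mem _ (U.add_mem (U.smul_mem _ hx) (U.smul_mem _ hy.1)))
        (U.smul_mem _ (U.add_mem (U.smul_mem _ hx) (U.smul_mem _ hy.1)))) (J (P u)).2.1
    · show Q (cx u • x' + cy u • y' + (J (P u) : ι → F)) = -Q (u : ι → F)
      have hu : (u : ι → F) = cx u • x + cy u • y + (P u : ι → F) := by
        simp [P]
      obtain ⟨hp1, hp2⟩ := hm2 (P u).2
      obtain ⟨hj1, hj2⟩ := hm2 (J (P u)).2
      conv_rhs => rw [hu, C.add, C.add, C.smul, C.smul]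
      rw [C.add, C.add, C.smul, C.smul, hJ]
      simp only [x', y', C.add, C.smul, map_add, map_smul, LinearMap.add_apply,
        LinearMap.smul_apply, smul_eq_mul, C.symm y x, hxy, C.self, hp1, hp2, hj1, hj2]
      field_simp
      linear_combination (Q x * cx u ^ 2 + Q y * cy u ^ 2) * hab


/-- Let F be a finite field with q elements, n ≥ 13 even, Q a non-degenerate quadratic form on F^n of minus type (no subspace of dimension n/2 is totally singular), and Ω the commutator subgroup of the isometry group of Q, viewed inside GL_n(F). Let W be a non-zero proper subspace on which the polar form of Q is non-degenerate, not of odd dimension n/2. Exclude the case q ≤ 3 in which W, or its orthogonal complement, is a plane containing a line on which Q vanishes. Then the elements of Ω stabilising W form a maximal subgroup of Ω. -/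
theorem result {F : Type*} [Field F] [Fintype F] {n : ℕ} (hn : 13 ≤ n) (heven : Even n) (Q : (Fin n → F) → F) (hQ : Cfsg.Geo.IsNondegenerateQuadraticForm Q) (hminus : ¬ Cfsg.Geo.IsPlusTypeOn Q ⊤) (W : Submodule F (Fin n → F)) (hW0 : W ≠ ⊥) (hW1 : W ≠ ⊤) (hdim : ¬ (2 * Module.finrank F W = n ∧ Odd (Module.finrank F W))) (hW : Cfsg.Geo.IsNondegenerateOn (QuadraticMap.polar Q) W) (hex : ¬ (Fintype.card F ≤ 3 ∧ (∃ U : Submodule F (Fin n → F), Module.finrank F U = 2 ∧ Cfsg.Geo.IsNondegenerateOn (QuadraticMap.polar Q) U ∧ Cfsg.Geo.IsPlusTypeOn Q U ∧ (U = W ∨ (Cfsg.Geo.AreOrthogonalFor (QuadraticMap.polar Q) U W ∧ Module.finrank F U + Module.finrank F W = n))))) : Cfsg.Geo.IsMaximalIn (Cfsg.Geo.omegaGL Q) (Cfsg.Geo.subspaceStabilizer W ⊓ Cfsg.Geo.omegaGL Q) := by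
  obtain ⟨B, C⟩ := exists_space hQ
  have hn' : Fintype.card (Fin n) = n := Fintype.card_fin n
  refine nondeg_max C (by omega) (ndeg_of_geo C hW) hW0 hW1 (fun h2 => ?_) ?_
  · rintro ⟨g, hg, hgW⟩
    have hev : Even (finrank F W) :=
      (Nat.even_or_odd _).resolve_right fun ho => hdim ⟨by omega, ho⟩
    have S := split_of_ndeg C (ndeg_of_geo C hW)
    have hadd := S.finrank_add C
    obtain ⟨r, hr⟩ := hev
    obtain ⟨J, hJ⟩ := antiIso C r (perpIn B ⊤ W) S.ndU (by omega)
    let φ : perpIn B ⊤ W →ₗ[F] (Fin n → F) :=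
      (perpIn B ⊤ W).subtype + (Matrix.mulVecLin g.val).comp ((perpIn B ⊤ W).subtype.comp J)
    have hinj : Function.Injective φ := by
      rw [injective_iff_map_eq_zero]
      intro u hu
      exact Subtype.ext (S.eq_parts C u.2 (Submodule.zero_mem _) (hgW _ (J u).2) W.zero_mem
        (by rw [add_zero]; exact hu)).1
    refine hminus ⟨LinearMap.range φ, le_top, ?_, ?_⟩
    · rintro _ ⟨u, rfl⟩
      show Q ((u : Fin n → F) + g.val *ᵥ (J u : Fin n → F)) = 0
      rw [C.add, mem_iso.mp hg, hJ, S.orth _ u.2 _ (hgW _ (J u).2)]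
      simp
    · rw [LinearMap.finrank_range_of_inj hinj, finrank_top, finrank_fin_fun]
      omega
  · intro U h3 h2 hU hpl hUW
    rw [Nat.card_eq_fintype_card] at h3
    refine hex ⟨h3, U, h2, geo_of_ndeg C hU, hpl, hUW.imp id fun h => ⟨fun u hu w hw => ?_, ?_⟩⟩
    · rw [C.polar]; exact h.1 u hu w hw
    · simpa using h.2

end Cfsg.Agent.S5689
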