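import Cfsg.Statements.S5694
import Cfsg.Agent.Lib.Linear.ODec.Max
import Cfsg.Agent.Lib.Linear.OrthOdd

set_option autoImplicit false
open Cfsg

namespace Cfsg.Agent.S5694

open Module Cfsg.Lib.Linear.Orth Cfsg.Lib.Linear.ODec

/-- Let F be a finite field with q elements, n ≥ 13 even, Q a non-degenerate quadratic form on F^n of minus type (no subspace of dimension n/2 is totally singular), and Ω the commutator subgroup of the isometry group of Q, viewed inside GL_n(F). Let D be a decomposition of F^n into t ≥ 2 pairwise orthogonal, pairwise Q-isometric subspaces of equal dimension k ≥ 2 on which the polar form is non-degenerate, such that: if k is odd, q is odd and the discriminant of Q is a square; if k is even, t is odd and no member is of plus type. Unless q = 3 and k ∈ {2, 3}, the elements of Ω permuting the members of D form a maximal subgroup of Ω. -/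
theorem result {F : Type*} [Field F] [Fintype F] {n : ℕ} (hn : 13 ≤ n) (heven : Even n) (Q : (Fin n → F) → F) (hQ : Cfsg.Geo.IsNondegenerateQuadraticForm Q) (hminus : ¬ Cfsg.Geo.IsPlusTypeOn Q ⊤) {t : ℕ} (k : ℕ) (hk : 2 ≤ k) (D : Fin t → Submodule F (Fin n → F)) (hD : Cfsg.Geo.IsOrthogonalMDecomposition Q k D) (hko : Odd k → (Odd (Fintype.card F) ∧ Cfsg.Geo.HasSquareDiscriminant Q)) (hke : Even k → (Odd t ∧ ∀ i, ¬ Cfsg.Geo.IsPlusTypeOn Q (D i))) (hex : ¬ (Fintype.card F = 3 ∧ (k = 2 ∨ k = 3))) : Cfsg.Geo.IsMaximalIn (Cfsg.Geo.omegaGL Q) (Cfsg.Geo.decompositionStabilizer D ⊓ Cfsg.Geo.omegaGL Q) := by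
  obtain ⟨B, C⟩ := exists_space hQ
  rcases Nat.even_or_odd k with hev | hod
  · obtain ⟨-, hnp⟩ := hke hev
    have ht := hD.decomp.decomp.two_le
    exact (dec_of_geo C (by simpa using hn) hk hD).maximal
      ((dec_of_geo C (by simpa using hn) hk hD).small_of hev (fun h h3 => hex ⟨h3, Or.inl h⟩)
        (fun _ hall => absurd (hall ⟨0, by omega⟩) (hnp _))
        (fun _ _ hall => hnp ⟨0, by omega⟩ (hall _)))
  · have hq := (hko hod).1
    have h2 := two_ne_zero_of_odd_card hq
    have hk2 := Nat.odd_iff.mp hod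
    refine (blocks_of_geo C h2 (by omega) hD).maximal ?_
    by_cases h5 : 5 ≤ k
    · exact Or.inl h5
    refine Or.inr (exists_mu ?_)
    have hne : Fintype.card F ≠ 3 := fun h => hex ⟨h, Or.inr (by omega)⟩
    have := Fintype.one_lt_card (α := F)
    have := Nat.odd_iff.mp hq
    omega

end Cfsg.Agent.S5694
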