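import Cfsg.Statements.S5697
import Cfsg.Agent.Lib.Linear.OrthPair
-- import your own Cfsg.Agent.* helpers here

set_option autoImplicit false
open Cfsg

namespace Cfsg.Agent.S5697

open Module Cfsg.Lib.Linear.Orth
open scoped Matrix

/-- Let F be a finite field with q elements, n ≥ 13 even, Q a non-degenerate quadratic form on F^n of plus type (some subspace of dimension n/2 is totally singular), and Ω the commutator subgroup of the isometry group of Q, viewed inside GL_n(F). Suppose n/2 is even and let D be a decomposition of F^n into two complementary subspaces of dimension n/2 on each of which Q vanishes. Then the elements of Ω preserving or interchanging the two subspaces form a maximal subgroup of Ω. -/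
theorem result {F : Type*} [Field F] [Fintype F] {n : ℕ} (hn : 13 ≤ n) (heven : Even n) (Q : (Fin n → F) → F) (hQ : Cfsg.Geo.IsNondegenerateQuadraticForm Q) (hplus : Cfsg.Geo.IsPlusTypeOn Q ⊤) (k : ℕ) (hk : 2 * k = n) (hke : Even k) (D : Fin 2 → Submodule F (Fin n → F)) (hD : Cfsg.Geo.IsMDecomposition k D) (hts : ∀ i, Cfsg.Geo.IsTotallySingularQuad Q (D i)) : Cfsg.Geo.IsMaximalIn (Cfsg.Geo.omegaGL Q) (Cfsg.Geo.decompositionStabilizer D ⊓ Cfsg.Geo.omegaGL Q) := by
  obtain ⟨B, C⟩ := exists_space hQ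
  have hc : Fintype.card (Fin n) = n := Fintype.card_fin n
  have P := halfPair_of_decomp hk hD hts
  have hM2 : 2 ≤ finrank F (D 0) := by rw [hD.finrank_eq]; omega
  obtain ⟨u, hu, hu0⟩ := Submodule.exists_mem_ne_zero_of_ne_bot
    (p := D 0) (fun h => by rw [h, finrank_bot] at hM2; omega)
  obtain ⟨a, ha, ha'⟩ : ∃ a ∈ D 0, a ∉ Submodule.span F {u} :=
    SetLike.not_le_iff_exists.mp (show ¬ D 0 ≤ Submodule.span F {u} from fun h => by
      have := Submodule.finrank_mono h
      rw [finrank_span_singleton hu0] at this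
      omega)
  obtain ⟨hfix, q, hq, hqN, hqM⟩ := P.mover C hu ha ha' hu0
  have hgΩ : sGL Q B u a ∈ Cfsg.Geo.omegaGL Q := by
    rw [omegaGL_eq C (by omega)]
    exact sGL_mem_root trivial trivial (P.left.1 u hu) (ts_orth C P.left.1 hu ha)
  refine ⟨lt_of_le_of_ne inf_le_right fun heq => ?_, fun H hLH hHΩ => ?_⟩
  · have hmem : sGL Q B u a ∈ Cfsg.Geo.decompositionStabilizer D := by
      have : sGL Q B u a ∈ Cfsg.Geo.decompositionStabilizer D ⊓ Cfsg.Geo.omegaGL Q := by
        rw [heq]; exact hgΩ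
      exact this.1
    rcases mem_decompStab_two.mp hmem with ⟨-, h1⟩ | ⟨-, h1⟩
    · exact hqN (h1 ▸ ⟨q, hq, rfl⟩)
    · exact hqM (h1 ▸ ⟨q, hq, rfl⟩)
  obtain ⟨σ, hσ, hσM, hσN⟩ := P.exists_swapper C (by omega) (hD.finrank_eq 0) hke
  have hσL : σ ∈ Cfsg.Geo.decompositionStabilizer D := by
    refine mem_decompStab_two.mpr (Or.inr ⟨?_, ?_⟩) <;>
      refine Submodule.eq_of_le_of_finrank_eq ?_ (by
        rw [finrank_img, hD.finrank_eq, hD.finrank_eq])
    · exact fun _ ⟨y, hy, e⟩ => e ▸ hσM y hy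
    · exact fun _ ⟨y, hy, e⟩ => e ▸ hσN y hy
  have hHI : H ≤ isometryGroup F Q :=
    hHΩ.trans (omegaGL_eq C (by omega : 5 ≤ Fintype.card (Fin n)) ▸ root_le_iso C ⊤)
  have hstab : Cfsg.Geo.subspaceStabilizer (D 0) ⊓ Cfsg.Geo.subspaceStabilizer (D 1) ⊓
      Cfsg.Geo.omegaGL Q ≤ H := fun g hg => hLH (by
    refine ⟨mem_decompStab_two.mpr (Or.inl ⟨?_, ?_⟩), hg.2⟩ <;>
      refine Submodule.eq_of_le_of_finrank_eq ?_ (finrank_img _ _)
    · exact fun _ ⟨y, hy, e⟩ => e ▸ stab_mem hg.1.1 hy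
    · exact fun _ ⟨y, hy, e⟩ => e ▸ stab_mem hg.1.2 hy)
  rcases P.stab_or_top C (by omega) hHI hstab (hLH ⟨hσL, hσ⟩) hσM hσN with h | h
  · exact Or.inl (le_antisymm (fun g hg => ⟨mem_decompStab_two.mpr (h g hg), hHΩ hg⟩) hLH)
  · exact Or.inr (le_antisymm hHΩ h)

end Cfsg.Agent.S5697
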