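import Cfsg.Statements.S5698
import Cfsg.Agent.Lib.Linear.OrthPair
-- import your own Cfsg.Agent.* helpers here

set_option autoImplicit false
open Cfsg

namespace Cfsg.Agent.S5698

open Module Cfsg.Lib.Linear.Orth
open scoped Matrix

/-- Let F be a finite field with q elements, n ≥ 13 even, Q a non-degenerate quadratic form on F^n of plus type (some subspace of dimension n/2 is totally singular), and Ω the commutator subgroup of the isometry group of Q, viewed inside GL_n(F). Suppose n/2 is odd and let D be a decomposition of F^n into two complementary subspaces of dimension n/2 on each of which Q vanishes. Then the elements of Ω preserving or interchanging the two subspaces form a subgroup that is not maximal: some subgroup lies strictly between it and Ω. -/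
theorem result {F : Type*} [Field F] [Fintype F] {n : ℕ} (hn : 13 ≤ n) (heven : Even n) (Q : (Fin n → F) → F) (hQ : Cfsg.Geo.IsNondegenerateQuadraticForm Q) (hplus : Cfsg.Geo.IsPlusTypeOn Q ⊤) (k : ℕ) (hk : 2 * k = n) (hko : Odd k) (D : Fin 2 → Submodule F (Fin n → F)) (hD : Cfsg.Geo.IsMDecomposition k D) (hts : ∀ i, Cfsg.Geo.IsTotallySingularQuad Q (D i)) : ∃ K : Subgroup (Matrix.GeneralLinearGroup (Fin n) F), Cfsg.Geo.decompositionStabilizer D ⊓ Cfsg.Geo.omegaGL Q < K ∧ K < Cfsg.Geo.omegaGL Q := by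
  obtain ⟨B, C⟩ := exists_space hQ
  have hc : Fintype.card (Fin n) = n := Fintype.card_fin n
  have P := halfPair_of_decomp hk hD hts
  have hM2 : 2 ≤ finrank F (D 0) := by rw [hD.finrank_eq]; omega
  obtain ⟨u, hu, hu0⟩ := Submodule.exists_mem_ne_zero_of_ne_bot
    (p := D 0) (fun h => by rw [h, finrank_bot] at hM2; omega)
  obtain ⟨a, ha, ha'⟩ : ∃ a ∈ D 0, a ∉ Submodule.span F {u} :=
    SetLike.not_le_iff_exists.mp (show ¬ D 0 ≤ Submodule.span F {u} from fun h => by
      have := Submodule.finrank_mono h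
      rw [finrank_span_singleton hu0] at this
      omega)
  obtain ⟨hfix, q, hq, hqN, hqM⟩ := P.mover C hu ha ha' hu0
  have hgΩ : sGL Q B u a ∈ Cfsg.Geo.omegaGL Q := by
    rw [omegaGL_eq C (by omega)]
    exact sGL_mem_root trivial trivial (P.left.1 u hu) (ts_orth C P.left.1 hu ha)
  refine ⟨Cfsg.Geo.subspaceStabilizer (D 0) ⊓ Cfsg.Geo.omegaGL Q,
    lt_of_le_not_ge (fun g hg => ⟨mem_stab_of_mapsTo fun y hy => ?_, hg.2⟩) (fun hle => ?_), ?_⟩
  · rcases mem_decompStab_two.mp hg.1 with ⟨h0, -⟩ | ⟨h0, -⟩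
    · exact h0 ▸ ⟨y, hy, rfl⟩
    · exfalso
      have h1 := omega_parity C (by omega) hg.2 P.left P.left
      rw [h0, inf_idem, P.disj, finrank_bot, hD.finrank_eq] at h1
      have := Nat.odd_iff.mp hko
      omega
  · rcases mem_decompStab_two.mp (hle ⟨hfix, hgΩ⟩).1 with ⟨-, h1⟩ | ⟨-, h1⟩
    · exact hqN (h1 ▸ ⟨q, hq, rfl⟩)
    · exact hqM (h1 ▸ ⟨q, hq, rfl⟩)
  · exact (singular_max C (by omega) (fun h => hu0 (by rw [h] at hu; simpa using hu))
      P.left.1 fun N hN hlt => by
        have h1 := Submodule.finrank_lt_finrank_of_lt hlt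
        have h2 := ts_bound C hN
        have h3 := P.left.2
        omega).1

end Cfsg.Agent.S5698
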