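import Cfsg.Statements.S5699
import Cfsg.Agent.Lib.Linear.OrthSplitMax

set_option autoImplicit false
open Cfsg

namespace Cfsg.Agent.S5699

open Module Cfsg.Lib.Linear.Orth
open scoped Matrix

/-- Let F be a finite field with q elements, n ≥ 13 even, Q a non-degenerate quadratic form on F^n (of either type), and Ω the commutator subgroup of the isometry group of Q, viewed inside GL_n(F). Let D be a decomposition of F^n into two orthogonal subspaces of odd dimension n/2 on which the polar form is non-degenerate and which are not Q-isometric to each other. Then the elements of Ω permuting (necessarily fixing) the two subspaces form a maximal subgroup of Ω. -/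
theorem result {F : Type*} [Field F] [Fintype F] {n : ℕ} (hn : 13 ≤ n) (heven : Even n) (Q : (Fin n → F) → F) (hQ : Cfsg.Geo.IsNondegenerateQuadraticForm Q) (k : ℕ) (hk : 2 * k = n) (hko : Odd k) (D : Fin 2 → Submodule F (Fin n → F)) (hD : Cfsg.Geo.IsNondegenerateMDecomposition (QuadraticMap.polar Q) k D) (hni : ¬ Cfsg.Geo.AreIsometricFor Q (D 0) (D 1)) : Cfsg.Geo.IsMaximalIn (Cfsg.Geo.omegaGL Q) (Cfsg.Geo.decompositionStabilizer D ⊓ Cfsg.Geo.omegaGL Q) := by
  obtain ⟨B, C⟩ := exists_space hQ
  have hn' : Fintype.card (Fin n) = n := Fintype.card_fin n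
  have S : Split Q B (D 1) (D 0) := by
    refine ⟨ndeg_of_geo C (hD.nondegenerate 1), ndeg_of_geo C (hD.nondegenerate 0),
      fun u hu w hw => ?_, ?_⟩
    · rw [← C.polar]; exact hD.orthogonal 1 0 (by decide) u hu w hw
    · rw [eq_top_iff, ← hD.decomp.iSup_eq_top]
      refine iSup_le fun i => ?_
      fin_cases i
      exacts [le_sup_right, le_sup_left]
  have hd : ∀ i, finrank F (D i) = k := hD.decomp.finrank_eq
  have no_iso : ∀ {g : GL (Fin n) F}, g ∈ isometryGroup F Q →
      ¬ ∀ u ∈ D 1, g.val *ᵥ u ∈ D 0 := by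
    intro g hg h
    have hle : (D 1).map (Matrix.mulVecLin g.val) = D 0 :=
      Submodule.eq_of_le_of_finrank_eq (fun _ ⟨z, hz, e⟩ => e ▸ h z hz) (by
        rw [(Submodule.equivMapOfInjective _ (act_injective g) (D 1)).finrank_eq.symm, hd, hd])
    let e := (Submodule.equivMapOfInjective (Matrix.mulVecLin g.val) (act_injective g) (D 1)).trans
      (LinearEquiv.ofEq _ _ hle)
    refine hni ⟨e.symm, fun w => ?_⟩
    obtain ⟨u, rfl⟩ := e.surjective w
    rw [LinearEquiv.symm_apply_apply]
    exact (mem_iso.mp hg u).symm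
  have hstab : Cfsg.Geo.decompositionStabilizer D ⊓ Cfsg.Geo.omegaGL Q =
      Cfsg.Geo.subspaceStabilizer (D 0) ⊓ Cfsg.Geo.omegaGL Q := by
    ext g
    refine ⟨fun ⟨⟨σ, hσ⟩, hg⟩ => ⟨mem_stab_of_mapsTo fun v hv => ?_, hg⟩, fun hg => ?_⟩
    · have hσ1 : σ 1 = 1 := by
        by_contra hne
        refine no_iso (Subgroup.map_subtype_le _ hg) fun u hu => ?_
        have h1 : σ 1 = 0 := by revert hne; generalize σ 1 = i; fin_cases i <;> simp
        rw [← h1, ← hσ 1]
        exact ⟨u, hu, Matrix.toLin'_apply g.val u⟩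
      have hσ0 : σ 0 = 0 := by
        have h := σ.injective.ne (show (0 : Fin 2) ≠ 1 by decide)
        rw [hσ1] at h
        revert h; generalize σ 0 = i; fin_cases i <;> simp
      rw [← hσ0, ← hσ 0]
      exact ⟨v, hv, Matrix.toLin'_apply g.val v⟩
    · have hgU : g ∈ Cfsg.Geo.subspaceStabilizer (D 1) ⊓ Cfsg.Geo.omegaGL Q :=
        (le_of_eq (S.stab_eq C)) hg
      refine ⟨⟨1, fun i => ?_⟩, hg.2⟩
      refine Submodule.eq_of_le_of_finrank_eq ?_
        (Submodule.equivMapOfInjective _ (fun a b hab => act_injective g (by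
          simpa [Matrix.toLin'_apply] using hab)) (D i)).finrank_eq.symm
      rintro _ ⟨z, hz, rfl⟩
      rw [Matrix.toLin'_apply]
      fin_cases i
      exacts [stab_mem hg.1 hz, stab_mem hgU.1 hz]
  rw [hstab]
  refine split_max C S (by rw [hd]; omega) (fun h => ?_) (Or.inr (Or.inl (by rw [hd]; omega))) ?_
  · have := hd 0
    rw [h, finrank_bot] at this
    omega
  · rintro ⟨g, hg, h⟩
    exact no_iso hg h

end Cfsg.Agent.S5699
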