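import Cfsg.Statements.S5701
import Cfsg.Agent.Lib.Linear.OrthExt.Max
import Cfsg.Agent.Lib.Linear.OrthOdd

set_option autoImplicit false
open Cfsg

namespace Cfsg.Agent.S5701

/-- Let F be a finite field with q elements, n ≥ 13 even, Q a non-degenerate quadratic form on F^n (of either type), and Ω the commutator subgroup of the isometry group of Q, viewed inside GL_n(F). Suppose q is odd. Let K be a subfield of the algebra of n × n matrices over F containing the scalars, of prime degree r over F with n/r ≥ 3, whose elements are self-adjoint for the polar form of Q. Then the elements of Ω normalising K form a maximal subgroup of Ω. -/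
theorem result {F : Type*} [Field F] [Fintype F] {n : ℕ} (hn : 13 ≤ n) (heven : Even n) (Q : (Fin n → F) → F) (hQ : Cfsg.Geo.IsNondegenerateQuadraticForm Q) (hodd : Odd (Fintype.card F)) (r : ℕ) (hr : r.Prime) (hnr : 3 * r ≤ n) (K : Subalgebra F (Matrix (Fin n) (Fin n) F)) (hK : Cfsg.Geo.IsFieldSubalgebra r K) (hsa : Cfsg.Geo.IsSelfAdjointFor (QuadraticMap.polar Q) K) : Cfsg.Geo.IsMaximalIn (Cfsg.Geo.omegaGL Q) (Cfsg.Geo.subalgebraNormalizer K ⊓ Cfsg.Geo.omegaGL Q) := by
  obtain ⟨B, C⟩ := Cfsg.Lib.Linear.Orth.exists_space hQ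
  obtain ⟨s, hs⟩ := heven
  have h2 := hr.two_le
  refine Cfsg.Lib.Linear.OrthExt.maximal C (Cfsg.Lib.Linear.Orth.two_ne_zero_of_odd_card hodd) hr K hK hsa ?_ ?_
  · -- the dimension over the field is at least four
    rw [Fintype.card_fin]
    by_contra hlt
    obtain ⟨d, hd⟩ : r ∣ n := by
      rw [← hK.finrank_eq]
      letI : Field K := (Cfsg.Lib.Linear.OrthExt.isField_of K ⟨⟨0, by omega⟩⟩ hK.comm hK.inv).toField
      letI : Module K (Fin n → F) := Cfsg.Lib.Linear.OrthExt.moduleK K
      haveI : IsScalarTower F K (Fin n → F) :=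
        ⟨fun c k v => show Matrix.mulVec (c • (k : Matrix (Fin n) (Fin n) F)) v =
          c • Matrix.mulVec (k : Matrix (Fin n) (Fin n) F) v from Matrix.smul_mulVec c _ v⟩
      have h := Module.finrank_mul_finrank F K (Fin n → F)
      rw [Module.finrank_fin_fun] at h
      exact ⟨_, h.symm⟩
    have hd3 : d = 3 := by
      have h3 : r * 3 ≤ r * d := by omega
      have h4 : r * d < r * 4 := by omega
      have := Nat.le_of_mul_le_mul_left h3 (by omega)
      have := Nat.lt_of_mul_lt_mul_left h4
      omega
    subst hd3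
    have : r = 2 := by
      rcases hr.eq_two_or_odd with h | h
      · exact h
      · omega
    omega
  · rw [Fintype.card_fin]
    omega

end Cfsg.Agent.S5701
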