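import Cfsg.Agent.Lib.Linear.SpinPower
-- import your own Cfsg.Agent.* helpers here

set_option autoImplicit false
open Cfsg

namespace Cfsg.Agent.S5707

/-- Let F be a finite field with q elements, n ≥ 13 even, Q a non-degenerate quadratic form on F^n of plus type (some subspace of dimension n/2 is totally singular), and Ω the commutator subgroup of the isometry group of Q, viewed inside GL_n(F). Suppose q is even and that, through P and e, the polar form of Q is similar to the t-fold tensor power (t ≥ 2) of a non-degenerate symplectic form f₁ on F^k with k ≤ 4 and (q, k) ≠ (2, 2), Q vanishing on the images of all pure tensors. Then the elements of Ω in the stabiliser of this decomposition form a subgroup that is not maximal: some subgroup lies strictly between it and Ω. -/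
theorem result {F : Type*} [Field F] [Fintype F] {n : ℕ} (hn : 13 ≤ n) (heven : Even n) (Q : (Fin n → F) → F) (hQ : Cfsg.Geo.IsNondegenerateQuadraticForm Q) (hplus : Cfsg.Geo.IsPlusTypeOn Q ⊤) (hchar : ¬ Odd (Fintype.card F)) (k t : ℕ) (ht : 2 ≤ t) (hk : k ≤ 4) (hex1 : ¬ (Fintype.card F = 2 ∧ k = 2)) (e : (Fin n) ≃ (Fin t → Fin k)) (P : Matrix.GeneralLinearGroup (Fin n) F) (f₁ : (Fin k → F) → (Fin k → F) → F) (hf₁ : Cfsg.Geo.IsSymplecticForm f₁) (hT : Cfsg.Geo.IsTensorPowerFormStructure id (QuadraticMap.polar Q) f₁ e P) (hpure : (∀ xs : Fin t → (Fin k → F), Q (Matrix.mulVec (P : Matrix (Fin n) (Fin n) F) ((fun a : Fin t → Fin k => ∏ i, xs i (a i)) ∘ e)) = 0)) : ∃ K : Subgroup (Matrix.GeneralLinearGroup (Fin n) F), Cfsg.Geo.tensorWreathSubgroup k t e P ⊓ Cfsg.Geo.omegaGL Q < K ∧ K < Cfsg.Geo.omegaGL Q := by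
  classical
  obtain ⟨B, C⟩ := Cfsg.Lib.Linear.Orth.exists_space hQ
  have h2 : (2 : F) = 0 := by
    by_contra h
    exact hchar (Nat.odd_iff.2 (FiniteField.odd_card_of_char_ne_two fun h' => h (by
      have h'' : ((ringChar F : ℕ) : F) = 0 := CharP.cast_eq_zero F (ringChar F)
      rwa [h'] at h'')))
  obtain ⟨c, hc, hform⟩ := hT
  refine Cfsg.Lib.Linear.Spin.symp_power_not_max C h2 ht (by rw [Fintype.card_fin]; omega) hk hc
    (A := Cfsg.Geo.gramMatrix f₁) (fun i => hf₁.alternating _) (fun i j => ?_) ?_ hpure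
  · show f₁ _ _ = f₁ _ _
    rw [hf₁.skew]
    refine neg_eq_of_add_eq_zero_left ?_
    rw [← two_mul, h2, zero_mul]
  · ext a b
    have h := hform (Pi.single a 1) (Pi.single b 1)
    rw [C.polar, Cfsg.Lib.Linear.AschOrth.coord_form C] at h
    simpa [Matrix.mulVec_single_one, Pi.single_apply, Cfsg.Lib.Linear.AschGen.pureTens] using h

end Cfsg.Agent.S5707
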