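import Cfsg.Statements.S5709
import Cfsg.Agent.Lib.Linear.OOTensor.Apply

set_option autoImplicit false
open Cfsg

namespace Cfsg.Agent.S5709

/-- Let F be a finite field with q elements, n ≥ 13 even, Q a non-degenerate quadratic form on F^n of minus type (no subspace of dimension n/2 is totally singular), and Ω the commutator subgroup of the isometry group of Q, viewed inside GL_n(F). Suppose q is odd and that, through a change of basis P and a bijection of index sets e, the polar form of Q is similar to the tensor product of non-degenerate symmetric bilinear forms f₁ on F^(n₁), n₁ odd and at least 3, and f₂ on F^(n₂), n₂ even and at least 4 with no totally isotropic subspace of dimension n₂/2 (minus type). Unless q = 3 and n₁ = 3, the elements of Ω in the stabiliser of this tensor decomposition form a maximal subgroup of Ω. -/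
theorem result {F : Type*} [Field F] [Fintype F] {n : ℕ} (hn : 13 ≤ n) (heven : Even n) (Q : (Fin n → F) → F) (hQ : Cfsg.Geo.IsNondegenerateQuadraticForm Q) (hminus : ¬ Cfsg.Geo.IsPlusTypeOn Q ⊤) (hodd : Odd (Fintype.card F)) (n₁ n₂ : ℕ) (h1 : 3 ≤ n₁) (h1o : Odd n₁) (h2 : 4 ≤ n₂) (h2e : Even n₂) (hex : ¬ (Fintype.card F = 3 ∧ n₁ = 3)) (e : (Fin n) ≃ Fin n₁ × Fin n₂) (P : Matrix.GeneralLinearGroup (Fin n) F) (f₁ : (Fin n₁ → F) → (Fin n₁ → F) → F) (f₂ : (Fin n₂ → F) → (Fin n₂ → F) → F) (hf₁ : Cfsg.Geo.IsSymmetricForm f₁) (hf₂ : Cfsg.Geo.IsSymmetricForm f₂) (hf₂m : ¬ Cfsg.Geo.IsPlusTypeOn (fun v : Fin n₂ → F => f₂ v v) ⊤) (hT : Cfsg.Geo.IsTensorFormStructure id (QuadraticMap.polar Q) f₁ f₂ e P) : Cfsg.Geo.IsMaximalIn (Cfsg.Geo.omegaGL Q) (Cfsg.Geo.tensorProductSubgroup n₁ n₂ e P ⊓ Cfsg.Geo.omegaGL Q) := by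
  have hcard : n = n₁ * n₂ := by simpa using Fintype.card_congr e
  have h2' : (2 : F) ≠ 0 := Cfsg.Lib.Linear.Orth.two_ne_zero_of_odd_card hodd
  have h4 : n₂ = 4 → ∀ U : Submodule F (Fin n₂ → F), (∀ v ∈ U, f₂ v v = 0) →
      Module.finrank F U ≠ 2 := fun h U hU hd =>
    hf₂m ⟨U, le_top, hU, by rw [finrank_top, Module.finrank_fin_fun, hd, h]⟩
  obtain ⟨a, ha⟩ := h1o
  obtain ⟨b, hb⟩ := h2e
  rcases Nat.lt_or_ge n₁ n₂ with hlt | hge
  · have h6 : 5 ≤ n₂ := by
      by_contra hcon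
      have e1 : n₂ = 4 := by omega
      have e2 : n₁ = 3 := by omega
      rw [e1, e2] at hcard
      omega
    refine Cfsg.Lib.Linear.OOTensor.maximal e P hQ hodd hf₁ hf₂ hT h1 h6 hlt (Or.inl ⟨a, ha⟩) hex ?_
    rcases Nat.lt_or_ge n₁ 4 with h | h
    · exact Or.inr (Cfsg.Lib.Linear.OOTensor.dep_of_no_plane hf₁
        (Cfsg.Lib.Linear.OOTensor.no_plane_three hf₁ h2' (by omega)))
    · exact Or.inl (by omega)
  · rw [Cfsg.Lib.Linear.OOTensor.stabiliser_swap e P]
    refine Cfsg.Lib.Linear.OOTensor.maximal _ P hQ hodd hf₂ hf₁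
      (Cfsg.Lib.Linear.OOTensor.structure_swap hT) (by omega) (by omega) (by omega) (Or.inr ⟨a, ha⟩)
      (by omega) ?_
    rcases Nat.lt_or_ge n₂ 5 with h | h
    · exact Or.inr (Cfsg.Lib.Linear.OOTensor.dep_of_no_plane hf₂ (h4 (by omega)))
    · exact Or.inl h

end Cfsg.Agent.S5709
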