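import Cfsg.Statements.S5711
import Cfsg.Agent.Lib.Linear.Mitchell.Sub3.Main

set_option autoImplicit false
open scoped MatrixGroups
open Cfsg

namespace Cfsg.Agent.S5711

/-- The subgroups of the three-dimensional projective special linear group over a finite field of odd order q = p^α with no nontrivial normal elementary abelian subgroup. Every nontrivial subgroup H of PSL₃(q) having no normal elementary abelian subgroup other than 1 satisfies one of: H ≅ PSL₃(p^β) with β ∣ α; H ≅ PSU₃(p^β) (realised over the field with p^{2β} elements) with 2β ∣ α; 3 ∣ p^β − 1, 3β ∣ α and H has a subgroup of index 3 isomorphic to PSL₃(p^β); 3 ∣ p^β + 1, 6β ∣ α and H has a subgroup of index 3 isomorphic to PSU₃(p^β); H ≅ PSL₂(p^β) or PGL₂(p^β) with β ∣ α and p^β ≠ 3; H ≅ PSL₂(5) with q ≡ ±1 (mod 10); H ≅ PSL₂(7) with q³ ≡ 1 (mod 7); p = 5, α is even and H ≅ A₆ or A₇ or H has a subgroup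 of index 2 isomorphic to A₆; H ≅ A₆ with q ≡ 1 or 19 (mod 30). -/
theorem result {F : Type*} [Field F] [Fintype F] (p α : ℕ) [Fact p.Prime] (hp : p ≠ 2) (hα : 1 ≤ α) (hF : Fintype.card F = p ^ α)
    (H : Subgroup (Matrix.ProjectiveSpecialLinearGroup (Fin 3) F)) (hH : H ≠ ⊥)
    (hN : ∀ N : Subgroup ↥H, N.Normal → IsMulCommutative ↥N → (∃ r : ℕ, r.Prime ∧ ∀ x ∈ N, x ^ r = 1) → N = ⊥) :
    (∃ (K : Type) (_ : Field K) (_ : Fintype K) (β : ℕ), Fintype.card K = p ^ β ∧ β ∣ α ∧ Nonempty (↥H ≃* Matrix.ProjectiveSpecialLinearGroup (Fin 3) K)) ∨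
    (∃ (K : Type) (_ : Field K) (_ : Fintype K) (β : ℕ), Fintype.card K = p ^ (2 * β) ∧ 2 * β ∣ α ∧ Nonempty (↥H ≃* Cfsg.PSU 3 K (p ^ β))) ∨
    (∃ (K : Type) (_ : Field K) (_ : Fintype K) (β : ℕ), Fintype.card K = p ^ β ∧ 3 ∣ p ^ β - 1 ∧ 3 * β ∣ α ∧ ∃ L : Subgroup ↥H, L.index = 3 ∧ Nonempty (↥L ≃* Matrix.ProjectiveSpecialLinearGroup (Fin 3) K)) ∨
    (∃ (K : Type) (_ : Field K) (_ : Fintype K) (β : ℕ), Fintype.card K = p ^ (2 * β) ∧ 3 ∣ p ^ β + 1 ∧ 6 * β ∣ α ∧ ∃ L : Subgroup ↥H, L.index = 3 ∧ Nonempty (↥L ≃* Cfsg.PSU 3 K (p ^ β))) ∨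
    (∃ (K : Type) (_ : Field K) (_ : Fintype K) (β : ℕ), Fintype.card K = p ^ β ∧ β ∣ α ∧ p ^ β ≠ 3 ∧ (Nonempty (↥H ≃* Matrix.ProjectiveSpecialLinearGroup (Fin 2) K) ∨ Nonempty (↥H ≃* (GL (Fin 2) K ⧸ Subgroup.center (GL (Fin 2) K))))) ∨
    ((p ^ α % 10 = 1 ∨ p ^ α % 10 = 9) ∧ ∃ (K : Type) (_ : Field K) (_ : Fintype K), Fintype.card K = 5 ∧ Nonempty (↥H ≃* Matrix.ProjectiveSpecialLinearGroup (Fin 2) K)) ∨
    ((p ^ α) ^ 3 % 7 = 1 ∧ ∃ (K : Type) (_ : Field K) (_ : Fintype K), Fintype.card K = 7 ∧ Nonempty (↥H ≃* Matrix.ProjectiveSpecialLinearGroup (Fin 2) K)) ∨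
    (p = 5 ∧ Even α ∧ (Nonempty (↥H ≃* ↥(alternatingGroup (Fin 6))) ∨ Nonempty (↥H ≃* ↥(alternatingGroup (Fin 7))) ∨
      ∃ L : Subgroup ↥H, L.index = 2 ∧ Nonempty (↥L ≃* ↥(alternatingGroup (Fin 6))))) ∨
    ((p ^ α % 30 = 1 ∨ p ^ α % 30 = 19) ∧ Nonempty (↥H ≃* ↥(alternatingGroup (Fin 6)))) := by
  have hcp : CharP F p := charP_of_card_eq_prime_pow hF
  haveI : Finite ↥H := inferInstance
  obtain ⟨G, hSL, hZ, ⟨e⟩⟩ := Cfsg.Lib.Linear.Mitchell.Sub3.exists_preimage H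
  have hbot := Cfsg.Lib.Linear.Mitchell.Sub3.eq_bot_of_solvable hN
  have hG : Cfsg.Lib.Linear.Mitchell.Sub3.RadFree G :=
    Cfsg.Lib.Linear.Mitchell.Sub3.radFree_of_bar fun N hn hs => by
      have h := hbot (N.map e.toMonoidHom) (hn.map _ e.surjective)
        (Cfsg.Lib.Dickson.isSolvable_congr (e.subgroupMap N).symm hs)
      exact (Subgroup.map_eq_bot_iff_of_injective _ e.injective).1 h
  refine Cfsg.Lib.Linear.Mitchell.Sub3.cases_congr e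
    (Cfsg.Lib.Linear.Mitchell.Sub3.sub_cases p α hp hα hF hSL hZ hG fun hle => hH ?_)
  rw [Subgroup.eq_bot_iff_forall]
  intro h hh
  obtain ⟨z, hz⟩ := e.surjective ⟨h, hh⟩
  obtain ⟨g, rfl⟩ := Cfsg.Lib.Linear.Mitchell.Sub3.toBar_surjective G z
  rw [Cfsg.Lib.Linear.Mitchell.Sub3.toBar_eq_one.2 (hle g.2), map_one] at hz
  exact (congrArg Subtype.val hz).symm

end Cfsg.Agent.S5711
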