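import Cfsg.Agent.Lib.Linear.TransvX.Main
import Cfsg.Agent.Lib.Linear.TransvX.SixPoint
import Cfsg.Agent.Lib.Linear.SymplecticMax
import Cfsg.Agent.Lib.Core.Cores
import Cfsg.Agent.S0247

set_option autoImplicit false
open Cfsg

namespace Cfsg.Agent.S5712

open scoped Matrix
open Cfsg.Lib.Linear.TransvX Cfsg.Lib.Linear.Symp

/-- The form of the statement. -/
theorem form_eq {F : Type*} [Field F] [CharP F 2] {n : ℕ} (u v : Fin n ⊕ Fin n → F) :
    ∑ i : Fin n, (u (Sum.inl i) * v (Sum.inr i) + u (Sum.inr i) * v (Sum.inl i)) = spB n F u v := by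
  rw [spB_apply, Cfsg.sympForm, J_mulVec]
  simp only [dotProduct, Fintype.sum_sum_type, Sum.elim_inl, Sum.elim_inr, CharTwo.neg_eq, ← Finset.sum_add_distrib]

set_option maxHeartbeats 1000000 in
/-- Let F be a finite field of characteristic two, n ≥ 2, V = F^{2n} with the non-degenerate alternating form f(u, v) = Σ (u_i v_{n+i} + u_{n+i} v_i), and G the group of invertible matrices preserving f. Let a ≠ 0 be a vector, H its stabilizer in G, and X a subgroup of O₂(H) of order |F|^{2n−2} no element of which is a transvection (no element g has g − 1 of rank one). If L is a subgroup of G containing X that acts irreducibly on V (no proper non-zero L-invariant subspace), then L = G, or, for some quadratic form Q on V whose polar form is f, L is the isometry group of Q or its subgroup of the isometries g for which g − 1 has even rank, or |F| = 2, n = 2 and L is isomorphic to the alternating group of degree 6 or to the symmetric group of degree 5.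 -/
theorem result {F : Type*} [Field F] [Fintype F] [CharP F 2] {n : ℕ} (hn : 2 ≤ n) (a : (Fin n ⊕ Fin n → F)) (ha : a ≠ 0)
    (X : Subgroup (GL (Fin n ⊕ Fin n) F)) (hXG : X ≤ Cfsg.preserving (Units.coeHom (Matrix (Fin n ⊕ Fin n) (Fin n ⊕ Fin n) F)) (fun u v : (Fin n ⊕ Fin n → F) => ∑ i : Fin n, (u (Sum.inl i) * v (Sum.inr i) + u (Sum.inr i) * v (Sum.inl i))))
    (hXO : ∀ H : Subgroup (GL (Fin n ⊕ Fin n) F),
      (∀ g : GL (Fin n ⊕ Fin n) F, g ∈ H ↔ (g ∈ Cfsg.preserving (Units.coeHom (Matrix (Fin n ⊕ Fin n) (Fin n ⊕ Fin n) F)) (fun u v : (Fin n ⊕ Fin n → F) => ∑ i : Fin n, (u (Sum.inl i) * v (Sum.inr i) + u (Sum.inr i) * v (Sum.inl i))) ∧ Matrix.mulVec (g : Matrix (Fin n ⊕ Fin n) (Fin n ⊕ Fin n) F) a = a)) →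
      X ≤ (Cfsg.pCore 2 ↥H).map H.subtype)
    (hcard : Nat.card ↥X = Fintype.card F ^ (2 * n - 2))
    (hntv : ∀ x ∈ X, ((x : Matrix (Fin n ⊕ Fin n) (Fin n ⊕ Fin n) F) - 1).rank ≠ 1)
    (L : Subgroup (GL (Fin n ⊕ Fin n) F)) (hXL : X ≤ L) (hLG : L ≤ Cfsg.preserving (Units.coeHom (Matrix (Fin n ⊕ Fin n) (Fin n ⊕ Fin n) F)) (fun u v : (Fin n ⊕ Fin n → F) => ∑ i : Fin n, (u (Sum.inl i) * v (Sum.inr i) + u (Sum.inr i) * v (Sum.inl i))))
    (hirr : ∀ W : Submodule F (Fin n ⊕ Fin n → F), (∀ g ∈ L, ∀ w ∈ W, Matrix.mulVec (g : Matrix (Fin n ⊕ Fin n) (Fin n ⊕ Fin n) F) w ∈ W) → W = ⊥ ∨ W = ⊤) :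
    L = Cfsg.preserving (Units.coeHom (Matrix (Fin n ⊕ Fin n) (Fin n ⊕ Fin n) F)) (fun u v : (Fin n ⊕ Fin n → F) => ∑ i : Fin n, (u (Sum.inl i) * v (Sum.inr i) + u (Sum.inr i) * v (Sum.inl i))) ∨
    (∃ Q : QuadraticForm F (Fin n ⊕ Fin n → F), (∀ u v, QuadraticMap.polar ⇑Q u v = (fun u v : (Fin n ⊕ Fin n → F) => ∑ i : Fin n, (u (Sum.inl i) * v (Sum.inr i) + u (Sum.inr i) * v (Sum.inl i))) u v) ∧
      (L = Cfsg.isometryGroup F ⇑Q ∨
        ∀ g : GL (Fin n ⊕ Fin n) F, g ∈ L ↔ (g ∈ Cfsg.isometryGroup F ⇑Q ∧ Even ((g : Matrix (Fin n ⊕ Fin n) (Fin n ⊕ Fin n) F) - 1).rank))) ∨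
    (Fintype.card F = 2 ∧ n = 2 ∧ (Nonempty (↥L ≃* ↥(alternatingGroup (Fin 6))) ∨ Nonempty (↥L ≃* Equiv.Perm (Fin 5)))) := by
  classical
  set G := Cfsg.preserving (Units.coeHom (Matrix (Fin n ⊕ Fin n) (Fin n ⊕ Fin n) F)) (fun u v : (Fin n ⊕ Fin n → F) => ∑ i : Fin n, (u (Sum.inl i) * v (Sum.inr i) + u (Sum.inr i) * v (Sum.inl i))) with hG
  set B := spB n F with hB
  have memG : ∀ g : GL (Fin n ⊕ Fin n) F, g ∈ G ↔ ∀ u v, B (g.val *ᵥ u) (g.val *ᵥ v) = B u v := fun g => by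
    refine forall₂_congr fun u v => ?_
    show (∑ i : Fin n, ((g.val *ᵥ u) (Sum.inl i) * (g.val *ᵥ v) (Sum.inr i) +
      (g.val *ᵥ u) (Sum.inr i) * (g.val *ᵥ v) (Sum.inl i))) = _ ↔ _
    simp only [form_eq]; rfl
  have S : Sympl B := ⟨(spB_isAlt n F).self_eq_zero, (spB_nondegenerate n F).2⟩
  have hι : Fintype.card (Fin n ⊕ Fin n) = 2 * n := by simp [two_mul]
  let H : Subgroup (GL (Fin n ⊕ Fin n) F) :=
    { carrier := {g | g ∈ G ∧ g.val *ᵥ a = a}
      mul_mem' := fun {g h} hg hh => ⟨mul_mem hg.1 hh.1, by rw [Lib.Linear.Orth.mul_act, hh.2, hg.2]⟩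
      one_mem' := ⟨one_mem _, Matrix.one_mulVec a⟩
      inv_mem' := fun {g} hg => ⟨inv_mem hg.1, by
        conv_lhs => rw [← hg.2]
        exact Lib.Linear.Orth.inv_act g a⟩ }
  set N := (Cfsg.pCore 2 ↥H).map H.subtype with hNdef
  have hXN : X ≤ N := hXO H fun g => Iff.rfl
  have hNH : N ≤ H := Subgroup.map_subtype_le _
  haveI : Fact (Nat.Prime 2) := ⟨Nat.prime_two⟩
  have hN : IsPGroup 2 N := (Lib.Core.pCore_isPGroup 2 H).map H.subtype
  have hX : ∀ g ∈ X, ∃ v t, B a v = 0 ∧ g = el B a v t := fun g hg =>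
    exists_el S ha (by omega) N hN (fun k hk => (memG k).1 (hNH hk).1) (fun k hk => (hNH hk).2)
      (fun z hz k hk => by
        obtain ⟨k', hk', rfl⟩ := hk
        have ht : el B z 0 (1 : F) ∈ H := by
          refine ⟨(memG _).2 (el_preserves S (map_zero _) 1), ?_⟩
          rw [el_act S (map_zero _), S.symm z a, hz]
          simp
        exact ⟨⟨_, ht⟩ * k' * ⟨_, ht⟩⁻¹,
          (inferInstance : (Cfsg.pCore 2 ↥H).Normal).conj_mem k' hk' _, rfl⟩) (hXN hg)
  obtain ⟨φ, hφ⟩ := exists_rootFun S ha (by omega) X hX hntv (by rw [hι]; exact hcard)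
  have hφL : RootFun B L a φ := ⟨fun v hv => hXL (hφ.mem v hv), hφ.add⟩
  have C : Irr B L := ⟨S, fun g hg => (memG g).1 (hLG hg), hirr⟩
  rcases trichotomy C ha (by omega) ⟨n, by omega⟩ hφL with hall | ⟨b, P⟩ | ⟨hF, h4, hno, h60, hsix⟩
  · refine Or.inl (le_antisymm hLG fun g hg => ?_)
    have hA := spB_isAlt n F
    have hmem : glEquiv _ F g ∈ iso B := (memG g).1 hg
    rw [iso_eq_T (spB_nondegenerate n F) hA] at hmem
    have hle : T hA ⊥ ≤ L.map (glEquiv _ F).toMonoidHom := by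
      rw [T, Subgroup.closure_le]
      rintro _ ⟨v, -, c, rfl⟩
      refine ⟨el B v 0 c, hall v c, LinearEquiv.ext fun x => ?_⟩
      show glEquiv _ F (el B v 0 c) x = _
      rw [glEquiv_apply, el_act S (map_zero _), tv_apply, S.symm x v]
      simp
    obtain ⟨k, hk, e⟩ := hle hmem
    rwa [← (glEquiv _ F).injective e]
  · refine Or.inr (Or.inl ?_)
    have hpol : ∀ u v, QuadraticMap.polar (qfun B L a b) u v = B u v := P.space.polar
    refine ⟨QuadraticMap.ofPolar (qfun B L a b) (fun c u => by rw [P.qfun_smul, smul_eq_mul, sq])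
      (fun u u' v => by rw [hpol, hpol, hpol, map_add, LinearMap.add_apply])
      (fun c u v => by rw [hpol, hpol, map_smul, LinearMap.smul_apply]),
      fun u v => (hpol u v).trans (form_eq u v).symm, P.orth_or_even (by omega) ⟨n, by omega⟩⟩
  · refine Or.inr (Or.inr ⟨hF, by omega, ?_⟩)
    obtain rfl : n = 2 := by omega
    obtain ⟨e⟩ := Cfsg.Agent.S0247.result hF
    let ι' : L →* Matrix.symplecticGroup (Fin 2) F :=
      { toFun := fun g => ⟨g.1.val, (mem_symplecticGroup_iff _).2 ((memG g.1).1 (hLG g.2))⟩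
        map_one' := rfl
        map_mul' := fun _ _ => rfl }
    have hι' : Function.Injective ι' := fun g g' h => Subtype.ext (Units.ext (congrArg Subtype.val h))
    let f : L →* Equiv.Perm (Fin 6) := e.toMonoidHom.comp ι'
    have hf : Function.Injective f := e.injective.comp hι'
    let ef := MonoidHom.ofInjective hf
    have htop : f.range ≠ ⊤ := fun htop => by
      have hs : Function.Surjective f := MonoidHom.range_eq_top.1 htop
      have hsp : (el B a 0 (1 : F)).val ∈ Matrix.symplecticGroup (Fin 2) F :=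
        (mem_symplecticGroup_iff _).2 (el_preserves S (map_zero _) 1)
      obtain ⟨g, hg⟩ := hs (e ⟨_, hsp⟩)
      refine hno ?_
      have h1 : g.1.val = (el B a 0 (1 : F)).val := congrArg Subtype.val (e.injective hg)
      rw [← Units.ext h1]
      exact g.2
    rcases perm_six_cases f.range (by rwa [← Nat.card_congr ef.toEquiv]) htop (fun h => by
      obtain ⟨P, hP, hN'⟩ := hsix (by rw [Nat.card_congr ef.toEquiv]; exact h)
      refine ⟨P.map ef.toMonoidHom, ?_, fun g hg => ?_⟩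
      · rw [← hP]; exact (Nat.card_congr (P.equivMapOfInjective _ ef.injective).toEquiv).symm
      · rw [show (((P.map ef.toMonoidHom) : Subgroup f.range) : Set f.range) = _ from rfl,
          ← Subgroup.map_equiv_normalizer_eq] at hg
        obtain ⟨g', hg', rfl⟩ := hg
        exact ⟨g', hN' g' hg', rfl⟩) with h | h
    · exact Or.inl (h.map ef.trans)
    · exact Or.inr (h.map ef.trans)

end Cfsg.Agent.S5712
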