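import Cfsg.Statements.S5713
import Mathlib.GroupTheory.GroupAction.Jordan
import Mathlib.Combinatorics.SimpleGraph.Metric
import Mathlib.GroupTheory.Perm.Cycle.Type
-- import your own Cfsg.Agent.* helpers here

set_option autoImplicit false
open Cfsg

namespace Cfsg.Agent.S5713

open MulAction
open scoped Pointwise

universe v w

section

variable {G : Type v} {Ω : Type w} [Group G] [Finite G] [MulAction G Ω] [Fintype Ω] [DecidableEq Ω]

/-- `x` and `y` look the same from `z`. -/
def Same (G : Type v) {Ω : Type w} [Group G] [MulAction G Ω] (x z y : Ω) : Prop :=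
  ∃ g : G, g • x = y ∧ g • z = z

open Classical in
/-- The points seen from `z` like `x`. -/
noncomputable def cls (G : Type v) [Group G] [MulAction G Ω] (x z : Ω) : Finset Ω :=
  Finset.univ.filter fun y => Same G x z y

open Classical in
/-- The points telling `x` from `y`. -/
noncomputable def dset (G : Type v) [Group G] [MulAction G Ω] (x y : Ω) : Finset Ω :=
  Finset.univ.filter fun z => ¬ Same G x z y

theorem same_refl (x z : Ω) : Same G x z x := ⟨1, one_smul _ _, one_smul _ _⟩

theorem same_symm {x z y : Ω} : Same G x z y → Same G y z x := fun ⟨g, h1, h2⟩ =>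
  ⟨g⁻¹, by rw [← h1, inv_smul_smul], inv_smul_eq_iff.2 h2.symm⟩

theorem same_trans {x z y w : Ω} : Same G x z y → Same G y z w → Same G x z w :=
  fun ⟨g, h1, h2⟩ ⟨h, h3, h4⟩ => ⟨h * g, by rw [mul_smul, h1, h3], by rw [mul_smul, h2, h4]⟩

theorem same_smul (k : G) {x z y : Ω} : Same G x z y → Same G (k • x) (k • z) (k • y) :=
  fun ⟨g, h1, h2⟩ => ⟨k * g * k⁻¹, by rw [mul_smul, inv_smul_smul, mul_smul, h1],
    by rw [mul_smul, inv_smul_smul, mul_smul, h2]⟩

theorem mem_dset {x y z : Ω} : z ∈ dset G x y ↔ ¬ Same G x z y := by simp [dset]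

theorem card_dset_self (x : Ω) : (dset G x x).card = 0 := by
  simp [Finset.card_eq_zero, Finset.eq_empty_iff_forall_notMem, mem_dset, same_refl]

theorem card_dset_comm (x y : Ω) : (dset G x y).card = (dset G y x).card := by
  congr 1
  ext z
  simp only [mem_dset]
  exact not_congr ⟨same_symm, same_symm⟩

theorem card_dset_triangle (x y w : Ω) :
    (dset G x w).card ≤ (dset G x y).card + (dset G y w).card := by
  refine le_trans (Finset.card_le_card fun z hz => ?_) (Finset.card_union_le _ _)
  rw [Finset.mem_union, mem_dset, mem_dset, ← not_and_or]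
  exact fun h => mem_dset.1 hz (same_trans h.1 h.2)

theorem card_dset_smul (k : G) (x y : Ω) :
    (dset G (k • x) (k • y)).card = (dset G x y).card := by
  refine Finset.card_bij (fun z _ => k⁻¹ • z) (fun z hz => ?_) (fun a _ b _ h => smul_left_cancel _ h)
    fun z hz => ⟨k • z, ?_, inv_smul_smul _ _⟩
  · rw [mem_dset] at hz ⊢
    exact fun h => hz (by simpa using same_smul k h)
  · rw [mem_dset] at hz ⊢
    exact fun h => hz (by simpa using same_smul k⁻¹ h)

theorem le_sq_of_not_all_same (hprim : IsPreprimitive G Ω) {x₀ z₀ y₀ : Ω} (hx₀ : x₀ ≠ z₀)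
    (hy₀ : y₀ ≠ z₀) (hne : ¬ Same G x₀ z₀ y₀) :
    ∃ D₀ : ℕ, (∀ x y : Ω, x ≠ y → D₀ ≤ (dset G x y).card) ∧
      Fintype.card Ω ≤ (2 * D₀ + 1) ^ 2 := by
  classical
  haveI := hprim.toIsPretransitive
  set n := Fintype.card Ω with hn
  -- a largest suborbit
  obtain ⟨⟨x₁, z₁⟩, hP, hmax⟩ := Finset.exists_max_image
    ((Finset.univ : Finset (Ω × Ω)).filter fun a => a.1 ≠ a.2) (fun a => (cls G a.1 a.2).card)
    ⟨(x₀, z₀), Finset.mem_filter.2 ⟨Finset.mem_univ _, hx₀⟩⟩
  have hxz : x₁ ≠ z₁ := (Finset.mem_filter.1 hP).2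
  set S := cls G x₁ z₁ with hS
  set M := S.card with hM
  have hM1 : 1 ≤ M := Finset.card_pos.2 ⟨x₁, by simp [hS, cls, same_refl]⟩
  have hcls : ∀ x z : Ω, (cls G x z).card ≤ M := by
    intro x z
    by_cases h : x = z
    · subst h
      refine le_trans (Finset.card_le_one.2 fun a ha b hb => ?_) hM1
      obtain ⟨g, h1, h2⟩ := (Finset.mem_filter.1 ha).2
      obtain ⟨k, h3, h4⟩ := (Finset.mem_filter.1 hb).2
      rw [← h1, ← h3, h2, h4]
    · exact hmax (x, z) (Finset.mem_filter.2 ⟨Finset.mem_univ _, h⟩)
  -- the other points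
  set R := Finset.univ \ insert z₁ S with hR
  set r := R.card with hr
  have hzS : z₁ ∉ S := fun h => by
    obtain ⟨g, h1, h2⟩ := (Finset.mem_filter.1 h).2
    exact hxz (smul_left_cancel g (h1.trans h2.symm))
  have hnr : r + M + 1 = n := by
    have h1 : (insert z₁ S).card = M + 1 := Finset.card_insert_of_notMem hzS
    have h2 := Finset.card_le_univ (insert z₁ S)
    rw [hr, hR, Finset.card_sdiff_of_subset (Finset.subset_univ _), Finset.card_univ]
    omega
  have hSinv : ∀ g : G, g • z₁ = z₁ → ∀ a, g • a ∈ S → a ∈ S := fun g hg a ha => by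
    refine Finset.mem_filter.2 ⟨Finset.mem_univ _, same_trans (Finset.mem_filter.1 ha).2 ⟨g⁻¹, ?_, ?_⟩⟩
    · exact inv_smul_smul _ _
    · exact inv_smul_eq_iff.2 hg.symm
  have hRinv : ∀ g : G, g • z₁ = z₁ → g • R = R := fun g hg => by
    refine Finset.eq_of_subset_of_card_le (fun a ha => ?_) (by rw [Finset.card_smul_finset])
    obtain ⟨b, hb, rfl⟩ := Finset.mem_smul_finset.1 ha
    simp only [hR, Finset.mem_sdiff, Finset.mem_univ, true_and, Finset.mem_insert] at hb ⊢
    rintro (h | h)
    · exact hb (Or.inl (smul_left_cancel g (h.trans hg.symm)))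
    · exact hb (Or.inr (hSinv g hg b h))
  have htr : ∀ a : Ω, ∃ g : G, g • z₁ = a := fun a => exists_smul_eq G z₁ a
  choose t ht using htr
  have hout : ∀ (g : G), t (g • z₁) • R = g • R := fun g => by
    have h := hRinv (g⁻¹ * t (g • z₁)) (by rw [mul_smul, ht, inv_smul_smul])
    rw [mul_smul, inv_smul_eq_iff] at h
    exact h
  -- the small colours reach everything in two steps
  have hnsq : n ≤ (r + 1) ^ 2 := by
    set T := insert z₁ (R ∪ R.biUnion fun a => t a • R) with hT
    have hTcard : T.card ≤ 1 + (r + r * r) := by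
      refine (Finset.card_insert_le _ _).trans ?_
      have h1 := Finset.card_union_le R (R.biUnion fun a => t a • R)
      have h2 : (R.biUnion fun a => t a • R).card ≤ r * r :=
        Finset.card_biUnion_le_card_mul _ _ _ fun a _ => by rw [Finset.card_smul_finset]
      omega
    by_cases hST : ∃ a ∈ S, a ∈ T
    · obtain ⟨a, haS, haT⟩ := hST
      have hall : (Finset.univ : Finset Ω) ⊆ T := by
        intro b _
        by_cases hb : b ∈ insert z₁ S
        · rcases Finset.mem_insert.1 hb with rfl | hbS
          · exact Finset.mem_insert_self _ _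
          obtain ⟨g, hga, hg⟩ :=
            same_trans (same_symm (Finset.mem_filter.1 haS).2) (Finset.mem_filter.1 hbS).2
          rw [← hga]
          rcases Finset.mem_insert.1 haT with h | h
          · exact absurd (h ▸ haS) hzS
          rcases Finset.mem_union.1 h with h | h
          · exact Finset.mem_insert_of_mem (Finset.mem_union_left _
              (hRinv g hg ▸ Finset.smul_mem_smul_finset h))
          · obtain ⟨c, hc, hca⟩ := Finset.mem_biUnion.1 h
            refine Finset.mem_insert_of_mem (Finset.mem_union_right _ (Finset.mem_biUnion.2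
              ⟨g • c, hRinv g hg ▸ Finset.smul_mem_smul_finset hc, ?_⟩))
            have e := hout (g * t c)
            rw [mul_smul, ht] at e
            rw [e, mul_smul]
            exact Finset.smul_mem_smul_finset hca
        · exact Finset.mem_insert_of_mem (Finset.mem_union_left _
            (Finset.mem_sdiff.2 ⟨Finset.mem_univ _, hb⟩))
      have := Finset.card_le_card hall
      rw [Finset.card_univ] at this
      calc n ≤ 1 + (r + r * r) := this.trans hTcard
        _ ≤ (r + 1) ^ 2 := by ring_nf; omega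
    push Not at hST
    set B := insert z₁ R with hB
    have hBnot : ∀ a ∈ S, a ∉ B := fun a ha h => by
      rcases Finset.mem_insert.1 h with rfl | h
      · exact hzS ha
      · exact (Finset.mem_sdiff.1 h).2 (Finset.mem_insert_of_mem ha)
    have hBinv : ∀ g : G, g • z₁ = z₁ → g • B = B := fun g hg => by
      rw [hB, Finset.smul_finset_insert, hg, hRinv g hg]
    have hBeq : ∀ b ∈ B, t b • B = B := fun b hb => by
      rcases Finset.mem_insert.1 hb with rfl | hbR
      · exact hBinv _ (ht _)
      refine Finset.eq_of_subset_of_card_le ?_ (by rw [Finset.card_smul_finset])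
      rw [hB, Finset.smul_finset_insert, ht]
      intro c hc
      rcases Finset.mem_insert.1 hc with rfl | hc
      · exact Finset.mem_insert_of_mem hbR
      have hcT : c ∈ T := Finset.mem_insert_of_mem (Finset.mem_union_right _
        (Finset.mem_biUnion.2 ⟨b, hbR, hc⟩))
      by_contra hcB
      refine hST c ?_ hcT
      rcases Finset.mem_insert.1 (show c ∈ insert z₁ S from by
        by_contra h
        exact hcB (Finset.mem_insert_of_mem (Finset.mem_sdiff.2 ⟨Finset.mem_univ _, h⟩))) with h | h
      · exact absurd (h ▸ Finset.mem_insert_self _ _) hcB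
      · exact h
    have hkey : ∀ (g : G) (w : Ω), w ∈ g • B → g • B = t w • B := fun g w hw => by
      obtain ⟨b, hb, rfl⟩ := Finset.mem_smul_finset.1 hw
      have h := hBinv ((t (g • b))⁻¹ * (g * t b)) (by
        rw [mul_smul, mul_smul, ht, inv_smul_eq_iff, ht])
      rw [mul_smul, inv_smul_eq_iff, mul_smul, hBeq b hb] at h
      exact h
    have hblock : IsBlock G (B : Set Ω) := by
      intro g₁ g₂ hne'
      rw [Set.disjoint_left]
      intro w h1 h2
      rw [← Finset.coe_smul_finset] at h1 h2
      refine hne' ?_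
      rw [← Finset.coe_smul_finset, ← Finset.coe_smul_finset, hkey g₁ w (Finset.mem_coe.1 h1),
        hkey g₂ w (Finset.mem_coe.1 h2)]
    rcases hprim.isTrivialBlock_of_isBlock hblock with hsub | huniv
    · exfalso
      -- every point but `z₁` is then in `S`
      have hR0 : ∀ a, a ≠ z₁ → a ∈ S := fun a ha => by
        by_contra haS
        refine ha (hsub (Finset.mem_coe.2 (Finset.mem_insert_of_mem ?_))
          (Finset.mem_coe.2 (Finset.mem_insert_self _ _)))
        simp [hR, ha, haS]
      obtain ⟨g, hg⟩ := exists_smul_eq G z₀ z₁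
      have hx : g • x₀ ≠ z₁ := fun h => hx₀ (smul_left_cancel g (h.trans hg.symm))
      have hy : g • y₀ ≠ z₁ := fun h => hy₀ (smul_left_cancel g (h.trans hg.symm))
      have h := same_smul g⁻¹ (same_trans (same_symm (Finset.mem_filter.1 (hR0 _ hx)).2)
        (Finset.mem_filter.1 (hR0 _ hy)).2)
      rw [inv_smul_smul, inv_smul_smul, inv_smul_eq_iff.2 hg.symm] at h
      exact hne h
    · exfalso
      exact hBnot x₁ (by simp [hS, cls, same_refl]) (Finset.mem_coe.1 (huniv ▸ Set.mem_univ x₁))
  -- a large distinguishing set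
  obtain ⟨y₁, hy₁⟩ : ∃ y, r + 1 ≤ (dset G x₁ y).card := by
    by_contra hcon
    push Not at hcon
    have h1 : ∑ y, (dset G x₁ y).card = ∑ z, (n - (cls G x₁ z).card) := by
      simp only [dset, Finset.card_filter]
      rw [Finset.sum_comm]
      refine Finset.sum_congr rfl fun z _ => ?_
      rw [← Finset.card_filter]
      have := Finset.card_filter_add_card_filter_not (s := (Finset.univ : Finset Ω))
        (fun y => Same G x₁ z y)
      rw [Finset.card_univ] at this
      show _ = n - (Finset.univ.filter fun y => Same G x₁ z y).card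
      omega
    have h2 : ∑ _z : Ω, (r + 1) ≤ ∑ z, (n - (cls G x₁ z).card) :=
      Finset.sum_le_sum fun z _ => by have := hcls x₁ z; omega
    have h3 : ∑ y, (dset G x₁ y).card ≤ ∑ _y : Ω, r := Finset.sum_le_sum fun y _ => by
      have := hcon y; omega
    rw [h1] at h3
    simp only [Finset.sum_const, Finset.card_univ, smul_eq_mul] at h2 h3
    have hnpos : 0 < n := Fintype.card_pos_iff.2 ⟨x₁⟩
    nlinarith
  -- the graph of closest pairs
  obtain ⟨⟨a₀, b₀⟩, hab, hmin⟩ := Finset.exists_min_image
    ((Finset.univ : Finset (Ω × Ω)).filter fun a => a.1 ≠ a.2) (fun a => (dset G a.1 a.2).card)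
    ⟨(x₀, z₀), Finset.mem_filter.2 ⟨Finset.mem_univ _, hx₀⟩⟩
  have hab' : a₀ ≠ b₀ := (Finset.mem_filter.1 hab).2
  set D₀ := (dset G a₀ b₀).card with hD₀
  refine ⟨D₀, fun x y h => hmin (x, y) (Finset.mem_filter.2 ⟨Finset.mem_univ _, h⟩), ?_⟩
  let U : SimpleGraph Ω :=
    { Adj := fun x y => x ≠ y ∧ (dset G x y).card = D₀
      symm := ⟨fun x y h => ⟨h.1.symm, by rw [card_dset_comm]; exact h.2⟩⟩
      loopless := ⟨fun x h => h.1 rfl⟩ }
  let σ : ∀ _ : G, U →g U := fun g => ⟨fun x => g • x, fun {x y} h =>
    ⟨fun e => h.1 (smul_left_cancel g e), by rw [card_dset_smul]; exact h.2⟩⟩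
  have hconn : ∀ x y : Ω, U.Reachable x y := by
    have hblock : IsBlock G {y : Ω | U.Reachable a₀ y} := by
      intro g₁ g₂ hne'
      rw [Set.disjoint_left]
      rintro w ⟨u₁, h1, rfl⟩ ⟨u₂, h2, h12⟩
      refine hne' (Set.ext fun v => ?_)
      have key : ∀ (g : G) (u : Ω), U.Reachable a₀ u →
          (v ∈ g • {y : Ω | U.Reachable a₀ y} ↔ U.Reachable (g • u) v) := by
        intro g u hu
        constructor
        · rintro ⟨q, hq, rfl⟩
          exact (hu.symm.trans hq).map (σ g)
        · intro h
          refine Set.mem_smul_set_iff_inv_smul_mem.2 (hu.trans ?_)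
          have h' : U.Reachable (g⁻¹ • (g • u)) (g⁻¹ • v) := h.map (σ g⁻¹)
          rwa [inv_smul_smul] at h'
      rw [key g₁ u₁ h1, key g₂ u₂ h2]
      exact iff_of_eq (congrArg (fun z => U.Reachable z v) h12.symm)
    rcases hprim.isTrivialBlock_of_isBlock hblock with hsub | huniv
    · exact absurd (hsub (show U.Reachable a₀ a₀ from SimpleGraph.Reachable.refl _)
        (show U.Reachable a₀ b₀ from SimpleGraph.Adj.reachable ⟨hab', rfl⟩)) hab'
    · intro x y
      have h1 : U.Reachable a₀ x := (huniv ▸ Set.mem_univ x : x ∈ {y | U.Reachable a₀ y})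
      have h2 : U.Reachable a₀ y := (huniv ▸ Set.mem_univ y : y ∈ {y | U.Reachable a₀ y})
      exact h1.symm.trans h2
  have hUc : U.Connected := SimpleGraph.connected_iff _ |>.2 ⟨hconn, ⟨a₀⟩⟩
  have hdistle : ∀ (g : G) (x y : Ω), U.dist (g • x) (g • y) ≤ U.dist x y := fun g x y => by
    obtain ⟨p, hp⟩ := (hconn x y).exists_walk_length_eq_dist
    rw [← hp, ← SimpleGraph.Walk.length_map (σ g) p]
    exact SimpleGraph.dist_le _
  have hdist : ∀ (g : G) (x y : Ω), U.dist (g • x) (g • y) = U.dist x y := fun g x y =>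
    le_antisymm (hdistle g x y) (by simpa using hdistle g⁻¹ (g • x) (g • y))
  by_cases hd : ∀ a b, U.dist a b ≤ 2
  · have h2 : ∀ a b, (dset G a b).card ≤ 2 * D₀ := fun a b => by
      obtain ⟨p, hp⟩ := (hconn a b).exists_walk_length_eq_dist
      have hle := hd a b
      rw [← hp] at hle
      match p, hle with
      | .nil, _ => rw [card_dset_self]; exact Nat.zero_le _
      | .cons h .nil, _ => rw [h.2]; omega
      | .cons (v := w) h (.cons h' .nil), _ =>
        exact (card_dset_triangle _ w _).trans (by rw [h.2, h'.2]; omega)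
      | .cons _ (.cons _ (.cons _ q)), hle =>
        simp only [SimpleGraph.Walk.length_cons] at hle; omega
    calc n ≤ (r + 1) ^ 2 := hnsq
      _ ≤ (2 * D₀ + 1) ^ 2 := Nat.pow_le_pow_left (by have := h2 x₁ y₁; omega) 2
  push Not at hd
  obtain ⟨a, b, hlt⟩ := hd
  set k := (Finset.univ.filter fun y => U.Adj a y).card with hk
  have hkeq : ∀ c, (Finset.univ.filter fun y => U.Adj c y).card = k := fun c => by
    obtain ⟨g, rfl⟩ := exists_smul_eq G a c
    refine Finset.card_bij (fun y _ => g⁻¹ • y) (fun y hy => ?_) (fun _ _ _ _ h => smul_left_cancel _ h)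
      fun y hy => ⟨g • y, ?_, inv_smul_smul _ _⟩
    · simp only [Finset.mem_filter, Finset.mem_univ, true_and] at hy ⊢
      have h' : U.Adj (g⁻¹ • (g • a)) (g⁻¹ • y) := (σ g⁻¹).map_adj hy
      rwa [inv_smul_smul] at h'
    · simp only [Finset.mem_filter, Finset.mem_univ, true_and] at hy ⊢
      exact (σ g).map_adj hy
  obtain ⟨p, hp⟩ := (hconn a b).exists_walk_length_eq_dist
  have hp3 : 3 ≤ p.length := by omega
  set c := p.getVert 3 with hc
  have hac : 3 ≤ U.dist a c := by
    have h1 := hUc.dist_triangle (u := a) (v := c) (w := b)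
    have h2 : U.dist c b ≤ p.length - 3 := by
      have := SimpleGraph.dist_le (p.drop 3)
      simpa using this
    omega
  have hDac : (dset G a c).card ≤ 3 * D₀ := by
    have e : ∀ i, i < p.length → (dset G (p.getVert i) (p.getVert (i + 1))).card = D₀ :=
      fun i hi => (p.adj_getVert_succ hi).2
    have h1 := card_dset_triangle (G := G) a (p.getVert 1) c
    have h2 := card_dset_triangle (G := G) (p.getVert 1) (p.getVert 2) c
    have e0 := e 0 (by omega)
    have e1 := e 1 (by omega)
    have e2 := e 2 (by omega)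
    rw [p.getVert_zero] at e0
    simp only [Nat.zero_add, show 1 + 1 = 2 from rfl, show 2 + 1 = 3 from rfl] at e0 e1 e2
    rw [← hc] at e2
    omega
  have h2k : 2 * k ≤ (dset G a c).card := by
    have hdisj : Disjoint (Finset.univ.filter fun y => U.Adj a y)
        (Finset.univ.filter fun y => U.Adj c y) := by
      rw [Finset.disjoint_left]
      intro w h1 h2
      simp only [Finset.mem_filter, Finset.mem_univ, true_and] at h1 h2
      have := SimpleGraph.dist_le (SimpleGraph.Walk.cons h1 (SimpleGraph.Walk.cons h2.symm .nil))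
      simp only [SimpleGraph.Walk.length_cons, SimpleGraph.Walk.length_nil] at this
      omega
    refine le_trans (le_of_eq ?_) (Finset.card_le_card (s := (Finset.univ.filter fun y => U.Adj a y) ∪
      Finset.univ.filter fun y => U.Adj c y) fun w hw => ?_)
    · rw [Finset.card_union_of_disjoint hdisj, hkeq c]; omega
    rw [mem_dset]
    rintro ⟨g, h1, h2⟩
    have hiff : U.Adj a w ↔ U.Adj c w := by
      constructor
      · intro h
        have := (σ g).map_adj h
        show U.Adj c w
        rw [← h1, ← h2]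
        exact this
      · intro h
        have := (σ g⁻¹).map_adj h
        show U.Adj a w
        rw [← inv_smul_eq_iff.2 h1.symm, ← inv_smul_eq_iff.2 h2.symm]
        exact this
    have hdj := Finset.disjoint_left.1 hdisj
    rcases Finset.mem_union.1 hw with h | h
    · exact hdj h (Finset.mem_filter.2 ⟨Finset.mem_univ _, hiff.1 (Finset.mem_filter.1 h).2⟩)
    · exact hdj (Finset.mem_filter.2 ⟨Finset.mem_univ _, hiff.2 (Finset.mem_filter.1 h).2⟩) h
  have hkD : n - 1 ≤ k * D₀ := by
    have hsub : (Finset.univ : Finset Ω).erase a ⊆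
        (Finset.univ.filter fun y => U.Adj a y).biUnion fun y => dset G a y := by
      intro z hz
      obtain ⟨q, hq⟩ := (hconn a z).exists_walk_length_eq_dist
      match q, hq with
      | .nil, _ => exact absurd rfl (Finset.ne_of_mem_erase hz)
      | .cons (v := y) h q', hq =>
        refine Finset.mem_biUnion.2 ⟨y, Finset.mem_filter.2 ⟨Finset.mem_univ _, h⟩, ?_⟩
        rw [mem_dset]
        rintro ⟨g, h1, h2⟩
        have h3 : U.dist y z ≤ q'.length := SimpleGraph.dist_le q'
        have h4 := hdist g a z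
        rw [h1, h2] at h4
        simp only [SimpleGraph.Walk.length_cons] at hq
        omega
    have h := Finset.card_le_card hsub
    rw [Finset.card_erase_of_mem (Finset.mem_univ _), Finset.card_univ] at h
    refine h.trans (Finset.card_biUnion_le_card_mul _ _ _ fun y hy => ?_)
    exact le_of_eq (Finset.mem_filter.1 hy).2.2
  have : k * D₀ * 2 ≤ 3 * D₀ * D₀ := by
    calc k * D₀ * 2 = 2 * k * D₀ := by ring
      _ ≤ 3 * D₀ * D₀ := Nat.mul_le_mul_right _ (h2k.trans hDac)
  show n ≤ _
  have hn1 : n ≤ k * D₀ + 1 := by omega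
  nlinarith

theorem exists_three_cycle (h2 : ∀ x z y : Ω, x ≠ z → y ≠ z → Same G x z y) (g : G) {x : Ω}
    (hx : g • x ≠ x)
    (hsmall : (2 * (Finset.univ.filter fun a : Ω => g • a ≠ a).card + 1) ^ 2 < Fintype.card Ω) :
    ∃ c : G, (toPermHom G Ω c).IsThreeCycle := by
  classical
  haveI := Fintype.ofFinite (stabilizer G x)
  set M := (Finset.univ : Finset Ω).filter fun a => g • a ≠ a with hM
  set M' := M.erase x with hM'
  set n := Fintype.card Ω with hn
  have hxM : x ∈ M := Finset.mem_filter.2 ⟨Finset.mem_univ _, hx⟩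
  have hM'card : M'.card + 1 = M.card := Finset.card_erase_add_one hxM
  have hfib : ∀ a b : Ω, a ≠ x → b ≠ x →
      (n - 1) * (Finset.univ.filter fun h : stabilizer G x => (h : G) • a = b).card =
        Fintype.card (stabilizer G x) := by
    intro a b ha hb
    have heq : ∀ b' ∈ (Finset.univ : Finset Ω).erase x,
        (Finset.univ.filter fun h : stabilizer G x => (h : G) • a = b').card =
        (Finset.univ.filter fun h : stabilizer G x => (h : G) • a = b).card := by
      intro b' hb'
      obtain ⟨u, hu1, hu2⟩ := h2 b' x b (Finset.ne_of_mem_erase hb') hb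
      refine Finset.card_bij (fun h _ => (⟨u, hu2⟩ : stabilizer G x) * h) (fun h hh => ?_)
        (fun _ _ _ _ e => mul_left_cancel e) fun h hh => ⟨(⟨u, hu2⟩ : stabilizer G x)⁻¹ * h, ?_, ?_⟩
      · simp only [Finset.mem_filter, Finset.mem_univ, true_and] at hh ⊢
        rw [Subgroup.coe_mul, mul_smul, hh, hu1]
      · simp only [Finset.mem_filter, Finset.mem_univ, true_and] at hh ⊢
        rw [Subgroup.coe_mul, mul_smul, hh, Subgroup.coe_inv]
        exact inv_smul_eq_iff.2 hu1.symm
      · rw [mul_inv_cancel_left]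
    have hsum := Finset.card_eq_sum_card_fiberwise (s := (Finset.univ : Finset (stabilizer G x)))
      (f := fun h : stabilizer G x => (h : G) • a) (t := (Finset.univ : Finset Ω).erase x)
      (fun h _ => Finset.mem_erase.2 ⟨fun e => ha (smul_left_cancel (h : G) (e.trans h.2.symm)),
        Finset.mem_univ _⟩)
    rw [Finset.sum_congr rfl heq, Finset.sum_const, Finset.card_erase_of_mem (Finset.mem_univ _),
      Finset.card_univ, Finset.card_univ, smul_eq_mul] at hsum
    exact hsum.symm
  obtain ⟨h, hh⟩ : ∃ h : stabilizer G x, ∀ a ∈ M', (h : G) • a ∉ M' := by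
    by_contra hcon
    push Not at hcon
    have hsub : (Finset.univ : Finset (stabilizer G x)) ⊆ (M' ×ˢ M').biUnion fun ab =>
        Finset.univ.filter fun h : stabilizer G x => (h : G) • ab.1 = ab.2 := by
      intro h _
      obtain ⟨a, ha, hb⟩ := hcon h
      exact Finset.mem_biUnion.2 ⟨(a, (h : G) • a), Finset.mem_product.2 ⟨ha, hb⟩,
        Finset.mem_filter.2 ⟨Finset.mem_univ _, rfl⟩⟩
    have h1 : (n - 1) * Fintype.card (stabilizer G x) ≤
        (n - 1) * ∑ ab ∈ M' ×ˢ M',
          (Finset.univ.filter fun h : stabilizer G x => (h : G) • ab.1 = ab.2).card :=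
      Nat.mul_le_mul_left _ ((Finset.card_le_card hsub).trans Finset.card_biUnion_le)
    rw [Finset.mul_sum, Finset.sum_congr rfl fun ab hab => hfib ab.1 ab.2
      (Finset.ne_of_mem_erase (Finset.mem_product.1 hab).1)
      (Finset.ne_of_mem_erase (Finset.mem_product.1 hab).2),
      Finset.sum_const, Finset.card_product, smul_eq_mul] at h1
    have h3 := Nat.le_of_mul_le_mul_right h1 Fintype.card_pos
    have h4 : M'.card * M'.card + 1 < n := by nlinarith
    rw [← hM'] at h3
    omega
  set H : G := (h : G) with hH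
  have hHx : H • x = x := h.2
  set k : G := H * g * H⁻¹ with hk
  set σ : Equiv.Perm Ω := toPermHom G Ω g with hσ
  set τ : Equiv.Perm Ω := toPermHom G Ω k with hτ
  have hσx : σ x ≠ x := hx
  have hτx : τ x ≠ x := fun e => hx (by
    have e' : H • g • H⁻¹ • x = x := by rw [← mul_smul, ← mul_smul]; exact e
    rw [inv_smul_eq_iff.2 hHx.symm] at e'
    exact smul_left_cancel H (e'.trans hHx.symm))
  have hdisj : ∀ v : Ω, v ≠ x → σ v ≠ v → τ v = v := fun v hv hσv => by
    by_contra hτv
    have h1 : H⁻¹ • v ∈ M' := by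
      refine Finset.mem_erase.2 ⟨fun e => hv ?_, Finset.mem_filter.2 ⟨Finset.mem_univ _, fun e => hτv ?_⟩⟩
      · rw [← hHx, ← e, smul_inv_smul]
      · show k • v = v
        rw [hk, mul_smul, mul_smul, e, smul_inv_smul]
    refine hh _ h1 ?_
    rw [smul_inv_smul]
    exact Finset.mem_erase.2 ⟨hv, Finset.mem_filter.2 ⟨Finset.mem_univ _, hσv⟩⟩
  refine ⟨g * k * g⁻¹ * k⁻¹, ?_⟩
  have hxy : σ x ≠ x := hσx
  have hyz : σ x ≠ τ x := fun e => by
    have h1 := hdisj (σ x) hσx fun e' => hσx (σ.injective e')
    rw [e] at h1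
    exact hτx (τ.injective h1)
  have hcomp : toPermHom G Ω (g * k * g⁻¹ * k⁻¹) =
      Equiv.swap (σ x) x * Equiv.swap (σ x) (τ x) := by
    rw [map_mul, map_mul, map_mul, map_inv, map_inv, ← hσ, ← hτ]
    refine Equiv.ext fun v => ?_
    simp only [Equiv.Perm.mul_apply]
    have fixτ : ∀ u, τ u = u → τ⁻¹ u = u := fun u hu => by
      rw [Equiv.Perm.inv_eq_iff_eq]; exact hu.symm
    have fixσ : ∀ u, σ u = u → σ⁻¹ u = u := fun u hu => by
      rw [Equiv.Perm.inv_eq_iff_eq]; exact hu.symm
    have hnot : ∀ u, u ≠ x → τ u ≠ u → σ u = u := fun u hu hτu => by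
      by_contra hσu; exact hτu (hdisj u hu hσu)
    by_cases hvx : v = x
    · subst hvx
      rw [Equiv.swap_apply_of_ne_of_ne hσx.symm hτx.symm, Equiv.swap_apply_right]
      set u := τ⁻¹ v with hu
      have hu' : τ u = v := by simp [hu]
      have hune : u ≠ v := fun e => hτx (by rw [← e] at hu'; rw [e] at hu'; exact hu')
      rw [fixσ u (hnot u hune fun e => hune (e.symm.trans hu')), hu']
    by_cases hvy : v = σ x
    · subst hvy
      rw [Equiv.swap_apply_left, Equiv.swap_apply_of_ne_of_ne hyz.symm hτx]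
      rw [fixτ (σ x) (hdisj (σ x) hσx fun e => hσx (σ.injective e))]
      rw [show σ⁻¹ (σ x) = x by simp]
      exact hnot (τ x) hτx fun e => hτx (τ.injective e)
    by_cases hvz : v = τ x
    · subst hvz
      rw [Equiv.swap_apply_right, Equiv.swap_apply_left, show τ⁻¹ (τ x) = x by simp]
      set u := σ⁻¹ x with hu
      have hu' : σ u = x := by simp [hu]
      have hune : u ≠ x := fun e => hσx (by rw [e] at hu'; exact hu')
      rw [hdisj u hune fun e => hune (e.symm.trans hu'), hu']
    rw [Equiv.swap_apply_of_ne_of_ne hvy hvz, Equiv.swap_apply_of_ne_of_ne hvy hvx]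
    by_cases hτv : τ v = v
    · rw [fixτ v hτv]
      set u := σ⁻¹ v with hu
      have hu' : σ u = v := by simp [hu]
      have hune : u ≠ x := fun e => hvy (by rw [e] at hu'; exact hu'.symm)
      by_cases hσu : σ u = u
      · have : u = v := hσu.symm.trans hu'
        rw [this, hτv]
        rw [this] at hσu
        exact hσu
      · rw [hdisj u hune hσu, hu']
    · set u := τ⁻¹ v with hu
      have hu' : τ u = v := by simp [hu]
      have hune : u ≠ x := fun e => hvz (by rw [e] at hu'; exact hu'.symm)
      rw [fixσ u (hnot u hune fun e => hτv (by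
        have h3 : u = v := e.symm.trans hu'
        rw [h3] at e
        exact e)), hu']
      exact hnot v hvx hτv
  rw [hcomp]
  exact Equiv.Perm.isThreeCycle_swap_mul_swap_same hxy hyz hτx.symm

end

/-- A classification-free minimal-degree bound. Let G be a finite group acting faithfully and primitively on a finite set Ω with n elements, and suppose that the image of G in the symmetric group on Ω does not contain the alternating group on Ω. Then every non-identity element of G moves at least (√n − 1)/2 points of Ω, that is, it fixes at most n − (√n − 1)/2 points. -/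
theorem result {G Ω : Type*} [Group G] [Finite G] [MulAction G Ω] [FaithfulSMul G Ω] [Fintype Ω] [DecidableEq Ω]
    (hprim : MulAction.IsPreprimitive G Ω)
    (hA : ¬ alternatingGroup Ω ≤ (MulAction.toPermHom G Ω).range)
    (g : G) (hg : g ≠ 1) :
    (Real.sqrt (Fintype.card Ω) - 1) / 2 ≤ (Fintype.card Ω : ℝ) - Nat.card (MulAction.fixedBy Ω g) := by
  classical
  obtain ⟨x, hx⟩ : ∃ x : Ω, g • x ≠ x := by
    by_contra hcon
    push Not at hcon
    exact hg (FaithfulSMul.eq_of_smul_eq_smul (α := Ω) fun a => by rw [hcon a, one_smul])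
  set M := Finset.univ.filter fun a : Ω => g • a ≠ a with hM
  have hbound : Fintype.card Ω ≤ (2 * M.card + 1) ^ 2 := by
    by_cases h2 : ∀ x z y : Ω, x ≠ z → y ≠ z → Same G x z y
    · by_contra hlt
      push Not at hlt
      obtain ⟨c, hc⟩ := exists_three_cycle h2 g hx hlt
      let f : Ω →ₑ[(MulAction.toPermHom G Ω).rangeRestrict] Ω :=
        { toFun := id, map_smul' := fun _ _ => rfl }
      exact hA (Equiv.Perm.alternatingGroup_le_of_isPreprimitive_of_isThreeCycle_mem
        (@MulAction.IsPreprimitive.of_surjective _ _ _ _ _ _ _ _ _ f hprim Function.surjective_id)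
        hc ⟨c, rfl⟩)
    push Not at h2
    obtain ⟨x₀, z₀, y₀, hx₀, hy₀, hne⟩ := h2
    obtain ⟨D₀, hD, hn⟩ := le_sq_of_not_all_same hprim hx₀ hy₀ hne
    refine hn.trans (Nat.pow_le_pow_left (Nat.add_le_add_right (Nat.mul_le_mul_left 2 ?_) 1) 2)
    refine (hD x (g • x) hx.symm).trans (Finset.card_le_card fun z hz => ?_)
    rw [mem_dset] at hz
    exact Finset.mem_filter.2 ⟨Finset.mem_univ _, fun e => hz ⟨g, rfl, e⟩⟩
  have hcard : (Nat.card (MulAction.fixedBy Ω g) : ℝ) + (M.card : ℝ) = Fintype.card Ω := by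
    have h1 : Nat.card (MulAction.fixedBy Ω g) = (Finset.univ.filter fun a : Ω => g • a = a).card := by
      rw [Nat.card_eq_fintype_card]
      exact Fintype.card_of_subtype _ fun a => by simp
    have h2 := Finset.card_filter_add_card_filter_not (s := (Finset.univ : Finset Ω))
      (fun a : Ω => g • a = a)
    rw [h1, ← Finset.card_univ, ← h2]
    push_cast
    rfl
  have hsq : Real.sqrt (Fintype.card Ω) ≤ 2 * (M.card : ℝ) + 1 := by
    rw [Real.sqrt_le_iff]
    exact ⟨by positivity, by exact_mod_cast hbound⟩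
  linarith

end Cfsg.Agent.S5713
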