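import Cfsg.Statements.S5722
import Cfsg.Agent.Lib.CompLength.PermBound

set_option autoImplicit false
open Cfsg

namespace Cfsg.Agent.S5722

/-- If a finite group G acts faithfully on a finite set with n points and r orbits, then the composition length of G is at most 4(n − r)/3. Here the composition length is expressed through chains: the conclusion bounds the length l of every chain of subgroups 1 = H₀ < H₁ < ⋯ < H_l = G in which each term is normal in the next (the longest such chains are exactly the composition series). -/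
theorem result {G Ω : Type*} [Group G] [Finite G] [MulAction G Ω] [FaithfulSMul G Ω] [Fintype Ω]
    (l : ℕ) (H : Fin (l + 1) → Subgroup G) (h0 : H 0 = ⊥) (hl : H (Fin.last l) = ⊤)
    (hchain : ∀ i : Fin l, H i.castSucc < H i.succ ∧ ((H i.castSucc).subgroupOf (H i.succ)).Normal) :
    3 * l ≤ 4 * (Fintype.card Ω - Nat.card (Quotient (MulAction.orbitRel G Ω))) := by
  classical
  let φ := MulAction.toPermHom G Ω
  have hs : Cfsg.Lib.CompLength.Ser (⊤ : Subgroup G) l := hl ▸ Cfsg.Lib.CompLength.ser_of_fin l H h0 hchain
  have h := hs.map_inj (f := φ) MulAction.toPerm_injective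
  rw [← MonoidHom.range_eq_map] at h
  have h' := h.subgroupOf φ.range le_rfl
  rw [Subgroup.subgroupOf_self] at h'
  have hb := Cfsg.Lib.CompLength.bound_all (Nat.card Ω) Ω rfl φ.range l h'
  have hr : Nat.card (MulAction.orbitRel.Quotient φ.range Ω) =
      Nat.card (Quotient (MulAction.orbitRel G Ω)) :=
    Nat.card_congr (Quotient.congr (Equiv.refl Ω) fun x y => by
      constructor
      · rintro ⟨⟨_, g, rfl⟩, hg⟩; exact ⟨g, hg⟩
      · rintro ⟨g, hg⟩; exact ⟨⟨φ g, g, rfl⟩, hg⟩)
  have hle : Nat.card (Quotient (MulAction.orbitRel G Ω)) ≤ Nat.card Ω :=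
    Nat.card_le_card_of_surjective Quotient.mk'' Quotient.mk''_surjective
  rw [hr, Nat.card_eq_fintype_card (α := Ω)] at hb
  rw [Nat.card_eq_fintype_card (α := Ω)] at hle
  omega

end Cfsg.Agent.S5722
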