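import Cfsg.Statements.S5726


set_option autoImplicit false
open Cfsg

namespace Cfsg.Agent.S5726

/-- If a finite group acts faithfully and transitively on a set with p^k elements, p a prime and k ≥ 1, then some element of order p fixes no point. -/
theorem result {G Ω : Type*} [Group G] [Finite G] [MulAction G Ω] [FaithfulSMul G Ω] [Fintype Ω] (htr : MulAction.IsPretransitive G Ω)
    (p k : ℕ) (hp : p.Prime) (hk : 1 ≤ k) (hΩ : Fintype.card Ω = p ^ k) :
    ∃ g : G, orderOf g = p ∧ ∀ ω : Ω, g • ω ≠ ω := by
  classical
  haveI : Fact p.Prime := ⟨hp⟩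
  haveI : Nonempty Ω := Fintype.card_pos_iff.1 (hΩ ▸ pow_pos hp.pos k)
  let P : Sylow p G := default
  obtain ⟨m, hm⟩ := IsPGroup.iff_card.1 P.2
  haveI hPtr : MulAction.IsPretransitive (P : Subgroup G) Ω := by
    have key : ∀ ω : Ω, MulAction.orbit (P : Subgroup G) ω = Set.univ := by
      intro ω
      apply Set.eq_univ_of_forall
      intro x
      have hP := P.2
      obtain ⟨j, hj⟩ := hP.card_orbit ω
      have hidx : (MulAction.stabilizer G ω).index = p ^ k := by
        rw [MulAction.index_stabilizer_of_transitive, Nat.card_eq_fintype_card, hΩ]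
      have hG : Nat.card G = Nat.card (MulAction.stabilizer G ω) * p ^ k := by
        rw [← hidx, Subgroup.card_mul_index]
      have hPcard := P.card_eq_multiplicity
      have horb : Nat.card (MulAction.orbit (P : Subgroup G) ω) *
          Nat.card (MulAction.stabilizer (P : Subgroup G) ω) = Nat.card P := by
        rw [← Nat.card_prod]
        exact Nat.card_congr (MulAction.orbitProdStabilizerEquivGroup (P : Subgroup G) ω)
      obtain ⟨l, hl⟩ := IsPGroup.iff_card.1 (hP.to_subgroup (MulAction.stabilizer (P : Subgroup G) ω))
      have hdvd : p ^ l ∣ Nat.card (MulAction.stabilizer G ω) := by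
        rw [← hl]
        refine Subgroup.card_dvd_of_injective
          ((Subgroup.subtype _).comp (Subgroup.subtype _) |>.codRestrict (MulAction.stabilizer G ω)
            (fun x => x.2)) ?_
        intro a b h
        have := congrArg (fun z : MulAction.stabilizer G ω => (z : G)) h
        exact Subtype.ext (Subtype.ext this)
      have hcle : p ^ (l + k) ∣ p ^ (j + l) := by
        have h1 : p ^ (l + k) ∣ Nat.card G := by
          rw [hG, pow_add]
          exact mul_dvd_mul_right hdvd _
        rw [pow_add p j l, ← hj, ← hl, horb, hPcard]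
        exact (hp.pow_dvd_iff_le_factorization Nat.card_pos.ne').1 h1 |> Nat.pow_dvd_pow p
      have hjk : k ≤ j := by
        have := (Nat.pow_dvd_pow_iff_le_right hp.one_lt).1 hcle
        omega
      have : MulAction.orbit (P : Subgroup G) ω = Set.univ := by
        apply Set.eq_of_subset_of_ncard_le (Set.subset_univ _)
        rw [Set.ncard_univ, ← Nat.card_coe_set_eq, hj, Nat.card_eq_fintype_card, hΩ]
        exact Nat.pow_le_pow_right hp.pos hjk
      rw [this]; trivial
    exact ⟨fun a b => by
      have : b ∈ MulAction.orbit (P : Subgroup G) a := key a ▸ Set.mem_univ b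
      exact this⟩
  have hnt : Nontrivial P := by
    by_contra hP
    rw [not_nontrivial_iff_subsingleton] at hP
    have hs : Subsingleton Ω := ⟨fun a b => by
      obtain ⟨g, rfl⟩ := MulAction.exists_smul_eq (P : Subgroup G) a b
      rw [Subsingleton.elim g 1, one_smul]⟩
    have := Fintype.card_le_one_iff_subsingleton.2 hs
    rw [hΩ] at this
    have := Nat.pow_le_pow_right hp.pos hk
    rw [pow_one] at this
    have := hp.one_lt
    omega
  haveI := P.2.center_nontrivial
  obtain ⟨z, hz⟩ := exists_prime_orderOf_dvd_card' (G := Subgroup.center (P : Subgroup G)) p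
    ((P.2.to_subgroup _).exists_card_eq.elim fun j hj => by
      rcases Nat.eq_zero_or_pos j with rfl | hj0
      · have := Finite.one_lt_card (α := Subgroup.center (P : Subgroup G))
        rw [hj, pow_zero] at this; omega
      · exact hj ▸ dvd_pow_self p hj0.ne')
  refine ⟨((z : (P : Subgroup G)) : G), by rw [Subgroup.orderOf_coe, Subgroup.orderOf_coe, hz], fun ω hω => ?_⟩
  have h1 : ((z : (P : Subgroup G)) : G) = 1 := by
    apply FaithfulSMul.eq_of_smul_eq_smul (α := Ω)
    intro x
    obtain ⟨g, rfl⟩ := MulAction.exists_smul_eq (P : Subgroup G) ω x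
    have hc := Subgroup.mem_center_iff.1 z.2 g
    rw [one_smul]
    show _ • ((g : G) • ω) = (g : G) • ω
    rw [← mul_smul, ← Subgroup.coe_mul, ← hc, Subgroup.coe_mul, mul_smul, hω]
  have : z = 1 := Subtype.ext (Subtype.ext h1)
  rw [this, orderOf_one] at hz
  exact hp.ne_one hz.symm

end Cfsg.Agent.S5726
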