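import Cfsg.Statements.S5727
import Cfsg.Agent.S5726

set_option autoImplicit false
open Cfsg

namespace Cfsg.Agent.S5727

/-- If a finite group acts faithfully and transitively on a set with m·p elements, where p is a prime and 1 ≤ m ≤ p, then some element of order p fixes no point. -/
theorem result {G Ω : Type*} [Group G] [Finite G] [MulAction G Ω] [FaithfulSMul G Ω] [Fintype Ω] (htr : MulAction.IsPretransitive G Ω)
    (p m : ℕ) (hp : p.Prime) (hm : 1 ≤ m) (hmp : m ≤ p) (hΩ : Fintype.card Ω = m * p) :
    ∃ g : G, orderOf g = p ∧ ∀ ω : Ω, g • ω ≠ ω := by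
  classical
  haveI : Fact p.Prime := ⟨hp⟩
  haveI : MulAction.IsPretransitive G Ω := htr
  rcases eq_or_lt_of_le hmp with rfl | hlt
  · exact Cfsg.Agent.S5726.result htr m 2 hp (by norm_num) (by rw [hΩ]; ring)
  have hpm : ¬ p ∣ m := fun h => absurd (Nat.le_of_dvd hm h) (by omega)
  let P : Sylow p G := default
  have hP := P.2
  -- every `P`-orbit has size `p`
  have horb : ∀ ω : Ω, Nat.card (MulAction.orbit (P : Subgroup G) ω) = p := by
    intro ω
    obtain ⟨j, hj⟩ := hP.card_orbit ω
    have hle : p ^ j ≤ m * p := by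
      rw [← hj, ← hΩ, ← Nat.card_eq_fintype_card]
      exact Nat.card_le_card_of_injective _ Subtype.coe_injective
    have hj2 : j < 2 := by
      by_contra h
      have : p ^ 2 ≤ p ^ j := Nat.pow_le_pow_right hp.pos (by omega)
      have : m * p < p * p := Nat.mul_lt_mul_of_pos_right hlt hp.pos
      rw [pow_two] at *
      omega
    have hj1 : j ≠ 0 := by
      rintro rfl
      have hfix : (P : Subgroup G) ≤ MulAction.stabilizer G ω := by
        intro g hg
        obtain ⟨u, hu⟩ := Nat.card_eq_one_iff_exists.1 (hj.trans (pow_zero p))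
        have h1 := hu ⟨_, MulAction.mem_orbit ω (⟨g, hg⟩ : (P : Subgroup G))⟩
        have h2 := hu ⟨ω, MulAction.mem_orbit_self ω⟩
        exact congrArg Subtype.val (h1.trans h2.symm)
      apply P.not_dvd_index
      refine dvd_trans ?_ (Subgroup.index_dvd_of_le hfix)
      rw [MulAction.index_stabilizer_of_transitive, Nat.card_eq_fintype_card, hΩ]
      exact dvd_mul_left p m
    rw [hj, show j = 1 by omega, pow_one]
  -- point stabilizers in `P`
  let s : Ω → Subgroup (P : Subgroup G) := fun ω => MulAction.stabilizer (P : Subgroup G) ω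
  have hidx : ∀ ω, (s ω).index = p := fun ω => by
    rw [MulAction.index_stabilizer, ← Nat.card_coe_set_eq, horb]
  have hsn : ∀ ω, (s ω).Normal := by
    intro ω
    have hne : Nat.card (P : Subgroup G) ≠ 1 := by
      rw [← Subgroup.card_mul_index (s ω), hidx]
      intro h
      exact hp.ne_one (Nat.eq_one_of_mul_eq_one_left h)
    refine Subgroup.normal_of_index_eq_minFac_card ?_
    rw [hidx]
    obtain ⟨l, hl⟩ := IsPGroup.iff_card.1 hP
    rw [hl, Nat.pow_minFac (by rintro rfl; simp [hl] at hne), hp.minFac_eq]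
  have hconst : ∀ ω ω', ω' ∈ MulAction.orbit (P : Subgroup G) ω → s ω' = s ω := by
    rintro ω _ ⟨g, rfl⟩
    haveI := hsn ω
    simp only [s, MulAction.stabilizer_smul_eq_stabilizer_map_conj]
    exact Subgroup.Normal.map_conj_eq (H := s ω) g
  let T := Finset.univ.image s
  have hT : T.card * p ≤ m * p := by
    have hcard : T.card * p ≤ (Finset.univ : Finset Ω).card := by
      rw [mul_comm]
      refine Finset.mul_card_image_le_card (s := (Finset.univ : Finset Ω)) (f := s) p ?_
      intro H hH
      obtain ⟨ω, -, rfl⟩ := Finset.mem_image.1 hH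
      calc p = Nat.card (MulAction.orbit (P : Subgroup G) ω) := (horb ω).symm
        _ = (MulAction.orbit (P : Subgroup G) ω).toFinset.card := Nat.card_eq_card_toFinset _
        _ ≤ _ := Finset.card_le_card fun x hx => Finset.mem_filter.2
            ⟨Finset.mem_univ _, hconst ω x (Set.mem_toFinset.1 hx)⟩
    rwa [← hΩ, ← Finset.card_univ]
  have hTm : T.card ≤ m := Nat.le_of_mul_le_mul_right hT hp.pos
  haveI : Fintype (P : Subgroup G) := Fintype.ofFinite _
  have hunion : (T.biUnion fun H => (Finset.univ.filter fun g => g ∈ H)).card < Fintype.card (P : Subgroup G) := by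
    refine lt_of_le_of_lt Finset.card_biUnion_le ?_
    have hterm : ∀ H ∈ T, (Finset.univ.filter fun g => g ∈ H).card * p = Fintype.card (P : Subgroup G) := by
      intro H hH
      obtain ⟨ω, -, rfl⟩ := Finset.mem_image.1 hH
      conv_lhs => arg 2; rw [← hidx ω]
      rw [← Fintype.card_subtype, ← Nat.card_eq_fintype_card,
        ← Nat.card_eq_fintype_card (α := (P : Subgroup G))]
      exact Subgroup.card_mul_index (s ω)
    apply Nat.lt_of_mul_lt_mul_right (a := p)
    rw [Finset.sum_mul, Finset.sum_congr rfl hterm, Finset.sum_const, smul_eq_mul, mul_comm _ p]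
    exact Nat.mul_lt_mul_of_pos_right (by omega) Fintype.card_pos
  obtain ⟨g, hg⟩ : ∃ g : (P : Subgroup G), ∀ ω, g ∉ s ω := by
    by_contra h
    push_neg at h
    refine hunion.ne ?_
    rw [← Finset.card_univ]
    congr 1
    rw [Finset.eq_univ_iff_forall]
    intro g
    obtain ⟨ω, hω⟩ := h g
    exact Finset.mem_biUnion.2 ⟨s ω, Finset.mem_image_of_mem _ (Finset.mem_univ _),
      Finset.mem_filter.2 ⟨Finset.mem_univ _, hω⟩⟩
  obtain ⟨ω₀⟩ : Nonempty Ω := Fintype.card_pos_iff.1 (hΩ ▸ Nat.mul_pos (by omega) hp.pos)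
  refine ⟨g, ?_, fun ω h => hg ω h⟩
  apply orderOf_eq_prime
  · apply FaithfulSMul.eq_of_smul_eq_smul (α := Ω)
    intro ω
    haveI := hsn ω
    have hi := Subgroup.pow_index_mem (s ω) g
    rw [hidx ω] at hi
    rw [one_smul]
    exact hi
  · intro h
    apply hg ω₀
    show _ • ω₀ = ω₀
    have h' : g = 1 := Subtype.ext h
    rw [h', one_smul]

end Cfsg.Agent.S5727
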