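import Cfsg.Statements.S5728


set_option autoImplicit false
open Cfsg

namespace Cfsg.Agent.S5728

/-- An elusive transitive action. Let p = 2^s − 1 be a prime and let F be the field with p² elements. Inside the group of affine maps x ↦ a·x + b of F (a ≠ 0), consider the subgroup of maps with both coefficients in the prime field. Then every element of prime order of the affine group is conjugate, within the affine group, to an element of that subgroup; equivalently, in the transitive action of the affine group on the cosets of that subgroup (of degree p(p + 1)) every element of prime order fixes a point. -/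
theorem result (p s : ℕ) [Fact p.Prime] (hs : p = 2 ^ s - 1)
    (g : Equiv.Perm (GaloisField p 2)) (hg : g ∈ Cfsg.affineGroup (GaloisField p 2)) (hord : (orderOf g).Prime) :
    ∃ x ∈ Cfsg.affineGroup (GaloisField p 2), ∃ a b : ZMod p, a ≠ 0 ∧
      ∀ y : GaloisField p 2, (x * g * x⁻¹) y = algebraMap (ZMod p) (GaloisField p 2) a * y + algebraMap (ZMod p) (GaloisField p 2) b := by
  have hpp : p.Prime := Fact.out
  haveI : Fintype (GaloisField p 2) := Fintype.ofFinite _
  have hq : Fintype.card (GaloisField p 2) = p ^ 2 := by
    rw [← Nat.card_eq_fintype_card, GaloisField.card p 2 (by norm_num)]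
  have hp2 : p ≠ 2 := by
    rintro rfl
    rcases s with _ | s
    · simp at hs
    · rw [pow_succ] at hs; omega
  obtain ⟨u, c, hg'⟩ := hg
  by_cases hu : (u : GaloisField p 2) = 1
  · -- a translation
    have hc : c ≠ 0 := by
      rintro rfl
      have : g = 1 := Equiv.ext fun y => by simp [hg', hu]
      rw [this, orderOf_one] at hord
      exact Nat.not_prime_one hord
    let x : Equiv.Perm (GaloisField p 2) := Equiv.mulLeft₀ c⁻¹ (inv_ne_zero hc)
    refine ⟨x, ⟨Units.mk0 c⁻¹ (inv_ne_zero hc), 0, fun y => by simp [x]⟩, 1, 1, one_ne_zero, fun y => ?_⟩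
    have hx : (x⁻¹ : Equiv.Perm (GaloisField p 2)) y = c * y := by
      rw [Equiv.Perm.inv_eq_iff_eq]
      simp [x, ← mul_assoc, inv_mul_cancel₀ hc]
    simp only [Equiv.Perm.coe_mul, Function.comp_apply, hx, hg', hu, map_one]
    show c⁻¹ * _ = _
    field_simp
  · set f := c / (1 - (u : GaloisField p 2)) with hf
    have h1u : (1 - (u : GaloisField p 2)) ≠ 0 := sub_ne_zero.2 (Ne.symm hu)
    let x : Equiv.Perm (GaloisField p 2) := Equiv.addRight (-f)
    have hx : ∀ y, (x⁻¹ : Equiv.Perm (GaloisField p 2)) y = y + f := fun y => by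
      rw [Equiv.Perm.inv_eq_iff_eq]; simp [x]
    have hconj : ∀ y, (x * g * x⁻¹) y = (u : GaloisField p 2) * y := fun y => by
      simp only [Equiv.Perm.coe_mul, Function.comp_apply, hx, hg']
      simp only [x, Equiv.coe_addRight]
      rw [hf]; field_simp; ring
    set r := orderOf g
    have hr : r.Prime := hord
    have hur : (u : GaloisField p 2) ^ r = 1 := by
      have hpow : ∀ n : ℕ, ∀ y, ((x * g * x⁻¹) ^ n) y = (u : GaloisField p 2) ^ n * y := by
        intro n
        induction n with
        | zero => simp
        | succ n ih =>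
          intro y
          rw [pow_succ', Equiv.Perm.coe_mul, Function.comp_apply, ih, hconj, pow_succ', mul_assoc]
      have := hpow r 1
      rw [conj_pow, pow_orderOf_eq_one] at this
      simpa using this.symm
    have hu0 : (u : GaloisField p 2) ≠ 0 := u.ne_zero
    have hou : orderOf (u : GaloisField p 2) = r := orderOf_eq_prime (hp := ⟨hr⟩) hur hu
    have hdvd : r ∣ (p - 1) * (p + 1) := by
      rw [← hou]
      refine orderOf_dvd_of_pow_eq_one ?_
      rw [show (p - 1) * (p + 1) = p ^ 2 - 1 by rw [mul_comm, ← Nat.sq_sub_sq, one_pow], ← hq]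
      exact FiniteField.pow_card_sub_one_eq_one _ hu0
    have hp1 : p + 1 = 2 ^ s := by
      have := Nat.one_le_two_pow (n := s); omega
    have hrp : r ∣ p - 1 := by
      rcases (Nat.Prime.dvd_mul hr).1 hdvd with h | h
      · exact h
      · rw [hp1] at h
        have := (Nat.prime_dvd_prime_iff_eq hr Nat.prime_two).1 (hr.dvd_of_dvd_pow h)
        rw [this]
        rcases hpp.eq_two_or_odd with h2 | h2
        · exact absurd h2 hp2
        · omega
    have hfix : (u : GaloisField p 2) ^ (p - 1) = 1 := by
      obtain ⟨t, ht⟩ := hrp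
      rw [ht, pow_mul, hur, one_pow]
    have hmem : (u : GaloisField p 2) ∈ (⊥ : Subfield (GaloisField p 2)) := by
      rw [Subfield.mem_bot_iff_pow_eq_self (p := p) (F := GaloisField p 2)]
      calc (u : GaloisField p 2) ^ p = (u : GaloisField p 2) ^ ((p - 1) + 1) := by
            rw [Nat.sub_add_cancel hpp.one_le]
        _ = u := by rw [pow_succ, hfix, one_mul]
    obtain ⟨a, ha⟩ : ∃ a : ZMod p, algebraMap (ZMod p) (GaloisField p 2) a = u := by
      have : (⊥ : Subfield (GaloisField p 2)) ≤ (algebraMap (ZMod p) (GaloisField p 2)).fieldRange := bot_le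
      exact this hmem
    refine ⟨x, ⟨1, -f, fun y => by simp [x]⟩, a, 0, ?_, fun y => by simp [hconj, ha]⟩
    rintro rfl
    rw [map_zero] at ha
    exact hu0 ha.symm

end Cfsg.Agent.S5728
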