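import Cfsg.Statements.S5729


set_option autoImplicit false
open Cfsg

namespace Cfsg.Agent.S5729

/-- Let a finite group G act faithfully and transitively on a set with n ≥ 3 points. Then either G is a Frobenius permutation group (Frobenius as a permutation group: transitive, some non-identity element fixes a point, and no non-identity element fixes two points) of order n(n − 1) and exactly |G|/n of its elements are derangements (fix no point), or the number of derangements is greater than |G|/n. -/
theorem result {G Ω : Type*} [Group G] [Finite G] [MulAction G Ω] [FaithfulSMul G Ω] [Fintype Ω] (htr : MulAction.IsPretransitive G Ω) (hn : 3 ≤ Fintype.card Ω) :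
    ((MulAction.IsPretransitive G Ω ∧ (∃ g : G, g ≠ 1 ∧ ∃ ω : Ω, g • ω = ω) ∧ ∀ g : G, g ≠ 1 → Nat.card (MulAction.fixedBy Ω g) ≤ 1) ∧ Nat.card G = Fintype.card Ω * (Fintype.card Ω - 1) ∧ Fintype.card Ω * Nat.card {g : G // ∀ ω : Ω, g • ω ≠ ω} = Nat.card G) ∨
    Nat.card G < Fintype.card Ω * Nat.card {g : G // ∀ ω : Ω, g • ω ≠ ω} := by
  classical
  haveI := Fintype.ofFinite G
  haveI := htr
  set n := Fintype.card Ω with hn'
  let fx : G → Finset Ω := fun g => Finset.univ.filter (fun ω => g • ω = ω)
  let st : Ω → Finset G := fun a => Finset.univ.filter (fun g => g • a = a)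
  let D : Finset G := Finset.univ.filter (fun g => ∀ ω : Ω, g • ω ≠ ω)
  have hDcard : Nat.card {g : G // ∀ ω : Ω, g • ω ≠ ω} = D.card := by
    rw [Nat.card_eq_fintype_card, Fintype.card_subtype]
  rcases lt_or_ge (Nat.card G) (n * Nat.card {g : G // ∀ ω : Ω, g • ω ≠ ω}) with h | h
  · exact Or.inr h
  refine Or.inl ?_
  have hst : ∀ a, n * (st a).card = Fintype.card G := by
    intro a
    have h1 : (st a).card = Nat.card (MulAction.stabilizer G a) := by
      rw [Nat.card_eq_fintype_card, Fintype.card_subtype]
      rfl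
    rw [h1, ← Nat.card_eq_fintype_card (α := G), ← Subgroup.card_mul_index (MulAction.stabilizer G a),
      MulAction.index_stabilizer_of_transitive, Nat.card_eq_fintype_card (α := Ω), mul_comm]
  have hswap : ∀ (w : G → ℤ), ∑ g, ((fx g).card : ℤ) * w g = ∑ a, ∑ g ∈ st a, w g := by
    intro w
    simp only [fx, st, Finset.card_filter, Finset.sum_filter, Nat.cast_sum, Finset.sum_mul]
    rw [Finset.sum_comm]
    refine Finset.sum_congr rfl fun a _ => Finset.sum_congr rfl fun g _ => ?_
    split_ifs <;> simp
  have hn0 : (0 : ℤ) < n := by exact_mod_cast (show 0 < n by omega)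
  have hS1 : ∑ g, ((fx g).card : ℤ) = Fintype.card G := by
    have h2 := hswap (fun _ => 1)
    simp only [mul_one, Finset.sum_const, nsmul_one] at h2
    rw [h2]
    apply mul_left_cancel₀ hn0.ne'
    rw [Finset.mul_sum, Finset.sum_congr rfl (fun a _ => show ((n : ℤ) * ((st a).card : ℤ)) = Fintype.card G by exact_mod_cast hst a),
      Finset.sum_const, Finset.card_univ, nsmul_eq_mul]
  have hge : ∀ a, (2 : ℤ) * (st a).card ≤ ∑ g ∈ st a, ((fx g).card : ℤ) := by
    intro a
    have hburn := MulAction.sum_card_fixedBy_eq_card_orbits_mul_card_group (MulAction.stabilizer G a) Ω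
    haveI : Nontrivial Ω := Fintype.one_lt_card_iff_nontrivial.1 (by omega)
    have horb : 2 ≤ Fintype.card (MulAction.orbitRel.Quotient (MulAction.stabilizer G a) Ω) := by
      obtain ⟨b, hb⟩ := exists_ne a
      apply Fintype.one_lt_card_iff.2
      refine ⟨Quotient.mk'' a, Quotient.mk'' b, fun h => hb ?_⟩
      have h2 := (Quotient.eq''.1 h.symm)
      obtain ⟨g, rfl⟩ := h2
      exact g.2
    have h1 : (st a).card = Fintype.card (MulAction.stabilizer G a) := by
      rw [Fintype.card_subtype]; rfl
    have h2 : ∑ g ∈ st a, (fx g).card = ∑ g : MulAction.stabilizer G a, Fintype.card (MulAction.fixedBy Ω g) := by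
      rw [Finset.sum_subtype (p := fun g => g ∈ MulAction.stabilizer G a) (st a) (fun x => by simp [st])]
      refine Finset.sum_congr rfl fun g _ => ?_
      rw [← Fintype.card_subtype]
      exact Fintype.card_congr (Equiv.refl _)
    have h3 : 2 * (st a).card ≤ ∑ g ∈ st a, (fx g).card := by
      rw [h2, hburn, h1]
      exact Nat.mul_le_mul_right _ horb
    exact_mod_cast h3
  have hS2 : (2 : ℤ) * Fintype.card G ≤ ∑ g, ((fx g).card : ℤ) * (fx g).card := by
    rw [hswap (fun g => ((fx g).card : ℤ))]
    refine le_trans (le_of_eq ?_) (Finset.sum_le_sum fun a _ => hge a)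
    rw [← Finset.mul_sum, ← hS1]
    have h2 := hswap (fun _ => 1)
    simp only [mul_one, Finset.sum_const, nsmul_one] at h2
    rw [h2]
  have hfle : ∀ g, ((fx g).card : ℤ) ≤ n := fun g => by exact_mod_cast Finset.card_le_univ (fx g)
  have hDfx : ∀ g, g ∈ D ↔ (fx g).card = 0 := fun g => by
    simp [D, fx, Finset.filter_eq_empty_iff]
  -- the sum of (f - 1) (f - n)
  have hT : ∑ g, (((fx g).card : ℤ) - 1) * ((fx g).card - n) =
      ∑ g, ((fx g).card : ℤ) * (fx g).card - Fintype.card G := by
    simp only [sub_mul, mul_sub, one_mul, Finset.sum_sub_distrib, ← Finset.sum_mul, hS1,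
      Finset.sum_const, Finset.card_univ, nsmul_eq_mul]
    ring
  let err : G → ℤ := fun g => if g ∈ D then 0 else -((((fx g).card : ℤ) - 1) * ((fx g).card - n))
  have herr : ∀ g, 0 ≤ err g := by
    intro g
    simp only [err]
    split_ifs with hg
    · exact le_refl _
    · have h1 : (1 : ℤ) ≤ (fx g).card := by
        exact_mod_cast Nat.one_le_iff_ne_zero.2 (fun h => hg ((hDfx g).2 h))
      nlinarith [hfle g]
  have hsum : ∑ g, (((fx g).card : ℤ) - 1) * ((fx g).card - n) = n * D.card - ∑ g, err g := by
    have hDsum : ((n : ℤ) * D.card) = ∑ g, if g ∈ D then (n : ℤ) else 0 := by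
      rw [Finset.sum_ite_mem, Finset.univ_inter, Finset.sum_const, nsmul_eq_mul, mul_comm]
    rw [hDsum, ← Finset.sum_sub_distrib]
    refine Finset.sum_congr rfl fun g _ => ?_
    simp only [err]
    split_ifs with hg
    · simp [(hDfx g).1 hg]
    · ring
  rw [hDcard, Nat.card_eq_fintype_card (α := G)] at h
  have hD : (n : ℤ) * D.card ≤ Fintype.card G := by exact_mod_cast h
  have herr0 : ∀ g, err g = 0 := by
    intro g
    have hle := Finset.single_le_sum (fun g _ => herr g) (Finset.mem_univ g)
    linarith [herr g]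
  have heq : (n : ℤ) * D.card = Fintype.card G := by
    have := Finset.sum_nonneg (fun g (_ : g ∈ Finset.univ) => herr g)
    linarith
  have hfix1 : ∀ g : G, g ≠ 1 → (fx g).card ≤ 1 := by
    intro g hg
    by_contra hc
    have hgD : g ∉ D := fun h => by rw [hDfx] at h; omega
    have := herr0 g
    simp only [err, if_neg hgD, neg_eq_zero, mul_eq_zero, sub_eq_zero] at this
    rcases this with h1 | h1
    · exact hc (by exact_mod_cast h1.le)
    · apply hg
      apply FaithfulSMul.eq_of_smul_eq_smul (α := Ω)
      intro ω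
      have huniv : fx g = Finset.univ := (Finset.card_eq_iff_eq_univ _).1 (by exact_mod_cast h1)
      have : ω ∈ fx g := huniv ▸ Finset.mem_univ ω
      rw [one_smul]
      simpa [fx] using this
  obtain ⟨a⟩ : Nonempty Ω := Fintype.card_pos_iff.1 (show 0 < Fintype.card Ω by omega)
  -- every point stabilizer has order `n - 1`
  have hsta : ((st a).card : ℤ) = n - 1 := by
    have hall : ∀ b, ∑ g ∈ st b, ((fx g).card : ℤ) = 2 * (st b).card := by
      have hsum2 : ∑ g, ((fx g).card : ℤ) * (fx g).card = 2 * Fintype.card G := by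
        have : ∑ g, err g = 0 := Finset.sum_eq_zero fun g _ => herr0 g
        linarith
      rw [hswap (fun g => ((fx g).card : ℤ))] at hsum2
      have hlow : ∑ b, (2 : ℤ) * (st b).card = 2 * Fintype.card G := by
        rw [← Finset.mul_sum, ← hS1]
        have h2 := hswap (fun _ => 1)
        simp only [mul_one, Finset.sum_const, nsmul_one] at h2
        rw [h2]
      intro b
      exact ((Finset.sum_eq_sum_iff_of_le (fun b _ => hge b)).1 (by rw [hlow, hsum2]) b (Finset.mem_univ b)).symm
    have h1a : (1 : G) ∈ st a := by simp [st]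
    have hval : ∀ g ∈ (st a).erase 1, ((fx g).card : ℤ) = 1 := by
      intro g hg
      rw [Finset.mem_erase] at hg
      have h1 : 1 ≤ (fx g).card := Finset.card_pos.2 ⟨a, by simpa [fx, st] using hg.2⟩
      have := hfix1 g hg.1
      exact_mod_cast le_antisymm this h1
    have h2 := hall a
    rw [← Finset.add_sum_erase _ _ h1a, Finset.sum_congr rfl hval, Finset.sum_const, nsmul_one,
      Finset.card_erase_of_mem h1a] at h2
    have hone : (fx (1 : G)).card = n := by simp [fx, n]
    have hpos : 1 ≤ (st a).card := Finset.card_pos.2 ⟨1, h1a⟩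
    rw [hone] at h2
    push_cast [hpos] at h2
    linarith
  have hsta' : (st a).card = n - 1 := by omega
  refine ⟨⟨htr, ?_, fun g hg => ?_⟩, ?_, ?_⟩
  · obtain ⟨g, hg, hg1⟩ := Finset.exists_mem_ne (show 1 < (st a).card by omega) 1
    exact ⟨g, hg1, a, by simpa [st] using hg⟩
  · rw [Nat.card_eq_fintype_card]
    refine le_trans (le_of_eq ?_) (hfix1 g hg)
    rw [← Fintype.card_subtype]
    exact Fintype.card_congr (Equiv.refl _)
  · rw [Nat.card_eq_fintype_card, ← hst a, hsta']
  · rw [hDcard, Nat.card_eq_fintype_card]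
    exact_mod_cast heq

end Cfsg.Agent.S5729
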