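import Cfsg.Statements.S5730
import Cfsg.Agent.Lib.Perm.DerangementCount

set_option autoImplicit false
open Cfsg

namespace Cfsg.Agent.S5730

/-- Let a finite group G act faithfully and transitively on a set with n ≥ 7 points. Then either G is a Frobenius permutation group (Frobenius as a permutation group: transitive, some non-identity element fixes a point, and no non-identity element fixes two points) of order n(n − 1)/a with a ∈ {1, 2}, in which case exactly a|G|/n of its elements are derangements, or the number of derangements is at least 2|G|/n. (Equality does occur: PSL₃(2) acting on the 7 points of the Fano plane has exactly 2|G|/7 derangements.) -/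
theorem result {G Ω : Type*} [Group G] [Finite G] [MulAction G Ω] [FaithfulSMul G Ω] [Fintype Ω] (htr : MulAction.IsPretransitive G Ω) (hn : 7 ≤ Fintype.card Ω) :
    (∃ a : ℕ, (a = 1 ∨ a = 2) ∧ (MulAction.IsPretransitive G Ω ∧ (∃ g : G, g ≠ 1 ∧ ∃ ω : Ω, g • ω = ω) ∧ ∀ g : G, g ≠ 1 → Nat.card (MulAction.fixedBy Ω g) ≤ 1) ∧ a * Nat.card G = Fintype.card Ω * (Fintype.card Ω - 1) ∧ Fintype.card Ω * Nat.card {g : G // ∀ ω : Ω, g • ω ≠ ω} = a * Nat.card G) ∨
    2 * Nat.card G ≤ Fintype.card Ω * Nat.card {g : G // ∀ ω : Ω, g • ω ≠ ω} := by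
  classical
  letI := Fintype.ofFinite G
  haveI : Nonempty Ω := Fintype.card_pos_iff.mp (by omega)
  have hD : Nat.card {g : G // ∀ ω : Ω, g • ω ≠ ω} =
      (Finset.univ.filter fun g : G => Cfsg.Lib.Derange.fx Ω g = 0).card := by
    rw [Nat.card_eq_fintype_card, Fintype.card_subtype]
    congr 1
    ext g
    simp [Cfsg.Lib.Derange.fx, Cfsg.Lib.Derange.fixSet, Finset.filter_eq_empty_iff]
  have hid := Cfsg.Lib.Derange.derangements_eq (G := G) (Ω := Ω) htr
  rw [hD, Nat.card_eq_fintype_card]
  rcases Nat.lt_or_ge 2 (Fintype.card (Quotient (MulAction.orbitRel G (Ω × Ω)))) with hr | hr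
  · right
    have hr' : (3 : ℤ) ≤ Fintype.card (Quotient (MulAction.orbitRel G (Ω × Ω))) := by
      exact_mod_cast hr
    have : (0 : ℤ) ≤ Cfsg.Lib.Derange.excess G Ω := Int.natCast_nonneg _
    refine Int.ofNat_le.mp ?_
    push_cast [hid]
    nlinarith [(by positivity : (0 : ℤ) ≤ Fintype.card G)]
  obtain ⟨a, b, hab⟩ := Fintype.exists_pair_of_one_lt_card (by omega : 1 < Fintype.card Ω)
  have h2 := Cfsg.Lib.Derange.two_trans_of_card_orbits hr
  have hr2 : Fintype.card (Quotient (MulAction.orbitRel G (Ω × Ω))) = 2 := by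
    refine le_antisymm hr ?_
    by_contra hlt
    have := Fintype.card_le_one_iff.mp (by omega :
      Fintype.card (Quotient (MulAction.orbitRel G (Ω × Ω))) ≤ 1)
      (Quotient.mk _ (a, a)) (Quotient.mk _ (a, b))
    obtain ⟨g, hg⟩ := Quotient.exact this
    exact hab (smul_left_cancel g ((congrArg Prod.fst hg).trans (congrArg Prod.snd hg).symm))
  rw [hr2] at hid
  norm_num at hid
  rcases Nat.lt_or_ge 1 (Cfsg.Lib.Derange.stab2 G a b).card with hh | hh
  · right
    have hT := Cfsg.Lib.Derange.excess_ge h2 hn hab hh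
    have hT' : (Fintype.card G : ℤ) ≤ Cfsg.Lib.Derange.excess G Ω := by exact_mod_cast hT
    refine Int.ofNat_le.mp ?_
    push_cast [hid]
    linarith
  -- sharply two-transitive: a Frobenius group
  left
  have h1 : (Cfsg.Lib.Derange.stab2 G a b).card = 1 :=
    le_antisymm hh (Finset.card_pos.mpr ⟨1, Cfsg.Lib.Derange.one_mem_stab2 a b⟩)
  have hG := Cfsg.Lib.Derange.card_group h2 hab
  rw [h1, mul_one] at hG
  have hfix : ∀ g : G, g ≠ 1 → Nat.card (MulAction.fixedBy Ω g) ≤ 1 := by
    intro g hg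
    by_contra hlt
    haveI : Nontrivial (MulAction.fixedBy Ω g) :=
      Finite.one_lt_card_iff_nontrivial.mp (by omega)
    obtain ⟨⟨x, hx⟩, ⟨y, hy⟩, hxy⟩ := exists_pair_ne (MulAction.fixedBy Ω g)
    have hxy' : x ≠ y := fun h => hxy (Subtype.ext h)
    have hcard := Cfsg.Lib.Derange.card_stab2_eq h2 hab hxy'
    rw [h1, Finset.card_eq_one] at hcard
    obtain ⟨u, hu⟩ := hcard
    have e1 : (1 : G) = u := by
      simpa [hu] using Cfsg.Lib.Derange.one_mem_stab2 (G := G) x y
    have e2 : g = u := by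
      have : g ∈ Cfsg.Lib.Derange.stab2 G x y := Cfsg.Lib.Derange.mem_stab2.mpr ⟨hx, hy⟩
      simpa [hu] using this
    exact hg (e2.trans e1.symm)
  have hT0 : Cfsg.Lib.Derange.excess G Ω = 0 := by
    refine Finset.sum_eq_zero fun g _ => ?_
    by_cases hg : g = 1
    · subst hg
      simp [Cfsg.Lib.Derange.fx, Cfsg.Lib.Derange.fixSet]
    · have hle : Cfsg.Lib.Derange.fx Ω g ≤ 1 := by
        refine le_of_eq_of_le ?_ (hfix g hg)
        rw [Nat.card_eq_fintype_card, Cfsg.Lib.Derange.fx, Cfsg.Lib.Derange.fixSet,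
          ← Fintype.card_subtype]
        exact Fintype.card_congr (Equiv.refl _)
      simp [Nat.sub_eq_zero_of_le hle]
  rw [hT0] at hid
  refine ⟨1, Or.inl rfl, ⟨htr, ?_, hfix⟩, by rw [one_mul, hG], ?_⟩
  · obtain ⟨c, hca, hcb⟩ : ∃ c : Ω, c ≠ a ∧ c ≠ b := by
      by_contra! hall
      have : (Finset.univ : Finset Ω) ⊆ {a, b} := fun x _ => by
        by_cases hx : x = a
        · simp [hx]
        · simp [hall x hx]
      have := Finset.card_le_card this
      rw [Finset.card_univ, Finset.card_pair hab] at this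
      omega
    obtain ⟨g, hga, hgb⟩ := h2 a b a c hab hca.symm
    exact ⟨g, fun h => hcb (by rw [h, one_smul] at hgb; exact hgb.symm), a, hga⟩
  · rw [one_mul]
    refine Int.ofNat_inj.mp ?_
    push_cast [hid]
    simp

end Cfsg.Agent.S5730
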