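import Cfsg.Statements.S5732
import Cfsg.Agent.Lib.Perm.DerangementSubgroup.Main

set_option autoImplicit false
open Cfsg

namespace Cfsg.Agent.S5732

/-- There is a bound N such that for every finite group G acting faithfully and transitively on a set with n ≥ N points, either G is primitive and a Frobenius permutation group (Frobenius as a permutation group: transitive, some non-identity element fixes a point, and no non-identity element fixes two points), or the subgroup generated by the derangements of G has index at most √n − 1 in G. -/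
theorem result : ∃ N : ℕ, ∀ (G Ω : Type*) [Group G] [Finite G] [MulAction G Ω] [FaithfulSMul G Ω] [Fintype Ω],
      MulAction.IsPretransitive G Ω → N ≤ Fintype.card Ω →
      (MulAction.IsPreprimitive G Ω ∧ (MulAction.IsPretransitive G Ω ∧ (∃ g : G, g ≠ 1 ∧ ∃ ω : Ω, g • ω = ω) ∧ ∀ g : G, g ≠ 1 → Nat.card (MulAction.fixedBy Ω g) ≤ 1)) ∨
      ((Subgroup.closure {g : G | ∀ ω : Ω, g • ω ≠ ω}).index : ℝ) ≤ Real.sqrt (Fintype.card Ω) - 1 := by
  classical
  refine ⟨4, fun G Ω _ _ _ _ _ htr hN => or_iff_not_imp_right.2 fun hlt => ?_⟩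
  haveI := htr
  set m := (Subgroup.closure {g : G | ∀ ω : Ω, g • ω ≠ ω}).index with hmdef
  have key : Fintype.card Ω < (m + 1) ^ 2 := by
    by_contra hle
    push Not at hle
    refine hlt ?_
    have h1 : ((m : ℝ) + 1) ≤ Real.sqrt (Fintype.card Ω) := by
      rw [Real.le_sqrt (by positivity) (by positivity)]
      exact_mod_cast hle
    linarith
  have hm : 2 ≤ m := by
    by_contra h
    have : (m + 1) ^ 2 ≤ 2 ^ 2 := Nat.pow_le_pow_left (by omega) 2
    omega
  obtain ⟨S, -, -, -, hp, hg, hu⟩ := Cfsg.Lib.DerSub.derSub_structure (G := G) (Ω := Ω) hm key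
  refine ⟨hp, htr, hg, fun g hg1 => ?_⟩
  rw [Nat.card_coe_set_eq, Set.ncard_le_one]
  exact fun a ha b hb => hu g hg1 a b ha hb

end Cfsg.Agent.S5732
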