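import Cfsg.Statements.S5737
import Cfsg.Agent.Lib.Binary.SuzukiMain
import Cfsg.Agent.Lib.Linear.Suzuki.LieForm

set_option autoImplicit false
open Cfsg

namespace Cfsg.Agent.S5737

/-- Let G = Sz(q) be a Suzuki group, q = 2^(2a+1) with a ≥ 1 (realised inside Sp₄ over the field with q elements), and let H be a proper subgroup of G. Then the action of G on the cosets of H is binary if and only if H is trivial or H is the centre of a Sylow 2-subgroup of G. Here an action is binary (relational complexity 2) when, for every n ≥ 2 and all n-tuples I, J of points, if for every pair of positions some group element carries the corresponding pair of entries of I to those of J, then a single group element carries I to J. -/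
theorem result {F : Type*} [Field F] [Fintype F] (a : ℕ) (ha : 1 ≤ a) (hF : Fintype.card F = 2 ^ (2 * a + 1))
    (H : Subgroup (Cfsg.Lie.Sz F (2 ^ (a + 1)))) (hH : H ≠ ⊤) :
    (∀ (n : ℕ) (I J : Fin n → (Cfsg.Lie.Sz F (2 ^ (a + 1))) ⧸ H), 2 ≤ n →
        (∀ i j : Fin n, i ≠ j → ∃ g : (Cfsg.Lie.Sz F (2 ^ (a + 1))), g • I i = J i ∧ g • I j = J j) → ∃ g : (Cfsg.Lie.Sz F (2 ^ (a + 1))), ∀ i, g • I i = J i) ↔
      (H = ⊥ ∨ ∃ P : Sylow 2 (Cfsg.Lie.Sz F (2 ^ (a + 1))), H = (Subgroup.center (P : Subgroup (Cfsg.Lie.Sz F (2 ^ (a + 1))))).map (P : Subgroup (Cfsg.Lie.Sz F (2 ^ (a + 1)))).subtype) := by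
  classical
  have hP : Cfsg.Lib.Linear.Suz.Params F a := ⟨ha, hF⟩
  obtain ⟨e, -⟩ := Cfsg.Lib.Linear.Suz.exists_lie_equiv hP
  haveI : Finite ↥(Cfsg.Sz F a) := Finite.of_equiv _ e.symm.toEquiv
  haveI : Finite (Cfsg.Lie.Sz F (2 ^ (a + 1))) := Finite.of_equiv _ e.toEquiv
  rw [Cfsg.Lib.Binary.isBin_iff]
  obtain ⟨M, hM⟩ : ∃ M, M = H.map e.symm.toMonoidHom := ⟨_, rfl⟩
  have hback : M.map e.toMonoidHom = H := by
    rw [hM, Subgroup.map_map]
    convert Subgroup.map_id H
    ext x
    simp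
  have hMtop : M ≠ ⊤ := fun e' => hH (by
    rw [← hback, e', Subgroup.map_top_of_surjective _ e.surjective])
  have hbin : Cfsg.Lib.Binary.IsBin H ↔ Cfsg.Lib.Binary.IsBin M :=
    ⟨fun hb => hM ▸ hb.map e.symm, fun hb => hback ▸ hb.map e⟩
  rw [hbin, Cfsg.Lib.Binary.suzuki_bin_iff hP hMtop, Cfsg.Lib.Binary.sylow_center_iff hP]
  have hcenter : ∀ {G G' : Type _} [Group G] [Group G'] (f : G ≃* G') (P : Subgroup G),
      ((Subgroup.center P).map P.subtype).map f.toMonoidHom =
        (Subgroup.center (P.map f.toMonoidHom : Subgroup G')).map (P.map f.toMonoidHom).subtype := by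
    intro G G' _ _ f P
    rw [Subgroup.center, Subgroup.center]
    ext x
    simp only [Subgroup.mem_map, Subgroup.coe_subtype, MulEquiv.coe_toMonoidHom]
    constructor
    · rintro ⟨y, ⟨⟨y', hy'⟩, hc, rfl⟩, rfl⟩
      refine ⟨⟨f y', y', hy', rfl⟩, ?_, rfl⟩
      show _ ∈ Submonoid.center _
      rw [Submonoid.mem_center_iff]
      rintro ⟨_, w, hw, rfl⟩
      have := congrArg Subtype.val (Submonoid.mem_center_iff.mp hc ⟨w, hw⟩)
      refine Subtype.ext ?_
      show f w * f y' = f y' * f w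
      rw [← map_mul, ← map_mul]
      exact congrArg f this
    · rintro ⟨⟨_, y', hy', rfl⟩, hc, rfl⟩
      refine ⟨y', ⟨⟨y', hy'⟩, ?_, rfl⟩, rfl⟩
      show _ ∈ Submonoid.center _
      rw [Submonoid.mem_center_iff]
      rintro ⟨w, hw⟩
      have := congrArg Subtype.val (Submonoid.mem_center_iff.mp hc ⟨f w, w, hw, rfl⟩)
      refine Subtype.ext (f.injective ?_)
      show f (w * y') = f (y' * w)
      rw [map_mul, map_mul]
      exact this
  refine or_congr ?_ ?_
  · rw [hM, Subgroup.map_eq_bot_iff_of_injective]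
    exact e.symm.injective
  · constructor
    · rintro ⟨P, hP'⟩
      refine ⟨P.mapSurjective (f := e.toMonoidHom) e.surjective, ?_⟩
      rw [← hback, hP', hcenter e]
      rfl
    · rintro ⟨P, hP'⟩
      refine ⟨P.mapSurjective (f := e.symm.toMonoidHom) e.symm.surjective, ?_⟩
      rw [hM, hP', hcenter e.symm]
      rfl

end Cfsg.Agent.S5737
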