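import Cfsg.Statements.S5738


set_option autoImplicit false
open Cfsg

namespace Cfsg.Agent.S5738

/-- Let F ⊆ K be finite fields with |F| = q and [K : F] = n ≥ 2, so |K| = q^n. Regard K as an n-dimensional F-vector space; the multiplications by non-zero elements of K form a cyclic subgroup of GL_F(K) of order q^n − 1 acting regularly on the non-zero vectors (a Singer group). Its normaliser in GL_F(K) has order n·(q^n − 1). -/
theorem result {F K : Type*} [Field F] [Fintype F] [Field K] [Fintype K] [Algebra F K] (n : ℕ) (hn : 2 ≤ n) (hdim : Module.finrank F K = n) :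
    Nat.card (Subgroup.normalizer (((Units.map ((Algebra.lmul F K : K →ₐ[F] Module.End F K) : K →* Module.End F K)).range : Subgroup (Module.End F K)ˣ) : Set (Module.End F K)ˣ)) = n * (Fintype.card K - 1) := by
  classical
  set L : K →* Module.End F K := ((Algebra.lmul F K : K →ₐ[F] Module.End F K) : K →* Module.End F K)
  set S := (Units.map L).range
  have hL : ∀ k x : K, L k x = k * x := fun _ _ => rfl
  -- the semilinear maps `x ↦ c σ(x)`
  let Φ : Kˣ × (K ≃ₐ[F] K) → (Module.End F K)ˣ := fun p =>
    Units.map L p.1 * ⟨p.2.toLinearMap, p.2.symm.toLinearMap, by ext x; simp, by ext x; simp⟩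
  have hΦ : ∀ p x, ((Φ p : (Module.End F K)ˣ) : Module.End F K) x = (p.1 : K) * p.2 x := fun p x => rfl
  have hinj : Function.Injective Φ := by
    intro p q h
    have he : ∀ x, (p.1 : K) * p.2 x = (q.1 : K) * q.2 x := fun x => by rw [← hΦ, ← hΦ, h]
    have h1 : p.1 = q.1 := Units.ext (by simpa using he 1)
    refine Prod.ext h1 (AlgEquiv.ext fun x => ?_)
    have := he x
    rw [h1] at this
    exact mul_left_cancel₀ q.1.ne_zero this
  have hrange : Set.range Φ = (Subgroup.normalizer (S : Set (Module.End F K)ˣ) : Set (Module.End F K)ˣ) := by
    have hfin : (S : Set (Module.End F K)ˣ).Finite := Set.finite_range _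
    ext g
    simp only [Set.mem_range, SetLike.mem_coe]
    constructor
    · rintro ⟨⟨c, σ⟩, rfl⟩
      haveI : Finite (S : Set (Module.End F K)ˣ) := hfin.to_subtype
      apply Subgroup.mem_normalizer_fintype
      rintro _ ⟨k, rfl⟩
      refine ⟨Units.map (σ : K →* K) k, ?_⟩
      rw [eq_mul_inv_iff_mul_eq]
      refine Units.ext (LinearMap.ext fun x => ?_)
      simp only [Units.val_mul, Module.End.mul_apply, hΦ, Units.coe_map]
      simp [hL]
      ring
    · intro hg
      have hc : (g : Module.End F K) 1 ≠ 0 := by
        intro h
        have h3 : ((g⁻¹ : (Module.End F K)ˣ) : Module.End F K) ((g : Module.End F K) 1) = 1 := by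
          rw [← Module.End.mul_apply, ← Units.val_mul, inv_mul_cancel]; rfl
        rw [h, map_zero] at h3
        exact zero_ne_one h3
      set c := (g : Module.End F K) 1
      have key : ∀ k x : K, c * (g : Module.End F K) (k * x) = (g : Module.End F K) k * (g : Module.End F K) x := by
        intro k x
        rcases eq_or_ne k 0 with rfl | hk
        · simp
        · obtain ⟨v, hv⟩ := (Subgroup.mem_normalizer_iff.1 hg (Units.map L (Units.mk0 k hk))).1 ⟨_, rfl⟩
          rw [eq_mul_inv_iff_mul_eq] at hv
          have he : ∀ y, (v : K) * (g : Module.End F K) y = (g : Module.End F K) (k * y) := fun y => by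
            have := congrArg (fun u : (Module.End F K)ˣ => (u : Module.End F K) y) hv
            simpa [hL] using this
          have h1 := he 1
          rw [mul_one] at h1
          rw [← h1, ← he]
          ring
      let h : K →ₐ[F] K :=
        { toFun := fun x => c⁻¹ * (g : Module.End F K) x
          map_one' := by simp [c, inv_mul_cancel₀ hc]
          map_mul' := fun a b => by
            apply mul_left_cancel₀ (mul_ne_zero hc hc)
            field_simp
            linear_combination (key a b)
          map_zero' := by simp
          map_add' := fun a b => by simp [mul_add]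
          commutes' := fun r => by
            show c⁻¹ * (g : Module.End F K) (algebraMap F K r) = algebraMap F K r
            rw [Algebra.algebraMap_eq_smul_one, map_smul]
            show c⁻¹ * (r • c) = _
            rw [mul_smul_comm, inv_mul_cancel₀ hc] }
      refine ⟨(Units.mk0 c hc, AlgEquiv.ofBijective h h.bijective), Units.ext (LinearMap.ext fun x => ?_)⟩
      rw [hΦ]
      show c * (c⁻¹ * (g : Module.End F K) x) = _
      rw [← mul_assoc, mul_inv_cancel₀ hc, one_mul]
  have hcard : Nat.card (Kˣ × (K ≃ₐ[F] K)) = n * (Fintype.card K - 1) := by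
    rw [Nat.card_prod, IsGalois.card_aut_eq_finrank, hdim, Nat.card_eq_fintype_card, Fintype.card_units, mul_comm]
  rw [← hcard, ← Nat.card_range_of_injective hinj, hrange]
  rfl

end Cfsg.Agent.S5738
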