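import Cfsg.Statements.S5739
-- import your own Cfsg.Agent.* helpers here

set_option autoImplicit false
open Cfsg

namespace Cfsg.Agent.S5739

/-- Let F ⊆ K be finite fields with |F| = q and [K : F] = n ≥ 2, and let M ≤ GL_F(K) be the Singer group of multiplications by non-zero elements of K. If g ∈ GL_F(K) does not normalise M, then the order of M ∩ gMg⁻¹ divides q^r − 1 for some proper divisor r of n. In particular, when n is prime, that order divides q − 1. -/
theorem result {F K : Type*} [Field F] [Fintype F] [Field K] [Fintype K] [Algebra F K] (n : ℕ) (hn : 2 ≤ n) (hdim : Module.finrank F K = n)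
    (g : (Module.End F K)ˣ) (hg : ((Units.map ((Algebra.lmul F K : K →ₐ[F] Module.End F K) : K →* Module.End F K)).range).map (MulAut.conj g).toMonoidHom ≠ (Units.map ((Algebra.lmul F K : K →ₐ[F] Module.End F K) : K →* Module.End F K)).range) :
    ∃ r : ℕ, 1 ≤ r ∧ r ∣ n ∧ r < n ∧ Nat.card ↥(((Units.map ((Algebra.lmul F K : K →ₐ[F] Module.End F K) : K →* Module.End F K)).range).map (MulAut.conj g).toMonoidHom ⊓ (Units.map ((Algebra.lmul F K : K →ₐ[F] Module.End F K) : K →* Module.End F K)).range) ∣ Fintype.card F ^ r - 1 := by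
  classical
  set L : K →* Module.End F K := ((Algebra.lmul F K : K →ₐ[F] Module.End F K) : K →* Module.End F K)
  set C := (Units.map L).range with hC
  set D := C.map (MulAut.conj g).toMonoidHom with hD
  have hL : ∀ k x : K, L k x = k * x := fun _ _ => rfl
  have hinj : Function.Injective (Units.map L) := fun a b h => Units.ext <| by
    have h' := congrArg (fun u : (Module.End F K)ˣ => (u : Module.End F K) 1) h
    simpa [hL] using h'
  -- the elements whose multiplication commutes with `D`
  let Z₀ : Subalgebra F K := (Subalgebra.centralizer F {y : Module.End F K | ∃ u ∈ D, (u : Module.End F K) = y}).comap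
    (Algebra.lmul F K)
  let Z : IntermediateField F K := Z₀.toIntermediateField (fun x hx => by
    rcases eq_or_ne x 0 with rfl | hx0
    · rw [inv_zero]; exact Z₀.zero_mem
    intro y hy
    have h : y * L x = L x * y := hx y hy
    show y * L x⁻¹ = L x⁻¹ * y
    refine LinearMap.ext fun z => ?_
    have h' := LinearMap.congr_fun h (x⁻¹ * z)
    simp only [Module.End.mul_apply, hL, ← mul_assoc, mul_inv_cancel₀ hx0, one_mul] at h'
    rw [Module.End.mul_apply, Module.End.mul_apply, hL, hL, h', ← mul_assoc, inv_mul_cancel₀ hx0, one_mul])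
  have hZne : Z ≠ ⊤ := by
    intro hZ
    apply hg
    refine Subgroup.eq_of_le_of_card_ge ?_ (le_of_eq ?_)
    · intro y hy
      have h : ∀ z : K, (y : Module.End F K) z = z * (y : Module.End F K) 1 := by
        intro z
        have h1 : (y : Module.End F K) * L z = L z * (y : Module.End F K) :=
          (hZ ▸ IntermediateField.mem_top : z ∈ Z) _ ⟨y, hy, rfl⟩
        have h' := LinearMap.congr_fun h1 1
        simpa only [Module.End.mul_apply, hL, mul_one] using h'
      have h0 : (y : Module.End F K) 1 ≠ 0 := by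
        intro h0
        have h2 : ((y⁻¹ * y : (Module.End F K)ˣ) : Module.End F K) 1 = 0 := by
          rw [Units.val_mul, Module.End.mul_apply, h0, map_zero]
        rw [inv_mul_cancel] at h2
        exact one_ne_zero h2
      exact ⟨Units.mk0 _ h0, Units.ext (LinearMap.ext fun z => ((h z).trans (mul_comm _ _)).symm)⟩
    · rw [hD, Subgroup.card_map_of_injective (MulEquiv.injective _)]
  have hrdvd : Module.finrank F Z ∣ n := hdim ▸ Dvd.intro _ (Module.finrank_mul_finrank F Z K)
  have hrlt : Module.finrank F Z < n := by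
    refine lt_of_le_of_ne (Nat.le_of_dvd (by omega) hrdvd) fun h => hZne ?_
    exact IntermediateField.eq_of_le_of_finrank_eq le_top (by rw [IntermediateField.finrank_top', hdim, h])
  refine ⟨Module.finrank F Z, Module.finrank_pos, hrdvd, hrlt, ?_⟩
  have hcard : Nat.card (Z : Type _)ˣ = Fintype.card F ^ Module.finrank F Z - 1 := by
    rw [Nat.card_units, Module.natCard_eq_pow_finrank (K := F) (V := Z), Nat.card_eq_fintype_card]
  rw [← hcard]
  let T : Subgroup Kˣ := (D ⊓ C).comap (Units.map L)
  have hT : Nat.card (D ⊓ C : Subgroup _) = Nat.card T := by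
    rw [← Subgroup.card_map_of_injective hinj (K := T),
      Subgroup.map_comap_eq_self (inf_le_right.trans (le_of_eq hC))]
  rw [hT]
  have hsub : ∀ t : T, ((t : Kˣ) : K) ∈ Z := by
    intro t y hy
    obtain ⟨u, ⟨a, ⟨c, rfl⟩, rfl⟩, rfl⟩ := hy
    obtain ⟨a', ⟨c', rfl⟩, ha'⟩ := t.2.1
    show _ * L ((t : Kˣ) : K) = L ((t : Kˣ) : K) * _
    have e : L ((t : Kˣ) : K) = ((Units.map L (t : Kˣ) : (Module.End F K)ˣ) : Module.End F K) := rfl
    rw [e, ← ha', ← Units.val_mul, ← Units.val_mul, ← map_mul, ← map_mul, ← map_mul, ← map_mul, mul_comm]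
  let ψ : T →* (Z : Type _)ˣ :=
    { toFun := fun t => Units.mk0 ⟨_, hsub t⟩ (fun h => (t : Kˣ).ne_zero (congrArg Subtype.val h))
      map_one' := Units.ext (Subtype.ext rfl)
      map_mul' := fun a b => Units.ext (Subtype.ext rfl) }
  exact Subgroup.card_dvd_of_injective ψ fun a b h => Subtype.ext (Units.ext (congrArg (fun x : (Z : Type _)ˣ => ((x : Z) : K)) h))

end Cfsg.Agent.S5739
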