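import Cfsg.Statements.S5744
import Cfsg.Agent.Lib.Chev.Fi22InTwE6.Ctx
import Cfsg.Agent.S1686
import Cfsg.Agent.S2604
import Cfsg.Agent.S5514

set_option autoImplicit false
open Cfsg

namespace Cfsg.Agent.S5744

/-- The simple group ²E₆(2) (the twisted group of type E₆ over the field with 4 elements) contains at least three pairwise non-conjugate subgroups isomorphic to the orthogonal group Ω₇(3) (the commutator subgroup of the isometry group of x₀² + x₁y₁ + x₂y₂ + x₃y₃ over the field with 3 elements). -/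
theorem result {K : Type*} [Field K] [Fintype K] (hK : Fintype.card K = 4) :
    ∃ H : Fin 3 → Subgroup (Cfsg.Lie.twistedE6 K 2),
      (∀ i, Nonempty ((H i) ≃* Cfsg.Omega (ZMod 3) (Cfsg.quadFormOdd 3 (ZMod 3)))) ∧
      (∀ i j, i ≠ j → ∀ g : (Cfsg.Lie.twistedE6 K 2), (H i).map (MulAut.conj g).toMonoidHom ≠ H j) := by
  obtain ⟨X, w, h, heq, A, hker, hexp⟩ := Cfsg.Lib.Chev.Fi22InTwE6.exists_setting hK
  rw [heq]
  haveI : Fact (Nat.Prime 3) := ⟨Nat.prime_three⟩
  obtain ⟨e⟩ := Cfsg.Agent.S1686.result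
  obtain ⟨o⟩ := Cfsg.Agent.S2604.result (F := ZMod 3) (p := 3) (f := 1) (m := 3) le_rfl (ZMod.card 3) (by norm_num) le_rfl
  have hout : Nat.card (Cfsg.Out (Cfsg.POmega (ZMod 3) (Cfsg.quadFormOdd 3 (ZMod 3)))) = 2 := by
    rw [Nat.card_congr o.toEquiv, Nat.card_congr Multiplicative.toAdd, Nat.card_prod, Nat.card_zmod, Nat.card_zmod]
  obtain ⟨H, h1, h2⟩ := Cfsg.Lib.Chev.Fi22InTwE6.three_of_subgroup h A hker hexp
    (S := Cfsg.Lib.Chev.Fi22InTwE6.subO7) le_rfl hout e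
  exact ⟨H, fun i => ⟨((h1 i).some.trans
    (QuotientGroup.quotientMulEquivOfEq Cfsg.Agent.S5514.center_omega_trivial)).trans QuotientGroup.quotientBot⟩, h2⟩

end Cfsg.Agent.S5744
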