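import Cfsg.Statements.S5747


set_option autoImplicit false
open Cfsg

namespace Cfsg.Agent.S5747

variable {G Ω : Type*} [Group G] [MulAction G Ω]

def Fixes {t : ℕ} (f : Fin t → Ω) (g : G) : Prop := ∀ i, g • f i = f i

def Irr (G : Type*) [Group G] {Ω : Type*} [MulAction G Ω] {t : ℕ} (f : Fin t → Ω) : Prop :=
  ∀ i : Fin t, ∃ g : G, (∀ j : Fin t, j < i → g • f j = f j) ∧ g • f i ≠ f i

def IsBase (G : Type*) [Group G] {Ω : Type*} [MulAction G Ω] {t : ℕ} (f : Fin t → Ω) : Prop :=
  ∀ g : G, Fixes f g → g = 1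

theorem irr_injective {t : ℕ} {f : Fin t → Ω} (h : Irr G f) : Function.Injective f := by
  intro i j hij
  by_contra hne
  rcases lt_or_gt_of_ne hne with hlt | hlt
  · obtain ⟨g, hg, hm⟩ := h j
    exact hm (by rw [← hij]; exact hg i hlt)
  · obtain ⟨g, hg, hm⟩ := h i
    exact hm (by rw [hij]; exact hg j hlt)

theorem irr_snoc {t : ℕ} {f : Fin t → Ω} (h : Irr G f) {x : Ω} (g : G) (hg : Fixes f g)
    (hx : g • x ≠ x) : Irr G (Fin.snoc f x : Fin (t + 1) → Ω) := by
  intro i
  induction i using Fin.lastCases with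
  | last =>
    refine ⟨g, fun j hj => ?_, by simpa using hx⟩
    induction j using Fin.lastCases with
    | last => exact absurd hj (lt_irrefl _)
    | cast j => simpa using hg j
  | cast i =>
    obtain ⟨k, hk, hk'⟩ := h i
    refine ⟨k, fun j hj => ?_, by simpa using hk'⟩
    induction j using Fin.lastCases with
    | last => exact absurd hj (not_lt.2 (Fin.le_last _))
    | cast j => simpa using hk j (by simpa using hj)

theorem extend [Finite G] (S : Set Ω) (hS : ∀ g : G, (∀ x ∈ S, g • x = x) → g = 1) :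
    ∀ (N t : ℕ) (f : Fin t → Ω), Nat.card {g : G // Fixes f g} ≤ N → Irr G f →
      ∃ (t' : ℕ) (f' : Fin t' → Ω), IsBase G f' ∧ Irr G f' ∧ t ≤ t' ∧ (¬ IsBase G f → t < t') ∧
        Set.range f' ⊆ Set.range f ∪ S := by
  intro N
  induction N with
  | zero =>
    intro t f hN _
    have : 0 < Nat.card {g : G // Fixes f g} := Nat.card_pos_iff.2 ⟨⟨⟨1, fun i => one_smul _ _⟩⟩, inferInstance⟩
    omega
  | succ N ih =>
    intro t f hN hf
    by_cases hb : IsBase G f
    · exact ⟨t, f, hb, hf, le_rfl, fun h => absurd hb h, Set.subset_union_left⟩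
    obtain ⟨g, hg, hg1⟩ : ∃ g : G, Fixes f g ∧ g ≠ 1 := by
      by_contra h
      push_neg at h
      exact hb h
    obtain ⟨x, hx, hgx⟩ : ∃ x ∈ S, g • x ≠ x := by
      by_contra h
      push_neg at h
      exact hg1 (hS g h)
    have hcard : Nat.card {k : G // Fixes (Fin.snoc f x : Fin (t + 1) → Ω) k} ≤ N := by
      have hlt : Nat.card {k : G // Fixes (Fin.snoc f x : Fin (t + 1) → Ω) k} < Nat.card {k : G // Fixes f k} :=
        Set.ncard_lt_ncard (s := {k : G | Fixes (Fin.snoc f x : Fin (t + 1) → Ω) k}) (t := {k : G | Fixes f k})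
          ⟨fun k hk i => by simpa using hk i.castSucc, fun h => hgx (by simpa using h hg (Fin.last t))⟩
          (Set.toFinite _)
      omega
    obtain ⟨t', f', h1, h2, h3, -, h5⟩ := ih (t + 1) _ hcard (irr_snoc hf g hg hgx)
    refine ⟨t', f', h1, h2, by omega, fun _ => by omega, h5.trans ?_⟩
    refine Set.union_subset ?_ Set.subset_union_right
    rintro _ ⟨i, rfl⟩
    induction i using Fin.lastCases with
    | last => right; simpa using hx
    | cast i => left; simp

theorem length_le_card [Fintype Ω] [DecidableEq Ω] {t : ℕ} {f : Fin t → Ω} (h : Irr G f) (s : Finset Ω)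
    (hs : ∀ i, f i ∈ s) : t ≤ s.card := by
  simpa using Finset.card_le_card_of_injOn (s := (Finset.univ : Finset (Fin t))) f (fun i _ => hs i)
    (irr_injective h).injOn

theorem same_size [Finite G] [Fintype Ω] [DecidableEq Ω]
    (H : ∀ (t : ℕ) (f : Fin t → Ω) (σ : Equiv.Perm (Fin t)), IsBase G f → Irr G f → Irr G (f ∘ σ))
    {t : ℕ} (f : Fin t → Ω) (hb : IsBase G f) :
    ∀ (c t' : ℕ) (f' : Fin t' → Ω), (Finset.univ.image f' \ Finset.univ.image f).card ≤ c →
      IsBase G f' → Irr G f' → t' ≤ t := by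
  intro c
  induction c with
  | zero =>
    intro t' f' hc _ hi
    refine le_trans (length_le_card hi (Finset.univ.image f) fun i => ?_) (Finset.card_image_le.trans (by simp))
    by_contra h
    have h2 : f' i ∈ Finset.univ.image f' \ Finset.univ.image f :=
      Finset.mem_sdiff.2 ⟨Finset.mem_image_of_mem _ (Finset.mem_univ i), h⟩
    have := Finset.card_pos.2 ⟨_, h2⟩
    omega
  | succ c ih =>
    intro t' f' hc hb' hi'
    by_cases hsub : ∀ i, f' i ∈ Finset.univ.image f
    · exact le_trans (length_le_card hi' _ hsub) (Finset.card_image_le.trans (by simp))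
    push_neg at hsub
    obtain ⟨i, hi⟩ := hsub
    obtain ⟨m, rfl⟩ : ∃ m, t' = m + 1 := ⟨t' - 1, by have := i.2; omega⟩
    have hi2 := H _ f' (Equiv.swap i (Fin.last m)) hb' hi'
    set f1 := f' ∘ Equiv.swap i (Fin.last m)
    let e : Fin m → Ω := fun j => f1 j.castSucc
    have he : Irr G e := fun j => by
      obtain ⟨g, hg, hg'⟩ := hi2 j.castSucc
      exact ⟨g, fun k hk => hg k.castSucc (by simpa using hk), hg'⟩
    have hnb : ¬ IsBase G e := fun h => by
      obtain ⟨g, hg, hg'⟩ := hi2 (Fin.last m)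
      exact hg' (by rw [h g (fun k => hg k.castSucc (Fin.castSucc_lt_last k)), one_smul])
    obtain ⟨t'', f'', h1, h2, -, h4, h5⟩ := extend (Set.range f)
      (fun g hg => hb g (fun j => hg _ ⟨j, rfl⟩)) _ m e le_rfl he
    have hlt := h4 hnb
    refine le_trans hlt (ih t'' f'' ?_ h1 h2)
    have hmem : f' i ∈ Finset.univ.image f' \ Finset.univ.image f :=
      Finset.mem_sdiff.2 ⟨Finset.mem_image_of_mem _ (Finset.mem_univ i), hi⟩
    have hs : Finset.univ.image f'' \ Finset.univ.image f ⊆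
        (Finset.univ.image f' \ Finset.univ.image f).erase (f' i) := by
      intro x hx
      obtain ⟨hx1, hx2⟩ := Finset.mem_sdiff.1 hx
      obtain ⟨k, -, rfl⟩ := Finset.mem_image.1 hx1
      rcases h5 ⟨k, rfl⟩ with ⟨j, hj⟩ | ⟨j, hj⟩
      · rw [← hj] at hx2 ⊢
        refine Finset.mem_erase.2 ⟨fun heq => ?_, Finset.mem_sdiff.2
          ⟨Finset.mem_image_of_mem _ (Finset.mem_univ _), hx2⟩⟩
        have : Equiv.swap i (Fin.last m) j.castSucc = i := irr_injective hi' heq
        rw [Equiv.swap_apply_eq_iff, Equiv.swap_apply_left] at this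
        exact (Fin.castSucc_lt_last j).ne this
      · exact absurd (hj ▸ Finset.mem_image_of_mem f (Finset.mem_univ j)) hx2
    have := Finset.card_le_card hs
    rw [Finset.card_erase_of_mem hmem] at this
    omega

/-- Let a finite group G act on a finite set Ω. An irredundant base is a sequence of points ω₁, …, ω_t whose pointwise stabiliser is trivial and in which each ω_i is moved by some element fixing ω₁, …, ω_{i−1}. Then all irredundant bases have the same length if and only if every reordering of an irredundant base is again an irredundant base. -/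
theorem result {G Ω : Type*} [Group G] [Finite G] [MulAction G Ω] [Fintype Ω] :
    (∀ (t t' : ℕ) (f : Fin t → Ω) (f' : Fin t' → Ω), ((∀ g : G, (∀ i : Fin t, g • f i = f i) → g = 1) ∧ ∀ i : Fin t, ∃ g : G, (∀ j : Fin t, j < i → g • f j = f j) ∧ g • f i ≠ f i) → ((∀ g : G, (∀ i : Fin t', g • f' i = f' i) → g = 1) ∧ ∀ i : Fin t', ∃ g : G, (∀ j : Fin t', j < i → g • f' j = f' j) ∧ g • f' i ≠ f' i) → t = t') ↔
    (∀ (t : ℕ) (f : Fin t → Ω) (σ : Equiv.Perm (Fin t)), ((∀ g : G, (∀ i : Fin t, g • f i = f i) → g = 1) ∧ ∀ i : Fin t, ∃ g : G, (∀ j : Fin t, j < i → g • f j = f j) ∧ g • f i ≠ f i) → ((∀ g : G, (∀ i : Fin t, g • (f ∘ σ) i = (f ∘ σ) i) → g = 1) ∧ ∀ i : Fin t, ∃ g : G, (∀ j : Fin t, j < i → g • (f ∘ σ) j = (f ∘ σ) j) ∧ g • (f ∘ σ) i ≠ (f ∘ σ) i)) := by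
  classical
  constructor
  · intro hsame t f σ hf
    have hb : IsBase G f := hf.1
    have hbσ : IsBase G (f ∘ σ) := fun g hg => hb g (fun i => by simpa using hg (σ.symm i))
    refine ⟨hbσ, fun i => ?_⟩
    by_contra hno
    push_neg at hno
    -- dropping entry `i` still leaves a base
    set e := f ∘ σ
    let s : Finset Ω := (Finset.univ.erase i).image e
    have hbs : ∀ g : G, (∀ x ∈ (s : Set Ω), g • x = x) → g = 1 := by
      intro g hg
      refine hbσ g fun j => ?_
      rcases eq_or_ne j i with rfl | hj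
      · exact hno g fun k hk => hg _ (Finset.mem_coe.2 (Finset.mem_image_of_mem _ (Finset.mem_erase.2 ⟨hk.ne, Finset.mem_univ _⟩)))
      · exact hg _ (Finset.mem_coe.2 (Finset.mem_image_of_mem _ (Finset.mem_erase.2 ⟨hj, Finset.mem_univ _⟩)))
    obtain ⟨t', f', h1, h2, -, -, h5⟩ := extend (s : Set Ω) hbs _ 0 (Fin.elim0 : Fin 0 → Ω) le_rfl
      (fun k => k.elim0)
    have hle : t' ≤ s.card := length_le_card h2 s fun j => by
      rcases h5 ⟨j, rfl⟩ with ⟨k, -⟩ | h
      · exact k.elim0
      · exact h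
    have hcard : s.card ≤ t - 1 := by
      refine Finset.card_image_le.trans ?_
      rw [Finset.card_erase_of_mem (Finset.mem_univ i), Finset.card_univ, Fintype.card_fin]
    have := hsame t t' f f' hf ⟨h1, h2⟩
    have := i.2
    omega
  · intro H t t' f f' hf hf'
    have H' : ∀ (t : ℕ) (f : Fin t → Ω) (σ : Equiv.Perm (Fin t)), IsBase G f → Irr G f → Irr G (f ∘ σ) :=
      fun t f σ h1 h2 => (H t f σ ⟨h1, h2⟩).2
    exact le_antisymm (same_size H' f' hf'.1 _ t f le_rfl hf.1 hf.2)
      (same_size H' f hf.1 _ t' f' le_rfl hf'.1 hf'.2)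

end Cfsg.Agent.S5747
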