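import Cfsg.Statements.S5748
import Cfsg.Agent.Lib.Char.CAEven
import Cfsg.Agent.Lib.Local.CNTheorem
import Cfsg.Agent.Lib.Invol.Basic
import Cfsg.Agent.Lib.Invol.Cyclic
import Cfsg.Agent.S1229
import Cfsg.Agent.S4702


set_option autoImplicit false
set_option linter.style.haveILetI false
open Cfsg

namespace Cfsg.Agent.S5748

open Subgroup

universe u

theorem sl_two_center_bot {F : Type*} [Field F] [CharP F 2] :
    Subgroup.center (Matrix.SpecialLinearGroup (Fin 2) F) = ⊥ := by
  refine (Subgroup.eq_bot_iff_forall _).mpr fun g hg => ?_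
  obtain ⟨c, hc, hg'⟩ := Matrix.SpecialLinearGroup.mem_center_iff.mp hg
  rw [Fintype.card_fin] at hc
  have hc1 : c = 1 := frobenius_inj F 2 (show c ^ 2 = (1 : F) ^ 2 by rw [hc, one_pow])
  refine Subtype.ext ?_
  rw [← hg', hc1, map_one]
  rfl

/-- Commuting is transitive on non-identity elements of `SL₂` in characteristic two. -/
theorem sl_two_ct {F : Type*} [Field F] [CharP F 2] (a b c : Matrix.SpecialLinearGroup (Fin 2) F)
    (hb : b ≠ 1) (hab : Commute a b) (hbc : Commute b c) : Commute a c := by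
  have entries : ∀ x y : Matrix.SpecialLinearGroup (Fin 2) F, Commute x y →
      x.1 0 1 * y.1 1 0 = y.1 0 1 * x.1 1 0 ∧
      x.1 0 1 * (y.1 1 1 - y.1 0 0) = y.1 0 1 * (x.1 1 1 - x.1 0 0) ∧
      x.1 1 0 * (y.1 1 1 - y.1 0 0) = y.1 1 0 * (x.1 1 1 - x.1 0 0) := by
    intro x y h
    have h' : x.1 * y.1 = y.1 * x.1 := congrArg Subtype.val h.eq
    have h00 := congrFun (congrFun h' 0) 0
    have h01 := congrFun (congrFun h' 0) 1
    have h10 := congrFun (congrFun h' 1) 0
    simp only [Matrix.mul_apply, Fin.sum_univ_two] at h00 h01 h10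
    exact ⟨by linear_combination h00, by linear_combination h01, by linear_combination -h10⟩
  obtain ⟨p1, p2, p3⟩ := entries a b hab
  obtain ⟨q1, q2, q3⟩ := entries b c hbc
  have hne : b.1 0 1 ≠ 0 ∨ b.1 1 0 ≠ 0 ∨ b.1 1 1 - b.1 0 0 ≠ 0 := by
    by_contra hcon
    push Not at hcon
    obtain ⟨h1, h2, h3⟩ := hcon
    have hd := b.2
    rw [Matrix.det_fin_two, h1, h2, sub_eq_zero.mp h3, zero_mul, sub_zero] at hd
    have h4 : b.1 0 0 = 1 := frobenius_inj F 2 (show b.1 0 0 ^ 2 = (1 : F) ^ 2 by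
      rw [one_pow, pow_two, hd])
    refine hb (Subtype.ext ?_)
    ext i j
    fin_cases i <;> fin_cases j <;> simp [h1, h2, h4, sub_eq_zero.mp h3]
  obtain ⟨r1, r2, r3⟩ : a.1 0 1 * c.1 1 0 = c.1 0 1 * a.1 1 0 ∧
      a.1 0 1 * (c.1 1 1 - c.1 0 0) = c.1 0 1 * (a.1 1 1 - a.1 0 0) ∧
      a.1 1 0 * (c.1 1 1 - c.1 0 0) = c.1 1 0 * (a.1 1 1 - a.1 0 0) := by
    rcases hne with h | h | h
    · refine ⟨?_, ?_, ?_⟩ <;> apply mul_left_cancel₀ h
      · linear_combination a.1 0 1 * q1 + c.1 0 1 * p1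
      · linear_combination a.1 0 1 * q2 + c.1 0 1 * p2
      · linear_combination a.1 1 0 * q2 + c.1 0 1 * p3 - (a.1 1 1 - a.1 0 0) * q1
    · refine ⟨?_, ?_, ?_⟩ <;> apply mul_left_cancel₀ h
      · linear_combination c.1 1 0 * p1 + a.1 1 0 * q1
      · linear_combination (c.1 1 1 - c.1 0 0) * p1 + a.1 1 0 * q2 + c.1 0 1 * p3
      · linear_combination a.1 1 0 * q3 + c.1 1 0 * p3
    · refine ⟨?_, ?_, ?_⟩ <;> apply mul_left_cancel₀ h
      · linear_combination (c.1 1 1 - c.1 0 0) * p1 + a.1 1 0 * q2 - a.1 0 1 * q3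
      · linear_combination (c.1 1 1 - c.1 0 0) * p2 + (a.1 1 1 - a.1 0 0) * q2
      · linear_combination (c.1 1 1 - c.1 0 0) * p3 + (a.1 1 1 - a.1 0 0) * q3
  refine Subtype.ext ?_
  show a.1 * c.1 = c.1 * a.1
  ext i j
  fin_cases i <;> fin_cases j <;> simp only [Matrix.mul_apply, Fin.sum_univ_two, Fin.mk_zero, Fin.mk_one, Fin.isValue, Fin.zero_eta] 
  · linear_combination r1
  · linear_combination r2
  · linear_combination -r3
  · linear_combination -r1

variable {G : Type u} [Group G] [Finite G] [IsSimpleGroup G]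

theorem forward (hG : ¬ IsMulCommutative G)
    (hct : ∀ a b c : G, a ≠ 1 → b ≠ 1 → c ≠ 1 → Commute a b → Commute b c → Commute a c) :
    ∃ (F : Type) (_ : Field F) (_ : Fintype F) (f : ℕ), 2 ≤ f ∧ Fintype.card F = 2 ^ f ∧
      Nonempty (G ≃* Matrix.ProjectiveSpecialLinearGroup (Fin 2) F) := by
  classical
  haveI := Fintype.ofFinite G
  have hcen : ∀ x : G, x ≠ 1 → ∀ a ∈ centralizer ({x} : Set G), ∀ b ∈ centralizer ({x} : Set G),
      a * b = b * a := by
    intro x hx a ha b hb
    rw [mem_centralizer_singleton_iff] at ha hb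
    by_cases ha1 : a = 1
    · simp [ha1]
    by_cases hb1 : b = 1
    · simp [hb1]
    exact (hct a x b ha1 hx hb1 ha (hb.symm)).eq
  have hCA : ∀ x : G, x ≠ 1 → Cfsg.Lib.Char.CAEven.IsCA (centralizer ({x} : Set G)) := by
    intro x hx
    refine ⟨hcen x hx, fun y hy hy1 => le_antisymm ?_ ?_⟩
    · intro c hc
      rw [mem_centralizer_singleton_iff]
      exact hcen y hy1 c hc x (mem_centralizer_singleton_iff.mpr (mem_centralizer_singleton_iff.mp hy).symm)
    · intro c hc
      rw [mem_centralizer_singleton_iff]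
      exact hcen x hx c hc y hy
  have hnsolv : ¬ Group.IsSolvable G := fun h => hG ⟨⟨fun a b =>
    IsSimpleGroup.comm_iff_isSolvable.mpr h a b⟩⟩
  have heven : Even (Nat.card G) := by
    by_contra hodd
    refine hnsolv (Cfsg.Lib.Local.CN.isSolvable_of_odd (Nat.not_even_iff_odd.mp hodd) fun x hx => ?_)
    letI : CommGroup (centralizer ({x} : Set G)) :=
      { (inferInstance : Group (centralizer ({x} : Set G))) with
        mul_comm := fun a b => Subtype.ext (hcen x hx a a.2 b b.2) }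
    infer_instance
  have hnormal : ∀ H : Subgroup G, H.Normal → (∀ a ∈ H, ∀ b ∈ H, a * b = b * a) → H = ⊥ := by
    intro H hH hc
    rcases hH.eq_bot_or_eq_top with h | h
    · exact h
    · exact absurd ⟨⟨fun a b => hc a (h ▸ mem_top a) b (h ▸ mem_top b)⟩⟩ hG
  have hconj : ∀ x y : G, x ≠ 1 → x * x = 1 → y ≠ 1 → y * y = 1 → IsConj x y := by
    intro x y hx hxx hy hyy
    have ho : ∀ w : G, w ≠ 1 → w * w = 1 → orderOf w = 2 := fun w hw hww =>
      orderOf_eq_prime (by rw [pow_two, hww]) hw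
    have key : ∀ u v : G, u ≠ 1 → u * u = 1 → v ≠ 1 → v * v = 1 → ¬ Commute u v → IsConj u v := by
      intro u v hu huu hv hvv hn
      refine Cfsg.Lib.Invol.isConj_of_odd (ho u hu huu) (ho v hv hvv) (Nat.not_even_iff_odd.mp fun he => hn ?_)
      obtain ⟨h1, h2, h3⟩ := Cfsg.Lib.Invol.central_involution (ho u hu huu) (ho v hv hvv) he
      exact hct u _ v hu (fun e1 => by rw [e1, orderOf_one] at h1; omega) hv h2.symm h3
    by_cases hc : Commute x y
    · obtain ⟨u, hu, huu, hun⟩ : ∃ u : G, u ≠ 1 ∧ u * u = 1 ∧ ¬ Commute u x := by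
        by_contra hall
        push Not at hall
        have hall' : ∀ g : G, g * x * g⁻¹ ∈ centralizer ({x} : Set G) := fun g =>
          mem_centralizer_singleton_iff.mpr (hall _ (fun e1 => hx (conj_eq_one_iff.mp e1)) (by
            calc g * x * g⁻¹ * (g * x * g⁻¹) = g * (x * x) * g⁻¹ := by group
              _ = 1 := by rw [hxx]; group)).eq
        have hle : normalClosure ({x} : Set G) ≤ centralizer ({x} : Set G) := by
          refine (closure_le _).mpr fun z hz => ?_
          obtain ⟨w, hw, hwz⟩ := Group.mem_conjugatesOfSet_iff.mp hz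
          rw [Set.mem_singleton_iff.mp hw] at hwz
          obtain ⟨g, rfl⟩ := isConj_iff.mp hwz
          exact hall' g
        have := hnormal _ normalClosure_normal fun a ha b hb => hcen x hx a (hle ha) b (hle hb)
        exact hx (mem_bot.mp (this ▸ subset_normalClosure (Set.mem_singleton x)))
      have huy : ¬ Commute u y := fun h => hun (hct u y x hu hy hx h hc.symm)
      exact (key u x hu huu hx hxx hun).symm.trans (key u y hu huu hy hyy huy)
    · exact key x y hx hxx hy hyy hc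
  haveI : Fact (Nat.Prime 2) := ⟨Nat.prime_two⟩
  obtain ⟨T⟩ : Nonempty (Sylow 2 G) := inferInstance
  have hT1 : (T : Subgroup G) ≠ ⊥ := fun h => by
    have := Sylow.dvd_card_of_dvd_card T (even_iff_two_dvd.mp heven)
    rw [h, Subgroup.card_bot] at this
    omega
  haveI : Nontrivial (T : Subgroup G) := (Subgroup.nontrivial_iff_ne_bot _).mpr hT1
  haveI := T.2.center_nontrivial
  obtain ⟨⟨⟨z, hzT⟩, hzc⟩, hz⟩ := exists_prime_orderOf_dvd_card' (G := Subgroup.center (T : Subgroup G)) 2 (by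
    obtain ⟨k, hk⟩ := IsPGroup.iff_card.mp (T.2.to_subgroup (Subgroup.center (T : Subgroup G)))
    rw [hk]
    refine dvd_pow_self 2 fun h0 => ?_
    rw [h0, pow_zero] at hk
    exact absurd hk (Finite.one_lt_card (α := Subgroup.center (T : Subgroup G))).ne')
  have hzo : orderOf z = 2 := by simpa [Subgroup.orderOf_mk] using hz
  have hz1 : z ≠ 1 := fun e1 => by rw [e1, orderOf_one] at hzo; omega
  have hzz : z * z = 1 := by rw [← pow_two, ← hzo, pow_orderOf_eq_one]
  set A := centralizer ({z} : Set G) with hA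
  have hTA : (T : Subgroup G) ≤ A := fun w hw => mem_centralizer_singleton_iff.mpr
    (congrArg Subtype.val (Subgroup.mem_center_iff.mp hzc ⟨w, hw⟩))
  have hzA : z ∈ A := hTA hzT
  obtain ⟨z', hz'A, hz'1, hz'2, hz'z⟩ : ∃ z', z' ∈ A ∧ z' ≠ 1 ∧ z' * z' = 1 ∧ z' ≠ z := by
    by_contra hall
    push Not at hall
    have hP : normalizer ((T : Subgroup G) : Set G) ≤ centralizer ((T : Subgroup G) : Set G) := by
      intro n hn
      have h1 : n * z * n⁻¹ ∈ (T : Subgroup G) := (mem_normalizer_iff.mp hn z).mp hzT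
      have h2 : n * z * n⁻¹ = z := hall _ (hTA h1) (fun e1 => hz1 (conj_eq_one_iff.mp e1)) (by
        calc n * z * n⁻¹ * (n * z * n⁻¹) = n * (z * z) * n⁻¹ := by group
          _ = 1 := by rw [hzz]; group)
      have hnA : n ∈ A := (hCA z hz1).fix hzA hz1 h2
      exact mem_centralizer_iff.mpr fun w hw => hcen z hz1 w (hTA hw) n hnA
    have hc := MonoidHom.ker_transferSylow_isComplement' T hP
    rcases (inferInstance : (MonoidHom.transferSylow T hP).ker.Normal).eq_bot_or_eq_top with h | h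
    · rw [h, isComplement'_bot_left] at hc
      exact hG ⟨⟨fun a b => hcen z hz1 a (hTA (hc ▸ mem_top a)) b (hTA (hc ▸ mem_top b))⟩⟩
    · rw [h, isComplement'_top_left] at hc
      exact hT1 hc
  have hnorm : normalizer (A : Set G) ≠ ⊤ := fun h => hz1 (mem_bot.mp
    (hnormal A (normalizer_eq_top_iff.mp h) (hcen z hz1) ▸ hzA))
  have hsq := Cfsg.Lib.Char.CAEven.sq_eq_one (hCA z hz1) hzA hz1 hzz hconj hz'A hz'1 hz'2 hz'z hnorm
  have hC : ∀ t : G, orderOf t = 2 → IsMulCommutative (centralizer ({t} : Set G)) ∧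
      ∀ c ∈ centralizer ({t} : Set G), c ^ 2 = 1 := by
    intro t ht
    have ht1 : t ≠ 1 := fun e1 => by rw [e1, orderOf_one] at ht; omega
    refine ⟨⟨⟨fun a b => Subtype.ext (hcen t ht1 a a.2 b b.2)⟩⟩, fun c hc => ?_⟩
    obtain ⟨g, hg⟩ := isConj_iff.mp (hconj z t hz1 hzz ht1 (by rw [← pow_two, ← ht, pow_orderOf_eq_one]))
    have h1 := hsq (g⁻¹ * c * g) (mem_centralizer_singleton_iff.mpr (by
      have hc' := mem_centralizer_singleton_iff.mp hc
      calc g⁻¹ * c * g * z = g⁻¹ * (c * (g * z * g⁻¹)) * g := by group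
        _ = g⁻¹ * (g * z * g⁻¹ * c) * g := by rw [hg, hc']
        _ = _ := by group))
    calc c ^ 2 = g * (g⁻¹ * c * g * (g⁻¹ * c * g)) * g⁻¹ := by rw [pow_two]; group
      _ = 1 := by rw [h1]; group
  have hAT : A = (T : Subgroup G) :=
    T.3 (fun a => ⟨1, Subtype.ext (by rw [pow_one, pow_two]; exact hsq a a.2)⟩) hTA
  have hnc : ¬ IsCyclic (T : Subgroup G) := by
    intro hc
    haveI := hc
    refine hz'z ?_
    exact Cfsg.Lib.Invol.eq_of_pow_two_group_cyclic hc (hAT ▸ hz'A) hzT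
      (orderOf_eq_prime (by rw [pow_two, hz'2]) hz'1) hzo
  have hnn : ¬ (T : Subgroup G).Normal := fun h => hT1 (hnormal _ h fun a ha b hb =>
    hcen z hz1 a (hTA ha) b (hTA hb))
  obtain ⟨h3, hfix, hreg⟩ := Cfsg.Agent.S1229.result T hnc hnn hC
  set M := normalizer ((T : Subgroup G) : Set G) with hM
  haveI := Fintype.ofFinite (G ⧸ M)
  -- the number of cosets
  have hcard : Fintype.card (G ⧸ M) = Nat.card (T : Subgroup G) + 1 := by
    obtain ⟨g, hg⟩ : ∃ g, g ∉ M := by
      by_contra hall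
      push Not at hall
      exact hnn (normalizer_eq_top_iff.mp (eq_top_iff.mpr fun g _ => hall g))
    have hx : (QuotientGroup.mk g : G ⧸ M) ≠ QuotientGroup.mk 1 := fun e1 => hg (by
      simpa using inv_mem (QuotientGroup.eq.mp e1))
    have hbij : Nat.card {x : G ⧸ M // x ≠ QuotientGroup.mk 1} = Nat.card (T : Subgroup G) := by
      have hto : ∀ t : (T : Subgroup G), (t : G) • (QuotientGroup.mk g : G ⧸ M) ≠ QuotientGroup.mk 1 := by
        intro t e1
        refine hx ?_
        have e2 : (t : G) • (QuotientGroup.mk 1 : G ⧸ M) = QuotientGroup.mk 1 := by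
          rw [MulAction.Quotient.smul_mk, smul_eq_mul, mul_one]
          exact QuotientGroup.eq.mpr (by simpa using inv_mem (show (t : G) ∈ M from le_normalizer t.2))
        exact smul_left_cancel (t : G) (e1.trans e2.symm)
      refine (Nat.card_eq_of_bijective (fun t : (T : Subgroup G) =>
        (⟨_, hto t⟩ : {x : G ⧸ M // x ≠ QuotientGroup.mk 1})) ⟨?_, ?_⟩).symm
      · intro a b e1
        have e2 : (a : G) • (QuotientGroup.mk g : G ⧸ M) = (b : G) • QuotientGroup.mk g :=
          congrArg Subtype.val e1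
        obtain ⟨w, hw, huniq⟩ := hreg _ _ hx (hto a)
        exact Subtype.ext ((huniq a ⟨a.2, rfl⟩).trans (huniq b ⟨b.2, e2.symm⟩).symm)
      · rintro ⟨y, hy⟩
        obtain ⟨w, ⟨hw, hwy⟩, -⟩ := hreg _ y hx hy
        exact ⟨⟨w, hw⟩, Subtype.ext hwy⟩
    have h1 := Fintype.card_subtype_compl (fun x : G ⧸ M => x = QuotientGroup.mk 1)
    rw [Fintype.card_subtype_eq, ← Nat.card_eq_fintype_card, hbij] at h1
    have h2 : 0 < Fintype.card (G ⧸ M) := Fintype.card_pos
    omega
  obtain ⟨k, hk⟩ := IsPGroup.iff_card.mp T.2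
  have hT4 : 2 < Nat.card (T : Subgroup G) := by
    by_contra hle
    push Not at hle
    apply hnc
    have h1 : 1 < Nat.card (T : Subgroup G) := Finite.one_lt_card
    exact isCyclic_of_prime_card (p := 2) (by omega)
  have hk2 : 2 ≤ k := by
    by_contra hlt
    have hle2 : 2 ^ k ≤ 2 ^ 1 := Nat.pow_le_pow_right (by norm_num) (by omega)
    rw [hk] at hT4
    omega
  let π : G →* Equiv.Perm (G ⧸ M) := MulAction.toPermHom G (G ⧸ M)
  have hπ : Function.Injective π := by
    rw [← MonoidHom.ker_eq_bot_iff]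
    rcases π.normal_ker.eq_bot_or_eq_top with h | h
    · exact h
    · exfalso
      refine hnn (normalizer_eq_top_iff.mp (eq_top_iff.mpr fun g _ => ?_))
      have h1 : π g = 1 := MonoidHom.mem_ker.mp (h ▸ mem_top g)
      have h2 : (g • QuotientGroup.mk 1 : G ⧸ M) = QuotientGroup.mk 1 :=
        Equiv.ext_iff.mp h1 (QuotientGroup.mk 1)
      rw [MulAction.Quotient.smul_mk, smul_eq_mul, mul_one] at h2
      show g ∈ M
      simpa using inv_mem (QuotientGroup.eq.mp h2)
  let e : G ≃* π.range := MonoidHom.ofInjective hπ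
  have hP3 : MulAction.IsMultiplyPretransitive π.range (G ⧸ M) 3 := by
    rw [MulAction.isMultiplyPretransitive_iff]
    intro x y
    obtain ⟨g, g0, g1, g2⟩ := h3 (x 0) (x 1) (x 2) (y 0) (y 1) (y 2)
      (x.injective.ne (by decide)) (x.injective.ne (by decide)) (x.injective.ne (by decide))
      (y.injective.ne (by decide)) (y.injective.ne (by decide)) (y.injective.ne (by decide))
    refine ⟨e g, ?_⟩
    ext i
    fin_cases i
    · exact g0
    · exact g1
    · exact g2
  have hPfix : ∀ g : π.range, 3 ≤ Nat.card (MulAction.fixedBy (G ⧸ M) g) → g = 1 := by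
    intro g hg
    obtain ⟨g, rfl⟩ := e.surjective g
    rw [Nat.card_eq_fintype_card] at hg
    obtain ⟨a, b, c, h12, h13, h23⟩ := Fintype.two_lt_card_iff.mp hg
    rw [hfix g a b c (fun e1 => h12 (Subtype.ext e1)) (fun e1 => h13 (Subtype.ext e1))
      (fun e1 => h23 (Subtype.ext e1)) a.2 b.2 c.2, map_one]
  obtain ⟨f, hf, hfc, F, iF, iFt, hFc, ⟨eF⟩⟩ := Cfsg.Agent.S4702.result (by omega)
    (by rw [hcard, hk]; exact (Nat.even_pow.mpr ⟨even_two, by omega⟩).add_one) π.range hP3 hPfix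
  haveI : CharP F 2 := charP_of_card_eq_prime_pow hFc
  refine ⟨F, iF, iFt, f, ?_, hFc, ⟨(e.trans eF).trans (MulEquiv.ofBijective
    (QuotientGroup.mk' (Subgroup.center (Matrix.SpecialLinearGroup (Fin 2) F))) ⟨?_, QuotientGroup.mk'_surjective _⟩)⟩⟩
  · have h1 : 2 ^ f = 2 ^ k := by omega
    rw [Nat.pow_right_injective le_rfl h1]
    exact hk2
  · rw [← MonoidHom.ker_eq_bot_iff, QuotientGroup.ker_mk', sl_two_center_bot]

/-- A finite non-abelian simple group in which commuting is a transitive relation on the non-identity elements (equivalently, every non-identity element has abelian centraliser) is isomorphic to PSL₂ over a field with 2^f elements for some f ≥ 2; conversely these groups have that property. -/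
theorem result {G : Type*} [Group G] [Finite G] [IsSimpleGroup G] (hG : ¬ IsMulCommutative G) :
    (∀ a b c : G, a ≠ 1 → b ≠ 1 → c ≠ 1 → Commute a b → Commute b c → Commute a c) ↔
    ∃ (F : Type) (_ : Field F) (_ : Fintype F) (f : ℕ), 2 ≤ f ∧ Fintype.card F = 2 ^ f ∧ Nonempty (G ≃* Matrix.ProjectiveSpecialLinearGroup (Fin 2) F) := by
  refine ⟨forward hG, ?_⟩
  rintro ⟨F, iF, iFt, f, hf, hF, ⟨e⟩⟩ a b c - hb - hab hbc
  haveI : Fact (Nat.Prime 2) := ⟨Nat.prime_two⟩
  haveI : CharP F 2 := charP_of_card_eq_prime_pow hF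
  let q := MulEquiv.ofBijective (QuotientGroup.mk' (Subgroup.center (Matrix.SpecialLinearGroup (Fin 2) F)))
    ⟨by rw [← MonoidHom.ker_eq_bot_iff, QuotientGroup.ker_mk', sl_two_center_bot],
      QuotientGroup.mk'_surjective _⟩
  let ψ := e.trans q.symm
  have h := sl_two_ct (ψ a) (ψ b) (ψ c) ((map_ne_one_iff _ ψ.injective).mpr hb) (hab.map ψ.toMonoidHom) (hbc.map ψ.toMonoidHom)
  exact ψ.injective (by rw [map_mul, map_mul, h.eq])

end Cfsg.Agent.S5748
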