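import Cfsg.Statements.S5751
import Cfsg.Agent.Lib.E8Core.Base

set_option autoImplicit false
open Cfsg

namespace Cfsg.Agent.S5751

open Cfsg.Lie Cfsg.Lib.Chev Cfsg.Agent.E8Core

/-- The group E8(2). -/
abbrev G8 := ↥(chevE8.group K2)

/-- The conjugating reflection. -/
noncomputable def g8 : G8 := ⟨sw, monomial_le_group cE (nu_mem cE 3 (by rw [rankE]; norm_num))⟩

/-- The first sequence. -/
noncomputable def seqA (i : ℕ) : Subgroup G8 :=
  (if i = 0 then P else V (i + 1)).subgroupOf (chevE8.group K2)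

theorem seqA_le (i : ℕ) : seqA i ≤ seqA 0 := by
  refine Subgroup.comap_mono ?_
  rcases Nat.eq_zero_or_pos i with rfl | h
  · exact le_rfl
  · simp only [if_neg h.ne', if_true]
    exact V_le_P (by omega)

theorem mem_seqA0 {g : G8} : g ∈ seqA 0 ↔ (g : GE) ∈ P := by
  simp only [seqA, if_true, Subgroup.mem_subgroupOf]

theorem seqA_normal (i : ℕ) : ∀ g ∈ seqA 0, ∀ y ∈ seqA i, g * y * g⁻¹ ∈ seqA i := by
  intro g hg y hy
  rcases Nat.eq_zero_or_pos i with rfl | h
  · exact mul_mem (mul_mem hg hy) (inv_mem hg)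
  · simp only [seqA, if_neg h.ne', if_true, Subgroup.mem_subgroupOf] at hg hy ⊢
    exact P_norm_V (by omega) hg hy

theorem core_eq {G : Type*} [Group G] {M X Z : Subgroup G} (hXM : X ≤ M) (hZX : Z ≤ X)
    (hZ : ∀ g ∈ M, ∀ y ∈ Z, g * y * g⁻¹ ∈ Z)
    (hmax : ∀ N : Subgroup G, N ≤ X → (∀ g ∈ M, ∀ y ∈ N, g * y * g⁻¹ ∈ N) → N ≤ Z) :
    Z = (X.subgroupOf M).normalCore.map M.subtype := by
  refine le_antisymm ?_ (hmax _ ?_ ?_)
  · intro z hz
    refine ⟨⟨z, hXM (hZX hz)⟩, ?_, rfl⟩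
    intro b
    exact hZX (hZ b b.2 z hz)
  · rintro _ ⟨y, hy, rfl⟩
    exact Subgroup.normalCore_le (X.subgroupOf M) hy
  · rintro g hg _ ⟨y, hy, rfl⟩
    exact ⟨⟨g, hg⟩ * y * ⟨g, hg⟩⁻¹, (Subgroup.normalCore_normal _).conj_mem y hy ⟨g, hg⟩, rfl⟩

theorem mem_conj {S : Subgroup G8} {x : G8} :
    x ∈ S.map (MulAut.conj g8).toMonoidHom ↔ g8 * x * g8⁻¹ ∈ S := by
  have hinv : g8⁻¹ = g8 := Subtype.ext sw_inv
  constructor
  · rintro ⟨y, hy, rfl⟩
    simp only [MulEquiv.coe_toMonoidHom, MulAut.conj_apply]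
    rw [show g8 * (g8 * y * g8⁻¹) * g8⁻¹ = (g8 * g8) * y * (g8 * g8)⁻¹ by group,
      show g8 * g8 = 1 from Subtype.ext sw_sq]
    simpa using hy
  · intro h
    refine ⟨_, h, ?_⟩
    simp only [MulEquiv.coe_toMonoidHom, MulAut.conj_apply]
    rw [show g8 * (g8 * x * g8⁻¹) * g8⁻¹ = (g8 * g8) * x * (g8 * g8)⁻¹ by group,
      show g8 * g8 = 1 from Subtype.ext sw_sq]
    simp

/-- The second sequence. -/
noncomputable def seqB (i : ℕ) : Subgroup G8 := (seqA i).map (MulAut.conj g8).toMonoidHom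

theorem seqA_step (i : ℕ) : seqA (i + 1) ≤ seqA i ⊓ seqB i ∧
    ∀ N : Subgroup G8, N ≤ seqA i ⊓ seqB i → (∀ g ∈ seqA 0, ∀ y ∈ N, g * y * g⁻¹ ∈ N) → N ≤ seqA (i + 1) := by
  constructor
  · intro x hx
    simp only [seqA, if_neg (Nat.succ_ne_zero i), Subgroup.mem_subgroupOf] at hx
    refine Subgroup.mem_inf.2 ⟨?_, mem_conj.2 ?_⟩
    · rcases Nat.eq_zero_or_pos i with rfl | h
      · exact V_le_P (by norm_num) hx
      · simp only [seqA, if_neg h.ne', Subgroup.mem_subgroupOf]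
        exact V_anti (by omega) hx
    · rcases Nat.eq_zero_or_pos i with rfl | h
      · exact sw_V_two hx
      · simp only [seqA, if_neg h.ne', Subgroup.mem_subgroupOf]
        exact sw_V (by omega) hx
  · intro N hN hnorm x hx
    let M : Subgroup GE := N.map (chevE8.group K2).subtype
    have hMn : ∀ g ∈ P, ∀ y ∈ M, g * y * g⁻¹ ∈ M := by
      rintro g hg _ ⟨y, hy, rfl⟩
      obtain ⟨g', rfl⟩ : ∃ g' : G8, (g' : GE) = g := ⟨⟨g, mem_group_of_P hg⟩, rfl⟩
      have hn := hnorm g' (mem_seqA0.2 hg) y hy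
      refine Subgroup.mem_map.2 ⟨g' * y * g'⁻¹, hn, ?_⟩
      rw [map_mul, map_mul, map_inv]
      rfl
    have hxM : (x : GE) ∈ M := ⟨x, hx, rfl⟩
    show (x : GE) ∈ (if i + 1 = 0 then P else V (i + 1 + 1))
    rw [if_neg (Nat.succ_ne_zero i)]
    rcases Nat.eq_zero_or_pos i with rfl | h
    · refine base hMn ?_ ?_ hxM
      · rintro _ ⟨y, hy, rfl⟩
        exact (hN hy).1
      · rintro _ ⟨y, hy, rfl⟩
        exact P_shift (mem_conj.1 (hN hy).2)
    · by_cases h6 : i + 1 ≤ 6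
      · refine step_up (by omega) h6 hMn ?_ ?_ hxM
        · rintro _ ⟨y, hy, rfl⟩
          have := (hN hy).1
          simp only [seqA, if_neg h.ne', Subgroup.mem_subgroupOf] at this
          exact this
        · rintro _ ⟨y, hy, rfl⟩
          have := mem_conj.1 (hN hy).2
          simp only [seqA, if_neg h.ne', Subgroup.mem_subgroupOf] at this
          exact this
      · have h7 := (hN hx).1
        simp only [seqA, if_neg h.ne', Subgroup.mem_subgroupOf] at h7
        have := V_anti (show 7 ≤ i + 1 by omega) h7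
        rw [V_seven, Subgroup.mem_bot] at this
        change (x : GE) = 1 at this
        rw [this]
        exact one_mem _

theorem parab_eq : seqA 0 = (chevE8.parabolicSubgroup K2 {j | j ≠ 3}).subgroupOf (chevE8.group K2) := by
  rw [P_eq]; rfl

theorem not_mem_109 : X (tblE8.refl' 3 130) ∉ P := fun h => rd_one_ne (refl3_lt (by norm_num)) le_rfl sep.1 (P_shift h)

theorem isCoatom_seqA : IsCoatom (seqA 0) := by
  refine ⟨fun h => not_mem_109 ?_, fun M hM => ?_⟩
  · have : (⟨X (tblE8.refl' 3 130), xg_mem_group cE _ _⟩ : G8) ∈ seqA 0 := h ▸ Subgroup.mem_top _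
    exact this
  let bn := bnPair cE fullCertE8 K2
  have hB : bn.B ≤ seqA 0 := by
    rw [parab_eq]
    exact fun b hb => Subgroup.mem_sup_left hb
  have eM := Cfsg.Lib.Linear.BN.eq_parabolic (P := bn) (hB.trans hM.le)
  have hJ : ∀ s ∈ bn.S, (s : G8) = g8 ∨ s ∈ seqA 0 := by
    rintro s ⟨i, hi, e⟩
    by_cases h3 : i = 3
    · subst h3
      exact Or.inl (Subtype.ext ((eq_nu_iff cE hi).1 e))
    · refine Or.inr ?_
      rw [parab_eq]
      exact Subgroup.mem_sup_right (Subgroup.subset_closure ⟨i, h3, hi, e⟩)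
  by_cases hg : g8 ∈ M
  · rw [eM, eq_top_iff, ← Cfsg.Lib.Linear.BN.parabolic_S_eq_top (P := bn)]
    refine Cfsg.Lib.Linear.BN.parabolic_mono fun s hs => ⟨hs, ?_⟩
    rcases hJ s hs with rfl | h
    · exact hg
    · exact hM.le h
  · exfalso
    refine hM.not_ge ?_
    rw [eM]
    refine sup_le hB ((Subgroup.closure_le _).2 fun s hs => ?_)
    rcases hJ s hs.1 with rfl | h
    · exact absurd hs.2 hg
    · exact h

theorem core_seqA : (seqA 0).normalCore = ⊥ := by
  have key : ∀ i, (seqA 0).normalCore ≤ seqA i := by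
    intro i
    induction i with
    | zero => exact Subgroup.normalCore_le _
    | succ i ih =>
      refine (seqA_step i).2 _ (le_inf ih fun x hx => mem_conj.2 (ih ?_)) fun g _ y hy => ?_
      · exact (Subgroup.normalCore_normal _).conj_mem x hx g8
      · exact (Subgroup.normalCore_normal _).conj_mem y hy g
  refine (Subgroup.eq_bot_iff_forall _).2 fun x hx => ?_
  have h := key 6 hx
  simp only [seqA, if_neg (Nat.succ_ne_zero 5), Subgroup.mem_subgroupOf] at h
  rw [show 6 + 1 = 7 from rfl, V_seven, Subgroup.mem_bot] at h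
  exact Subtype.ext h


/-- An extremal example for iterated cores of conjugate maximal subgroups: there exist a finite group G and two distinct conjugate maximal subgroups M₁, M₂ of G, with M₁ having trivial core in G, such that, if we define two descending sequences of subgroups by A₀ = M₁, B₀ = M₂ and, for every i, A_{i+1} = the core in M₁ of A_i ∩ B_i and B_{i+1} = the core in M₂ of A_i ∩ B_i (the core in M of a subgroup Y ≤ M is the largest normal subgroup of M contained in Y), the subgroup A₆ is trivial while A₅ is not (so the index 6 cannot be lowered to 5). (One example is a maximal parabolic subgroup of the Chevalley group of type E₈ over a finite field and a suitable conjugate of it.) -/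
theorem result :
    ∃ (G : Type) (_ : Group G) (_ : Finite G) (M₁ M₂ : Subgroup G) (g : G) (A B : ℕ → Subgroup G),
      IsCoatom M₁ ∧ M₂ = M₁.map (MulAut.conj g).toMonoidHom ∧ M₁ ≠ M₂ ∧ M₁.normalCore = ⊥ ∧ A 0 = M₁ ∧ B 0 = M₂ ∧
      (∀ i, A (i + 1) = ((A i ⊓ B i).subgroupOf M₁).normalCore.map M₁.subtype) ∧
      (∀ i, B (i + 1) = ((A i ⊓ B i).subgroupOf M₂).normalCore.map M₂.subtype) ∧ A 6 = ⊥ ∧ A 5 ≠ ⊥ := by
  let φ := (MulAut.conj g8).toMonoidHom
  refine ⟨G8, inferInstance, inferInstance, seqA 0, seqB 0, g8, seqA, seqB, isCoatom_seqA, rfl, ?_, core_seqA,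
    rfl, rfl, fun i => ?_, fun i => ?_, ?_, ?_⟩
  · intro h
    have hx : (⟨X 130, xg_mem_group cE _ _⟩ : G8) ∈ seqA 0 := X_mem_P (by norm_num) sep.2.1
    rw [h] at hx
    have h' : sw * X 130 * sw⁻¹ ∈ P := mem_conj.1 hx
    rw [sw_X (by norm_num)] at h'
    exact not_mem_109 h'
  · exact core_eq (inf_le_left.trans (seqA_le i)) (seqA_step i).1 (seqA_normal _) (seqA_step i).2
  · have hsym : ∀ {x : G8}, x ∈ seqA i ⊓ seqB i → g8 * x * g8⁻¹ ∈ seqA i ⊓ seqB i := by
      rintro x ⟨h1, h2⟩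
      refine Subgroup.mem_inf.2 ⟨mem_conj.1 h2, mem_conj.2 ?_⟩
      rw [show g8 * (g8 * x * g8⁻¹) * g8⁻¹ = (g8 * g8) * x * (g8 * g8)⁻¹ by group,
        show g8 * g8 = 1 from Subtype.ext sw_sq]
      simpa using h1
    have hb : seqA i ⊓ seqB i ≤ seqB 0 := inf_le_right.trans (Subgroup.map_mono (seqA_le i))
    refine core_eq hb (fun x hx => ?_) (fun g hg y hy => ?_) fun N hN hn x hx => mem_conj.2 ?_
    · have := hsym ((seqA_step i).1 (mem_conj.1 hx))
      rwa [show g8 * (g8 * x * g8⁻¹) * g8⁻¹ = (g8 * g8) * x * (g8 * g8)⁻¹ by group,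
        show g8 * g8 = 1 from Subtype.ext sw_sq, one_mul, inv_one, mul_one] at this
    · refine mem_conj.2 ?_
      rw [show g8 * (g * y * g⁻¹) * g8⁻¹ = (g8 * g * g8⁻¹) * (g8 * y * g8⁻¹) * (g8 * g * g8⁻¹)⁻¹ by group]
      exact seqA_normal _ _ (mem_conj.1 hg) _ (mem_conj.1 hy)
    · refine (seqA_step i).2 (N.map φ) ?_ ?_ ⟨x, hx, rfl⟩
      · rintro _ ⟨y, hy, rfl⟩
        exact hsym (hN hy)
      · rintro g hg _ ⟨y, hy, rfl⟩
        refine ⟨(g8⁻¹ * g * g8) * y * (g8⁻¹ * g * g8)⁻¹, hn _ (mem_conj.2 ?_) y hy, ?_⟩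
        · rwa [show g8 * (g8⁻¹ * g * g8) * g8⁻¹ = g by group]
        · simp only [φ, MulEquiv.coe_toMonoidHom, MulAut.conj_apply]
          group
  · refine (Subgroup.eq_bot_iff_forall _).2 fun x hx => ?_
    simp only [seqA, if_neg (Nat.succ_ne_zero 5), Subgroup.mem_subgroupOf] at hx
    rw [show 6 + 1 = 7 from rfl, V_seven, Subgroup.mem_bot] at hx
    exact Subtype.ext hx
  · intro h
    have hx : (⟨X 239, xg_mem_group cE _ _⟩ : G8) ∈ seqA 5 := by
      simp only [seqA, if_neg (Nat.succ_ne_zero 4), Subgroup.mem_subgroupOf]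
      exact X_mem_V (by norm_num) (by norm_num) sep.2.2
    rw [h, Subgroup.mem_bot] at hx
    exact X_ne_one (r := 239) (by norm_num) (congrArg Subtype.val hx)

end Cfsg.Agent.S5751
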