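import Cfsg.Statements.S5754


set_option autoImplicit false
open Cfsg

namespace Cfsg.Agent.S5754

/-- The reflection in an anisotropic vector. -/
noncomputable def refl {F V : Type*} [Field F] [AddCommGroup V] [Module F V]
    (Q : QuadraticForm F V) (a : V) (ha : Q a ≠ 0) : Q.IsometryEquiv Q :=
  let r : V →ₗ[F] V := LinearMap.id - ((Q a)⁻¹ • (QuadraticMap.polarBilin Q a)).smulRight a
  have hr : ∀ x, r x = x - ((Q a)⁻¹ * QuadraticMap.polar Q a x) • a := fun x => rfl
  have hinv : ∀ x, r (r x) = x := fun x => by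
    rw [hr, hr, QuadraticMap.polar_sub_right, QuadraticMap.polar_smul_right, QuadraticMap.polar_self,
      sub_sub, ← add_smul]
    have : (Q a)⁻¹ * QuadraticMap.polar Q a x + (Q a)⁻¹ * (QuadraticMap.polar Q a x -
        ((Q a)⁻¹ * QuadraticMap.polar Q a x) • (2 • Q a)) = 0 := by
      simp only [smul_eq_mul, nsmul_eq_mul, Nat.cast_ofNat]
      field_simp
      ring
    rw [this, zero_smul, sub_zero]
  { LinearEquiv.ofInvolutive r hinv with
    map_app' := fun x => by
      show Q (r x) = Q x
      rw [hr, sub_eq_add_neg, ← neg_smul, QuadraticMap.map_add (⇑Q), Q.map_smul, QuadraticMap.polar_smul_right,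
        QuadraticMap.polar_comm]
      simp only [smul_eq_mul]
      field_simp
      ring }

theorem refl_apply {F V : Type*} [Field F] [AddCommGroup V] [Module F V]
    (Q : QuadraticForm F V) (a : V) (ha : Q a ≠ 0) (x : V) :
    refl Q a ha x = x - ((Q a)⁻¹ * QuadraticMap.polar Q a x) • a := rfl

theorem witt {F V : Type*} [Field F] [AddCommGroup V] [Module F V]
    (Q : QuadraticForm F V) (hQ : Q.Anisotropic) {n : ℕ} (v w : Fin n → V)
    (h1 : ∀ i, Q (v i) = Q (w i)) (h2 : ∀ i j, QuadraticMap.polar Q (v i) (v j) = QuadraticMap.polar Q (w i) (w j)) :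
    ∀ k ≤ n, ∃ φ : Q.IsometryEquiv Q, ∀ i : Fin n, (i : ℕ) < k → φ (v i) = w i := by
  intro k
  induction k with
  | zero => exact fun _ => ⟨QuadraticMap.IsometryEquiv.refl Q, fun i hi => absurd hi (by omega)⟩
  | succ k ih =>
    intro hk
    obtain ⟨φ, hφ⟩ := ih (by omega)
    let m : Fin n := ⟨k, by omega⟩
    have hlast : ∀ i : Fin n, (i : ℕ) < k + 1 → (i : ℕ) < k ∨ i = m := fun i hi => by
      by_cases h : (i : ℕ) < k
      · exact Or.inl h
      · exact Or.inr (Fin.ext (show (i : ℕ) = k by omega))
    by_cases ha : φ (v m) - w m = 0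
    · refine ⟨φ, fun i hi => ?_⟩
      rcases hlast i hi with h | rfl
      · exact hφ i h
      · exact sub_eq_zero.1 ha
    have hqa : Q (φ (v m) - w m) ≠ 0 := fun h => ha (hQ _ h)
    have hpol : ∀ x y, QuadraticMap.polar Q (φ x) (φ y) = QuadraticMap.polar Q x y := fun x y => by
      simp only [QuadraticMap.polar, ← map_add, QuadraticMap.IsometryEquiv.map_app]
    refine ⟨φ.trans (refl Q _ hqa), fun i hi => ?_⟩
    show refl Q _ hqa (φ (v i)) = w i
    rw [refl_apply]
    rcases hlast i hi with h | rfl
    · have : QuadraticMap.polar Q (φ (v m) - w m) (φ (v i)) = 0 := by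
        rw [QuadraticMap.polar_sub_left, hpol, hφ i h, h2, sub_self]
      rw [this, mul_zero, zero_smul, sub_zero, hφ i h]
    · have he : QuadraticMap.polar Q (φ (v m) - w m) (φ (v m)) = Q (φ (v m) - w m) := by
        rw [QuadraticMap.polar_sub_left, QuadraticMap.polar_self, sub_eq_add_neg (φ (v m)),
          QuadraticMap.map_add (⇑Q), QuadraticMap.map_neg, QuadraticMap.polar_neg_right,
          QuadraticMap.polar_comm Q (w m), φ.map_app, h1, two_smul]
        ring
      rw [he, inv_mul_cancel₀ hqa, one_smul, sub_sub_cancel]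

/-- Let V be a finite-dimensional vector space over a finite field F carrying an anisotropic quadratic form Q (Q(v) = 0 only for v = 0). Then the group of all maps v ↦ φ(v) + c, with φ an isometry of Q and c ∈ V, acts on V as a binary permutation group: given n ≥ 2 and two n-tuples u, u' of vectors such that every pair of corresponding entries of u is carried to that of u' by such a map, one such map carries u to u'. -/
theorem result {F V : Type*} [Field F] [Finite F] [AddCommGroup V] [Module F V] [Module.Finite F V]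
    (Q : QuadraticForm F V) (hQ : Q.Anisotropic) (n : ℕ) (hn : 2 ≤ n) (u u' : Fin n → V)
    (h2 : ∀ i j : Fin n, i ≠ j → ∃ (φ : Q.IsometryEquiv Q) (c : V), φ (u i) + c = u' i ∧ φ (u j) + c = u' j) :
    ∃ (φ : Q.IsometryEquiv Q) (c : V), ∀ i, φ (u i) + c = u' i := by
  let z : Fin n := ⟨0, by omega⟩
  have hd : ∀ i j, Q (u i - u j) = Q (u' i - u' j) := by
    intro i j
    rcases eq_or_ne i j with rfl | hij
    · simp
    · obtain ⟨φ, c, hi, hj⟩ := h2 i j hij
      rw [← hi, ← hj, add_sub_add_right_eq_sub, ← map_sub, φ.map_app]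
  let v : Fin n → V := fun i => u i - u z
  let w : Fin n → V := fun i => u' i - u' z
  have hv : ∀ i, Q (v i) = Q (w i) := fun i => hd i z
  have hpol : ∀ i j, QuadraticMap.polar Q (v i) (v j) = QuadraticMap.polar Q (w i) (w j) := by
    intro i j
    have key : ∀ x y : V, QuadraticMap.polar Q x y = Q x + Q y - Q (x - y) := fun x y => by
      rw [sub_eq_add_neg x y, QuadraticMap.map_add (⇑Q), QuadraticMap.map_neg, QuadraticMap.polar_neg_right]
      ring
    rw [key, key, hv, hv]
    simp only [v, w, sub_sub_sub_cancel_right, hd]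
  obtain ⟨φ, hφ⟩ := witt Q hQ v w hv hpol n le_rfl
  refine ⟨φ, u' z - φ (u z), fun i => ?_⟩
  have := hφ i i.2
  simp only [v, w, map_sub] at this
  rw [← sub_add_cancel (u' i) (u' z), ← this]
  abel

end Cfsg.Agent.S5754
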