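import Cfsg.Statements.S5763
import Mathlib

set_option autoImplicit false
open Cfsg

namespace Cfsg.Agent.S5763

/-- The standard pairing. -/
def zf : Fin 8 → Fin 8 := ![1, 0, 3, 2, 5, 4, 7, 6]

/-- `t` centralises the pairing `q` and permutes its pairs as a Klein four element. -/
def Cond (q t : Fin 8 → Fin 8) : Prop :=
  (∀ i, t (q i) = q (t i)) ∧ (∀ i, t (t i) = i ∨ t (t i) = q i) ∧
    ((∀ i, t i = i ∨ t i = q i) ∨ (∀ i, t i ≠ i ∧ t i ≠ q i))

instance instDecidableCond (q t : Fin 8 → Fin 8) : Decidable (Cond q t) := by unfold Cond; infer_instance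

/-- All pairings of a list of points. -/
def pairings : ℕ → List (Fin 8) → List (List (Fin 8 × Fin 8))
  | 0, _ => [[]]
  | _ + 1, [] => [[]]
  | n + 1, a :: l => l.flatMap fun b => (pairings n (l.erase b)).map fun ps => (a, b) :: ps

theorem exists_pairing (q : Fin 8 → Fin 8) (h2 : ∀ i, q (q i) = i) (hne : ∀ i, q i ≠ i) :
    ∀ n l, List.Nodup l → (∀ x ∈ l, q x ∈ l) → l.length = 2 * n →
      ∃ ps ∈ pairings n l, (∀ x ∈ l, ∃ p ∈ ps, x = p.1 ∨ x = p.2) ∧ ∀ p ∈ ps, q p.1 = p.2 := by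
  intro n
  induction n with
  | zero =>
    intro l _ _ hl
    obtain rfl := List.length_eq_zero_iff.1 hl
    exact ⟨[], by simp [pairings], by simp, by simp⟩
  | succ n ih =>
    intro l hnd hcl hl
    obtain ⟨a, l, rfl⟩ : ∃ a l', l = a :: l' := by
      cases l with
      | nil => simp at hl
      | cons a l => exact ⟨a, l, rfl⟩
    have hal : a ∉ l := (List.nodup_cons.1 hnd).1
    have hb : q a ∈ l := (List.mem_cons.1 (hcl a (List.mem_cons_self ..))).resolve_left (hne a)
    obtain ⟨ps, hps, h1, h2'⟩ := ih (l.erase (q a)) ((List.nodup_cons.1 hnd).2.erase _) (fun x hx => by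
      rw [(List.nodup_cons.1 hnd).2.mem_erase_iff] at hx ⊢
      refine ⟨fun e => hal ?_, (List.mem_cons.1 (hcl x (List.mem_cons_of_mem _ hx.2))).resolve_left fun e => hx.1 ?_⟩
      · rw [← h2 a, ← e, h2]; exact hx.2
      · rw [← e, h2]) (by rw [List.length_erase_of_mem hb]; simp at hl; omega)
    refine ⟨(a, q a) :: ps, ?_, ?_, ?_⟩
    · simp only [pairings, List.mem_flatMap, List.mem_map]
      exact ⟨q a, hb, ps, hps, rfl⟩
    · intro x hx
      rcases List.mem_cons.1 hx with rfl | hx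
      · exact ⟨_, List.mem_cons_self .., Or.inl rfl⟩
      · by_cases hxq : x = q a
        · exact ⟨_, List.mem_cons_self .., Or.inr hxq⟩
        · obtain ⟨p, hp, hp'⟩ := h1 x ((List.nodup_cons.1 hnd).2.mem_erase_iff.2 ⟨hxq, hx⟩)
          exact ⟨p, List.mem_cons_of_mem _ hp, hp'⟩
    · intro p hp
      rcases List.mem_cons.1 hp with rfl | hp
      · rfl
      · exact h2' p hp

/-- The involution of a pairing. -/
def ofPairs : List (Fin 8 × Fin 8) → Fin 8 → Fin 8
  | [], i => i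
  | (a, b) :: ps, i => if i = a then b else if i = b then a else ofPairs ps i

theorem ofPairs_eq (q : Fin 8 → Fin 8) (h2 : ∀ i, q (q i) = i) :
    ∀ ps : List (Fin 8 × Fin 8), (∀ p ∈ ps, q p.1 = p.2) → ∀ i, (∃ p ∈ ps, i = p.1 ∨ i = p.2) → ofPairs ps i = q i := by
  intro ps
  induction ps with
  | nil => intro _ i h; simp at h
  | cons p ps ih =>
    obtain ⟨a, b⟩ := p
    intro hp i hi
    have hab : q a = b := hp (a, b) (List.mem_cons_self ..)
    simp only [ofPairs]
    split_ifs with h1 h2'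
    · rw [h1, hab]
    · rw [h2', ← hab, h2]
    · obtain ⟨p', hp', hor⟩ := hi
      rcases List.mem_cons.1 hp' with rfl | hp'
      · exact absurd hor (by simp [h1, h2'])
      · exact ih (fun p hp'' => hp p (List.mem_cons_of_mem _ hp'')) i ⟨p', hp', hor⟩

theorem check_all :
    ∀ ps ∈ pairings 4 (List.finRange 8), (∀ i, ofPairs ps i ≠ zf i) →
      let t : Fin 8 → Fin 8 := if ∀ i, zf (ofPairs ps i) = ofPairs ps (zf i) then zf
        else fun i => zf (ofPairs ps (zf (ofPairs ps i)))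
      Cond zf t ∧ Cond (ofPairs ps) t ∧ ∃ i, t i ≠ i := by
  decide +kernel

/-- The standard fixed-point-free involution. -/
def z : Equiv.Perm (Fin 8) := ⟨zf, zf, by decide, by decide⟩

/-- Klein four elements on four pairs. -/
def klein : Subgroup (Equiv.Perm (Fin 4)) where
  carrier := {σ | (∀ k, σ (σ k) = k) ∧ ((∀ k, σ k = k) ∨ ∀ k, σ k ≠ k)}
  one_mem' := by simp
  mul_mem' := fun {a b} ha hb => by
    revert a b
    simp only [Set.mem_ofPred_eq]
    decide +kernel
  inv_mem' := fun {a} ha => by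
    revert a
    simp only [Set.mem_ofPred_eq]
    decide +kernel

def up (k : Fin 4) : Fin 8 := ⟨2 * k.1, by omega⟩
def dn (i : Fin 8) : Fin 4 := ⟨i.1 / 2, by omega⟩

theorem dn_up (k : Fin 4) : dn (up k) = k := by revert k; decide
theorem dn_eq (i j : Fin 8) : dn i = dn j ↔ (i = j ∨ i = zf j) := by revert i j; decide
theorem up_dn (i : Fin 8) : up (dn i) = i ∨ up (dn i) = zf i := by revert i; decide

theorem dn_apply {s : Equiv.Perm (Fin 8)} (hs : s ∈ Subgroup.centralizer {z}) (i : Fin 8) :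
    dn (s (up (dn i))) = dn (s i) := by
  have hc := Equiv.ext_iff.1 (Subgroup.mem_centralizer_singleton_iff.1 hs) i
  rcases up_dn i with h | h
  · rw [h]
  · rw [h, dn_eq]
    exact Or.inr hc

/-- The action on pairs. -/
def pairHom : Subgroup.centralizer ({z} : Set (Equiv.Perm (Fin 8))) →* Equiv.Perm (Fin 4) where
  toFun t := ⟨fun k => dn (t.1 (up k)), fun k => dn (t⁻¹.1 (up k)),
    fun k => by show dn (t⁻¹.1 (up (dn (t.1 (up k))))) = k; rw [dn_apply t⁻¹.2]; simp [dn_up],
    fun k => by show dn (t.1 (up (dn (t⁻¹.1 (up k))))) = k; rw [dn_apply t.2]; simp [dn_up]⟩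
  map_one' := Equiv.ext fun k => dn_up k
  map_mul' s t := Equiv.ext fun k => by
    show dn (s.1 (t.1 (up k))) = dn (s.1 (up (dn (t.1 (up k)))))
    rw [dn_apply s.2]

/-- The subgroup of order 64. -/
def N : Subgroup (Equiv.Perm (Fin 8)) := (klein.comap pairHom).map (Subgroup.subtype _)

theorem mem_N_of_cond (t : Equiv.Perm (Fin 8)) (h : Cond zf t) : t ∈ N := by
  obtain ⟨h1, h2, h3⟩ := h
  have hc : t ∈ Subgroup.centralizer {z} := Subgroup.mem_centralizer_singleton_iff.2 (Equiv.ext fun i => h1 i)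
  refine ⟨⟨t, hc⟩, ⟨fun k => ?_, ?_⟩, rfl⟩
  · show dn (t (up (dn (t (up k))))) = k
    rw [dn_apply hc]
    conv_rhs => rw [← dn_up k]
    exact (dn_eq _ _).2 (h2 _)
  · rcases h3 with h3 | h3
    · left
      intro k
      show dn (t (up k)) = k
      conv_rhs => rw [← dn_up k]
      exact (dn_eq _ _).2 (h3 _)
    · right
      intro k hk
      have hk' : dn (t (up k)) = dn (up k) := by rw [dn_up]; exact hk
      rcases (dn_eq _ _).1 hk' with e | e
      · exact (h3 _).1 e
      · exact (h3 _).2 e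

theorem isPGroup_N : IsPGroup 2 N := by
  refine IsPGroup.map (fun t => ⟨2, ?_⟩) _
  have h4 : ∀ i, (t.1.1) (t.1.1 i) = i ∨ (t.1.1) (t.1.1 i) = zf i := by
    intro i
    rw [← dn_eq, ← dn_apply t.1.2 (t.1.1 i), ← dn_apply t.1.2 i]
    exact t.2.1 (dn i)
  refine Subtype.ext (Subtype.ext (Equiv.ext fun i => ?_))
  show (t.1.1 ^ 4) i = i
  rw [show (t.1.1 ^ 4) i = t.1.1 (t.1.1 (t.1.1 (t.1.1 i))) from rfl]
  have hc := fun j => Equiv.ext_iff.1 (Subgroup.mem_centralizer_singleton_iff.1 t.1.2) j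
  rcases h4 i with h | h
  · rw [h, h]
  · rw [h]
    have e1 : t.1.1 (zf i) = zf (t.1.1 i) := hc i
    have e2 : t.1.1 (zf (t.1.1 i)) = zf (t.1.1 (t.1.1 i)) := hc _
    rw [e1, e2, h]
    exact (show ∀ j, zf (zf j) = j by decide) i

theorem exists_common (y : Equiv.Perm (Fin 8)) :
    ∃ t : Equiv.Perm (Fin 8), t ≠ 1 ∧ t ∈ N ∧ y⁻¹ * t * y ∈ N := by
  set q : Equiv.Perm (Fin 8) := y * z * y⁻¹ with hq
  have hz2 : ∀ i, zf (zf i) = i := by decide
  have hzne : ∀ i, zf i ≠ i := by decide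
  have hq2 : ∀ i, q (q i) = i := fun i => by
    show y (zf (y⁻¹ (y (zf (y⁻¹ i))))) = i
    simp [hz2]
  have hqne : ∀ i, q i ≠ i := fun i e => hzne (y⁻¹ i) (y.injective (by
    show y (zf (y⁻¹ i)) = y (y⁻¹ i)
    rw [show y (zf (y⁻¹ i)) = q i from rfl, e]; simp))
  suffices h : ∃ t : Equiv.Perm (Fin 8), t ≠ 1 ∧ Cond zf t ∧ Cond q t by
    obtain ⟨t, ht, hcz, hcq1, hcq2, hcq3⟩ := h
    refine ⟨t, ht, mem_N_of_cond t hcz, mem_N_of_cond _ ⟨fun i => ?_, fun i => ?_, ?_⟩⟩
    · have := hcq1 (y i)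
      simp [hq, z] at this ⊢
      rw [this]; simp
    · have := hcq2 (y i)
      simp [hq, z] at this ⊢
      rcases this with e | e
      · exact Or.inl (by rw [e]; simp)
      · exact Or.inr (by rw [e]; simp)
    · refine hcq3.imp (fun h3 i => ?_) (fun h3 i => ?_)
      · have := h3 (y i)
        simp [hq, z] at this ⊢
        rcases this with e | e
        · exact Or.inl (by rw [e]; simp)
        · exact Or.inr (by rw [e]; simp)
      · have := h3 (y i)
        simp [hq, z] at this ⊢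
        exact ⟨fun e => this.1 ((Equiv.symm_apply_eq y).1 e), fun e => this.2 ((Equiv.symm_apply_eq y).1 e)⟩
  by_cases hsh : ∃ i, q i = zf i
  · obtain ⟨i, hi⟩ := hsh
    refine ⟨Equiv.swap i (zf i), fun h => hzne i ?_, ?_, ?_⟩
    · have := Equiv.ext_iff.1 h i
      simpa using this
    · clear hi hq2 hqne hq
      revert i
      decide +kernel
    · have hqi : q (zf i) = i := by rw [← hi, hq2]
      have hf : ∀ j, Equiv.swap i (zf i) j = j ∨ Equiv.swap i (zf i) j = q j := fun j => by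
        rw [Equiv.swap_apply_def]
        split_ifs with h1 h2
        · exact Or.inr (by rw [h1, hi])
        · exact Or.inr (by rw [h2, hqi])
        · exact Or.inl rfl
      refine ⟨fun j => ?_, fun j => Or.inl (Equiv.swap_apply_self _ _ _), Or.inl hf⟩
      rcases eq_or_ne j i with rfl | hji
      · rw [hi, Equiv.swap_apply_right, Equiv.swap_apply_left, hqi]
      rcases eq_or_ne j (zf i) with rfl | hjz
      · rw [hqi, Equiv.swap_apply_left, Equiv.swap_apply_right, hi]
      rw [Equiv.swap_apply_of_ne_of_ne hji hjz, Equiv.swap_apply_of_ne_of_ne]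
      · intro e; exact hjz (by rw [← hi, ← e, hq2])
      · intro e; exact hji (by rw [← hqi, ← e, hq2])
  · push_neg at hsh
    obtain ⟨ps, hps, hcov, hp⟩ := exists_pairing q hq2 hqne 4 (List.finRange 8) (List.nodup_finRange 8)
      (fun x _ => List.mem_finRange _) (by simp)
    have heq : ofPairs ps = (q : Fin 8 → Fin 8) :=
      funext fun i => ofPairs_eq q hq2 ps hp i (hcov i (List.mem_finRange i))
    have h := check_all ps hps (fun i => by rw [heq]; exact hsh i)
    rw [heq] at h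
    simp only at h
    split_ifs at h with hc
    · exact ⟨z, fun e => hzne 0 (Equiv.ext_iff.1 e 0), h.1, h.2.1⟩
    · refine ⟨z * q * z * q, fun e => ?_, h.1, h.2.1⟩
      obtain ⟨i, hi⟩ := h.2.2
      exact hi (Equiv.ext_iff.1 e i)

/-- In the symmetric group on 8 letters any two Sylow 2-subgroups have non-trivial intersection: for a Sylow 2-subgroup H and every element x, H ∩ xHx⁻¹ ≠ 1. -/
theorem result (H : Sylow 2 (Equiv.Perm (Fin 8))) (x : Equiv.Perm (Fin 8)) :
    (H : Subgroup (Equiv.Perm (Fin 8))) ⊓ (H : Subgroup (Equiv.Perm (Fin 8))).map (MulAut.conj x).toMonoidHom ≠ ⊥ := by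
  haveI : Fact (Nat.Prime 2) := ⟨Nat.prime_two⟩
  obtain ⟨P, hP⟩ := (isPGroup_N).exists_le_sylow
  obtain ⟨g, hg⟩ := MulAction.exists_smul_eq (Equiv.Perm (Fin 8)) P H
  have hmem : ∀ t ∈ N, g * t * g⁻¹ ∈ (H : Subgroup (Equiv.Perm (Fin 8))) := fun t ht => by
    rw [← hg, Sylow.coe_subgroup_smul]
    exact Subgroup.smul_mem_pointwise_smul t (MulAut.conj g) _ (hP ht)
  obtain ⟨t, ht1, htN, htN'⟩ := exists_common (g⁻¹ * x * g)
  intro hbot
  have h2 : g * t * g⁻¹ ∈ (⊥ : Subgroup (Equiv.Perm (Fin 8))) := by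
    rw [← hbot]
    refine Subgroup.mem_inf.2 ⟨hmem t htN, ⟨_, hmem _ htN', ?_⟩⟩
    simp [mul_assoc]
  exact ht1 (conj_eq_one_iff.1 (Subgroup.mem_bot.1 h2))

end Cfsg.Agent.S5763
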