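import Cfsg.Statements.S5776
import Cfsg.Agent.Lib.Linear.Mitchell.Residual

set_option autoImplicit false
open Cfsg

namespace Cfsg.Agent.S5776

/-- The maximal subgroups of SL_3(q) in the residual class. Let F be a finite field with q elements of characteristic p, and let H be a maximal subgroup of SL_3(F) lying in the residual class of the linear case. Then the perfect socle preimage P of H (the subgroup given by the residual-class conditions) satisfies one of: P modulo scalars is isomorphic to the simple group of order 168 (written here as PSL_3(2)) and q = p with p ≠ 2 and p ≡ 1, 2 or 4 mod 7; or P modulo scalars is isomorphic to the alternating group A_6 and either q = p with p ≡ 1 or 4 mod 15, or q = p² with p ≡ 2 or 3 mod 5 and p ≠ 3. -/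
theorem result {F : Type*} [Field F] [Fintype F] (H : Subgroup (Matrix.GeneralLinearGroup (Fin 3) F)) (hH : Cfsg.Geo.IsMaximalIn (Cfsg.Geo.specialLinear (Fin 3) F) H) (hS : Cfsg.Geo.InLinearResidualClass H) :
    ∃ (P : Subgroup (Matrix.GeneralLinearGroup (Fin 3) F)) (p : ℕ), Cfsg.Geo.IsResidualCore H P ∧ p.Prime ∧ CharP F p ∧
    ((Nonempty ((P ⧸ (Cfsg.Geo.scalars (Fin 3) F).subgroupOf P) ≃* Matrix.ProjectiveSpecialLinearGroup (Fin 3) (ZMod 2)) ∧
        Fintype.card F = p ∧ p ≠ 2 ∧ (p % 7 = 1 ∨ p % 7 = 2 ∨ p % 7 = 4)) ∨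
     (Nonempty ((P ⧸ (Cfsg.Geo.scalars (Fin 3) F).subgroupOf P) ≃* alternatingGroup (Fin 6)) ∧
        ((Fintype.card F = p ∧ (p % 15 = 1 ∨ p % 15 = 4)) ∨ (Fintype.card F = p ^ 2 ∧ p ≠ 3 ∧ (p % 5 = 2 ∨ p % 5 = 3))))) := by
  classical
  obtain ⟨P, hR, hnQ, -, hnU⟩ := hS
  have hP : Cfsg.Lib.Linear.Mitchell.Core P :=
    ⟨hR.le.trans hH.1.le, hR.perfect, hR.simple, hR.nonabelian, hR.absIrred⟩
  have hp := CharP.char_is_prime F (ringChar F)
  haveI : Fact (ringChar F).Prime := ⟨hp⟩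
  haveI : CharP F (ringChar F) := ringChar.charP F
  refine ⟨P, ringChar F, hR, hp, inferInstance, ?_⟩
  rcases Cfsg.Lib.Linear.Mitchell.residual_cases hP hR.no_subfield with
    h | ⟨σ, f, hf, hfix, -⟩ | h | ⟨h2, h7, ⟨e⟩⟩ | ⟨hc, ⟨e⟩⟩ | ⟨h5, ⟨e⟩⟩
  · exact absurd (h.trans hR.le) hH.1.not_ge
  · exact absurd ⟨σ, f, hf, hfix⟩ hnU
  · exact absurd h hnQ
  · rcases Cfsg.Lib.Linear.Mitchell.l27_field hP hR.no_subfield h2 h7 e with
      ⟨hcard, hm⟩ | ⟨-, ⟨-, hq⟩ | ⟨-, hu⟩⟩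
    · exact Or.inl ⟨⟨e⟩, hcard, Cfsg.Lib.Linear.Mitchell.char_ne_two h2, hm⟩
    · exact absurd hq hnQ
    · exact absurd hu hnU
  · refine Or.inr ⟨⟨e⟩, ?_⟩
    rcases hc with ⟨h4, hc2⟩ | ⟨h2, h3⟩
    · exact Or.inr ⟨by rw [h4, hc2]; rfl, by omega, by omega⟩
    · rcases Cfsg.Lib.Linear.Mitchell.a6_field hP hR.no_subfield h2 h3 e with
        h | ⟨hcard, hm, -⟩ | ⟨-, ⟨-, hq⟩ | ⟨-, hu⟩⟩
      · exact Or.inl h
      · exact Or.inr ⟨hcard, h3, hm⟩
      · exact absurd hq hnQ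
      · exact absurd hu hnU
  · haveI : CharP F 5 := h5 ▸ ringChar.charP F
    rcases Cfsg.Lib.Linear.Mitchell.a7_field hP hR.no_subfield e with ⟨-, hq⟩ | ⟨-, hu⟩
    · exact absurd hq hnQ
    · exact absurd hu hnU

end Cfsg.Agent.S5776
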