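import Cfsg.Statements.S5778
import Cfsg.Agent.Lib.Linear.Aschbacher.SUThreeSubfield
import Cfsg.Agent.Lib.Linear.Aschbacher.SUThreeExtra

set_option autoImplicit false
open Cfsg

namespace Cfsg.Agent.S5778

private theorem key2 : ∀ a : ZMod 3, a ^ 2 = 1 → a ^ 1 ≠ 1 → a.val = 2 := by decide

/-- Every maximal subgroup of SU_3(q), q ≥ 3, is of one of the listed geometric types or lies in the residual class. Let F be the field with q² elements, f the standard unitary form Σ u_i v_i^q on F^3, and H a maximal subgroup of SU_3(q) (the determinant-one isometries of f, inside GL_3(F)). Then H is the intersection with SU_3(q) of one of: the stabiliser of a non-zero subspace on which f vanishes; the stabiliser of a non-degenerate 1-space; for q ≠ 5, the stabiliser of a decomposition into three mutually orthogonal non-degenerate 1-spaces; for q ≠ 3, 5, the normaliser of an adjoint-closed degree-3 subfield of the matrix algebra;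 a subfield group of odd prime index whose F₀-structure carries f; for q odd, q ≥ 7, a subfield group of index 2 whose F₀-structure carries f; for q = p ≡ 2 mod 3 prime with p ≥ 11, the normaliser of an absolutely irreducible subgroup of order 27 with centre of order 3, exponent 3 and all characteristic abelian subgroups cyclic, contained in the similarity group of f — or else H lies in the residual class of the unitary case. -/
theorem result {F : Type*} [Field F] [Fintype F] (q : ℕ) (hF : Fintype.card F = q ^ 2) (hq : 3 ≤ q) (H : Subgroup (Matrix.GeneralLinearGroup (Fin 3) F)) (hH : Cfsg.Geo.IsMaximalIn (Cfsg.GU 3 F q ⊓ Cfsg.Geo.specialLinear (Fin 3) F) H) :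
    (∃ W : Submodule F (Fin 3 → F), W ≠ ⊥ ∧ Cfsg.Geo.IsTotallySingularFor (Cfsg.hermForm 3 F q) W ∧ H = Cfsg.Geo.subspaceStabilizer W ⊓ (Cfsg.GU 3 F q ⊓ Cfsg.Geo.specialLinear (Fin 3) F)) ∨
    (∃ W : Submodule F (Fin 3 → F), W ≠ ⊥ ∧ Cfsg.Geo.IsNondegenerateOn (Cfsg.hermForm 3 F q) W ∧ 2 * Module.finrank F W < 3 ∧ H = Cfsg.Geo.subspaceStabilizer W ⊓ (Cfsg.GU 3 F q ⊓ Cfsg.Geo.specialLinear (Fin 3) F)) ∨
    (q ≠ 5 ∧ ∃ D : Fin 3 → Submodule F (Fin 3 → F), Cfsg.Geo.IsNondegenerateMDecomposition (Cfsg.hermForm 3 F q) 1 D ∧ H = Cfsg.Geo.decompositionStabilizer D ⊓ (Cfsg.GU 3 F q ⊓ Cfsg.Geo.specialLinear (Fin 3) F)) ∨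
    (q ≠ 3 ∧ q ≠ 5 ∧ ∃ K : Subalgebra F (Matrix (Fin 3) (Fin 3) F), Cfsg.Geo.IsFieldSubalgebra 3 K ∧ Cfsg.Geo.IsAdjointClosedFor (Cfsg.hermForm 3 F q) K ∧ H = Cfsg.Geo.subalgebraNormalizer K ⊓ (Cfsg.GU 3 F q ⊓ Cfsg.Geo.specialLinear (Fin 3) F)) ∨
    (∃ (F₀ : Subfield F) (r : ℕ) (P : Matrix.GeneralLinearGroup (Fin 3) F), r.Prime ∧ Odd r ∧ Fintype.card F = Nat.card F₀ ^ r ∧ Cfsg.Geo.IsFormRationalStructure (Cfsg.hermForm 3 F q) F₀ 1 P ∧ H = Cfsg.Geo.subfieldSubgroup F₀ P ⊓ (Cfsg.GU 3 F q ⊓ Cfsg.Geo.specialLinear (Fin 3) F)) ∨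
    (Odd q ∧ 7 ≤ q ∧ ∃ (F₀ : Subfield F) (P : Matrix.GeneralLinearGroup (Fin 3) F), Fintype.card F = Nat.card F₀ ^ 2 ∧ Cfsg.Geo.IsFormRationalStructure (Cfsg.hermForm 3 F q) F₀ 1 P ∧ H = Cfsg.Geo.subfieldSubgroup F₀ P ⊓ (Cfsg.GU 3 F q ⊓ Cfsg.Geo.specialLinear (Fin 3) F)) ∨
    (∃ (p : ℕ) (R : Subgroup (Matrix.GeneralLinearGroup (Fin 3) F)), p.Prime ∧ q = p ∧ p % 3 = 2 ∧ 11 ≤ p ∧ Cfsg.Geo.IsSymplecticTypeGroup 3 R ∧ Cfsg.Geo.ActsAbsolutelyIrreducibly (Cfsg.Geo.matrixSet R) ∧ R ≤ Cfsg.Geo.similarityGroup (Cfsg.hermForm 3 F q) ∧ Nat.card R = 27 ∧ Nat.card (Subgroup.center R) = 3 ∧ H = Cfsg.Geo.subgroupNormalizer R ⊓ (Cfsg.GU 3 F q ⊓ Cfsg.Geo.specialLinear (Fin 3) F)) ∨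
    Cfsg.Geo.InUnitaryResidualClass H := by
  have hr : Nat.Prime 3 := by norm_num
  haveI := Fact.mk hr
  have hsize := Cfsg.Lib.Linear.Asch.le_card_sunit_three hF
  have h8 : 8 * q ^ 6 ≤ q ^ 3 * ((q ^ 2 - 1) * (q ^ 3 + 1)) := by
    have h2 : 8 ≤ q ^ 2 - 1 := by
      have := Nat.pow_le_pow_left hq 2
      omega
    calc 8 * q ^ 6 = q ^ 3 * (8 * q ^ 3) := by ring
      _ ≤ _ := Nat.mul_le_mul_left _ (Nat.mul_le_mul h2 (Nat.le_succ _))
  have hq6 : 729 ≤ q ^ 6 := by simpa using Nat.pow_le_pow_left hq 6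
  have hlow := h8.trans hsize
  have hbound : Nat.factorial 3 * Fintype.card F ^ 3 < Nat.card (Cfsg.Lib.Linear.Asch.sunit 3 F q) := by
    rw [hF, ← pow_mul, show Nat.factorial 3 = 6 from rfl, show 2 * 3 = 6 from rfl]
    omega
  rcases Cfsg.Lib.Linear.Asch.unitary_cases_general hF hr le_rfl hbound (by rw [show (3 : ℕ) ^ 7 = 2187 from rfl]; omega) hH with
    h | h | ⟨D, hD, hH'⟩ | ⟨K, hK, hadj, hH', N, hN, hKN⟩ | h | ⟨hodd, F₀, P, hc, hP, hH'⟩ |
    ⟨p, e, R, hp, hchar, hc, he, hdvd, hord, hsymp, habs, hRU, hcard, hcen, hH', c, x, y, z, hR⟩ | h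
  · exact Or.inl h
  · exact Or.inr (Or.inl h)
  · refine Or.inr (Or.inr (Or.inl ⟨?_, D, hD, hH'⟩))
    rintro rfl
    exact Cfsg.Lib.Linear.Asch.SUThreeTab.decomposition_five_false hF hH hD (hH'.le.trans inf_le_left)
  · refine Or.inr (Or.inr (Or.inr (Or.inl ⟨?_, ?_, K, hK, hadj, hH'⟩)))
    · rintro rfl
      exact Cfsg.Lib.Linear.Asch.SUThreeTab.field_three_false hF hH hK (hH'.le.trans inf_le_left) hN hKN
    · rintro rfl
      exact Cfsg.Lib.Linear.Asch.SUThreeTab.field_five_false hF hH hK (hH'.le.trans inf_le_left) hN hKN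
  · exact Or.inr (Or.inr (Or.inr (Or.inr (Or.inl h))))
  · by_cases h7 : 7 ≤ q
    · exact Or.inr (Or.inr (Or.inr (Or.inr (Or.inr (Or.inl ⟨hodd, h7, F₀, P, hc, hP, hH'⟩)))))
    obtain rfl | rfl : q = 3 ∨ q = 5 := by
      obtain ⟨k, hk⟩ := hodd
      omega
    · obtain ⟨D, hD, hle⟩ := Cfsg.Lib.Linear.Asch.SUThreeTab.subfield_three_frame hF hH.1.le hc hP
        (hH'.le.trans inf_le_left)
      refine Or.inr (Or.inr (Or.inl ⟨by norm_num, D, hD, Cfsg.Lib.Linear.Asch.eq_inf_of_maximal hH hle fun h => ?_⟩))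
      exact not_lt.2 (Subgroup.card_le_of_le h)
        ((Cfsg.Lib.Linear.Asch.card_decompositionStabilizer_le hD.decomp).trans_lt hbound)
    · exact (Cfsg.Lib.Linear.Asch.SUThreeTab.subfield_five_false hF hH hc hP (hH'.le.trans inf_le_left)).elim
  · have he2 : e = 2 := by
      have h0 : e ≠ 0 := fun h0 => by subst h0; norm_num at hdvd
      have h1 : e ≤ 2 := Nat.le_of_dvd two_pos (by simpa using hdvd)
      obtain ⟨k, hk⟩ := he
      omega
    subst he2
    have hqp : q = p := Nat.pow_left_injective two_ne_zero hc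
    have h2 := key2 (p : ZMod 3) (hord ▸ pow_orderOf_eq_one (p : ZMod 3)) fun h1 => by
      rw [pow_one] at h1
      rw [h1, orderOf_one] at hord
      omega
    rw [ZMod.val_natCast] at h2
    have hp11 : 11 ≤ p := by
      by_contra hlt
      have h5 : p = 5 := by
        interval_cases p <;> first | rfl | omega | (exact absurd hp (by norm_num))
      subst h5
      subst hqp
      exact Cfsg.Lib.Linear.Asch.SUThreeTab.extra_five_false hF hH hR hRU (hH'.le.trans inf_le_left)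
    exact Or.inr (Or.inr (Or.inr (Or.inr (Or.inr (Or.inr (Or.inl ⟨p, R, hp, hqp, h2, hp11, hsymp, habs,
      fun g hg => ⟨1, fun u v => by rw [Units.val_one, one_mul]; exact hRU hg u v⟩,
      by rw [hcard]; norm_num, hcen, hH'⟩))))))
  · exact Or.inr (Or.inr (Or.inr (Or.inr (Or.inr (Or.inr (Or.inr h))))))

end Cfsg.Agent.S5778
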