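import Cfsg.Statements.S5779
import Cfsg.Agent.Lib.Linear.Mitchell.Residual
import Cfsg.Agent.Lib.Linear.Mitchell.L27Five

set_option autoImplicit false
open Cfsg

namespace Cfsg.Agent.S5779

/-- The maximal subgroups of SU_3(q), q ≥ 3, in the residual class. Let F be the field with q² elements and H a maximal subgroup of SU_3(q) (determinant-one isometries of the standard unitary form on F^3) lying in the residual class of the unitary case. Then q = p is prime and the perfect socle preimage P of H satisfies one of: P modulo scalars is isomorphic to the simple group of order 168 (written PSL_3(2)) and p ≡ 3, 5 or 6 mod 7 with p ≠ 5; or P modulo scalars is isomorphic to A_6 and either p ≡ 11 or 14 mod 15 or p = 5; or P modulo scalars is isomorphic to A_7 and p = 5. -/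
theorem result {F : Type*} [Field F] [Fintype F] (q : ℕ) (hF : Fintype.card F = q ^ 2) (hq : 3 ≤ q) (H : Subgroup (Matrix.GeneralLinearGroup (Fin 3) F)) (hH : Cfsg.Geo.IsMaximalIn (Cfsg.GU 3 F q ⊓ Cfsg.Geo.specialLinear (Fin 3) F) H) (hS : Cfsg.Geo.InUnitaryResidualClass H) :
    ∃ P : Subgroup (Matrix.GeneralLinearGroup (Fin 3) F), Cfsg.Geo.IsResidualCore H P ∧ q.Prime ∧
    ((Nonempty ((P ⧸ (Cfsg.Geo.scalars (Fin 3) F).subgroupOf P) ≃* Matrix.ProjectiveSpecialLinearGroup (Fin 3) (ZMod 2)) ∧ q ≠ 5 ∧ (q % 7 = 3 ∨ q % 7 = 5 ∨ q % 7 = 6)) ∨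
     (Nonempty ((P ⧸ (Cfsg.Geo.scalars (Fin 3) F).subgroupOf P) ≃* alternatingGroup (Fin 6)) ∧ (q % 15 = 11 ∨ q % 15 = 14 ∨ q = 5)) ∨
     (Nonempty ((P ⧸ (Cfsg.Geo.scalars (Fin 3) F).subgroupOf P) ≃* alternatingGroup (Fin 7)) ∧ q = 5)) := by
  classical
  obtain ⟨P, hR, hnQ, -⟩ := hS
  have hPS : P ≤ Cfsg.GU 3 F q ⊓ Cfsg.Geo.specialLinear (Fin 3) F := hR.le.trans hH.1.le
  have hP : Cfsg.Lib.Linear.Mitchell.Core P :=
    ⟨hPS.trans inf_le_right, hR.perfect, hR.simple, hR.nonabelian, hR.absIrred⟩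
  have hp := CharP.char_is_prime F (ringChar F)
  haveI : Fact (ringChar F).Prime := ⟨hp⟩
  haveI : CharP F (ringChar F) := ringChar.charP F
  have hsq : ∀ {r : ℕ}, Fintype.card F = r ^ 2 → q = r := fun h =>
    Nat.pow_left_injective (n := 2) two_ne_zero (hF.symm.trans h)
  have hnp : Fintype.card F ≠ ringChar F := fun h =>
    Nat.Prime.not_prime_pow (by norm_num : 2 ≤ 2) (by rw [← hF, h]; exact hp)
  refine ⟨P, hR, ?_⟩
  rcases Cfsg.Lib.Linear.Mitchell.residual_cases hP hR.no_subfield with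
    h | ⟨σ, f, hf, hfix, hlow⟩ | h | ⟨h2, h7, ⟨e⟩⟩ | ⟨hc, ⟨e⟩⟩ | ⟨h5, ⟨e⟩⟩
  · exact absurd ((inf_le_right.trans h).trans hR.le) hH.1.not_ge
  · exact absurd ((Cfsg.Lib.Linear.Mitchell.sunit_le_of_lower hF hq hR.absIrred (hPS.trans inf_le_left) hf hfix
      hlow).trans hR.le) hH.1.not_ge
  · exact absurd h hnQ
  · rcases Cfsg.Lib.Linear.Mitchell.l27_field hP hR.no_subfield h2 h7 e with
      ⟨hcard, -⟩ | ⟨hm, ⟨hcard, -⟩ | ⟨hcard, -⟩⟩
    · exact absurd hcard hnp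
    · exact absurd hcard hnp
    · obtain rfl := hsq hcard
      refine ⟨hp, Or.inl ⟨⟨e⟩, fun h5 => ?_, hm⟩⟩
      rw [h5] at hH hF
      exact Cfsg.Lib.Linear.Mitchell.L27Five.l27_five_false hF hH hR.le hR.normal hP hR.centralizer_scalar e
  · rcases hc with ⟨h4, -⟩ | ⟨h2, h3⟩
    · exfalso
      rw [hF] at h4
      nlinarith
    · rcases Cfsg.Lib.Linear.Mitchell.a6_field hP hR.no_subfield h2 h3 e with
        ⟨hcard, -⟩ | ⟨hcard, -, x, hx, hr, hne⟩ | ⟨hm, ⟨hcard, -⟩ | ⟨hcard, -⟩⟩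
      · exact absurd hcard hnp
      · obtain rfl := hsq hcard
        exact absurd ((Cfsg.Lib.Linear.Mitchell.trace_inv_GU hF (hPS hx).1).symm.trans hr) hne
      · exact absurd hcard hnp
      · obtain rfl := hsq hcard
        exact ⟨hp, Or.inr (Or.inl ⟨⟨e⟩, hm⟩)⟩
  · haveI : CharP F 5 := h5 ▸ ringChar.charP F
    rcases Cfsg.Lib.Linear.Mitchell.a7_field hP hR.no_subfield e with ⟨hcard, -⟩ | ⟨hcard, -⟩
    · exact absurd (hcard.trans h5.symm) hnp
    · obtain rfl := hsq hcard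
      exact ⟨Nat.prime_five, Or.inr (Or.inr ⟨⟨e⟩, rfl⟩)⟩

end Cfsg.Agent.S5779
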