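import Cfsg.Statements.S5887

/-! Normalisers of field subalgebras of composite degree are not maximal. -/

set_option autoImplicit false
open Cfsg Module
open scoped Matrix

namespace Cfsg.Agent.S5887

variable {F : Type*} [Field F] [Fintype F] {n : ℕ}

local notation "M" => Matrix (Fin n) (Fin n) F

omit [Fintype F] in
/-- A commutative subalgebra with inverses is a field. -/
theorem isField_of (S : Subalgebra F M) (hne : Nonempty (Fin n)) (hcomm : ∀ x ∈ S, ∀ y ∈ S, x * y = y * x)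
    (hinv : ∀ x ∈ S, x ≠ 0 → ∃ y ∈ S, x * y = 1) : IsField S where
  exists_pair_ne := ⟨0, 1, fun h => by
    obtain ⟨i⟩ := hne
    have := congrFun (congrFun (congrArg Subtype.val h) i) i
    simp at this⟩
  mul_comm := fun x y => Subtype.ext (hcomm x x.2 y y.2)
  mul_inv_cancel := fun {x} hx => by
    obtain ⟨y, hy, hxy⟩ := hinv x x.2 (fun h => hx (Subtype.ext h))
    exact ⟨⟨y, hy⟩, Subtype.ext hxy⟩

set_option synthInstance.maxHeartbeats 200000 in
/-- An element of determinant one centralising `S` which does not normalise `K`. -/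
theorem exists_elt (K S : Subalgebra F M) (hSK : S ≤ K) (hcomm : ∀ x ∈ K, ∀ y ∈ K, x * y = y * x)
    (hinv : ∀ x ∈ K, x ≠ 0 → ∃ y ∈ K, x * y = 1) (hinvS : ∀ x ∈ S, x ≠ 0 → ∃ y ∈ S, x * y = 1)
    (hdim : finrank F K < n) {k : M} (hk : k ∈ K) (hkS : k ∉ S) :
    ∃ g : GL (Fin n) F, g ∈ Cfsg.Geo.specialLinear (Fin n) F ∧
      (∀ s ∈ S, (g : M) * s = s * (g : M)) ∧ g ∉ Cfsg.Geo.subalgebraNormalizer K := by
  classical
  have hne : Nonempty (Fin n) := ⟨⟨0, by omega⟩⟩
  obtain ⟨i⟩ := hne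
  set v₁ : Fin n → F := Pi.single i 1 with hv₁def
  have hv₁ : v₁ ≠ 0 := by simp [hv₁def]
  let E : K →ₗ[F] (Fin n → F) :=
    { toFun := fun a => (a : M) *ᵥ v₁
      map_add' := fun a b => Matrix.add_mulVec _ _ _
      map_smul' := fun c a => Matrix.smul_mulVec c (a : M) v₁ }
  obtain ⟨v₂, hv₂⟩ : ∃ v₂, v₂ ∉ LinearMap.range E := by
    by_contra h
    push Not at h
    have htop : LinearMap.range E = ⊤ := eq_top_iff.2 fun x _ => h x
    have h1 := LinearMap.finrank_range_le E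
    rw [htop, finrank_top, finrank_fin_fun] at h1
    omega
  have hindep : ∀ a ∈ K, ∀ b ∈ K, a *ᵥ v₂ = b *ᵥ v₁ → a = 0 := by
    intro a ha b hb hab
    by_contra ha0
    obtain ⟨c, hc, hac⟩ := hinv a ha ha0
    refine hv₂ ⟨⟨c * b, K.mul_mem hc hb⟩, ?_⟩
    show (c * b) *ᵥ v₁ = v₂
    rw [← Matrix.mulVec_mulVec, ← hab, Matrix.mulVec_mulVec, hcomm c hc a ha, hac, Matrix.one_mulVec]
  have hSf : IsField S :=
    isField_of S ⟨i⟩ (fun x hx y hy => hcomm x (hSK hx) y (hSK hy)) hinvS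
  letI : Field S := hSf.toField
  letI : Module S (Fin n → F) :=
    { smul := fun s v => (s : M) *ᵥ v
      one_smul := fun v => Matrix.one_mulVec v
      mul_smul := fun s t v => (Matrix.mulVec_mulVec v (s : M) (t : M)).symm
      smul_zero := fun s => Matrix.mulVec_zero _
      smul_add := fun s v w => Matrix.mulVec_add _ v w
      add_smul := fun s t v => Matrix.add_mulVec _ _ v
      zero_smul := fun v => Matrix.zero_mulVec v }
  let W : Submodule S (Fin n → F) :=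
    { carrier := {x | ∃ a ∈ K, ∃ s ∈ S, x = a *ᵥ v₁ + (s * k) *ᵥ v₂}
      zero_mem' := ⟨0, K.zero_mem, 0, S.zero_mem, by simp⟩
      add_mem' := by
        rintro _ _ ⟨a, ha, s, hs, rfl⟩ ⟨b, hb, t, ht, rfl⟩
        refine ⟨a + b, K.add_mem ha hb, s + t, S.add_mem hs ht, ?_⟩
        rw [Matrix.add_mulVec, add_mul, Matrix.add_mulVec]; abel
      smul_mem' := by
        rintro c _ ⟨a, ha, s, hs, rfl⟩
        refine ⟨(c : M) * a, K.mul_mem (hSK c.2) ha, (c : M) * s, S.mul_mem c.2 hs, ?_⟩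
        show (c : M) *ᵥ _ = _
        rw [Matrix.mulVec_add, Matrix.mulVec_mulVec, Matrix.mulVec_mulVec, mul_assoc] }
  have hv₂W : v₂ ∉ W := by
    rintro ⟨a, ha, s, hs, e⟩
    have h : (1 - s * k) *ᵥ v₂ = a *ᵥ v₁ := by
      rw [Matrix.sub_mulVec, Matrix.one_mulVec, sub_eq_iff_eq_add]; exact e
    have h1 := hindep _ (K.sub_mem K.one_mem (K.mul_mem (hSK hs) hk)) a ha h
    rw [sub_eq_zero] at h1
    have hs0 : s ≠ 0 := fun h0 => by
      rw [h0, zero_mul] at h1
      have := congrFun (congrFun h1 i) i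
      simp at this
    obtain ⟨t, ht, hst⟩ := hinvS s hs hs0
    refine hkS ?_
    have : k = t := by
      calc k = (s * t) * k := by rw [hst, one_mul]
        _ = (t * s) * k := by rw [hcomm s (hSK hs) t (hSK ht)]
        _ = t := by rw [mul_assoc, ← h1, mul_one]
    exact this ▸ ht
  obtain ⟨φ, hφv, hφW⟩ := Submodule.exists_dual_map_eq_bot_of_notMem hv₂W inferInstance
  have hφ0 : ∀ x ∈ W, φ x = 0 := fun x hx => by
    have : φ x ∈ W.map φ := ⟨x, hx, rfl⟩
    rwa [hφW, Submodule.mem_bot] at this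
  set ψ := (φ v₂)⁻¹ • φ with hψdef
  have hψ2 : ψ v₂ = 1 := by rw [hψdef, LinearMap.smul_apply, smul_eq_mul, inv_mul_cancel₀ hφv]
  have hψ0 : ∀ x ∈ W, ψ x = 0 := fun x hx => by rw [hψdef, LinearMap.smul_apply, hφ0 x hx, smul_zero]
  have hψsmul : ∀ (s : S) x, ψ ((s : M) *ᵥ x) = s * ψ x := fun s x => ψ.map_smul s x
  have hψadd : ∀ x y, ψ (x + y) = ψ x + ψ y := fun x y => ψ.map_add x y
  let L : (Fin n → F) →ₗ[F] (Fin n → F) :=
    { toFun := fun x => ((ψ x : S) : M) *ᵥ v₁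
      map_add' := fun x y => by rw [hψadd]; exact Matrix.add_mulVec _ _ _
      map_smul' := fun c x => by
        have e : c • x = ((algebraMap F S c : S) : M) *ᵥ x := by
          show _ = (algebraMap F M c) *ᵥ x
          rw [Algebra.algebraMap_eq_smul_one, Matrix.smul_mulVec, Matrix.one_mulVec]
        rw [e, hψsmul, RingHom.id_apply]
        show (((algebraMap F S c : S) : M) * ((ψ x : S) : M)) *ᵥ v₁ = _
        rw [show ((algebraMap F S c : S) : M) = algebraMap F M c from rfl, Algebra.algebraMap_eq_smul_one,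
          smul_mul_assoc, one_mul, Matrix.smul_mulVec] }
  set N := LinearMap.toMatrix' L with hN
  have hNx : ∀ x, N *ᵥ x = ((ψ x : S) : M) *ᵥ v₁ := fun x => by
    rw [hN, ← Matrix.toLin'_apply, Matrix.toLin'_toMatrix']; rfl
  have hv₁W : ∀ a ∈ K, a *ᵥ v₁ ∈ W := fun a ha => ⟨a, ha, 0, S.zero_mem, by simp⟩
  have hN2 : N * N = 0 := Matrix.toLin'.injective (LinearMap.ext fun x => by
    rw [map_zero, Matrix.toLin'_apply, ← Matrix.mulVec_mulVec, hNx x, hNx,
      hψ0 _ (hv₁W _ (hSK (ψ x).2))]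
    simp)
  have hpow : ∀ m : ℕ, (1 + N) ^ m = 1 + (m : F) • N := by
    intro m
    induction m with
    | zero => simp
    | succ m ih =>
      rw [pow_succ, ih]
      simp [mul_add, add_mul, smul_mul_assoc, hN2, add_smul]
      abel
  obtain ⟨p, hp⟩ := CharP.exists F
  obtain ⟨_, hpp, -⟩ := FiniteField.card F p
  haveI : Fact p.Prime := ⟨hpp⟩
  have hdet : (1 + N).det = 1 := by
    have h := congrArg Matrix.det (hpow p)
    rw [CharP.cast_eq_zero, zero_smul, add_zero, Matrix.det_one, Matrix.det_pow] at h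
    exact frobenius_inj F p (by rw [frobenius_def, h, map_one])
  let g : GL (Fin n) F :=
    ⟨1 + N, 1 - N, by simp [mul_sub, add_mul, hN2], by simp [sub_mul, mul_add, hN2]⟩
  refine ⟨g, MonoidHom.mem_ker.2 (Units.ext hdet), fun s hs => ?_, fun hg => ?_⟩
  · show (1 + N) * s = s * (1 + N)
    rw [add_mul, mul_add, one_mul, mul_one]
    congr 1
    refine Matrix.toLin'.injective (LinearMap.ext fun x => ?_)
    rw [Matrix.toLin'_apply, Matrix.toLin'_apply, ← Matrix.mulVec_mulVec, ← Matrix.mulVec_mulVec, hNx, hNx,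
      hψsmul ⟨s, hs⟩, Matrix.mulVec_mulVec]
    rfl
  · have hk' : (g : M) * k * ((g⁻¹ : GL (Fin n) F) : M) ∈ K := (hg k).1 hk
    set k' := (g : M) * k * ((g⁻¹ : GL (Fin n) F) : M) with hk'def
    have hv : k' *ᵥ v₂ = k *ᵥ v₂ - k *ᵥ v₁ := by
      have h1 : ((g⁻¹ : GL (Fin n) F) : M) *ᵥ v₂ = v₂ - v₁ := by
        show (1 - N) *ᵥ v₂ = _
        rw [Matrix.sub_mulVec, Matrix.one_mulVec, hNx, hψ2]
        exact congrArg (v₂ - ·) (Matrix.one_mulVec v₁)
      have h2 : k *ᵥ v₂ - k *ᵥ v₁ ∈ W := W.sub_mem ⟨0, K.zero_mem, 1, S.one_mem, by simp⟩ (hv₁W k hk)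
      rw [hk'def, ← Matrix.mulVec_mulVec, ← Matrix.mulVec_mulVec, h1, Matrix.mulVec_sub]
      show (1 + N) *ᵥ _ = _
      rw [Matrix.add_mulVec, Matrix.one_mulVec, hNx, hψ0 _ h2]
      simp
    have h3 : (k - k') *ᵥ v₂ = k *ᵥ v₁ := by rw [Matrix.sub_mulVec, hv, sub_sub_cancel]
    have h4 := hindep _ (K.sub_mem hk hk') k hk h3
    rw [sub_eq_zero] at h4
    rw [← h4, eq_comm, sub_eq_self] at hv
    obtain ⟨t, ht, hkt⟩ := hinv k hk (fun h => hkS (h ▸ S.zero_mem))
    have := congrArg (t *ᵥ ·) hv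
    simp only [Matrix.mulVec_mulVec, Matrix.mulVec_zero, hcomm t ht k hk, hkt, Matrix.one_mulVec] at this
    exact hv₁ this

theorem main (r : ℕ) (hr1 : 1 < r) (hrp : ¬ r.Prime) (hlt : r < n)
    (K : Subalgebra F M) (hK : Cfsg.Geo.IsFieldSubalgebra r K) :
    ¬ IsCoatom (Cfsg.Geo.subalgebraNormalizer K) ∧
      ¬ Cfsg.Geo.IsMaximalIn (Cfsg.Geo.specialLinear (Fin n) F)
        (Cfsg.Geo.subalgebraNormalizer K ⊓ Cfsg.Geo.specialLinear (Fin n) F) := by
  classical
  have hne : Nonempty (Fin n) := ⟨⟨0, by omega⟩⟩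
  set q := Fintype.card F with hq
  have hq1 : 1 < q := Fintype.one_lt_card
  set d := r.minFac with hd
  have hdp : d.Prime := Nat.minFac_prime (by omega)
  have hdr : d ∣ r := Nat.minFac_dvd r
  have hdlt : d < r := lt_of_le_of_ne (Nat.le_of_dvd (by omega) hdr) fun e => hrp (e ▸ hdp)
  obtain ⟨p, hp⟩ := CharP.exists F
  obtain ⟨f, hpp, hf⟩ := FiniteField.card F p
  haveI : Fact p.Prime := ⟨hpp⟩
  have hQ : q ^ d = p ^ ((f : ℕ) * d) := by rw [hq, hf, pow_mul]
  have hcast : ∀ c : F, c ^ (q ^ d) = c := fun c => FiniteField.pow_card_pow d c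
  let S : Subalgebra F M :=
    { carrier := {a | a ∈ K ∧ a ^ (q ^ d) = a}
      one_mem' := ⟨K.one_mem, one_pow _⟩
      zero_mem' := ⟨K.zero_mem, zero_pow (pow_ne_zero _ (by omega))⟩
      mul_mem' := fun {a b} ha hb => ⟨K.mul_mem ha.1 hb.1, by
        rw [(show Commute a b from hK.comm a ha.1 b hb.1).mul_pow, ha.2, hb.2]⟩
      add_mem' := fun {a b} ha hb => ⟨K.add_mem ha.1 hb.1, by
        have h1 := ha.2
        have h2 := hb.2
        rw [hQ] at h1 h2 ⊢
        rw [add_pow_char_pow_of_commute p _ (show Commute a b from hK.comm a ha.1 b hb.1), h1, h2]⟩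
      algebraMap_mem' := fun c => ⟨K.algebraMap_mem c, by rw [← map_pow, hcast]⟩ }
  have hSK : S ≤ K := fun a ha => ha.1
  have hinvS : ∀ x ∈ S, x ≠ 0 → ∃ y ∈ S, x * y = 1 := by
    intro x hx hx0
    obtain ⟨y, hy, hxy⟩ := hK.inv x hx.1 hx0
    refine ⟨y, ⟨hy, ?_⟩, hxy⟩
    have hc : Commute x y := hK.comm x hx.1 y hy
    have h1 : x * y ^ (q ^ d) = 1 := by
      conv_lhs => rw [← hx.2]
      rw [← hc.mul_pow, hxy, one_pow]
    calc y ^ (q ^ d) = (y * x) * y ^ (q ^ d) := by rw [← hc.eq, hxy, one_mul]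
      _ = y := by rw [mul_assoc, h1, mul_one]
  have hKf : IsField K := isField_of K hne hK.comm hK.inv
  letI : Field K := hKf.toField
  haveI : Fintype K := Fintype.ofFinite _
  obtain ⟨θ, hθ⟩ := IsCyclic.exists_ofOrder_eq_natCard (α := Kˣ)
  have hcardK : Nat.card Kˣ = q ^ r - 1 := by
    rw [Nat.card_units, Module.natCard_eq_pow_finrank (K := F), hK.finrank_eq, Nat.card_eq_fintype_card]
  rw [hcardK] at hθ
  have hdvd : q ^ d - 1 ∣ q ^ r - 1 := by
    simpa [one_pow] using Nat.pow_sub_pow_dvd_pow_sub_pow q 1 hdr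
  obtain ⟨m, hm⟩ := hdvd
  have hqd : 1 < q ^ d := Nat.one_lt_pow hdp.ne_zero hq1
  have hqr : q ^ d < q ^ r := Nat.pow_lt_pow_right hq1 hdlt
  have hm0 : m ≠ 0 := fun h => by rw [h, mul_zero] at hm; omega
  have hφ : orderOf (θ ^ m) = q ^ d - 1 := by
    rw [orderOf_pow_of_dvd hm0 (by rw [hθ, hm]; exact dvd_mul_left _ _), hθ, hm, Nat.mul_div_cancel _ (by omega)]
  have hS1 : ((θ : K) : M) ∉ S := by
    rintro ⟨-, h⟩
    have h1 : θ ^ (q ^ d) = θ := Units.ext (Subtype.ext (by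
      rw [Units.val_pow_eq_pow_val, SubmonoidClass.coe_pow]; exact h))
    have h2 : θ ^ (q ^ d - 1) = 1 := by
      rw [show q ^ d = q ^ d - 1 + 1 by omega, pow_succ] at h1
      exact mul_eq_right.1 h1
    have h3 := Nat.le_of_dvd (by omega) (orderOf_dvd_of_pow_eq_one h2)
    rw [hθ] at h3
    omega
  set k₀ : M := (((θ ^ m : Kˣ) : K) : M) with hk₀
  have hk₀S : k₀ ∈ S := ⟨(((θ ^ m : Kˣ) : K)).2, by
    have : (θ ^ m) ^ (q ^ d) = θ ^ m := by
      conv_lhs => rw [show q ^ d = q ^ d - 1 + 1 by omega]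
      rw [pow_succ, ← hφ, pow_orderOf_eq_one, one_mul]
    rw [hk₀, ← SubmonoidClass.coe_pow, ← Units.val_pow_eq_pow_val, this]⟩
  have hk₀F : k₀ ∉ (⊥ : Subalgebra F M) := by
    rw [Algebra.mem_bot]
    rintro ⟨c, hc⟩
    have hc' : ((θ ^ m : Kˣ) : K) = algebraMap F K c := Subtype.ext hc.symm
    have hc0 : c ≠ 0 := fun h => by rw [h, map_zero] at hc'; exact Units.ne_zero _ hc'
    have h2 : (θ ^ m) ^ (q - 1) = 1 := Units.ext (by
      rw [Units.val_pow_eq_pow_val, hc', ← map_pow, FiniteField.pow_card_sub_one_eq_one c hc0, map_one, Units.val_one])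
    have h3 := Nat.le_of_dvd (by omega) (orderOf_dvd_of_pow_eq_one h2)
    rw [hφ] at h3
    have : q < q ^ d := by
      calc q = q ^ 1 := (pow_one q).symm
        _ < q ^ d := Nat.pow_lt_pow_right hq1 hdp.one_lt
    omega
  have hdimK : finrank F K < n := by rw [hK.finrank_eq]; exact hlt
  obtain ⟨g, hgSL, hgS, hgK⟩ := exists_elt K S hSK hK.comm hK.inv hinvS hdimK (θ : K).2 hS1
  have hdimS : finrank F S < n :=
    lt_of_le_of_lt (Submodule.finrank_mono (R := F) (show Subalgebra.toSubmodule S ≤ Subalgebra.toSubmodule K from hSK)) hdimK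
  obtain ⟨h, hhSL, -, hhS⟩ := exists_elt S ⊥ bot_le (fun x hx y hy => hK.comm x hx.1 y hy.1) hinvS (by
      intro x hx hx0
      obtain ⟨c, rfl⟩ := Algebra.mem_bot.1 hx
      have hc0 : c ≠ 0 := fun h => hx0 (by rw [h, map_zero])
      exact ⟨algebraMap F M c⁻¹, Algebra.mem_bot.2 ⟨c⁻¹, rfl⟩, by rw [← map_mul, mul_inv_cancel₀ hc0, map_one]⟩)
    hdimS hk₀S hk₀F
  -- the normaliser of `K` normalises `S`
  have hle : Cfsg.Geo.subalgebraNormalizer K ≤ Cfsg.Geo.subalgebraNormalizer S := by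
    intro x hx a
    have hpow : ((x : M) * a * ((x⁻¹ : GL (Fin n) F) : M)) ^ (q ^ d) =
        (x : M) * a ^ (q ^ d) * ((x⁻¹ : GL (Fin n) F) : M) := Units.conj_pow x a _
    constructor
    · rintro ⟨h1, h2⟩
      exact ⟨(hx a).1 h1, by rw [hpow, h2]⟩
    · rintro ⟨h1, h2⟩
      refine ⟨(hx a).2 h1, ?_⟩
      rw [hpow] at h2
      exact x.isUnit.mul_left_cancel ((x⁻¹ : GL (Fin n) F).isUnit.mul_right_cancel h2)
  have hgN : g ∈ Cfsg.Geo.subalgebraNormalizer S := by
    intro a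
    have hconj : ∀ b ∈ S, (g : M) * b * ((g⁻¹ : GL (Fin n) F) : M) = b := fun b hb => by
      rw [hgS b hb, mul_assoc, ← Units.val_mul, mul_inv_cancel, Units.val_one, mul_one]
    refine ⟨fun ha => by rw [hconj a ha]; exact ha, fun ha => ?_⟩
    have h1 := hconj _ ha
    have h2 := g.isUnit.mul_left_cancel ((g⁻¹ : GL (Fin n) F).isUnit.mul_right_cancel h1)
    rwa [h2] at ha
  constructor
  · intro hco
    have := hco.2 _ (lt_of_le_of_ne hle fun e => hgK (e ▸ hgN))
    exact hhS (this ▸ Subgroup.mem_top h)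
  · rintro ⟨-, hmax⟩
    rcases hmax (Cfsg.Geo.subalgebraNormalizer S ⊓ Cfsg.Geo.specialLinear (Fin n) F) (inf_le_inf_right _ hle) inf_le_right
      with e | e
    · exact hgK (e ▸ Subgroup.mem_inf.2 ⟨hgN, hgSL⟩ : g ∈ Cfsg.Geo.subalgebraNormalizer K ⊓ _).1
    · exact hhS (e.symm ▸ hhSL : h ∈ Cfsg.Geo.subalgebraNormalizer S ⊓ _).1

/-- Let F be a finite field, n a positive integer and r a composite number (r > 1, not prime) that divides n with r < n. Let K be a subalgebra of the algebra of n × n matrices over F which is a field of degree r over F (commutative, every non-zero element invertible, of dimension r over F). Then the normaliser N of K in GL_n(F) (a group of type ΓL_{n/r}(F_{q^r})) is not a maximal subgroup of GL_n(F), and N ∩ SL_n(F) is not a maximal subgroup of SL_n(F): both lie properly inside the normaliser of an intermediate subfield of prime degree over F. -/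
theorem result {F : Type*} [Field F]
    [Fintype F] (n r : ℕ) (hr1 : 1 < r) (hrp : ¬ r.Prime) (hrn : r ∣ n) (hlt : r < n)
    (K : Subalgebra F (Matrix (Fin n) (Fin n) F)) (hK : Cfsg.Geo.IsFieldSubalgebra r K) :
    ¬ IsCoatom (Cfsg.Geo.subalgebraNormalizer K) ∧
      ¬ Cfsg.Geo.IsMaximalIn (Cfsg.Geo.specialLinear (Fin n) F)
        (Cfsg.Geo.subalgebraNormalizer K ⊓ Cfsg.Geo.specialLinear (Fin n) F) := by
  exact main r hr1 hrp hlt K hK

end Cfsg.Agent.S5887
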