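import Cfsg.Statements.S5886
import Cfsg.Agent.S5887
import Cfsg.Agent.Lib.Linear.SubfieldBasic
import Cfsg.Agent.Lib.Linear.SymplecticMax
import Cfsg.Agent.Lib.Linear.ExtField.Main

set_option autoImplicit false
open Cfsg

namespace Cfsg.Agent.S5886


open Module Cfsg.Lib.Linear Cfsg.Lib.Linear.ExtField
open scoped Matrix

variable {F : Type*} [Field F] [Fintype F] {n : ℕ}

local notation "M" => Matrix (Fin n) (Fin n) F

/-- The natural module over a subalgebra of matrices. -/
@[reducible] def moduleK (K : Subalgebra F M) : Module K (Fin n → F) :=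
  { smul := fun s v => (s : M) *ᵥ v
    one_smul := fun v => Matrix.one_mulVec v
    mul_smul := fun s t v => (Matrix.mulVec_mulVec v (s : M) (t : M)).symm
    smul_zero := fun s => Matrix.mulVec_zero _
    smul_add := fun s v w => Matrix.mulVec_add _ v w
    add_smul := fun s t v => Matrix.add_mulVec _ _ v
    zero_smul := fun v => Matrix.zero_mulVec v }

set_option synthInstance.maxHeartbeats 400000 in
set_option maxHeartbeats 1600000 in
/-- Overgroups of the intersection with the special linear group contain the latter, and the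
normaliser has elements of every determinant. -/
theorem core (r : ℕ) (hr : r.Prime) (hlt : r < n) (K : Subalgebra F M)
    (hK : Cfsg.Geo.IsFieldSubalgebra r K) :
    (∀ L : Subgroup (GL (Fin n) F),
        Cfsg.Geo.subalgebraNormalizer K ⊓ Cfsg.Geo.specialLinear (Fin n) F ≤ L →
        ¬ L ≤ Cfsg.Geo.subalgebraNormalizer K → Cfsg.Geo.specialLinear (Fin n) F ≤ L) ∧
      ∀ δ : Fˣ, ∃ g ∈ Cfsg.Geo.subalgebraNormalizer K, Matrix.GeneralLinearGroup.det g = δ := by
  classical
  have hne : Nonempty (Fin n) := ⟨⟨0, by omega⟩⟩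
  letI : Field K := (Cfsg.Agent.S5887.isField_of K hne hK.comm hK.inv).toField
  letI : Module K (Fin n → F) := moduleK K
  haveI : IsScalarTower F K (Fin n → F) :=
    ⟨fun c k v => show (c • (k : M)) *ᵥ v = c • ((k : M) *ᵥ v) from Matrix.smul_mulVec c _ v⟩
  haveI : Finite K := inferInstance
  haveI : FiniteDimensional F K := inferInstance
  haveI : FiniteDimensional K (Fin n → F) := Module.Finite.of_restrictScalars_finite F K _
  have hrK : finrank F K = r := hK.finrank_eq
  have hm : 2 ≤ finrank K (Fin n → F) := by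
    have h := Module.finrank_mul_finrank F K (Fin n → F)
    rw [hrK, Module.finrank_fin_fun] at h
    by_contra hlt'
    have : r * finrank K (Fin n → F) ≤ r * 1 := Nat.mul_le_mul_left r (by omega)
    omega
  set e := Symp.glEquiv (Fin n) F
  -- `K`-linear automorphisms normalise `K`
  have hlin : ∀ (f : (Fin n → F) ≃ₗ[K] (Fin n → F)),
      e.symm (f.restrictScalars F) ∈ Cfsg.Geo.subalgebraNormalizer K ∧
        ((Matrix.GeneralLinearGroup.det (e.symm (f.restrictScalars F)) : Fˣ) : F) =
          Algebra.norm F (LinearMap.det (f : (Fin n → F) →ₗ[K] (Fin n → F))) := by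
    intro f
    set g := e.symm (f.restrictScalars F) with hg
    have hact : ∀ x, (g : M) *ᵥ x = f x := fun x => by
      rw [← Symp.glEquiv_apply]
      show e g x = _
      rw [hg, e.apply_symm_apply]
      rfl
    have hcomm : ∀ k ∈ K, (g : M) * k = k * (g : M) := fun k hk =>
      Matrix.toLin'.injective (LinearMap.ext fun x => by
        rw [Matrix.toLin'_apply, Matrix.toLin'_apply, ← Matrix.mulVec_mulVec,
          ← Matrix.mulVec_mulVec, hact, hact]
        exact f.map_smul ⟨k, hk⟩ x)
    refine ⟨fun k => ⟨fun hk => ?_, fun hk => ?_⟩, ?_⟩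
    · rw [hcomm k hk, mul_assoc, ← Units.val_mul, mul_inv_cancel, Units.val_one, mul_one]
      exact hk
    · have h := hcomm _ hk
      have e1 : k = ((g⁻¹ : GL (Fin n) F) : M) * ((g : M) * ((g : M) * k * ((g⁻¹ : GL (Fin n) F) : M))) := by
        rw [h, mul_assoc _ ((g⁻¹ : GL (Fin n) F) : M) (g : M), ← Units.val_mul g⁻¹ g, inv_mul_cancel,
          Units.val_one, mul_one, ← mul_assoc, ← Units.val_mul, inv_mul_cancel, Units.val_one, one_mul]
      rw [e1, ← mul_assoc, ← Units.val_mul, inv_mul_cancel, Units.val_one, one_mul]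
      exact hk
    · rw [Matrix.GeneralLinearGroup.val_det_apply, ← LinearMap.det_toLin',
        ← LinearMap.det_restrictScalars]
      congr 1
      exact LinearMap.ext fun x => by rw [Matrix.toLin'_apply, hact]; rfl
  constructor
  · intro L hL hnot
    obtain ⟨p, hp⟩ := CharP.exists F
    obtain ⟨_, hpp, -⟩ := FiniteField.card F p
    haveI : Fact p.Prime := ⟨hpp⟩
    haveI : CharP K p := (RingHom.charP_iff (algebraMap F K) (algebraMap F K).injective p).1 hp
    have hLin : ∀ f : (Fin n → F) ≃ₗ[K] (Fin n → F),
        Algebra.norm F (LinearMap.det (f : (Fin n → F) →ₗ[K] (Fin n → F))) = 1 →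
        f.restrictScalars F ∈ L.map e.toMonoidHom := fun f hf =>
      ⟨e.symm (f.restrictScalars F),
        hL ⟨(hlin f).1, MonoidHom.mem_ker.2 (Units.ext ((hlin f).2.trans hf))⟩,
        e.apply_symm_apply _⟩
    have hG : OverK K (L.map e.toMonoidHom) := by
      refine ⟨fun a ha => ?_, fun μ v s hμ hs => ?_, ?_⟩
      · let f : (Fin n → F) ≃ₗ[K] (Fin n → F) := LinearEquiv.ofLinear (LinearMap.id + a)
          (LinearMap.id - a) (LinearMap.ext fun x => by simp [map_sub, ha])
          (LinearMap.ext fun x => by simp [map_add, ha])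
        have hpow : ∀ k : ℕ, (f : (Fin n → F) →ₗ[K] (Fin n → F)) ^ k = 1 + k • a := by
          intro k
          induction k with
          | zero => simp
          | succ k ih =>
            rw [pow_succ, ih]
            refine LinearMap.ext fun x => ?_
            simp [f, add_smul, ha]
            abel
        have hdet : LinearMap.det (f : (Fin n → F) →ₗ[K] (Fin n → F)) = 1 := by
          have h := congrArg LinearMap.det (hpow p)
          rw [← Nat.cast_smul_eq_nsmul K, CharP.cast_eq_zero, zero_smul, add_zero, map_one,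
            map_pow] at h
          exact frobenius_inj K p (by rw [frobenius_def, h, map_one])
        exact ⟨_, hLin f (by rw [hdet, map_one]), fun x => rfl⟩
      · have hval : 1 + μ ((s - 1) • v) = s := by rw [map_smul, hμ, smul_eq_mul, mul_one]; ring
        have hs0 : s ≠ 0 := fun h0 => by
          rw [h0, Algebra.norm_zero] at hs
          exact zero_ne_one hs
        have hu : IsUnit (1 + μ ((s - 1) • v)) := by rw [hval]; exact isUnit_iff_ne_zero.2 hs0
        refine ⟨_, hLin (LinearEquiv.dilatransvection hu) ?_, fun x => ?_⟩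
        · rw [LinearEquiv.dilatransvection.coe_toLinearMap, LinearMap.transvection.det, hval]
          exact hs
        · show LinearEquiv.dilatransvection hu x = _
          rw [LinearEquiv.dilatransvection.apply]
          rfl
      · obtain ⟨g, hg, hgN⟩ := SetLike.not_le_iff_exists.1 hnot
        refine ⟨e g, ⟨g, hg, rfl⟩, ?_⟩
        by_contra hc
        push Not at hc
        refine hgN ?_
        have hin : ∀ k ∈ K, (g : M) * k * ((g⁻¹ : GL (Fin n) F) : M) ∈ K := by
          intro k hk
          set c : M := (g : M) * k * ((g⁻¹ : GL (Fin n) F) : M)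
          have hline : ∀ w : Fin n → F, ∃ a : K, c *ᵥ w = a • w := by
            intro w
            obtain ⟨a, ha⟩ := Submodule.mem_span_singleton.1
              (hc (((g⁻¹ : GL (Fin n) F) : M) *ᵥ w) ⟨k, hk⟩)
            refine ⟨a, ?_⟩
            have e1 : e g (((g⁻¹ : GL (Fin n) F) : M) *ᵥ w) = w := by
              rw [Symp.glEquiv_apply, Matrix.mulVec_mulVec, ← Units.val_mul, mul_inv_cancel,
                Units.val_one, Matrix.one_mulVec]
            rw [e1, Symp.glEquiv_apply] at ha
            rw [ha]
            show c *ᵥ w = (g : M) *ᵥ (k *ᵥ (((g⁻¹ : GL (Fin n) F) : M) *ᵥ w))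
            rw [Matrix.mulVec_mulVec, Matrix.mulVec_mulVec]
          obtain ⟨w₁, hw₁⟩ : ∃ w₁ : Fin n → F, w₁ ≠ 0 := exists_ne 0
          obtain ⟨a₁, ha₁⟩ := hline w₁
          have hout : ∀ w, w ∉ K ∙ w₁ → c *ᵥ w = a₁ • w := by
            intro w hw
            obtain ⟨a, ha⟩ := hline w
            obtain ⟨b, hb⟩ := hline (w₁ + w)
            rw [Matrix.mulVec_add, ha₁, ha, smul_add, ← sub_eq_zero,
              add_sub_add_comm, ← sub_smul, ← sub_smul] at hb
            have h2 : a - b = 0 := by
              by_contra h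
              refine hw (Submodule.mem_span_singleton.2 ⟨-((a - b)⁻¹ * (a₁ - b)), ?_⟩)
              rw [neg_smul, mul_smul, eq_neg_of_add_eq_zero_left hb, smul_neg, neg_neg, smul_smul,
                inv_mul_cancel₀ h, one_smul]
            rw [h2, zero_smul, add_zero] at hb
            have h1 := (smul_eq_zero.1 hb).resolve_right hw₁
            rw [ha, sub_eq_zero.1 h1, sub_eq_zero.1 h2]
          have hall : ∀ w, c *ᵥ w = (a₁ : M) *ᵥ w := by
            intro w
            show c *ᵥ w = a₁ • w
            by_cases hw : w ∈ K ∙ w₁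
            · obtain ⟨w₂, hw₂⟩ : ∃ w₂, w₂ ∉ K ∙ w₁ := by
                by_contra hcon
                push Not at hcon
                have := Submodule.finrank_mono
                  (show (⊤ : Submodule K (Fin n → F)) ≤ K ∙ w₁ from fun x _ => hcon x)
                rw [finrank_top, finrank_span_singleton hw₁] at this
                omega
              have hsum : w + w₂ ∉ K ∙ w₁ := fun h => hw₂ (by simpa using Submodule.sub_mem _ h hw)
              have := hout _ hsum
              rwa [Matrix.mulVec_add, hout _ hw₂, smul_add, add_left_inj] at this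
            · exact hout w hw
          have : c = (a₁ : M) := Matrix.toLin'.injective (LinearMap.ext fun w => by
            rw [Matrix.toLin'_apply, Matrix.toLin'_apply, hall])
          exact this ▸ a₁.2
        intro k
        refine ⟨hin k, fun hk => ?_⟩
        let Φ : K → K := fun a => ⟨_, hin a a.2⟩
        have hΦ : Function.Injective Φ := fun a b h => Subtype.ext (by
          have h' : (g : M) * (a : M) * ((g⁻¹ : GL (Fin n) F) : M) =
            (g : M) * (b : M) * ((g⁻¹ : GL (Fin n) F) : M) := congrArg Subtype.val h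
          exact (Units.mul_right_inj g).1 ((Units.mul_left_inj g⁻¹).1 h'))
        obtain ⟨a, ha⟩ := Finite.surjective_of_injective hΦ ⟨_, hk⟩
        have h' : (g : M) * (a : M) * ((g⁻¹ : GL (Fin n) F) : M) =
          (g : M) * k * ((g⁻¹ : GL (Fin n) F) : M) := congrArg Subtype.val ha
        have : (a : M) = k := (Units.mul_right_inj g).1 ((Units.mul_left_inj g⁻¹).1 h')
        exact this ▸ a.2
    refine Rat0.SL_le_of_elem fun i j hij c => ?_
    obtain ⟨h, hh, hha⟩ := transvection_mem hG hm (hrK ▸ hr)
      (c • (LinearMap.proj j : (Fin n → F) →ₗ[F] F)) (Pi.single i 1) (by simp [hij.symm])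
    obtain ⟨g, hg, rfl⟩ := hh
    have h0 : (c • Pi.single j 1 : Fin n → F) ⬝ᵥ Pi.single i 1 = 0 := by simp [hij.symm]
    refine ⟨h0, ?_⟩
    suffices hgt : g = tv (Pi.single i 1) (c • Pi.single j 1) h0 by rw [← hgt]; exact hg
    refine Units.ext (Matrix.toLin'.injective (LinearMap.ext fun x => ?_))
    rw [Matrix.toLin'_apply, Matrix.toLin'_apply, coe_tv, tvMat, Matrix.add_mulVec,
      Matrix.one_mulVec, Matrix.vecMulVec_mulVec, ← Symp.glEquiv_apply]
    refine (hha x).trans ?_
    simp [smul_dotProduct, single_dotProduct, smul_smul, mul_comm, ← MulOpposite.op_mul, op_smul_eq_smul]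
  · intro δ
    obtain ⟨s, hs⟩ := FiniteField.norm_surjective F K (δ : F)
    have hs0 : s ≠ 0 := fun h0 => δ.ne_zero (by rw [← hs, h0, Algebra.norm_zero])
    obtain ⟨v, hv⟩ := exists_ne (0 : Fin n → F)
    obtain ⟨μ, -, hμ⟩ := exists_functional (⊥ : Submodule K (Fin n → F)) (x := v) (by simpa using hv)
    have hval : 1 + μ ((s - 1) • v) = s := by rw [map_smul, hμ, smul_eq_mul, mul_one]; ring
    have hu : IsUnit (1 + μ ((s - 1) • v)) := by rw [hval]; exact isUnit_iff_ne_zero.2 hs0
    refine ⟨_, (hlin (LinearEquiv.dilatransvection hu)).1,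
      Units.ext ((hlin (LinearEquiv.dilatransvection hu)).2.trans ?_)⟩
    rw [LinearEquiv.dilatransvection.coe_toLinearMap, LinearMap.transvection.det, hval, hs]

/-- Let F be a finite field, n a positive integer and r a prime that divides n with r < n. Let K be a subalgebra of the algebra of n × n matrices over F which is a field of degree r over F (commutative, every non-zero element invertible, of dimension r over F; it contains the scalars). Then the normaliser N of K in GL_n(F) — the invertible F-linear maps that are semilinear over the field K, a group of type ΓL_{n/r}(F_{q^r}) for |F| = q — is a maximal subgroup of GL_n(F), and N ∩ SL_n(F) is a maximal subgroup of SL_n(F). No lower bound on n is assumed. -/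
theorem result {F : Type*} [Field F]
    [Fintype F] (n r : ℕ) (hr : r.Prime) (hrn : r ∣ n) (hlt : r < n) (K : Subalgebra F (Matrix (Fin n) (Fin n) F))
    (hK : Cfsg.Geo.IsFieldSubalgebra r K) :
    IsCoatom (Cfsg.Geo.subalgebraNormalizer K) ∧
      Cfsg.Geo.IsMaximalIn (Cfsg.Geo.specialLinear (Fin n) F)
        (Cfsg.Geo.subalgebraNormalizer K ⊓ Cfsg.Geo.specialLinear (Fin n) F) := by
  obtain ⟨hcore, hdets⟩ := core r hr hlt K hK
  have hne : Nonempty (Fin n) := ⟨⟨0, by omega⟩⟩
  obtain ⟨k, hk, hkS⟩ : ∃ k ∈ K, k ∉ (⊥ : Subalgebra F (Matrix (Fin n) (Fin n) F)) := by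
    by_contra h
    push Not at h
    have h1 := Submodule.finrank_mono (show Subalgebra.toSubmodule K ≤
      Subalgebra.toSubmodule (⊥ : Subalgebra F (Matrix (Fin n) (Fin n) F)) from h)
    rw [Subalgebra.finrank_toSubmodule, Subalgebra.finrank_toSubmodule, hK.finrank_eq,
      Subalgebra.finrank_bot] at h1
    exact absurd h1 (by have := hr.two_le; omega)
  obtain ⟨g, hgSL, -, hgN⟩ := Cfsg.Agent.S5887.exists_elt K ⊥ bot_le hK.comm hK.inv (by
    intro x hx hx0
    obtain ⟨c, rfl⟩ := Algebra.mem_bot.1 hx
    have hc : c ≠ 0 := fun h => hx0 (by rw [h, map_zero])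
    exact ⟨algebraMap F _ c⁻¹, Algebra.mem_bot.2 ⟨c⁻¹, rfl⟩,
      by rw [← map_mul, mul_inv_cancel₀ hc, map_one]⟩) (hK.finrank_eq ▸ hlt) hk hkS
  refine ⟨⟨fun h => hgN (h ▸ Subgroup.mem_top g), fun L hL => ?_⟩,
    lt_of_le_of_ne inf_le_right (fun h => hgN (h ▸ hgSL).1), fun L hL hL' => ?_⟩
  · have hSL := hcore L (inf_le_left.trans hL.le) (not_le_of_gt hL)
    refine eq_top_iff.2 fun x _ => ?_
    obtain ⟨y, hy, hdet⟩ := hdets (Matrix.GeneralLinearGroup.det x)
    have hxy : x * y⁻¹ ∈ L := hSL (MonoidHom.mem_ker.2 (by rw [map_mul, map_inv, hdet, mul_inv_cancel]))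
    simpa using L.mul_mem hxy (hL.le hy)
  · by_cases h : L ≤ Cfsg.Geo.subalgebraNormalizer K
    · exact Or.inl (le_antisymm (le_inf h hL') hL)
    · exact Or.inr (le_antisymm hL' (hcore L hL h))

end Cfsg.Agent.S5886
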