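import Cfsg.Statements.S5780
import Cfsg.Agent.S5886
import Cfsg.Agent.Lib.Linear.TransvectionGL
import Cfsg.Agent.Lib.Linear.SLMax.Decomp
import Cfsg.Agent.Lib.Linear.SLMax.Subfield
import Cfsg.Agent.Lib.Linear.SLMax.Symplectic
import Cfsg.Agent.Lib.Linear.SLMax.Unitary
import Cfsg.Agent.Lib.Linear.SLMax.QuadraticFour
import Cfsg.Agent.Lib.Linear.Klein.Frame
import Cfsg.Agent.Lib.Linear.FrameSmall.Max

set_option autoImplicit false
open Cfsg

namespace Cfsg.Agent.S5780

/-- Maximal subgroups of SL_4(q) of geometric type, for a finite field F with q elements (any q). Each of the following subgroups of GL_4(F), intersected with SL_4(F), is a maximal subgroup of SL_4(F): (1) the stabiliser of any proper non-zero subspace of F^4; (2) for q ≥ 7, the stabiliser of any decomposition of F^4 into four independent lines; (3) for q ≥ 4, the stabiliser of any decomposition of F^4 into two independent planes; (4) the normaliser of any degree-2 subfield of the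 4 × 4 matrix algebra over F; (5) every subfield group for a subfield F₀ with |F| = |F₀|^r, r prime; (6) for q = p prime with p ≡ 1 mod 4, the normaliser of any absolutely irreducible 2-subgroup R of exponent 4 with centre of order 4, all of whose characteristic abelian subgroups are cyclic, of order 2^(2+2m) for some m (here |R| = 64), with 4 dividing p − 1; (7) for q odd, the group of similarities of any non-degenerate quadratic form on F^4 (of either sign); (8) the group of similarities of any non-degenerate symplectic form on F^4; (9) the group of similarities of any non-degenerate unitary form on F^4. -/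
theorem result {F : Type*} [Field F] [Fintype F] :
    (∀ W : Submodule F (Fin 4 → F), W ≠ ⊥ → W ≠ ⊤ → Cfsg.Geo.IsMaximalIn (Cfsg.Geo.specialLinear (Fin 4) F) (Cfsg.Geo.subspaceStabilizer W ⊓ Cfsg.Geo.specialLinear (Fin 4) F)) ∧
    (7 ≤ Fintype.card F → ∀ D : Fin 4 → Submodule F (Fin 4 → F), Cfsg.Geo.IsMDecomposition 1 D → Cfsg.Geo.IsMaximalIn (Cfsg.Geo.specialLinear (Fin 4) F) (Cfsg.Geo.decompositionStabilizer D ⊓ Cfsg.Geo.specialLinear (Fin 4) F)) ∧
    (4 ≤ Fintype.card F → ∀ D : Fin 2 → Submodule F (Fin 4 → F), Cfsg.Geo.IsMDecomposition 2 D → Cfsg.Geo.IsMaximalIn (Cfsg.Geo.specialLinear (Fin 4) F) (Cfsg.Geo.decompositionStabilizer D ⊓ Cfsg.Geo.specialLinear (Fin 4) F)) ∧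
    (∀ K : Subalgebra F (Matrix (Fin 4) (Fin 4) F), Cfsg.Geo.IsFieldSubalgebra 2 K → Cfsg.Geo.IsMaximalIn (Cfsg.Geo.specialLinear (Fin 4) F) (Cfsg.Geo.subalgebraNormalizer K ⊓ Cfsg.Geo.specialLinear (Fin 4) F)) ∧
    (∀ (F₀ : Subfield F) (r : ℕ) (P : Matrix.GeneralLinearGroup (Fin 4) F), r.Prime → Fintype.card F = Nat.card F₀ ^ r → Cfsg.Geo.IsMaximalIn (Cfsg.Geo.specialLinear (Fin 4) F) (Cfsg.Geo.subfieldSubgroup F₀ P ⊓ Cfsg.Geo.specialLinear (Fin 4) F)) ∧
    (∀ (p : ℕ) (R : Subgroup (Matrix.GeneralLinearGroup (Fin 4) F)), p.Prime → Fintype.card F = p → p % 4 = 1 → Cfsg.Geo.IsLinearSymplecticTypeData 2 R → Cfsg.Geo.IsMaximalIn (Cfsg.Geo.specialLinear (Fin 4) F) (Cfsg.Geo.subgroupNormalizer R ⊓ Cfsg.Geo.specialLinear (Fin 4) F)) ∧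
    (Odd (Fintype.card F) → ∀ Q : (Fin 4 → F) → F, Cfsg.Geo.IsNondegenerateQuadraticForm Q → Cfsg.Geo.IsMaximalIn (Cfsg.Geo.specialLinear (Fin 4) F) (Cfsg.Geo.quadSimilarityGroup Q ⊓ Cfsg.Geo.specialLinear (Fin 4) F)) ∧
    (∀ f : (Fin 4 → F) → (Fin 4 → F) → F, Cfsg.Geo.IsSymplecticForm f → Cfsg.Geo.IsMaximalIn (Cfsg.Geo.specialLinear (Fin 4) F) (Cfsg.Geo.similarityGroup f ⊓ Cfsg.Geo.specialLinear (Fin 4) F)) ∧
    (∀ (σ : F ≃+* F) (f : (Fin 4 → F) → (Fin 4 → F) → F), Cfsg.Geo.IsUnitaryForm σ f → Cfsg.Geo.IsMaximalIn (Cfsg.Geo.specialLinear (Fin 4) F) (Cfsg.Geo.similarityGroup f ⊓ Cfsg.Geo.specialLinear (Fin 4) F)) :=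
  ⟨fun W h0 h1 => Cfsg.Lib.Linear.isMaximalIn_subspaceStabilizer_SL W h0 h1,
    fun hq D hD => Cfsg.Lib.Linear.SLMax.Dec.isMaximalIn_decomposition _ (by omega) 1 (fun _ => by omega) D hD (by omega) (by omega),
    fun hq D hD => Cfsg.Lib.Linear.SLMax.Dec.isMaximalIn_decomposition _ (by omega) 2 (fun _ => by omega) D hD (by omega) (by omega),
    fun K hK => (Cfsg.Agent.S5886.result _ 2 (by norm_num) (by norm_num) (by norm_num) K hK).2,
    fun F₀ r P hr hc => Cfsg.Lib.Linear.SLMax.Subf.isMaximalIn_subfield _ (by omega) F₀ r hr hc P,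
    fun p R hp hq h4 hR => by
      obtain ⟨B, C⟩ := Cfsg.Lib.Linear.Orth.exists_space_plus (F := F) 3
      have h := Cfsg.Lib.Linear.Klein.Data.of_linearData (by simp) hR
      exact Cfsg.Lib.Linear.Klein.isMaximalIn_six h fun D hD =>
        Cfsg.Lib.Linear.FrameSmall.lines_maximal C (hq ▸ hp.odd_of_ne_two (by omega))
          (hq ▸ hp) h.two (Or.inr (by simp)) hD,
    fun hodd Q hQ => Cfsg.Lib.Linear.SLMax.Quad.isMaximalIn_quadratic_four hodd Q hQ,
    fun f hf => Cfsg.Lib.Linear.SLMax.Symp.isMaximalIn_symplectic _ (by omega) f hf,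
    fun σ f hf => Cfsg.Lib.Linear.SLMax.Unit.isMaximalIn_unitary _ (by omega) σ f hf⟩

end Cfsg.Agent.S5780
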