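import Cfsg.Agent.Lib.Linear.AschGen.Max

set_option autoImplicit false
open Cfsg

namespace Cfsg.Agent.S5781

/-- Every maximal subgroup of SL_4(q) is of one of the listed geometric types or lies in the residual class. Let F be a finite field with q elements and H a maximal subgroup of SL_4(F) (inside GL_4(F)). Then H is the intersection with SL_4(F) of one of: the stabiliser of a proper non-zero subspace; for q ≥ 7, the stabiliser of a decomposition into four independent lines; for q ≥ 4, the stabiliser of a decomposition into two independent planes; the normaliser of a degree-2 subfield of the matrix algebra; a subfield group for a subfield F₀ with |F| = |F₀|^r, r prime; for q = p ≡ 1 mod 4 prime, the normaliser of an absolutely irreducible 2-subgroup R of exponent 4 with centre of order 4, all of whose characteristic abelian subgroups are cyclic, of order 2^(2+2m) for some m (here |R| = 64), with 4 dividing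 p − 1; for q odd, the similarity group of a non-degenerate quadratic form; the similarity group of a non-degenerate symplectic form; the similarity group of a non-degenerate unitary form — or else H lies in the residual class of the linear case. -/
theorem result {F : Type*} [Field F] [Fintype F] (H : Subgroup (Matrix.GeneralLinearGroup (Fin 4) F)) (hH : Cfsg.Geo.IsMaximalIn (Cfsg.Geo.specialLinear (Fin 4) F) H) :
    (∃ W : Submodule F (Fin 4 → F), W ≠ ⊥ ∧ W ≠ ⊤ ∧ H = Cfsg.Geo.subspaceStabilizer W ⊓ Cfsg.Geo.specialLinear (Fin 4) F) ∨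
    (7 ≤ Fintype.card F ∧ ∃ D : Fin 4 → Submodule F (Fin 4 → F), Cfsg.Geo.IsMDecomposition 1 D ∧ H = Cfsg.Geo.decompositionStabilizer D ⊓ Cfsg.Geo.specialLinear (Fin 4) F) ∨
    (4 ≤ Fintype.card F ∧ ∃ D : Fin 2 → Submodule F (Fin 4 → F), Cfsg.Geo.IsMDecomposition 2 D ∧ H = Cfsg.Geo.decompositionStabilizer D ⊓ Cfsg.Geo.specialLinear (Fin 4) F) ∨
    (∃ K : Subalgebra F (Matrix (Fin 4) (Fin 4) F), Cfsg.Geo.IsFieldSubalgebra 2 K ∧ H = Cfsg.Geo.subalgebraNormalizer K ⊓ Cfsg.Geo.specialLinear (Fin 4) F) ∨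
    (∃ (F₀ : Subfield F) (r : ℕ) (P : Matrix.GeneralLinearGroup (Fin 4) F), r.Prime ∧ Fintype.card F = Nat.card F₀ ^ r ∧ H = Cfsg.Geo.subfieldSubgroup F₀ P ⊓ Cfsg.Geo.specialLinear (Fin 4) F) ∨
    (∃ (p : ℕ) (R : Subgroup (Matrix.GeneralLinearGroup (Fin 4) F)), p.Prime ∧ Fintype.card F = p ∧ p % 4 = 1 ∧ Cfsg.Geo.IsLinearSymplecticTypeData 2 R ∧ H = Cfsg.Geo.subgroupNormalizer R ⊓ Cfsg.Geo.specialLinear (Fin 4) F) ∨
    (Odd (Fintype.card F) ∧ ∃ Q : (Fin 4 → F) → F, Cfsg.Geo.IsNondegenerateQuadraticForm Q ∧ H = Cfsg.Geo.quadSimilarityGroup Q ⊓ Cfsg.Geo.specialLinear (Fin 4) F) ∨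
    (∃ f : (Fin 4 → F) → (Fin 4 → F) → F, Cfsg.Geo.IsSymplecticForm f ∧ H = Cfsg.Geo.similarityGroup f ⊓ Cfsg.Geo.specialLinear (Fin 4) F) ∨
    (∃ (σ : F ≃+* F) (f : (Fin 4 → F) → (Fin 4 → F) → F), Cfsg.Geo.IsUnitaryForm σ f ∧ H = Cfsg.Geo.similarityGroup f ⊓ Cfsg.Geo.specialLinear (Fin 4) F) ∨
    Cfsg.Geo.InLinearResidualClass H := by
  have hc : Fintype.card (Fin 4) = 4 := Fintype.card_fin 4
  rcases Cfsg.Lib.Linear.AschGen.linear_max hc.ge (by rw [hc]; norm_num) hH with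
    ⟨W, h0, h1, h⟩ | ⟨t, m, D, htm, hD, hq1, hq2, h⟩ | ⟨r, K, hr, hdvd, hK, h⟩ | ⟨n₁, n₂, e, P, h1, h2, hpr, hq, h⟩ |
    ⟨F₀, r, P, hr, hcF, h⟩ | ⟨r, m, R, hnr, hR, h⟩ | ⟨m, t, e, P, hm, ht, hpow, h⟩ | ⟨ho, Q, hQ, h⟩ | ⟨f, hf, h⟩ |
    ⟨σ, f, hf, h⟩ | h
  · exact Or.inl ⟨W, h0, h1, h⟩
  · rw [hc] at htm hq1 hq2
    have ht2 := hD.two_le
    have htn : t ≤ 4 := Nat.le_of_dvd (by norm_num) ⟨m, htm.symm⟩
    interval_cases t
    · obtain rfl : m = 2 := by omega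
      exact Or.inr (Or.inr (Or.inl ⟨((hq2 rfl).2 rfl), D, hD, h⟩))
    · omega
    · obtain rfl : m = 1 := by omega
      exact Or.inr (Or.inl ⟨((hq1 rfl).2 rfl), D, hD, h⟩)
  · rw [hc] at hdvd
    have hrn : r ≤ 4 := Nat.le_of_dvd (by norm_num) hdvd
    have hr2 := hr.two_le
    interval_cases r
    · exact Or.inr (Or.inr (Or.inr (Or.inl ⟨K, hK, h⟩)))
    · omega
    · exact absurd hr (by norm_num)
  · rw [hc] at hpr
    have hsq : n₁ * n₁ < 4 := hpr ▸ Nat.mul_lt_mul_of_pos_left h2 (by omega)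
    have hn1 : n₁ ≤ 3 := by nlinarith
    interval_cases n₁
    · omega
    · omega
  · exact Or.inr (Or.inr (Or.inr (Or.inr (Or.inl ⟨F₀, r, P, hr, hcF, h⟩))))
  · rw [hc] at hnr
    obtain rfl : 2 = r := (Nat.prime_dvd_prime_iff_eq Nat.prime_two hR.symplecticType.prime).1
      (Nat.prime_two.dvd_of_dvd_pow (hnr ▸ (by norm_num : 2 ∣ 4)))
    obtain ⟨p, hp, hpF, hp4⟩ := Cfsg.Lib.Linear.AschGen.six_field (by rw [hc]; norm_num) hR
    exact Or.inr (Or.inr (Or.inr (Or.inr (Or.inr (Or.inl ⟨p, R, hp, hpF, hp4, hR, h⟩)))))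
  · rw [hc] at hpow
    have hm2 : m ^ 2 ≤ 4 := hpow ▸ Nat.pow_le_pow_right (by omega) ht
    nlinarith
  · exact Or.inr (Or.inr (Or.inr (Or.inr (Or.inr (Or.inr (Or.inl ⟨ho, Q, hQ, h⟩))))))
  · exact Or.inr (Or.inr (Or.inr (Or.inr (Or.inr (Or.inr (Or.inr (Or.inl ⟨f, hf, h⟩)))))))
  · exact Or.inr (Or.inr (Or.inr (Or.inr (Or.inr (Or.inr (Or.inr (Or.inr (Or.inl ⟨σ, f, hf, h⟩))))))))
  · exact Or.inr (Or.inr (Or.inr (Or.inr (Or.inr (Or.inr (Or.inr (Or.inr (Or.inr (h)))))))))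

end Cfsg.Agent.S5781
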