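import Cfsg.Statements.S5787
import Cfsg.Agent.Lib.Linear.AschSp.Three
import Cfsg.Agent.Lib.Linear.AschSp.Max

set_option autoImplicit false
open Cfsg

namespace Cfsg.Agent.S5787

/-- Every maximal subgroup of Sp_4(q), q odd, is of one of the listed geometric types or lies in the residual class. Let F be a finite field of odd order q, f the standard alternating form on F^4 (coordinates Fin 2 ⊕ Fin 2), and H a maximal subgroup of the isometry group Sp_4(F) (inside GL_4(F)). Then H is the intersection with Sp_4(F) of one of: the stabiliser of a non-zero totally isotropic subspace; the stabiliser of a decomposition into two orthogonal non-degenerate 2-spaces; for q ≥ 5, of a decomposition into two totally isotropic 2-spaces; the normaliser of a degree-2 subfield K of the matrix algebra, self-adjoint with f(k v, v) = 0; for q ≥ 5, the normaliser of a degree-2 subfield closed under adjoints but not self-adjoint;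 a subfield group whose F₀-structure carries a non-zero multiple of f, |F| = |F₀|^r with r prime; for q = p prime, the normaliser of an absolutely irreducible symplectic-type 2-group of exponent 4, order 32, centre of order 2 and minus type inside the similarity group of f — or else H lies in the residual class of the symplectic case. -/
theorem result {F : Type*} [Field F] [Fintype F] (hodd : Odd (Fintype.card F)) (H : Subgroup (Matrix.GeneralLinearGroup (Fin 2 ⊕ Fin 2) F)) (hH : Cfsg.Geo.IsMaximalIn (Cfsg.spGL 2 F) H) :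
    (∃ W : Submodule F (Fin 2 ⊕ Fin 2 → F), W ≠ ⊥ ∧ Cfsg.Geo.IsTotallySingularFor (Cfsg.sympForm 2 F) W ∧ H = Cfsg.Geo.subspaceStabilizer W ⊓ Cfsg.spGL 2 F) ∨
    (∃ D : Fin 2 → Submodule F (Fin 2 ⊕ Fin 2 → F), Cfsg.Geo.IsNondegenerateMDecomposition (Cfsg.sympForm 2 F) 2 D ∧ H = Cfsg.Geo.decompositionStabilizer D ⊓ Cfsg.spGL 2 F) ∨
    (5 ≤ Fintype.card F ∧ ∃ D : Fin 2 → Submodule F (Fin 2 ⊕ Fin 2 → F), Cfsg.Geo.IsMDecomposition 2 D ∧ (∀ i, Cfsg.Geo.IsTotallySingularFor (Cfsg.sympForm 2 F) (D i)) ∧ H = Cfsg.Geo.decompositionStabilizer D ⊓ Cfsg.spGL 2 F) ∨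
    (∃ K : Subalgebra F (Matrix (Fin 2 ⊕ Fin 2) (Fin 2 ⊕ Fin 2) F), Cfsg.Geo.IsFieldSubalgebra 2 K ∧ Cfsg.Geo.IsSelfAdjointFor (Cfsg.sympForm 2 F) K ∧ (∀ k ∈ K, ∀ v : (Fin 2 ⊕ Fin 2 → F), (Cfsg.sympForm 2 F) (Matrix.mulVec k v) v = 0) ∧ H = Cfsg.Geo.subalgebraNormalizer K ⊓ Cfsg.spGL 2 F) ∨
    (5 ≤ Fintype.card F ∧ ∃ K : Subalgebra F (Matrix (Fin 2 ⊕ Fin 2) (Fin 2 ⊕ Fin 2) F), Cfsg.Geo.IsFieldSubalgebra 2 K ∧ Cfsg.Geo.IsAdjointClosedFor (Cfsg.sympForm 2 F) K ∧ ¬ Cfsg.Geo.IsSelfAdjointFor (Cfsg.sympForm 2 F) K ∧ H = Cfsg.Geo.subalgebraNormalizer K ⊓ Cfsg.spGL 2 F) ∨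
    (∃ (F₀ : Subfield F) (r : ℕ) (P : Matrix.GeneralLinearGroup (Fin 2 ⊕ Fin 2) F) (ζ : F), r.Prime ∧ Fintype.card F = Nat.card F₀ ^ r ∧ ζ ≠ 0 ∧ Cfsg.Geo.IsFormRationalStructure (Cfsg.sympForm 2 F) F₀ ζ P ∧ H = Cfsg.Geo.subfieldSubgroup F₀ P ⊓ Cfsg.spGL 2 F) ∨
    (∃ (p : ℕ) (R : Subgroup (Matrix.GeneralLinearGroup (Fin 2 ⊕ Fin 2) F)), p.Prime ∧ Fintype.card F = p ∧ Cfsg.Geo.IsSymplecticTypeGroup 2 R ∧ Cfsg.Geo.ActsAbsolutelyIrreducibly (Cfsg.Geo.matrixSet R) ∧ R ≤ Cfsg.Geo.similarityGroup (Cfsg.sympForm 2 F) ∧ Nat.card R = 32 ∧ Nat.card (Subgroup.center R) = 2 ∧ Cfsg.Geo.IsOfMinusType 2 R ∧ H = Cfsg.Geo.subgroupNormalizer R ⊓ Cfsg.spGL 2 F) ∨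
    Cfsg.Geo.InSymplecticResidualClass H := by
  have six : Cfsg.Lib.Linear.AschSp.SixMember H →
      ∃ (p : ℕ) (R : Subgroup (Matrix.GeneralLinearGroup (Fin 2 ⊕ Fin 2) F)), p.Prime ∧ Fintype.card F = p ∧
        Cfsg.Geo.IsSymplecticTypeGroup 2 R ∧ Cfsg.Geo.ActsAbsolutelyIrreducibly (Cfsg.Geo.matrixSet R) ∧
        R ≤ Cfsg.Geo.similarityGroup (Cfsg.sympForm 2 F) ∧ Nat.card R = 32 ∧ Nat.card (Subgroup.center R) = 2 ∧
        Cfsg.Geo.IsOfMinusType 2 R ∧ H = Cfsg.Geo.subgroupNormalizer R ⊓ Cfsg.spGL 2 F := fun h => by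
    obtain ⟨R, p, k, hR, habs, hsim, ⟨hRsp, hexp, hsq, hcs⟩, hp, hpodd, hcard, hcR, hZ, hminus, hdim, hle⟩ := h
    obtain rfl : k = 2 := Nat.pow_right_injective le_rfl (hdim.symm.trans rfl : 2 ^ k = 2 ^ 2)
    haveI : Finite R := Nat.finite_of_card_ne_zero (by rw [hcR]; norm_num)
    obtain ⟨x, hx, hxs, hx2⟩ := Cfsg.Lib.Linear.AschSp.exists_involution (by norm_num) hRsp habs
      (by rw [hcR]; norm_num) hexp hsq hcs
    exact ⟨p, R, hp, hcard, hR, habs, hsim, by rw [hcR]; norm_num, hZ, hminus,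
      Cfsg.Lib.Linear.Asch.eq_inf_of_maximal hH hle (Cfsg.Lib.Linear.AschSp.not_sp_le_normalizer
        (fun h0 => Cfsg.Lib.Linear.AschSp.not_odd_of_two_zero h0 hodd) (by norm_num) hRsp habs hexp hx hxs hx2)⟩
  cases Cfsg.Lib.Linear.AschSp.max_cases (by norm_num) hH with
  | totSing W h0 hts heq => exact Or.inl ⟨W, h0, hts, heq⟩
  | small W h0 hnd hlt he heq =>
    refine absurd ?_ h0
    rw [← Submodule.finrank_eq_zero (R := F)]
    obtain ⟨a, ha⟩ := he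
    omega
  | orth t k D hD hc he hq heq =>
    have ht := hD.decomp.two_le
    have hk := hD.decomp.pos
    obtain ⟨rfl, rfl⟩ : t = 2 ∧ k = 2 := by
      obtain ⟨a, rfl⟩ := he
      have h2t := Nat.mul_le_mul_left t (show 2 ≤ a + a by omega)
      have : t ≤ 2 := by omega
      interval_cases t <;> omega
    exact Or.inr (Or.inl ⟨D, hD, heq⟩)
  | pair D _ hD hts hq heq => exact Or.inr (Or.inr (Or.inl ⟨hq rfl, D, hD, hts, heq⟩))
  | selfField r K hr hK hsa halt hdvd heq =>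
    obtain rfl : r = 2 := (Nat.prime_dvd_prime_iff_eq hr Nat.prime_two).1 hdvd
    exact Or.inr (Or.inr (Or.inr (Or.inl ⟨K, hK, hsa, halt, heq⟩)))
  | hermField K _ hK hadj hne heq =>
    by_cases h3 : Fintype.card F = 3
    · exact Or.inr (Or.inr (Or.inr (Or.inr (Or.inr (Or.inr (Or.inl (six
        (Cfsg.Lib.Linear.AschSp.herm_four_three h3 hH.1.le hK hadj hne (heq.le.trans inf_le_left)))))))))
    · exact Or.inr (Or.inr (Or.inr (Or.inr (Or.inl ⟨Cfsg.Lib.Linear.AschSp.five_le_card hodd h3, K, hK, hadj, hne, heq⟩))))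
  | tensor _ n₁ n₂ e P f₁ f₂ h₁ he h₂ hc hq hf₁ hf₂ hst heq =>
    have h2t := Nat.mul_le_mul h₁ h₂
    omega
  | power h => exact Cfsg.Lib.Linear.AschSp.MaxCases.power_elim h (Cfsg.Lib.Linear.AschSp.pow_ne_of_lt (by norm_num) (by norm_num) (by norm_num))
  | subfld F₁ r P ζ hr hcard hζ hP heq => exact Or.inr (Or.inr (Or.inr (Or.inr (Or.inr (Or.inl ⟨F₁, r, P, ζ, hr, hcard, hζ, hP, heq⟩)))))
  | six R p k hR habs hsim hp _ hcard hcR hZ hminus hdim heq =>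
    obtain rfl : k = 2 := Nat.pow_right_injective le_rfl (hdim.symm.trans rfl : 2 ^ k = 2 ^ 2)
    exact Or.inr (Or.inr (Or.inr (Or.inr (Or.inr (Or.inr (Or.inl
      ⟨p, R, hp, hcard, hR, habs, hsim, by rw [hcR]; norm_num, hZ, hminus, heq⟩))))))
  | quad heven Q hQ hpol heq => exact absurd hodd heven
  | residual h => exact Or.inr (Or.inr (Or.inr (Or.inr (Or.inr (Or.inr (Or.inr h))))))

end Cfsg.Agent.S5787
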