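import Cfsg.Statements.S5789
import Cfsg.Agent.Lib.Linear.TransvX.FourQuad
import Cfsg.Agent.Lib.Linear.TransvX.FourField
import Cfsg.Agent.Lib.Linear.TransvX.FourRat
import Cfsg.Agent.Lib.Linear.OverfieldAlg
import Cfsg.Agent.Lib.Linear.SubfieldBasic

set_option autoImplicit false
open Cfsg

namespace Cfsg.Agent.S5789

open scoped Matrix
open Cfsg.Lib.Linear Cfsg.Lib.Linear.TransvX
open Cfsg.Lib.Linear.Orth (gl_ext mul_act inv_act act_inv mat_ext)
open Cfsg.Lib.Linear.Symp (spB spB_apply spB_isAlt spB_nondegenerate)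

variable {F : Type*} [Field F] [CharP F 2]

local notation "ι4" => Fin 2 ⊕ Fin 2
local notation "B4" => spB 2 F

omit [CharP F 2] in
theorem sympl : Sympl B4 := ⟨(spB_isAlt 2 F).self_eq_zero, (spB_nondegenerate 2 F).2⟩

omit [CharP F 2] in
theorem mem_spGL (g : GL ι4 F) : g ∈ Cfsg.spGL 2 F ↔ Pres B4 g := by
  refine forall₂_congr fun u v => ?_
  simp only [spB_apply]
  rfl

omit [CharP F 2] in
theorem isMax {H : Subgroup (GL ι4 F)} (hne : ∃ g, Pres B4 g ∧ g ∉ H)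
    (h : ∀ M : Subgroup (GL ι4 F), (∀ g ∈ M, Pres B4 g) → (∀ g, Pres B4 g → g ∈ H → g ∈ M) →
      (∀ g ∈ M, g ∈ H) ∨ ∀ g, Pres B4 g → g ∈ M) :
    Cfsg.Geo.IsMaximalIn (Cfsg.spGL 2 F) (H ⊓ Cfsg.spGL 2 F) := by
  obtain ⟨g, hg, hgH⟩ := hne
  refine ⟨lt_of_le_of_ne inf_le_right fun e => hgH ?_, fun M h1 h2 => ?_⟩
  · have : g ∈ H ⊓ Cfsg.spGL 2 F := by rw [e]; exact (mem_spGL g).2 hg
    exact this.1
  rcases h M (fun x hx => (mem_spGL x).1 (h2 hx)) (fun x hx hxH => h1 ⟨hxH, (mem_spGL x).2 hx⟩) with h | h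
  · exact Or.inl (le_antisymm (fun x hx => ⟨h x hx, h2 hx⟩) h1)
  · exact Or.inr (le_antisymm h2 fun x hx => h x ((mem_spGL x).1 hx))

/-- A transvection is an isometry. -/
theorem pres_long (z : ι4 → F) (c : F) : Pres B4 (el B4 z 0 c) := el_preserves sympl (map_zero _) c

theorem exists_val {v : ι4 → F} (hv : v ≠ 0) : ∃ u, B4 v u = 1 := by
  obtain ⟨x, -, hx⟩ := exists_sep (B := B4) sympl (d := 0) (u := v) (fun c => by simpa using hv)
  exact ⟨x, hx⟩

omit [CharP F 2] in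
theorem four : Fintype.card ι4 = 4 := rfl

theorem decomp_max [Fintype F] (D : Fin 2 → Submodule F (ι4 → F))
    (hD : Cfsg.Geo.IsNondegenerateMDecomposition (Cfsg.sympForm 2 F) 2 D) :
    Cfsg.Geo.IsMaximalIn (Cfsg.spGL 2 F) (Cfsg.Geo.decompositionStabilizer D ⊓ Cfsg.spGL 2 F) := by
  classical
  have S : Sympl B4 := sympl
  have hperp : ∀ i j, i ≠ j → ∀ u ∈ D i, ∀ v ∈ D j, B4 u v = 0 := fun i j hij u hu v hv => by
    rw [spB_apply]; exact hD.orthogonal i j hij u hu v hv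
  have hne : ∀ i, ∀ w ∈ D i, w ≠ 0 → ∃ x ∈ D i, B4 w x ≠ 0 := fun i w hw hw0 => by
    obtain ⟨x, hx, h⟩ := (hD.nondegenerate i w hw hw0).2
    exact ⟨x, hx, by rwa [spB_apply]⟩
  have hsup : ∀ v, ∃ x ∈ D 0, ∃ y ∈ D 1, x + y = v := fun v => Submodule.mem_sup.1 (by
    have h : iSup D = D 0 ⊔ D 1 := le_antisymm (iSup_le fun i => by fin_cases i <;> simp)
      (sup_le (le_iSup D 0) (le_iSup D 1))
    rw [← h, hD.decomp.iSup_eq_top]
    exact Submodule.mem_top)
  have hmap : ∀ (g : GL ι4 F) i j, (∀ x ∈ D i, g.val *ᵥ x ∈ D j) →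
      (D i).map (Matrix.toLin' (g : Matrix ι4 ι4 F)) = D j := fun g i j h => by
    refine Submodule.eq_of_le_of_finrank_eq ?_ ?_
    · rintro _ ⟨x, hx, rfl⟩
      rw [Matrix.toLin'_apply]
      exact h x hx
    · have hi : Function.Injective (Matrix.toLin' (g : Matrix ι4 ι4 F)) := fun a b h => by
        rw [Matrix.toLin'_apply, Matrix.toLin'_apply] at h
        exact Orth.act_injective g h
      rw [hD.decomp.finrank_eq j]
      exact (Submodule.equivMapOfInjective _ hi (D i)).finrank_eq.symm.trans (hD.decomp.finrank_eq i)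
  have hlong : ∀ i, ∀ v ∈ D i, ∀ c, el B4 v 0 c ∈ Cfsg.Geo.decompositionStabilizer D := fun i v hv c => by
    refine ⟨1, fun j => hmap _ _ _ fun x hx => ?_⟩
    rw [long_act S]
    rcases eq_or_ne i j with rfl | hij
    · exact add_mem hx (Submodule.smul_mem _ _ hv)
    · rw [hperp i j hij v hv x hx, mul_zero, zero_smul, add_zero]
      exact hx
  obtain ⟨d₀, hd₀, hd₀0⟩ : ∃ d ∈ D 0, d ≠ 0 := Submodule.exists_mem_ne_zero_of_ne_bot fun e => by
    have := hD.decomp.finrank_eq 0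
    rw [e, finrank_bot] at this
    omega
  obtain ⟨d₁, hd₁, hd₁0⟩ : ∃ d ∈ D 1, d ≠ 0 := Submodule.exists_mem_ne_zero_of_ne_bot fun e => by
    have := hD.decomp.finrank_eq 1
    rw [e, finrank_bot] at this
    omega
  have hdisj : ∀ i j, i ≠ j → ∀ v, v ∈ D i → v ∈ D j → v = 0 := fun i j hij v hi hj => by
    by_contra hv
    obtain ⟨x, hx, h⟩ := hne i v hi hv
    exact h (hperp j i hij.symm v hj x hx)
  refine isMax ⟨el B4 (d₀ + d₁) 0 1, pres_long _ _, ?_⟩ ?_
  · rintro ⟨σ, hσ⟩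
    obtain ⟨x, hx, h⟩ := hne 0 d₀ hd₀ hd₀0
    have hmem : (el B4 (d₀ + d₁) 0 (1 : F)).val *ᵥ x ∈ D (σ 0) := by
      rw [← hσ 0]
      exact ⟨x, hx, by rw [Matrix.toLin'_apply]⟩
    rw [long_act S, one_mul, map_add, LinearMap.add_apply, hperp 1 0 (by decide) d₁ hd₁ x hx, add_zero,
      smul_add, ← add_assoc] at hmem
    rcases (show σ 0 = 0 ∨ σ 0 = 1 by omega) with e | e <;> rw [e] at hmem
    · have h1 : B4 d₀ x • d₁ ∈ D 0 := by
        have := sub_mem hmem (add_mem hx (Submodule.smul_mem _ (B4 d₀ x) hd₀))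
        rwa [add_sub_cancel_left] at this
      exact smul_ne_zero h hd₁0 (hdisj 0 1 (by decide) _ h1 (Submodule.smul_mem _ _ hd₁))
    · have h1 : x + B4 d₀ x • d₀ ∈ D 1 := by
        have := sub_mem hmem (Submodule.smul_mem _ (B4 d₀ x) hd₁)
        rwa [add_sub_cancel_right] at this
      have h2 := hdisj 0 1 (by decide) _ (add_mem hx (Submodule.smul_mem _ _ hd₀)) h1
      have h3 := congrArg (B4 d₀) h2
      simp [S.self] at h3
      exact h h3
  intro M hM hHM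
  by_cases hperm : ∀ g ∈ M, ∀ i, ∀ d ∈ D i, g.val *ᵥ d ∈ D 0 ∨ g.val *ᵥ d ∈ D 1
  · refine Or.inl fun g hg => ?_
    have hj : ∀ i, ∃ j, ∀ d ∈ D i, g.val *ᵥ d ∈ D j := fun i => by
      by_contra hno
      push Not at hno
      obtain ⟨x, hx, hx'⟩ := hno 0
      obtain ⟨y, hy, hy'⟩ := hno 1
      have h1 := (hperm g hg i x hx).resolve_left hx'
      have h2 := (hperm g hg i y hy).resolve_right hy'
      rcases hperm g hg i (x + y) (add_mem hx hy) with h | h <;> rw [Matrix.mulVec_add] at h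
      · exact hx' (by simpa using sub_mem h h2)
      · exact hy' (by simpa using sub_mem h h1)
    choose σ hσ using hj
    have hinj : Function.Injective σ := fun i j e => by
      by_contra hij
      obtain ⟨x, hx, hx0⟩ : ∃ d ∈ D i, d ≠ 0 := Submodule.exists_mem_ne_zero_of_ne_bot fun e => by
        have := hD.decomp.finrank_eq i
        rw [e, finrank_bot] at this
        omega
      have h1 : g.val *ᵥ x ∈ (D i).map (Matrix.toLin' (g : Matrix ι4 ι4 F)) :=
        ⟨x, hx, by rw [Matrix.toLin'_apply]⟩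
      rw [hmap g i (σ i) (hσ i), e, ← hmap g j (σ j) (hσ j)] at h1
      obtain ⟨y, hy, hyx⟩ := h1
      rw [Matrix.toLin'_apply] at hyx
      rw [Orth.act_injective g hyx] at hy
      exact hx0 (hdisj i j hij x hx hy)
    exact ⟨Equiv.ofBijective σ (Finite.injective_iff_bijective.1 hinj), fun i => hmap g i _ (hσ i)⟩
  push Not at hperm
  obtain ⟨g, hg, i, d, hd, hd0', hd1'⟩ := hperm
  refine Or.inr fun k hk => pres_mem_of_transvections S ?_ hk
  let Z : Set (ι4 → F) := {v | ∀ c, el B4 v 0 c ∈ M}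
  have hmove : ∀ {k : GL ι4 F}, k ∈ M → ∀ {v}, v ∈ Z → k.val *ᵥ v ∈ Z := fun hk v hv c => by
    simpa using Pres.conj_el S (hM _ hk) hk (map_zero _) (hv c)
  have hDZ : ∀ i, ∀ v ∈ D i, v ∈ Z := fun i v hv c => hHM _ (pres_long _ _) (hlong i v hv c)
  obtain ⟨x₀, hx₀, y₀, hy₀, hxy⟩ := hsup (g.val *ᵥ d)
  have hx00 : x₀ ≠ 0 := fun e => hd1' (by rw [← hxy, e, zero_add]; exact hy₀)
  have hy00 : y₀ ≠ 0 := fun e => hd0' (by rw [← hxy, e, add_zero]; exact hx₀)
  have hz : x₀ + y₀ ∈ Z := hxy ▸ hmove hg (hDZ i d hd)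
  -- moving one component
  have step : ∀ i j, i ≠ j → ∀ x ∈ D i, ∀ x' ∈ D i, ∀ y ∈ D j, x ≠ 0 → x' ≠ 0 → x + y ∈ Z → x' + y ∈ Z := by
    intro i j hij x hx x' hx' y hy hx0 hx'0 h
    have one : ∀ u ∈ D i, ∀ w ∈ D i, B4 u w ≠ 0 → u + y ∈ Z → w + y ∈ Z := fun u hu w hw hne h => by
      have := hmove (hDZ i (u + w) (add_mem hu hw) (B4 u w)⁻¹) h
      rw [long_act S, map_add, map_add, LinearMap.add_apply, LinearMap.add_apply, S.self,
        S.symm w u, hperp i j hij u hu y hy, hperp i j hij w hw y hy, zero_add, add_zero, add_zero,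
        inv_mul_cancel₀ hne, one_smul, add_right_comm, ← add_assoc u u w, vadd_self, zero_add] at this
      exact this
    obtain ⟨z₁, hz₁, h1⟩ := hne i x hx hx0
    obtain ⟨z₂, hz₂, h2⟩ := hne i x' hx' hx'0
    obtain ⟨z, hz, hxz, hx'z⟩ : ∃ z ∈ D i, B4 x z ≠ 0 ∧ B4 x' z ≠ 0 := by
      by_cases h1' : B4 x' z₁ = 0
      · by_cases h2' : B4 x z₂ = 0
        · exact ⟨_, add_mem hz₁ hz₂, by simpa [h2'] using h1, by simpa [h1'] using h2⟩
        · exact ⟨z₂, hz₂, h2', h2⟩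
      · exact ⟨z₁, hz₁, h1, h1'⟩
    exact one z hz x' hx' (by rwa [S.symm]) (one x hx z hz hxz h)
  intro z c
  obtain ⟨x, hx, y, hy, rfl⟩ := hsup z
  by_cases hx0 : x = 0
  · rw [hx0, zero_add]; exact hDZ 1 y hy c
  by_cases hy0 : y = 0
  · rw [hy0, add_zero]; exact hDZ 0 x hx c
  have h1 := step 0 1 (by decide) x₀ hx₀ x hx y₀ hy₀ hx00 hx0 hz
  rw [add_comm] at h1
  have h2 := step 1 0 (by decide) y₀ hy₀ y hy x hx hy00 hy0 h1
  rw [add_comm] at h2
  exact h2 c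

theorem field_max [Fintype F] (h4 : 4 ≤ Fintype.card F) (K : Subalgebra F (Matrix ι4 ι4 F))
    (hK : Cfsg.Geo.IsFieldSubalgebra 2 K) (hsa : Cfsg.Geo.IsSelfAdjointFor (Cfsg.sympForm 2 F) K)
    (halt : ∀ k ∈ K, ∀ v : ι4 → F, Cfsg.sympForm 2 F (k *ᵥ v) v = 0) :
    Cfsg.Geo.IsMaximalIn (Cfsg.spGL 2 F) (Cfsg.Geo.subalgebraNormalizer K ⊓ Cfsg.spGL 2 F) := by
  classical
  have S : Sympl B4 := sympl
  obtain ⟨T, t, N, hTK, hmem, hTT, -, hfree⟩ := exists_quad_gen K hK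
  have KK : KOp B4 T t N := by
    refine ⟨S, four, fun v => ?_, fun u v => by rw [spB_apply, spB_apply]; exact hsa T hTK u v,
      fun v => by rw [S.symm, spB_apply]; exact halt T hTK v, hfree⟩
    rw [Matrix.mulVec_mulVec, hTT, CharTwo.sub_eq_add, Matrix.add_mulVec, Matrix.smul_mulVec, Matrix.smul_mulVec,
      Matrix.one_mulVec]
  have hnorm : ∀ g : GL ι4 F, (∀ h : GL ι4 F, h = g ∨ h = g⁻¹ → ∃ α β : F, ∀ x,
      (h⁻¹ : GL ι4 F).val *ᵥ (T *ᵥ (h.val *ᵥ x)) = α • x + β • T *ᵥ x) →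
      g ∈ Cfsg.Geo.subalgebraNormalizer K := by
    intro g hg
    have key : ∀ h : GL ι4 F, h = g ∨ h = g⁻¹ → ∀ k ∈ K, (h⁻¹ : GL ι4 F).val * k * h.val ∈ K := by
      intro h hh k hk
      obtain ⟨α, β, hab⟩ := hg h hh
      have e : (h⁻¹ : GL ι4 F).val * T * h.val = α • 1 + β • T := mat_ext fun x => by
        rw [← Matrix.mulVec_mulVec, ← Matrix.mulVec_mulVec, hab, Matrix.add_mulVec, Matrix.smul_mulVec,
          Matrix.smul_mulVec, Matrix.one_mulVec]
      obtain ⟨a, b, rfl⟩ := (hmem k).1 hk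
      rw [mul_add, add_mul, Matrix.mul_smul, Matrix.smul_mul, Matrix.mul_smul, Matrix.smul_mul, e, mul_one,
        ← Units.val_mul, inv_mul_cancel, Units.val_one]
      exact K.add_mem (K.smul_mem K.one_mem a)
        (K.smul_mem (K.add_mem (K.smul_mem K.one_mem α) (K.smul_mem hTK β)) b)
    intro k
    refine ⟨fun hk => ?_, fun hk => ?_⟩
    · simpa using key g⁻¹ (Or.inr rfl) k hk
    · have := key g (Or.inl rfl) _ hk
      simpa [mul_assoc] using this
  haveI : Nonempty ι4 := ⟨Sum.inl 0⟩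
  set a : ι4 → F := Pi.single (Sum.inl 0) 1
  have ha : a ≠ 0 := by simp [a]
  refine isMax ⟨el B4 a 0 1, pres_long _ _, fun hg => ?_⟩ ?_
  · obtain ⟨α, β, hab⟩ := (hmem _).1 ((hg T).1 hTK)
    set g := el B4 a 0 (1 : F)
    have he : ∀ x, g.val *ᵥ (T *ᵥ x) = α • g.val *ᵥ x + β • T *ᵥ (g.val *ᵥ x) := fun x => by
      have := congrArg (fun A => A *ᵥ (g.val *ᵥ x)) hab
      simp only [← Matrix.mulVec_mulVec, Matrix.add_mulVec, Matrix.smul_mulVec, Matrix.one_mulVec, inv_act] at this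
      exact this
    obtain ⟨b, f, hab', hbe, haf, hef, -⟩ := exists_four S four ha (KK.line a) (KK.indep ha).1
    have hfixA : g.val *ᵥ a = a := el_fix_vec S (map_zero _) _ (S.self a) (by simp)
    have hTa : g.val *ᵥ (T *ᵥ a) = T *ᵥ a := el_fix_vec S (map_zero _) _ (KK.line a) (by simp)
    have h1 := he a
    rw [hfixA, hTa] at h1
    have hα : α = 0 := by
      have := congrArg (B4 b) h1
      simpa [S.symm b a, hab', hbe] using this.symm
    have hβ : β = 1 := by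
      have := congrArg (B4 f) h1
      simpa [hα, S.symm f a, haf, S.symm f (T *ᵥ a), hef] using this.symm
    have h2 := congrArg (B4 b) (he f)
    simp only [g, long_act S, hα, hβ, zero_smul, zero_add, one_smul, one_mul, Matrix.mulVec_add,
      Matrix.mulVec_smul, map_add, map_smul, smul_eq_mul, haf, ← KK.adj a f, hef, S.symm b a, hab'] at h2
    simp at h2
  intro M hM hHM
  have hB : KK.Below M := fun v s => hHM _ (KK.el_pres v s) (by
    refine hnorm _ fun h hh => ⟨0, 1, fun x => ?_⟩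
    have hinv : (el B4 v (s • T *ᵥ v) (s * t))⁻¹ = el B4 v (s • T *ᵥ v) (s * t) :=
      inv_eq_of_mul_eq_one_right (el_sq S (by simp [KK.line]) _)
    have hh' : h = el B4 v (s • T *ᵥ v) (s * t) := hh.elim id fun e => e.trans hinv
    subst hh'
    rw [← KK.el_comm, inv_act, zero_smul, zero_add, one_smul])
  rcases KK.dichotomy hM hB (by omega) with h | h
  · exact Or.inl fun g hg => hnorm g fun k hk =>
      hk.elim (fun e => e ▸ h g hg) (fun e => e ▸ h g⁻¹ (inv_mem hg))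
  · exact Or.inr h

theorem rat_max [Fintype F] (F₀ : Subfield F) (r : ℕ) (P : GL ι4 F) (ζ : F) (hr : r.Prime)
    (hcard : Fintype.card F = Nat.card F₀ ^ r) (hζ : ζ ≠ 0)
    (hP : Cfsg.Geo.IsFormRationalStructure (Cfsg.sympForm 2 F) F₀ ζ P) :
    Cfsg.Geo.IsMaximalIn (Cfsg.spGL 2 F) (Cfsg.Geo.subfieldSubgroup F₀ P ⊓ Cfsg.spGL 2 F) := by
  classical
  set B' := ζ • B4 with hB'
  have hval : ∀ u v, B' u v = ζ * B4 u v := fun u v => rfl
  have hpres : ∀ g, Pres B' g ↔ Pres B4 g := fun g =>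
    ⟨fun h u v => mul_left_cancel₀ hζ (by rw [← hval, ← hval]; exact h u v),
      fun h u v => by rw [hval, hval, h u v]⟩
  let R : Set (ι4 → F) := Set.range fun x : ι4 → F₀ => P.val *ᵥ Rat0.rv F₀ x
  have hsub : ∀ g : GL ι4 F, g ∈ Cfsg.Geo.subfieldSubgroup F₀ P ↔ Rat0.RatG F₀ (P⁻¹ * g * P) := by
    intro g
    rw [← Rat0.mem_subfieldSubgroup_one, Cfsg.Geo.subfieldSubgroup, Cfsg.Geo.subfieldSubgroup, Subgroup.mem_map,
      Subgroup.mem_map]
    constructor
    · rintro ⟨x, hx, rfl⟩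
      exact ⟨x, hx, by simp [mul_assoc]⟩
    · rintro ⟨x, hx, hxe⟩
      refine ⟨x, hx, ?_⟩
      simp at hxe ⊢
      rw [hxe]
      group
  have S : RStr B' F₀ R := by
    refine ⟨⟨fun v => by rw [hval, (sympl (F := F)).self, mul_zero], fun v hv => (sympl (F := F)).nondeg v fun u =>
        (mul_eq_zero.1 (hv u)).resolve_left hζ⟩, four, ⟨0, ?_⟩, ?_, ?_, ?_, ?_⟩
    · show P.val *ᵥ Rat0.rv F₀ (0 : ι4 → F₀) = 0
      rw [show Rat0.rv F₀ (0 : ι4 → F₀) = 0 from funext fun _ => rfl, Matrix.mulVec_zero]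
    · rintro _ ⟨x, rfl⟩ _ ⟨y, rfl⟩
      exact ⟨x + y, by show P.val *ᵥ Rat0.rv F₀ (x + y) = _; rw [Rat0.rv_add, Matrix.mulVec_add]⟩
    · rintro c hc _ ⟨x, rfl⟩
      exact ⟨(⟨c, hc⟩ : F₀) • x, by
        show P.val *ᵥ Rat0.rv F₀ ((⟨c, hc⟩ : F₀) • x) = _
        rw [Rat0.rv_smul, Matrix.mulVec_smul]⟩
    · rintro _ ⟨x, rfl⟩ _ ⟨y, rfl⟩
      rw [hval, spB_apply]
      exact hP _ _ (fun i => (x i).2) (fun i => (y i).2)
    · intro w hw
      by_contra hno
      push Not at hno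
      have hz : ∀ u, B' w u = 0 := fun u => by
        have hlin : (B' w).comp (Matrix.toLin' P.val) = 0 := by
          refine (Pi.basisFun F ι4).ext fun i => ?_
          rw [Pi.basisFun_apply, LinearMap.comp_apply, Matrix.toLin'_apply, LinearMap.zero_apply,
            ← Rat0.rv_single F₀ i]
          exact hno _ ⟨Pi.single i 1, rfl⟩
        have := LinearMap.congr_fun hlin ((P⁻¹ : GL ι4 F).val *ᵥ u)
        rwa [LinearMap.comp_apply, Matrix.toLin'_apply, act_inv] at this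
      obtain ⟨u, hu⟩ := exists_val (F := F) hw
      have := hz u
      rw [hval, hu, mul_one] at this
      exact hζ this
  have hin : ∀ g : GL ι4 F, (∀ u ∈ R, g.val *ᵥ u ∈ R) → g ∈ Cfsg.Geo.subfieldSubgroup F₀ P := fun g h => by
    rw [hsub]
    refine ⟨1, one_ne_zero, fun i j => ?_⟩
    obtain ⟨y, hy⟩ := h _ ⟨Pi.single j 1, rfl⟩
    have e : (P⁻¹ * g * P).val *ᵥ Pi.single j 1 = Rat0.rv F₀ y := by
      rw [← Rat0.rv_single F₀ j, mul_act, mul_act]
      exact (congrArg ((P⁻¹ : GL ι4 F).val *ᵥ ·) hy.symm).trans (inv_act P _)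
    rw [one_mul, ← show ((P⁻¹ * g * P).val *ᵥ Pi.single j 1) i = (P⁻¹ * g * P).val i j by
      rw [Matrix.mulVec_single_one]; rfl, e]
    exact (y i).2
  haveI : Nonempty ι4 := ⟨Sum.inl 0⟩
  set x : ι4 → F := P.val *ᵥ Rat0.rv F₀ (Pi.single (Sum.inl 0) 1)
  have hx : x ∈ R := ⟨_, rfl⟩
  have hx0 : x ≠ 0 := Orth.act_ne_zero (by rw [Rat0.rv_single]; simp)
  have hne : ∃ t : F, t ∉ F₀ := by
    by_contra h
    push Not at h
    have e : Nat.card F₀ = Fintype.card F := by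
      rw [← Nat.card_eq_fintype_card]
      exact Nat.card_congr (Equiv.subtypeUnivEquiv h)
    rw [e] at hcard
    exact hr.one_lt.ne (Nat.pow_right_injective Fintype.one_lt_card (by simpa using hcard))
  obtain ⟨t, ht⟩ := hne
  refine isMax ⟨el B' x 0 t, (hpres _).1 (el_preserves S.sympl (map_zero _) t), fun hg => ?_⟩ ?_
  · obtain ⟨c, hc, hcg⟩ := (hsub _).1 hg
    set g := el B' x 0 t
    have hcR : ∀ u ∈ R, c • g.val *ᵥ u ∈ R := by
      rintro _ ⟨u, rfl⟩
      refine ⟨Matrix.of (fun i j => (⟨_, hcg i j⟩ : F₀)) *ᵥ u, ?_⟩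
      show P.val *ᵥ Rat0.rv F₀ _ = _
      have : Rat0.rv F₀ (Matrix.of (fun i j => (⟨_, hcg i j⟩ : F₀)) *ᵥ u) =
          (c • (P⁻¹ * g * P).val) *ᵥ Rat0.rv F₀ u := by
        funext i
        exact RingHom.map_mulVec F₀.subtype _ u i
      rw [this, Matrix.smul_mulVec, Matrix.mulVec_smul, mul_act, mul_act, act_inv]
    obtain ⟨y, hy, hxy⟩ := exists_rat_dual S hx hx0
    have h1 := S.val _ (hcR x hx) y hy
    have h2 := S.val _ (hcR y hy) y hy
    rw [long_act S.sympl] at h2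
    simp only [map_smul, LinearMap.smul_apply, smul_eq_mul, map_add, LinearMap.add_apply, hxy, S.sympl.self,
      zero_add, mul_one] at h2
    rw [long_act S.sympl, S.sympl.self, mul_zero, zero_smul, add_zero, map_smul, LinearMap.smul_apply, smul_eq_mul,
      hxy, mul_one] at h1
    refine ht ?_
    have := F₀.mul_mem (F₀.inv_mem h1) h2
    rwa [← mul_assoc, inv_mul_cancel₀ hc, one_mul] at this
  intro M hM hHM
  have hB : RBelow B' F₀ R M := by
    refine ⟨fun g hg => (hpres g).2 (hM g hg), fun a ha v hv s hs hav => ?_⟩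
    refine hHM _ ((hpres _).1 (el_preserves S.sympl hav s)) (hin _ fun u hu => ?_)
    rw [el_act S.sympl hav]
    exact S.add _ (S.add _ hu _ (S.smul _ (S.val a ha u hu) v hv)) _
      (S.smul _ (F₀.add_mem (S.val v hv u hu) (F₀.mul_mem hs (S.val a ha u hu))) a ha)
  rcases rat_overgroup S hB hr (by rw [Nat.card_eq_fintype_card, hcard]) with h | h
  · exact Or.inl fun g hg => hin g (h g hg)
  · exact Or.inr fun g hg => h g ((hpres g).2 hg)

theorem quad_max [Fintype F] (h4 : 4 ≤ Fintype.card F) (Q : (ι4 → F) → F)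
    (hQ : Cfsg.Geo.IsNondegenerateQuadraticForm Q)
    (hpol : ∀ u v, QuadraticMap.polar Q u v = Cfsg.sympForm 2 F u v) :
    Cfsg.Geo.IsMaximalIn (Cfsg.spGL 2 F) (Cfsg.Geo.quadSimilarityGroup Q ⊓ Cfsg.spGL 2 F) := by
  classical
  have S : Sympl B4 := sympl
  have C : Orth.Space Q B4 := ⟨hQ.smul, fun u v => by rw [spB_apply, hpol], S.nondeg⟩
  obtain ⟨a, ha, hQa⟩ : ∃ a, a ≠ 0 ∧ Q a = 0 := by
    set x : ι4 → F := Pi.single (Sum.inl 0) 1
    have hx : x ≠ 0 := by simp [x]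
    by_cases hQx : Q x = 0
    · exact ⟨x, hx, hQx⟩
    obtain ⟨b, hb⟩ := exists_val (F := F) hx
    obtain ⟨y, hy, hy0⟩ := exists_W_ne S hb (by rw [four]; norm_num)
    by_cases hQy : Q y = 0
    · exact ⟨y, hy0, hQy⟩
    obtain ⟨s, hs⟩ := Orth.exists_sqrt_two (CharTwo.two_eq_zero (R := F)) (Q x / Q y)
    refine ⟨x + s • y, fun e => ?_, ?_⟩
    · have := congrArg (B4 b) e
      simp [S.symm b x, hb, hy.2] at this
    · rw [C.add, C.smul, hs, map_smul, hy.1, smul_zero, div_mul_cancel₀ _ hQy, add_zero, CharTwo.add_self_eq_zero]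
  have hsim : ∀ g, Pres B4 g → g ∈ Cfsg.Geo.quadSimilarityGroup Q → g ∈ isometryGroup F Q := by
    rintro g hg ⟨c, hc⟩
    obtain ⟨b, hb⟩ := exists_val (F := F) ha
    have h1 := hg a b
    have e := hc (a + b)
    rw [Matrix.mulVec_add, C.add, C.add, hc, hc, h1, hb] at e
    have hc1 : (c : F) = 1 := by linear_combination -e
    exact Orth.mem_iso.2 fun v => by rw [hc, hc1, one_mul]
  refine isMax ⟨el B4 a 0 1, pres_long _ _, fun hg => ?_⟩ ?_
  · obtain ⟨b, hb⟩ := exists_val (F := F) ha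
    have := Orth.mem_iso.1 (hsim _ (pres_long _ _) hg) b
    rw [long_act S, C.add, C.smul, hQa, hb, map_smul, smul_eq_mul, S.symm b a, hb] at this
    simp at this
  intro M hM hHM
  rcases quad_overgroup C four (by omega) hM (fun g hg => hHM g (C.B_act hg)
      ⟨1, fun v => by rw [Orth.mem_iso.1 hg, Units.val_one, one_mul]⟩) ha hQa with h | h
  · exact Or.inl fun g hg => ⟨1, fun v => by rw [Orth.mem_iso.1 (h g hg), Units.val_one, one_mul]⟩
  · exact Or.inr h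

/-- Maximal subgroups of Sp_4(q) of geometric type, q ≥ 4 even. Let F be a finite field of even order q ≥ 4, f the standard alternating form on F^4 (coordinates Fin 2 ⊕ Fin 2) and Sp_4(F) its isometry group inside GL_4(F). Each of the following, intersected with Sp_4(F), is a maximal subgroup of Sp_4(F): (1) the stabiliser of any non-zero totally isotropic subspace (totally isotropic 1-spaces and 2-spaces); (2) the stabiliser of any decomposition of F^4 into two mutually orthogonal non-degenerate 2-spaces; (3) the normaliser of any degree-2 subfield K of the matrix algebra whose elements are self-adjoint for f with f(k v, v) = 0 for all k in K and all v; (4) every subfield group for a subfield F₀ with |F| = |F₀|^r, r prime, whose F₀-structure carries a non-zero scalar multiple of f; (5) the similarity group of any non-degenerate quadratic form whose polar form is f (either Witt type); its intersection with Sp_4(F) is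 the orthogonal group of that form. -/
theorem result {F : Type*} [Field F] [Fintype F] (heven : ¬ Odd (Fintype.card F)) (h4 : 4 ≤ Fintype.card F) :
    (∀ W : Submodule F (Fin 2 ⊕ Fin 2 → F), W ≠ ⊥ → Cfsg.Geo.IsTotallySingularFor (Cfsg.sympForm 2 F) W → Cfsg.Geo.IsMaximalIn (Cfsg.spGL 2 F) (Cfsg.Geo.subspaceStabilizer W ⊓ Cfsg.spGL 2 F)) ∧
    (∀ D : Fin 2 → Submodule F (Fin 2 ⊕ Fin 2 → F), Cfsg.Geo.IsNondegenerateMDecomposition (Cfsg.sympForm 2 F) 2 D → Cfsg.Geo.IsMaximalIn (Cfsg.spGL 2 F) (Cfsg.Geo.decompositionStabilizer D ⊓ Cfsg.spGL 2 F)) ∧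
    (∀ K : Subalgebra F (Matrix (Fin 2 ⊕ Fin 2) (Fin 2 ⊕ Fin 2) F), Cfsg.Geo.IsFieldSubalgebra 2 K → Cfsg.Geo.IsSelfAdjointFor (Cfsg.sympForm 2 F) K → (∀ k ∈ K, ∀ v : (Fin 2 ⊕ Fin 2 → F), (Cfsg.sympForm 2 F) (Matrix.mulVec k v) v = 0) → Cfsg.Geo.IsMaximalIn (Cfsg.spGL 2 F) (Cfsg.Geo.subalgebraNormalizer K ⊓ Cfsg.spGL 2 F)) ∧
    (∀ (F₀ : Subfield F) (r : ℕ) (P : Matrix.GeneralLinearGroup (Fin 2 ⊕ Fin 2) F) (ζ : F), r.Prime → Fintype.card F = Nat.card F₀ ^ r → ζ ≠ 0 → Cfsg.Geo.IsFormRationalStructure (Cfsg.sympForm 2 F) F₀ ζ P → Cfsg.Geo.IsMaximalIn (Cfsg.spGL 2 F) (Cfsg.Geo.subfieldSubgroup F₀ P ⊓ Cfsg.spGL 2 F)) ∧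
    (∀ Q : (Fin 2 ⊕ Fin 2 → F) → F, Cfsg.Geo.IsNondegenerateQuadraticForm Q → (∀ u v : (Fin 2 ⊕ Fin 2 → F), QuadraticMap.polar Q u v = (Cfsg.sympForm 2 F) u v) → Cfsg.Geo.IsMaximalIn (Cfsg.spGL 2 F) (Cfsg.Geo.quadSimilarityGroup Q ⊓ Cfsg.spGL 2 F)) := by
  classical
  haveI : CharP F 2 := by
    refine ringChar.of_eq ?_
    by_contra hne
    exact heven (Nat.odd_iff.2 (FiniteField.odd_card_of_char_ne_two hne))
  refine ⟨fun W h0 hW => ?_, decomp_max, field_max h4, rat_max, quad_max h4⟩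
  refine Symp.isMaximalIn_spGL W h0 (fun hW1 => ?_) fun L h1 h2 =>
    Symp.maximal_singular (spB_nondegenerate 2 F) (spB_isAlt 2 F) (fun u hu v hv => by
      rw [spB_apply]; exact hW u hu v hv) h1 h2
  have hv : (Pi.single (Sum.inl 0) 1 : Fin 2 ⊕ Fin 2 → F) ≠ 0 := by simp
  obtain ⟨u, hu⟩ := exists_val (F := F) hv
  rw [spB_apply, hW _ (hW1 ▸ Submodule.mem_top) _ (hW1 ▸ Submodule.mem_top)] at hu
  exact zero_ne_one hu

end Cfsg.Agent.S5789
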