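import Cfsg.Statements.S5790
import Cfsg.Agent.Lib.Linear.AschSp.Max

set_option autoImplicit false
open Cfsg

namespace Cfsg.Agent.S5790

/-- Every maximal subgroup of Sp_4(q), q ≥ 4 even, is of one of the listed geometric types or lies in the residual class. Let F be a finite field of even order q ≥ 4, f the standard alternating form on F^4 (coordinates Fin 2 ⊕ Fin 2), and H a maximal subgroup of Sp_4(F) (inside GL_4(F)). Then H is the intersection with Sp_4(F) of one of: the stabiliser of a non-zero totally isotropic subspace; the stabiliser of a decomposition into two orthogonal non-degenerate 2-spaces; the normaliser of a degree-2 subfield K of the matrix algebra, self-adjoint with f(k v, v) = 0; a subfield group whose F₀-structure carries a non-zero multiple of f, |F| = |F₀|^r with r prime; the similarity group of a non-degenerate quadratic form whose polar form is f — or else H lies in the residual class of the symplectic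 case. -/
theorem result {F : Type*} [Field F] [Fintype F] (heven : ¬ Odd (Fintype.card F)) (h4 : 4 ≤ Fintype.card F) (H : Subgroup (Matrix.GeneralLinearGroup (Fin 2 ⊕ Fin 2) F)) (hH : Cfsg.Geo.IsMaximalIn (Cfsg.spGL 2 F) H) :
    (∃ W : Submodule F (Fin 2 ⊕ Fin 2 → F), W ≠ ⊥ ∧ Cfsg.Geo.IsTotallySingularFor (Cfsg.sympForm 2 F) W ∧ H = Cfsg.Geo.subspaceStabilizer W ⊓ Cfsg.spGL 2 F) ∨
    (∃ D : Fin 2 → Submodule F (Fin 2 ⊕ Fin 2 → F), Cfsg.Geo.IsNondegenerateMDecomposition (Cfsg.sympForm 2 F) 2 D ∧ H = Cfsg.Geo.decompositionStabilizer D ⊓ Cfsg.spGL 2 F) ∨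
    (∃ K : Subalgebra F (Matrix (Fin 2 ⊕ Fin 2) (Fin 2 ⊕ Fin 2) F), Cfsg.Geo.IsFieldSubalgebra 2 K ∧ Cfsg.Geo.IsSelfAdjointFor (Cfsg.sympForm 2 F) K ∧ (∀ k ∈ K, ∀ v : (Fin 2 ⊕ Fin 2 → F), (Cfsg.sympForm 2 F) (Matrix.mulVec k v) v = 0) ∧ H = Cfsg.Geo.subalgebraNormalizer K ⊓ Cfsg.spGL 2 F) ∨
    (∃ (F₀ : Subfield F) (r : ℕ) (P : Matrix.GeneralLinearGroup (Fin 2 ⊕ Fin 2) F) (ζ : F), r.Prime ∧ Fintype.card F = Nat.card F₀ ^ r ∧ ζ ≠ 0 ∧ Cfsg.Geo.IsFormRationalStructure (Cfsg.sympForm 2 F) F₀ ζ P ∧ H = Cfsg.Geo.subfieldSubgroup F₀ P ⊓ Cfsg.spGL 2 F) ∨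
    (∃ Q : (Fin 2 ⊕ Fin 2 → F) → F, Cfsg.Geo.IsNondegenerateQuadraticForm Q ∧ (∀ u v : (Fin 2 ⊕ Fin 2 → F), QuadraticMap.polar Q u v = (Cfsg.sympForm 2 F) u v) ∧ H = Cfsg.Geo.quadSimilarityGroup Q ⊓ Cfsg.spGL 2 F) ∨
    Cfsg.Geo.InSymplecticResidualClass H := by
  cases Cfsg.Lib.Linear.AschSp.max_cases (by norm_num) hH with
  | totSing W h0 hts heq => exact Or.inl ⟨W, h0, hts, heq⟩
  | small W h0 hnd hlt he heq =>
    refine absurd ?_ h0
    rw [← Submodule.finrank_eq_zero (R := F)]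
    obtain ⟨a, ha⟩ := he
    omega
  | orth t k D hD hc he hq heq =>
    have ht := hD.decomp.two_le
    have hk := hD.decomp.pos
    obtain ⟨rfl, rfl⟩ : t = 2 ∧ k = 2 := by
      obtain ⟨a, rfl⟩ := he
      have h2t := Nat.mul_le_mul_left t (show 2 ≤ a + a by omega)
      have : t ≤ 2 := by omega
      interval_cases t <;> omega
    exact Or.inr (Or.inl ⟨D, hD, heq⟩)
  | pair D hodd hD hts hq heq => exact absurd hodd heven
  | selfField r K hr hK hsa halt hdvd heq =>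
    obtain rfl : r = 2 := (Nat.prime_dvd_prime_iff_eq hr Nat.prime_two).1 hdvd
    exact Or.inr (Or.inr (Or.inl ⟨K, hK, hsa, halt, heq⟩))
  | hermField K hodd hK hadj hne heq => exact absurd hodd heven
  | tensor hodd n₁ n₂ e P f₁ f₂ h₁ he h₂ hc hq hf₁ hf₂ hst heq => exact absurd hodd heven
  | power h => exact Cfsg.Lib.Linear.AschSp.MaxCases.power_elim h (Cfsg.Lib.Linear.AschSp.pow_ne_of_lt (by norm_num) (by norm_num) (by norm_num))
  | subfld F₁ r P ζ hr hcard hζ hP heq => exact Or.inr (Or.inr (Or.inr (Or.inl ⟨F₁, r, P, ζ, hr, hcard, hζ, hP, heq⟩)))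
  | six R p k hR habs hsim hp hodd hcard hcR hZ hminus hdim heq => exact absurd (hcard.symm ▸ hodd) heven
  | quad _ Q hQ hpol heq => exact Or.inr (Or.inr (Or.inr (Or.inr (Or.inl ⟨Q, hQ, hpol, heq⟩))))
  | residual h => exact Or.inr (Or.inr (Or.inr (Or.inr (Or.inr h))))

end Cfsg.Agent.S5790
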