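import Cfsg.Statements.S5796
import Cfsg.Agent.Lib.Linear.Aschbacher.Unitary
import Cfsg.Agent.Lib.Linear.Aschbacher.SUFiveTwo

set_option autoImplicit false
open Cfsg

namespace Cfsg.Agent.S5796

private theorem key2 : ∀ a : ZMod 5, a ^ 2 = 1 → a ^ 1 ≠ 1 → a.val = 4 := by decide

private theorem key4 : ∀ a : ZMod 5, a ≠ 0 → a ^ 2 ≠ 1 → a.val = 2 ∨ a.val = 3 := by decide

/-- Every maximal subgroup of SU_5(q) is of one of the listed geometric types or lies in the residual class. Let F be the field with q² elements (characteristic p), f the standard unitary form Σ u_i v_i^q on F^5, and H a maximal subgroup of SU_5(q) (inside GL_5(F)). Then H is the intersection with SU_5(q) of one of: the stabiliser of a non-zero totally isotropic subspace; the stabiliser of a non-degenerate 1-space or 2-space; the stabiliser of a decomposition into five mutually orthogonal non-degenerate 1-spaces; for q ≥ 3, the normaliser of an adjoint-closed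 degree-5 subfield of the matrix algebra; a subfield group of odd prime index whose F₀-structure carries f; for q odd, a subfield group of index 2 whose F₀-structure carries f; for q = p ≡ 4 mod 5 or q = p² with p ≡ 2, 3 mod 5, the normaliser of an absolutely irreducible 5-group of exponent 5, order 125 and centre of order 5 with all characteristic abelian subgroups cyclic inside the similarity group of f — or else H lies in the residual class of the unitary case. -/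
theorem result {F : Type*} [Field F] [Fintype F] (q : ℕ) (hF : Fintype.card F = q ^ 2) (H : Subgroup (Matrix.GeneralLinearGroup (Fin 5) F)) (hH : Cfsg.Geo.IsMaximalIn (Cfsg.GU 5 F q ⊓ Cfsg.Geo.specialLinear (Fin 5) F) H) :
    (∃ W : Submodule F (Fin 5 → F), W ≠ ⊥ ∧ Cfsg.Geo.IsTotallySingularFor (Cfsg.hermForm 5 F q) W ∧ H = Cfsg.Geo.subspaceStabilizer W ⊓ (Cfsg.GU 5 F q ⊓ Cfsg.Geo.specialLinear (Fin 5) F)) ∨
    (∃ W : Submodule F (Fin 5 → F), W ≠ ⊥ ∧ Cfsg.Geo.IsNondegenerateOn (Cfsg.hermForm 5 F q) W ∧ 2 * Module.finrank F W < 5 ∧ H = Cfsg.Geo.subspaceStabilizer W ⊓ (Cfsg.GU 5 F q ⊓ Cfsg.Geo.specialLinear (Fin 5) F)) ∨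
    (∃ D : Fin 5 → Submodule F (Fin 5 → F), Cfsg.Geo.IsNondegenerateMDecomposition (Cfsg.hermForm 5 F q) 1 D ∧ H = Cfsg.Geo.decompositionStabilizer D ⊓ (Cfsg.GU 5 F q ⊓ Cfsg.Geo.specialLinear (Fin 5) F)) ∨
    (3 ≤ q ∧ ∃ K : Subalgebra F (Matrix (Fin 5) (Fin 5) F), Cfsg.Geo.IsFieldSubalgebra 5 K ∧ Cfsg.Geo.IsAdjointClosedFor (Cfsg.hermForm 5 F q) K ∧ H = Cfsg.Geo.subalgebraNormalizer K ⊓ (Cfsg.GU 5 F q ⊓ Cfsg.Geo.specialLinear (Fin 5) F)) ∨
    (∃ (F₀ : Subfield F) (r : ℕ) (P : Matrix.GeneralLinearGroup (Fin 5) F), r.Prime ∧ Odd r ∧ Fintype.card F = Nat.card F₀ ^ r ∧ Cfsg.Geo.IsFormRationalStructure (Cfsg.hermForm 5 F q) F₀ 1 P ∧ H = Cfsg.Geo.subfieldSubgroup F₀ P ⊓ (Cfsg.GU 5 F q ⊓ Cfsg.Geo.specialLinear (Fin 5) F)) ∨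
    (Odd q ∧ ∃ (F₀ : Subfield F) (P : Matrix.GeneralLinearGroup (Fin 5) F), Fintype.card F = Nat.card F₀ ^ 2 ∧ Cfsg.Geo.IsFormRationalStructure (Cfsg.hermForm 5 F q) F₀ 1 P ∧ H = Cfsg.Geo.subfieldSubgroup F₀ P ⊓ (Cfsg.GU 5 F q ⊓ Cfsg.Geo.specialLinear (Fin 5) F)) ∨
    (∃ (p : ℕ) (R : Subgroup (Matrix.GeneralLinearGroup (Fin 5) F)), p.Prime ∧ CharP F p ∧ ((q = p ∧ p % 5 = 4) ∨ (q = p ^ 2 ∧ (p % 5 = 2 ∨ p % 5 = 3))) ∧ Cfsg.Geo.IsSymplecticTypeGroup 5 R ∧ Cfsg.Geo.ActsAbsolutelyIrreducibly (Cfsg.Geo.matrixSet R) ∧ R ≤ Cfsg.Geo.similarityGroup (Cfsg.hermForm 5 F q) ∧ Nat.card R = 125 ∧ Nat.card (Subgroup.center R) = 5 ∧ H = Cfsg.Geo.subgroupNormalizer R ⊓ (Cfsg.GU 5 F q ⊓ Cfsg.Geo.specialLinear (Fin 5) F)) ∨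
    Cfsg.Geo.InUnitaryResidualClass H := by
  have hr : Nat.Prime 5 := by norm_num
  haveI := Fact.mk hr
  rcases Cfsg.Lib.Linear.Asch.unitary_cases_refined hF hr le_rfl (by decide) (by norm_num) hH with
    h | h | h | ⟨K, hK, hadj, hH', N, hN, hKN⟩ | h | h | ⟨p, e, R, hp, hchar, hc, he, hdvd, hord, hsymp, habs, hRU, hcard, hcen, hH'⟩ | h
  · exact Or.inl h
  · exact Or.inr (Or.inl h)
  · exact Or.inr (Or.inr (Or.inl h))
  · have hq := Cfsg.Lib.Linear.Herm.two_le_q hF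
    have h3 : 3 ≤ q := by
      by_contra hlt
      obtain rfl : q = 2 := by omega
      exact Cfsg.Lib.Linear.Asch.SUFiveTwo.field_false hF hH hK (hH'.le.trans inf_le_left) hN hKN
    exact Or.inr (Or.inr (Or.inr (Or.inl ⟨h3, K, hK, hadj, hH'⟩)))
  · exact Or.inr (Or.inr (Or.inr (Or.inr (Or.inl h))))
  · exact Or.inr (Or.inr (Or.inr (Or.inr (Or.inr (Or.inl h)))))
  · have hmem : e ∈ (Nat.divisors (5 - 1)).filter Even := by simp [hdvd, he]
    rw [show (Nat.divisors (5 - 1)).filter Even = {2, 4} by decide] at hmem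
    simp only [Finset.mem_insert, Finset.mem_singleton] at hmem
    refine Or.inr (Or.inr (Or.inr (Or.inr (Or.inr (Or.inr (Or.inl ⟨p, R, hp, hchar, ?_, hsymp, habs,
      fun g hg => ⟨1, fun u v => by rw [Units.val_one, one_mul]; exact hRU hg u v⟩, by rw [hcard]; norm_num, hcen, hH'⟩))))))
    have hne : ∀ k, 0 < k → k < e → (p : ZMod 5) ^ k ≠ 1 := fun k h0 hk h1 => by
      have := Nat.le_of_dvd h0 (hord ▸ orderOf_dvd_of_pow_eq_one h1)
      omega
    rcases hmem with rfl | rfl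
    · have h2 := key2 (p : ZMod 5) (hord ▸ pow_orderOf_eq_one (p : ZMod 5)) (hne 1 one_pos one_lt_two)
      rw [ZMod.val_natCast] at h2
      exact Or.inl ⟨Nat.pow_left_injective two_ne_zero hc, h2⟩
    · have h2 := key4 (p : ZMod 5) (fun h0 => by
        rw [h0, orderOf_eq_zero (by rw [isOfFinOrder_iff_pow_eq_one]; rintro ⟨n, hn, h⟩; rw [zero_pow hn.ne'] at h; exact zero_ne_one h)] at hord
        omega) (hne 2 two_pos (by norm_num))
      rw [ZMod.val_natCast] at h2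
      exact Or.inr ⟨Nat.pow_left_injective two_ne_zero (hc.trans (pow_mul p 2 2)), h2⟩
  · exact Or.inr (Or.inr (Or.inr (Or.inr (Or.inr (Or.inr (Or.inr h))))))

end Cfsg.Agent.S5796
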