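import Cfsg.Statements.S5813
import Cfsg.Agent.Lib.Linear.OrthSplitLow
import Cfsg.Agent.Lib.Linear.OrthOdd
import Cfsg.Agent.Lib.Linear.FrameSeven.Max
import Cfsg.Agent.Lib.Linear.OrthSevenSub.Max

set_option autoImplicit false
open Cfsg

namespace Cfsg.Agent.S5813

open Module Cfsg.Lib.Linear.Orth

/-- Maximal subgroups of Ω_7(q) of geometric type, q odd. Let F be a finite field of odd order q, Q the standard quadratic form x₀² + Σ x_i y_i on F^7 (coordinates Unit ⊕ (Fin 3 ⊕ Fin 3)), and Ω = Ω_7(q) the commutator subgroup of its isometry group, inside GL_7(F). Each of the following, intersected with Ω, is a maximal subgroup of Ω: (1) the stabiliser of any non-zero subspace on which Q vanishes identically (totally singular 1-, 2- and 3-spaces); (2) the stabiliser of any non-zero even-dimensional subspace W on which the polar form of Q is non-degenerate (equivalently of its odd-dimensional orthogonal complement), except when q = 3 and W is a 2-space containing a non-zero singular vector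 (a plus-type plane); (3) for q = p prime, the stabiliser of any decomposition of F^7 into seven pairwise orthogonal, pairwise Q-isometric non-degenerate 1-spaces; (4) every subfield group for a subfield F₀ with |F| = |F₀|^r, r prime, whose F₀-structure carries Q. -/
theorem result {F : Type*} [Field F] [Fintype F] (hodd : Odd (Fintype.card F)) :
    (∀ W : Submodule F (Unit ⊕ (Fin 3 ⊕ Fin 3) → F), W ≠ ⊥ → Cfsg.Geo.IsTotallySingularQuad (Cfsg.quadFormOdd 3 F) W → Cfsg.Geo.IsMaximalIn (Cfsg.Geo.omegaGL (Cfsg.quadFormOdd 3 F)) (Cfsg.Geo.subspaceStabilizer W ⊓ Cfsg.Geo.omegaGL (Cfsg.quadFormOdd 3 F))) ∧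
    (∀ W : Submodule F (Unit ⊕ (Fin 3 ⊕ Fin 3) → F), W ≠ ⊥ → Even (Module.finrank F W) → Cfsg.Geo.IsNondegenerateOn (QuadraticMap.polar (Cfsg.quadFormOdd 3 F)) W → ¬ (Fintype.card F = 3 ∧ Module.finrank F W = 2 ∧ Cfsg.Geo.IsPlusTypeOn (Cfsg.quadFormOdd 3 F) W) → Cfsg.Geo.IsMaximalIn (Cfsg.Geo.omegaGL (Cfsg.quadFormOdd 3 F)) (Cfsg.Geo.subspaceStabilizer W ⊓ Cfsg.Geo.omegaGL (Cfsg.quadFormOdd 3 F))) ∧
    ((Fintype.card F).Prime → ∀ D : Fin 7 → Submodule F (Unit ⊕ (Fin 3 ⊕ Fin 3) → F), Cfsg.Geo.IsOrthogonalMDecomposition (Cfsg.quadFormOdd 3 F) 1 D → Cfsg.Geo.IsMaximalIn (Cfsg.Geo.omegaGL (Cfsg.quadFormOdd 3 F)) (Cfsg.Geo.decompositionStabilizer D ⊓ Cfsg.Geo.omegaGL (Cfsg.quadFormOdd 3 F))) ∧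
    (∀ (F₀ : Subfield F) (r : ℕ) (P : Matrix.GeneralLinearGroup (Unit ⊕ (Fin 3 ⊕ Fin 3)) F), r.Prime → Fintype.card F = Nat.card F₀ ^ r → Cfsg.Geo.IsQuadFormRationalStructure (Cfsg.quadFormOdd 3 F) F₀ P → Cfsg.Geo.IsMaximalIn (Cfsg.Geo.omegaGL (Cfsg.quadFormOdd 3 F)) (Cfsg.Geo.subfieldSubgroup F₀ P ⊓ Cfsg.Geo.omegaGL (Cfsg.quadFormOdd 3 F))) := by
  classical
  have h2 := two_ne_zero_of_odd_card hodd
  obtain ⟨B, C⟩ := exists_space (isQuad_odd (F := F) 3 h2)
  have hc := card_odd_index 3
  refine ⟨fun W hW0 hW => ?_, fun W hW0 hev hW hex => ?_, fun hprime D hD => ?_,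
    fun F₀ r P hr hcard hP => ?_⟩
  · refine singular_max C (by omega) hW0 hW fun M hM hlt => ?_
    have h1 := Submodule.finrank_lt_finrank_of_lt hlt
    have h3 := ts_bound C hM
    omega
  · obtain ⟨k, hk⟩ := hev
    have hn := ndeg_of_geo C hW
    have S := split_of_ndeg C hn
    have hadd := S.finrank_add C
    have hne : finrank F W ≠ 0 := fun h => hW0 (Submodule.finrank_eq_zero.mp h)
    rcases (show finrank F W = 2 ∨ finrank F W = 4 ∨ finrank F W = 6 by omega) with h | h | h
    · refine split_max_flex C S (by omega) (fun e f hef => ?_) (Or.inl (by omega)) hW0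
        (no_swap_of_lt (by omega)) ?_
      · have := hef.le_finrank C
        exact Cfsg.Lib.Linear.Sing.exists_singular C.smul C.polar _ (by omega)
      · by_cases hz : ∀ x ∈ W, (Cfsg.quadFormOdd 3 F) x = 0 → x = 0
        · exact Or.inl hz
        push Not at hz
        obtain ⟨z, hzW, hQz, hz0⟩ := hz
        refine Or.inr (Or.inr ?_)
        rw [Nat.card_eq_fintype_card]
        by_contra hlt
        have h3 : Fintype.card F = 3 := by
          have := Fintype.one_lt_card (α := F)
          obtain ⟨s, hs⟩ := hodd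
          omega
        refine hex ⟨h3, h, Submodule.span F {z},
          (Submodule.span_singleton_le_iff_mem z W).mpr hzW, fun w hw => ?_, ?_⟩
        · obtain ⟨c, rfl⟩ := Submodule.mem_span_singleton.mp hw
          rw [C.smul, hQz, mul_zero]
        · rw [finrank_span_singleton hz0, h]
    · rw [S.stab_eq C]
      exact Cfsg.Lib.Linear.OrthLow.split_max_low C (S.swap C) h (by omega) h2
    · rw [S.stab_eq C]
      refine split_max_six C (S.swap C) (by omega) (fun h0 => ?_) (by omega)
        (Or.inl (Cfsg.Lib.Linear.OrthTen.aniso_of_line C S.ndU (by omega)))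
      rw [h0, finrank_bot] at hadd
      omega
  · exact Cfsg.Lib.Linear.FrameSeven.lines_maximal C hodd hprime h2 (by omega) hD
  · refine Cfsg.Lib.Linear.OrthSub7.subfield_max_seven (isQuad_odd 3 h2) (by omega) h2 hr
      (by rw [Nat.card_eq_fintype_card]; exact hcard) P one_ne_zero ?_
    simpa using hP

end Cfsg.Agent.S5813
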