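import Cfsg.Statements.S5823
import Cfsg.Agent.Lib.Linear.AschSp.Three
import Cfsg.Agent.Lib.Linear.AschSp.Max

set_option autoImplicit false
open Cfsg

namespace Cfsg.Agent.S5823

/-- Every maximal subgroup of Sp_8(q) is of one of the listed geometric types or lies in the residual class. Let F be a finite field with q elements, f the standard alternating form on F^8 (coordinates Fin 4 ⊕ Fin 4), and H a maximal subgroup of Sp_8(F) (inside GL_8(F)). Then H is the intersection with Sp_8(F) of one of: the stabiliser of a non-zero totally isotropic subspace; the stabiliser of a non-degenerate 2-space; for q ≥ 3, the stabiliser of a decomposition into four mutually orthogonal non-degenerate 2-spaces; of a decomposition into two orthogonal non-degenerate 4-spaces; for q odd, of a decomposition into two totally isotropic 4-spaces; the normaliser of a degree-2 subfield K, self-adjoint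 with f(k v, v) = 0; for q odd, the normaliser of a degree-2 subfield closed under adjoints but not self-adjoint; for q odd, the stabiliser of a tensor decomposition of f into an alternating form on F^2 and a minus-type symmetric form on F^4; a subfield group (|F| = |F₀|^r, r prime) whose F₀-structure carries a non-zero multiple of f; for q = p an odd prime, the normaliser of an absolutely irreducible extraspecial group 2_-^(1+6) of exponent 4 inside the similarity group of f; for q odd, q ≥ 5, the stabiliser of a tensor decomposition of f as a third tensor power of an alternating form on F^2; for q even, the similarity group of a non-degenerate quadratic form polarising to f — or else H lies in the residual class of the symplectic case. -/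
theorem result {F : Type*} [Field F] [Fintype F] (H : Subgroup (Matrix.GeneralLinearGroup (Fin 4 ⊕ Fin 4) F)) (hH : Cfsg.Geo.IsMaximalIn (Cfsg.spGL 4 F) H) :
    (∃ W : Submodule F (Fin 4 ⊕ Fin 4 → F), W ≠ ⊥ ∧ Cfsg.Geo.IsTotallySingularFor (Cfsg.sympForm 4 F) W ∧ H = Cfsg.Geo.subspaceStabilizer W ⊓ Cfsg.spGL 4 F) ∨
    (∃ W : Submodule F (Fin 4 ⊕ Fin 4 → F), W ≠ ⊥ ∧ Cfsg.Geo.IsNondegenerateOn (Cfsg.sympForm 4 F) W ∧ Module.finrank F W < 4 ∧ H = Cfsg.Geo.subspaceStabilizer W ⊓ Cfsg.spGL 4 F) ∨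
    (3 ≤ Fintype.card F ∧ ∃ D : Fin 4 → Submodule F (Fin 4 ⊕ Fin 4 → F), Cfsg.Geo.IsNondegenerateMDecomposition (Cfsg.sympForm 4 F) 2 D ∧ H = Cfsg.Geo.decompositionStabilizer D ⊓ Cfsg.spGL 4 F) ∨
    (∃ D : Fin 2 → Submodule F (Fin 4 ⊕ Fin 4 → F), Cfsg.Geo.IsNondegenerateMDecomposition (Cfsg.sympForm 4 F) 4 D ∧ H = Cfsg.Geo.decompositionStabilizer D ⊓ Cfsg.spGL 4 F) ∨
    (Odd (Fintype.card F) ∧ ∃ D : Fin 2 → Submodule F (Fin 4 ⊕ Fin 4 → F), Cfsg.Geo.IsMDecomposition 4 D ∧ (∀ i, Cfsg.Geo.IsTotallySingularFor (Cfsg.sympForm 4 F) (D i)) ∧ H = Cfsg.Geo.decompositionStabilizer D ⊓ Cfsg.spGL 4 F) ∨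
    (∃ K : Subalgebra F (Matrix (Fin 4 ⊕ Fin 4) (Fin 4 ⊕ Fin 4) F), Cfsg.Geo.IsFieldSubalgebra 2 K ∧ Cfsg.Geo.IsSelfAdjointFor (Cfsg.sympForm 4 F) K ∧ (∀ k ∈ K, ∀ v : (Fin 4 ⊕ Fin 4 → F), (Cfsg.sympForm 4 F) (Matrix.mulVec k v) v = 0) ∧ H = Cfsg.Geo.subalgebraNormalizer K ⊓ Cfsg.spGL 4 F) ∨
    (Odd (Fintype.card F) ∧ ∃ K : Subalgebra F (Matrix (Fin 4 ⊕ Fin 4) (Fin 4 ⊕ Fin 4) F), Cfsg.Geo.IsFieldSubalgebra 2 K ∧ Cfsg.Geo.IsAdjointClosedFor (Cfsg.sympForm 4 F) K ∧ ¬ Cfsg.Geo.IsSelfAdjointFor (Cfsg.sympForm 4 F) K ∧ H = Cfsg.Geo.subalgebraNormalizer K ⊓ Cfsg.spGL 4 F) ∨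
    (Odd (Fintype.card F) ∧ ∃ (e : (Fin 4 ⊕ Fin 4) ≃ Fin 2 × Fin 4) (P : Matrix.GeneralLinearGroup (Fin 4 ⊕ Fin 4) F) (f₁ : (Fin 2 → F) → (Fin 2 → F) → F) (f₂ : (Fin 4 → F) → (Fin 4 → F) → F), Cfsg.Geo.IsSymplecticForm f₁ ∧ Cfsg.Geo.IsSymmetricForm f₂ ∧ ¬ Cfsg.Geo.IsPlusTypeOn (fun v : Fin 4 → F => f₂ v v) ⊤ ∧ Cfsg.Geo.IsTensorFormStructure id (Cfsg.sympForm 4 F) f₁ f₂ e P ∧ H = Cfsg.Geo.tensorProductSubgroup 2 4 e P ⊓ Cfsg.spGL 4 F) ∨
    (∃ (F₀ : Subfield F) (r : ℕ) (P : Matrix.GeneralLinearGroup (Fin 4 ⊕ Fin 4) F) (ζ : F), r.Prime ∧ Fintype.card F = Nat.card F₀ ^ r ∧ ζ ≠ 0 ∧ Cfsg.Geo.IsFormRationalStructure (Cfsg.sympForm 4 F) F₀ ζ P ∧ H = Cfsg.Geo.subfieldSubgroup F₀ P ⊓ Cfsg.spGL 4 F) ∨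
    (∃ (p : ℕ) (R : Subgroup (Matrix.GeneralLinearGroup (Fin 4 ⊕ Fin 4) F)), p.Prime ∧ Odd p ∧ Fintype.card F = p ∧ Cfsg.Geo.IsSymplecticTypeGroup 2 R ∧ Cfsg.Geo.ActsAbsolutelyIrreducibly (Cfsg.Geo.matrixSet R) ∧ R ≤ Cfsg.Geo.similarityGroup (Cfsg.sympForm 4 F) ∧ Nat.card R = 128 ∧ Nat.card (Subgroup.center R) = 2 ∧ Cfsg.Geo.IsOfMinusType 3 R ∧ H = Cfsg.Geo.subgroupNormalizer R ⊓ Cfsg.spGL 4 F) ∨
    (Odd (Fintype.card F) ∧ 5 ≤ Fintype.card F ∧ ∃ (e : (Fin 4 ⊕ Fin 4) ≃ (Fin 3 → Fin 2)) (P : Matrix.GeneralLinearGroup (Fin 4 ⊕ Fin 4) F) (f₁ : (Fin 2 → F) → (Fin 2 → F) → F), Cfsg.Geo.IsSymplecticForm f₁ ∧ Cfsg.Geo.IsTensorPowerFormStructure id (Cfsg.sympForm 4 F) f₁ e P ∧ H = Cfsg.Geo.tensorWreathSubgroup 2 3 e P ⊓ Cfsg.spGL 4 F) ∨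
    (¬ Odd (Fintype.card F) ∧ ∃ Q : (Fin 4 ⊕ Fin 4 → F) → F, Cfsg.Geo.IsNondegenerateQuadraticForm Q ∧ (∀ u v : (Fin 4 ⊕ Fin 4 → F), QuadraticMap.polar Q u v = (Cfsg.sympForm 4 F) u v) ∧ H = Cfsg.Geo.quadSimilarityGroup Q ⊓ Cfsg.spGL 4 F) ∨
    Cfsg.Geo.InSymplecticResidualClass H := by
  have six : Cfsg.Lib.Linear.AschSp.SixMember H →
      ∃ (p : ℕ) (R : Subgroup (Matrix.GeneralLinearGroup (Fin 4 ⊕ Fin 4) F)), p.Prime ∧ Odd p ∧ Fintype.card F = p ∧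
        Cfsg.Geo.IsSymplecticTypeGroup 2 R ∧ Cfsg.Geo.ActsAbsolutelyIrreducibly (Cfsg.Geo.matrixSet R) ∧
        R ≤ Cfsg.Geo.similarityGroup (Cfsg.sympForm 4 F) ∧ Nat.card R = 128 ∧ Nat.card (Subgroup.center R) = 2 ∧
        Cfsg.Geo.IsOfMinusType 3 R ∧ H = Cfsg.Geo.subgroupNormalizer R ⊓ Cfsg.spGL 4 F := fun h => by
    obtain ⟨R, p, k, hR, habs, hsim, ⟨hRsp, hexp, hsq, hcs⟩, hp, hpodd, hcard, hcR, hZ, hminus, hdim, hle⟩ := h
    obtain rfl : k = 3 := Nat.pow_right_injective le_rfl (hdim.symm.trans rfl : 2 ^ k = 2 ^ 3)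
    haveI : Finite R := Nat.finite_of_card_ne_zero (by rw [hcR]; norm_num)
    obtain ⟨x, hx, hxs, hx2⟩ := Cfsg.Lib.Linear.AschSp.exists_involution (by norm_num) hRsp habs
      (by rw [hcR]; norm_num) hexp hsq hcs
    exact ⟨p, R, hp, hpodd, hcard, hR, habs, hsim, by rw [hcR]; norm_num, hZ, hminus,
      Cfsg.Lib.Linear.Asch.eq_inf_of_maximal hH hle (Cfsg.Lib.Linear.AschSp.not_sp_le_normalizer
        (fun h0 => Cfsg.Lib.Linear.AschSp.not_odd_of_two_zero h0 (hcard ▸ hpodd)) (by norm_num) hRsp habs hexp hx hxs hx2)⟩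
  cases Cfsg.Lib.Linear.AschSp.max_cases (by norm_num) hH with
  | totSing W h0 hts heq => exact Or.inl ⟨W, h0, hts, heq⟩
  | small W h0 hnd hlt he heq => exact Or.inr (Or.inl ⟨W, h0, hnd, hlt, heq⟩)
  | orth t k D hD hc he hq heq =>
    have ht := hD.decomp.two_le
    have hk := hD.decomp.pos
    have hcase : (t = 4 ∧ k = 2) ∨ (t = 2 ∧ k = 4) := by
      obtain ⟨a, rfl⟩ := he
      have h2t := Nat.mul_le_mul_left t (show 2 ≤ a + a by omega)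
      have : t ≤ 4 := by omega
      interval_cases t <;> omega
    rcases hcase with ⟨rfl, rfl⟩ | ⟨rfl, rfl⟩
    · exact Or.inr (Or.inr (Or.inl ⟨hq rfl, D, hD, heq⟩))
    · exact Or.inr (Or.inr (Or.inr (Or.inl ⟨D, hD, heq⟩)))
  | pair D hodd hD hts hq heq => exact Or.inr (Or.inr (Or.inr (Or.inr (Or.inl ⟨hodd, D, hD, hts, heq⟩))))
  | selfField r K hr hK hsa halt hdvd heq =>
    obtain rfl : r = 2 := (Nat.prime_dvd_prime_iff_eq hr Nat.prime_two).1 (hr.dvd_of_dvd_pow (show r ∣ 2 ^ 2 from hdvd))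
    exact Or.inr (Or.inr (Or.inr (Or.inr (Or.inr (Or.inl ⟨K, hK, hsa, halt, heq⟩)))))
  | hermField K hodd hK hadj hne heq =>
    exact Or.inr (Or.inr (Or.inr (Or.inr (Or.inr (Or.inr (Or.inl ⟨hodd, K, hK, hadj, hne, heq⟩))))))
  | tensor hodd n₁ n₂ e P f₁ f₂ h₁ he h₂ hc hq hf₁ hf₂ hst heq =>
    obtain ⟨rfl, rfl⟩ : n₁ = 2 ∧ n₂ = 4 := by
      obtain ⟨a, rfl⟩ := he
      have h2t := Nat.mul_le_mul_right n₂ h₁
      have : n₂ ≤ 4 := by omega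
      interval_cases n₂ <;> omega
    by_cases hplus : Cfsg.Geo.IsPlusTypeOn (fun v : Fin 4 → F => f₂ v v) ⊤
    · have h2 : (2 : F) ≠ 0 := fun h0 => Cfsg.Lib.Linear.AschSp.not_odd_of_two_zero h0 hodd
      obtain ⟨e', P', f, hf, hst', hle⟩ := Cfsg.Lib.Linear.AschSp.plus_split h2 hH.1.le hf₁ hf₂ hplus hst
        (heq.le.trans inf_le_left)
      by_cases h3 : Fintype.card F = 3
      · exact Or.inr (Or.inr (Or.inr (Or.inr (Or.inr (Or.inr (Or.inr (Or.inr (Or.inr (Or.inl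
          (six (Cfsg.Lib.Linear.AschSp.wreath_eight_three h3 hf hst' hle)))))))))))
      · exact Or.inr (Or.inr (Or.inr (Or.inr (Or.inr (Or.inr (Or.inr (Or.inr (Or.inr (Or.inr (Or.inl
          ⟨hodd, Cfsg.Lib.Linear.AschSp.five_le_card hodd h3, e', P', f, hf, hst',
            Cfsg.Lib.Linear.Asch.eq_inf_of_maximal hH hle
              (Cfsg.Lib.Linear.AschSp.not_sp_le_wreath le_rfl (by norm_num))⟩))))))))))
    · exact Or.inr (Or.inr (Or.inr (Or.inr (Or.inr (Or.inr (Or.inr (Or.inl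
        ⟨hodd, e, P, f₁, f₂, hf₁, hf₂, hplus, hst, heq⟩)))))))
  | power h =>
    obtain ⟨k, t, e, P, f₁, hodd, -, ht, hk, hkeven, hex, hf₁, hst, hle⟩ := h
    have hkt : k ^ t = 8 := by
      have h1 := Fintype.card_congr e
      rw [Cfsg.Lib.Linear.AschSp.card_ix, Fintype.card_fun, Fintype.card_fin, Fintype.card_fin] at h1
      exact h1.symm
    obtain rfl : k = 2 := by
      have h3 : k ^ 3 ≤ 8 := hkt ▸ Nat.pow_le_pow_right (by omega) ht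
      by_contra hk2
      have : 3 ^ 3 ≤ k ^ 3 := Nat.pow_le_pow_left (by omega) 3
      omega
    obtain rfl : t = 3 := Nat.pow_right_injective le_rfl (hkt.trans rfl : 2 ^ t = 2 ^ 3)
    exact Or.inr (Or.inr (Or.inr (Or.inr (Or.inr (Or.inr (Or.inr (Or.inr (Or.inr (Or.inr (Or.inl
      ⟨hodd, Cfsg.Lib.Linear.AschSp.five_le_card hodd (fun h3 => hex ⟨h3, rfl⟩), e, P, f₁, hf₁, hst,
        Cfsg.Lib.Linear.Asch.eq_inf_of_maximal hH hle
          (Cfsg.Lib.Linear.AschSp.not_sp_le_wreath le_rfl (by norm_num))⟩))))))))))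
  | subfld F₁ r P ζ hr hcard hζ hP heq =>
    exact Or.inr (Or.inr (Or.inr (Or.inr (Or.inr (Or.inr (Or.inr (Or.inr (Or.inl ⟨F₁, r, P, ζ, hr, hcard, hζ, hP, heq⟩))))))))
  | six R p k hR habs hsim hp hodd hcard hcR hZ hminus hdim heq =>
    obtain rfl : k = 3 := Nat.pow_right_injective le_rfl (hdim.symm.trans rfl : 2 ^ k = 2 ^ 3)
    exact Or.inr (Or.inr (Or.inr (Or.inr (Or.inr (Or.inr (Or.inr (Or.inr (Or.inr (Or.inl
      ⟨p, R, hp, hodd, hcard, hR, habs, hsim, by rw [hcR]; norm_num, hZ, hminus, heq⟩)))))))))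
  | quad heven Q hQ hpol heq =>
    exact Or.inr (Or.inr (Or.inr (Or.inr (Or.inr (Or.inr (Or.inr (Or.inr (Or.inr (Or.inr (Or.inr (Or.inl
      ⟨heven, Q, hQ, hpol, heq⟩)))))))))))
  | residual h =>
    exact Or.inr (Or.inr (Or.inr (Or.inr (Or.inr (Or.inr (Or.inr (Or.inr (Or.inr (Or.inr (Or.inr (Or.inr h)))))))))))

end Cfsg.Agent.S5823
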