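import Cfsg.Statements.S5825
import Cfsg.Agent.Lib.Linear.OrthEight.Nondeg
import Cfsg.Agent.Lib.Linear.OrthEight.Max
import Cfsg.Agent.Lib.Linear.OrthExt.Max
import Cfsg.Agent.Lib.Linear.OrthOdd

set_option autoImplicit false
open Cfsg

namespace Cfsg.Agent.S5825

open Module Cfsg.Lib.Linear.Orth Cfsg.Lib.Linear.OrthTen

/-- Maximal subgroups of Ω_8^-(q) of geometric type (any q). Let F be a finite field with q elements, Q a non-degenerate quadratic form on F^8 (non-degenerate polar form) of minus type (Witt index 3: no totally singular 4-space), and Ω = Ω_8^-(q) the commutator subgroup of the isometry group of Q, inside GL_8(F). Each of the following, intersected with Ω, is a maximal subgroup of Ω: (1) the stabiliser of any non-zero subspace on which Q vanishes identically (totally singular 1-, 2- and 3-spaces); (2) for q odd, the stabiliser of any proper subspace of odd dimension (1, 3, 5 or 7) on which the polar form of Q is non-degenerate; (3) the stabiliser of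 any non-degenerate 2-space of minus type (containing no non-zero singular vector); (4) for q ≥ 4, the stabiliser of any non-degenerate 2-space of plus type (containing a non-zero singular vector); (5) the stabiliser of any non-degenerate 4-space (its orthogonal complement is then a non-degenerate 4-space of the opposite type); (6) for q even, the stabiliser of the 1-space spanned by any non-singular vector v (Q(v) ≠ 0); (7) for q odd, the normaliser of any degree-2 subfield K of the matrix algebra whose elements are self-adjoint for the polar form of Q (Q is then the trace of a quadratic form over K); (8) every subfield group for a subfield F₀ of odd prime index r in F whose F₀-structure carries a non-zero scalar multiple of Q. -/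
theorem result {F : Type*} [Field F] [Fintype F] (Q : (Fin 8 → F) → F) (hQ : Cfsg.Geo.IsNondegenerateQuadraticForm Q) (hminus : ¬ Cfsg.Geo.IsPlusTypeOn Q ⊤) :
    (∀ W : Submodule F (Fin 8 → F), W ≠ ⊥ → Cfsg.Geo.IsTotallySingularQuad Q W → Cfsg.Geo.IsMaximalIn (Cfsg.Geo.omegaGL Q) (Cfsg.Geo.subspaceStabilizer W ⊓ Cfsg.Geo.omegaGL Q)) ∧
    (Odd (Fintype.card F) → ∀ W : Submodule F (Fin 8 → F), W ≠ ⊥ → W ≠ ⊤ → Odd (Module.finrank F W) → Cfsg.Geo.IsNondegenerateOn (QuadraticMap.polar Q) W → Cfsg.Geo.IsMaximalIn (Cfsg.Geo.omegaGL Q) (Cfsg.Geo.subspaceStabilizer W ⊓ Cfsg.Geo.omegaGL Q)) ∧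
    (∀ W : Submodule F (Fin 8 → F), Module.finrank F W = 2 → Cfsg.Geo.IsNondegenerateOn (QuadraticMap.polar Q) W → ¬ Cfsg.Geo.IsPlusTypeOn Q W → Cfsg.Geo.IsMaximalIn (Cfsg.Geo.omegaGL Q) (Cfsg.Geo.subspaceStabilizer W ⊓ Cfsg.Geo.omegaGL Q)) ∧
    (4 ≤ Fintype.card F → ∀ W : Submodule F (Fin 8 → F), Module.finrank F W = 2 → Cfsg.Geo.IsNondegenerateOn (QuadraticMap.polar Q) W → Cfsg.Geo.IsPlusTypeOn Q W → Cfsg.Geo.IsMaximalIn (Cfsg.Geo.omegaGL Q) (Cfsg.Geo.subspaceStabilizer W ⊓ Cfsg.Geo.omegaGL Q)) ∧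
    (∀ W : Submodule F (Fin 8 → F), Module.finrank F W = 4 → Cfsg.Geo.IsNondegenerateOn (QuadraticMap.polar Q) W → Cfsg.Geo.IsMaximalIn (Cfsg.Geo.omegaGL Q) (Cfsg.Geo.subspaceStabilizer W ⊓ Cfsg.Geo.omegaGL Q)) ∧
    (¬ Odd (Fintype.card F) → ∀ v : (Fin 8 → F), Q v ≠ 0 → Cfsg.Geo.IsMaximalIn (Cfsg.Geo.omegaGL Q) (Cfsg.Geo.subspaceStabilizer (Submodule.span F {v}) ⊓ Cfsg.Geo.omegaGL Q)) ∧
    (Odd (Fintype.card F) → ∀ K : Subalgebra F (Matrix (Fin 8) (Fin 8) F), Cfsg.Geo.IsFieldSubalgebra 2 K → Cfsg.Geo.IsSelfAdjointFor (QuadraticMap.polar Q) K → Cfsg.Geo.IsMaximalIn (Cfsg.Geo.omegaGL Q) (Cfsg.Geo.subalgebraNormalizer K ⊓ Cfsg.Geo.omegaGL Q)) ∧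
    (∀ (F₀ : Subfield F) (r : ℕ) (P : Matrix.GeneralLinearGroup (Fin 8) F) (ζ : F), r.Prime → Odd r → Fintype.card F = Nat.card F₀ ^ r → ζ ≠ 0 → Cfsg.Geo.IsQuadFormRationalStructure (fun v : Fin 8 → F => ζ * Q v) F₀ P → Cfsg.Geo.IsMaximalIn (Cfsg.Geo.omegaGL Q) (Cfsg.Geo.subfieldSubgroup F₀ P ⊓ Cfsg.Geo.omegaGL Q)) := by
  classical
  obtain ⟨B, C⟩ := exists_space hQ
  have hc : Fintype.card (Fin 8) = 8 := Fintype.card_fin 8
  have htop : finrank F (⊤ : Submodule F (Fin 8 → F)) = 8 := by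
    rw [finrank_top, finrank_fintype_fun_eq_card, hc]
  have hlt : ∀ {W : Submodule F (Fin 8 → F)}, W ≠ ⊤ → finrank F W < 8 := fun h => by
    have := Submodule.finrank_lt_finrank_of_lt h.lt_top
    omega
  refine ⟨fun W hW0 hW => ?_, fun _ W hW0 hW1 hd hW => ?_,
    fun W hd hW hnp => ?_, fun hq W hd hW _ => ?_, fun W hd hW => ?_, fun _ v hv => ?_,
    fun hodd K hK hsa => ?_, fun F₀ r P ζ hr hrodd hcard hζ hP => ?_⟩
  · refine singular_max C (by omega) hW0 hW fun M hM hlt => ?_
    have h1 := Submodule.finrank_lt_finrank_of_lt hlt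
    have h2 := ts_bound C hM
    have h3 : finrank F M ≠ 4 := fun h => hminus ⟨M, le_top, fun w hw => hM w hw, by omega⟩
    omega
  · have h0 : finrank F W ≠ 0 := fun h => hW0 (Submodule.finrank_eq_zero.mp h)
    have h2 := Nat.odd_iff.mp hd
    exact Cfsg.Lib.Linear.OrthSub8.nondeg_max_eight C hc hminus (ndeg_of_geo C hW) h0 (hlt hW1)
      (by omega) (by omega)
  · exact Cfsg.Lib.Linear.OrthSub8.nondeg_max_eight C hc hminus (ndeg_of_geo C hW) (by omega)
      (by omega) (by omega) fun _ => Or.inl (aniso_of_not_plus C hd hnp)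
  · exact Cfsg.Lib.Linear.OrthSub8.nondeg_max_eight C hc hminus (ndeg_of_geo C hW) (by omega)
      (by omega) (by omega) fun _ => Or.inr (by rw [Nat.card_eq_fintype_card]; exact hq)
  · exact Cfsg.Lib.Linear.OrthSub8.nondeg_max_eight C hc hminus (ndeg_of_geo C hW) (by omega)
      (by omega) (by omega) (by omega)
  · exact nonsingular_line_max C (by omega) hv
  · exact Cfsg.Lib.Linear.OrthExt.maximal' C (two_ne_zero_of_odd_card hodd) Nat.prime_two K hK hsa
      (by omega) (Or.inr hminus)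
  · exact Cfsg.Lib.Linear.OrthSub8.subfield_max_eight hQ hc hminus hr hrodd
      (by rw [Nat.card_eq_fintype_card]; exact hcard) P hζ hP

end Cfsg.Agent.S5825
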