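import Cfsg.Statements.S5832
import Cfsg.Agent.Lib.Linear.AschU.Maximal

set_option autoImplicit false
open Cfsg Cfsg.Lib.Linear Cfsg.Lib.Linear.Herm Cfsg.Lib.Linear.Asch Cfsg.Lib.Linear.AschU

namespace Cfsg.Agent.S5832

/-- Every maximal subgroup of SU_9(q) is of one of the listed geometric types or lies in the residual class. Let F be the field with q² elements, f the standard unitary form Σ u_i v_i^q on F^9, and H a maximal subgroup of SU_9(q) (inside GL_9(F)). Then H is the intersection with SU_9(q) of one of: the stabiliser of a non-zero totally isotropic subspace; the stabiliser of a non-degenerate 1-, 2-, 3- or 4-space; the stabiliser of a decomposition into nine mutually orthogonal non-degenerate 1-spaces; of a decomposition into three mutually orthogonal non-degenerate 3-spaces; the normaliser of an adjoint-closed degree-3 subfield of the matrix algebra; a subfield group of odd prime index whose F₀-structure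 carries f; for q odd, a subfield group of index 2 whose F₀-structure carries f; for q = p ≡ 2 mod 3 prime, the normaliser of an absolutely irreducible extraspecial group 3_+^(1+4) of exponent 3 inside the similarity group of f; for q ≥ 3, the stabiliser of a tensor decomposition of f as a tensor square of a unitary form on F^3 — or else H lies in the residual class of the unitary case. -/
theorem result {F : Type*} [Field F] [Fintype F] (q : ℕ) (hF : Fintype.card F = q ^ 2) (H : Subgroup (Matrix.GeneralLinearGroup (Fin 9) F)) (hH : Cfsg.Geo.IsMaximalIn (Cfsg.GU 9 F q ⊓ Cfsg.Geo.specialLinear (Fin 9) F) H) :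
    (∃ W : Submodule F (Fin 9 → F), W ≠ ⊥ ∧ Cfsg.Geo.IsTotallySingularFor (Cfsg.hermForm 9 F q) W ∧ H = Cfsg.Geo.subspaceStabilizer W ⊓ (Cfsg.GU 9 F q ⊓ Cfsg.Geo.specialLinear (Fin 9) F)) ∨
    (∃ W : Submodule F (Fin 9 → F), W ≠ ⊥ ∧ Cfsg.Geo.IsNondegenerateOn (Cfsg.hermForm 9 F q) W ∧ 2 * Module.finrank F W < 9 ∧ H = Cfsg.Geo.subspaceStabilizer W ⊓ (Cfsg.GU 9 F q ⊓ Cfsg.Geo.specialLinear (Fin 9) F)) ∨
    (∃ D : Fin 9 → Submodule F (Fin 9 → F), Cfsg.Geo.IsNondegenerateMDecomposition (Cfsg.hermForm 9 F q) 1 D ∧ H = Cfsg.Geo.decompositionStabilizer D ⊓ (Cfsg.GU 9 F q ⊓ Cfsg.Geo.specialLinear (Fin 9) F)) ∨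
    (∃ D : Fin 3 → Submodule F (Fin 9 → F), Cfsg.Geo.IsNondegenerateMDecomposition (Cfsg.hermForm 9 F q) 3 D ∧ H = Cfsg.Geo.decompositionStabilizer D ⊓ (Cfsg.GU 9 F q ⊓ Cfsg.Geo.specialLinear (Fin 9) F)) ∨
    (∃ K : Subalgebra F (Matrix (Fin 9) (Fin 9) F), Cfsg.Geo.IsFieldSubalgebra 3 K ∧ Cfsg.Geo.IsAdjointClosedFor (Cfsg.hermForm 9 F q) K ∧ H = Cfsg.Geo.subalgebraNormalizer K ⊓ (Cfsg.GU 9 F q ⊓ Cfsg.Geo.specialLinear (Fin 9) F)) ∨
    (∃ (F₀ : Subfield F) (r : ℕ) (P : Matrix.GeneralLinearGroup (Fin 9) F), r.Prime ∧ Odd r ∧ Fintype.card F = Nat.card F₀ ^ r ∧ Cfsg.Geo.IsFormRationalStructure (Cfsg.hermForm 9 F q) F₀ 1 P ∧ H = Cfsg.Geo.subfieldSubgroup F₀ P ⊓ (Cfsg.GU 9 F q ⊓ Cfsg.Geo.specialLinear (Fin 9) F)) ∨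
    (Odd q ∧ ∃ (F₀ : Subfield F) (P : Matrix.GeneralLinearGroup (Fin 9) F), Fintype.card F = Nat.card F₀ ^ 2 ∧ Cfsg.Geo.IsFormRationalStructure (Cfsg.hermForm 9 F q) F₀ 1 P ∧ H = Cfsg.Geo.subfieldSubgroup F₀ P ⊓ (Cfsg.GU 9 F q ⊓ Cfsg.Geo.specialLinear (Fin 9) F)) ∨
    (∃ (p : ℕ) (R : Subgroup (Matrix.GeneralLinearGroup (Fin 9) F)), p.Prime ∧ q = p ∧ p % 3 = 2 ∧ Cfsg.Geo.IsSymplecticTypeGroup 3 R ∧ Cfsg.Geo.ActsAbsolutelyIrreducibly (Cfsg.Geo.matrixSet R) ∧ R ≤ Cfsg.Geo.similarityGroup (Cfsg.hermForm 9 F q) ∧ Nat.card R = 243 ∧ Nat.card (Subgroup.center R) = 3 ∧ H = Cfsg.Geo.subgroupNormalizer R ⊓ (Cfsg.GU 9 F q ⊓ Cfsg.Geo.specialLinear (Fin 9) F)) ∨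
    (3 ≤ q ∧ ∃ (e : Fin 9 ≃ (Fin 2 → Fin 3)) (P : Matrix.GeneralLinearGroup (Fin 9) F) (f₁ : (Fin 3 → F) → (Fin 3 → F) → F), Cfsg.Geo.IsUnitaryFormPow q f₁ ∧ Cfsg.Geo.IsTensorPowerFormStructure (fun x : F => x ^ q) (Cfsg.hermForm 9 F q) f₁ e P ∧ H = Cfsg.Geo.tensorWreathSubgroup 3 2 e P ⊓ (Cfsg.GU 9 F q ⊓ Cfsg.Geo.specialLinear (Fin 9) F)) ∨
    Cfsg.Geo.InUnitaryResidualClass H := by
  cases unitary_cases hF (by norm_num) (hH.1.le.trans inf_le_left) with
  | totSing W h0 hts hle =>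
    exact Or.inl (⟨W, h0, hts, max_totSing hF (by norm_num) hH h0 hts hle⟩)
  | small W h0 hnd hlt hle =>
    exact Or.inr (Or.inl (⟨W, h0, hnd, hlt, max_small hF (by norm_num) hH h0 hlt hle⟩))
  | orth t k D hD hc hle =>
    have ht2 := hD.decomp.two_le
    have htn : t ≤ 9 := Nat.le_of_dvd (by norm_num) ⟨k, hc.symm⟩
    have hkn : k ≤ 9 := Nat.le_of_dvd (by norm_num) ⟨t, (mul_comm t k ▸ hc).symm⟩
    obtain ⟨rfl, rfl⟩ | ⟨rfl, rfl⟩ : (t = 3 ∧ k = 3) ∨ (t = 9 ∧ k = 1) := by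
      interval_cases t <;> omega
    · exact Or.inr (Or.inr (Or.inr (Or.inl (⟨D, hD, max_decomp hF (by norm_num) hH hD.decomp hle⟩))))
    · exact Or.inr (Or.inr (Or.inl (⟨D, hD, max_decomp hF (by norm_num) hH hD.decomp hle⟩)))
  | pair k D hc hD hts hle =>
    omega
  | field r K hr hodd hdvd hK hadj hle =>
    have hrn := Nat.le_of_dvd (by norm_num) hdvd
    obtain rfl : r = 3 := by
      interval_cases r <;> first | rfl | (exfalso; revert hr hodd hdvd; decide)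
    exact Or.inr (Or.inr (Or.inr (Or.inr (Or.inl (⟨K, hK, hadj, max_field hF (by norm_num) hH hr hK hle⟩)))))
  | tensor n₁ n₂ e P hP h2 hlt hc hle =>
    have hn2 : n₂ ≤ 9 := Nat.le_of_dvd (by norm_num) ⟨n₁, hc.trans (mul_comm _ _)⟩
    have hn1 : n₁ < 9 := lt_of_lt_of_le hlt hn2
    exfalso
    interval_cases n₁ <;> omega
  | power k t e P hP hk ht hne hc hle =>
    have h2 : k ^ 2 ≤ 9 := hc ▸ Nat.pow_le_pow_right (by omega) ht
    obtain rfl : k = 3 := le_antisymm (not_lt.1 fun h => by nlinarith) hk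
    obtain rfl : t = 2 := (Nat.pow_right_injective (a := 3) (by norm_num) (by show 3 ^ t = 3 ^ 2; omega))
    have hq : 3 ≤ q := by have := two_le_q hF; omega
    exact Or.inr (Or.inr (Or.inr (Or.inr (Or.inr (Or.inr (Or.inr (Or.inr (Or.inl (⟨hq, max_square hF hq hH (by norm_num) e hP hle⟩)))))))))
  | subfld h =>
    rcases max_subfield hF (by norm_num) hH h with h | h | ⟨F₀, P, ζ, hev, h⟩
    · exact Or.inr (Or.inr (Or.inr (Or.inr (Or.inr (Or.inl (h))))))
    · exact Or.inr (Or.inr (Or.inr (Or.inr (Or.inr (Or.inr (Or.inl (h)))))))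
    · exact absurd hev (by decide)
  | six R r p e k h hle =>
    have hd := h.dim
    have hpr := h.symp.prime
    obtain rfl : r = 3 := (Nat.prime_dvd_prime_iff_eq hpr (by norm_num)).1
      (hpr.dvd_of_dvd_pow (n := 2) ⟨r ^ (k - 1), by
        rcases k with _ | k
        · norm_num at hd
        · rw [Nat.add_sub_cancel, ← pow_succ', ← hd]; norm_num⟩)
    obtain rfl : k = 2 := (Nat.pow_right_injective (a := 3) (by norm_num) (by show 3 ^ k = 3 ^ 2; omega))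
    obtain ⟨h1, h2, h3, h4, h5⟩ := six_three hF h
    exact Or.inr (Or.inr (Or.inr (Or.inr (Or.inr (Or.inr (Or.inr (Or.inl (⟨p, R, h1, h2, h3, h.symp, h.absIrr, h.sim, by rw [h4]; norm_num, h5, max_six hF (by norm_num) hH h hle⟩))))))))
  | residual h =>
    exact Or.inr (Or.inr (Or.inr (Or.inr (Or.inr (Or.inr (Or.inr (Or.inr (Or.inr (h)))))))))

end Cfsg.Agent.S5832
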