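import Cfsg.Statements.S5834
import Cfsg.Agent.Lib.Linear.OrthSplitLow
import Cfsg.Agent.Lib.Linear.OrthOdd
import Cfsg.Agent.Lib.Linear.OrthBlocksOf
import Cfsg.Agent.Lib.Linear.FrameNine.Max
import Cfsg.Agent.Lib.Linear.OrthSevenSub.Max
import Cfsg.Agent.Lib.Linear.OrthExtThree.Max
import Cfsg.Agent.Lib.Linear.OOTensor.Square.Max

set_option autoImplicit false
open Cfsg

namespace Cfsg.Agent.S5834

open Module Cfsg.Lib.Linear.Orth

/-- Maximal subgroups of Ω_9(q) of geometric type, q odd. Let F be a finite field of odd order q, Q the standard quadratic form x₀² + Σ x_i y_i on F^9 (coordinates Unit ⊕ (Fin 4 ⊕ Fin 4)), and Ω = Ω_9(q) the commutator subgroup of its isometry group, inside GL_9(F). Each of the following, intersected with Ω, is a maximal subgroup of Ω: (1) the stabiliser of any non-zero subspace on which Q vanishes identically (totally singular 1- to 4-spaces); (2) the stabiliser of any non-zero even-dimensional subspace W (dimension 2, 4,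 6 or 8) on which the polar form of Q is non-degenerate (equivalently of its odd-dimensional orthogonal complement), except when q = 3 and W is a 2-space containing a non-zero singular vector (a plus-type plane); (3) for q = p prime, the stabiliser of any decomposition of F^9 into nine pairwise orthogonal, pairwise Q-isometric non-degenerate 1-spaces; (4) for q ≥ 5, the stabiliser of any decomposition of F^9 into three pairwise orthogonal, pairwise Q-isometric non-degenerate 3-spaces; (5) the normaliser of any degree-3 subfield K of the matrix algebra whose elements are self-adjoint for the polar form of Q (Q is then the trace of a quadratic form over K); (6) every subfield group for a subfield F₀ with |F| = |F₀|^r, r prime, whose F₀-structure carries Q; (7) for q ≥ 5, the stabiliser of any decomposition of the polar form of Q as the tensor square of a non-degenerate symmetric bilinear form on F^3 up to a scalar (tensor-wreath subgroup). -/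
theorem result {F : Type*} [Field F] [Fintype F] (hodd : Odd (Fintype.card F)) :
    (∀ W : Submodule F (Unit ⊕ (Fin 4 ⊕ Fin 4) → F), W ≠ ⊥ → Cfsg.Geo.IsTotallySingularQuad (Cfsg.quadFormOdd 4 F) W → Cfsg.Geo.IsMaximalIn (Cfsg.Geo.omegaGL (Cfsg.quadFormOdd 4 F)) (Cfsg.Geo.subspaceStabilizer W ⊓ Cfsg.Geo.omegaGL (Cfsg.quadFormOdd 4 F))) ∧
    (∀ W : Submodule F (Unit ⊕ (Fin 4 ⊕ Fin 4) → F), W ≠ ⊥ → Even (Module.finrank F W) → Cfsg.Geo.IsNondegenerateOn (QuadraticMap.polar (Cfsg.quadFormOdd 4 F)) W → ¬ (Fintype.card F = 3 ∧ Module.finrank F W = 2 ∧ Cfsg.Geo.IsPlusTypeOn (Cfsg.quadFormOdd 4 F) W) → Cfsg.Geo.IsMaximalIn (Cfsg.Geo.omegaGL (Cfsg.quadFormOdd 4 F)) (Cfsg.Geo.subspaceStabilizer W ⊓ Cfsg.Geo.omegaGL (Cfsg.quadFormOdd 4 F))) ∧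
    ((Fintype.card F).Prime → ∀ D : Fin 9 → Submodule F (Unit ⊕ (Fin 4 ⊕ Fin 4) → F), Cfsg.Geo.IsOrthogonalMDecomposition (Cfsg.quadFormOdd 4 F) 1 D → Cfsg.Geo.IsMaximalIn (Cfsg.Geo.omegaGL (Cfsg.quadFormOdd 4 F)) (Cfsg.Geo.decompositionStabilizer D ⊓ Cfsg.Geo.omegaGL (Cfsg.quadFormOdd 4 F))) ∧
    (5 ≤ Fintype.card F → ∀ D : Fin 3 → Submodule F (Unit ⊕ (Fin 4 ⊕ Fin 4) → F), Cfsg.Geo.IsOrthogonalMDecomposition (Cfsg.quadFormOdd 4 F) 3 D → Cfsg.Geo.IsMaximalIn (Cfsg.Geo.omegaGL (Cfsg.quadFormOdd 4 F)) (Cfsg.Geo.decompositionStabilizer D ⊓ Cfsg.Geo.omegaGL (Cfsg.quadFormOdd 4 F))) ∧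
    (∀ K : Subalgebra F (Matrix (Unit ⊕ (Fin 4 ⊕ Fin 4)) (Unit ⊕ (Fin 4 ⊕ Fin 4)) F), Cfsg.Geo.IsFieldSubalgebra 3 K → Cfsg.Geo.IsSelfAdjointFor (QuadraticMap.polar (Cfsg.quadFormOdd 4 F)) K → Cfsg.Geo.IsMaximalIn (Cfsg.Geo.omegaGL (Cfsg.quadFormOdd 4 F)) (Cfsg.Geo.subalgebraNormalizer K ⊓ Cfsg.Geo.omegaGL (Cfsg.quadFormOdd 4 F))) ∧
    (∀ (F₀ : Subfield F) (r : ℕ) (P : Matrix.GeneralLinearGroup (Unit ⊕ (Fin 4 ⊕ Fin 4)) F), r.Prime → Fintype.card F = Nat.card F₀ ^ r → Cfsg.Geo.IsQuadFormRationalStructure (Cfsg.quadFormOdd 4 F) F₀ P → Cfsg.Geo.IsMaximalIn (Cfsg.Geo.omegaGL (Cfsg.quadFormOdd 4 F)) (Cfsg.Geo.subfieldSubgroup F₀ P ⊓ Cfsg.Geo.omegaGL (Cfsg.quadFormOdd 4 F))) ∧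
    (5 ≤ Fintype.card F → ∀ (e : (Unit ⊕ (Fin 4 ⊕ Fin 4)) ≃ (Fin 2 → Fin 3)) (P : Matrix.GeneralLinearGroup (Unit ⊕ (Fin 4 ⊕ Fin 4)) F) (f₁ : (Fin 3 → F) → (Fin 3 → F) → F), Cfsg.Geo.IsSymmetricForm f₁ → Cfsg.Geo.IsTensorPowerFormStructure id (QuadraticMap.polar (Cfsg.quadFormOdd 4 F)) f₁ e P → Cfsg.Geo.IsMaximalIn (Cfsg.Geo.omegaGL (Cfsg.quadFormOdd 4 F)) (Cfsg.Geo.tensorWreathSubgroup 3 2 e P ⊓ Cfsg.Geo.omegaGL (Cfsg.quadFormOdd 4 F))) := by
  classical
  have h2 := two_ne_zero_of_odd_card hodd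
  obtain ⟨B, C⟩ := exists_space (isQuad_odd (F := F) 4 h2)
  have hc := card_odd_index 4
  refine ⟨fun W hW0 hW => ?_, fun W hW0 hev hW hex => ?_, fun hprime D hD => ?_,
    fun hq D hD => ?_, fun K hK hsa => ?_, fun F₀ r P hr hcard hP => ?_,
    fun hq e P f₁ hf hT => ?_⟩
  · refine singular_max C (by omega) hW0 hW fun M hM hlt => ?_
    have h1 := Submodule.finrank_lt_finrank_of_lt hlt
    have h3 := ts_bound C hM
    omega
  · obtain ⟨k, hk⟩ := hev
    have hn := ndeg_of_geo C hW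
    have S := split_of_ndeg C hn
    have hadd := S.finrank_add C
    have hne : finrank F W ≠ 0 := fun h => hW0 (Submodule.finrank_eq_zero.mp h)
    have h0 : perpIn B ⊤ W = ⊥ → finrank F W = 9 := fun h => by
      rw [h, finrank_bot] at hadd; omega
    rcases (show finrank F W = 2 ∨ finrank F W = 4 ∨ finrank F W = 6 ∨ finrank F W = 8 by omega)
      with h | h | h | h
    · refine split_max_six C S (by omega) hW0 (by omega) ?_
      by_cases hz : ∀ x ∈ W, (Cfsg.quadFormOdd 4 F) x = 0 → x = 0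
      · exact Or.inl hz
      push Not at hz
      obtain ⟨z, hzW, hQz, hz0⟩ := hz
      refine Or.inr (Or.inr ?_)
      rw [Nat.card_eq_fintype_card]
      by_contra hlt
      have h3 : Fintype.card F = 3 := by
        have := Fintype.one_lt_card (α := F)
        obtain ⟨s, hs⟩ := hodd
        omega
      refine hex ⟨h3, h, Submodule.span F {z},
        (Submodule.span_singleton_le_iff_mem z W).mpr hzW, fun w hw => ?_, ?_⟩
      · obtain ⟨c, rfl⟩ := Submodule.mem_span_singleton.mp hw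
        rw [C.smul, hQz, mul_zero]
      · rw [finrank_span_singleton hz0, h]
    · refine split_max_flex C S (by omega) (fun e f hef => ?_) (Or.inl (by omega)) hW0
        (no_swap_of_lt (by omega)) (Or.inr (Or.inl (by omega)))
      have := hef.le_finrank C
      exact Cfsg.Lib.Linear.Sing.exists_singular C.smul C.polar _ (by omega)
    · rw [S.stab_eq C]
      exact split_max_six C (S.swap C) (by omega) (fun h' => by have := h0 h'; omega) (by omega)
        (Or.inr (Or.inl (by omega)))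
    · rw [S.stab_eq C]
      exact split_max_six C (S.swap C) (by omega) (fun h' => by have := h0 h'; omega) (by omega)
        (Or.inl (Cfsg.Lib.Linear.OrthTen.aniso_of_line C S.ndU (by omega)))
  · exact Cfsg.Lib.Linear.FrameNine.lines_maximal C hodd hprime h2 (by omega) hD
  · exact (blocks_of_geo C h2 le_rfl hD).maximal (Or.inr (exists_mu (by omega)))
  · exact Cfsg.Lib.Linear.OrthExtThree.maximal C h2 Nat.prime_three le_rfl K hK hsa (by omega)
  · refine Cfsg.Lib.Linear.OrthSub7.subfield_max_odd (isQuad_odd 4 h2) (by omega) ⟨4, by omega⟩ h2 hr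
      (by rw [Nat.card_eq_fintype_card]; exact hcard) P one_ne_zero ?_
    simpa using hP
  · exact Cfsg.Lib.Linear.OOTensor.Square.maximal e P (isQuad_odd 4 h2) hodd hq hf hT

end Cfsg.Agent.S5834
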