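import Cfsg.Statements.S5841
import Cfsg.Agent.Lib.Linear.AschU.Maximal

set_option autoImplicit false
open Cfsg Cfsg.Lib.Linear Cfsg.Lib.Linear.Herm Cfsg.Lib.Linear.Asch Cfsg.Lib.Linear.AschU

namespace Cfsg.Agent.S5841

/-- Every maximal subgroup of SU_10(q) is of one of the listed geometric types or lies in the residual class. Let F be the field with q² elements (characteristic p), f the standard unitary form Σ u_i v_i^q on F^10, and H a maximal subgroup of SU_10(q) (inside GL_10(F)). Then H is the intersection with SU_10(q) of one of: the stabiliser of a non-zero totally isotropic subspace; the stabiliser of a non-zero non-degenerate subspace W with 2 dim W < 10; the stabiliser of a decomposition into 10 mutually orthogonal non-degenerate 1-spaces; for q ≥ 3, the stabiliser of a decomposition into 5 mutually orthogonal non-degenerate 2-spaces; the stabiliser of a decomposition into 2 mutually orthogonal non-degenerate 5-spaces;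 of a decomposition into two totally isotropic 5-spaces; the normaliser of an adjoint-closed degree-5 subfield of the matrix algebra; for q ≥ 3, the stabiliser of a tensor decomposition of f into unitary forms on F^2 and F^5; a subfield group of odd prime index whose F₀-structure carries f; a subfield group of index 2 and symplectic type; for q odd, a subfield group of index 2 whose F₀-structure carries f — or else H lies in the residual class of the unitary case (modulo scalars H is almost simple, with absolutely irreducible perfect socle preimage realisable over no proper subfield and fixing no non-degenerate quadratic or symplectic form). -/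
theorem result {F : Type*} [Field F] [Fintype F] (q : ℕ) (hF : Fintype.card F = q ^ 2) (H : Subgroup (Matrix.GeneralLinearGroup (Fin 10) F)) (hH : Cfsg.Geo.IsMaximalIn (Cfsg.GU 10 F q ⊓ Cfsg.Geo.specialLinear (Fin 10) F) H) :
    (∃ W : Submodule F (Fin 10 → F), W ≠ ⊥ ∧ Cfsg.Geo.IsTotallySingularFor (Cfsg.hermForm 10 F q) W ∧ H = Cfsg.Geo.subspaceStabilizer W ⊓ (Cfsg.GU 10 F q ⊓ Cfsg.Geo.specialLinear (Fin 10) F)) ∨
    (∃ W : Submodule F (Fin 10 → F), W ≠ ⊥ ∧ Cfsg.Geo.IsNondegenerateOn (Cfsg.hermForm 10 F q) W ∧ 2 * Module.finrank F W < 10 ∧ H = Cfsg.Geo.subspaceStabilizer W ⊓ (Cfsg.GU 10 F q ⊓ Cfsg.Geo.specialLinear (Fin 10) F)) ∨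
    (∃ D : Fin 10 → Submodule F (Fin 10 → F), Cfsg.Geo.IsNondegenerateMDecomposition (Cfsg.hermForm 10 F q) 1 D ∧ H = Cfsg.Geo.decompositionStabilizer D ⊓ (Cfsg.GU 10 F q ⊓ Cfsg.Geo.specialLinear (Fin 10) F)) ∨
    (3 ≤ q ∧ ∃ D : Fin 5 → Submodule F (Fin 10 → F), Cfsg.Geo.IsNondegenerateMDecomposition (Cfsg.hermForm 10 F q) 2 D ∧ H = Cfsg.Geo.decompositionStabilizer D ⊓ (Cfsg.GU 10 F q ⊓ Cfsg.Geo.specialLinear (Fin 10) F)) ∨
    (∃ D : Fin 2 → Submodule F (Fin 10 → F), Cfsg.Geo.IsNondegenerateMDecomposition (Cfsg.hermForm 10 F q) 5 D ∧ H = Cfsg.Geo.decompositionStabilizer D ⊓ (Cfsg.GU 10 F q ⊓ Cfsg.Geo.specialLinear (Fin 10) F)) ∨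
    (∃ D : Fin 2 → Submodule F (Fin 10 → F), Cfsg.Geo.IsMDecomposition 5 D ∧ (∀ i, Cfsg.Geo.IsTotallySingularFor (Cfsg.hermForm 10 F q) (D i)) ∧ H = Cfsg.Geo.decompositionStabilizer D ⊓ (Cfsg.GU 10 F q ⊓ Cfsg.Geo.specialLinear (Fin 10) F)) ∨
    (∃ K : Subalgebra F (Matrix (Fin 10) (Fin 10) F), Cfsg.Geo.IsFieldSubalgebra 5 K ∧ Cfsg.Geo.IsAdjointClosedFor (Cfsg.hermForm 10 F q) K ∧ H = Cfsg.Geo.subalgebraNormalizer K ⊓ (Cfsg.GU 10 F q ⊓ Cfsg.Geo.specialLinear (Fin 10) F)) ∨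
    (3 ≤ q ∧ ∃ (e : Fin 10 ≃ Fin 2 × Fin 5) (P : Matrix.GeneralLinearGroup (Fin 10) F) (f₁ : (Fin 2 → F) → (Fin 2 → F) → F) (f₂ : (Fin 5 → F) → (Fin 5 → F) → F), Cfsg.Geo.IsUnitaryFormPow q f₁ ∧ Cfsg.Geo.IsUnitaryFormPow q f₂ ∧ Cfsg.Geo.IsTensorFormStructure (fun x : F => x ^ q) (Cfsg.hermForm 10 F q) f₁ f₂ e P ∧ H = Cfsg.Geo.tensorProductSubgroup 2 5 e P ⊓ (Cfsg.GU 10 F q ⊓ Cfsg.Geo.specialLinear (Fin 10) F)) ∨
    (∃ (F₀ : Subfield F) (r : ℕ) (P : Matrix.GeneralLinearGroup (Fin 10) F), r.Prime ∧ Odd r ∧ Fintype.card F = Nat.card F₀ ^ r ∧ Cfsg.Geo.IsFormRationalStructure (Cfsg.hermForm 10 F q) F₀ 1 P ∧ H = Cfsg.Geo.subfieldSubgroup F₀ P ⊓ (Cfsg.GU 10 F q ⊓ Cfsg.Geo.specialLinear (Fin 10) F)) ∨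
    (∃ (F₀ : Subfield F) (P : Matrix.GeneralLinearGroup (Fin 10) F) (ζ : F), Fintype.card F = Nat.card F₀ ^ 2 ∧ ζ ≠ 0 ∧ ζ + ζ ^ q = 0 ∧ Cfsg.Geo.IsFormRationalStructure (Cfsg.hermForm 10 F q) F₀ ζ P ∧ (∀ u : Fin 10 → F, (∀ i, u i ∈ F₀) → (Cfsg.hermForm 10 F q) (Matrix.mulVec (P : Matrix (Fin 10) (Fin 10) F) u) (Matrix.mulVec (P : Matrix (Fin 10) (Fin 10) F) u) = 0) ∧ H = Cfsg.Geo.subfieldSubgroup F₀ P ⊓ (Cfsg.GU 10 F q ⊓ Cfsg.Geo.specialLinear (Fin 10) F)) ∨
    (Odd q ∧ ∃ (F₀ : Subfield F) (P : Matrix.GeneralLinearGroup (Fin 10) F), Fintype.card F = Nat.card F₀ ^ 2 ∧ Cfsg.Geo.IsFormRationalStructure (Cfsg.hermForm 10 F q) F₀ 1 P ∧ H = Cfsg.Geo.subfieldSubgroup F₀ P ⊓ (Cfsg.GU 10 F q ⊓ Cfsg.Geo.specialLinear (Fin 10) F)) ∨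
    Cfsg.Geo.InUnitaryResidualClass H := by
  cases unitary_cases hF (by norm_num) (hH.1.le.trans inf_le_left) with
  | totSing W h0 hts hle =>
    exact Or.inl (⟨W, h0, hts, max_totSing hF (by norm_num) hH h0 hts hle⟩)
  | small W h0 hnd hlt hle =>
    exact Or.inr (Or.inl (⟨W, h0, hnd, hlt, max_small hF (by norm_num) hH h0 hlt hle⟩))
  | orth t k D hD hc hle =>
    have ht2 := hD.decomp.two_le
    have htn : t ≤ 10 := Nat.le_of_dvd (by norm_num) ⟨k, hc.symm⟩
    have hkn : k ≤ 10 := Nat.le_of_dvd (by norm_num) ⟨t, (mul_comm t k ▸ hc).symm⟩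
    obtain ⟨rfl, rfl⟩ | ⟨rfl, rfl⟩ | ⟨rfl, rfl⟩ : (t = 2 ∧ k = 5) ∨ (t = 5 ∧ k = 2) ∨ (t = 10 ∧ k = 1) := by
      interval_cases t <;> omega
    · exact Or.inr (Or.inr (Or.inr (Or.inr (Or.inl (⟨D, hD, max_decomp hF (by norm_num) hH hD.decomp hle⟩)))))
    · rcases (two_le_q hF).lt_or_eq with hq | hq
      · exact Or.inr (Or.inr (Or.inr (Or.inl (⟨hq, D, hD, max_decomp hF (by norm_num) hH hD.decomp hle⟩))))
      · subst hq
        obtain ⟨D', hD', hle'⟩ := planes_to_lines hF hD (by norm_num) (hH.1.le.trans inf_le_left) hle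
        exact Or.inr (Or.inr (Or.inl (⟨D', hD', max_decomp hF (by norm_num) hH hD'.decomp hle'⟩)))
    · exact Or.inr (Or.inr (Or.inl (⟨D, hD, max_decomp hF (by norm_num) hH hD.decomp hle⟩)))
  | pair k D hc hD hts hle =>
    obtain rfl : k = 5 := by omega
    exact Or.inr (Or.inr (Or.inr (Or.inr (Or.inr (Or.inl (⟨D, hD, hts, max_decomp hF (by norm_num) hH hD hle⟩))))))
  | field r K hr hodd hdvd hK hadj hle =>
    have hrn := Nat.le_of_dvd (by norm_num) hdvd
    obtain rfl : r = 5 := by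
      interval_cases r <;> first | rfl | (exfalso; revert hr hodd hdvd; decide)
    exact Or.inr (Or.inr (Or.inr (Or.inr (Or.inr (Or.inr (Or.inl (⟨K, hK, hadj, max_field hF (by norm_num) hH hr hK hle⟩)))))))
  | tensor n₁ n₂ e P hP h2 hlt hc hle =>
    have hn2 : n₂ ≤ 10 := Nat.le_of_dvd (by norm_num) ⟨n₁, hc.trans (mul_comm _ _)⟩
    have hn1 : n₁ < 10 := lt_of_lt_of_le hlt hn2
    obtain ⟨rfl, rfl⟩ : (n₁ = 2 ∧ n₂ = 5) := by
      interval_cases n₁ <;> omega
    · rcases (two_le_q hF).lt_or_eq with hq | hq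
      · exact Or.inr (Or.inr (Or.inr (Or.inr (Or.inr (Or.inr (Or.inr (Or.inl (⟨hq, max_tensor hF hH (by norm_num) (by norm_num) e hP hle⟩))))))))
      · subst hq
        obtain ⟨D, hD, hle'⟩ := tensor_plane_to_orth hF (by norm_num) e hP (hH.1.le.trans inf_le_left) hle
        exact Or.inr (Or.inr (Or.inr (Or.inr (Or.inl (⟨D, hD, max_decomp hF (by norm_num) hH hD.decomp hle'⟩)))))
  | power k t e P hP hk ht hne hc hle =>
    have h2 : k ^ 2 ≤ 10 := hc ▸ Nat.pow_le_pow_right (by omega) ht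
    exfalso
    have hk3 : k ≤ 3 := not_lt.1 fun h => by nlinarith
    obtain rfl : k = 3 := le_antisymm hk hk3 |>.symm
    rcases Nat.lt_or_ge t 3 with h | h
    · obtain rfl : t = 2 := by omega
      norm_num at hc
    · have := Nat.pow_le_pow_right (show 3 > 0 by norm_num) h
      omega
  | subfld h =>
    rcases max_subfield hF (by norm_num) hH h with h | h | ⟨F₀, P, ζ, hev, h⟩
    · exact Or.inr (Or.inr (Or.inr (Or.inr (Or.inr (Or.inr (Or.inr (Or.inr (Or.inl (h)))))))))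
    · exact Or.inr (Or.inr (Or.inr (Or.inr (Or.inr (Or.inr (Or.inr (Or.inr (Or.inr (Or.inr (Or.inl (h)))))))))))
    · exact Or.inr (Or.inr (Or.inr (Or.inr (Or.inr (Or.inr (Or.inr (Or.inr (Or.inr (Or.inl (⟨F₀, P, ζ, h⟩))))))))))
  | six R r p e k h hle =>
    have hd := h.dim
    have hpr := h.symp.prime
    exfalso
    rcases k with _ | k
    · norm_num at hd
    · have hrn : r ∣ 10 := ⟨r ^ k, by rw [← pow_succ']; exact hd⟩
      have := Nat.le_of_dvd (by norm_num) hrn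
      have hk : k + 1 ≤ 4 := by
        by_contra hlt
        have h5 := (Nat.pow_le_pow_left hpr.two_le _).trans' (Nat.pow_le_pow_right (show 2 > 0 by norm_num) (show 5 ≤ k + 1 by omega))
        omega
      have hk3 : k ≤ 3 := by omega
      interval_cases r <;> first | (exfalso; revert hpr; decide) | (interval_cases k <;> norm_num at hd)
  | residual h =>
    exact Or.inr (Or.inr (Or.inr (Or.inr (Or.inr (Or.inr (Or.inr (Or.inr (Or.inr (Or.inr (Or.inr (h)))))))))))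

end Cfsg.Agent.S5841
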