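import Cfsg.Statements.S5846
import Cfsg.Agent.Lib.Linear.OrthSplitMax
import Cfsg.Agent.Lib.Linear.OrthTenHelp
import Cfsg.Agent.Lib.Linear.FrameMax.Max
import Cfsg.Agent.Lib.Linear.ODec.Max
import Cfsg.Agent.Lib.Linear.OrthOdd
import Cfsg.Agent.Lib.Linear.OrthExt.Max
import Cfsg.Agent.Lib.Linear.OrthOverfieldMax
import Cfsg.Agent.Lib.Linear.OrthSubfieldMax

set_option autoImplicit false
open Cfsg

namespace Cfsg.Agent.S5846

open Module Cfsg.Lib.Linear.Orth Cfsg.Lib.Linear.OrthTen

/-- Maximal subgroups of Ω_10^+(q) of geometric type (any q). Let F be a finite field with q elements (characteristic p), Q a non-degenerate quadratic form on F^10 (non-degenerate polar form) of plus type (Witt index 5: some totally singular 5-space), and Ω = Ω_10^+(q) the commutator subgroup of the isometry group of Q, inside GL_10(F). Each of the following, intersected with Ω, is a maximal subgroup of Ω: (1) the stabiliser of any non-zero subspace on which Q vanishes identically other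 than those of dimension 4 (totally singular subspaces, dimensions 1, 2, 3 and 5); (2) for q odd, the stabiliser of any proper subspace of odd dimension other than 5 on which the polar form of Q is non-degenerate; (3) the stabiliser of any non-degenerate 2-space of minus type (containing no non-zero singular vector); (4) for q ≥ 4, the stabiliser of any non-degenerate 2-space of plus type (containing a non-zero singular vector); (5) the stabiliser of any non-degenerate 4-space (either type); (6) for q even, the stabiliser of the 1-space spanned by any non-singular vector v (Q(v) ≠ 0); (7) for q = p prime with p ≡ 1 mod 4, the stabiliser of any decomposition of F^10 into 10 pairwise orthogonal, pairwise Q-isometric non-degenerate 1-spaces; (8) for q ≥ 7, the stabiliser of any decomposition of F^10 into 5 pairwise orthogonal, pairwise Q-isometric non-degenerate 2-spaces; (9) for q ≡ 1 mod 4, the stabiliser of any decomposition of F^10 into 2 pairwise orthogonal, pairwise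 Q-isometric non-degenerate 5-spaces; (10) for q ≡ 3 mod 4, the stabiliser of any decomposition of F^10 into two orthogonal non-degenerate 5-spaces that are not Q-isometric; (11) for q odd, the normaliser of any degree-2 subfield K of the matrix algebra whose elements are self-adjoint for the polar form of Q (Q is then the trace of a quadratic form over K); (12) every subfield group for a subfield F₀ with |F| = |F₀|^r, r prime, whose F₀-structure carries a non-zero scalar multiple of Q. -/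
theorem result {F : Type*} [Field F] [Fintype F] (Q : (Fin 10 → F) → F) (hQ : Cfsg.Geo.IsNondegenerateQuadraticForm Q) (hplus : Cfsg.Geo.IsPlusTypeOn Q ⊤) :
    (∀ W : Submodule F (Fin 10 → F), W ≠ ⊥ → Cfsg.Geo.IsTotallySingularQuad Q W → Module.finrank F W ≠ 4 → Cfsg.Geo.IsMaximalIn (Cfsg.Geo.omegaGL Q) (Cfsg.Geo.subspaceStabilizer W ⊓ Cfsg.Geo.omegaGL Q)) ∧
    (Odd (Fintype.card F) → ∀ W : Submodule F (Fin 10 → F), W ≠ ⊥ → W ≠ ⊤ → Odd (Module.finrank F W) → 2 * Module.finrank F W ≠ 10 → Cfsg.Geo.IsNondegenerateOn (QuadraticMap.polar Q) W → Cfsg.Geo.IsMaximalIn (Cfsg.Geo.omegaGL Q) (Cfsg.Geo.subspaceStabilizer W ⊓ Cfsg.Geo.omegaGL Q)) ∧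
    (∀ W : Submodule F (Fin 10 → F), Module.finrank F W = 2 → Cfsg.Geo.IsNondegenerateOn (QuadraticMap.polar Q) W → ¬ Cfsg.Geo.IsPlusTypeOn Q W → Cfsg.Geo.IsMaximalIn (Cfsg.Geo.omegaGL Q) (Cfsg.Geo.subspaceStabilizer W ⊓ Cfsg.Geo.omegaGL Q)) ∧
    (4 ≤ Fintype.card F → ∀ W : Submodule F (Fin 10 → F), Module.finrank F W = 2 → Cfsg.Geo.IsNondegenerateOn (QuadraticMap.polar Q) W → Cfsg.Geo.IsPlusTypeOn Q W → Cfsg.Geo.IsMaximalIn (Cfsg.Geo.omegaGL Q) (Cfsg.Geo.subspaceStabilizer W ⊓ Cfsg.Geo.omegaGL Q)) ∧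
    (∀ W : Submodule F (Fin 10 → F), Module.finrank F W = 4 → Cfsg.Geo.IsNondegenerateOn (QuadraticMap.polar Q) W → Cfsg.Geo.IsMaximalIn (Cfsg.Geo.omegaGL Q) (Cfsg.Geo.subspaceStabilizer W ⊓ Cfsg.Geo.omegaGL Q)) ∧
    (¬ Odd (Fintype.card F) → ∀ v : (Fin 10 → F), Q v ≠ 0 → Cfsg.Geo.IsMaximalIn (Cfsg.Geo.omegaGL Q) (Cfsg.Geo.subspaceStabilizer (Submodule.span F {v}) ⊓ Cfsg.Geo.omegaGL Q)) ∧
    ((∃ p : ℕ, p.Prime ∧ Fintype.card F = p ∧ (p % 4 = 1)) → ∀ D : Fin 10 → Submodule F (Fin 10 → F), Cfsg.Geo.IsOrthogonalMDecomposition Q 1 D → Cfsg.Geo.IsMaximalIn (Cfsg.Geo.omegaGL Q) (Cfsg.Geo.decompositionStabilizer D ⊓ Cfsg.Geo.omegaGL Q)) ∧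
    (7 ≤ Fintype.card F → ∀ D : Fin 5 → Submodule F (Fin 10 → F), Cfsg.Geo.IsOrthogonalMDecomposition Q 2 D → Cfsg.Geo.IsMaximalIn (Cfsg.Geo.omegaGL Q) (Cfsg.Geo.decompositionStabilizer D ⊓ Cfsg.Geo.omegaGL Q)) ∧
    (Fintype.card F % 4 = 1 → ∀ D : Fin 2 → Submodule F (Fin 10 → F), Cfsg.Geo.IsOrthogonalMDecomposition Q 5 D → Cfsg.Geo.IsMaximalIn (Cfsg.Geo.omegaGL Q) (Cfsg.Geo.decompositionStabilizer D ⊓ Cfsg.Geo.omegaGL Q)) ∧
    (Fintype.card F % 4 = 3 → ∀ D : Fin 2 → Submodule F (Fin 10 → F), Cfsg.Geo.IsNondegenerateMDecomposition (QuadraticMap.polar Q) 5 D → ¬ Cfsg.Geo.AreIsometricFor Q (D 0) (D 1) → Cfsg.Geo.IsMaximalIn (Cfsg.Geo.omegaGL Q) (Cfsg.Geo.decompositionStabilizer D ⊓ Cfsg.Geo.omegaGL Q)) ∧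
    (Odd (Fintype.card F) → ∀ K : Subalgebra F (Matrix (Fin 10) (Fin 10) F), Cfsg.Geo.IsFieldSubalgebra 2 K → Cfsg.Geo.IsSelfAdjointFor (QuadraticMap.polar Q) K → Cfsg.Geo.IsMaximalIn (Cfsg.Geo.omegaGL Q) (Cfsg.Geo.subalgebraNormalizer K ⊓ Cfsg.Geo.omegaGL Q)) ∧
    (∀ (F₀ : Subfield F) (r : ℕ) (P : Matrix.GeneralLinearGroup (Fin 10) F) (ζ : F), r.Prime → Fintype.card F = Nat.card F₀ ^ r → ζ ≠ 0 → Cfsg.Geo.IsQuadFormRationalStructure (fun v : Fin 10 → F => ζ * Q v) F₀ P → Cfsg.Geo.IsMaximalIn (Cfsg.Geo.omegaGL Q) (Cfsg.Geo.subfieldSubgroup F₀ P ⊓ Cfsg.Geo.omegaGL Q)) := by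
  classical
  obtain ⟨B, C⟩ := exists_space hQ
  have hc : Fintype.card (Fin 10) = 10 := Fintype.card_fin 10
  have hq1 := Fintype.one_lt_card (α := F)
  have htop : finrank F (⊤ : Submodule F (Fin 10 → F)) = 10 := by
    rw [finrank_top, finrank_fintype_fun_eq_card, hc]
  refine ⟨fun W hW0 hW h4 => ?_, fun hodd W hW0 hW1 hd hne hW => ?_,
    fun W hd hW hnp => ?_, fun hq W hd hW hp => ?_, fun W hd hW => ?_, fun hev v hv => ?_,
    fun hp D hD => ?_, fun hq D hD => ?_, fun hq D hD => ?_, fun hq D hD _ => ?_,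
    fun hodd K hK hsa => ?_, fun F₀ r P ζ hr hcard hζ hP => ?_⟩
  · refine singular_max C (by omega) hW0 hW fun M hM hlt => ?_
    have h1 := Submodule.finrank_lt_finrank_of_lt hlt
    have h2 := ts_bound C hM
    omega
  · have h0 : finrank F W ≠ 0 := fun h => hW0 (Submodule.finrank_eq_zero.mp h)
    have h1 := Submodule.finrank_lt_finrank_of_lt hW1.lt_top
    have h2 := Nat.odd_iff.mp hd
    exact nondeg_max_ten C hc (ndeg_of_geo C hW) h0 (by omega) (by omega) (by omega) (by omega)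
  · exact nondeg_max_ten C hc (ndeg_of_geo C hW) (by omega) (by omega) (by omega) (by omega)
      fun _ => Or.inl (aniso_of_not_plus C hd hnp)
  · exact nondeg_max_ten C hc (ndeg_of_geo C hW) (by omega) (by omega) (by omega) (by omega)
      fun _ => Or.inr (by rw [Nat.card_eq_fintype_card]; exact hq)
  · exact nondeg_max_ten C hc (ndeg_of_geo C hW) (by omega) (by omega) (by omega) (by omega)
      (by omega)
  · exact nonsingular_line_max C (by omega) hv
  · obtain ⟨p, hp, hpc, hpm⟩ := hp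
    have hodd : Odd (Fintype.card F) := Nat.odd_iff.mpr (by omega)
    exact Cfsg.Lib.Linear.FrameMax.lines_maximal C hodd (hpc ▸ hp) (two_ne_zero_of_odd_card hodd)
      (by omega) hD
  · have X := Cfsg.Lib.Linear.ODec.dec_of_geo_twelve C (by omega) le_rfl hD
    exact X.maximal (X.small_of (by decide) (fun _ => by omega) (fun _ _ => by omega)
      (fun h => by omega))
  · exact (blocks_of_geo C (two_ne_zero_of_odd_card (Nat.odd_iff.mpr (by omega))) (by norm_num)
      hD).maximal (Or.inl le_rfl)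
  · exact (blocks_of_pair C (two_ne_zero_of_odd_card (Nat.odd_iff.mpr (by omega))) (by norm_num)
      hD).maximal (Or.inl le_rfl)
  · exact Cfsg.Lib.Linear.OrthExt.maximal C (two_ne_zero_of_odd_card hodd) Nat.prime_two K hK hsa
      (by omega) (Or.inl (by omega))
  · exact Cfsg.Lib.Linear.OrthSub.subfield_max' hQ (by omega) (Or.inl (Or.inr hc)) hr
      (by rw [Nat.card_eq_fintype_card]; exact hcard) P hζ hP

end Cfsg.Agent.S5846
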