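import Cfsg.Statements.S5870
import Cfsg.Agent.Lib.Linear.OrthSplitMax
import Cfsg.Agent.Lib.Linear.FrameMax.Max
import Cfsg.Agent.Lib.Linear.ODec.Max
import Cfsg.Agent.Lib.Linear.OrthOdd
import Cfsg.Agent.Lib.Linear.OrthPair
import Cfsg.Agent.Lib.Linear.OrthExt.Max
import Cfsg.Agent.Lib.Linear.OrthOverfieldMax
import Cfsg.Agent.Lib.Linear.SpTensor.Max
import Cfsg.Agent.Lib.Linear.OrthSubfieldMax

set_option autoImplicit false
open Cfsg

namespace Cfsg.Agent.S5870

open Module Cfsg.Lib.Linear.Orth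
open scoped Matrix

/-- The stabiliser of a decomposition into two totally singular six-spaces is maximal. -/
theorem pair_max {F : Type*} [Field F] [Fintype F] {Q : (Fin 12 → F) → F}
    {B : LinearMap.BilinForm F (Fin 12 → F)} (C : Space Q B)
    (D : Fin 2 → Submodule F (Fin 12 → F)) (hD : Cfsg.Geo.IsMDecomposition 6 D)
    (hts : ∀ i, Cfsg.Geo.IsTotallySingularQuad Q (D i)) :
    Cfsg.Geo.IsMaximalIn (Cfsg.Geo.omegaGL Q)
      (Cfsg.Geo.decompositionStabilizer D ⊓ Cfsg.Geo.omegaGL Q) := by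
  have hk : 2 * 6 = 12 := rfl
  have hke : Even 6 := by decide
  have hc : Fintype.card (Fin 12) = 12 := Fintype.card_fin 12
  have P := halfPair_of_decomp hk hD hts
  have hM2 : 2 ≤ finrank F (D 0) := by rw [hD.finrank_eq]; omega
  obtain ⟨u, hu, hu0⟩ := Submodule.exists_mem_ne_zero_of_ne_bot
    (p := D 0) (fun h => by rw [h, finrank_bot] at hM2; omega)
  obtain ⟨a, ha, ha'⟩ : ∃ a ∈ D 0, a ∉ Submodule.span F {u} :=
    SetLike.not_le_iff_exists.mp (show ¬ D 0 ≤ Submodule.span F {u} from fun h => by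
      have := Submodule.finrank_mono h
      rw [finrank_span_singleton hu0] at this
      omega)
  obtain ⟨hfix, q, hq, hqN, hqM⟩ := P.mover C hu ha ha' hu0
  have hgΩ : sGL Q B u a ∈ Cfsg.Geo.omegaGL Q := by
    rw [omegaGL_eq C (by omega)]
    exact sGL_mem_root trivial trivial (P.left.1 u hu) (ts_orth C P.left.1 hu ha)
  refine ⟨lt_of_le_of_ne inf_le_right fun heq => ?_, fun H hLH hHΩ => ?_⟩
  · have hmem : sGL Q B u a ∈ Cfsg.Geo.decompositionStabilizer D := by
      have : sGL Q B u a ∈ Cfsg.Geo.decompositionStabilizer D ⊓ Cfsg.Geo.omegaGL Q := by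
        rw [heq]; exact hgΩ
      exact this.1
    rcases mem_decompStab_two.mp hmem with ⟨-, h1⟩ | ⟨-, h1⟩
    · exact hqN (h1 ▸ ⟨q, hq, rfl⟩)
    · exact hqM (h1 ▸ ⟨q, hq, rfl⟩)
  obtain ⟨σ, hσ, hσM, hσN⟩ := P.exists_swapper C (by omega) (hD.finrank_eq 0) hke
  have hσL : σ ∈ Cfsg.Geo.decompositionStabilizer D := by
    refine mem_decompStab_two.mpr (Or.inr ⟨?_, ?_⟩) <;>
      refine Submodule.eq_of_le_of_finrank_eq ?_ (by
        rw [finrank_img, hD.finrank_eq, hD.finrank_eq])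
    · exact fun _ ⟨y, hy, e⟩ => e ▸ hσM y hy
    · exact fun _ ⟨y, hy, e⟩ => e ▸ hσN y hy
  have hHI : H ≤ isometryGroup F Q :=
    hHΩ.trans (omegaGL_eq C (by omega : 5 ≤ Fintype.card (Fin 12)) ▸ root_le_iso C ⊤)
  have hstab : Cfsg.Geo.subspaceStabilizer (D 0) ⊓ Cfsg.Geo.subspaceStabilizer (D 1) ⊓
      Cfsg.Geo.omegaGL Q ≤ H := fun g hg => hLH (by
    refine ⟨mem_decompStab_two.mpr (Or.inl ⟨?_, ?_⟩), hg.2⟩ <;>
      refine Submodule.eq_of_le_of_finrank_eq ?_ (finrank_img _ _)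
    · exact fun _ ⟨y, hy, e⟩ => e ▸ stab_mem hg.1.1 hy
    · exact fun _ ⟨y, hy, e⟩ => e ▸ stab_mem hg.1.2 hy)
  rcases P.stab_or_top C (by omega) hHI hstab (hLH ⟨hσL, hσ⟩) hσM hσN with h | h
  · exact Or.inl (le_antisymm (fun g hg => ⟨mem_decompStab_two.mpr (h g hg), hHΩ hg⟩) hLH)
  · exact Or.inr (le_antisymm hHΩ h)


/-- Maximal subgroups of Ω_12^+(q) of geometric type (any q). Let F be a finite field with q elements (characteristic p), Q a non-degenerate quadratic form on F^12 (non-degenerate polar form) of plus type (Witt index 6: some totally singular 6-space), and Ω = Ω_12^+(q) the commutator subgroup of the isometry group of Q, inside GL_12(F). Each of the following, intersected with Ω, is a maximal subgroup of Ω: (1) the stabiliser of any non-zero subspace on which Q vanishes identically other than those of dimension 5 (totally singular subspaces, dimensions 1, 2, 3, 4 and 6); (2) for q odd, the stabiliser of any subspace of odd dimension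 on which the polar form of Q is non-degenerate; (3) the stabiliser of any non-degenerate 2-space of minus type (containing no non-zero singular vector); (4) for q ≥ 4, the stabiliser of any non-degenerate 2-space of plus type (containing a non-zero singular vector); (5) the stabiliser of any non-degenerate 4-space (either type); (6) for q even, the stabiliser of the 1-space spanned by any non-singular vector v (Q(v) ≠ 0); (7) for q = p an odd prime, the stabiliser of any decomposition of F^12 into 12 pairwise orthogonal, pairwise Q-isometric non-degenerate 1-spaces; (8) for q ≥ 7, the stabiliser of any decomposition of F^12 into 6 pairwise orthogonal, pairwise Q-isometric non-degenerate 2-spaces of plus type; (9) for q ≠ 3, the stabiliser of any decomposition of F^12 into 6 pairwise orthogonal, pairwise Q-isometric non-degenerate 2-spaces of minus type; (10) for q odd with q ≥ 5, the stabiliser of any decomposition of F^12 into 4 pairwise orthogonal,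 pairwise Q-isometric non-degenerate 3-spaces; (11) for q ≥ 3, the stabiliser of any decomposition of F^12 into 3 pairwise orthogonal, pairwise Q-isometric non-degenerate 4-spaces; (12) the stabiliser of any decomposition of F^12 into 2 pairwise orthogonal, pairwise Q-isometric non-degenerate 6-spaces; (13) the stabiliser of any decomposition into two totally singular 6-spaces; (14) for q odd, the normaliser of any degree-2 subfield K of the matrix algebra whose elements are self-adjoint for the polar form of Q (Q is then the trace of a quadratic form over K); (15) for q odd, the normaliser of any degree-3 subfield K of the matrix algebra whose elements are self-adjoint for the polar form of Q (Q is then the trace of a quadratic form over K); (16) the normaliser of any degree-2 subfield K of the matrix algebra, closed under adjoints for the polar form but not self-adjoint, whose elements act as similarities of Q (so F^12 becomes a 6-dimensional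 space over K with a hermitian form, and the subgroup is of the type of the unitary group GU_6(q)); (17) for q ≥ 3, the stabiliser of any tensor decomposition F^12 = F^2 ⊗ F^6 in which the polar form of Q is (alternating form) ⊗ (alternating form) up to a scalar and Q vanishes on all pure tensors; (18) every subfield group for a subfield F₀ with |F| = |F₀|^r, r prime, whose F₀-structure carries a non-zero scalar multiple of Q. -/
theorem result {F : Type*} [Field F] [Fintype F] (Q : (Fin 12 → F) → F) (hQ : Cfsg.Geo.IsNondegenerateQuadraticForm Q) (hplus : Cfsg.Geo.IsPlusTypeOn Q ⊤) :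
    (∀ W : Submodule F (Fin 12 → F), W ≠ ⊥ → Cfsg.Geo.IsTotallySingularQuad Q W → Module.finrank F W ≠ 5 → Cfsg.Geo.IsMaximalIn (Cfsg.Geo.omegaGL Q) (Cfsg.Geo.subspaceStabilizer W ⊓ Cfsg.Geo.omegaGL Q)) ∧
    (Odd (Fintype.card F) → ∀ W : Submodule F (Fin 12 → F), W ≠ ⊥ → W ≠ ⊤ → Odd (Module.finrank F W) → 2 * Module.finrank F W ≠ 12 → Cfsg.Geo.IsNondegenerateOn (QuadraticMap.polar Q) W → Cfsg.Geo.IsMaximalIn (Cfsg.Geo.omegaGL Q) (Cfsg.Geo.subspaceStabilizer W ⊓ Cfsg.Geo.omegaGL Q)) ∧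
    (∀ W : Submodule F (Fin 12 → F), Module.finrank F W = 2 → Cfsg.Geo.IsNondegenerateOn (QuadraticMap.polar Q) W → ¬ Cfsg.Geo.IsPlusTypeOn Q W → Cfsg.Geo.IsMaximalIn (Cfsg.Geo.omegaGL Q) (Cfsg.Geo.subspaceStabilizer W ⊓ Cfsg.Geo.omegaGL Q)) ∧
    (4 ≤ Fintype.card F → ∀ W : Submodule F (Fin 12 → F), Module.finrank F W = 2 → Cfsg.Geo.IsNondegenerateOn (QuadraticMap.polar Q) W → Cfsg.Geo.IsPlusTypeOn Q W → Cfsg.Geo.IsMaximalIn (Cfsg.Geo.omegaGL Q) (Cfsg.Geo.subspaceStabilizer W ⊓ Cfsg.Geo.omegaGL Q)) ∧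
    (∀ W : Submodule F (Fin 12 → F), Module.finrank F W = 4 → Cfsg.Geo.IsNondegenerateOn (QuadraticMap.polar Q) W → Cfsg.Geo.IsMaximalIn (Cfsg.Geo.omegaGL Q) (Cfsg.Geo.subspaceStabilizer W ⊓ Cfsg.Geo.omegaGL Q)) ∧
    (¬ Odd (Fintype.card F) → ∀ v : (Fin 12 → F), Q v ≠ 0 → Cfsg.Geo.IsMaximalIn (Cfsg.Geo.omegaGL Q) (Cfsg.Geo.subspaceStabilizer (Submodule.span F {v}) ⊓ Cfsg.Geo.omegaGL Q)) ∧
    ((∃ p : ℕ, p.Prime ∧ Odd p ∧ Fintype.card F = p) → ∀ D : Fin 12 → Submodule F (Fin 12 → F), Cfsg.Geo.IsOrthogonalMDecomposition Q 1 D → Cfsg.Geo.IsMaximalIn (Cfsg.Geo.omegaGL Q) (Cfsg.Geo.decompositionStabilizer D ⊓ Cfsg.Geo.omegaGL Q)) ∧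
    (7 ≤ Fintype.card F → ∀ D : Fin 6 → Submodule F (Fin 12 → F), Cfsg.Geo.IsOrthogonalMDecomposition Q 2 D → (∀ i, Cfsg.Geo.IsPlusTypeOn Q (D i)) → Cfsg.Geo.IsMaximalIn (Cfsg.Geo.omegaGL Q) (Cfsg.Geo.decompositionStabilizer D ⊓ Cfsg.Geo.omegaGL Q)) ∧
    (Fintype.card F ≠ 3 → ∀ D : Fin 6 → Submodule F (Fin 12 → F), Cfsg.Geo.IsOrthogonalMDecomposition Q 2 D → (∀ i, ¬ Cfsg.Geo.IsPlusTypeOn Q (D i)) → Cfsg.Geo.IsMaximalIn (Cfsg.Geo.omegaGL Q) (Cfsg.Geo.decompositionStabilizer D ⊓ Cfsg.Geo.omegaGL Q)) ∧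
    (Odd (Fintype.card F) ∧ 5 ≤ Fintype.card F → ∀ D : Fin 4 → Submodule F (Fin 12 → F), Cfsg.Geo.IsOrthogonalMDecomposition Q 3 D → Cfsg.Geo.IsMaximalIn (Cfsg.Geo.omegaGL Q) (Cfsg.Geo.decompositionStabilizer D ⊓ Cfsg.Geo.omegaGL Q)) ∧
    (3 ≤ Fintype.card F → ∀ D : Fin 3 → Submodule F (Fin 12 → F), Cfsg.Geo.IsOrthogonalMDecomposition Q 4 D → Cfsg.Geo.IsMaximalIn (Cfsg.Geo.omegaGL Q) (Cfsg.Geo.decompositionStabilizer D ⊓ Cfsg.Geo.omegaGL Q)) ∧
    (∀ D : Fin 2 → Submodule F (Fin 12 → F), Cfsg.Geo.IsOrthogonalMDecomposition Q 6 D → Cfsg.Geo.IsMaximalIn (Cfsg.Geo.omegaGL Q) (Cfsg.Geo.decompositionStabilizer D ⊓ Cfsg.Geo.omegaGL Q)) ∧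
    (∀ D : Fin 2 → Submodule F (Fin 12 → F), Cfsg.Geo.IsMDecomposition 6 D → (∀ i, Cfsg.Geo.IsTotallySingularQuad Q (D i)) → Cfsg.Geo.IsMaximalIn (Cfsg.Geo.omegaGL Q) (Cfsg.Geo.decompositionStabilizer D ⊓ Cfsg.Geo.omegaGL Q)) ∧
    (Odd (Fintype.card F) → ∀ K : Subalgebra F (Matrix (Fin 12) (Fin 12) F), Cfsg.Geo.IsFieldSubalgebra 2 K → Cfsg.Geo.IsSelfAdjointFor (QuadraticMap.polar Q) K → Cfsg.Geo.IsMaximalIn (Cfsg.Geo.omegaGL Q) (Cfsg.Geo.subalgebraNormalizer K ⊓ Cfsg.Geo.omegaGL Q)) ∧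
    (Odd (Fintype.card F) → ∀ K : Subalgebra F (Matrix (Fin 12) (Fin 12) F), Cfsg.Geo.IsFieldSubalgebra 3 K → Cfsg.Geo.IsSelfAdjointFor (QuadraticMap.polar Q) K → Cfsg.Geo.IsMaximalIn (Cfsg.Geo.omegaGL Q) (Cfsg.Geo.subalgebraNormalizer K ⊓ Cfsg.Geo.omegaGL Q)) ∧
    (∀ K : Subalgebra F (Matrix (Fin 12) (Fin 12) F), Cfsg.Geo.IsFieldSubalgebra 2 K → Cfsg.Geo.IsAdjointClosedFor (QuadraticMap.polar Q) K → ¬ Cfsg.Geo.IsSelfAdjointFor (QuadraticMap.polar Q) K → (∀ k ∈ K, ∃ c : F, ∀ v : (Fin 12 → F), Q (Matrix.mulVec k v) = c * Q v) → Cfsg.Geo.IsMaximalIn (Cfsg.Geo.omegaGL Q) (Cfsg.Geo.subalgebraNormalizer K ⊓ Cfsg.Geo.omegaGL Q)) ∧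
    (3 ≤ Fintype.card F → ∀ (e : Fin 12 ≃ Fin 2 × Fin 6) (P : Matrix.GeneralLinearGroup (Fin 12) F) (f₁ : (Fin 2 → F) → (Fin 2 → F) → F) (f₂ : (Fin 6 → F) → (Fin 6 → F) → F), Cfsg.Geo.IsSymplecticForm f₁ → Cfsg.Geo.IsSymplecticForm f₂ → Cfsg.Geo.IsTensorFormStructure id (QuadraticMap.polar Q) f₁ f₂ e P → (∀ (x₁ : Fin 2 → F) (x₂ : Fin 6 → F), Q (Matrix.mulVec (P : Matrix (Fin 12) (Fin 12) F) ((fun a : Fin 2 × Fin 6 => x₁ a.1 * x₂ a.2) ∘ e)) = 0) → Cfsg.Geo.IsMaximalIn (Cfsg.Geo.omegaGL Q) (Cfsg.Geo.tensorProductSubgroup 2 6 e P ⊓ Cfsg.Geo.omegaGL Q)) ∧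
    (∀ (F₀ : Subfield F) (r : ℕ) (P : Matrix.GeneralLinearGroup (Fin 12) F) (ζ : F), r.Prime → Fintype.card F = Nat.card F₀ ^ r → ζ ≠ 0 → Cfsg.Geo.IsQuadFormRationalStructure (fun v : Fin 12 → F => ζ * Q v) F₀ P → Cfsg.Geo.IsMaximalIn (Cfsg.Geo.omegaGL Q) (Cfsg.Geo.subfieldSubgroup F₀ P ⊓ Cfsg.Geo.omegaGL Q)) := by
  classical
  obtain ⟨B, C⟩ := exists_space hQ
  have hc : Fintype.card (Fin 12) = 12 := Fintype.card_fin 12
  have hq1 := Fintype.one_lt_card (α := F)
  have htop : finrank F (⊤ : Submodule F (Fin 12 → F)) = 12 := by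
    rw [finrank_top, finrank_fintype_fun_eq_card, hc]
  -- a proper non-degenerate subspace outside the middle dimension
  have nondeg : ∀ W : Submodule F (Fin 12 → F),
      Cfsg.Geo.IsNondegenerateOn (QuadraticMap.polar Q) W → finrank F W ≠ 0 → finrank F W < 12 →
      finrank F W ≠ 6 →
      (Fintype.card F ≤ 3 → finrank F W ≠ 10 ∧
        (finrank F W = 2 → ¬ Cfsg.Geo.IsPlusTypeOn Q W)) →
      Cfsg.Geo.IsMaximalIn (Cfsg.Geo.omegaGL Q)
        (Cfsg.Geo.subspaceStabilizer W ⊓ Cfsg.Geo.omegaGL Q) := by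
    intro W hW h0 h12 h6 hex
    refine nondeg_max' C (Or.inr ⟨by omega, by omega⟩) (ndeg_of_geo C hW)
      (fun h => h0 (by rw [h, finrank_bot])) (fun h => by rw [h, htop] at h12; omega)
      (fun h => by omega) fun U h3 hU _ hplusU => ?_
    rw [Nat.card_eq_fintype_card] at h3
    obtain ⟨h10, h2⟩ := hex h3
    rintro (rfl | ⟨-, hadd⟩)
    · exact h2 hU hplusU
    · omega
  refine ⟨fun W hW0 hW h5 => ?_, fun hodd W hW0 hW1 hd hne hW => ?_,
    fun W hd hW hnp => ?_, fun hq W hd hW hp => ?_, fun W hd hW => ?_, fun hev v hv => ?_,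
    fun hp D hD => ?_, fun hq D hD hp => ?_, fun hq D hD hp => ?_, fun hq D hD => ?_,
    fun hq D hD => ?_, fun D hD => ?_, fun D hD hts => ?_, fun hodd K hK hsa => ?_,
    fun hodd K hK hsa => ?_, fun K hK hac hnsa hsc => ?_,
    fun hq e P f₁ f₂ hf₁ hf₂ hT hpure => ?_, fun F₀ r P ζ hr hcard hζ hP => ?_⟩
  · refine singular_max C (by omega) hW0 hW fun M hM hlt => ?_
    have h1 := Submodule.finrank_lt_finrank_of_lt hlt
    have h2 := ts_bound C hM
    omega
  · have h0 : finrank F W ≠ 0 := fun h => hW0 (Submodule.finrank_eq_zero.mp h)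
    have h1 := Submodule.finrank_lt_finrank_of_lt hW1.lt_top
    have h2 := Nat.odd_iff.mp hd
    exact nondeg W hW h0 (by omega) (by omega) fun _ => ⟨by omega, fun h => by omega⟩
  · exact nondeg W hW (by omega) (by omega) (by omega) fun _ => ⟨by omega, fun _ => hnp⟩
  · exact nondeg W hW (by omega) (by omega) (by omega) fun _ => by omega
  · exact nondeg W hW (by omega) (by omega) (by omega) fun _ => ⟨by omega, fun h => by omega⟩
  · exact nonsingular_line_max C (by omega) hv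
  · obtain ⟨p, hp, hpo, hpc⟩ := hp
    have hodd : Odd (Fintype.card F) := hpc ▸ hpo
    exact Cfsg.Lib.Linear.FrameMax.lines_maximal C hodd (hpc ▸ hp) (two_ne_zero_of_odd_card hodd)
      (by omega) hD
  · have X := Cfsg.Lib.Linear.ODec.dec_of_geo_twelve C (by omega) le_rfl hD
    exact X.maximal (X.small_of (by decide) (fun _ => by omega) (fun _ _ => by omega)
      (fun h => by omega))
  · have X := Cfsg.Lib.Linear.ODec.dec_of_geo_twelve C (by omega) le_rfl hD
    exact X.maximal (X.small_of (by decide) (fun _ => hq) (fun _ hall => absurd (hall 0) (hp 0))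
      (fun h => by omega))
  · refine (blocks_of_geo C (two_ne_zero_of_odd_card hq.1) le_rfl hD).maximal
      (Or.inr (exists_mu ?_))
    omega
  · have X := Cfsg.Lib.Linear.ODec.dec_of_geo_twelve C (by omega) (by norm_num) hD
    exact X.maximal (X.small_of (by decide) (fun h => by omega) (fun h => by omega)
      (fun _ h => by omega))
  · have X := Cfsg.Lib.Linear.ODec.dec_of_geo_twelve C (by omega) (by norm_num) hD
    exact X.maximal (X.small_of (by decide) (fun h => by omega) (fun h => by omega)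
      (fun h => by omega))
  · exact pair_max C D hD hts
  · exact Cfsg.Lib.Linear.OrthExt.maximal C (two_ne_zero_of_odd_card hodd) Nat.prime_two K hK hsa
      (by omega) (Or.inl (by omega))
  · exact Cfsg.Lib.Linear.OrthExt.maximal C (two_ne_zero_of_odd_card hodd) Nat.prime_three K hK hsa
      (by omega) (Or.inr le_rfl)
  · exact Cfsg.Lib.Linear.OrthOverfieldMax.subalgebra_normalizer_max (by norm_num) (by decide) Q hQ K hK
      hac hnsa hsc
  · exact Cfsg.Lib.Linear.SpTensor.maximal e P hQ hf₁ hf₂ hT (fun x₁ x₂ => hpure x₁ x₂) le_rfl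
      (by norm_num) (Or.inl ⟨rfl, hq⟩)
  · exact Cfsg.Lib.Linear.OrthSub.subfield_max' hQ (by omega) (Or.inl (by omega)) hr
      (by rw [Nat.card_eq_fintype_card]; exact hcard) P hζ hP

end Cfsg.Agent.S5870
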