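import Cfsg.Statements.S5873
import Cfsg.Agent.Lib.Linear.OrthSplitMax
import Cfsg.Agent.Lib.Linear.OrthSplitFlex
import Cfsg.Agent.Lib.Linear.OrthHalves
import Cfsg.Agent.Lib.Linear.ODec.Max
import Cfsg.Agent.Lib.Linear.OrthExt.Max
import Cfsg.Agent.Lib.Linear.OrthSubfieldMax
import Cfsg.Agent.Lib.Linear.OOTensor.MinusFour.Max

set_option autoImplicit false
open Cfsg

namespace Cfsg.Agent.S5873

open Module Cfsg.Lib.Linear.Orth
open scoped Matrix

/-- The stabiliser of a non-degenerate half is maximal in minus type. -/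
theorem half_max {F : Type*} [Field F] [Fintype F] {Q : (Fin 12 → F) → F}
    {B : LinearMap.BilinForm F (Fin 12 → F)} (C : Space Q B)
    (hminus : ¬ Cfsg.Geo.IsPlusTypeOn Q ⊤) {W : Submodule F (Fin 12 → F)} (hW : NDeg B W)
    (h6 : finrank F W = 6) :
    Cfsg.Geo.IsMaximalIn (Cfsg.Geo.omegaGL Q)
      (Cfsg.Geo.subspaceStabilizer W ⊓ Cfsg.Geo.omegaGL Q) := by
  have S := split_of_ndeg C hW
  have hadd := S.finrank_add C
  rw [Fintype.card_fin] at hadd
  refine split_max_flex C S (by omega) (fun e f hH => ?_) (Or.inl (by omega))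
    (fun h => by rw [h, finrank_bot] at h6; omega)
    (Cfsg.Lib.Linear.OrthHalves.no_swap_minus C hminus S (k := 3) (by omega) (by omega) (by omega))
    (Or.inr (Or.inl (by omega)))
  have hd := hH.finrank_eq C
  obtain ⟨b, b', hb⟩ := exists_hyp' C (hH.ndeg C S.ndU) (by omega)
  exact ⟨b, hb.memE, fun e => by simpa [e] using hb.pair, hb.singE⟩

/-- Maximal subgroups of Ω_12^-(q) of geometric type (any q). Let F be a finite field with q elements (characteristic p), Q a non-degenerate quadratic form on F^12 (non-degenerate polar form) of minus type (Witt index 5: no totally singular 6-space), and Ω = Ω_12^-(q) the commutator subgroup of the isometry group of Q, inside GL_12(F). Each of the following, intersected with Ω, is a maximal subgroup of Ω: (1) the stabiliser of any non-zero subspace on which Q vanishes identically (totally singular subspaces, dimensions 1 to 5); (2) for q odd, the stabiliser of any subspace of odd dimension on which the polar form of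 Q is non-degenerate; (3) the stabiliser of any non-degenerate 2-space of minus type (containing no non-zero singular vector); (4) for q ≥ 4, the stabiliser of any non-degenerate 2-space of plus type (containing a non-zero singular vector); (5) the stabiliser of any non-degenerate 4-space (either type); (6) the stabiliser of any non-degenerate 6-space (either type); (7) for q even, the stabiliser of the 1-space spanned by any non-singular vector v (Q(v) ≠ 0); (8) the stabiliser of any decomposition of F^12 into 3 pairwise orthogonal, pairwise Q-isometric non-degenerate 4-spaces of minus type; (9) for q odd, the normaliser of any degree-2 subfield K of the matrix algebra whose elements are self-adjoint for the polar form of Q (Q is then the trace of a quadratic form over K); (10) for q odd, the normaliser of any degree-3 subfield K of the matrix algebra whose elements are self-adjoint for the polar form of Q (Q is then the trace of a quadratic form over K); (11)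 for q odd with q ≥ 5, the stabiliser of any tensor decomposition F^12 = F^3 ⊗ F^4 in which the polar form of Q is the product of non-degenerate symmetric bilinear forms, the second of minus type, up to a scalar; (12) every subfield group for a subfield F₀ with |F| = |F₀|^r, r an odd prime, whose F₀-structure carries a non-zero scalar multiple of Q. -/
theorem result {F : Type*} [Field F] [Fintype F] (Q : (Fin 12 → F) → F) (hQ : Cfsg.Geo.IsNondegenerateQuadraticForm Q) (hminus : ¬ Cfsg.Geo.IsPlusTypeOn Q ⊤) :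
    (∀ W : Submodule F (Fin 12 → F), W ≠ ⊥ → Cfsg.Geo.IsTotallySingularQuad Q W → Cfsg.Geo.IsMaximalIn (Cfsg.Geo.omegaGL Q) (Cfsg.Geo.subspaceStabilizer W ⊓ Cfsg.Geo.omegaGL Q)) ∧
    (Odd (Fintype.card F) → ∀ W : Submodule F (Fin 12 → F), W ≠ ⊥ → W ≠ ⊤ → Odd (Module.finrank F W) → 2 * Module.finrank F W ≠ 12 → Cfsg.Geo.IsNondegenerateOn (QuadraticMap.polar Q) W → Cfsg.Geo.IsMaximalIn (Cfsg.Geo.omegaGL Q) (Cfsg.Geo.subspaceStabilizer W ⊓ Cfsg.Geo.omegaGL Q)) ∧
    (∀ W : Submodule F (Fin 12 → F), Module.finrank F W = 2 → Cfsg.Geo.IsNondegenerateOn (QuadraticMap.polar Q) W → ¬ Cfsg.Geo.IsPlusTypeOn Q W → Cfsg.Geo.IsMaximalIn (Cfsg.Geo.omegaGL Q) (Cfsg.Geo.subspaceStabilizer W ⊓ Cfsg.Geo.omegaGL Q)) ∧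
    (4 ≤ Fintype.card F → ∀ W : Submodule F (Fin 12 → F), Module.finrank F W = 2 → Cfsg.Geo.IsNondegenerateOn (QuadraticMap.polar Q) W → Cfsg.Geo.IsPlusTypeOn Q W → Cfsg.Geo.IsMaximalIn (Cfsg.Geo.omegaGL Q) (Cfsg.Geo.subspaceStabilizer W ⊓ Cfsg.Geo.omegaGL Q)) ∧
    (∀ W : Submodule F (Fin 12 → F), Module.finrank F W = 4 → Cfsg.Geo.IsNondegenerateOn (QuadraticMap.polar Q) W → Cfsg.Geo.IsMaximalIn (Cfsg.Geo.omegaGL Q) (Cfsg.Geo.subspaceStabilizer W ⊓ Cfsg.Geo.omegaGL Q)) ∧
    (∀ W : Submodule F (Fin 12 → F), Module.finrank F W = 6 → Cfsg.Geo.IsNondegenerateOn (QuadraticMap.polar Q) W → Cfsg.Geo.IsMaximalIn (Cfsg.Geo.omegaGL Q) (Cfsg.Geo.subspaceStabilizer W ⊓ Cfsg.Geo.omegaGL Q)) ∧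
    (¬ Odd (Fintype.card F) → ∀ v : (Fin 12 → F), Q v ≠ 0 → Cfsg.Geo.IsMaximalIn (Cfsg.Geo.omegaGL Q) (Cfsg.Geo.subspaceStabilizer (Submodule.span F {v}) ⊓ Cfsg.Geo.omegaGL Q)) ∧
    (∀ D : Fin 3 → Submodule F (Fin 12 → F), Cfsg.Geo.IsOrthogonalMDecomposition Q 4 D → (∀ i, ¬ Cfsg.Geo.IsPlusTypeOn Q (D i)) → Cfsg.Geo.IsMaximalIn (Cfsg.Geo.omegaGL Q) (Cfsg.Geo.decompositionStabilizer D ⊓ Cfsg.Geo.omegaGL Q)) ∧
    (Odd (Fintype.card F) → ∀ K : Subalgebra F (Matrix (Fin 12) (Fin 12) F), Cfsg.Geo.IsFieldSubalgebra 2 K → Cfsg.Geo.IsSelfAdjointFor (QuadraticMap.polar Q) K → Cfsg.Geo.IsMaximalIn (Cfsg.Geo.omegaGL Q) (Cfsg.Geo.subalgebraNormalizer K ⊓ Cfsg.Geo.omegaGL Q)) ∧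
    (Odd (Fintype.card F) → ∀ K : Subalgebra F (Matrix (Fin 12) (Fin 12) F), Cfsg.Geo.IsFieldSubalgebra 3 K → Cfsg.Geo.IsSelfAdjointFor (QuadraticMap.polar Q) K → Cfsg.Geo.IsMaximalIn (Cfsg.Geo.omegaGL Q) (Cfsg.Geo.subalgebraNormalizer K ⊓ Cfsg.Geo.omegaGL Q)) ∧
    (Odd (Fintype.card F) ∧ 5 ≤ Fintype.card F → ∀ (e : Fin 12 ≃ Fin 3 × Fin 4) (P : Matrix.GeneralLinearGroup (Fin 12) F) (f₁ : (Fin 3 → F) → (Fin 3 → F) → F) (f₂ : (Fin 4 → F) → (Fin 4 → F) → F), Cfsg.Geo.IsSymmetricForm f₁ → Cfsg.Geo.IsSymmetricForm f₂ → ¬ Cfsg.Geo.IsPlusTypeOn (fun v : Fin 4 → F => f₂ v v) ⊤ → Cfsg.Geo.IsTensorFormStructure id (QuadraticMap.polar Q) f₁ f₂ e P → Cfsg.Geo.IsMaximalIn (Cfsg.Geo.omegaGL Q) (Cfsg.Geo.tensorProductSubgroup 3 4 e P ⊓ Cfsg.Geo.omegaGL Q)) ∧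
    (∀ (F₀ : Subfield F) (r : ℕ) (P : Matrix.GeneralLinearGroup (Fin 12) F) (ζ : F), r.Prime → Odd r → Fintype.card F = Nat.card F₀ ^ r → ζ ≠ 0 → Cfsg.Geo.IsQuadFormRationalStructure (fun v : Fin 12 → F => ζ * Q v) F₀ P → Cfsg.Geo.IsMaximalIn (Cfsg.Geo.omegaGL Q) (Cfsg.Geo.subfieldSubgroup F₀ P ⊓ Cfsg.Geo.omegaGL Q)) := by
  classical
  obtain ⟨B, C⟩ := exists_space hQ
  have hc : Fintype.card (Fin 12) = 12 := Fintype.card_fin 12
  have htop : finrank F (⊤ : Submodule F (Fin 12 → F)) = 12 := by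
    rw [finrank_top, finrank_fintype_fun_eq_card, hc]
  -- a proper non-degenerate subspace outside the middle dimension
  have nondeg : ∀ W : Submodule F (Fin 12 → F),
      Cfsg.Geo.IsNondegenerateOn (QuadraticMap.polar Q) W → finrank F W ≠ 0 → finrank F W < 12 →
      finrank F W ≠ 6 →
      (Fintype.card F ≤ 3 → finrank F W ≠ 10 ∧
        (finrank F W = 2 → ¬ Cfsg.Geo.IsPlusTypeOn Q W)) →
      Cfsg.Geo.IsMaximalIn (Cfsg.Geo.omegaGL Q)
        (Cfsg.Geo.subspaceStabilizer W ⊓ Cfsg.Geo.omegaGL Q) := by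
    intro W hW h0 h12 h6 hex
    refine nondeg_max' C (Or.inr ⟨by omega, by omega⟩) (ndeg_of_geo C hW)
      (fun h => h0 (by rw [h, finrank_bot])) (fun h => by rw [h, htop] at h12; omega)
      (fun h => by omega) fun U h3 hU _ hplusU => ?_
    rw [Nat.card_eq_fintype_card] at h3
    obtain ⟨h10, h2⟩ := hex h3
    rintro (rfl | ⟨-, hadd⟩)
    · exact h2 hU hplusU
    · omega
  refine ⟨fun W hW0 hW => ?_, fun hodd W hW0 hW1 hd hne hW => ?_,
    fun W hd hW hnp => ?_, fun hq W hd hW hp => ?_, fun W hd hW => ?_,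
    fun W hd hW => half_max C hminus (ndeg_of_geo C hW) hd, fun hev v hv => ?_,
    fun D hD hp => ?_, fun hodd K hK hsa => ?_, fun hodd K hK hsa => ?_,
    fun hq e P f₁ f₂ hf₁ hf₂ hm hT => ?_, fun F₀ r P ζ hr hro hcard hζ hP => ?_⟩
  · refine singular_max C (by omega) hW0 hW fun M hM hlt => ?_
    have h1 := Submodule.finrank_lt_finrank_of_lt hlt
    have h2 := ts_bound C hM
    have h3 : finrank F M ≠ 6 := fun h => hminus ⟨M, le_top, hM, by omega⟩
    omega
  · have h0 : finrank F W ≠ 0 := fun h => hW0 (Submodule.finrank_eq_zero.mp h)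
    have h1 := Submodule.finrank_lt_finrank_of_lt hW1.lt_top
    have h2 := Nat.odd_iff.mp hd
    exact nondeg W hW h0 (by omega) (by omega) fun _ => ⟨by omega, fun h => by omega⟩
  · exact nondeg W hW (by omega) (by omega) (by omega) fun _ => ⟨by omega, fun _ => hnp⟩
  · exact nondeg W hW (by omega) (by omega) (by omega) fun _ => by omega
  · exact nondeg W hW (by omega) (by omega) (by omega) fun _ => ⟨by omega, fun h => by omega⟩
  · exact nonsingular_line_max C (by omega) hv
  · have X := Cfsg.Lib.Linear.ODec.dec_of_geo_twelve C (by omega) (by norm_num) hD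
    exact X.maximal (X.small_of (by decide) (fun h => by omega) (fun h => by omega)
      (fun _ _ hall => hp 0 (hall 0)))
  · exact Cfsg.Lib.Linear.OrthExt.maximal C (two_ne_zero_of_odd_card hodd) Nat.prime_two K hK hsa
      (by omega) (Or.inl (by omega))
  · exact Cfsg.Lib.Linear.OrthExt.maximal C (two_ne_zero_of_odd_card hodd) Nat.prime_three K hK hsa
      (by omega) (Or.inr le_rfl)
  · exact Cfsg.Lib.Linear.OOTensor.MinusFour.maximal e P hQ hq.1 hf₁ hf₂ hT rfl rfl hq.2 hm
  · exact Cfsg.Lib.Linear.OrthSub.subfield_max' hQ (by omega) (Or.inl (by omega)) hr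
      (by rw [Nat.card_eq_fintype_card]; exact hcard) P hζ hP

end Cfsg.Agent.S5873
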