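import Cfsg.Statements.S5877
import Mathlib
-- import your own Cfsg.Agent.* helpers here

set_option autoImplicit false
open Cfsg

namespace Cfsg.Agent.S5877

open scoped Matrix commutatorElement

section Grp

variable {G : Type*} [Group G] {N Z₀ : Subgroup G} {g : G}

theorem z_normal (hZ : Z₀ ≤ Subgroup.center G) : Z₀.Normal :=
  ⟨fun z hz x => by rw [(Subgroup.mem_center_iff.1 (hZ hz) x), mul_inv_cancel_right]; exact hz⟩

theorem com_right (hZ : Z₀ ≤ Subgroup.center G) {x y z : G} (h : ⁅x, z⁆ ∈ Z₀) : ⁅x, y * z⁆ = ⁅x, y⁆ * ⁅x, z⁆ := by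
  have h1 : ⁅x, y * z⁆ = ⁅x, y⁆ * (y * ⁅x, z⁆ * y⁻¹) := by simp only [commutatorElement_def]; group
  rw [h1, Subgroup.mem_center_iff.1 (hZ h) y, mul_inv_cancel_right]

theorem com_left (hZ : Z₀ ≤ Subgroup.center G) {x y z : G} (h : ⁅y, z⁆ ∈ Z₀) : ⁅x * y, z⁆ = ⁅x, z⁆ * ⁅y, z⁆ := by
  have h1 : ⁅x * y, z⁆ = x * ⁅y, z⁆ * x⁻¹ * ⁅x, z⁆ := by simp only [commutatorElement_def]; group
  rw [h1, Subgroup.mem_center_iff.1 (hZ h) x, mul_inv_cancel_right, Subgroup.mem_center_iff.1 (hZ h) ⁅x, z⁆]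

theorem com_conj (hZ : Z₀ ≤ Subgroup.center G) {x y : G} (h : ⁅x, y⁆ ∈ Z₀) :
    ⁅g * x * g⁻¹, g * y * g⁻¹⁆ = ⁅x, y⁆ := by
  rw [show ⁅g * x * g⁻¹, g * y * g⁻¹⁆ = g * ⁅x, y⁆ * g⁻¹ by simp only [commutatorElement_def]; group,
    Subgroup.mem_center_iff.1 (hZ h) g, mul_inv_cancel_right]

theorem com_cong (hZ : Z₀ ≤ Subgroup.center G) {x y z : G} (hz : z ∈ Z₀) : ⁅z * x, y⁆ = ⁅x, y⁆ ∧ ⁅y, z * x⁆ = ⁅y, x⁆ := by
  have h : ∀ a, Commute z a := fun a => (Subgroup.mem_center_iff.1 (hZ hz) a).symm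
  refine ⟨?_, ?_⟩
  · have h1 : ⁅z * x, y⁆ = z * ⁅x, y⁆ * z⁻¹ * ⁅z, y⁆ := by simp only [commutatorElement_def]; group
    rw [h1, show ⁅z, y⁆ = 1 from commutatorElement_eq_one_iff_commute.2 (h y), mul_one, (h ⁅x, y⁆).eq,
      mul_inv_cancel_right]
  · have h1 : ⁅y, z * x⁆ = ⁅y, z⁆ * (z * ⁅y, x⁆ * z⁻¹) := by simp only [commutatorElement_def]; group
    rw [h1, show ⁅y, z⁆ = 1 from commutatorElement_eq_one_iff_commute.2 (h y).symm, one_mul, (h ⁅y, x⁆).eq,
      mul_inv_cancel_right]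

theorem polar (hZ : Z₀ ≤ Subgroup.center G) (hcom : ∀ x ∈ N, ∀ y ∈ N, ⁅x, y⁆ ∈ Z₀)
    (hg : ∀ x ∈ N, g * x * g⁻¹ ∈ N) {A B : G} (hA : A ∈ N) (hB : B ∈ N)
    (h1 : ⁅A, g * A * g⁻¹⁆ = 1) (h2 : ⁅B, g * B * g⁻¹⁆ = 1) (h3 : ⁅A * B, g * (A * B) * g⁻¹⁆ = 1) :
    ⁅A⁻¹ * (g * (g * A * g⁻¹) * g⁻¹), g * B * g⁻¹⁆ = 1 := by
  obtain ⟨A', hA'⟩ : ∃ A', A' = g * A * g⁻¹ := ⟨_, rfl⟩
  obtain ⟨B', hB'⟩ : ∃ B', B' = g * B * g⁻¹ := ⟨_, rfl⟩
  rw [← hA'] at h1 ⊢
  rw [← hB'] at h2 ⊢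
  have mA : A' ∈ N := hA' ▸ hg A hA
  have mB : B' ∈ N := hB' ▸ hg B hB
  have e : ⁅A, B'⁆ * ⁅B, A'⁆ = 1 := by
    rw [show g * (A * B) * g⁻¹ = A' * B' by rw [hA', hB']; group, com_left hZ (hcom _ hB _ (mul_mem mA mB)),
      com_right hZ (hcom _ hA _ mB), com_right hZ (hcom _ hB _ mB), h1, h2, one_mul, mul_one] at h3
    exact h3
  rw [← commutatorElement_inv A' B, mul_inv_eq_one, ← com_conj (g := g) hZ (hcom _ mA _ hB), ← hB'] at e
  have e2 := com_left hZ (x := A) (y := A⁻¹) (z := B') (hcom _ (inv_mem hA) _ mB)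
  rw [mul_inv_cancel, commutatorElement_one_left] at e2
  rw [com_left hZ (hcom _ (hg _ mA) _ mB), ← e]
  rw [Subgroup.mem_center_iff.1 (hZ (hcom _ hA _ mB)) _]
  exact e2.symm

theorem coprime_commute {G : Type*} [Group G] {γ a : G} {m ϖ : ℕ} (hcop : m.Coprime ϖ) (hϖ : 1 < ϖ) (h : γ ^ ϖ = 1)
    (hc : Commute (γ ^ m) a) : Commute γ a := by
  obtain ⟨k, hk⟩ := Nat.exists_mul_mod_eq_one_of_coprime hcop hϖ
  have h1 : γ = (γ ^ m) ^ k := by rw [← pow_mul, pow_eq_pow_mod _ h, hk.2, pow_one]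
  rw [h1]
  exact hc.pow_left k

theorem pow_shift {G : Type*} [Group G] {γ x a : G} (h : γ * x * γ⁻¹ = x * a) (ha : γ * a * γ⁻¹ = a) :
    ∀ k : ℕ, γ ^ k * x * (γ ^ k)⁻¹ = x * a ^ k := by
  have hc : Commute γ a := by rw [Commute, SemiconjBy, ← mul_inv_eq_iff_eq_mul]; exact ha
  intro k
  induction k with
  | zero => simp
  | succ k ih =>
    calc γ ^ (k + 1) * x * (γ ^ (k + 1))⁻¹ = γ * (γ ^ k * x * (γ ^ k)⁻¹) * γ⁻¹ := by rw [pow_succ']; group
      _ = γ * x * γ⁻¹ * (γ * a ^ k * γ⁻¹) := by rw [ih]; group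
      _ = _ := by rw [h, (hc.pow_right k).eq, mul_inv_cancel_right, mul_assoc, ← pow_succ']

/-- Finding an element whose commutator with `g` is fixed by `g`. -/
theorem fixed_commutator (hZ : Z₀ ≤ Subgroup.center G) (hcom : ∀ x ∈ N, ∀ y ∈ N, ⁅x, y⁆ ∈ Z₀)
    (hnd : ∀ x ∈ N, (∀ y ∈ N, ⁅x, y⁆ = 1) → x ∈ Z₀) (hg : ∀ x ∈ N, g * x * g⁻¹ ∈ N) (hg' : ∀ x ∈ N, g⁻¹ * x * g ∈ N)
    {r ϖ : ℕ} (hodd : Nat.Coprime 2 ϖ) (hϖ : 1 < ϖ) (hord : g ^ ϖ = 1) (hpow : ∀ x ∈ N, x ^ r ∈ Z₀)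
    (hiso : ∀ s ∈ N, ⁅s⁻¹ * (g * s * g⁻¹), g * (s⁻¹ * (g * s * g⁻¹)) * g⁻¹⁆ = 1)
    (hmove : ∃ s ∈ N, s⁻¹ * (g * s * g⁻¹) ∉ Z₀) :
    (∃ t ∈ N, t⁻¹ * (g * t * g⁻¹) ∉ Z₀ ∧
      (t⁻¹ * (g * t * g⁻¹))⁻¹ * (g * (t⁻¹ * (g * t * g⁻¹)) * g⁻¹) ∈ Z₀) ∧ ¬ Nat.Coprime (2 * r) ϖ := by
  haveI := z_normal hZ
  obtain ⟨π, hπdef⟩ : ∃ π : G →* G ⧸ Z₀, π = QuotientGroup.mk' Z₀ := ⟨_, rfl⟩
  have hπ : ∀ a b, π a = π b ↔ a⁻¹ * b ∈ Z₀ := fun a b => by rw [hπdef]; exact QuotientGroup.eq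
  have hπ1 : ∀ a, π a = 1 ↔ a ∈ Z₀ := fun a => by rw [hπdef]; exact QuotientGroup.eq_one_iff a
  have hab : ∀ a ∈ N, ∀ b ∈ N, π a * π b = π b * π a := fun a ha b hb => by
    rw [← mul_inv_eq_one, show π a * π b * (π b * π a)⁻¹ = π ⁅a, b⁆ by simp [commutatorElement_def, mul_assoc], hπ1]
    exact hcom a ha b hb
  obtain ⟨u, hu⟩ : ∃ u : G → G, ∀ s, u s = s⁻¹ * (g * s * g⁻¹) := ⟨_, fun _ => rfl⟩
  simp only [← hu] at hiso hmove ⊢
  obtain ⟨γ, hγ⟩ : ∃ γ, γ = π g := ⟨_, rfl⟩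
  have hπu : ∀ s, π (u s) = (π s)⁻¹ * (γ * π s * γ⁻¹) := fun s => by simp [hu, hγ]
  have hgu : ∀ s ∈ N, u s ∈ N := fun s hs => hu s ▸ mul_mem (inv_mem hs) (hg s hs)
  have hφu : ∀ t, g * u (g⁻¹ * t * g) * g⁻¹ = u t := fun t => by simp only [hu]; group
  have hz : ∀ s ∈ N, γ * π ((u s)⁻¹ * (g * (g * u s * g⁻¹) * g⁻¹)) * γ⁻¹ = π ((u s)⁻¹ * (g * (g * u s * g⁻¹) * g⁻¹)) := by
    intro s hs
    obtain ⟨z, hzdef⟩ : ∃ z, z = (u s)⁻¹ * (g * (g * u s * g⁻¹) * g⁻¹) := ⟨_, rfl⟩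
    rw [← hzdef]
    have mz : z ∈ N := hzdef ▸ mul_mem (inv_mem (hgu s hs)) (hg _ (hg _ (hgu s hs)))
    have hzu : ∀ t ∈ N, ⁅z, u t⁆ = 1 := fun t ht => by
      have ht' := hg' t ht
      obtain ⟨z₁, hz₁⟩ : ∃ z₁ ∈ Z₀, u (s * (g⁻¹ * t * g)) = z₁ * (u s * u (g⁻¹ * t * g)) := by
        refine ⟨_, hcom _ (inv_mem ht') _ (hgu s hs), ?_⟩
        simp only [hu, commutatorElement_def]; group
      have h3 := hiso _ (mul_mem hs ht')
      rw [hz₁.2, (com_cong hZ hz₁.1).1,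
        show g * (z₁ * (u s * u (g⁻¹ * t * g))) * g⁻¹ = z₁ * (g * (u s * u (g⁻¹ * t * g)) * g⁻¹) by
          rw [← mul_assoc g, (Subgroup.mem_center_iff.1 (hZ hz₁.1) g)]; group, (com_cong hZ hz₁.1).2] at h3
      rw [hzdef, ← hφu t]
      exact polar hZ hcom hg (hgu s hs) (hgu _ ht') (hiso s hs) (hiso _ ht') h3
    have hfix : ∀ t ∈ N, ⁅z⁻¹ * (g * z * g⁻¹), t⁆ = 1 := fun t ht => by
      obtain ⟨t', ht'def⟩ : ∃ t', t' = g⁻¹ * t * g := ⟨_, rfl⟩
      have mt' : t' ∈ N := ht'def ▸ hg' t ht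
      have e1 : g * t' * g⁻¹ = t := by rw [ht'def]; group
      have h1 := com_right hZ (x := z) (y := t') (z := u t') (hcom _ mz _ (hgu _ mt'))
      rw [hzu t' mt', mul_one, hu, mul_inv_cancel_left, e1] at h1
      have h2 := com_left hZ (x := z) (y := z⁻¹) (z := t) (hcom _ (inv_mem mz) _ ht)
      rw [mul_inv_cancel, commutatorElement_one_left] at h2
      rw [com_left hZ (hcom _ (hg z mz) _ ht), ← e1, com_conj hZ (hcom _ mz _ mt'), e1, ← h1,
        Subgroup.mem_center_iff.1 (hZ (hcom _ mz _ ht)) _]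
      exact h2.symm
    rw [show γ * π z * γ⁻¹ = π (g * z * g⁻¹) by simp [hγ], eq_comm, hπ]
    exact hnd _ (mul_mem (inv_mem mz) (hg z mz)) hfix
  have hγo : γ ^ ϖ = 1 := by rw [hγ, ← map_pow, hord, map_one]
  have hcz : ∀ x, γ * x * γ⁻¹ = x → Commute γ x := fun x h => mul_inv_eq_iff_eq_mul.1 h
  refine ⟨?_, fun hcop => ?_⟩
  · by_cases hall : ∀ s ∈ N, (u s)⁻¹ * (g * (g * u s * g⁻¹) * g⁻¹) ∈ Z₀
    · obtain ⟨s, hs, hs'⟩ := hmove
      refine ⟨s, hs, hs', ?_⟩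
      have h1 : γ ^ 2 * π (u s) * (γ ^ 2)⁻¹ = π (u s) := by
        rw [show γ ^ 2 * π (u s) * (γ ^ 2)⁻¹ = π (g * (g * u s * g⁻¹) * g⁻¹) by simp [hγ, pow_two, mul_assoc]]
        exact ((hπ _ _).2 (hall s hs)).symm
      have h2 := coprime_commute hodd hϖ hγo (mul_inv_eq_iff_eq_mul.1 h1)
      rw [hu (u s), ← hπ, show π (g * u s * g⁻¹) = γ * π (u s) * γ⁻¹ by simp [hγ], h2.eq, mul_inv_cancel_right]
    · push Not at hall
      obtain ⟨s, hs, hs'⟩ := hall
      obtain ⟨A, hA⟩ : ∃ A, A = u s := ⟨_, rfl⟩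
      have hfix := hz s hs
      rw [← hA] at hs' hfix
      have mA : A ∈ N := hA ▸ hgu s hs
      have key : π (u (g * A * g⁻¹ * A)) = π (A⁻¹ * (g * (g * A * g⁻¹) * g⁻¹)) := by
        have c1 := hab (g * (g * A * g⁻¹) * g⁻¹) (hg _ (hg _ mA)) (g * A * g⁻¹) (hg _ mA)
        rw [hπu]
        simp only [map_mul, map_inv, ← hγ] at c1 ⊢
        rw [show γ * (γ * π A * γ⁻¹ * π A) * γ⁻¹ = γ * (γ * π A * γ⁻¹) * γ⁻¹ * (γ * π A * γ⁻¹) by group, c1]
        group
      refine ⟨_, mul_mem (hg A mA) mA, fun h => hs' ?_, ?_⟩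
      · rw [← hπ1, ← key, hπ1]; exact h
      · rw [hu (u _), ← hπ, show π (g * u (g * A * g⁻¹ * A) * g⁻¹) = γ * π (u (g * A * g⁻¹ * A)) * γ⁻¹ by simp [hγ], key]
        exact hfix.symm
  · obtain ⟨s, hs, hs'⟩ := hmove
    have hr' : Nat.Coprime r ϖ := hcop.coprime_mul_left
    obtain ⟨A, hA⟩ : ∃ A, A = u s := ⟨_, rfl⟩
    have mA : A ∈ N := hA ▸ hgu s hs
    obtain ⟨z, hzdef⟩ : ∃ z, z = A⁻¹ * (g * (g * A * g⁻¹) * g⁻¹) := ⟨_, rfl⟩
    have hfix := hz s hs
    rw [← hA, ← hzdef] at hfix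
    have mz : z ∈ N := hzdef ▸ mul_mem (inv_mem mA) (hg _ (hg _ mA))
    have hzr : (π z) ^ r = 1 := by rw [← map_pow, hπ1]; exact hpow z mz
    have h1 : γ ^ 2 * π A * (γ ^ 2)⁻¹ = π A * π z := by
      rw [hzdef]; simp [hγ, pow_two, mul_assoc]
    have h2 : γ ^ 2 * π z * (γ ^ 2)⁻¹ = π z := by
      rw [((hcz _ hfix).pow_left 2).eq, mul_inv_cancel_right]
    have h3 := pow_shift h1 h2 r
    rw [← pow_mul, hzr, mul_one] at h3
    have hA1 : γ * π A * γ⁻¹ = π A := by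
      rw [(coprime_commute hcop hϖ hγo (mul_inv_eq_iff_eq_mul.1 h3)).eq, mul_inv_cancel_right]
    have h4 : γ * π s * γ⁻¹ = π s * π A := by rw [hA, hπu, mul_inv_cancel_left]
    have hAr : (π A) ^ r = 1 := by rw [← map_pow, hπ1]; exact hpow A mA
    have h5 := pow_shift h4 hA1 r
    rw [hAr, mul_one] at h5
    refine hs' ?_
    rw [← hπ1, hπu, (coprime_commute hr' hϖ hγo (mul_inv_eq_iff_eq_mul.1 h5)).eq, mul_inv_cancel_right, inv_mul_cancel]

/-- When every element commutes with its image, the square of `g` is trivial modulo the centre. -/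
theorem fixed_of_commute (hZ : Z₀ ≤ Subgroup.center G) (hcom : ∀ x ∈ N, ∀ y ∈ N, ⁅x, y⁆ ∈ Z₀)
    (hnd : ∀ x ∈ N, (∀ y ∈ N, ⁅x, y⁆ = 1) → x ∈ Z₀) (hg : ∀ x ∈ N, g * x * g⁻¹ ∈ N) (hg' : ∀ x ∈ N, g⁻¹ * x * g ∈ N)
    {ϖ : ℕ} (hodd : Nat.Coprime 2 ϖ) (hϖ : 1 < ϖ) (hord : g ^ ϖ = 1) (hall : ∀ t ∈ N, ⁅t, g * t * g⁻¹⁆ = 1) :
    ∀ s ∈ N, s⁻¹ * (g * s * g⁻¹) ∈ Z₀ := by
  haveI := z_normal hZ
  intro s hs
  have h1 : s⁻¹ * (g * (g * s * g⁻¹) * g⁻¹) ∈ Z₀ :=
    hnd _ (mul_mem (inv_mem hs) (hg _ (hg _ hs))) fun y hy => by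
      have hy' := hg' y hy
      have := polar hZ hcom hg hs hy' (hall s hs) (hall _ hy') (hall _ (mul_mem hs hy'))
      rwa [show g * (g⁻¹ * y * g) * g⁻¹ = y by group] at this
  rw [← QuotientGroup.eq] at h1 ⊢
  obtain ⟨γ, hγ⟩ : ∃ γ : G ⧸ Z₀, γ = ↑g := ⟨_, rfl⟩
  have h2 : γ ^ 2 * (s : G ⧸ Z₀) * (γ ^ 2)⁻¹ = s := by rw [hγ]; simpa [pow_two, mul_assoc] using h1.symm
  have h3 := coprime_commute hodd hϖ (by rw [hγ, ← QuotientGroup.mk_pow, hord]; rfl) (mul_inv_eq_iff_eq_mul.1 h2)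
  rw [QuotientGroup.mk_mul, QuotientGroup.mk_mul, QuotientGroup.mk_inv, ← hγ, h3.eq, mul_inv_cancel_right]

end Grp

section Lin

variable {F : Type*} [Field F] {n : ℕ}

local notation "GLn" => GL (Fin n) F
local notation "V" => Fin n → F

/-- Eigenspaces of a matrix unit. -/
def eig (x : GLn) (a : F) : Submodule F V := Module.End.eigenspace (Matrix.toLin' x.val) a

theorem mem_eig {x : GLn} {a : F} {v : V} : v ∈ eig x a ↔ x.val *ᵥ v = a • v := by
  rw [eig, Module.End.mem_eigenspace_iff, Matrix.toLin'_apply]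

theorem mv (x y : GLn) (v : V) : (x * y).val *ᵥ v = x.val *ᵥ (y.val *ᵥ v) := by
  rw [Units.val_mul, Matrix.mulVec_mulVec]

theorem mv_inj (x : GLn) : Function.Injective (x.val *ᵥ · : V → V) := fun v w h => by
  have h1 := congrArg ((x⁻¹).val *ᵥ ·) h
  simpa [← mv] using h1

theorem map_le (u : GLn) {P Q : Submodule F V} (h : ∀ v ∈ P, u.val *ᵥ v ∈ Q) :
    Module.finrank F P ≤ Module.finrank F Q :=
  LinearMap.finrank_le_finrank_of_injective (f := (Matrix.toLin' u.val).restrict h)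
    fun _ _ e => Subtype.ext (mv_inj u (congrArg Subtype.val e))

theorem sum_le {ι : Type*} (P : ι → Submodule F V) (Q : Submodule F V) (hP : iSupIndep P)
    (hle : ∀ i, P i ≤ Q) (s : Finset ι) : ∑ i ∈ s, Module.finrank F (P i) ≤ Module.finrank F Q := by
  classical
  suffices h : Module.finrank F ↥(s.sup P) = ∑ i ∈ s, Module.finrank F (P i) by
    rw [← h]; exact Submodule.finrank_mono (Finset.sup_le fun i _ => hle i)
  induction s using Finset.induction_on with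
  | empty => simp
  | @insert a s ha ih =>
    rw [Finset.sup_insert, Finset.sum_insert ha, ← ih]
    have hd : P a ⊓ s.sup P = ⊥ := by
      refine disjoint_iff.1 ((hP a).mono_right (Finset.sup_le fun i hi => ?_))
      exact le_iSup₂ (f := fun j (_ : j ≠ a) => P j) i fun h => ha (h ▸ hi)
    have := Submodule.finrank_sup_add_finrank_inf_eq (P a) (s.sup P)
    rw [hd, finrank_bot] at this
    omega

theorem sum_eig_le {ι : Type*} (x : GLn) (a : ι → F) (ha : Function.Injective a) (Q : Submodule F V) (s : Finset ι) :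
    ∑ i ∈ s, Module.finrank F ↥(Q ⊓ eig x (a i)) ≤ Module.finrank F Q :=
  sum_le _ Q ((Module.End.eigenspaces_iSupIndep (Matrix.toLin' x.val)).comp ha |>.mono fun _ => inf_le_right)
    (fun _ => inf_le_left) s

theorem sum_eig_le' {ι : Type*} (x : GLn) (a : ι → F) (ha : Function.Injective a) (s : Finset ι) :
    ∑ i ∈ s, Module.finrank F ↥(eig x (a i)) ≤ n := by
  have h := sum_eig_le x a ha ⊤ s
  rw [finrank_top, Module.finrank_fin_fun] at h
  exact le_trans (le_of_eq (Finset.sum_congr rfl fun i _ => by rw [top_inf_eq])) h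

/-- A scalar unit. -/
def sc (a : Fˣ) : GLn := Units.map (Matrix.scalar (Fin n) : F →+* Matrix (Fin n) (Fin n) F).toMonoidHom a

theorem sc_mv (a : Fˣ) (v : V) : (sc a : GLn).val *ᵥ v = (a : F) • v := by
  rw [show (sc a : GLn).val = (a : F) • (1 : Matrix (Fin n) (Fin n) F) by simp [sc, Matrix.smul_one_eq_diagonal],
    Matrix.smul_mulVec, Matrix.one_mulVec]

theorem exists_sc {x : GLn} (h : x ∈ Cfsg.Geo.scalars (Fin n) F) : ∃ a, x = sc a := by
  obtain ⟨a, rfl⟩ := h; exact ⟨a, rfl⟩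

theorem sc_mem (a : Fˣ) : (sc a : GLn) ∈ Cfsg.Geo.scalars (Fin n) F := ⟨a, rfl⟩

/-- An element moving the eigenvalue. -/
theorem two_le_of_twist (x u : GLn) (a : Fˣ) (ha : (a : F) ≠ 1) (h : x * u = sc a * (u * x)) {c : F} (hc : c ≠ 0) :
    2 * Module.finrank F (eig x c) ≤ n := by
  have hne : c ≠ a * c := fun e => ha ((mul_eq_right₀ hc).1 e.symm)
  have h1 : Module.finrank F (eig x c) ≤ Module.finrank F (eig x (a * c)) := map_le u fun v hv => by
    rw [mem_eig] at hv ⊢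
    rw [← mv, h, mv, mv, sc_mv, hv, Matrix.mulVec_smul, smul_smul]
  have h2 := sum_eig_le' x ![c, a * c] (by
    intro i j e; fin_cases i <;> fin_cases j <;> first | rfl | (simp at e; first | exact absurd e hne | exact absurd e.symm hne))
    Finset.univ
  rw [Fin.sum_univ_two] at h2
  change Module.finrank F ↥(eig x c) + Module.finrank F ↥(eig x (a * c)) ≤ n at h2
  omega

theorem pow_twist {t f : GLn} {η : Fˣ} (h : f * t = sc η * (t * f)) :
    ∀ k : ℕ, (t * f) ^ k = sc (η ^ k.choose 2) * (t ^ k * f ^ k) := by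
  have hcen : ∀ (a : Fˣ) (y : GLn), sc a * y = y * sc a := fun a y => Units.ext (Matrix.ext fun i j => by
    simp [sc, mul_comm])
  have hscm : ∀ a b : Fˣ, (sc (a * b) : GLn) = sc a * sc b := fun a b => map_mul _ a b
  have hft : ∀ k : ℕ, f ^ k * t = sc (η ^ k) * (t * f ^ k) := by
    intro k
    induction k with
    | zero => simp [sc]
    | succ k ih =>
      rw [pow_succ, mul_assoc, h, ← mul_assoc, ← hcen, mul_assoc, ← mul_assoc (f ^ k), ih, pow_succ', hscm]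
      simp only [mul_assoc]
  intro k
  induction k with
  | zero => simp [sc]
  | succ k ih =>
    rw [pow_succ (t * f), ih, Nat.choose_succ_succ, Nat.choose_one_right, add_comm k, pow_add, hscm, pow_succ t, pow_succ f]
    simp only [mul_assoc]
    rw [← mul_assoc (f ^ k), hft]
    simp only [mul_assoc]
    rw [← mul_assoc (t ^ k), ← hcen]
    simp only [mul_assoc]

end Lin

/-- Eigenspaces of elements normalising an absolutely irreducible extraspecial group. Let F be a finite field, r a prime, and R ≤ GL_n(F) an absolutely irreducible extraspecial r-group (an r-group whose centre equals its derived subgroup and has order r) of exponent r or 4. Let g ∈ GL_n(F) normalise the product of R with the scalar matrices, have prime order ϖ and not be scalar, and let W be the eigenspace of g for any c ∈ F (W may be the zero subspace). Then dim W ≤ 3n/4 if ϖ = 2, dim W ≤ 2n/3 if ϖ = 3, and dim W ≤ n/2 if ϖ > 3; moreover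 if ϖ = 3 and 3 does not divide n then dim W ≤ n/2. -/
theorem result {F : Type*} [Field F] [Fintype F] {n r ϖ : ℕ} (R : Subgroup (Matrix.GeneralLinearGroup (Fin n) F)) (hr : r.Prime) (hR : IsPGroup r R) (hZ : Nat.card (Subgroup.center R) = r) (hext : commutator R = Subgroup.center R) (hexp : Monoid.exponent R = r ∨ Monoid.exponent R = 4) (hirr : Cfsg.Geo.ActsAbsolutelyIrreducibly (Cfsg.Geo.matrixSet R)) (g : Matrix.GeneralLinearGroup (Fin n) F) (hg : g ∈ Cfsg.Geo.subgroupNormalizer (R ⊔ Cfsg.Geo.scalars (Fin n) F)) (hϖ : ϖ.Prime) (hord : orderOf g = ϖ) (hns : g ∉ Cfsg.Geo.scalars (Fin n) F) (c : F) :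
    (ϖ = 2 → 4 * Module.finrank F (Module.End.eigenspace (Matrix.toLin' (g : Matrix (Fin n) (Fin n) F)) c) ≤ 3 * n) ∧
    (ϖ = 3 → 3 * Module.finrank F (Module.End.eigenspace (Matrix.toLin' (g : Matrix (Fin n) (Fin n) F)) c) ≤ 2 * n) ∧
    (3 < ϖ → 2 * Module.finrank F (Module.End.eigenspace (Matrix.toLin' (g : Matrix (Fin n) (Fin n) F)) c) ≤ n) ∧
    (ϖ = 3 → ¬ 3 ∣ n → 2 * Module.finrank F (Module.End.eigenspace (Matrix.toLin' (g : Matrix (Fin n) (Fin n) F)) c) ≤ n) := by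
  classical
  rename' hZ => hcard
  obtain ⟨w, hw⟩ : ∃ w, w = Module.finrank F ↥(eig g c) := ⟨_, rfl⟩
  show (ϖ = 2 → 4 * Module.finrank F ↥(eig g c) ≤ 3 * n) ∧ (ϖ = 3 → 3 * Module.finrank F ↥(eig g c) ≤ 2 * n) ∧
    (3 < ϖ → 2 * Module.finrank F ↥(eig g c) ≤ n) ∧ (ϖ = 3 → ¬ 3 ∣ n → 2 * Module.finrank F ↥(eig g c) ≤ n)
  rw [← hw]
  suffices hmain : 2 * w ≤ n ∨ (r * (2 * w) ≤ r * n + n ∧ (ϖ = 2 ∨ (r ≠ 2 ∧ ((r = 3 → ϖ = 3 ∧ 3 ∣ n)) ∧
      (5 ≤ r → 2 * w ≤ n)))) by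
    rcases hmain with h | ⟨h, h'⟩
    · refine ⟨fun _ => by omega, fun _ => by omega, fun _ => h, fun _ _ => h⟩
    · rcases h' with rfl | ⟨hr2, h3, h5⟩
      · have := hr.two_le
        exact ⟨fun _ => by nlinarith, by omega, by omega, by omega⟩
      · have : r = 3 ∨ 5 ≤ r := by
          have := hr.two_le
          have : r ≠ 4 := fun e => by rw [e] at hr; norm_num at hr
          omega
        rcases this with rfl | h5'
        · obtain ⟨hϖ3, hn3⟩ := h3 rfl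
          refine ⟨by omega, fun _ => by omega, by omega, fun _ h0 => absurd hn3 h0⟩
        · have := h5 h5'
          exact ⟨fun _ => by omega, fun _ => by omega, fun _ => this, fun _ _ => this⟩
  by_cases hc : c = 0
  · left
    have : w = 0 := by
      rw [hw, Submodule.finrank_eq_zero, Submodule.eq_bot_iff]
      intro v hv
      rw [mem_eig, hc, zero_smul] at hv
      exact mv_inj g (by simpa using hv)
    omega
  haveI : Fact r.Prime := ⟨hr⟩
  obtain ⟨Z₀, hZ₀⟩ : ∃ Z₀, Z₀ = Cfsg.Geo.scalars (Fin n) F := ⟨_, rfl⟩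
  obtain ⟨N, hN⟩ : ∃ N, N = R ⊔ Cfsg.Geo.scalars (Fin n) F := ⟨_, rfl⟩
  have hcen : ∀ (a : Fˣ) (y : GL (Fin n) F), sc a * y = y * sc a := fun a y => Units.ext (Matrix.ext fun i j => by
    simp [sc, mul_comm])
  have hZ : Z₀ ≤ Subgroup.center (GL (Fin n) F) := fun x hx => by
    obtain ⟨a, rfl⟩ := exists_sc (hZ₀ ▸ hx)
    exact Subgroup.mem_center_iff.2 fun y => (hcen a y).symm
  haveI hZn := z_normal hZ
  have hscZ : ∀ a, (sc a : GL (Fin n) F) ∈ Z₀ := fun a => hZ₀ ▸ sc_mem a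
  have hsc1 : (sc 1 : GL (Fin n) F) = 1 := map_one _
  have hscpow : ∀ (a : Fˣ) (k : ℕ), (sc a : GL (Fin n) F) ^ k = sc (a ^ k) := fun a k => (map_pow _ a k).symm
  have hn0 : 0 < n := by
    by_contra h0
    obtain rfl : n = 0 := by omega
    exact hns ((Cfsg.Geo.mem_scalars_iff g).2 ⟨1, Matrix.ext fun i => i.elim0⟩)
  have hscinj : ∀ {a b : Fˣ}, (sc a : GL (Fin n) F) = sc b → a = b := fun {a b} h => by
    have h0 : ((sc a : GL (Fin n) F) : Matrix (Fin n) (Fin n) F) = (sc b : GL (Fin n) F) := congrArg Units.val h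
    have h1 := congrFun (congrFun h0 ⟨0, hn0⟩) ⟨0, hn0⟩
    exact Units.ext (by simpa [sc] using h1)
  have habs : ∀ x : GL (Fin n) F, (∀ b ∈ R, x * b = b * x) → x ∈ Z₀ := fun x hx => by
    obtain ⟨a, ha⟩ := hirr.2 x.val (by rintro _ ⟨b, hb, rfl⟩; exact congrArg Units.val (hx b hb))
    have ha0 : a ≠ 0 := fun h0 => by
      have h1 := congrArg Matrix.det ha
      haveI : Nonempty (Fin n) := ⟨⟨0, hn0⟩⟩
      rw [h0, zero_smul, Matrix.det_zero] at h1
      exact (Matrix.GeneralLinearGroup.det x).ne_zero h1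
    exact hZ₀ ▸ (Cfsg.Geo.mem_scalars_iff x).2 ⟨Units.mk0 a ha0, ha⟩
  have hRcom : ∀ a ∈ R, ∀ b ∈ R, ∃ η : Fˣ, ⁅a, b⁆ = sc η ∧ η ^ r = 1 := fun a ha b hb => by
    have h1 : ⁅(⟨a, ha⟩ : R), ⟨b, hb⟩⁆ ∈ Subgroup.center R := hext ▸ Subgroup.commutator_mem_commutator (Subgroup.mem_top _) (Subgroup.mem_top _)
    have h2 : ⁅a, b⁆ ∈ Z₀ := habs _ fun d hd => congrArg Subtype.val (Subgroup.mem_center_iff.1 h1 ⟨d, hd⟩).symm
    obtain ⟨η, hη⟩ := exists_sc (hZ₀ ▸ h2)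
    refine ⟨η, hη, hscinj ?_⟩
    rw [← hscpow, ← hη, hsc1]
    have h3 : (⟨_, h1⟩ : Subgroup.center R) ^ r = 1 := by rw [← hcard]; exact pow_card_eq_one'
    exact congrArg (fun x : Subgroup.center R => ((x : R) : GL (Fin n) F)) h3
  have hsplit : ∀ x ∈ N, ∃ a ∈ R, ∃ z ∈ Z₀, x = z * a := fun x hx => by
    rw [hN, ← hZ₀, sup_comm, Subgroup.mem_sup_of_normal_left] at hx
    obtain ⟨z, hz, a, ha, e⟩ := hx
    exact ⟨a, ha, z, hz, e.symm⟩
  have hNcom : ∀ x ∈ N, ∀ y ∈ N, ∃ η : Fˣ, ⁅x, y⁆ = sc η ∧ η ^ r = 1 := fun x hx y hy => by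
    obtain ⟨a, ha, z, hz, rfl⟩ := hsplit x hx
    obtain ⟨b, hb, z', hz', rfl⟩ := hsplit y hy
    rw [(com_cong hZ hz).1, (com_cong hZ hz').2]
    exact hRcom a ha b hb
  have hcom : ∀ x ∈ N, ∀ y ∈ N, ⁅x, y⁆ ∈ Z₀ := fun x hx y hy => by
    obtain ⟨η, e, -⟩ := hNcom x hx y hy; exact e ▸ hscZ η
  have hRN : ∀ a ∈ R, a ∈ N := fun a ha => hN ▸ Subgroup.mem_sup_left ha
  have hnd : ∀ x ∈ N, (∀ y ∈ N, ⁅x, y⁆ = 1) → x ∈ Z₀ := fun x hx h => habs x fun b hb =>
    commutatorElement_eq_one_iff_mul_comm.1 (h b (hRN b hb))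
  have hg0 : ∀ x, x ∈ N ↔ g * x * g⁻¹ ∈ N := fun x => by
    rw [hN]; exact (Subgroup.mem_normalizer_iff.1 hg x)
  have hg1 : ∀ x ∈ N, g * x * g⁻¹ ∈ N := fun x hx => (hg0 x).1 hx
  have hg2 : ∀ x ∈ N, g⁻¹ * x * g ∈ N := fun x hx => (hg0 _).2 (by rwa [show g * (g⁻¹ * x * g) * g⁻¹ = x by group])
  have hgo : g ^ ϖ = 1 := hord ▸ pow_orderOf_eq_one g
  have hpow : ∀ x ∈ N, x ^ r ∈ Z₀ := fun x hx => hnd _ (pow_mem hx r) fun y hy => by
    obtain ⟨η, e, e'⟩ := hNcom x hx y hy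
    have hk : ∀ k : ℕ, ⁅x ^ k, y⁆ = sc (η ^ k) := fun k => by
      induction k with
      | zero => rw [pow_zero, pow_zero, commutatorElement_one_left, hsc1]
      | succ k ih => rw [pow_succ, com_left hZ (e ▸ hscZ η), ih, e, ← hscpow, ← hscpow, pow_succ]
    rw [hk, e', hsc1]
  -- the eigenvalues of a non-scalar element of `N` are permuted
  have hspread : ∀ f ∈ N, f ∉ Z₀ → ∃ u ∈ N, ∃ η : Fˣ, f * u = sc η * (u * f) ∧ IsPrimitiveRoot η r := by
    intro f hf hfZ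
    obtain ⟨u, hu, hne⟩ : ∃ u ∈ N, ⁅f, u⁆ ≠ 1 := by
      by_contra hc'
      push Not at hc'
      exact hfZ (hnd f hf hc')
    obtain ⟨η, e, e'⟩ := hNcom f hf u hu
    refine ⟨u, hu, η, ?_, ?_⟩
    · rw [← e, commutatorElement_def]; group
    · rw [← orderOf_eq_prime e' (fun h1 => hne (by rw [e, h1, hsc1]))]
      exact IsPrimitiveRoot.orderOf η
  have hsmall : ∀ f ∈ N, f ∉ Z₀ → ∀ ν : F, ν ≠ 0 → r * Module.finrank F ↥(eig f ν) ≤ n := by
    intro f hf hfZ ν hν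
    obtain ⟨u, -, η, e, hη⟩ := hspread f hf hfZ
    have hle : ∀ i : ℕ, Module.finrank F ↥(eig f ν) ≤ Module.finrank F ↥(eig f (ν * (η : F) ^ i)) := by
      intro i
      induction i with
      | zero => rw [pow_zero, mul_one]
      | succ i ih =>
        refine ih.trans (map_le u fun v hv => ?_)
        rw [mem_eig] at hv ⊢
        rw [← mv, e, mv, mv, sc_mv, hv, Matrix.mulVec_smul, smul_smul, pow_succ']
        congr 1; ring
    have h1 := sum_eig_le' f (fun i : Fin r => ν * (η : F) ^ (i : ℕ))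
      (fun i j h => Fin.ext ((IsPrimitiveRoot.coe_units_iff.2 hη).pow_inj i.2 j.2 (mul_left_cancel₀ hν h))) Finset.univ
    refine le_trans ?_ h1
    have h2 := Finset.card_nsmul_le_sum Finset.univ (fun i : Fin r => Module.finrank F ↥(eig f (ν * (η : F) ^ (i : ℕ))))
      _ (fun i _ => hle i)
    simpa using h2
  by_cases htw : ∃ t ∈ N, ∃ χ : Fˣ, χ ≠ 1 ∧ g * t * g⁻¹ = sc χ * t
  · obtain ⟨t, ht, χ, hχ, e⟩ := htw
    exact Or.inl (hw ▸ two_le_of_twist g t χ (fun h => hχ (Units.ext h)) (by rw [← mul_assoc, ← e, inv_mul_cancel_right]) hc)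
  push Not at htw
  by_cases h2w : 2 * w ≤ n
  · exact Or.inl h2w
  -- vectors of the eigenspace sent into it by `t`
  have hX : ∀ t : GL (Fin n) F, ∀ Q : Submodule F (Fin n → F), eig g c ⊓ (eig g c).comap (Matrix.toLin' t.val) ≤ Q →
      2 * w ≤ n + Module.finrank F Q := by
    intro t Q hQ
    have h1 : w ≤ Module.finrank F ↥((eig g c).comap (Matrix.toLin' t.val)) := hw ▸ map_le (t⁻¹) fun v hv => by
      rw [Submodule.mem_comap, Matrix.toLin'_apply, ← mv, mul_inv_cancel, Units.val_one, Matrix.one_mulVec]; exact hv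
    have h3 := Submodule.finrank_sup_add_finrank_inf_eq (eig g c) ((eig g c).comap (Matrix.toLin' t.val))
    have h4 := Submodule.finrank_le (eig g c ⊔ (eig g c).comap (Matrix.toLin' t.val))
    rw [Module.finrank_fin_fun] at h4
    have h5 := Submodule.finrank_mono hQ
    omega
  have hgk : ∀ v ∈ eig g c, ∀ k : ℕ, (g ^ k).val *ᵥ v = c ^ k • v := by
    intro v hv k
    induction k with
    | zero => simp
    | succ k ih => rw [pow_succ, mv, mem_eig.1 hv, Matrix.mulVec_smul, ih, smul_smul, pow_succ']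
  have hXf : ∀ t : GL (Fin n) F, ∀ v ∈ eig g c ⊓ (eig g c).comap (Matrix.toLin' t.val), ∀ k : ℕ,
      (g ^ k * t * (g ^ k)⁻¹).val *ᵥ v = t.val *ᵥ v ∧ (t⁻¹ * (g ^ k * t * (g ^ k)⁻¹)).val *ᵥ v = v := by
    intro t v hv k
    rw [Submodule.mem_inf, Submodule.mem_comap, Matrix.toLin'_apply] at hv
    have h1 : (g ^ k * t * (g ^ k)⁻¹).val *ᵥ v = t.val *ᵥ v := by
      refine smul_right_injective _ (pow_ne_zero k hc) (show c ^ k • _ = c ^ k • _ from ?_)
      rw [← Matrix.mulVec_smul, ← hgk v hv.1, ← mv, inv_mul_cancel_right, mv, hgk _ hv.2]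
    refine ⟨h1, ?_⟩
    rw [mv, h1, ← mv, inv_mul_cancel, Units.val_one, Matrix.one_mulVec]
  have hkill : ∀ (x y : GL (Fin n) F) (η : Fˣ), ⁅x, y⁆ = sc η → η ≠ 1 → ∀ v : Fin n → F, x.val *ᵥ v = v → y.val *ᵥ v = v → v = 0 := by
    intro x y η e hη v hx hy
    have h1 : ((sc η : GL (Fin n) F) * (y * x)).val *ᵥ v = (x * y).val *ᵥ v := by
      rw [← e, commutatorElement_def]; congr 2; group
    rw [mv, mv, mv, hx, hy, hx, sc_mv] at h1
    exact (smul_eq_zero.1 (show ((η : F) - 1) • v = 0 by rw [sub_smul, one_smul, h1, sub_self])).resolve_left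
      (sub_ne_zero.2 fun h => hη (Units.ext h))
  obtain ⟨s₀, hs₀, hu₀⟩ : ∃ s ∈ N, s⁻¹ * (g * s * g⁻¹) ∉ Z₀ := by
    by_contra hall
    push Not at hall
    refine hns (hZ₀ ▸ habs g fun b hb => ?_)
    obtain ⟨χ, hχ⟩ := exists_sc (hZ₀ ▸ hall b (hRN b hb))
    have e : g * b * g⁻¹ = sc χ * b := by rw [hcen, ← hχ, mul_inv_cancel_left]
    rcases eq_or_ne χ 1 with h1 | h1
    · rw [h1, hsc1, one_mul] at e
      exact mul_inv_eq_iff_eq_mul.1 e
    · exact absurd e (htw b (hRN b hb) χ h1)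
  obtain ⟨f₀, hf₀⟩ : ∃ f₀, f₀ = s₀⁻¹ * (g * s₀ * g⁻¹) := ⟨_, rfl⟩
  have hbound : r * (2 * w) ≤ r * n + n := by
    have h1 := hX s₀ (eig f₀ 1) fun v hv => by
      rw [mem_eig, one_smul, hf₀]
      have := (hXf s₀ v hv 1).2
      rwa [pow_one] at this
    have h3 := hsmall f₀ (hf₀ ▸ mul_mem (inv_mem hs₀) (hg1 s₀ hs₀)) (hf₀ ▸ hu₀) 1 one_ne_zero
    nlinarith
  refine Or.inr ⟨hbound, ?_⟩
  by_cases hϖ2 : ϖ = 2
  · exact Or.inl hϖ2
  refine Or.inr ?_
  have hodd : Nat.Coprime 2 ϖ := (Nat.coprime_primes Nat.prime_two hϖ).2 (Ne.symm hϖ2)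
  have hr2 : r ≠ 2 := by
    rintro rfl
    refine hu₀ (fixed_of_commute hZ hcom hnd hg1 hg2 hodd hϖ.one_lt hgo (fun t ht => ?_) s₀ hs₀)
    by_contra hne
    refine h2w ?_
    obtain ⟨η, e, -⟩ := hNcom t ht _ (hg1 t ht)
    have hη : η ≠ 1 := fun h => hne (by rw [e, h, hsc1])
    obtain ⟨σ, hσ⟩ := exists_sc (hZ₀ ▸ hpow t ht)
    have h1 := hX t ⊥ fun v hv => by
      have hv' := hv
      rw [Submodule.mem_inf, Submodule.mem_comap, Matrix.toLin'_apply] at hv'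
      have htv : t.val *ᵥ v ∈ eig g c ⊓ (eig g c).comap (Matrix.toLin' t.val) := by
        rw [Submodule.mem_inf, Submodule.mem_comap, Matrix.toLin'_apply, ← mv, ← pow_two, hσ, sc_mv]
        exact ⟨hv'.2, Submodule.smul_mem _ _ hv'.1⟩
      have a1 := (hXf t v hv 1).1
      have a2 := (hXf t _ htv 1).1
      rw [pow_one] at a1 a2
      rw [Submodule.mem_bot]
      have a3 : ((sc η : GL (Fin n) F) * ((g * t * g⁻¹) * t)).val *ᵥ v = (t * (g * t * g⁻¹)).val *ᵥ v := by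
        rw [← e, commutatorElement_def]; congr 2; group
      rw [mv, mv (g * t * g⁻¹) t, mv t (g * t * g⁻¹), a1, a2, sc_mv, ← mv t t] at a3
      have a4 : (t * t).val *ᵥ v = 0 := (smul_eq_zero.1 (show ((η : F) - 1) • ((t * t).val *ᵥ v) = 0 by
        rw [sub_smul, one_smul, a3, sub_self])).resolve_left (sub_ne_zero.2 fun h => hη (Units.ext h))
      exact mv_inj (t * t) (by simpa using a4)
    simpa using h1
  have hiso : ∀ s ∈ N, ⁅s⁻¹ * (g * s * g⁻¹), g * (s⁻¹ * (g * s * g⁻¹)) * g⁻¹⁆ = 1 := by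
    intro s hs
    by_contra hne
    refine h2w ?_
    obtain ⟨f, hf⟩ : ∃ f, f = s⁻¹ * (g * s * g⁻¹) := ⟨_, rfl⟩
    rw [← hf] at hne
    have mf : f ∈ N := hf ▸ mul_mem (inv_mem hs) (hg1 s hs)
    have e2 : s⁻¹ * (g ^ 2 * s * (g ^ 2)⁻¹) = f * (g * f * g⁻¹) := by rw [hf, pow_two]; group
    obtain ⟨η, e, -⟩ := hNcom f mf _ (hg1 f mf)
    have e' : ⁅f, f * (g * f * g⁻¹)⁆ = sc η := by
      rw [com_right hZ (hcom _ mf _ (hg1 f mf)), commutatorElement_self, one_mul, e]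
    have h1 := hX s ⊥ fun v hv => by
      have a1 := (hXf s v hv 1).2
      have a2 := (hXf s v hv 2).2
      rw [pow_one, ← hf] at a1
      rw [e2] at a2
      exact (Submodule.mem_bot F).2 (hkill _ _ η e' (fun h => hne (by rw [e, h, hsc1])) v a1 a2)
    simpa using h1
  obtain ⟨⟨t, ht, hfZ, hff⟩, hncop⟩ :=
    fixed_commutator hZ hcom hnd hg1 hg2 hodd hϖ.one_lt hgo hpow hiso ⟨s₀, hs₀, hu₀⟩
  obtain ⟨f, hfdef⟩ : ∃ f, f = t⁻¹ * (g * t * g⁻¹) := ⟨_, rfl⟩
  rw [← hfdef] at hfZ hff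
  have mf : f ∈ N := hfdef ▸ mul_mem (inv_mem ht) (hg1 t ht)
  have hgf : g * f = f * g := by
    obtain ⟨χ, hχ⟩ := exists_sc (hZ₀ ▸ hff)
    have e : g * f * g⁻¹ = sc χ * f := by rw [hcen, ← hχ, mul_inv_cancel_left]
    rcases eq_or_ne χ 1 with h1 | h1
    · rw [h1, hsc1, one_mul] at e
      exact mul_inv_eq_iff_eq_mul.1 e
    · exact absurd e (htw f mf χ h1)
  have hgt : g * t = t * f * g := by rw [hfdef]; group
  obtain ⟨η, hη, hηr⟩ := hNcom f mf t ht
  have hft : f * t = sc η * (t * f) := by rw [← hη, commutatorElement_def]; group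
  obtain ⟨d, hd⟩ := hr.odd_of_ne_two hr2
  have hfr : f ^ r = 1 := by
    have h1 := pow_twist hft r
    have h2 : η ^ r.choose 2 = 1 := by
      rw [Nat.choose_two_right, show r * (r - 1) / 2 = r * d by rw [hd, Nat.add_sub_cancel, mul_comm 2 d, ← mul_assoc]; simp, pow_mul, hηr, one_pow]
    obtain ⟨σ, hσ⟩ := exists_sc (hZ₀ ▸ hpow t ht)
    rw [h2, hsc1, one_mul, show t * f = g * t * g⁻¹ by rw [hfdef, mul_inv_cancel_left], conj_pow, hσ, ← hcen σ g,
      mul_inv_cancel_right] at h1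
    exact left_eq_mul.1 h1
  obtain ⟨u, -, θ, hθu, hθ⟩ := hspread f mf hfZ
  have hrF : (r : F) ≠ 0 := fun h => by
    obtain ⟨p, hp⟩ := CharP.exists F
    haveI : Fact p.Prime := ⟨CharP.char_is_prime F p⟩
    have h1 : p = r := (Nat.prime_dvd_prime_iff_eq Fact.out hr).1 ((CharP.cast_eq_zero_iff F p r).1 h)
    subst h1
    have hθ' : ((θ : F) - 1) ^ p = 0 := by rw [sub_pow_char, one_pow, ← Units.val_pow_eq_pow_val, hθ.pow_eq_one]; simp
    exact (IsPrimitiveRoot.coe_units_iff.2 hθ).ne_one hr.one_lt (sub_eq_zero.1 (eq_zero_of_pow_eq_zero hθ'))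
  obtain ⟨η₀, hη₀, hη₀'⟩ : ∃ η₀ : Fˣ, IsPrimitiveRoot η₀ r ∧ ∃ e : ℕ, η = η₀ ^ e ∧ (e = 0 ∨ e = 1) := by
    rcases eq_or_ne η 1 with h1 | h1
    · exact ⟨θ, hθ, 0, by rw [pow_zero, h1], Or.inl rfl⟩
    · refine ⟨η, ?_, 1, (pow_one η).symm, Or.inr rfl⟩
      rw [← orderOf_eq_prime hηr h1]; exact IsPrimitiveRoot.orderOf η
  obtain ⟨e, hηe, he01⟩ := hη₀'
  have hp₀ : IsPrimitiveRoot (η₀ : F) r := IsPrimitiveRoot.coe_units_iff.2 hη₀
  -- powers indexed by residues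
  obtain ⟨z, hzdef⟩ : ∃ z : ZMod r → F, ∀ x, z x = (η₀ : F) ^ x.val := ⟨_, fun _ => rfl⟩
  have zc : ∀ k : ℕ, z (k : ZMod r) = (η₀ : F) ^ k := fun k => by
    rw [hzdef, ZMod.val_natCast]
    conv_rhs => rw [← pow_mod_orderOf, ← hp₀.eq_orderOf]
  have zadd : ∀ x y, z (x + y) = z x * z y := fun x y => by
    rw [← ZMod.natCast_zmod_val x, ← ZMod.natCast_zmod_val y, ← Nat.cast_add, zc, zc, zc, pow_add]
  have zinj : Function.Injective z := fun x y h => ZMod.val_injective r (hp₀.pow_inj (ZMod.val_lt x) (ZMod.val_lt y) (by rwa [hzdef, hzdef] at h))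
  have z0 : ∀ x, z x ≠ 0 := fun x => by rw [hzdef]; exact pow_ne_zero _ η₀.ne_zero
  have zz : z 0 = 1 := by rw [← Nat.cast_zero, zc, pow_zero]
  -- the spectral projections of `f`
  have hdec : ∀ v : Fin n → F, ∃ P : ZMod r → (Fin n → F), ∑ x, P x = v ∧ (∀ x, P x ∈ eig f (z x)) ∧
      (∀ x (Q : Submodule F (Fin n → F)), (∀ k : ℕ, (f ^ k).val *ᵥ v ∈ Q) → P x ∈ Q) := by
    intro v
    refine ⟨fun x => (r : F)⁻¹ • ∑ k : ZMod r, z (-(x * k)) • ((f ^ k.val).val *ᵥ v), ?_, fun x => ?_, fun x Q hQ => ?_⟩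
    · rw [← Finset.smul_sum, Finset.sum_comm]
      have hsum : ∀ k : ZMod r, ∑ x : ZMod r, z (-(x * k)) = if k = 0 then (r : F) else 0 := fun k => by
        split_ifs with hk
        · simp [hk, zz, ZMod.card]
        · have h1 : z (-k) * ∑ x : ZMod r, z (-(x * k)) = ∑ x : ZMod r, z (-(x * k)) := by
            rw [Finset.mul_sum]
            exact Fintype.sum_equiv (Equiv.addRight 1) _ _ fun x => by simp [← zadd, add_mul]
          by_contra hne
          exact hk (neg_eq_zero.1 (zinj (((mul_eq_right₀ hne).1 h1).trans zz.symm)))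
      rw [Finset.sum_eq_single (0 : ZMod r)]
      · rw [← Finset.sum_smul, hsum, if_pos rfl, ZMod.val_zero, pow_zero, Units.val_one, Matrix.one_mulVec, smul_smul,
          inv_mul_cancel₀ hrF, one_smul]
      · intro k _ hk
        rw [← Finset.sum_smul, hsum, if_neg hk, zero_smul]
      · simp
    · rw [mem_eig, Matrix.mulVec_smul, Matrix.mulVec_sum, smul_comm (z x)]
      congr 1
      rw [Finset.smul_sum]
      refine Fintype.sum_equiv (Equiv.addRight 1) _ _ fun k => ?_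
      rw [Matrix.mulVec_smul, ← mv, ← pow_succ', smul_smul, Equiv.coe_addRight, ← zadd]
      congr 1
      · congr 1; ring
      · congr 2
        conv_lhs => rw [pow_eq_pow_mod _ hfr]
        rw [ZMod.val_add, ZMod.val_one]
    · exact Submodule.smul_mem _ _ (Submodule.sum_mem _ fun k _ => Submodule.smul_mem _ _ (hQ _))
  obtain ⟨E, hE⟩ : ∃ E : ZMod r → ZMod r → ℕ, ∀ i j, E i j = Module.finrank F ↥(eig f (z i) ⊓ eig g (c * z j)) :=
    ⟨_, fun _ _ => rfl⟩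
  have hwsum : w ≤ ∑ i, E i 0 := by
    have hsup : eig g c ≤ Finset.univ.sup fun i => eig f (z i) ⊓ eig g (c * z 0) := fun v hv => by
      obtain ⟨P, hP, hP1, hP2⟩ := hdec v
      rw [← hP]
      refine Submodule.sum_mem _ fun i _ =>
        Finset.le_sup (f := fun i => eig f (z i) ⊓ eig g (c * z 0)) (Finset.mem_univ i) ⟨hP1 i, ?_⟩
      rw [zz, mul_one]
      refine hP2 i _ fun k => ?_
      rw [mem_eig, ← mv, ((show Commute g f from hgf).pow_right k).eq, mv, mem_eig.1 hv, Matrix.mulVec_smul]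
    refine hw ▸ (Submodule.finrank_mono hsup).trans ?_
    have : ∀ s : Finset (ZMod r), Module.finrank F ↥(s.sup fun i => eig f (z i) ⊓ eig g (c * z 0)) ≤ ∑ i ∈ s, E i 0 := fun s => by
      induction s using Finset.induction_on with
      | empty => simp
      | @insert a s ha ih =>
        rw [Finset.sup_insert, Finset.sum_insert ha, hE]
        exact (Submodule.finrank_add_le_finrank_add_finrank _ _).trans (Nat.add_le_add_left ih _)
    exact this _
  have hVi : ∀ i, ∑ j, E i j ≤ Module.finrank F ↥(eig f (z i)) := fun i => by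
    simp only [hE]
    exact sum_eig_le g (fun j => c * z j) (fun j j' h => zinj (mul_left_cancel₀ hc h)) _ _
  have hVn : ∀ i, r * Module.finrank F ↥(eig f (z i)) ≤ n := fun i => hsmall f mf hfZ _ (z0 i)
  have hzη : (η : F) = z (e : ZMod r) := by rw [zc, hηe, Units.val_pow_eq_pow_val]
  have hstep : ∀ i j, E i j ≤ E (i + e) (j + i) := fun i j => by
    simp only [hE]
    refine map_le t fun v hv => ?_
    rw [Submodule.mem_inf, mem_eig, mem_eig] at hv ⊢
    refine ⟨?_, ?_⟩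
    · rw [← mv, hft, mv, mv, sc_mv, hv.1, Matrix.mulVec_smul, smul_smul, hzη, zadd, mul_comm]
    · rw [← mv, hgt, mv, mv, hv.2, Matrix.mulVec_smul, hv.1, smul_smul, Matrix.mulVec_smul, zadd]
      congr 1; ring
  refine ⟨hr2, fun h3 => ⟨?_, ?_⟩, fun h5 => ?_⟩
  · by_contra hϖ3
    subst h3
    exact hncop (Nat.Coprime.mul_left hodd ((Nat.coprime_primes Nat.prime_three hϖ).2 (Ne.symm hϖ3)))
  · subst h3
    have hV : ∀ i j : ZMod 3, Module.finrank F ↥(eig f (z i)) ≤ Module.finrank F ↥(eig f (z j)) := fun i j => by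
      obtain ⟨k, hk⟩ := IsPrimitiveRoot.eq_pow_of_pow_eq_one hp₀ (ξ := (θ : F)) (by
        rw [← Units.val_pow_eq_pow_val, hθ.pow_eq_one, Units.val_one])
      have hk0 : ((k : ℕ) : ZMod 3) ≠ 0 := fun h0 => by
        have h1 := hk.2
        rw [← zc, h0, zz] at h1
        exact (IsPrimitiveRoot.coe_units_iff.2 hθ).ne_one hr.one_lt h1.symm
      have hm : ∀ m : ℕ, Module.finrank F ↥(eig f (z i)) ≤ Module.finrank F ↥(eig f (z (i + m * k))) := fun m => by
        induction m with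
        | zero => rw [Nat.cast_zero, zero_mul, add_zero]
        | succ m ih =>
          refine ih.trans (map_le u fun v hv => ?_)
          rw [mem_eig] at hv ⊢
          rw [← mv, hθu, mv, mv, sc_mv, hv, Matrix.mulVec_smul, smul_smul,
            show i + (m + 1 : ℕ) * (k : ZMod 3) = (k : ZMod 3) + (i + m * k) by push_cast; ring, zadd (k : ZMod 3), zc, hk.2]
      have := hm (((j - i) / k : ZMod 3).val)
      rwa [ZMod.natCast_zmod_val, div_mul_cancel₀ _ hk0, add_sub_cancel] at this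
    have hall : ⊤ ≤ (Finset.univ : Finset (ZMod 3)).sup fun i => eig f (z i) := fun v _ => by
      obtain ⟨P, hP, hP1, -⟩ := hdec v
      rw [← hP]
      exact Submodule.sum_mem _ fun i _ => Finset.le_sup (f := fun i => eig f (z i)) (Finset.mem_univ i) (hP1 i)
    have h1 := sum_eig_le' f z zinj Finset.univ
    have h2 : n ≤ ∑ i : ZMod 3, Module.finrank F ↥(eig f (z i)) := by
      have h := Submodule.finrank_mono hall
      rw [finrank_top, Module.finrank_fin_fun] at h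
      have hs : ∀ s : Finset (ZMod 3), Module.finrank F ↥(s.sup fun i => eig f (z i)) ≤ ∑ i ∈ s, Module.finrank F ↥(eig f (z i)) := fun s => by
        induction s using Finset.induction_on with
        | empty => simp
        | @insert a s ha ih =>
          rw [Finset.sup_insert, Finset.sum_insert ha]
          exact (Submodule.finrank_add_le_finrank_add_finrank _ _).trans (Nat.add_le_add_left ih _)
      exact h.trans (hs _)
    rw [Finset.sum_congr rfl fun i _ => le_antisymm (hV i 0) (hV 0 i), Finset.sum_const, Finset.card_univ, ZMod.card, smul_eq_mul] at h1 h2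
    exact ⟨_, le_antisymm h2 h1⟩
  · rcases he01 with rfl | rfl
    · have hrow : ∀ i : ZMod r, i ≠ 0 → r * E i 0 ≤ Module.finrank F ↥(eig f (z i)) := fun i hi => by
        refine le_trans ?_ (hVi i)
        have hk : ∀ k : ℕ, E i 0 ≤ E i (k * i) := fun k => by
          induction k with
          | zero => simp
          | succ k ih =>
            refine ih.trans ((hstep i (k * i)).trans (le_of_eq ?_))
            push_cast
            rw [add_zero, add_one_mul]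
        have h1 := Finset.card_nsmul_le_sum Finset.univ (fun j => E i j) (E i 0) fun j _ => by
          have := hk ((j / i).val)
          rwa [ZMod.natCast_zmod_val, div_mul_cancel₀ _ hi] at this
        simpa [ZMod.card] using h1
      have h0 : E 0 0 ≤ Module.finrank F ↥(eig f (z 0)) :=
        (Finset.single_le_sum (f := fun j => E 0 j) (fun _ _ => Nat.zero_le _) (Finset.mem_univ _)).trans (hVi 0)
      have hall : ∀ i : ZMod r, r * (r * E i 0) ≤ if i = 0 then r * n else n := fun i => by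
        split_ifs with hi
        · subst hi
          exact Nat.mul_le_mul_left r ((Nat.mul_le_mul_left r h0).trans (hVn 0))
        · exact (Nat.mul_le_mul_left r (hrow i hi)).trans (hVn i)
      have h1 : r * (r * w) ≤ r * n + (r - 1) * n := by
        refine (Nat.mul_le_mul_left r (Nat.mul_le_mul_left r hwsum)).trans ?_
        rw [Finset.mul_sum, Finset.mul_sum]
        refine (Finset.sum_le_sum fun i _ => hall i).trans (le_of_eq ?_)
        rw [Finset.sum_ite, Finset.filter_eq', if_pos (Finset.mem_univ _), Finset.sum_singleton, Finset.sum_const, smul_eq_mul,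
          Finset.filter_ne', Finset.card_erase_of_mem (Finset.mem_univ _), Finset.card_univ, ZMod.card]
      obtain ⟨m, rfl⟩ : ∃ m, r = m + 5 := ⟨r - 5, by omega⟩
      rw [show m + 5 - 1 = m + 4 by omega] at h1
      nlinarith [Nat.mul_le_mul_left ((m + 5) * (m + 5)) (not_le.1 h2w), Nat.zero_le (m * m * n), Nat.zero_le (m * n)]
    · have h20 : (2 : ZMod r) ≠ 0 := fun h => hr2 ((Nat.prime_dvd_prime_iff_eq hr Nat.prime_two).1
        ((ZMod.natCast_eq_zero_iff 2 r).1 (by exact_mod_cast h)))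
      obtain ⟨h, hh⟩ : ∃ h : ZMod r → ZMod r, ∀ i, h i = -(i * (i - 1)) / 2 := ⟨_, fun _ => rfl⟩
      have hto : ∀ i, E i 0 ≤ E 0 (h i) := fun i => by
        have hk : ∀ k : ℕ, E i 0 ≤ E (i + k) (k * i + k * ((k : ZMod r) - 1) / 2) := fun k => by
          induction k with
          | zero => simp
          | succ k ih =>
            refine ih.trans ((hstep _ _).trans (le_of_eq ?_))
            push_cast
            congr 1
            · ring
            · field_simp; ring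
        have := hk (-i).val
        rw [ZMod.natCast_zmod_val, add_neg_cancel] at this
        convert this using 2
        rw [hh]; field_simp; ring
      have hfib : ∀ j : ZMod r, (Finset.univ.filter fun i => h i = j).card ≤ 2 := fun j => by
        rcases Finset.eq_empty_or_nonempty (Finset.univ.filter fun i => h i = j) with h0 | ⟨i₀, hi₀⟩
        · simp [h0]
        refine (Finset.card_le_card (t := {i₀, 1 - i₀}) fun i hi => ?_).trans Finset.card_le_two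
        have e1 := (Finset.mem_filter.1 hi).2.trans (Finset.mem_filter.1 hi₀).2.symm
        rw [hh, hh, div_left_inj' h20] at e1
        have e2 : (i - i₀) * (i - (1 - i₀)) = 0 := by linear_combination -e1
        rw [Finset.mem_insert, Finset.mem_singleton]
        exact (mul_eq_zero.1 e2).imp sub_eq_zero.1 sub_eq_zero.1
      have h1 : ∑ i, E 0 (h i) ≤ 2 * ∑ j, E 0 j := by
        rw [← Finset.sum_fiberwise Finset.univ h, Finset.mul_sum]
        refine Finset.sum_le_sum fun j _ => ?_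
        rw [Finset.sum_congr rfl fun i hi => by rw [(Finset.mem_filter.1 hi).2], Finset.sum_const, smul_eq_mul]
        exact Nat.mul_le_mul_right _ (hfib j)
      have h2 := (hwsum.trans (Finset.sum_le_sum fun i _ => hto i)).trans (h1.trans (Nat.mul_le_mul_left 2 (hVi 0)))
      have h3 := Nat.mul_le_mul_left r h2
      have h4 := hVn 0
      nlinarith

end Cfsg.Agent.S5877
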