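import Cfsg.Statements.S5883
import Cfsg.Agent.Lib.CosetEnum.Groups.Fi23Simple
import Cfsg.Agent.Lib.CosetEnum.Fi23Norm.Centre.Max.Derived
import Cfsg.Agent.Lib.CosetEnum.Fi23Norm.Centre.Max.TwoPrime
import Cfsg.Agent.Lib.CosetEnum.Fi23Norm.Centre.Max.Maximal

set_option autoImplicit false
open Cfsg

namespace Cfsg.Agent.S5883

open Cfsg.Lib.CosetEnum
open Cfsg.Lib.CosetEnum.Fi23Norm

/-- The constant 10 in the statement that H⁽¹⁰⁾ is perfect for every maximal subgroup H of a finite almost simple group cannot be lowered to 9: there exist a finite almost simple group G (with a non-abelian simple normal subgroup of trivial centralizer) and a maximal subgroup H of G whose ninth derived subgroup H⁽⁹⁾ is not perfect, i.e. H⁽¹⁰⁾ ≠ H⁽⁹⁾. (A solvable maximal subgroup of derived length 10 in the Fischer group Fi₂₃ is such an example.) -/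
theorem result :
    ∃ (G : Type) (_ : Group G) (_ : Finite G) (S H : Subgroup G), S.Normal ∧ IsSimpleGroup S ∧ ¬ IsMulCommutative S ∧
      Subgroup.centralizer (S : Set G) = ⊥ ∧ IsCoatom H ∧ derivedSeries H 10 ≠ derivedSeries H 9 := by
  classical
  have hFi : Cfsg.IsFi23 Cfsg.Spor.Fi23 := Fi23Pres.isFi23
  have hsimple : IsSimpleGroup Cfsg.Spor.Fi23 := hFi.1
  have hcard := hFi.2
  have hfin : Finite Cfsg.Spor.Fi23 := Nat.finite_of_card_ne_zero (by rw [hcard]; decide)
  have hncomm : ¬ ∀ a b : Cfsg.Spor.Fi23, a * b = b * a := by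
    intro hc
    letI : CommGroup Cfsg.Spor.Fi23 := { (inferInstance : Group Cfsg.Spor.Fi23) with mul_comm := hc }
    have hp := IsSimpleGroup.prime_card (α := Cfsg.Spor.Fi23)
    rw [hcard] at hp
    exact absurd hp (by norm_num)
  have hcen : Subgroup.center Cfsg.Spor.Fi23 = ⊥ :=
    ((Subgroup.center Cfsg.Spor.Fi23).normal_of_characteristic.eq_bot_or_eq_top).resolve_right fun h =>
      hncomm fun a b => (Subgroup.mem_center_iff.1 (h ▸ Subgroup.mem_top a) b).symm
  obtain ⟨A, hZ, hk, hp, -⟩ := Fi23Out.exists_table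
  have h0 : 0 < A.k := by omega
  obtain ⟨T⟩ : Nonempty (Fi23Norm.Fi23Tab Cfsg.Spor.Fi23 (conjugatesOf (Fi23Norm.reroot A h0).d)) :=
    ⟨⟨Fi23Norm.reroot A h0, hZ, hk, hp, rfl, rfl, rfl, hcen, by rw [hcard]; norm_num⟩⟩
  let e : (⊤ : Subgroup Cfsg.Spor.Fi23) ≃* Cfsg.Spor.Fi23 := Subgroup.topEquiv
  have : IsSimpleGroup (⊤ : Subgroup Cfsg.Spor.Fi23) :=
    have : Nontrivial (⊤ : Subgroup Cfsg.Spor.Fi23) := e.toEquiv.nontrivial
    IsSimpleGroup.isSimpleGroup_of_surjective e.symm.toMonoidHom e.symm.surjective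
  refine ⟨Cfsg.Spor.Fi23, inferInstance, hfin, ⊤, Centre.nZ T, inferInstance, this,
    fun h => hncomm fun a b => congrArg Subtype.val (h.is_comm.comm ⟨a, Subgroup.mem_top a⟩ ⟨b, Subgroup.mem_top b⟩),
    by rw [Subgroup.coe_top, Subgroup.centralizer_univ, hcen],
    ⟨fun htop => ?_, fun M hM => Centre.Max.eq_top_of_lt T hM⟩, fun heq => ?_⟩
  · have hn : (Subgroup.zpowers (Centre.zG T)).Normal := Subgroup.normalizer_eq_top_iff.1 htop
    rcases hn.eq_bot_or_eq_top with h | h
    · exact Centre.zG_ne_one T (Subgroup.zpowers_eq_bot.1 h)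
    · have hz := Centre.card_zG T
      rw [h, Subgroup.card_top, hcard] at hz
      exact absurd hz (by norm_num)
  · obtain ⟨n, hn⟩ := (Group.isSolvable_def _).1 (Centre.Max.isSolvable_nZ T)
    have hstab : ∀ m, derivedSeries ↥(Centre.nZ T) (9 + m) = derivedSeries ↥(Centre.nZ T) 9 := by
      intro m
      induction m with
      | zero => rfl
      | succ m ih => rw [← Nat.add_assoc, derivedSeries_succ, ih, ← derivedSeries_succ, heq]
    refine Centre.Max.derived_nine_ne_bot T ?_
    rw [← hstab n, eq_bot_iff, ← hn]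
    exact derivedSeries_antitone _ (Nat.le_add_left n 9)

end Cfsg.Agent.S5883
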