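import Cfsg.Statements.S5885
-- import your own Cfsg.Agent.* helpers here

set_option autoImplicit false
open Cfsg

namespace Cfsg.Agent.S5885

open scoped Pointwise

variable {G Ω : Type*} [Group G] [MulAction G Ω]

/-- Every product of two transpositions is induced by `G`. -/
def RealizesPairs (G Ω : Type*) [Group G] [MulAction G Ω] [DecidableEq Ω] : Prop :=
  ∀ a b c d : Ω, a ≠ b → c ≠ d → ∃ g : G, ∀ w : Ω, g • w = (Equiv.swap a b * Equiv.swap c d) w

theorem realizes [Finite Ω] [DecidableEq Ω] {n : ℕ} (hn : Nat.card Ω = n)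
    [MulAction.IsPreprimitive G Ω]
    (hA : ∀ P : Subgroup (Equiv.Perm (Fin n)), MulAction.IsPreprimitive P (Fin n) →
      alternatingGroup (Fin n) ≤ P) : RealizesPairs G Ω := by
  subst hn
  have : Fintype Ω := Fintype.ofFinite Ω
  let e : Ω ≃ Fin (Nat.card Ω) := Finite.equivFin Ω
  let φ : G →* Equiv.Perm (Fin (Nat.card Ω)) :=
    e.permCongrHom.toMonoidHom.comp (MulAction.toPermHom G Ω)
  have hφ : ∀ (g : G) (w : Ω), φ g (e w) = e (g • w) := by
    intro g w
    simp [φ]
  let f : Ω →ₑ[φ.rangeRestrict] Fin (Nat.card Ω) :=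
    { toFun := e
      map_smul' := fun g w => (hφ g w).symm }
  have hP : MulAction.IsPreprimitive φ.range (Fin (Nat.card Ω)) :=
    MulAction.IsPreprimitive.of_surjective (f := f) e.surjective
  intro a b c d hab hcd
  have hm : e.permCongrHom (Equiv.swap a b * Equiv.swap c d) ∈ φ.range := by
    apply hA _ hP
    rw [Equiv.Perm.mem_alternatingGroup]
    rw [show e.permCongrHom (Equiv.swap a b * Equiv.swap c d) =
      e.permCongr (Equiv.swap a b * Equiv.swap c d) from rfl, Equiv.Perm.sign_permCongr,
      map_mul, Equiv.Perm.sign_swap hab, Equiv.Perm.sign_swap hcd]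
    rfl
  obtain ⟨g, hg⟩ := hm
  refine ⟨g, fun w => e.injective ?_⟩
  rw [← hφ, hg]
  simp

/-- The stabiliser of a point `a` and of a proper set `O` through it is transitive on the other points of `O`. -/
theorem exists_move [Finite Ω] [DecidableEq Ω] (hR : RealizesPairs G Ω) (hodd : Odd (Nat.card Ω))
    {O : Set Ω} (hO : O ≠ Set.univ) {a x y : Ω} (ha : a ∈ O) (hx : x ∈ O) (hy : y ∈ O)
    (hxa : x ≠ a) (hya : y ≠ a) :
    ∃ g : G, g • a = a ∧ g • O = O ∧ g • x = y := by
  classical
  have key : ∀ g : G, (∀ w ∈ O, g • w ∈ O) → g • O = O := by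
    intro g hg
    refine Set.eq_of_subset_of_ncard_le ?_ ?_ (Set.toFinite O)
    · rintro _ ⟨w, hw, rfl⟩
      exact hg w hw
    · exact (Set.ncard_image_of_injective O (MulAction.injective g)).ge
  rcases eq_or_ne x y with rfl | hxy
  · exact ⟨1, one_smul _ _, one_smul _ _, one_smul _ _⟩
  by_cases h : ∃ z ∈ O, z ≠ a ∧ z ≠ x ∧ z ≠ y
  · obtain ⟨z, hz, hza, hzx, hzy⟩ := h
    obtain ⟨g', hg'⟩ := hR x z x y (Ne.symm hzx) hxy
    refine ⟨g', ?_, key g' ?_, ?_⟩
    · simp [hg', Equiv.swap_apply_of_ne_of_ne, hxa.symm, hya.symm, hza.symm]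
    · intro w hw
      rw [hg', Equiv.Perm.mul_apply]
      simp only [Equiv.swap_apply_def]
      split_ifs <;> assumption
    · simp [hg', Equiv.swap_apply_of_ne_of_ne hxy.symm hzy.symm]
  · push Not at h
    have hO3 : O = {a, x, y} := by
      ext w
      constructor
      · intro hw
        by_cases h1 : w = a
        · simp [h1]
        by_cases h2 : w = x
        · simp [h2]
        simp [h w hw h1 h2]
      · rintro (rfl | rfl | rfl) <;> assumption
    have hcard : O.ncard = 3 := by
      rw [hO3, Set.ncard_eq_three]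
      exact ⟨a, x, y, hxa.symm, hya.symm, hxy, rfl⟩
    have hc : 1 < Oᶜ.ncard := by
      have h1 := Set.ncard_add_ncard_compl O
      have h2 : Oᶜ.ncard ≠ 0 := by
        rw [Ne, Set.ncard_eq_zero (Set.toFinite _), Set.compl_empty_iff]
        exact hO
      rcases Nat.lt_or_ge 1 Oᶜ.ncard with h3 | h3
      · exact h3
      · exfalso
        have : Nat.card Ω = 4 := by omega
        rw [this] at hodd
        exact absurd hodd (by decide)
    obtain ⟨c, d, hc, hd, hcd⟩ := (Set.one_lt_ncard_iff (Set.toFinite _)).1 hc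
    have hne : ∀ w ∈ O, w ≠ c ∧ w ≠ d := fun w hw => ⟨fun h => hc (h ▸ hw), fun h => hd (h ▸ hw)⟩
    obtain ⟨g, hg⟩ := hR x y c d hxy hcd
    refine ⟨g, ?_, key g ?_, ?_⟩
    · simp [hg, Equiv.swap_apply_of_ne_of_ne, (hne a ha).1, (hne a ha).2, hxa.symm, hya.symm]
    · intro w hw
      rw [hg, Equiv.Perm.mul_apply, Equiv.swap_apply_of_ne_of_ne (hne w hw).1 (hne w hw).2,
        Equiv.swap_apply_def]
      split_ifs <;> assumption
    · simp [hg, Equiv.swap_apply_of_ne_of_ne, (hne x hx).1, (hne x hx).2]

theorem core [Finite Ω] [DecidableEq Ω] [MulAction.IsPreprimitive G Ω] (hR : RealizesPairs G Ω)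
    (hodd : Odd (Nat.card Ω)) (a : Ω) (hMtop : MulAction.stabilizer G a ≠ ⊤)
    (H : Subgroup G) (hHM : H ≤ MulAction.stabilizer G a)
    (hmax : IsCoatom (H.subgroupOf (MulAction.stabilizer G a)))
    (K : Subgroup G) (hK : IsCoatom K) (hHK : H ≤ K) (hMK : ¬ MulAction.stabilizer G a ≤ K) :
    IsCoatom (H.subgroupOf K) := by
  classical
  have hmax' : ∀ L : Subgroup G, H ≤ L → L ≤ MulAction.stabilizer G a →
      L = H ∨ L = MulAction.stabilizer G a := by
    intro L h1 h2
    have h3 : H.subgroupOf (MulAction.stabilizer G a) ≤ L.subgroupOf (MulAction.stabilizer G a) :=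
      fun z hz => h1 hz
    rcases hmax.le_iff.1 h3 with h | h
    · exact Or.inr (le_antisymm h2 (Subgroup.subgroupOf_eq_top.1 h))
    · refine Or.inl ?_
      have := Subgroup.subgroupOf_inj.1 h
      rwa [inf_of_le_left h2, inf_of_le_left hHM] at this
  have hH : K ⊓ MulAction.stabilizer G a = H := by
    rcases hmax' _ (le_inf hHK hHM) inf_le_right with h | h
    · exact h
    · exact absurd (h ▸ inf_le_left) hMK
  set O : Set Ω := MulAction.orbit K a with hOdef
  have haO : a ∈ O := MulAction.mem_orbit_self a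
  by_cases hOu : O = Set.univ
  · -- `K` is transitive
    have hKt : MulAction.IsPretransitive K Ω := by
      refine MulAction.IsPretransitive.mk fun x y => ?_
      have hm : ∀ w : Ω, w ∈ MulAction.orbit K a := fun w => by
        rw [← hOdef, hOu]; trivial
      obtain ⟨k, hk⟩ := hm x
      obtain ⟨l, hl⟩ := hm y
      exact ⟨l * k⁻¹, by rw [← hk, mul_smul, inv_smul_smul]; exact hl⟩
    have hΩ : Nontrivial Ω := by
      by_contra hn
      rw [not_nontrivial_iff_subsingleton] at hn
      exact hMtop (eq_top_iff.2 fun g _ => MulAction.mem_stabilizer_iff.2 (Subsingleton.elim _ _))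
    have hst : H.subgroupOf K = MulAction.stabilizer K a := by
      ext k
      rw [Subgroup.mem_subgroupOf, ← hH]
      simp [MulAction.mem_stabilizer_iff, Subgroup.smul_def]
    have hKp : MulAction.IsPreprimitive K Ω := by
      refine MulAction.IsPreprimitive.of_isTrivialBlock_base a ?_
      intro B haB hB
      by_contra hT
      obtain ⟨hB1, hBu⟩ : ¬ B.Subsingleton ∧ B ≠ Set.univ := by
        simpa [MulAction.IsTrivialBlock, not_or] using hT
      obtain ⟨y, hy⟩ : ∃ y, y ∉ B := by simpa [Set.ne_univ_iff_exists_notMem] using hBu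
      obtain ⟨k, rfl⟩ := MulAction.exists_smul_eq K a y
      set B₁ := k • B with hB₁
      have hyB : k • a ∈ B₁ := ⟨a, haB, rfl⟩
      have hdisj : Disjoint B₁ B := by
        rcases hB.smul_eq_or_disjoint k with h | h
        · exact absurd (h ▸ hyB) hy
        · exact h
      have hbig : 1 < B.ncard := (Set.one_lt_ncard_iff_nontrivial_and_finite).2
        ⟨Set.not_subsingleton_iff.1 hB1, Set.toFinite _⟩
      have hcard1 : B₁.ncard = B.ncard := Set.ncard_smul_set k B
      obtain ⟨y', hy'1, hy'2⟩ : ∃ y' ∈ B₁, y' ≠ k • a :=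
        Set.exists_ne_of_one_lt_ncard (by omega) (k • a)
      obtain ⟨z, hz⟩ : ∃ z, z ∉ B ∪ B₁ := by
        refine (Set.ne_univ_iff_exists_notMem _).1 fun h => ?_
        have h2 : (B ∪ B₁).ncard = B.ncard + B₁.ncard :=
          Set.ncard_union_eq hdisj.symm (Set.toFinite _) (Set.toFinite _)
        rw [h, Set.ncard_univ, hcard1] at h2
        rw [h2] at hodd
        exact absurd hodd (by simp [← two_mul])
      simp only [Set.mem_union, not_or] at hz
      obtain ⟨x, hxB, hxa⟩ : ∃ x ∈ B, x ≠ a := Set.exists_ne_of_one_lt_ncard hbig a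
      let S : Subgroup G := MulAction.stabilizer G a ⊓ MulAction.stabilizer G B
      have hne : ∀ w ∈ B, w ≠ k • a ∧ w ≠ y' ∧ w ≠ z := fun w hw =>
        ⟨fun h => hy (h ▸ hw), fun h => Set.disjoint_left.1 hdisj hy'1 (h ▸ hw), fun h => hz.1 (h ▸ hw)⟩
      have hky : ∀ w ∈ B₁, w ≠ z := fun w hw h => hz.2 (h ▸ hw)
      have hHS : H ≤ S := by
        rw [← hH]
        rintro g ⟨hgK, hga⟩
        refine ⟨hga, ?_⟩
        rcases hB.smul_eq_or_disjoint (⟨g, hgK⟩ : K) with h | h
        · exact h
        · exact absurd ⟨a, haB, hga⟩ (Set.disjoint_right.1 h haB)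
      rcases hmax' S hHS inf_le_left with hS | hS
      · -- a three cycle inside `S` that does not respect the blocks
        obtain ⟨g, hg⟩ := hR (k • a) z (k • a) y' (hky _ hyB) (Ne.symm hy'2)
        have hfix : ∀ w ∈ B, g • w = w := by
          intro w hw
          rw [hg, Equiv.Perm.mul_apply, Equiv.swap_apply_of_ne_of_ne (hne w hw).1 (hne w hw).2.1,
            Equiv.swap_apply_of_ne_of_ne (hne w hw).1 (hne w hw).2.2]
        have hgS : g ∈ S := by
          refine ⟨hfix a haB, ?_⟩
          exact (Set.image_congr hfix).trans (Set.image_id' B)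
        rw [hS, ← hH] at hgS
        have h1 : g • (k • a) = y' := by
          rw [hg, Equiv.Perm.mul_apply, Equiv.swap_apply_left,
            Equiv.swap_apply_of_ne_of_ne hy'2 (hky _ hy'1)]
        have h2 : g • y' = z := by
          rw [hg, Equiv.Perm.mul_apply, Equiv.swap_apply_right, Equiv.swap_apply_left]
        have hB1 : MulAction.IsBlock K B₁ := hB.translate k
        rcases hB1.smul_eq_or_disjoint (⟨g, hgS.1⟩ : K) with h | h
        · exact hz.2 (h ▸ ⟨y', hy'1, h2⟩)
        · exact Set.disjoint_left.1 h ⟨k • a, hyB, h1⟩ hy'1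
      · -- `S` is not the whole point stabiliser
        obtain ⟨g, hg⟩ := hR x z x (k • a) (hne x hxB).2.2 (hne x hxB).1
        have hgM : g ∈ MulAction.stabilizer G a := by
          simp [MulAction.mem_stabilizer_iff, hg, Equiv.swap_apply_of_ne_of_ne,
              (hne a haB).1, (hne a haB).2.2, Ne.symm hxa]
        rw [← hS] at hgM
        have h1 : g • x = k • a := by
          rw [hg, Equiv.Perm.mul_apply, Equiv.swap_apply_left,
            Equiv.swap_apply_of_ne_of_ne (Ne.symm (hne x hxB).1) (hky _ hyB)]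
        exact hy (h1 ▸ (hgM.2 ▸ Set.smul_mem_smul_set (a := g) hxB))
    rw [hst]
    exact MulAction.IsPreprimitive.isCoatom_stabilizer_of_isPreprimitive (G := K) a
  · -- `K` is the stabiliser of its orbit
    have hKO : K = MulAction.stabilizer G O := by
      have hle : K ≤ MulAction.stabilizer G O := fun g hg =>
        MulAction.smul_orbit (⟨g, hg⟩ : K) a
      rcases hK.le_iff.1 hle with h | h
      · exfalso
        refine hOu (Set.eq_univ_of_forall fun w => ?_)
        obtain ⟨g, rfl⟩ := MulAction.exists_smul_eq G a w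
        have : g ∈ MulAction.stabilizer G O := h ▸ Subgroup.mem_top g
        rw [← (MulAction.mem_stabilizer_iff.1 this)]
        exact ⟨a, haO, rfl⟩
      · exact h.symm
    refine ⟨fun h => hMK ?_, fun L hL => ?_⟩
    · have hKH : K ≤ H := Subgroup.subgroupOf_eq_top.1 h
      rcases hK.le_iff.1 (hKH.trans hHM) with h' | h'
      · exact absurd h' hMtop
      · exact le_of_eq h'
    · obtain ⟨l, hlL, hlH⟩ := SetLike.exists_of_lt hL
      have hmemH : ∀ k : K, k • a = a → k ∈ L := fun k hk => hL.le (by
        rw [Subgroup.mem_subgroupOf, ← hH]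
        exact ⟨k.2, hk⟩)
      have hla : l • a ≠ a := fun h => hlH (by
        rw [Subgroup.mem_subgroupOf, ← hH]
        exact ⟨l.2, h⟩)
      rw [eq_top_iff]
      intro k _
      by_cases hka : k • a = a
      · exact hmemH k hka
      obtain ⟨g, hga, hgO, hgx⟩ := exists_move hR hodd hOu haO (MulAction.mem_orbit a l)
        (MulAction.mem_orbit a k) hla hka
      have hgK : g ∈ K := by rw [hKO]; exact hgO
      have h1 : (⟨g, hgK⟩ : K) ∈ L := hmemH _ hga
      have h2 : ((⟨g, hgK⟩ : K) * l)⁻¹ * k ∈ L := by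
        apply hmemH
        rw [mul_smul, inv_smul_eq_iff, mul_smul]
        exact hgx.symm
      have := mul_mem (mul_mem h1 hlL) h2
      rwa [mul_inv_cancel_left] at this


/-- Let n be an odd positive integer such that every primitive permutation group of degree n contains the alternating group (so the symmetric and alternating groups are the only primitive groups of degree n). Let G be a finite group, M a maximal subgroup of G of index n, and H a maximal subgroup of M. Then H is a second maximal subgroup of G: H is maximal in every maximal subgroup K of G containing H. -/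
theorem result {G : Type*} [Group G]
    [Finite G] (n : ℕ) (hodd : Odd n)
    (hA : ∀ P : Subgroup (Equiv.Perm (Fin n)), MulAction.IsPreprimitive P (Fin n) → alternatingGroup (Fin n) ≤ P)
    (M : Subgroup G) (hM : IsCoatom M) (hn : M.index = n) (H : Subgroup G) (hHM : H ≤ M)
    (hmax : IsCoatom (H.subgroupOf M)) (K : Subgroup G) (hK : IsCoatom K) (hHK : H ≤ K) :
    IsCoatom (H.subgroupOf K) := by
  classical
  by_cases hMK : M ≤ K
  · have : K = M := by
      rcases hM.le_iff.1 hMK with h | h
      · exact absurd h hK.1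
      · exact h
    subst this
    exact hmax
  have hst : MulAction.stabilizer G ((1 : G) : G ⧸ M) = M := MulAction.stabilizer_quotient M
  have hnt : Nontrivial (G ⧸ M) := by
    rw [← Finite.one_lt_card_iff_nontrivial, ← Subgroup.index]
    have h1 : M.index ≠ 1 := fun h => hM.1 (Subgroup.index_eq_one.1 h)
    have h2 : M.index ≠ 0 := Subgroup.index_ne_zero_of_finite
    omega
  have : MulAction.IsPreprimitive G (G ⧸ M) := by
    rw [← MulAction.isCoatom_stabilizer_iff_preprimitive G (X := G ⧸ M) ((1 : G) : G ⧸ M), hst]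
    exact hM
  have hR := realizes (G := G) (Ω := G ⧸ M) (n := n) hn hA
  exact core hR (by rw [← Subgroup.index, hn]; exact hodd) ((1 : G) : G ⧸ M) (by rw [hst]; exact hM.1)
    H (by rwa [hst]) (by rw [hst]; exact hmax) K hK hHK (by rwa [hst])

end Cfsg.Agent.S5885
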