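import Cfsg.Statements.S5890
import Cfsg.Agent.Lib.Dickson.PGLMax.Main

set_option autoImplicit false
open Cfsg

namespace Cfsg.Agent.S5890

/-- Let F be a finite field with q ≥ 4 elements, let L ≤ PGL₂(F) be the image of SL₂(F) (a copy of PSL₂(F), of index gcd(2, q − 1)), and let M be a maximal subgroup of PGL₂(F) that does not contain L. Suppose q ∉ {7, 9, 11} and that q is not a prime congruent to ±11 or ±19 modulo 40. Then M ∩ L is a maximal subgroup of L. (For the excluded q there are maximal subgroups of PGL₂(q) — dihedral groups of order 12 and 16 at q = 7, of order 20 and 16 at q = 9, of order 20 at q = 11, and S₄ at the excluded primes — whose intersection with L is not maximal in L.) -/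
theorem result {F : Type*} [Field F]
    [Fintype F] (h4 : 4 ≤ Fintype.card F) (h7 : Fintype.card F ≠ 7) (h9 : Fintype.card F ≠ 9) (h11 : Fintype.card F ≠ 11)
    (h40 : (Fintype.card F).Prime → Fintype.card F % 40 ∉ ({11, 19, 21, 29} : Finset ℕ))
    (M : Subgroup (Matrix.ProjGenLinGroup (Fin 2) F)) (hM : IsCoatom M)
    (hML : ¬ (Matrix.ProjGenLinGroup.mk.comp Matrix.SpecialLinearGroup.toGL).range ≤ M) :
    IsCoatom ((M ⊓ (Matrix.ProjGenLinGroup.mk.comp Matrix.SpecialLinearGroup.toGL).range).subgroupOf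
      (Matrix.ProjGenLinGroup.mk.comp Matrix.SpecialLinearGroup.toGL).range) := by
  classical
  obtain ⟨p, hpp, hp, n, hn0, hn⟩ := Cfsg.Lib.Dickson.exists_char (F := F)
  haveI := Fact.mk hpp
  haveI : Finite (Matrix.ProjGenLinGroup (Fin 2) F) :=
    Finite.of_surjective _ Matrix.ProjGenLinGroup.mk_surjective
  rw [Cfsg.Lib.Dickson.range_comp_toGL_eq] at hML ⊢
  let e : Matrix.ProjectiveSpecialLinearGroup (Fin 2) F ≃* Cfsg.Lib.Dickson.pslIn F :=
    MonoidHom.ofInjective Matrix.ProjectiveSpecialLinearGroup.toPGL_injective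
  have heq : (M ⊓ Cfsg.Lib.Dickson.pslIn F).subgroupOf (Cfsg.Lib.Dickson.pslIn F) =
      e.mapSubgroup (Cfsg.Lib.Dickson.pslPart M) := by
    ext z
    constructor
    · intro hz
      refine ⟨e.symm z, ?_, e.apply_symm_apply z⟩
      show Matrix.ProjectiveSpecialLinearGroup.toPGL (e.symm z) ∈ M
      rw [show Matrix.ProjectiveSpecialLinearGroup.toPGL (e.symm z) = (z : Matrix.ProjGenLinGroup (Fin 2) F) from
        congrArg Subtype.val (e.apply_symm_apply z)]
      exact hz.1
    · rintro ⟨g, hg, rfl⟩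
      exact ⟨hg, (e g).2⟩
  rw [heq, OrderIso.isCoatom_iff]
  rcases Nat.mod_two_eq_zero_or_one (Fintype.card F) with he | ho
  · -- in even characteristic the special part is everything
    have hcard : Nat.card (Cfsg.Lib.Dickson.pslIn F) = Nat.card (Matrix.ProjGenLinGroup (Fin 2) F) := by
      rw [← Nat.card_congr e.toEquiv, Cfsg.Lib.Dickson.card_PGL_two_eq, ← Cfsg.Lib.Linear.Two.card_PSL_two (F := F),
        show Nat.gcd 2 (Fintype.card F - 1) = 1 by
          rw [Nat.gcd_rec, show (Fintype.card F - 1) % 2 = 1 by omega]; rfl, one_mul]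
    have htop := Subgroup.eq_top_of_card_eq _ hcard
    have hs : Function.Surjective (Matrix.ProjectiveSpecialLinearGroup.toPGL (n := Fin 2) (R := F)) :=
      MonoidHom.range_eq_top.mp htop
    exact ((MulEquiv.comapSubgroup (MulEquiv.ofBijective _
      ⟨Matrix.ProjectiveSpecialLinearGroup.toPGL_injective, hs⟩)).isCoatom_iff M).mpr hM
  · have h5 : 5 ≤ Fintype.card F := by omega
    exact (⟨ho, h5, hM, hML⟩ : Cfsg.Lib.Dickson.PGLMaxSub M).isCoatom_pslPart p h7 h9 h11 h40

end Cfsg.Agent.S5890
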