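import Cfsg.Statements.S5905


set_option autoImplicit false
open Cfsg

namespace Cfsg.Agent.S5905

variable {Ω : Type*}

/-- Permutations preserving the partition into fibres of `f`. -/
def blockStab {β : Type*} (f : Ω → β) : Subgroup (Equiv.Perm Ω) where
  carrier := {g : Equiv.Perm Ω | ∀ x y : Ω, f x = f y ↔ f (g x) = f (g y)}
  one_mem' := fun _ _ => Iff.rfl
  mul_mem' := fun {a b} ha hb x y => (hb x y).trans (ha _ _)
  inv_mem' := fun {a} ha x y => by simpa using (ha (a⁻¹ x) (a⁻¹ y)).symm

theorem closure_eq_blockStab {β : Type*} (f : Ω → β) :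
    Subgroup.closure {g : Equiv.Perm Ω | ∀ x y : Ω, f x = f y ↔ f (g x) = f (g y)} = blockStab f :=
  Subgroup.closure_eq (blockStab f)

theorem exists_block_perm [Fintype Ω] {a b : ℕ} (f : Ω → Fin b)
    (hf : ∀ i : Fin b, Nat.card {x : Ω // f x = i} = a) (σ : Equiv.Perm (Fin b)) :
    ∃ g ∈ blockStab f, ∀ x, f (g x) = σ (f x) := by
  classical
  have hfib : ∀ i, {x : Ω // f x = i} ≃ Fin a := fun i =>
    (Fintype.equivFinOfCardEq (by rw [← Nat.card_eq_fintype_card]; exact hf i))
  let e : Ω ≃ Fin b × Fin a :=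
    (Equiv.sigmaFiberEquiv f).symm.trans ((Equiv.sigmaCongrRight hfib).trans (Equiv.sigmaEquivProd _ _))
  have he : ∀ x, (e x).1 = f x := fun x => rfl
  let g : Equiv.Perm Ω := e.trans ((σ.prodCongr (Equiv.refl _)).trans e.symm)
  have hg : ∀ x, f (g x) = σ (f x) := fun x => by
    rw [← he, ← he]; simp [g]
  exact ⟨g, fun x y => by rw [hg, hg]; exact σ.injective.eq_iff.symm, hg⟩

theorem isCoatom_blockStab [Fintype Ω] [DecidableEq Ω] (a b : ℕ) (ha : 2 ≤ a) (hb : 2 ≤ b)
    (f : Ω → Fin b) (hf : ∀ i : Fin b, Nat.card {x : Ω // f x = i} = a) :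
    IsCoatom (blockStab f) := by
  classical
  have hsurj : ∀ i, ∃ x, f x = i := fun i => by
    have : Nonempty {x : Ω // f x = i} := (Nat.card_pos_iff.1 (by rw [hf]; omega)).1
    exact ⟨this.some.1, this.some.2⟩
  have hswap : ∀ x y, f x = f y → Equiv.swap x y ∈ blockStab f := by
    intro x y hxy u v
    have : ∀ w, f (Equiv.swap x y w) = f w := fun w => by
      rw [Equiv.swap_apply_def]
      split_ifs with h1 h2
      · rw [h1, hxy]
      · rw [h2, hxy]
      · rfl
    rw [this, this]
  refine ⟨?_, fun L hL => ?_⟩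
  · intro htop
    obtain ⟨x, hx⟩ := hsurj ⟨0, by omega⟩
    obtain ⟨y, hy⟩ := hsurj ⟨1, by omega⟩
    obtain ⟨⟨x', hx'⟩, hne⟩ := Fintype.exists_ne_of_one_lt_card (by rw [← Nat.card_eq_fintype_card, hf]; omega : 1 < Fintype.card {z : Ω // f z = ⟨0, by omega⟩}) ⟨x, hx⟩
    have hmem : Equiv.swap x' y ∈ blockStab f := htop ▸ Subgroup.mem_top _
    have h := (hmem x x').1 (hx.trans hx'.symm)
    have hxx' : x ≠ x' := fun h => hne (Subtype.ext h.symm)
    have hxy : x ≠ y := fun h => by rw [h, hy] at hx; simp [Fin.ext_iff] at hx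
    rw [Equiv.swap_apply_of_ne_of_ne hxx' hxy, Equiv.swap_apply_left, hx, hy] at h
    simp [Fin.ext_iff] at h
  · have hle := hL.le
    let T : Ω → Ω → Prop := fun x y => Equiv.swap x y ∈ L
    have hTsymm : ∀ x y, T x y → T y x := fun x y h => by simp only [T] at *; rwa [Equiv.swap_comm]
    have hTtrans : ∀ x y z, T x y → T y z → T x z := by
      intro x y z h1 h2
      rcases eq_or_ne x z with rfl | hxz
      · simp only [T, Equiv.swap_self]; exact one_mem L
      rcases eq_or_ne x y with rfl | hxy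
      · exact h2
      simp only [T] at *
      have : Equiv.swap x z = Equiv.swap y z * Equiv.swap x y * Equiv.swap y z := by
        rw [Equiv.swap_mul_swap_mul_swap hxy hxz, Equiv.swap_comm]
      rw [this]
      exact mul_mem (mul_mem h2 h1) h2
    have hconj : ∀ g ∈ L, ∀ x y, T x y → T (g x) (g y) := by
      intro g hg x y h
      simp only [T] at *
      rw [← show g * Equiv.swap x y * g⁻¹ = Equiv.swap (g x) (g y) by
        rw [Equiv.mul_swap_eq_swap_mul, mul_inv_cancel_right]]
      exact mul_mem (mul_mem hg h) (inv_mem hg)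
    have hblock : ∀ x y, f x = f y → T x y := fun x y h => hle (hswap x y h)
    obtain ⟨g, hgL, hgK⟩ := SetLike.exists_of_lt hL
    obtain ⟨h, hhL, x, y, hxy, hne⟩ : ∃ h ∈ L, ∃ x y, f x = f y ∧ f (h x) ≠ f (h y) := by
      by_contra hc
      push_neg at hc
      exact hgK fun x y => ⟨hc g hgL x y, fun h => by simpa using hc g⁻¹ (inv_mem hgL) _ _ h⟩
    have hT0 := hconj h hhL x y (hblock x y hxy)
    have hall : ∀ u v, T u v := by
      intro u v
      rcases eq_or_ne (f u) (f v) with huv | huv
      · exact hblock u v huv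
      obtain ⟨σ, h1, h2⟩ : ∃ σ : Equiv.Perm (Fin b), σ (f (h x)) = f u ∧ σ (f (h y)) = f v := by
        let σ₁ := Equiv.swap (f (h x)) (f u)
        refine ⟨Equiv.swap (σ₁ (f (h y))) (f v) * σ₁, ?_, by simp⟩
        rw [Equiv.Perm.mul_apply, Equiv.swap_apply_left, Equiv.swap_apply_of_ne_of_ne ?_ huv]
        intro e
        apply hne
        have := congrArg σ₁ e
        simpa [σ₁] using this
      obtain ⟨k, hk, hkf⟩ := exists_block_perm f hf σ
      have hT1 := hconj k (hle hk) _ _ hT0
      exact hTtrans _ _ _ (hblock u _ (by rw [hkf, h1]))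
        (hTtrans _ _ _ hT1 (hblock _ v (by rw [hkf, h2])))
    rw [eq_top_iff, ← Equiv.Perm.closure_isSwap, Subgroup.closure_le]
    rintro _ ⟨u, v, -, rfl⟩
    exact hall u v

/-- Let Ω be a finite set and f : Ω → Fin b a map onto b ≥ 2 labels whose fibres all have the same size a ≥ 2 (a partition of Ω into b blocks of size a, so |Ω| = ab). Then the stabilizer of this partition in the symmetric group on Ω — the permutations g such that x and y lie in the same block exactly when g x and g y do, a group isomorphic to the imprimitive wreath product S_a ≀ S_b — is a maximal subgroup of the symmetric group. -/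
theorem result {Ω : Type*} [Fintype Ω] [DecidableEq Ω] (a b : ℕ) (ha : 2 ≤ a) (hb : 2 ≤ b)
    (f : Ω → Fin b) (hf : ∀ i : Fin b, Nat.card {x : Ω // f x = i} = a) :
    IsCoatom (Subgroup.closure {g : Equiv.Perm Ω | ∀ x y : Ω, f x = f y ↔ f (g x) = f (g y)}) := by
  rw [closure_eq_blockStab]
  exact isCoatom_blockStab a b ha hb f hf

end Cfsg.Agent.S5905
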