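import Cfsg.Statements.S5894
import Cfsg.Agent.S5905
open scoped Pointwise

set_option autoImplicit false
open Cfsg

namespace Cfsg.Agent.S5894

/-- For every m ≥ 2 the symmetric group on 2m letters has a maximal subgroup M of index 2m together with a maximal subgroup H of M that is not second maximal: some maximal subgroup K of the symmetric group contains H without H being maximal in K. (One may take M the stabiliser of a letter, H ≅ S_m × S_{m−1} inside it, and K ≅ S_m ≀ S₂ the stabiliser of a partition into two m-sets, with H < S_m × S_m < K.) So the prime-index hypothesis in the second-maximality criterion cannot be relaxed to any even index ≥ 4. -/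
theorem result (m : ℕ) (hm : 2 ≤ m) :
    ∃ M H K : Subgroup (Equiv.Perm (Fin (2 * m))), IsCoatom M ∧ M.index = 2 * m ∧ H ≤ M ∧ IsCoatom (H.subgroupOf M) ∧
      IsCoatom K ∧ H ≤ K ∧ ¬ IsCoatom (H.subgroupOf K) := by
  classical
  let A : Set (Fin (2 * m)) := {x | (x : ℕ) < m}
  let z : Fin (2 * m) := ⟨0, by omega⟩
  let f : Fin (2 * m) → Fin 2 := fun x => if (x : ℕ) < m then 0 else 1
  have hA : A.ncard = m := by
    have : A = Set.range (fun i : Fin m => (⟨i, by omega⟩ : Fin (2 * m))) := by
      ext x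
      exact ⟨fun h => ⟨⟨x, h⟩, rfl⟩, by rintro ⟨i, rfl⟩; exact i.2⟩
    rw [this, Set.ncard_range_of_injective (fun i j h => by simpa [Fin.ext_iff] using h), Nat.card_fin]
  have hAc : Aᶜ.ncard = m := by
    have := Set.ncard_add_ncard_compl A
    rw [Nat.card_fin] at this
    omega
  have hf0 : ∀ x, f x = 0 ↔ x ∈ A := fun x => by simp [f, A]
  have hf1 : ∀ x, f x = 1 ↔ x ∈ Aᶜ := fun x => by simp [f, A]
  have hf : ∀ i, Nat.card {x // f x = i} = m := by
    intro i
    fin_cases i
    · exact (Nat.card_congr (Equiv.subtypeEquivRight hf0)).trans ((Nat.card_coe_set_eq A).trans hA)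
    · exact (Nat.card_congr (Equiv.subtypeEquivRight hf1)).trans ((Nat.card_coe_set_eq _).trans hAc)
  let M := MulAction.stabilizer (Equiv.Perm (Fin (2 * m))) z
  let SA := MulAction.stabilizer (Equiv.Perm (Fin (2 * m))) A
  let K := Cfsg.Agent.S5905.blockStab f
  have hK : IsCoatom K := Cfsg.Agent.S5905.isCoatom_blockStab m 2 hm le_rfl f hf
  have hSK : SA ≤ K := by
    intro g hg x y
    have hmem : ∀ w, g w ∈ A ↔ w ∈ A := fun w => by
      conv_lhs => rw [← MulAction.mem_stabilizer_iff.1 hg]
      exact Set.smul_mem_smul_set_iff (a := g)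
    have : ∀ w, f (g w) = f w := fun w => by
      simp only [f]
      by_cases h : (w : ℕ) < m
      · rw [if_pos h, if_pos (show ((g w : Fin (2 * m)) : ℕ) < m from (hmem w).2 h)]
      · rw [if_neg h, if_neg (show ¬ ((g w : Fin (2 * m)) : ℕ) < m from fun h' => h ((hmem w).1 h'))]
    rw [this, this]
  have hM : IsCoatom M := by
    have h1 := Equiv.Perm.isCoatom_stabilizer (α := Fin (2 * m)) (s := {z}) (Set.singleton_nonempty z)
      ⟨⟨m, by omega⟩, by simp [z, Fin.ext_iff]; omega⟩ (by rw [Nat.card_fin, Set.ncard_singleton]; omega)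
    rwa [MulAction.stabilizer_singleton] at h1
  have hidx : M.index = 2 * m := by
    rw [MulAction.index_stabilizer_of_transitive, Nat.card_fin]
  -- `M` is the symmetric group on the other points
  let φ : Equiv.Perm {x : Fin (2 * m) // x ≠ z} →* Equiv.Perm (Fin (2 * m)) := Equiv.Perm.ofSubtype
  have hφinj : Function.Injective φ := Equiv.Perm.ofSubtype_injective
  have hφ : ∀ g ∈ M, ∃ h, φ h = g := by
    intro g hg
    have hz : g z = z := hg
    exact ⟨g.subtypePerm (fun x => by rw [ne_eq, ne_eq, ← hz, g.injective.eq_iff, hz]),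
      Equiv.Perm.ofSubtype_subtypePerm _ (fun x hx e => hx (by rw [e]; exact hz))⟩
  have hφM : ∀ h, φ h ∈ M := fun h => Equiv.Perm.ofSubtype_apply_of_not_mem h (by simp)
  let ψ : Equiv.Perm {x : Fin (2 * m) // x ≠ z} ≃* M :=
    MulEquiv.ofBijective (φ.codRestrict M hφM)
      ⟨fun a b e => hφinj (congrArg Subtype.val e), fun g => (hφ g g.2).imp fun h e => Subtype.ext e⟩
  let A' : Set {x : Fin (2 * m) // x ≠ z} := {x | (x : Fin (2 * m)) ∈ A}
  have hA' : A'.ncard = m - 1 := by
    have : Subtype.val '' A' = A \ {z} := by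
      ext x; simp [A']
    rw [← Set.ncard_image_of_injective A' Subtype.val_injective, this,
      Set.ncard_sdiff_singleton_of_mem (by show (z : ℕ) < m; simp [z]; omega), hA]
  have hA'co : IsCoatom (MulAction.stabilizer (Equiv.Perm {x : Fin (2 * m) // x ≠ z}) A') := by
    refine Equiv.Perm.isCoatom_stabilizer (Set.nonempty_of_ncard_ne_zero (by omega)) ?_ ?_
    · refine ⟨⟨⟨m, by omega⟩, by simp [z, Fin.ext_iff]; omega⟩, ?_⟩
      simp [A', A]
    · rw [hA', Nat.card_eq_fintype_card, Fintype.card_subtype_compl, Fintype.card_subtype_eq, Fintype.card_fin]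
      omega
  let H := SA ⊓ M
  have hHM : H ≤ M := inf_le_right
  have hHco : IsCoatom (H.subgroupOf M) := by
    have h1 := (ψ.mapSubgroup.isCoatom_iff _).2 hA'co
    convert h1 using 1
    ext g
    rw [Subgroup.mem_subgroupOf, MulEquiv.coe_mapSubgroup]
    obtain ⟨h, rfl⟩ := ψ.surjective g
    have hval : ((ψ h : M) : Equiv.Perm (Fin (2 * m))) = φ h := rfl
    have e1 : φ h ∈ H ↔ φ h • A = A := by
      simp only [H, SA, Subgroup.mem_inf, MulAction.mem_stabilizer_iff]
      exact and_iff_left (hφM h)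
    have e2 : ψ h ∈ (MulAction.stabilizer _ A').map ψ.toMonoidHom ↔ h • A' = A' := by
      rw [← MulAction.mem_stabilizer_iff]
      exact Subgroup.mem_map_equiv.trans (by rw [MulEquiv.symm_apply_apply])
    rw [hval, e1]
    refine Iff.trans ?_ e2.symm
    have hin : ∀ x : {x : Fin (2 * m) // x ≠ z}, φ h (x : Fin (2 * m)) = (h x : Fin (2 * m)) :=
      fun x => Equiv.Perm.ofSubtype_apply_coe h x
    constructor
    · intro e
      ext x
      rw [Set.mem_smul_set_iff_inv_smul_mem]
      show ((h⁻¹ x : _) : Fin (2 * m)) ∈ A ↔ (x : Fin (2 * m)) ∈ A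
      conv_rhs => rw [← e, show (x : Fin (2 * m)) = φ h ((h⁻¹ x : _) : Fin (2 * m)) by simp [hin]]
      exact (Set.smul_mem_smul_set_iff (a := φ h)).symm
    · intro e
      apply Set.eq_of_subset_of_ncard_le ?_ (by rw [Set.ncard_smul_set]) (Set.toFinite _)
      rintro _ ⟨x, hx, rfl⟩
      show φ h x ∈ A
      by_cases hxz : x = z
      · subst hxz
        rw [show φ h z = z from hφM h]; exact hx
      · rw [show x = ((⟨x, hxz⟩ : {x // x ≠ z}) : Fin (2 * m)) from rfl, hin]
        have : h ⟨x, hxz⟩ ∈ h • A' := ⟨⟨x, hxz⟩, hx, rfl⟩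
        rwa [e] at this
  refine ⟨M, H, K, hM, hidx, hHM, hHco, hK, inf_le_left.trans hSK, fun hco => ?_⟩
  -- `H < SA < K`
  have hzA : z ∈ A := show 0 < m by omega
  have h1 : H < SA := by
    refine lt_of_le_of_ne inf_le_left fun h => ?_
    let z' : Fin (2 * m) := ⟨1, by omega⟩
    have hs : Equiv.swap z z' ∈ SA := by
      refine MulAction.mem_stabilizer_iff.2 (Set.eq_of_subset_of_ncard_le ?_ (by rw [Set.ncard_smul_set]) (Set.toFinite _))
      rintro _ ⟨x, hx, rfl⟩
      show Equiv.swap z z' x ∈ A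
      rw [Equiv.swap_apply_def]
      split_ifs
      · show 1 < m; omega
      · exact hzA
      · exact hx
    rw [← h] at hs
    have := hs.2
    simp [M, z', z, Fin.ext_iff, MulAction.mem_stabilizer_iff] at this
  have h2 : SA < K := by
    refine lt_of_le_of_ne hSK fun h => ?_
    obtain ⟨g, hg, hgf⟩ := Cfsg.Agent.S5905.exists_block_perm f hf (Equiv.swap 0 1)
    have hgS : g ∈ SA := by rw [h]; exact hg
    have : g z ∈ A := by rw [← MulAction.mem_stabilizer_iff.1 hgS]; exact ⟨z, hzA, rfl⟩
    rw [← hf0, hgf, (hf0 z).2 hzA, Equiv.swap_apply_left] at this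
    exact absurd this (by decide)
  have h3 : H.subgroupOf K < SA.subgroupOf K := by
    refine lt_of_le_of_ne (Subgroup.comap_mono h1.le) fun h => h1.ne ?_
    have := congrArg (Subgroup.map K.subtype) h
    rwa [Subgroup.subgroupOf_map_subtype, Subgroup.subgroupOf_map_subtype,
      inf_eq_left.2 (h1.le.trans hSK), inf_eq_left.2 hSK] at this
  have h4 := hco.2 _ h3
  rw [Subgroup.subgroupOf_eq_top] at h4
  exact h2.not_ge h4

end Cfsg.Agent.S5894
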