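import Cfsg.Statements.S5895
import Cfsg.Agent.Lib.Linear.Subspace
open Matrix

set_option autoImplicit false
open Cfsg

namespace Cfsg.Agent.S5895

def Irred {N : Type} [Group N] (L : Subgroup (MulAut N)) : Prop :=
  ∀ A : Subgroup N, (∀ l ∈ L, ∀ a ∈ A, l a ∈ A) → A = ⊥ ∨ A = ⊤

theorem irred_top (p d : ℕ) [Fact p.Prime] :
    Irred (⊤ : Subgroup (MulAut (Multiplicative (Fin d → ZMod p)))) := by
  intro A hA
  by_cases hb : A = ⊥
  · exact Or.inl hb
  refine Or.inr ((Subgroup.eq_top_iff' A).2 fun y => ?_)
  obtain ⟨⟨x, hx⟩, hx'⟩ := A.ne_bot_iff_exists_ne_one.1 hb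
  have hx1 : x ≠ 1 := fun e => hx' (Subtype.ext e)
  clear hx'
  set x' : Fin d → ZMod p := Multiplicative.toAdd x with hx'
  set y' : Fin d → ZMod p := Multiplicative.toAdd y with hy'
  by_cases hxy : x' ∈ Submodule.span (ZMod p) {y' - x'}
  · obtain ⟨c, hc⟩ := Submodule.mem_span_singleton.1 hxy
    have hc0 : c ≠ 0 := by
      rintro rfl
      apply hx1
      rw [zero_smul] at hc
      exact Multiplicative.toAdd.injective hc.symm
    have hy : y' = (c⁻¹ + 1 : ZMod p) • x' := by
      have h2 : y' - x' = c⁻¹ • x' := by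
        have h3 := congrArg (fun v => c⁻¹ • v) hc
        simp only [smul_smul, inv_mul_cancel₀ hc0, one_smul] at h3
        exact h3
      rw [add_smul, one_smul, ← h2, sub_add_cancel]
    have hmem := A.pow_mem hx (c⁻¹ + 1 : ZMod p).val
    have : y = x ^ (c⁻¹ + 1 : ZMod p).val := by
      apply Multiplicative.toAdd.injective
      rw [toAdd_pow, ← Nat.cast_smul_eq_nsmul (ZMod p), ZMod.natCast_zmod_val, ← hx', ← hy', hy]
    rwa [this]
  · obtain ⟨g, -, -, hg, -⟩ := Cfsg.Lib.Linear.exists_transvection_mem_SL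
      (⊥ : Submodule (ZMod p) (Fin d → ZMod p)) x' (y' - x') (by rwa [bot_sup_eq])
    rw [add_sub_cancel] at hg
    let e : MulAut (Multiplicative (Fin d → ZMod p)) :=
      AddEquiv.toMultiplicative
        { toFun := fun v => (g : Matrix (Fin d) (Fin d) (ZMod p)) *ᵥ v
          invFun := fun v => ((g⁻¹ : GL (Fin d) (ZMod p)) : Matrix (Fin d) (Fin d) (ZMod p)) *ᵥ v
          left_inv := fun v => by simp [Matrix.mulVec_mulVec]
          right_inv := fun v => by simp [Matrix.mulVec_mulVec]
          map_add' := fun v w => Matrix.mulVec_add _ v w }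
    have he := hA e (Subgroup.mem_top _) x hx
    rwa [show e x = y from Multiplicative.toAdd.injective hg] at he

/-- For every prime p and every d ≥ 2 there is a finite group G with a maximal subgroup M of index p^d and a maximal subgroup H of M that is not second maximal in G: some maximal subgroup K of G contains H without H being maximal in K. (One may take G the affine group V ⋊ GL(V) of V = 𝔽_p^d, M = GL(V), H the stabiliser in M of a line W of V, and K = V ⋊ H, with H < W ⋊ H < K.) So the prime-index hypothesis in the second-maximality criterion cannot be relaxed to prime-power index. -/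
theorem result (p d : ℕ) (hp : p.Prime)
    (hd : 2 ≤ d) :
    ∃ (G : Type) (_ : Group G) (_ : Finite G) (M H K : Subgroup G), IsCoatom M ∧ M.index = p ^ d ∧ H ≤ M ∧
      IsCoatom (H.subgroupOf M) ∧ IsCoatom K ∧ H ≤ K ∧ ¬ IsCoatom (H.subgroupOf K) := by
  classical
  haveI : Fact p.Prime := ⟨hp⟩
  let N := Multiplicative (Fin d → ZMod p)
  have hN : Nat.card N = p ^ d := by
    rw [Nat.card_congr Multiplicative.toAdd, Nat.card_fun, Nat.card_fin, Nat.card_zmod]
  obtain ⟨L, hL, hmin⟩ := Finite.to_wellFoundedLT.wf.has_min {L : Subgroup (MulAut N) | Irred L} ⟨⊤, irred_top p d⟩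
  have hLb : L ≠ ⊥ := by
    rintro rfl
    obtain ⟨x, hx⟩ : ∃ x : N, x ≠ 1 := by
      have : Nontrivial N := Finite.one_lt_card_iff_nontrivial.1 (hN ▸ Nat.one_lt_pow (by omega) hp.one_lt)
      exact exists_ne 1
    rcases hL (Subgroup.zpowers x) (fun l hl a ha => by rwa [Subgroup.mem_bot.1 hl]) with h | h
    · exact hx (Subgroup.zpowers_eq_bot.1 h)
    · have h1 : Nat.card (Subgroup.zpowers x) = p ^ d := by rw [h, Subgroup.card_top, hN]
      have h2 : orderOf x ∣ p := by
        apply orderOf_dvd_of_pow_eq_one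
        apply Multiplicative.toAdd.injective
        funext i
        rw [toAdd_pow, Pi.smul_apply, nsmul_eq_mul, ZMod.natCast_self, zero_mul]
        rfl
      rw [Nat.card_zpowers] at h1
      have h3 := Nat.le_of_dvd hp.pos h2
      have : p ^ 1 < p ^ d := Nat.pow_lt_pow_right hp.one_lt (by omega)
      rw [pow_one] at this
      omega
  haveI : Nontrivial L := (Subgroup.nontrivial_iff_ne_bot L).2 hLb
  obtain ⟨H, hH, -⟩ : ∃ H : Subgroup L, IsCoatom H ∧ (⊥ : Subgroup L) ≤ H :=
    (eq_top_or_exists_le_coatom _).resolve_left bot_ne_top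
  obtain ⟨W, hW, hW0, hW1⟩ : ∃ W : Subgroup N, (∀ l ∈ H.map L.subtype, ∀ a ∈ W, l a ∈ W) ∧ W ≠ ⊥ ∧ W ≠ ⊤ := by
    by_contra hc
    push_neg at hc
    refine hmin (H.map L.subtype) (fun A hA => or_iff_not_imp_left.2 (hc A hA)) ?_
    refine lt_of_le_of_ne (Subgroup.map_subtype_le H) fun h => hH.1 ?_
    have := congrArg (Subgroup.comap L.subtype) h
    rwa [Subgroup.comap_map_eq_self_of_injective L.subtype_injective, ← Subgroup.subgroupOf,
      Subgroup.subgroupOf_self] at this
  let φ : L →* MulAut N := L.subtype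
  let G := N ⋊[φ] L
  haveI : Finite G := Finite.of_equiv _ SemidirectProduct.equivProd.symm
  let inl : N →* G := SemidirectProduct.inl
  let inr : L →* G := SemidirectProduct.inr
  let M : Subgroup G := inr.range
  let ψ : L ≃* M := MonoidHom.ofInjective SemidirectProduct.inr_injective
  let H0 : Subgroup G := H.map inr
  let K : Subgroup G := H.comap SemidirectProduct.rightHom
  have hH0M : H0 ≤ M := by rintro _ ⟨h, -, rfl⟩; exact ⟨h, rfl⟩
  have hidx : M.index = p ^ d := by
    have h1 := Subgroup.card_mul_index M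
    rw [← Nat.card_congr ψ.toEquiv, SemidirectProduct.card, hN, mul_comm (p ^ d)] at h1
    exact Nat.eq_of_mul_eq_mul_left Nat.card_pos h1
  have hM : IsCoatom M := by
    refine ⟨fun h => ?_, fun K' hK' => ?_⟩
    · rw [h, Subgroup.index_top] at hidx
      exact (Nat.one_lt_pow (by omega) hp.one_lt).ne hidx
    · obtain ⟨k, hk, hkM⟩ := SetLike.exists_of_lt hK'
      have hin : ∀ l, inr l ∈ K' := fun l => hK'.le ⟨l, rfl⟩
      have hinv : ∀ l ∈ L, ∀ a ∈ K'.comap inl, l a ∈ K'.comap inl := fun l hl a ha => by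
        show inl (φ ⟨l, hl⟩ a) ∈ K'
        rw [SemidirectProduct.inl_aut]
        exact mul_mem (mul_mem (hin _) ha) (hin _)
      rcases hL _ hinv with h | h
      · exfalso
        have h2 : k.left ∈ K'.comap inl := by
          show inl k.left ∈ K'
          have := mul_mem hk (inv_mem (hin k.right))
          rwa [show k * (inr k.right)⁻¹ = inl k.left by
            rw [mul_inv_eq_iff_eq_mul]; exact (SemidirectProduct.inl_left_mul_inr_right k).symm] at this
        rw [h, Subgroup.mem_bot] at h2
        exact hkM ⟨k.right, SemidirectProduct.ext h2.symm rfl⟩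
      · refine (Subgroup.eq_top_iff' K').2 fun g => ?_
        rw [← SemidirectProduct.inl_left_mul_inr_right g]
        have h2 : g.left ∈ K'.comap inl := by rw [h]; exact Subgroup.mem_top _
        exact mul_mem h2 (hin _)
  have hK : IsCoatom K := by
    refine ⟨fun h => hH.1 ?_, fun K' hK' => ?_⟩
    · rw [← Subgroup.map_comap_eq_self_of_surjective (SemidirectProduct.rightHom_surjective (φ := φ)) H]
      show K.map (SemidirectProduct.rightHom : G →* L) = ⊤
      rw [h, Subgroup.map_top_of_surjective _ SemidirectProduct.rightHom_surjective]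
    · have hker : (SemidirectProduct.rightHom : G →* L).ker ≤ K' := le_trans
        (fun x hx => show _ ∈ H by rw [MonoidHom.mem_ker.1 hx]; exact one_mem H) hK'.le
      have hc : (K'.map SemidirectProduct.rightHom).comap SemidirectProduct.rightHom = K' :=
        Subgroup.comap_map_eq_self hker
      have hlt : H < K'.map SemidirectProduct.rightHom := by
        refine lt_of_le_of_ne ?_ fun h => hK'.ne ?_
        · rw [← Subgroup.map_comap_eq_self_of_surjective (SemidirectProduct.rightHom_surjective (φ := φ)) H]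
          exact Subgroup.map_mono hK'.le
        · rw [← hc, ← h]
      rw [← hc, hH.2 _ hlt, Subgroup.comap_top]
  have hH0K : H0 ≤ K := by
    rintro _ ⟨h, hh, rfl⟩
    show SemidirectProduct.rightHom (inr h) ∈ H
    rwa [SemidirectProduct.rightHom_inr]
  have hH0co : IsCoatom (H0.subgroupOf M) := by
    have h1 := (ψ.mapSubgroup.isCoatom_iff H).2 hH
    convert h1 using 1
    ext g
    obtain ⟨l, rfl⟩ := ψ.surjective g
    rw [MulEquiv.coe_mapSubgroup, Subgroup.mem_subgroupOf]
    show inr l ∈ H.map inr ↔ _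
    rw [Subgroup.mem_map_iff_mem SemidirectProduct.inr_injective]
    exact ((Subgroup.mem_map_iff_mem (f := ψ.toMonoidHom) ψ.injective).symm)
  refine ⟨G, inferInstance, inferInstance, M, H0, K, hM, hidx, hH0M, hH0co, hK, hH0K, fun hco => ?_⟩
  let S : Subgroup G :=
    { carrier := {g | g.left ∈ W ∧ g.right ∈ H}
      one_mem' := ⟨one_mem W, one_mem H⟩
      mul_mem' := fun {a b} ha hb =>
        ⟨mul_mem ha.1 (hW _ ⟨_, ha.2, rfl⟩ _ hb.1), mul_mem ha.2 hb.2⟩
      inv_mem' := fun {a} ha => ⟨hW _ ⟨_, inv_mem ha.2, rfl⟩ _ (inv_mem ha.1), inv_mem ha.2⟩ }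
  have hSK : S ≤ K := fun g hg => hg.2
  have hlt : H0.subgroupOf K < S.subgroupOf K := by
    refine lt_of_le_of_ne (Subgroup.comap_mono ?_) fun h => ?_
    · rintro _ ⟨l, hl, rfl⟩; exact ⟨show ((SemidirectProduct.inr l : G)).left ∈ W by rw [SemidirectProduct.left_inr]; exact one_mem W, show ((SemidirectProduct.inr l : G)).right ∈ H by rw [SemidirectProduct.right_inr]; exact hl⟩
    · obtain ⟨⟨w, hw⟩, hw'⟩ := W.ne_bot_iff_exists_ne_one.1 hW0
      have hw1 : w ≠ 1 := fun e => hw' (Subtype.ext e)
      have hK0 : ∀ x, inl x ∈ K := fun x => by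
        show SemidirectProduct.rightHom (SemidirectProduct.inl x : G) ∈ H
        rw [SemidirectProduct.rightHom_inl]; exact one_mem H
      have hwS : (⟨inl w, hK0 w⟩ : K) ∈ S.subgroupOf K := ⟨show ((SemidirectProduct.inl w : G)).left ∈ W by rw [SemidirectProduct.left_inl]; exact hw, show ((SemidirectProduct.inl w : G)).right ∈ H by rw [SemidirectProduct.right_inl]; exact one_mem H⟩
      rw [← h] at hwS
      obtain ⟨l, -, hl⟩ := hwS
      have := congrArg SemidirectProduct.left hl
      change ((SemidirectProduct.inr l : G)).left = ((SemidirectProduct.inl w : G)).left at this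
      rw [SemidirectProduct.left_inl, SemidirectProduct.left_inr] at this
      exact hw1 this.symm
  have htop := hco.2 _ hlt
  rw [Subgroup.subgroupOf_eq_top] at htop
  refine hW1 ((Subgroup.eq_top_iff' W).2 fun x => ?_)
  have := htop (show SemidirectProduct.rightHom (SemidirectProduct.inl x : G) ∈ H by rw [SemidirectProduct.rightHom_inl]; exact one_mem H)
  have h2 : ((SemidirectProduct.inl x : G)).left ∈ W := this.1
  rwa [SemidirectProduct.left_inl] at h2

end Cfsg.Agent.S5895
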