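import Cfsg.Statements.S5896
import Mathlib
open scoped MatrixGroups commutatorElement

set_option autoImplicit false
open Cfsg

namespace Cfsg.Agent.S5896

section
variable {R : Type*} [CommRing R]

/-- Upper elementary matrix. -/
def up (t : R) : SL(2, R) := ⟨!![1, t; 0, 1], by simp [Matrix.det_fin_two]⟩
/-- Lower elementary matrix. -/
def lo (t : R) : SL(2, R) := ⟨!![1, 0; t, 1], by simp [Matrix.det_fin_two]⟩
/-- Diagonal matrix. -/
def dg (a : Rˣ) : SL(2, R) := ⟨!![(a : R), 0; 0, (a⁻¹ : Rˣ)], by simp [Matrix.det_fin_two]⟩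

theorem up_coe (t : R) : (up t : Matrix (Fin 2) (Fin 2) R) = !![1, t; 0, 1] := rfl
theorem lo_coe (t : R) : (lo t : Matrix (Fin 2) (Fin 2) R) = !![1, 0; t, 1] := rfl
theorem dg_coe (a : Rˣ) : (dg a : Matrix (Fin 2) (Fin 2) R) = !![(a : R), 0; 0, (a⁻¹ : Rˣ)] := rfl

theorem ext2 {g h : SL(2, R)} (h00 : g 0 0 = h 0 0) (h01 : g 0 1 = h 0 1) (h10 : g 1 0 = h 1 0) (h11 : g 1 1 = h 1 1) : g = h :=
  Matrix.SpecialLinearGroup.ext _ _ fun i j => by fin_cases i <;> fin_cases j <;> assumption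

theorem comm_up (a : Rˣ) (t : R) : ⁅dg a, up t⁆ = up (((a : R) ^ 2 - 1) * t) := by
  rw [commutatorElement_def]
  apply ext2 <;>
    simp [Matrix.SpecialLinearGroup.coe_inv, Matrix.adjugate_fin_two, up_coe, dg_coe]
  ring

theorem comm_lo (a : Rˣ) (t : R) : ⁅dg a, lo t⁆ = lo ((((a⁻¹ : Rˣ) : R) ^ 2 - 1) * t) := by
  rw [commutatorElement_def]
  apply ext2 <;>
    simp [Matrix.SpecialLinearGroup.coe_inv, Matrix.adjugate_fin_two, lo_coe, dg_coe]
  ring

theorem dg_eq (a : Rˣ) (x y : R) (ha : (a : R) = 1 + x * y) :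
    dg a = lo (-(y * (a⁻¹ : Rˣ))) * up x * lo y * up (-(x * (a⁻¹ : Rˣ))) := by
  have h1 : (a : R) * (a⁻¹ : Rˣ) = 1 := by simp
  apply ext2 <;> simp [up_coe, lo_coe, dg_coe, Matrix.mul_apply, Fin.sum_univ_two]
  · linear_combination ha
  · linear_combination (-(x * ((a⁻¹ : Rˣ) : R))) * ha + x * h1
  · linear_combination (-(y * ((a⁻¹ : Rˣ) : R))) * ha + y * h1
  · linear_combination (x * y * ((a⁻¹ : Rˣ) : R) ^ 2 - ((a⁻¹ : Rˣ) : R)) * ha + (1 - x * y * ((a⁻¹ : Rˣ) : R)) * h1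

end

section
variable (k : ℕ) [NeZero k]

/-- Reduction modulo five. -/
def red : ZMod (5 ^ k) →+* ZMod 5 := ZMod.castHom (dvd_pow_self 5 (NeZero.ne k)) (ZMod 5)

theorem isUnit_of_red {x : ZMod (5 ^ k)} (h : red k x ≠ 0) : IsUnit x := by
  haveI : NeZero (5 ^ k) := ⟨pow_ne_zero _ (by norm_num)⟩
  rw [← ZMod.natCast_zmod_val x] at h ⊢
  rw [ZMod.isUnit_iff_coprime]
  refine Nat.Coprime.pow_right k (((Nat.Prime.coprime_iff_not_dvd (by norm_num)).2 fun hd => h ?_).symm)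
  rw [map_natCast]
  exact (ZMod.natCast_eq_zero_iff _ _).2 hd

theorem red_det (g : SL(2, ZMod (5 ^ k))) :
    red k (g 0 0) * red k (g 1 1) - red k (g 0 1) * red k (g 1 0) = 1 := by
  rw [← map_mul, ← map_mul, ← map_sub, ← Matrix.det_fin_two, g.2, map_one]

/-- The preimage of the Borel subgroup. -/
def borel : Subgroup SL(2, ZMod (5 ^ k)) where
  carrier := {g | red k (g 1 0) = 0}
  one_mem' := by simp
  mul_mem' := fun {g h} hg hh => by
    simp only [Set.mem_ofPred_eq] at hg hh ⊢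
    simp [Matrix.mul_apply, Fin.sum_univ_two, hg, hh]
  inv_mem' := fun {g} hg => by
    simp only [Set.mem_ofPred_eq] at hg ⊢
    simp [Matrix.SpecialLinearGroup.coe_inv, Matrix.adjugate_fin_two, hg]

theorem mem_borel {g : SL(2, ZMod (5 ^ k))} : g ∈ borel k ↔ red k (g 1 0) = 0 := Iff.rfl

theorem gen (L : Subgroup SL(2, ZMod (5 ^ k))) (hu : ∀ t, up t ∈ L) (hl : ∀ t, lo t ∈ L) : L = ⊤ := by
  rw [eq_top_iff]
  have key : ∀ M : SL(2, ZMod (5 ^ k)), IsUnit (M 1 0) → M ∈ L := by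
    intro M hM
    obtain ⟨c, hc⟩ := hM
    have h1 : (c : ZMod (5 ^ k)) * (c⁻¹ : (ZMod (5 ^ k))ˣ) = 1 := by simp
    have hdet : M 0 0 * M 1 1 - M 0 1 * M 1 0 = 1 := by rw [← Matrix.det_fin_two]; exact M.2
    have : M = up ((M 0 0 - 1) * (c⁻¹ : (ZMod (5 ^ k))ˣ)) * lo (M 1 0) * up ((M 1 1 - 1) * (c⁻¹ : (ZMod (5 ^ k))ˣ)) := by
      rw [← hc] at hdet
      apply ext2 <;> simp [up_coe, lo_coe, Matrix.mul_apply, Fin.sum_univ_two, ← hc]
      · linear_combination (-(M 0 1)) * h1 - ((c⁻¹ : (ZMod (5 ^ k))ˣ) : ZMod (5 ^ k)) * hdet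
      · linear_combination (-(M 1 1 - 1)) * h1
    rw [this]
    exact mul_mem (mul_mem (hu _) (hl _)) (hu _)
  intro M _
  by_cases hc : red k (M 1 0) = 0
  · have ha : red k (M 0 0) ≠ 0 := fun h => by
      have := red_det k M
      rw [h, hc] at this
      simp at this
      exact absurd this (by decide)
    have h2 : lo 1 * M ∈ L := key _ (isUnit_of_red k (by simp [lo_coe, Matrix.mul_apply, Fin.sum_univ_two, hc, ha]))
    exact (mul_mem_cancel_left (hl 1)).1 h2
  · exact key M (isUnit_of_red k hc)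

theorem isPGroup_cong (g : SL(2, ZMod (5 ^ k))) (h : ∀ i j, red k (g i j) = red k ((1 : SL(2, ZMod (5 ^ k))) i j)) :
    g ^ 5 ^ k = 1 := by
  haveI : NeZero (5 ^ k) := ⟨pow_ne_zero _ (by norm_num)⟩
  have hdiv : ∀ x : ZMod (5 ^ k), red k x = 0 → ∃ y, x = 5 * y := by
    intro x hx
    rw [← ZMod.natCast_zmod_val x, map_natCast, ZMod.natCast_eq_zero_iff] at hx
    obtain ⟨c, hc⟩ := hx
    exact ⟨c, by rw [← ZMod.natCast_zmod_val x, hc]; push_cast; rfl⟩
  choose X hX using fun i j => hdiv (g i j - (1 : SL(2, ZMod (5 ^ k))) i j) (by rw [map_sub, h, sub_self])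
  have hg : (g : Matrix (Fin 2) (Fin 2) (ZMod (5 ^ k))) = 1 + 5 * Matrix.of X := by
    ext i j
    have := hX i j
    rw [Matrix.add_apply, show (5 : Matrix (Fin 2) (Fin 2) (ZMod (5 ^ k))) = Matrix.scalar (Fin 2) (5 : ZMod (5 ^ k)) from
      (map_ofNat (Matrix.scalar (Fin 2)) 5).symm, Matrix.scalar_apply, Matrix.diagonal_mul, Matrix.of_apply, ← this]
    simp [Matrix.SpecialLinearGroup.coe_one]
  have hpoly : (5 : Polynomial ℤ) ^ (k + 1) ∣ (1 + 5 * Polynomial.X) ^ 5 ^ k - 1 ^ 5 ^ k :=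
    dvd_sub_pow_of_dvd_sub (p := 5) (by norm_num) k
  obtain ⟨Q, hQ⟩ := hpoly
  refine Subtype.ext ?_
  rw [Matrix.SpecialLinearGroup.coe_pow, Matrix.SpecialLinearGroup.coe_one, hg]
  have := congrArg (Polynomial.aeval (Matrix.of X)) hQ
  simp only [map_sub, map_pow, map_add, map_one, map_mul, map_ofNat, Polynomial.aeval_X, one_pow] at this
  rw [sub_eq_iff_eq_add] at this
  rw [this]
  have h5 : (5 : Matrix (Fin 2) (Fin 2) (ZMod (5 ^ k))) ^ (k + 1) = 0 := by
    rw [pow_succ, show (5 : Matrix (Fin 2) (Fin 2) (ZMod (5 ^ k))) ^ k =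
      Matrix.scalar (Fin 2) (((5 ^ k : ℕ) : ZMod (5 ^ k))) by push_cast; rw [map_pow, map_ofNat],
      ZMod.natCast_self, map_zero, zero_mul]
  rw [h5, zero_mul, zero_add]

theorem isSolvable_borel : Group.IsSolvable (borel k) := by
  haveI : NeZero (5 ^ k) := ⟨pow_ne_zero _ (by norm_num)⟩
  have had : ∀ g : borel k, red k (g.1 0 0) * red k (g.1 1 1) = 1 := fun g => by
    have := red_det k g.1
    rwa [show red k (g.1 1 0) = 0 from g.2, mul_zero, sub_zero] at this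
  let ψ : borel k →* (ZMod 5)ˣ :=
    { toFun := fun g => ⟨red k (g.1 0 0), red k (g.1 1 1), had g, by rw [mul_comm]; exact had g⟩
      map_one' := Units.ext (by simp)
      map_mul' := fun g h => Units.ext (by
        simp [Matrix.mul_apply, Fin.sum_univ_two, show red k (h.1 1 0) = 0 from h.2]) }
  have hψ : ∀ g : borel k, g ∈ ψ.ker → red k (g.1 0 0) = 1 ∧ red k (g.1 1 1) = 1 := fun g hg => by
    have h1 : red k (g.1 0 0) = 1 := congrArg Units.val hg
    refine ⟨h1, ?_⟩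
    have := had g
    rwa [h1, one_mul] at this
  let χ : ψ.ker →* Multiplicative (ZMod 5) :=
    { toFun := fun g => Multiplicative.ofAdd (red k (g.1.1 0 1))
      map_one' := by simp
      map_mul' := fun g h => by
        rw [← ofAdd_add]
        congr 1
        simp [Matrix.mul_apply, Fin.sum_univ_two, (hψ g.1 g.2).1, (hψ h.1 h.2).2, add_comm] }
  haveI : Group.IsSolvable χ.ker := by
    haveI : Fact (Nat.Prime 5) := ⟨by norm_num⟩
    have hp : IsPGroup 5 χ.ker := fun g => ⟨k, Subtype.ext (Subtype.ext (Subtype.ext (isPGroup_cong k g.1.1.1 fun i j => by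
      have h1 := hψ g.1.1 g.1.2
      have h2 : red k (g.1.1.1 0 1) = 0 := congrArg Multiplicative.toAdd g.2
      have h3 : red k (g.1.1.1 1 0) = 0 := g.1.1.2
      fin_cases i <;> fin_cases j <;> simp [h1.1, h1.2, h2, h3])))⟩
    haveI : Group.IsNilpotent χ.ker := hp.isNilpotent
    infer_instance
  haveI : Group.IsSolvable ψ.ker := solvable_of_ker_le_range χ.ker.subtype χ (by rw [Subgroup.range_subtype])
  exact solvable_of_ker_le_range ψ.ker.subtype ψ (by rw [Subgroup.range_subtype])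

theorem two_unit : IsUnit (2 : ZMod (5 ^ k)) := isUnit_of_red k (by rw [map_ofNat]; decide)

theorem three_unit : IsUnit (3 : ZMod (5 ^ k)) := isUnit_of_red k (by rw [map_ofNat]; decide)

theorem perfect : commutator SL(2, ZMod (5 ^ k)) = ⊤ := by
  obtain ⟨a, ha⟩ := two_unit k
  obtain ⟨b, hb⟩ := three_unit k
  refine gen k _ (fun t => ?_) (fun t => ?_)
  · have : up t = ⁅dg a, up ((b⁻¹ : (ZMod (5 ^ k))ˣ) * t)⁆ := by
      rw [comm_up]; congr 1
      rw [ha, ← mul_assoc, show (2 : ZMod (5 ^ k)) ^ 2 - 1 = b by rw [hb]; norm_num, Units.mul_inv, one_mul]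
    rw [this]
    exact Subgroup.commutator_mem_commutator (Subgroup.mem_top _) (Subgroup.mem_top _)
  · have : lo t = ⁅dg a⁻¹, lo ((b⁻¹ : (ZMod (5 ^ k))ˣ) * t)⁆ := by
      rw [comm_lo]; congr 1
      rw [inv_inv, ha, ← mul_assoc, show (2 : ZMod (5 ^ k)) ^ 2 - 1 = b by rw [hb]; norm_num, Units.mul_inv, one_mul]
    rw [this]
    exact Subgroup.commutator_mem_commutator (Subgroup.mem_top _) (Subgroup.mem_top _)

theorem derived_mem (d : ℕ) (t : ZMod (5 ^ k)) :
    up (5 ^ 4 ^ d * t) ∈ (derivedSeries (borel k) d).map (borel k).subtype ∧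
      lo (5 ^ 4 ^ d * t) ∈ (derivedSeries (borel k) d).map (borel k).subtype := by
  induction d generalizing t with
  | zero =>
    rw [derivedSeries_zero, ← MonoidHom.range_eq_map, Subgroup.range_subtype]
    refine ⟨mem_borel k |>.2 (by simp [up_coe]), mem_borel k |>.2 ?_⟩
    have h5 : red k 5 = 0 := by rw [map_ofNat]; decide
    simp [lo_coe, h5]
  | succ d ih =>
    set M := 4 ^ d with hM
    set D := (derivedSeries (borel k) d).map (borel k).subtype with hD
    have hM1 : 1 ≤ M := Nat.one_le_pow _ _ (by norm_num)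
    obtain ⟨a, ha⟩ : IsUnit (1 + (5 : ZMod (5 ^ k)) ^ (2 * M)) := isUnit_of_red k (by
      rw [map_add, map_one, map_pow, map_ofNat, show (5 : ZMod 5) = 0 from rfl, zero_pow (by omega), add_zero]
      decide)
    obtain ⟨e, he⟩ : IsUnit (2 + (5 : ZMod (5 ^ k)) ^ (2 * M)) := isUnit_of_red k (by
      rw [map_add, map_pow, map_ofNat, map_ofNat, show (5 : ZMod 5) = 0 from rfl, zero_pow (by omega), add_zero]
      decide)
    have hdg : dg a ∈ D := by
      have hxy : (a : ZMod (5 ^ k)) = 1 + 5 ^ M * 5 ^ M := by rw [ha, ← pow_add, two_mul]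
      rw [dg_eq a _ _ hxy]
      refine mul_mem (mul_mem (mul_mem ?_ ?_) ?_) ?_
      · rw [← mul_neg]; exact (ih _).2
      · simpa using (ih 1).1
      · simpa using (ih 1).2
      · rw [← mul_neg]; exact (ih _).1
    have hsucc : (derivedSeries (borel k) (d + 1)).map (borel k).subtype = ⁅D, D⁆ := by
      rw [derivedSeries_succ, Subgroup.map_commutator]
    have hpow : (5 : ZMod (5 ^ k)) ^ 4 ^ (d + 1) = 5 ^ (2 * M) * 5 ^ M * 5 ^ M := by
      rw [← pow_add, ← pow_add, hM]; congr 1; rw [pow_succ]; ring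
    have ha2 : (a : ZMod (5 ^ k)) ^ 2 - 1 = 5 ^ (2 * M) * e := by rw [ha, he]; ring
    have hai : ((a⁻¹ : (ZMod (5 ^ k))ˣ) : ZMod (5 ^ k)) * a = 1 := by simp
    have hei : ((e⁻¹ : (ZMod (5 ^ k))ˣ) : ZMod (5 ^ k)) * e = 1 := by simp
    rw [hsucc]
    constructor
    · have h := Subgroup.commutator_mem_commutator hdg (ih ((e⁻¹ : (ZMod (5 ^ k))ˣ) * (5 ^ M * t))).1
      rw [comm_up, ha2] at h
      convert h using 2
      rw [hpow]
      linear_combination (-((5 : ZMod (5 ^ k)) ^ (2 * M) * 5 ^ M * 5 ^ M * t)) * hei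
    · have h := Subgroup.commutator_mem_commutator hdg (ih (-((e⁻¹ : (ZMod (5 ^ k))ˣ) * ((a : ZMod (5 ^ k)) ^ 2 * (5 ^ M * t))))).2
      rw [comm_lo] at h
      convert h using 2
      rw [hpow]
      set ai := ((a⁻¹ : (ZMod (5 ^ k))ˣ) : ZMod (5 ^ k))
      set ei := ((e⁻¹ : (ZMod (5 ^ k))ˣ) : ZMod (5 ^ k))
      linear_combination (-((5 : ZMod (5 ^ k)) ^ M * 5 ^ M * t * ei)) * ha2 +
        (-((5 : ZMod (5 ^ k)) ^ (2 * M) * 5 ^ M * 5 ^ M * t)) * hei +
        ((5 : ZMod (5 ^ k)) ^ M * 5 ^ M * t * ei) * (ai * a + 1) * hai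

end

/-- Finite perfect groups have solvable maximal subgroups of unbounded derived length: for every d there is a finite perfect group G (equal to its commutator subgroup) with a solvable maximal subgroup H whose derived length exceeds d, i.e. the d-th term of the derived series of H is non-trivial. (Take the derived subgroup of a wreath product S ≀ A₅ with S solvable of large derived length, and H the preimage of a maximal subgroup of A₅.) -/
theorem result (d : ℕ) :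
    ∃ (G : Type) (_ : Group G) (_ : Finite G) (H : Subgroup G), commutator G = ⊤ ∧ IsCoatom H ∧ Group.IsSolvable H ∧
      derivedSeries H d ≠ ⊥ := by
  set k := 4 ^ d + 1 with hk
  haveI : NeZero k := ⟨Nat.succ_ne_zero (4 ^ d)⟩
  haveI : NeZero (5 ^ k) := ⟨pow_ne_zero _ (by norm_num)⟩
  refine ⟨SL(2, ZMod (5 ^ k)), inferInstance, inferInstance, borel k, perfect k, ⟨?_, ?_⟩, isSolvable_borel k, ?_⟩
  · intro h
    have : lo (1 : ZMod (5 ^ k)) ∈ borel k := h ▸ Subgroup.mem_top _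
    rw [mem_borel] at this
    simp [lo_coe] at this
    exact absurd this (by decide)
  · intro L hL
    obtain ⟨g, hgL, hg⟩ := SetLike.exists_of_lt hL
    have hu : ∀ t, up t ∈ L := fun t => hL.le (mem_borel k |>.2 (by simp [up_coe]))
    refine gen k L hu fun s => ?_
    obtain ⟨c, hc⟩ := isUnit_of_red k (x := g 1 0) hg
    have key : lo s = (up (-(g 0 0 * (c⁻¹ : (ZMod (5 ^ k))ˣ))) * g) * up (-(s * (c⁻¹ : (ZMod (5 ^ k))ˣ) ^ 2)) *
        (up (-(g 0 0 * (c⁻¹ : (ZMod (5 ^ k))ˣ))) * g)⁻¹ := by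
      rw [eq_mul_inv_iff_mul_eq]
      have hdet : g 0 0 * g 1 1 - g 0 1 * g 1 0 = 1 := by rw [← Matrix.det_fin_two]; exact g.2
      rw [← hc] at hdet
      have h1 : ((c⁻¹ : (ZMod (5 ^ k))ˣ) : ZMod (5 ^ k)) * c = 1 := by simp
      apply ext2 <;> simp [up_coe, lo_coe, Matrix.mul_apply, Matrix.vecMul, dotProduct, Fin.sum_univ_two, ← hc]
      · linear_combination (s * ((c⁻¹ : (ZMod (5 ^ k))ˣ) : ZMod (5 ^ k)) - s * g 0 1) * h1 - (s * ((c⁻¹ : (ZMod (5 ^ k))ˣ) : ZMod (5 ^ k))) * hdet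
    rw [key]
    have hm := mul_mem (hu (-(g 0 0 * (c⁻¹ : (ZMod (5 ^ k))ˣ)))) hgL
    exact mul_mem (mul_mem hm (hu _)) (inv_mem hm)
  · intro h
    have hm := (derived_mem k d 1).1
    rw [h, Subgroup.map_bot, Subgroup.mem_bot] at hm
    have h0 := congrArg (fun g : SL(2, ZMod (5 ^ k)) => g 0 1) hm
    simp [up_coe] at h0
    have h0' : ((5 ^ 4 ^ d : ℕ) : ZMod (5 ^ k)) = 0 := by push_cast; exact h0
    rw [ZMod.natCast_eq_zero_iff, Nat.pow_dvd_pow_iff_le_right (by norm_num), hk] at h0'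
    omega

end Cfsg.Agent.S5896
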