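import Cfsg.Statements.S5902


set_option autoImplicit false
open Cfsg

namespace Cfsg.Agent.S5902

/-- Let G be a finite group, X a subgroup whose own subgroup lattice is complemented, and suppose X lies in exactly one maximal subgroup M of G. Then every subgroup H of G not contained in the normal core of M has a complement in the subgroup lattice of G (some C with H ⊔ C = G and H ⊓ C = 1); in particular the subgroup lattice of G modulo the normal core of M is complemented. -/
theorem result {G : Type*} [Group G] [Finite G] (X M : Subgroup G)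
    (hK : ComplementedLattice (Subgroup X))
    (hM : IsCoatom M) (hXM : X ≤ M) (huniq : ∀ M' : Subgroup G, IsCoatom M' → X ≤ M' → M' = M) :
    (∀ H : Subgroup G, ¬ H ≤ M.normalCore → ∃ C : Subgroup G, H ⊔ C = ⊤ ∧ H ⊓ C = ⊥) ∧
    ComplementedLattice (Subgroup (G ⧸ M.normalCore)) := by
  have top : ∀ Z : Subgroup G, X ≤ Z → ¬ Z ≤ M → Z = ⊤ := by
    intro Z hXZ hZM
    rcases eq_top_or_exists_le_coatom Z with h | ⟨M', hM', hZM'⟩
    · exact h
    · exact absurd (huniq M' hM' (hXZ.trans hZM') ▸ hZM') hZM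
  have base : ∀ H : Subgroup G, ¬ H ≤ M → ∃ C : Subgroup G, H ⊔ C = ⊤ ∧ H ⊓ C = ⊥ := by
    intro H hH
    obtain ⟨C, hC⟩ := hK.exists_isCompl (H.subgroupOf X)
    have h1 : (H ⊓ X) ⊔ C.map X.subtype = X := by
      have := congrArg (Subgroup.map X.subtype) hC.sup_eq_top
      rwa [Subgroup.map_sup, Subgroup.subgroupOf_map_subtype, ← MonoidHom.range_eq_map,
        Subgroup.range_subtype] at this
    have h2 : (H ⊓ X) ⊓ C.map X.subtype = ⊥ := by
      have := congrArg (Subgroup.map X.subtype) hC.inf_eq_bot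
      rwa [Subgroup.map_inf _ _ _ X.subtype_injective, Subgroup.subgroupOf_map_subtype,
        Subgroup.map_bot] at this
    refine ⟨C.map X.subtype, top _ ?_ (fun h => hH (le_sup_left.trans h)), ?_⟩
    · exact h1.symm.le.trans (sup_le_sup_right inf_le_left _)
    · exact le_bot_iff.1 (h2 ▸ le_inf (le_inf inf_le_left
        (inf_le_right.trans (Subgroup.map_subtype_le C))) inf_le_right)
  have all : ∀ H : Subgroup G, ¬ H ≤ M.normalCore → ∃ C : Subgroup G, H ⊔ C = ⊤ ∧ H ⊓ C = ⊥ := by
    intro H hH
    obtain ⟨x, hx, hxM⟩ : ∃ x ∈ H, x ∉ M.normalCore := SetLike.not_le_iff_exists.1 hH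
    obtain ⟨g, hg⟩ : ∃ g : G, g * x * g⁻¹ ∉ M := by
      by_contra hc
      push_neg at hc
      exact hxM hc
    let e : G ≃* G := MulAut.conj g
    obtain ⟨C, h1, h2⟩ := base (H.map e.toMonoidHom) (fun h => hg (h ⟨x, hx, rfl⟩))
    refine ⟨C.comap e.toMonoidHom, ?_, ?_⟩
    · have hinj := Subgroup.map_injective (f := e.toMonoidHom) e.injective
      apply hinj
      rw [Subgroup.map_sup, Subgroup.map_comap_eq_self_of_surjective (f := e.toMonoidHom) e.surjective, h1,
        Subgroup.map_top_of_surjective e.toMonoidHom e.surjective]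
    · have hinj := Subgroup.map_injective (f := e.toMonoidHom) e.injective
      apply hinj
      rw [Subgroup.map_inf _ _ _ e.injective, Subgroup.map_comap_eq_self_of_surjective (f := e.toMonoidHom) e.surjective, h2,
        Subgroup.map_bot]
  refine ⟨all, ⟨fun Hb => ?_⟩⟩
  set N := M.normalCore
  let π := QuotientGroup.mk' N
  have hsurj : Function.Surjective π := QuotientGroup.mk'_surjective N
  by_cases hb : Hb = ⊥
  · exact ⟨⊤, hb ▸ isCompl_bot_top⟩
  · have hNH : ¬ Hb.comap π ≤ N := by
      intro h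
      apply hb
      rw [← Subgroup.map_comap_eq_self_of_surjective hsurj Hb, Subgroup.map_eq_bot_iff]
      simpa [π] using h
    obtain ⟨C, h1, h2⟩ := all _ hNH
    refine ⟨C.map π, IsCompl.of_eq ?_ ?_⟩
    · rw [eq_bot_iff]
      rintro y ⟨hy1, c, hc, rfl⟩
      have hc' : c ∈ Hb.comap π ⊓ C := Subgroup.mem_inf.2 ⟨hy1, hc⟩
      rw [h2, Subgroup.mem_bot] at hc'
      simp [hc']
    · have := congrArg (Subgroup.map π) h1
      rwa [Subgroup.map_sup, Subgroup.map_comap_eq_self_of_surjective hsurj,
        Subgroup.map_top_of_surjective π hsurj] at this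

end Cfsg.Agent.S5902
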