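import Cfsg.Statements.S5903


set_option autoImplicit false
open Cfsg

namespace Cfsg.Agent.S5903

/-- Let G be a finite simple group, X a subgroup lying in exactly one maximal subgroup M of G, and N a subgroup of prime order with N ≤ X that is central in M. If the subgroup lattice of X/N is complemented, then the subgroup lattice of G is complemented. -/
theorem result {G : Type*} [Group G] [Finite G] [IsSimpleGroup G] (X M N : Subgroup G)
    (hM : IsCoatom M) (hXM : X ≤ M) (huniq : ∀ M' : Subgroup G, IsCoatom M' → X ≤ M' → M' = M)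
    (hNX : N ≤ X) (hN : (Nat.card N).Prime) (hcen : ∀ n ∈ N, ∀ m ∈ M, m * n = n * m)
    [(N.subgroupOf X).Normal] (hK : ComplementedLattice (Subgroup (X ⧸ N.subgroupOf X))) :
    ComplementedLattice (Subgroup G) := by
  classical
  have top : ∀ Z : Subgroup G, X ≤ Z → ¬ Z ≤ M → Z = ⊤ := by
    intro Z hXZ hZM
    rcases eq_top_or_exists_le_coatom Z with h | ⟨M', hM', hZM'⟩
    · exact h
    · exact absurd (huniq M' hM' (hXZ.trans hZM') ▸ hZM') hZM
  haveI : Fact (Nat.card N).Prime := ⟨hN⟩
  have hNne : N ≠ ⊥ := by rintro rfl; exact hN.ne_one (by simp)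
  have hNM : N ≤ M := hNX.trans hXM
  set Z := Subgroup.centralizer (N : Set G)
  have hMZ : M ≤ Z := fun m hm => Subgroup.mem_centralizer_iff.2 (fun n hn => (hcen n hn m hm).symm)
  have hZM : Z = M := by
    by_contra hne
    have hZ : Z = ⊤ := hM.2 _ (lt_of_le_of_ne hMZ (Ne.symm hne))
    have hnorm : N.Normal := ⟨fun n hn g => by
      have hg : g ∈ Z := hZ ▸ Subgroup.mem_top g
      rw [← Subgroup.mem_centralizer_iff.1 hg n hn, mul_inv_cancel_right]
      exact hn⟩
    rcases hnorm.eq_bot_or_eq_top with h | h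
    · exact hNne h
    · exact hM.1 (top_le_iff.1 (h ▸ hNM))
  refine ⟨fun H => ?_⟩
  by_cases hHb : H = ⊥
  · exact ⟨⊤, hHb ▸ isCompl_bot_top⟩
  by_cases hHt : H = ⊤
  · exact ⟨⊥, hHt ▸ isCompl_top_bot⟩
  -- some conjugate of `H` avoids `M` and meets `N` trivially
  obtain ⟨g, hgM, hgN⟩ : ∃ g : G, ¬ H.map (MulAut.conj g).toMonoidHom ≤ M ∧
      ¬ N ≤ H.map (MulAut.conj g).toMonoidHom := by
    by_contra hc
    push_neg at hc
    set D := Subgroup.centralizer (H : Set G)
    have hD : ∀ d ∈ D, ∀ h ∈ H, d * h * d⁻¹ = h := fun d hd h hh => by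
      rw [← Subgroup.mem_centralizer_iff.1 hd h hh, mul_inv_cancel_right]
    have hle : ∀ (g : G), ∀ n ∈ N, g⁻¹ * n * g ∈ Subgroup.normalizer (H : Set G) := by
      intro g n hn
      by_cases hb : H.map (MulAut.conj g).toMonoidHom ≤ M
      · have hd : g⁻¹ * n * g ∈ D := Subgroup.mem_centralizer_iff.2 fun h hh => by
          have h2 : g * h * g⁻¹ ∈ Z := hMZ (hb ⟨h, hh, rfl⟩)
          have h3 := Subgroup.mem_centralizer_iff.1 h2 n hn
          calc h * (g⁻¹ * n * g) = g⁻¹ * (g * h * g⁻¹ * n) * g := by group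
            _ = g⁻¹ * (n * (g * h * g⁻¹)) * g := by rw [h3]
            _ = g⁻¹ * n * g * h := by group
        rw [Subgroup.mem_normalizer_iff]
        intro h
        constructor
        · intro hh; rwa [hD _ hd h hh]
        · intro hh
          have := hD _ (inv_mem hd) _ hh
          rw [inv_inv] at this
          have e : (g⁻¹ * n * g)⁻¹ * (g⁻¹ * n * g * h * (g⁻¹ * n * g)⁻¹) * (g⁻¹ * n * g) = h := by group
          rw [e] at this
          rw [this]; exact hh
      · obtain ⟨h, hh, he⟩ := hc g hb hn
        have : g⁻¹ * n * g = h := by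
          rw [← show g * h * g⁻¹ = n from he]; group
        rw [this]
        exact Subgroup.le_normalizer hh
    have hall : Subgroup.normalClosure (N : Set G) ≤ Subgroup.normalizer (H : Set G) := by
      rw [Subgroup.normalClosure, Subgroup.closure_le]
      intro y hy
      obtain ⟨n, hn, hy⟩ := Group.mem_conjugatesOfSet_iff.1 hy
      obtain ⟨c, rfl⟩ := isConj_iff.1 hy
      simpa using hle c⁻¹ n hn
    have htop : Subgroup.normalClosure (N : Set G) = ⊤ := by
      rcases (Subgroup.normalClosure_normal (s := (N : Set G))).eq_bot_or_eq_top with h | h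
      · exact absurd (eq_bot_iff.2 (h ▸ Subgroup.le_normalClosure)) hNne
      · exact h
    have hHn : H.Normal := Subgroup.normalizer_eq_top_iff.1 (top_le_iff.1 (htop ▸ hall))
    rcases hHn.eq_bot_or_eq_top with h | h
    · exact hHb h
    · exact hHt h
  let e : G ≃* G := MulAut.conj g
  set H' := H.map e.toMonoidHom
  have hH'N : H' ⊓ N = ⊥ := by
    rcases (H'.subgroupOf N).eq_bot_or_eq_top_of_prime_card with h | h
    · exact disjoint_iff.1 (Subgroup.subgroupOf_eq_bot.1 h)
    · exact absurd (Subgroup.subgroupOf_eq_top.1 h) hgN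
  set π := QuotientGroup.mk' (N.subgroupOf X)
  have hsurj : Function.Surjective π := QuotientGroup.mk'_surjective _
  set Y := (H' ⊓ X) ⊔ N
  have hYX : Y ≤ X := sup_le inf_le_right hNX
  obtain ⟨Cb, hC⟩ := hK.exists_isCompl ((Y.subgroupOf X).map π)
  set C := (Cb.comap π).map X.subtype
  have hsub : N.subgroupOf X ≤ Y.subgroupOf X := Subgroup.comap_mono le_sup_right
  have hYc : ((Y.subgroupOf X).map π).comap π = Y.subgroupOf X := by
    rw [Subgroup.comap_map_eq, QuotientGroup.ker_mk', sup_eq_left.2 hsub]
  have hsup : Y ⊔ C = X := by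
    have := congrArg (fun Q => (Subgroup.comap π Q).map X.subtype) hC.sup_eq_top
    simp only [Subgroup.comap_top] at this
    rwa [← Subgroup.comap_sup_eq _ _ _ hsurj, hYc, Subgroup.map_sup, Subgroup.subgroupOf_map_subtype,
      inf_eq_left.2 hYX, ← MonoidHom.range_eq_map, Subgroup.range_subtype] at this
  have hinf : Y ⊓ C = N := by
    have := congrArg (fun Q => (Subgroup.comap π Q).map X.subtype) hC.inf_eq_bot
    simp only [Subgroup.comap_inf, hYc] at this
    rw [Subgroup.map_inf _ _ _ X.subtype_injective, Subgroup.subgroupOf_map_subtype,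
      inf_eq_left.2 hYX, MonoidHom.comap_bot, QuotientGroup.ker_mk', Subgroup.subgroupOf_map_subtype,
      inf_eq_left.2 hNX] at this
    exact this
  have hNC : N ≤ C := hinf ▸ inf_le_right
  refine ⟨C.comap e.toMonoidHom, IsCompl.of_eq ?_ ?_⟩
  · apply Subgroup.map_injective (f := e.toMonoidHom) e.injective
    rw [Subgroup.map_inf _ _ _ e.injective, Subgroup.map_comap_eq_self_of_surjective (f := e.toMonoidHom) e.surjective,
      Subgroup.map_bot, eq_bot_iff, ← hH'N]
    refine le_inf inf_le_left ?_
    rw [← hinf]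
    exact le_inf ((le_inf inf_le_left (inf_le_right.trans (Subgroup.map_subtype_le _))).trans
      le_sup_left) inf_le_right
  · apply Subgroup.map_injective (f := e.toMonoidHom) e.injective
    rw [Subgroup.map_sup, Subgroup.map_comap_eq_self_of_surjective (f := e.toMonoidHom) e.surjective,
      Subgroup.map_top_of_surjective e.toMonoidHom e.surjective]
    refine top _ ?_ (fun h => hgM (le_sup_left.trans h))
    rw [← hsup]
    exact sup_le (sup_le (inf_le_left.trans le_sup_left) (hNC.trans le_sup_right)) le_sup_right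

end Cfsg.Agent.S5903
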