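import Cfsg.Statements.S5904
open scoped Pointwise

set_option autoImplicit false
open scoped Pointwise
open Cfsg

namespace Cfsg.Agent.S5904

/-- Let Ω be a finite set with more than two elements and O ⊆ Ω a subset with exactly as many elements as its complement. Then the setwise stabilizer of O in the symmetric group on Ω is not a maximal subgroup (it is properly contained in the stabilizer of the partition {O, Ω ∖ O}, which is proper). -/
theorem result {Ω : Type*} [Fintype Ω] [DecidableEq Ω] (hΩ : 2 < Fintype.card Ω)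
    (O : Set Ω) (hO : Nat.card O = Nat.card ↥Oᶜ) :
    ¬ IsCoatom (MulAction.stabilizer (Equiv.Perm Ω) O) := by
  intro hco
  classical
  have hO1 : O.Nonempty := by
    by_contra h
    rw [Set.not_nonempty_iff_eq_empty] at h
    subst h
    simp at hO
    omega
  have hne : Oᶜ ≠ O := by
    intro h
    obtain ⟨x, hx⟩ := hO1
    exact (h.symm ▸ hx : x ∈ Oᶜ) hx
  have hc : O.ncard + Oᶜ.ncard = Fintype.card Ω := by
    rw [Set.ncard_add_ncard_compl, Nat.card_eq_fintype_card]
  rw [Nat.card_coe_set_eq, Nat.card_coe_set_eq] at hO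
  obtain ⟨a, ha, b, hb, hab⟩ := Set.one_lt_ncard_iff_nontrivial.1 (by omega : 1 < O.ncard)
  obtain ⟨c, hcO⟩ : Oᶜ.Nonempty := Set.nonempty_of_ncard_ne_zero (by omega)
  let K : Subgroup (Equiv.Perm Ω) := MulAction.stabilizer (Equiv.Perm Ω) ({O, Oᶜ} : Set (Set Ω))
  have hle : MulAction.stabilizer (Equiv.Perm Ω) O ≤ K := by
    intro g hg
    have hg' : g • Oᶜ = Oᶜ := by
      rw [Set.smul_set_compl, MulAction.mem_stabilizer_iff.1 hg]
    simp only [K, MulAction.mem_stabilizer_iff, Set.smul_set_insert, Set.smul_set_singleton]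
    rw [MulAction.mem_stabilizer_iff.1 hg, hg']
  -- a permutation exchanging the two halves
  have hO' : Nat.card ↥O = Nat.card ↥Oᶜ := by rw [Nat.card_coe_set_eq, Nat.card_coe_set_eq, hO]
  obtain ⟨e⟩ := Finite.card_eq.1 hO'
  let σ : Equiv.Perm Ω := Equiv.extendSubtype e
  have hσ : σ • O = Oᶜ := by
    apply Set.eq_of_subset_of_ncard_le
    · rintro _ ⟨x, hx, rfl⟩
      exact Equiv.extendSubtype_mem e x hx
    · rw [Set.ncard_smul_set, hO]
    · exact Set.toFinite _
  have hσK : σ ∈ K := by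
    have hσ' : σ • Oᶜ = O := by rw [Set.smul_set_compl, hσ, compl_compl]
    simp only [K, MulAction.mem_stabilizer_iff, Set.smul_set_insert, Set.smul_set_singleton, hσ, hσ']
    exact Set.pair_comm _ _
  have hlt : MulAction.stabilizer (Equiv.Perm Ω) O < K := lt_of_le_of_ne hle fun h => by
    rw [← h, MulAction.mem_stabilizer_iff, hσ] at hσK
    exact hne hσK
  have htop := hco.2 K hlt
  have h1 : Equiv.swap a c ∈ K := htop ▸ Subgroup.mem_top _
  have h2 : Equiv.swap a c • O ∈ ({O, Oᶜ} : Set (Set Ω)) := by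
    rw [← MulAction.mem_stabilizer_iff.1 h1]
    exact ⟨O, Or.inl rfl, rfl⟩
  have hbc : b ≠ c := fun h => hcO (h ▸ hb)
  rcases h2 with h2 | h2
  · have : Equiv.swap a c a ∈ O := h2 ▸ ⟨a, ha, rfl⟩
    rw [Equiv.swap_apply_left] at this
    exact hcO this
  · have h2 := Set.mem_singleton_iff.1 h2
    have : Equiv.swap a c b ∈ Oᶜ := h2 ▸ ⟨b, hb, rfl⟩
    rw [Equiv.swap_apply_of_ne_of_ne hab.symm hbc] at this
    exact this hb

end Cfsg.Agent.S5904
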