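import Cfsg.Statements.S5908
import Cfsg.Agent.Lib.H3.UnitaryThreeTwo

set_option linter.style.haveILetI false

set_option autoImplicit false
open Cfsg

namespace Cfsg.Agent.S5908

/-- The subgroup lattice of PSU₃(2) (the solvable group of order 72, realised over the field with 4 elements) is not complemented: some subgroup H has no subgroup X with H ⊔ X = ⊤ and H ⊓ X = ⊥. -/
theorem result {F : Type*} [Field F] [Fintype F] (hF : Fintype.card F = 4) :
    ¬ ComplementedLattice (Subgroup (Cfsg.PSU 3 F 2)) := by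
  obtain ⟨hcard, f, hf, hc, h3⟩ := Cfsg.Lib.H3.UnitaryThreeTwo.exists_hom hF
  haveI : Finite (Cfsg.PSU 3 F 2) := Nat.finite_of_card_ne_zero (by rw [hcard]; norm_num)
  intro h
  obtain ⟨X, hX⟩ := h.exists_isCompl ((Subgroup.zpowers (QuaternionGroup.a 2 : QuaternionGroup 2)).comap f)
  have hbot : X = ⊥ := by
    by_contra hne
    have hcX : Nat.card X ≠ 1 := fun h1 => hne (Subgroup.card_eq_one.1 h1)
    obtain ⟨p, hp, hpd⟩ := Nat.exists_prime_and_dvd hcX
    haveI : Fact p.Prime := ⟨hp⟩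
    obtain ⟨x, hx⟩ := exists_prime_orderOf_dvd_card' (G := X) p hpd
    have hx' : orderOf (x : Cfsg.PSU 3 F 2) = p := by rw [Subgroup.orderOf_coe, hx]
    have hp72 : p ∣ 2 ^ 3 * 3 ^ 2 := by
      have := orderOf_dvd_natCard (x : Cfsg.PSU 3 F 2)
      rw [hx', hcard] at this
      simpa using this
    have hpow : f x ^ p = 1 := by rw [← map_pow, ← hx', pow_orderOf_eq_one, map_one]
    have hmem : f x ∈ Subgroup.zpowers (QuaternionGroup.a 2 : QuaternionGroup 2) := by
      have h23 : p = 2 ∨ p = 3 := by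
        rcases hp.dvd_mul.1 hp72 with h | h
        · exact Or.inl ((Nat.prime_dvd_prime_iff_eq hp Nat.prime_two).1 (hp.dvd_of_dvd_pow h))
        · exact Or.inr ((Nat.prime_dvd_prime_iff_eq hp Nat.prime_three).1 (hp.dvd_of_dvd_pow h))
      have key : ∀ q : QuaternionGroup 2, (q ^ 2 = 1 ∨ q ^ 3 = 1) → q = 1 ∨ q = QuaternionGroup.a 2 := by decide
      rcases key (f x) (by rcases h23 with e | e <;> subst e <;> [exact Or.inl hpow; exact Or.inr hpow]) with h | h <;> rw [h]
      exacts [one_mem _, Subgroup.mem_zpowers _]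
    have h1 : (x : Cfsg.PSU 3 F 2) ∈ (⊥ : Subgroup (Cfsg.PSU 3 F 2)) := hX.disjoint.le_bot ⟨hmem, x.2⟩
    rw [Subgroup.mem_bot] at h1
    rw [h1, orderOf_one] at hx'
    exact hp.ne_one hx'.symm
  have htop := hX.sup_eq_top
  rw [hbot, sup_bot_eq, ← Subgroup.comap_top f] at htop
  have hz := Subgroup.comap_injective hf htop
  have h8 : orderOf (QuaternionGroup.a 2 : QuaternionGroup 2) ∣ 2 := orderOf_dvd_of_pow_eq_one (by decide)
  rw [← Nat.card_zpowers, hz, Subgroup.card_top, Nat.card_eq_fintype_card, QuaternionGroup.card] at h8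
  norm_num at h8

end Cfsg.Agent.S5908
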