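import Cfsg.Statements.S5909
import Mathlib
-- import your own Cfsg.Agent.* helpers here

set_option autoImplicit false
open Cfsg

namespace Cfsg.Agent.S5909

open Equiv

variable {Ω : Type*} [Fintype Ω] [DecidableEq Ω] {b : ℕ}

/-- the permutations preserving the partition given by `f` -/
def pres (f : Ω → Fin b) : Subgroup (Perm Ω) where
  carrier := {g | ∀ x y : Ω, f x = f y ↔ f (g x) = f (g y)}
  one_mem' := fun x y => Iff.rfl
  mul_mem' := fun {g h} hg hh x y => (hh x y).trans (hg (h x) (h y))
  inv_mem' := fun {g} hg x y => by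
    have h := hg (g⁻¹ x) (g⁻¹ y)
    simp only [Perm.coe_inv, Equiv.apply_symm_apply] at h
    exact h.symm

theorem closure_pres (f : Ω → Fin b) :
    Subgroup.closure {g : Perm Ω | ∀ x y : Ω, f x = f y ↔ f (g x) = f (g y)} = pres f :=
  Subgroup.closure_eq (pres f)

theorem swap_keeps {f : Ω → Fin b} {u v : Ω} (h : f u = f v) (x : Ω) : f (swap u v x) = f x := by
  rw [swap_apply_def]
  split_ifs with h1 h2
  · rw [h1, h]
  · rw [h2, h]
  · rfl

theorem pres_of_keeps {f : Ω → Fin b} {g : Perm Ω} (h : ∀ x, f (g x) = f x) : g ∈ pres f :=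
  fun x y => by rw [h x, h y]

theorem swap_pair_mem {f : Ω → Fin b} {u v u' v' : Ω} (h : f u = f v) (h' : f u' = f v') :
    swap u v * swap u' v' ∈ pres f :=
  pres_of_keeps fun x => by rw [Perm.mul_apply, swap_keeps h, swap_keeps h']

theorem exists_lift {a : ℕ} (ha : 2 ≤ a) (f : Ω → Fin b)
    (hf : ∀ i : Fin b, Nat.card {x : Ω // f x = i} = a) (π : Perm (Fin b)) :
    ∃ k : Perm Ω, k ∈ pres f ∧ k ∈ alternatingGroup Ω ∧ ∀ x, f (k x) = π (f x) := by
  let eF : ∀ i : Fin b, {x : Ω // f x = i} ≃ Fin a := fun i => Finite.equivFinOfCardEq (hf i)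
  let k : Perm Ω := Equiv.ofBijective
    (fun x => (((eF (π (f x))).symm (eF (f x) ⟨x, rfl⟩)) : Ω))
    (Finite.injective_iff_bijective.mp fun x y hxy => by
      have h1 : π (f x) = π (f y) := by
        rw [← ((eF (π (f x))).symm (eF (f x) ⟨x, rfl⟩)).2,
          ← ((eF (π (f y))).symm (eF (f y) ⟨y, rfl⟩)).2]
        exact congrArg f hxy
      have h2 : f x = f y := π.injective h1
      have key : ∀ (i : Fin b) (hx : f x = i) (hy : f y = i),
          ((eF (π i)).symm (eF i ⟨x, hx⟩) : Ω) = ((eF (π i)).symm (eF i ⟨y, hy⟩) : Ω) →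
            x = y := by
        intro i hx hy e
        exact congrArg Subtype.val ((eF i).injective ((eF (π i)).symm.injective (Subtype.ext e)))
      refine key (f x) rfl h2.symm ?_
      have gen : ∀ (i : Fin b) (hy : f y = i),
          ((eF (π (f y))).symm (eF (f y) ⟨y, rfl⟩) : Ω) = ((eF (π i)).symm (eF i ⟨y, hy⟩) : Ω) := by
        intro i hy
        subst hy
        rfl
      exact hxy.trans (gen (f x) h2.symm))
  have hk : ∀ x, f (k x) = π (f x) := fun x => ((eF (π (f x))).symm (eF (f x) ⟨x, rfl⟩)).2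
  have hkm : k ∈ pres f := fun x y => by
    rw [hk, hk]
    exact π.injective.eq_iff.symm
  by_cases hs : k ∈ alternatingGroup Ω
  · exact ⟨k, hkm, hs, hk⟩
  · rcases isEmpty_or_nonempty Ω with hΩ | ⟨⟨x₀⟩⟩
    · exact absurd (by rw [Subsingleton.elim k 1]; exact one_mem _) hs
    · haveI : Nontrivial {x : Ω // f x = f x₀} := by
        rw [← Finite.one_lt_card_iff_nontrivial, hf]
        omega
      obtain ⟨⟨y, hy⟩, hne⟩ := exists_ne (⟨x₀, rfl⟩ : {x : Ω // f x = f x₀})
      have hxy : x₀ ≠ y := fun e => hne (Subtype.ext e.symm)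
      refine ⟨swap x₀ y * k, mul_mem (pres_of_keeps fun x => swap_keeps hy.symm x) hkm, ?_,
        fun x => by rw [Perm.mul_apply, swap_keeps hy.symm, hk]⟩
      rw [Perm.mem_alternatingGroup] at hs ⊢
      rw [Perm.sign_mul, Perm.sign_swap hxy, Int.units_ne_iff_eq_neg.mp hs]
      decide

theorem swap_pair_even {u v u' v' : Ω} (h : u ≠ v) (h' : u' ≠ v') :
    swap u v * swap u' v' ∈ alternatingGroup Ω := by
  rw [Perm.mem_alternatingGroup, Perm.sign_mul, Perm.sign_swap h, Perm.sign_swap h']
  decide

theorem others {a : ℕ} (f : Ω → Fin b) (hf : ∀ i : Fin b, Nat.card {x : Ω // f x = i} = a)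
    (i : Fin b) (S : Finset Ω) (hS : S.card < a) : ∃ x, f x = i ∧ x ∉ S := by
  by_contra hne
  push Not at hne
  have h1 : Nat.card {x : Ω // f x = i} ≤ Nat.card S :=
    Nat.card_le_card_of_injective (fun x => (⟨x.1, hne x.1 x.2⟩ : S))
      fun x y e => Subtype.ext (congrArg (fun z : S => (z : Ω)) e)
  rw [hf, Nat.card_eq_fintype_card, Fintype.card_coe] at h1
  omega

theorem third (f : Ω → Fin b) (hf : ∀ i : Fin b, Nat.card {x : Ω // f x = i} = 2)
    {x y z : Ω} (hxy : f x = f y) (hxz : f x = f z) (h1 : x ≠ y) (h2 : x ≠ z) : y = z := by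
  by_contra h3
  let φ : Fin 3 → {w : Ω // f w = f x} :=
    ![⟨x, rfl⟩, ⟨y, hxy.symm⟩, ⟨z, hxz.symm⟩]
  have hi : Function.Injective φ := by
    intro i j e
    have e' := congrArg Subtype.val e
    fin_cases i <;> fin_cases j <;> simp_all [φ]
  have h4 := Nat.card_le_card_of_injective φ hi
  rw [hf, Nat.card_eq_fintype_card, Fintype.card_fin] at h4
  omega

section Rel

variable (H : Subgroup (Perm Ω))

/-- two permutations are related when their product is in `H` -/
def Rel (s t : Perm Ω) : Prop := s * t ∈ H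

variable {H}

theorem rel_symm {u v u' v' : Ω} (h : Rel H (swap u v) (swap u' v')) :
    Rel H (swap u' v') (swap u v) := by
  have := inv_mem h
  rwa [mul_inv_rev, swap_inv, swap_inv] at this

theorem rel_trans {u v : Ω} {s t : Perm Ω} (h1 : Rel H s (swap u v)) (h2 : Rel H (swap u v) t) :
    Rel H s t := by
  have := mul_mem h1 h2
  rwa [mul_assoc, ← mul_assoc (swap u v), swap_mul_self, one_mul] at this

theorem rel_conj {h : Perm Ω} (hh : h ∈ H) {u v u' v' : Ω}
    (e : Rel H (swap u v) (swap u' v')) : Rel H (swap (h u) (h v)) (swap (h u') (h v')) := by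
  have h1 : h * (swap u v * swap u' v') * h⁻¹ ∈ H := mul_mem (mul_mem hh e) (inv_mem hh)
  unfold Rel
  rw [Equiv.swap_apply_apply h u v, Equiv.swap_apply_apply h u' v']
  convert h1 using 1
  group

theorem rel_clique {p q x y z : Ω} (hxy : x ≠ y) (hxz : x ≠ z) (hyz : y ≠ z)
    (h1 : Rel H (swap p q) (swap x y)) (h2 : Rel H (swap p q) (swap x z)) :
    Rel H (swap p q) (swap y z) := by
  have h3 : Rel H (swap x z) (swap x y) := rel_trans (rel_symm h2) h1
  have key : swap x y * swap y z = swap x z * swap x y := by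
    have e := Equiv.swap_apply_apply (swap x y) x z
    rw [swap_apply_left, swap_apply_of_ne_of_ne hxz.symm hyz.symm] at e
    rw [e, swap_inv, ← mul_assoc, ← mul_assoc, swap_mul_self, one_mul]
  refine rel_trans h1 ?_
  unfold Rel
  rw [key]
  exact h3

end Rel

theorem cross_rel {a : ℕ} (ha : 2 ≤ a) (f : Ω → Fin b)
    (hf : ∀ i : Fin b, Nat.card {x : Ω // f x = i} = a) (h8 : Fintype.card Ω ≠ 8)
    {H : Subgroup (Perm Ω)} (hK : pres f ⊓ alternatingGroup Ω ≤ H)
    (hA : H ≤ alternatingGroup Ω) {g : Perm Ω} (hg : g ∈ H) {x y : Ω} (hxy : f x = f y)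
    (hgxy : f (g x) ≠ f (g y)) :
    ∃ u v p q : Ω, u ≠ v ∧ f u = f v ∧ f p ≠ f q ∧ Rel H (swap u v) (swap p q) := by
  by_contra hno
  push Not at hno
  have hne : x ≠ y := fun e => hgxy (by rw [e])
  have hwin : ∀ u v u' v' : Ω, u ≠ v → f u = f v → u' ≠ v' → f u' = f v' →
      Rel H (swap u v) (swap u' v') := fun u v u' v' h1 h2 h3 h4 =>
    hK ⟨swap_pair_mem h2 h4, swap_pair_even h1 h3⟩
  -- images of pairs inside a block are never inside a block
  have himg : ∀ u v : Ω, u ≠ v → f u = f v → f (g u) ≠ f (g v) := by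
    intro u v h1 h2 h3
    exact hno (g u) (g v) (g x) (g y) (g.injective.ne h1) h3 hgxy
      (rel_conj hg (hwin u v x y h1 h2 hne hxy))
  have hD : ∀ u v : Ω, u ≠ v → f u = f v →
      Rel H (swap (g x) (g y)) (swap (g u) (g v)) := fun u v h1 h2 =>
    rel_conj hg (hwin x y u v hne hxy h1 h2)
  have hbad : ∀ u v : Ω, u ≠ v → f u = f v → ¬ Rel H (swap (g x) (g y)) (swap u v) :=
    fun u v h1 h2 e => hno u v (g x) (g y) h1 h2 hgxy (rel_symm e)
  by_cases h3 : 3 ≤ a
  · -- a third point in the block
    obtain ⟨z, hz, hzS⟩ := others f hf (f x) {x, y} (by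
      rw [Finset.card_pair hne]; omega)
    simp only [Finset.mem_insert, Finset.mem_singleton, not_or] at hzS
    have hpr := himg x z (Ne.symm hzS.1) hz.symm
    have hqr := himg y z (Ne.symm hzS.2) (hxy.symm.trans hz.symm)
    obtain ⟨r', hr', hr'S⟩ := others f hf (f (g z)) {g z} (by
      rw [Finset.card_singleton]; omega)
    obtain ⟨r'', hr'', hr''S⟩ := others f hf (f (g z)) {g z, r'} (by
      refine lt_of_le_of_lt (Finset.card_insert_le _ _) ?_
      rw [Finset.card_singleton]; omega)
    simp only [Finset.mem_insert, Finset.mem_singleton, not_or] at hr'S hr''S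
    have hk : swap (g z) r' * swap (g z) r'' ∈ H :=
      hwin _ _ _ _ (Ne.symm hr'S) hr'.symm (Ne.symm hr''S.1) hr''.symm
    have hout : ∀ w : Ω, f w ≠ f (g z) → (swap (g z) r' * swap (g z) r'') w = w := by
      intro w hw
      rw [Perm.mul_apply, swap_apply_of_ne_of_ne (x := w) (fun e => hw (congrArg f e))
        (fun e => hw ((congrArg f e).trans hr'')), swap_apply_of_ne_of_ne (x := w)
        (fun e => hw (congrArg f e)) (fun e => hw ((congrArg f e).trans hr'))]
    have e1 := hD x z (Ne.symm hzS.1) hz.symm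
    have e2 := rel_conj hk e1
    rw [hout _ hpr, hout _ hqr] at e2
    rw [Perm.mul_apply, swap_apply_left, swap_apply_of_ne_of_ne hr''S.1 hr''S.2] at e2
    exact hbad (g z) r'' (Ne.symm hr''S.1) hr''.symm
      (rel_clique (g.injective.ne (Ne.symm hzS.1)) (fun e => hpr (by rw [e, hr'']))
        (Ne.symm hr''S.1) e1 e2)
  obtain rfl : a = 2 := by omega
  have hcard : Fintype.card Ω = 2 * b := by
    rw [← Nat.card_eq_fintype_card, Nat.card_congr (Equiv.sigmaFiberEquiv f).symm, Nat.card_sigma]
    rw [Finset.sum_congr rfl fun i _ => hf i]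
    simp [mul_comm]
  -- the mate of a point
  choose m hm hmne using fun w : Ω => others f hf (f w) {w} (by simp)
  simp only [Finset.mem_singleton] at hmne
  have huniq : ∀ w w' : Ω, f w' = f w → w' ≠ w → w' = m w := fun w w' h1 h2 =>
    third f hf h1.symm (hm w).symm (Ne.symm h2) (Ne.symm (hmne w))
  set p := g x with hp
  set q := g y with hq
  obtain ⟨N, hN⟩ : ∃ N : Ω → Ω, ∀ w, N w = g (m (g⁻¹ w)) := ⟨_, fun _ => rfl⟩
  have hgg : ∀ w, g (g⁻¹ w) = w := fun w => by simp
  have hNf : ∀ w, f w ≠ f (N w) := fun w => by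
    have := himg (g⁻¹ w) (m (g⁻¹ w)) (Ne.symm (hmne _)) (hm _).symm
    rwa [hgg, ← hN] at this
  have hND : ∀ w, Rel H (swap p q) (swap w (N w)) := fun w => by
    have := hD (g⁻¹ w) (m (g⁻¹ w)) (Ne.symm (hmne _)) (hm _).symm
    rwa [hgg, ← hN] at this
  have hNN : ∀ w, N (N w) = w := fun w => by
    rw [hN, hN, Perm.coe_inv, Equiv.symm_apply_apply,
      ← huniq (m (g.symm w)) (g.symm w) (hm _).symm (Ne.symm (hmne _))]
    exact g.apply_symm_apply w
  have hNp : N p = q := by
    rw [hN, hp, Perm.coe_inv, Equiv.symm_apply_apply, hq,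
      ← huniq x y hxy.symm (Ne.symm hne)]
  have hNq : N q = p := by rw [← hNp, hNN]
  have hmp : m p ≠ q := fun e => hgxy (by rw [← e, hm])
  have hflip : ∀ u v : Ω, f u ≠ f v → swap u (m u) * swap v (m v) ∈ H := fun u v _ =>
    hwin _ _ _ _ (Ne.symm (hmne u)) (hm u).symm (Ne.symm (hmne v)) (hm v).symm
  have hfix : ∀ u w : Ω, f w ≠ f u → swap u (m u) w = w := fun u w h =>
    swap_apply_of_ne_of_ne (fun e => h (by rw [e])) (fun e => h (by rw [e, hm]))
  have hb4 : b ≠ 4 := fun e => h8 (by rw [hcard, e])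
  rcases Nat.lt_or_ge b 5 with hb5 | hb5
  · rcases Nat.lt_or_ge b 3 with hb3 | hb3
    · -- four points: `g` moves three of them round
      obtain ⟨z, hz⟩ : ∃ z, z = m p := ⟨_, rfl⟩
      obtain ⟨w, hw⟩ : ∃ w, w = m q := ⟨_, rfl⟩
      have hall : ∀ t : Ω, t = p ∨ t = q ∨ t = z ∨ t = w := by
        intro t
        by_cases h1 : f t = f p
        · by_cases h2 : t = p
          · exact Or.inl h2
          · exact Or.inr (Or.inr (Or.inl (hz ▸ huniq p t h1 h2)))
        · have h4 : f t = f q := by
            have v1 := (f t).isLt; have v2 := (f p).isLt; have v3 := (f q).isLt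
            have w1 : (f t).val ≠ (f p).val := fun e => h1 (Fin.ext e)
            have w2 : (f p).val ≠ (f q).val := fun e => hgxy (Fin.ext e)
            exact Fin.ext (by omega)
          by_cases h2 : t = q
          · exact Or.inr (Or.inl h2)
          · exact Or.inr (Or.inr (Or.inr (hw ▸ huniq q t h4 h2)))
      -- move so that `x` goes to itself and use parity
      have hpw : p ≠ w := fun e => hgxy (by rw [e, hw, hm])
      have hqz : q ≠ z := fun e => hgxy (by rw [e, hz, hm])
      have hzw : z ≠ w := fun e => hgxy (by rw [← hm p, ← hm q, ← hz, ← hw, e])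
      have hpq : p ≠ q := fun e => hgxy (by rw [e])
      have hpz : p ≠ z := by rw [hz]; exact Ne.symm (hmne p)
      have hqw : q ≠ w := by rw [hw]; exact Ne.symm (hmne q)
      have hfp : f z = f p := by rw [hz, hm]
      have hfq : f w = f q := by rw [hw, hm]
      -- `g` can be moved by `H` to fix `x`
      obtain ⟨k, hk, hkp⟩ : ∃ k, k ∈ pres f ⊓ alternatingGroup Ω ∧ k p = x := by
        obtain ⟨k₀, hk₀, hk₀A, hk₀f⟩ := exists_lift le_rfl f hf (swap (f p) (f x))
        by_cases h1 : k₀ p = x
        · exact ⟨k₀, ⟨hk₀, hk₀A⟩, h1⟩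
        · obtain ⟨u, hu, hu'⟩ : ∃ u, u ∈ ({p, q} : Finset Ω) ∧ f u ≠ f x := by
            by_cases h5 : f p = f x
            · exact ⟨q, by simp, fun e => hgxy (h5.trans e.symm)⟩
            · exact ⟨p, by simp, h5⟩
          have h2 : f (k₀ p) = f x := by rw [hk₀f, swap_apply_left]
          refine ⟨swap x (k₀ p) * swap u (m u) * k₀,
            mul_mem ⟨swap_pair_mem h2.symm (hm u).symm,
              swap_pair_even (Ne.symm h1) (Ne.symm (hmne u))⟩ ⟨hk₀, hk₀A⟩, ?_⟩
          rw [Perm.mul_apply, Perm.mul_apply, hfix u (k₀ p) (by rw [h2]; exact hu'.symm),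
            swap_apply_right]
      obtain ⟨h, hh⟩ : ∃ h, h = k * g := ⟨_, rfl⟩
      have hhH : h ∈ H := hh ▸ mul_mem (hK hk) hg
      have hhx : h x = x := by rw [hh, Perm.mul_apply, ← hp, hkp]
      have hy2 : f (h y) ≠ f x := by
        rw [hh, Perm.mul_apply, ← hq]
        intro e
        exact hgxy ((hk.1 p q).2 (by rw [hkp, e]))
      obtain ⟨c, hc⟩ : ∃ c, c = h y := ⟨_, rfl⟩
      obtain ⟨d, hd⟩ : ∃ d, d = m c := ⟨_, rfl⟩
      have hfc : f c ≠ f x := hc ▸ hy2
      have hfd : f d = f c := by rw [hd, hm]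
      have hcd : c ≠ d := by rw [hd]; exact Ne.symm (hmne c)
      have hxc : x ≠ c := fun e => hfc (by rw [e])
      have hxd : x ≠ d := fun e => hfc (by rw [← hfd, e])
      have hyc : y ≠ c := fun e => hfc (by rw [← e, hxy])
      have hyd : y ≠ d := fun e => hfc (by rw [← hfd, ← e, hxy])
      have hall' : ∀ t : Ω, t = x ∨ t = y ∨ t = c ∨ t = d := by
        intro t
        by_cases h1 : f t = f x
        · by_cases h2 : t = x
          · exact Or.inl h2
          · exact Or.inr (Or.inl ((huniq x t h1 h2).trans (huniq x y hxy.symm hne.symm).symm))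
        · have h4 : f t = f c := by
            have v1 := (f t).isLt; have v2 := (f x).isLt; have v3 := (f c).isLt
            have w1 : (f t).val ≠ (f x).val := fun e => h1 (Fin.ext e)
            have w2 : (f x).val ≠ (f c).val := fun e => hfc (Fin.ext e.symm)
            exact Fin.ext (by omega)
          by_cases h2 : t = c
          · exact Or.inr (Or.inr (Or.inl h2))
          · exact Or.inr (Or.inr (Or.inr (hd ▸ huniq c t h4 h2)))
      have hinj := h.injective
      have hc_cases : h c = d := by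
        rcases hall' (h c) with e | e | e | e
        · exact absurd (hinj (e.trans hhx.symm)) hxc.symm
        · exfalso
          have hd' : h d = d := by
            rcases hall' (h d) with e' | e' | e' | e'
            · exact absurd (hinj (e'.trans hhx.symm)) hxd.symm
            · exact absurd (hinj (e'.trans e.symm)) hcd.symm
            · exact absurd (hinj (e'.trans hc)) hyd.symm
            · exact e'
          have heq : h = swap y c := by
            ext t
            rcases hall' t with rfl | rfl | rfl | rfl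
            · rw [hhx, swap_apply_of_ne_of_ne hne hxc]
            · rw [swap_apply_left, hc]
            · rw [swap_apply_right, e]
            · rw [hd', swap_apply_of_ne_of_ne hyd.symm hcd.symm]
          have := Perm.mem_alternatingGroup.1 (hA hhH)
          rw [heq, Perm.sign_swap hyc] at this
          exact absurd this (by decide)
        · exact absurd (hinj (e.trans hc)) hyc.symm
        · exact e
      have hd_cases : h d = y := by
        rcases hall' (h d) with e' | e' | e' | e'
        · exact absurd (hinj (e'.trans hhx.symm)) hxd.symm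
        · exact e'
        · exact absurd (hinj (e'.trans hc)) hyd.symm
        · exact absurd (hinj (e'.trans hc_cases.symm)) hcd.symm
      have heq : h = swap y c * swap c d := by
        ext t
        rw [Perm.mul_apply]
        rcases hall' t with rfl | rfl | rfl | rfl
        · rw [hhx, swap_apply_of_ne_of_ne hxc hxd, swap_apply_of_ne_of_ne hne hxc]
        · rw [swap_apply_of_ne_of_ne hyc hyd, swap_apply_left, hc]
        · rw [swap_apply_left, swap_apply_of_ne_of_ne hyd.symm hcd.symm, hc_cases]
        · rw [swap_apply_right, swap_apply_right, hd_cases]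
      exact hno c d y c hcd hfd.symm (fun e => hfc (by rw [← e, hxy]))
        (rel_symm (show Rel H (swap y c) (swap c d) from (by rw [Rel, ← heq]; exact hhH)))
    · -- six points
      obtain rfl : b = 3 := by omega
      have hm1 : ∀ u v : Ω, u ≠ v → m u ≠ m v := by
        intro u v huv e
        exact huv (third f hf (x := m u) (hm u) (by rw [hm u]; rw [← hm v, ← e, hm u])
          (hmne u) (e ▸ hmne v))
      have hpq : p ≠ q := fun e => hgxy (by rw [e])
      have hfm : ∀ u, f (m u) = f u := hm
      have hmm : ∀ u, m (m u) = u := fun u => (huniq (m u) u (hm u).symm (Ne.symm (hmne u))).symm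
      -- the image pair through the mate of `p`
      have hw : f (N (m p)) ≠ f p ∧ f (N (m p)) ≠ f q := by
        refine ⟨fun e => hNf (m p) (by rw [hm, e]), fun e => ?_⟩
        by_cases h1 : N (m p) = q
        · exact hmne p (by rw [← hNN (m p), h1, hNq])
        · have h2 : N (m p) = m q := huniq q _ e h1
          obtain ⟨w, hwp, hwq⟩ : ∃ w, f w ≠ f p ∧ f w ≠ f q := by
            obtain ⟨i, hi1, hi2⟩ : ∃ i : Fin 3, i ≠ f p ∧ i ≠ f q := by
              generalize f p = i₁; generalize f q = i₂; revert i₁ i₂; decide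
            obtain ⟨w, hw, -⟩ := others f hf i ∅ (by simp)
            exact ⟨w, hw ▸ hi1, hw ▸ hi2⟩
          have h3 : f (N w) = f w := by
            by_contra h4
            have hthree : ∀ i : Fin 3, i = f p ∨ i = f q ∨ i = f w := by
              generalize f p = i₁ at hgxy hwp ⊢
              generalize f q = i₂ at hgxy hwq ⊢
              generalize f w = i₃ at hwp hwq ⊢
              revert i₁ i₂ i₃; decide
            rcases hthree (f (N w)) with e' | e' | e'
            · by_cases h5 : N w = p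
              · exact hwq (by rw [← hNN w, h5, hNp])
              · exact hwq (by rw [← hNN w, huniq p _ e' h5, h2, hm])
            · by_cases h5 : N w = q
              · exact hwp (by rw [← hNN w, h5, hNq])
              · exact hwp (by rw [← hNN w, huniq q _ e' h5, ← h2, hNN, hm])
            · exact h4 e'
          exact hNf w h3.symm
      obtain ⟨w, hwdef⟩ : ∃ w, w = N (m p) := ⟨_, rfl⟩
      rw [← hwdef] at hw
      have hk : swap p q * swap (m p) (m q) ∈ pres f ⊓ alternatingGroup Ω := by
        refine ⟨?_, swap_pair_even hpq (hm1 p q hpq)⟩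
        have hkf : ∀ t, f ((swap p q * swap (m p) (m q)) t) = swap (f p) (f q) (f t) := by
          intro t
          rw [Perm.mul_apply]
          by_cases h1 : f t = f p
          · rw [h1, swap_apply_left]
            by_cases h2 : t = p
            · rw [h2, swap_apply_of_ne_of_ne (Ne.symm (hmne p)) (fun e => hgxy (by rw [e, hm])),
                swap_apply_left]
            · rw [huniq p t h1 h2, swap_apply_left,
                swap_apply_of_ne_of_ne (fun e => hgxy (by rw [← e, hm])) (hmne q), hm]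
          · by_cases h1' : f t = f q
            · rw [h1', swap_apply_right]
              by_cases h2 : t = q
              · rw [h2, swap_apply_of_ne_of_ne (fun e => hgxy (by rw [e, hm]))
                  (Ne.symm (hmne q)), swap_apply_right]
              · rw [huniq q t h1' h2, swap_apply_right,
                  swap_apply_of_ne_of_ne (hmne p) (fun e => hgxy (by rw [← e, hm])), hm]
            · rw [swap_apply_of_ne_of_ne h1 h1',
                swap_apply_of_ne_of_ne (x := t) (fun e => h1 (by rw [e, hm]))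
                  (fun e => h1' (by rw [e, hm])),
                swap_apply_of_ne_of_ne (fun e => h1 (by rw [e])) (fun e => h1' (by rw [e]))]
        intro u v
        rw [hkf, hkf]
        exact (swap (f p) (f q)).injective.eq_iff.symm
      have e1 : Rel H (swap p q) (swap (m p) w) := hwdef ▸ hND (m p)
      have e2 := rel_conj (hK hk) e1
      simp only [Perm.mul_apply] at e2
      rw [swap_apply_of_ne_of_ne (x := p) (Ne.symm (hmne p)) (fun e => hgxy (by rw [e, hm])),
        swap_apply_left, swap_apply_of_ne_of_ne (x := q) (fun e => hgxy (by rw [e, hm]))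
          (Ne.symm (hmne q)), swap_apply_right, swap_apply_left,
        swap_apply_of_ne_of_ne (x := m q) (fun e => hgxy (by rw [← e, hm])) (hmne q),
        swap_apply_of_ne_of_ne (x := w) (fun e => hw.1 (by rw [e, hm]))
          (fun e => hw.2 (by rw [e, hm])),
        swap_apply_of_ne_of_ne (x := w) (fun e => hw.1 (by rw [e])) (fun e => hw.2 (by rw [e])),
        swap_comm q p] at e2
      obtain ⟨w', hw'def⟩ : ∃ w', w' = N (m q) := ⟨_, rfl⟩
      have hw' : w' ≠ w := by
        rw [hw'def, hwdef]
        exact fun e => hm1 p q hpq (by rw [← hNN (m p), ← e, hNN])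
      have hw'p : f w' ≠ f p := by
        intro e
        by_cases h1 : w' = p
        · exact hmne q (by rw [← hNN (m q), ← hw'def, h1, hNp])
        · have h2 := huniq p w' e h1
          have : N (m p) = m q := by rw [← h2, hw'def, hNN]
          exact hw.2 (by rw [hwdef, this, hm])
      have hw'q : f w' ≠ f q := fun e => hNf (m q) (by rw [hm, ← hw'def, e])
      have hfw : f w' = f w := by
        have key : ∀ i j k l : Fin 3, i ≠ j → k ≠ i → k ≠ j → l ≠ i → l ≠ j → l = k := by decide
        exact key (f p) (f q) (f w) (f w') hgxy hw.1 hw.2 hw'p hw'q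
      have e3 : Rel H (swap p q) (swap (m q) w') := hw'def ▸ hND (m q)
      exact hbad w w' hw'.symm hfw.symm (rel_clique (fun e => hw.2 (by rw [← e, hm]))
        (fun e => hw'q (by rw [← e, hm])) hw'.symm e2 e3)
  · -- many blocks: some image pair avoids the blocks of `p` and `q`
    obtain ⟨z, hz⟩ : ∃ z, z ∉ ({p, q, m p, m q, N (m p), N (m q)} : Finset Ω) := by
      by_contra hc
      push Not at hc
      have := Finset.card_le_card (s := Finset.univ)
        (t := ({p, q, m p, m q, N (m p), N (m q)} : Finset Ω)) (fun t _ => hc t)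
      have h6 := this.trans (Finset.card_le_six ..)
      rw [Finset.card_univ, hcard] at h6
      omega
    simp only [Finset.mem_insert, Finset.mem_singleton, not_or] at hz
    obtain ⟨h1, h2, h3, h4, h5, h6⟩ := hz
    obtain ⟨s, hs⟩ : ∃ s, s = N z := ⟨_, rfl⟩
    have hzp : f z ≠ f p := fun e => h3 (huniq p z e h1)
    have hzq : f z ≠ f q := fun e => h4 (huniq q z e h2)
    have hzs : f z ≠ f s := hs ▸ hNf z
    have hsp : f s ≠ f p := by
      intro e
      by_cases e1 : s = p
      · exact h2 (by rw [← hNN z, ← hs, e1, hNp])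
      · exact h5 (by rw [← hNN z, ← hs, huniq p s e e1])
    have hsq : f s ≠ f q := by
      intro e
      by_cases e1 : s = q
      · exact h1 (by rw [← hNN z, ← hs, e1, hNq])
      · exact h6 (by rw [← hNN z, ← hs, huniq q s e e1])
    obtain ⟨i, hi⟩ : ∃ i, i ∉ ({f p, f q, f z, f s} : Finset (Fin b)) := by
      by_contra hc
      push Not at hc
      have := (Finset.card_le_card (s := Finset.univ)
        (t := ({f p, f q, f z, f s} : Finset (Fin b))) (fun t _ => hc t)).trans
          (Finset.card_le_four ..)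
      rw [Finset.card_univ, Fintype.card_fin] at this
      omega
    obtain ⟨t, ht, -⟩ := others f hf i ∅ (by simp)
    simp only [Finset.mem_insert, Finset.mem_singleton, not_or, ← ht] at hi
    obtain ⟨i1, i2, i3, i4⟩ := hi
    have hk := hflip s t (Ne.symm i4)
    have e1 : Rel H (swap p q) (swap z s) := hs ▸ hND z
    have e2 := rel_conj hk e1
    simp only [Perm.mul_apply] at e2
    rw [hfix t p (Ne.symm i1), hfix t q (Ne.symm i2), hfix t z (Ne.symm i3),
      hfix t s (Ne.symm i4), hfix s p (Ne.symm hsp), hfix s q (Ne.symm hsq), hfix s z hzs,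
      swap_apply_left] at e2
    exact hbad s (m s) (Ne.symm (hmne s)) (hm s).symm
      (rel_clique (fun e => hzs (by rw [e])) (fun e => hzs (by rw [e, hm]))
        (Ne.symm (hmne s)) e1 e2)

theorem main (h8 : Fintype.card Ω ≠ 8) (a b : ℕ) (ha : 2 ≤ a) (hb : 2 ≤ b)
    (f : Ω → Fin b) (hf : ∀ i : Fin b, Nat.card {x : Ω // f x = i} = a) :
    IsCoatom ((Subgroup.closure {g : Equiv.Perm Ω | ∀ x y : Ω, f x = f y ↔ f (g x) = f (g y)}
      ⊓ alternatingGroup Ω).subgroupOf (alternatingGroup Ω)) := by
  rw [closure_pres]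
  obtain ⟨x₀, hx₀, -⟩ := others f hf ⟨0, by omega⟩ ∅ (by simp; omega)
  obtain ⟨y₀, hy₀, hy₀S⟩ := others f hf (f x₀) {x₀} (by rw [Finset.card_singleton]; omega)
  obtain ⟨z₀, hz₀, -⟩ := others f hf ⟨1, by omega⟩ ∅ (by simp; omega)
  simp only [Finset.mem_singleton] at hy₀S
  have h01 : f x₀ ≠ f z₀ := by
    rw [hx₀, hz₀]
    simp
  have hxz : x₀ ≠ z₀ := fun e => h01 (by rw [e])
  have hyz : y₀ ≠ z₀ := fun e => h01 (by rw [← hy₀, e])
  refine ⟨fun htop => ?_, ?_⟩
  · rw [Subgroup.subgroupOf_eq_top] at htop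
    have hc : swap y₀ z₀ * swap x₀ y₀ ∈ pres f :=
      (htop (swap_pair_even hyz (Ne.symm hy₀S))).1
    have := (hc x₀ y₀).1 hy₀.symm
    simp only [Perm.mul_apply, swap_apply_left, swap_apply_right,
      swap_apply_of_ne_of_ne (Ne.symm hy₀S) hxz] at this
    exact h01 this.symm
  intro H' hlt
  obtain ⟨H, hH⟩ : ∃ H, H = H'.map (alternatingGroup Ω).subtype := ⟨_, rfl⟩
  have hA : H ≤ alternatingGroup Ω := hH ▸ Subgroup.map_subtype_le _
  have hK : pres f ⊓ alternatingGroup Ω ≤ H := fun g hg =>
    hH ▸ ⟨⟨g, hg.2⟩, hlt.le (show (⟨g, hg.2⟩ : alternatingGroup Ω) ∈ _ from hg), rfl⟩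
  obtain ⟨g', hg', hg'n⟩ := SetLike.exists_of_lt hlt
  have hgH : (g' : Perm Ω) ∈ H := hH ▸ ⟨g', hg', rfl⟩
  have hgn : ¬ ∀ x y : Ω, f x = f y ↔ f ((g' : Perm Ω) x) = f ((g' : Perm Ω) y) :=
    fun h => hg'n ⟨h, g'.2⟩
  obtain ⟨g, hg, x, y, hxy, hgxy⟩ :
      ∃ g ∈ H, ∃ x y : Ω, f x = f y ∧ f (g x) ≠ f (g y) := by
    push Not at hgn
    obtain ⟨x, y, h | h⟩ := hgn
    · exact ⟨_, hgH, x, y, h.1, h.2⟩
    · refine ⟨(g' : Perm Ω)⁻¹, inv_mem hgH, (g' : Perm Ω) x, (g' : Perm Ω) y, h.2, ?_⟩
      simpa using h.1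
  obtain ⟨u, v, p, q, huv, hfuv, hpq, hrel⟩ := cross_rel ha f hf h8 hK hA hg hxy hgxy
  have hwin : ∀ u' v' : Ω, u' ≠ v' → f u' = f v' → Rel H (swap u v) (swap u' v') :=
    fun u' v' h1 h2 => hK ⟨swap_pair_mem hfuv h2, swap_pair_even huv h1⟩
  -- all pairs across two linked blocks
  have hlink : ∀ p q u' v' : Ω, f p ≠ f q → Rel H (swap u v) (swap p q) → f u' = f p →
      f v' = f q → Rel H (swap u v) (swap u' v') := by
    intro p q u' v' hne h h1 h2
    have hu'q : u' ≠ q := fun e => hne (by rw [← h1, e])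
    have hu'v' : u' ≠ v' := fun e => hne (by rw [← h1, e, h2])
    have s1 : Rel H (swap u v) (swap u' q) := by
      by_cases e : u' = p
      · rw [e]; exact h
      · exact rel_clique (fun e' => e e'.symm) (fun e' => hne (by rw [e'])) hu'q
          (hwin p u' (fun e' => e e'.symm) h1.symm) h
    by_cases e : v' = q
    · rw [e]; exact s1
    · exact rel_clique hu'q.symm (Ne.symm e) hu'v' (swap_comm u' q ▸ s1)
        (hwin q v' (Ne.symm e) h2.symm)
  have hall : ∀ u' v' : Ω, u' ≠ v' → Rel H (swap u v) (swap u' v') := by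
    intro u' v' hne
    by_cases h1 : f u' = f v'
    · exact hwin u' v' hne h1
    let π₁ : Perm (Fin b) := swap (f p) (f u')
    obtain ⟨π, hπp, hπq⟩ : ∃ π : Perm (Fin b), π (f p) = f u' ∧ π (f q) = f v' := by
      refine ⟨swap (π₁ (f q)) (f v') * π₁, ?_, by rw [Perm.mul_apply, swap_apply_left]⟩
      rw [Perm.mul_apply, show π₁ (f p) = f u' from swap_apply_left _ _]
      refine swap_apply_of_ne_of_ne (fun e => hpq (π₁.injective ?_)) h1
      rw [show π₁ (f p) = f u' from swap_apply_left _ _, e]
    obtain ⟨k, hkP, hkA, hkf⟩ := exists_lift ha f hf π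
    have e1 := rel_conj (hK ⟨hkP, hkA⟩) hrel
    have e2 : Rel H (swap u v) (swap (k p) (k q)) :=
      rel_trans (hwin (k u) (k v) (k.injective.ne huv) (by rw [hkf, hkf, hfuv])) e1
    exact hlink (k p) (k q) u' v' (by rw [hkf, hkf, hπp, hπq]; exact h1) e2
      (by rw [hkf, hπp]) (by rw [hkf, hπq])
  have htop : alternatingGroup Ω ≤ H := by
    rw [← Perm.closure_three_cycles_eq_alternating, Subgroup.closure_le]
    intro σ hσ
    obtain ⟨s, hs⟩ : ∃ s, σ s ≠ s := by
      by_contra hc
      push Not at hc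
      exact hσ.ne_one (Perm.ext hc)
    change σ ∈ H
    rw [(hσ.eq_swap_mul_swap_iff_mem_support (a := s)).2 (Perm.mem_support.2 hs)]
    have h1 : s ≠ σ s := Ne.symm hs
    have h2 : σ s ≠ σ (σ s) := fun e => hs (σ.injective e).symm
    exact rel_trans (rel_symm (hall s (σ s) h1)) (hall (σ s) (σ (σ s)) h2)
  rw [eq_top_iff]
  rintro t -
  obtain ⟨t', ht', hte⟩ := hH ▸ htop t.2
  exact Subtype.ext hte ▸ ht'


/-- Let Ω be a finite set whose size is not 8, and f : Ω → Fin b a labelling with b ≥ 2 whose fibres all have the same size a ≥ 2 (a partition into b blocks of size a). Then the even permutations preserving the partition — the intersection of the imprimitive wreath product S_a ≀ S_b with the alternating group — form a maximal subgroup of the alternating group on Ω. -/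
theorem result {Ω : Type*} [Fintype Ω] [DecidableEq Ω] (h8 : Fintype.card Ω ≠ 8) (a b : ℕ) (ha : 2 ≤ a) (hb : 2 ≤ b)
    (f : Ω → Fin b) (hf : ∀ i : Fin b, Nat.card {x : Ω // f x = i} = a) :
    IsCoatom ((Subgroup.closure {g : Equiv.Perm Ω | ∀ x y : Ω, f x = f y ↔ f (g x) = f (g y)} ⊓ alternatingGroup Ω).subgroupOf (alternatingGroup Ω)) := by
  exact main h8 a b ha hb f hf

end Cfsg.Agent.S5909
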