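import Cfsg.Statements.S5910
import Mathlib

set_option linter.style.haveILetI false

set_option autoImplicit false
open Cfsg

namespace Cfsg.Agent.S5910

open Equiv Equiv.Perm

/-- Coordinates of a point as a number below eight. -/
def code (x : Fin 4 × Bool) : ℕ := 2 * x.1.val + cond x.2 1 0

/-- The planes of the affine space of eight points. -/
def planes : Finset (Finset (Fin 4 × Bool)) :=
  Finset.univ.filter fun s => s.card = 4 ∧ ∀ a ∈ s, ∀ b ∈ s, ∀ c ∈ s, ∀ d ∈ s,
    a ≠ b → a ≠ c → a ≠ d → b ≠ c → b ≠ d → c ≠ d → code a ^^^ code b ^^^ code c ^^^ code d = 0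

/-- The action on four element subsets. -/
def move (g : Perm (Fin 4 × Bool)) (S : Finset (Finset (Fin 4 × Bool))) : Finset (Finset (Fin 4 × Bool)) :=
  S.image fun s => s.image g

theorem move_mul (g h : Perm (Fin 4 × Bool)) (S : Finset (Finset (Fin 4 × Bool))) : move (g * h) S = move g (move h S) := by
  simp only [move, Finset.image_image, Perm.coe_mul]
  congr 1
  funext s
  simp [Finset.image_image]

theorem move_one (S : Finset (Finset (Fin 4 × Bool))) : move 1 S = S := by simp [move]

/-- The affine group. -/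
def aff : Subgroup (Perm (Fin 4 × Bool)) where
  carrier := {g | move g planes = planes}
  one_mem' := move_one _
  mul_mem' := fun {a b} ha hb => by show move (a * b) planes = planes; rw [move_mul, hb, ha]
  inv_mem' := fun {a} ha => by
    show move a⁻¹ planes = planes
    conv_lhs => rw [← ha]
    rw [← move_mul, inv_mul_cancel, move_one]

instance (g : Perm (Fin 4 × Bool)) : Decidable (g ∈ aff) :=
  decidable_of_iff (move g planes = planes) Iff.rfl

/-- Flips inside pairs. -/
def flips (ε : Fin 4 → Bool) : Perm (Fin 4 × Bool) :=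
  Equiv.prodCongrRight fun i => if ε i then Equiv.swap false true else 1

theorem top_aff : ∀ σ : Perm (Fin 4), Equiv.prodCongrLeft (fun _ : Bool => σ) ∈ aff := by decide +kernel

theorem flips_aff : ∀ ε : Fin 4 → Bool, (∏ i, if ε i then (-1 : ℤˣ) else 1) = 1 → flips ε ∈ aff := by decide +kernel

/-- A coordinate swap. -/
def extra : Perm (Fin 4 × Bool) := Equiv.swap (0, true) (1, false) * Equiv.swap (2, true) (3, false)

theorem extra_aff : extra ∈ aff := by decide +kernel

theorem three_not_aff : Equiv.swap ((0 : Fin 4), false) (0, true) * Equiv.swap (0, true) (1, false) ∉ aff := by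
  decide +kernel

theorem bool_key : ∀ a c : Bool, a ≠ c → a = (if a then Equiv.swap false true else 1) false ∧
    c = (if a then Equiv.swap false true else 1) true := by decide

theorem block_mem_aff (g : Perm (Fin 4 × Bool)) (hg : ∀ x y, x.1 = y.1 ↔ (g x).1 = (g y).1) (hs : sign g = 1) :
    g ∈ aff := by
  classical
  have hσ : Function.Injective (fun i => (g (i, false)).1) := fun i j h => (hg (i, false) (j, false)).2 h
  let σ : Perm (Fin 4) := Equiv.ofBijective _ (Finite.injective_iff_bijective.1 hσ)
  let h := (Equiv.prodCongrLeft fun _ : Bool => σ)⁻¹ * g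
  have h1 : ∀ i b, (h (i, b)).1 = i := by
    intro i b
    have h2 : (g (i, b)).1 = σ i := (hg (i, b) (i, false)).1 rfl
    show σ.symm (g (i, b)).1 = i
    rw [h2, Equiv.symm_apply_apply]
  let ε : Fin 4 → Bool := fun i => (h (i, false)).2
  have h3 : h = flips ε := by
    refine Equiv.ext fun x => ?_
    obtain ⟨i, b⟩ := x
    refine Prod.ext (h1 i b) ?_
    have hne : (h (i, false)).2 ≠ (h (i, true)).2 := fun e => by
      have := h.injective (Prod.ext ((h1 i false).trans (h1 i true).symm) e)
      simp at this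
    show _ = (if ε i then Equiv.swap false true else 1) b
    simp only [ε]
    obtain ⟨k1, k2⟩ := bool_key _ _ hne
    cases b
    · exact k1
    · exact k2
  have h4 : g = (Equiv.prodCongrLeft fun _ : Bool => σ) * flips ε := by rw [← h3]; simp [h]
  rw [h4]
  refine aff.mul_mem (top_aff σ) (flips_aff ε ?_)
  rw [h4, map_mul, flips, Equiv.Perm.sign_prodCongrLeft, Equiv.Perm.sign_prodCongrRight] at hs
  rw [show (∏ _k : Bool, sign σ) = 1 by rw [Finset.prod_const]; exact Int.units_sq _, one_mul] at hs
  refine Eq.trans (Finset.prod_congr rfl fun i _ => ?_) hs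
  cases ε i <;> simp

/-- Let Ω be a set with 8 elements and f : Ω → Fin 4 a labelling whose four fibres all have size 2 (a partition of the 8 points into 4 pairs). Then the group of even permutations preserving this partition, (S₂ ≀ S₄) ∩ A₈, is not a maximal subgroup of the alternating group A₈ (it lies in a subgroup isomorphic to the affine group AGL₃(2)). -/
theorem result {Ω : Type*} [Fintype Ω] [DecidableEq Ω] (h8 : Fintype.card Ω = 8)
    (f : Ω → Fin 4) (hf : ∀ i : Fin 4, Nat.card {x : Ω // f x = i} = 2) :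
    ¬ IsCoatom ((Subgroup.closure {g : Equiv.Perm Ω | ∀ x y : Ω, f x = f y ↔ f (g x) = f (g y)} ⊓ alternatingGroup Ω).subgroupOf (alternatingGroup Ω)) := by
  classical
  have hfib : ∀ i, Nonempty ({x : Ω // f x = i} ≃ Bool) := fun i =>
    ⟨(Finite.equivFinOfCardEq (hf i)).trans finTwoEquiv⟩
  let e : Ω ≃ Fin 4 × Bool :=
    ((Equiv.sigmaFiberEquiv f).symm.trans (Equiv.sigmaCongrRight fun i => (hfib i).some)).trans (Equiv.sigmaEquivProd _ _)
  have he : ∀ x, (e x).1 = f x := fun x => rfl
  let φ : Equiv.Perm Ω ≃* Equiv.Perm (Fin 4 × Bool) := e.permCongrHom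
  have hφ : ∀ g z, φ g z = e (g (e.symm z)) := fun g z => rfl
  set W : Subgroup (Equiv.Perm Ω) :=
    Subgroup.closure {g : Equiv.Perm Ω | ∀ x y : Ω, f x = f y ↔ f (g x) = f (g y)} ⊓ alternatingGroup Ω
  intro hco
  set K : Subgroup (alternatingGroup Ω) := ((aff.comap φ.toMonoidHom).subgroupOf (alternatingGroup Ω)) with hK
  let Blk : Subgroup (Equiv.Perm Ω) :=
    { carrier := {g | ∀ x y : Ω, f x = f y ↔ f (g x) = f (g y)}
      one_mem' := fun x y => Iff.rfl
      mul_mem' := fun {a b} ha hb x y => (hb x y).trans (ha _ _)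
      inv_mem' := fun {a} ha x y => by simpa using (ha (a⁻¹ x) (a⁻¹ y)).symm }
  have hW : ∀ g ∈ W, ∀ x y : Ω, f x = f y ↔ f (g x) = f (g y) := fun g hg =>
    (Subgroup.closure_le Blk).2 (fun a ha => ha) hg.1
  have hsign : ∀ g, Equiv.Perm.sign (φ g) = Equiv.Perm.sign g := fun g => Equiv.Perm.sign_permCongr e g
  have hle : W.subgroupOf (alternatingGroup Ω) ≤ K := by
    intro a ha
    refine block_mem_aff _ (fun z w => ?_) ((hsign _).trans (Equiv.Perm.mem_alternatingGroup.1 a.2))
    show z.1 = w.1 ↔ (e ((a : Equiv.Perm Ω) (e.symm z))).1 = (e ((a : Equiv.Perm Ω) (e.symm w))).1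
    rw [he, he, ← hW a ha]
    rw [← he, ← he, e.apply_symm_apply, e.apply_symm_apply]
  have hx : e.permCongr.symm extra ∈ alternatingGroup Ω := by
    rw [Equiv.Perm.mem_alternatingGroup, ← hsign]
    show Equiv.Perm.sign (e.permCongr (e.permCongr.symm extra)) = 1
    rw [Equiv.apply_symm_apply]; decide +kernel
  rcases hco.le_iff.1 hle with h | h
  · -- `K` is proper
    have h3 : φ.symm (Equiv.swap ((0 : Fin 4), false) (0, true) * Equiv.swap (0, true) (1, false)) ∈ alternatingGroup Ω := by
      rw [Equiv.Perm.mem_alternatingGroup, ← hsign, MulEquiv.apply_symm_apply]; decide +kernel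
    have h4 : (⟨_, h3⟩ : alternatingGroup Ω) ∈ K := h ▸ Subgroup.mem_top _
    rw [hK, Subgroup.mem_subgroupOf, Subgroup.mem_comap, MulEquiv.coe_toMonoidHom] at h4
    simp only [MulEquiv.apply_symm_apply] at h4
    exact three_not_aff h4
  · -- `K` is larger
    have h4 : (⟨_, hx⟩ : alternatingGroup Ω) ∈ W.subgroupOf (alternatingGroup Ω) := by
      rw [← h, hK, Subgroup.mem_subgroupOf, Subgroup.mem_comap]
      show e.permCongr (e.permCongr.symm extra) ∈ aff
      rw [Equiv.apply_symm_apply]; exact extra_aff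
    have h5 := (hW _ h4) (e.symm (0, false)) (e.symm (0, true))
    rw [← he, ← he, ← he, ← he] at h5
    simp [Equiv.permCongr_symm, Equiv.permCongr_apply, extra, Equiv.swap_apply_def] at h5

end Cfsg.Agent.S5910
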