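import Cfsg.Statements.S5912
import Cfsg.Agent.Lib.Linear.SymSix
open scoped Pointwise

set_option autoImplicit false
open Cfsg

namespace Cfsg.Agent.S5912

/-- The symmetric group on a 6-element set Ω has exactly two conjugacy classes of subgroups of index 6: there are two non-conjugate subgroups of index 6 (a point stabilizer and a transitive subgroup isomorphic to S₅), and every subgroup of index 6 is conjugate to one of them. -/
theorem result {Ω : Type*} [Fintype Ω] [DecidableEq Ω] (h6 : Fintype.card Ω = 6) :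
    ∃ H₁ H₂ : Subgroup (Equiv.Perm Ω), H₁.index = 6 ∧ H₂.index = 6 ∧
      (¬ ∃ g : Equiv.Perm Ω, Subgroup.map (MulAut.conj g).toMonoidHom H₁ = H₂) ∧
      ∀ H : Subgroup (Equiv.Perm Ω), H.index = 6 →
        ∃ g : Equiv.Perm Ω, Subgroup.map (MulAut.conj g).toMonoidHom H₁ = H ∨ Subgroup.map (MulAut.conj g).toMonoidHom H₂ = H := by
  classical
  obtain ⟨a⟩ := Fintype.card_pos_iff.1 (show 0 < Fintype.card Ω by omega)
  obtain ⟨H₂, hH₂, hp₂⟩ := Cfsg.Lib.Linear.SymIdx.exists_transitive_six h6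
  obtain ⟨ψ, c, hc, hψ, hψ'⟩ := Cfsg.Lib.Linear.SymIdx.exists_outer h6 H₂ hH₂ hp₂
  refine ⟨MulAction.stabilizer (Equiv.Perm Ω) a, H₂, by rw [Cfsg.Lib.Linear.SymIdx.card_stabilizer_perm, h6], hH₂, ?_, ?_⟩
  · rintro ⟨g, hg⟩
    apply Cfsg.Lib.Linear.SymIdx.not_pretransitive_stabilizer (g a) (by omega)
    have : H₂ = MulAction.stabilizer (Equiv.Perm Ω) (g a) := by
      rw [← hg, ← MulAction.stabilizer_smul_eq_stabilizer_map_conj]; rfl
    rw [← this]; exact hp₂
  · intro H hH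
    by_cases hp : MulAction.IsPretransitive H Ω
    · obtain ⟨d, hd⟩ := Cfsg.Lib.Linear.SymIdx.transitive_classify h6 ψ hψ hψ' H hH hp
      exact ⟨ψ (Equiv.swap c d), Or.inr (by rw [hd, hc]; exact Cfsg.Lib.Linear.SymIdx.conj_map ψ c d)⟩
    · obtain ⟨x, rfl⟩ := Cfsg.Lib.Linear.SymIdx.eq_stabilizer_of_not_pretransitive H (hH.trans h6.symm) hp
      exact ⟨Equiv.swap a x, Or.inl (by
        rw [← MulAction.stabilizer_smul_eq_stabilizer_map_conj, Equiv.Perm.smul_def, Equiv.swap_apply_left])⟩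

end Cfsg.Agent.S5912
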