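import Cfsg.Statements.S5913


set_option autoImplicit false
open Cfsg

namespace Cfsg.Agent.S5913

/-- Let S be a non-abelian simple group and n a natural number. Every normal subgroup N of the direct power S^n (functions Fin n → S) is a subproduct: there is a set T of coordinates such that N consists exactly of the elements whose coordinates outside T are trivial. In particular the minimal normal subgroups of S^n are its n factors. -/
theorem result {S : Type*} [Group S] [IsSimpleGroup S] (hS : ¬ IsMulCommutative S) (n : ℕ)
    (N : Subgroup (Fin n → S)) [N.Normal] :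
    ∃ T : Finset (Fin n), ∀ x : Fin n → S, x ∈ N ↔ ∀ i, i ∉ T → x i = 1 := by
  classical
  have hcen : Subgroup.center S = ⊥ := by
    rcases (inferInstance : (Subgroup.center S).Normal).eq_bot_or_eq_top with h | h
    · exact h
    · exact absurd ⟨⟨fun a b => Subgroup.mem_center_iff.1 (h ▸ Subgroup.mem_top b) a⟩⟩ hS
  refine ⟨Finset.univ.filter (fun i => ∃ x ∈ N, x i ≠ 1), fun x => ⟨fun hx i hi => ?_, fun hx => ?_⟩⟩
  · by_contra h
    exact hi (Finset.mem_filter.2 ⟨Finset.mem_univ _, x, hx, h⟩)
  · apply Subgroup.pi_mem_of_mulSingle_mem x
    intro i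
    by_cases hi : ∃ y ∈ N, y i ≠ 1
    · obtain ⟨y, hy, hyi⟩ := hi
      let φ : S →* (Fin n → S) := MonoidHom.mulSingle (fun _ => S) i
      have hn : (N.comap φ).Normal := inferInstance
      rcases hn.eq_bot_or_eq_top with h | h
      · exfalso
        apply hyi
        have : y i ∈ Subgroup.center S := by
          rw [Subgroup.mem_center_iff]
          intro s
          have hmem : Pi.mulSingle i (y i * s * (y i)⁻¹ * s⁻¹) ∈ N := by
            have : y * (Pi.mulSingle i s * y⁻¹ * (Pi.mulSingle i s)⁻¹) ∈ N :=
              mul_mem hy (Subgroup.Normal.conj_mem inferInstance _ (inv_mem hy) _)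
            convert this using 1
            funext j
            rcases eq_or_ne j i with rfl | hj
            · simp [mul_assoc]
            · simp [hj]
          have : y i * s * (y i)⁻¹ * s⁻¹ ∈ N.comap φ := hmem
          rw [h, Subgroup.mem_bot, mul_inv_eq_one, mul_inv_eq_iff_eq_mul] at this
          exact this.symm
        rwa [hcen, Subgroup.mem_bot] at this
      · have : x i ∈ N.comap φ := h ▸ Subgroup.mem_top _
        exact this
    · have h1 : x i = 1 := hx i (by simpa using hi)
      rw [h1, Pi.mulSingle_one]
      exact one_mem N

end Cfsg.Agent.S5913
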