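import Cfsg.Statements.S5914
import Mathlib
open scoped commutatorElement

set_option autoImplicit false
open Cfsg

namespace Cfsg.Agent.S5914

theorem backward {S : Type*} [Group S] [IsSimpleGroup S] {n : ℕ} (H : Subgroup (Fin n → S)) [hH : H.Characteristic] :
    H = ⊥ ∨ H = ⊤ := by
  classical
  rw [or_iff_not_imp_left]
  intro hne
  obtain ⟨⟨x, hx⟩, hx1'⟩ := Subgroup.ne_bot_iff_exists_ne_one.1 hne
  have hx1 : x ≠ 1 := fun h => hx1' (Subtype.ext h)
  obtain ⟨i, hi⟩ := Function.ne_iff.1 hx1
  rw [Pi.one_apply] at hi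
  have hmap : ∀ φ : (Fin n → S) ≃* (Fin n → S), ∀ y ∈ H, φ y ∈ H := fun φ y hy =>
    Subgroup.characteristic_iff_map_le.1 hH φ ⟨y, hy, rfl⟩
  have hperm : ∀ (j k : Fin n) (s : S), Pi.mulSingle j s ∈ H → Pi.mulSingle k s ∈ H := by
    intro j k s hs
    let φ : (Fin n → S) ≃* (Fin n → S) :=
      { toEquiv := Equiv.arrowCongr (Equiv.swap j k) (Equiv.refl S), map_mul' := fun _ _ => rfl }
    have h1 : φ (Pi.mulSingle j s) = Pi.mulSingle k s := by
      funext l
      show Pi.mulSingle (M := fun _ => S) j s (Equiv.swap j k l) = _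
      simp only [Pi.mulSingle_apply, Equiv.swap_apply_eq_iff, Equiv.swap_apply_left]
    exact h1 ▸ hmap φ _ hs
  obtain ⟨j, s, hs1, hs⟩ : ∃ (j : Fin n) (s : S), s ≠ 1 ∧ Pi.mulSingle j s ∈ H := by
    by_cases hc : ∀ a b : S, a * b = b * a
    · by_cases hn : ∀ j, j = i
      · refine ⟨i, x i, hi, ?_⟩
        have : x = Pi.mulSingle i (x i) := funext fun l => by rw [hn l, Pi.mulSingle_eq_same]
        exact this ▸ hx
      · push_neg at hn
        obtain ⟨j, hj⟩ := hn
        refine ⟨j, x i, hi, ?_⟩
        let φ : (Fin n → S) ≃* (Fin n → S) :=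
          { toFun := fun y => y * Pi.mulSingle j (y i)
            invFun := fun y => y * Pi.mulSingle j (y i)⁻¹
            left_inv := fun y => funext fun l => by
              rcases eq_or_ne l j with rfl | hl
              · simp [hj.symm]
              · simp [hl, hj.symm]
            right_inv := fun y => funext fun l => by
              rcases eq_or_ne l j with rfl | hl
              · simp [hj.symm]
              · simp [hl, hj.symm]
            map_mul' := fun y z => funext fun l => by
              rcases eq_or_ne l j with rfl | hl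
              · simp only [Pi.mul_apply, Pi.mulSingle_eq_same]
                rw [mul_assoc, ← mul_assoc (z l), hc (z l) (y i)]
                simp [mul_assoc]
              · simp [hl] }
        have h1 : φ x = x * Pi.mulSingle j (x i) := rfl
        have h2 := mul_mem (inv_mem hx) (h1 ▸ hmap φ x hx)
        rwa [inv_mul_cancel_left] at h2
    · obtain ⟨t, ht⟩ : ∃ t, x i * t ≠ t * x i := by
        by_contra hh
        push_neg at hh
        have hz : x i ∈ Subgroup.center S := Subgroup.mem_center_iff.2 fun g => (hh g).symm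
        rcases IsSimpleGroup.eq_bot_or_eq_top_of_normal (Subgroup.center S) inferInstance with h | h
        · exact hi (Subgroup.mem_bot.1 (h ▸ hz))
        · exact hc fun a b => Subgroup.mem_center_iff.1 (h ▸ Subgroup.mem_top b) a
      refine ⟨i, ⁅x i, t⁆, fun h => ht (commutatorElement_eq_one_iff_mul_comm.1 h), ?_⟩
      have h1 : (Pi.mulSingle i ⁅x i, t⁆ : Fin n → S) = ⁅x, (Pi.mulSingle i t : Fin n → S)⁆ := funext fun l => by
        rcases eq_or_ne l i with rfl | hl
        · simp [commutatorElement_def]
        · simp [commutatorElement_def, hl]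
      haveI : H.Normal := inferInstance
      rw [h1, commutatorElement_def, mul_assoc, mul_assoc]
      refine mul_mem hx ?_
      rw [← mul_assoc]
      exact Subgroup.Normal.conj_mem this _ (inv_mem hx) _
  have htop : H.comap (MonoidHom.mulSingle (fun _ : Fin n => S) j) = ⊤ := by
    haveI : H.Normal := inferInstance
    refine (IsSimpleGroup.eq_bot_or_eq_top_of_normal _ inferInstance).resolve_left fun h => hs1 ?_
    exact Subgroup.mem_bot.1 (h ▸ (show s ∈ H.comap (MonoidHom.mulSingle (fun _ : Fin n => S) j) from hs))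
  rw [eq_top_iff]
  intro y _
  refine Subgroup.pi_mem_of_mulSingle_mem y fun k => ?_
  have h1 : y k ∈ H.comap (MonoidHom.mulSingle (fun _ : Fin n => S) j) := by rw [htop]; exact Subgroup.mem_top _
  exact hperm j k _ h1

/-- A copy of `Fin n` without algebraic structure. -/
def Carrier (n : ℕ) : Type := Fin n

theorem forward {G : Type*} [Group G] [Finite G] [Nontrivial G]
    (h : ∀ H : Subgroup G, H.Characteristic → H = ⊥ ∨ H = ⊤) :
    ∃ (N : Subgroup G) (n : ℕ), IsSimpleGroup N ∧ 1 ≤ n ∧ Nonempty (G ≃* (Fin n → N)) := by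
  classical
  haveI := Fintype.ofFinite (Subgroup G)
  have hne : (Finset.univ.filter fun N : Subgroup G => N.Normal ∧ N ≠ ⊥).Nonempty :=
    ⟨⊤, Finset.mem_filter.2 ⟨Finset.mem_univ _, inferInstance, top_ne_bot⟩⟩
  obtain ⟨N, hNm, hmin⟩ := Finset.exists_min_image _ (fun N : Subgroup G => Nat.card N) hne
  obtain ⟨hNn, hN⟩ := (Finset.mem_filter.1 hNm).2
  simp only [Finset.mem_filter, Finset.mem_univ, true_and] at hmin
  let P : Subgroup G → Prop := fun K => K.Normal ∧ ∃ m, Nonempty ((Fin m → N) ≃* K)
  have hbot : P ⊥ := by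
    refine ⟨inferInstance, 0, ⟨?_⟩⟩
    exact
      { toFun := fun _ => 1
        invFun := fun _ => 1
        left_inv := fun _ => funext fun i => i.elim0
        right_inv := fun _ => Subsingleton.elim _ _
        map_mul' := fun _ _ => (one_mul _).symm }
  obtain ⟨K, hK, hmax⟩ := Finset.exists_max_image (Finset.univ.filter P) (fun K => Nat.card K)
    ⟨⊥, Finset.mem_filter.2 ⟨Finset.mem_univ _, hbot⟩⟩
  obtain ⟨hKn, m, ⟨e⟩⟩ := (Finset.mem_filter.1 hK).2
  have hle : ∀ φ : G ≃* G, N.map φ.toMonoidHom ≤ K := by
    intro φ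
    set M := N.map φ.toMonoidHom with hM
    haveI : M.Normal := hNn.map _ φ.surjective
    have hcard : Nat.card M = Nat.card N := (Nat.card_congr (φ.subgroupMap N).toEquiv).symm
    by_cases hint : M ⊓ K = ⊥
    · exfalso
      have hdisj : ∀ a ∈ M, a ∈ K → a = 1 := fun a ha ha' => Subgroup.mem_bot.1 (hint ▸ Subgroup.mem_inf.2 ⟨ha, ha'⟩)
      have hcomm : ∀ (a : K) (b : M), Commute (K.subtype a) (M.subtype b) := fun a b =>
        Subgroup.commute_of_normal_of_disjoint K M hKn inferInstance
          (disjoint_iff.2 (by rw [inf_comm]; exact hint)) _ _ a.2 b.2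
      let f : K × M →* G := MonoidHom.noncommCoprod K.subtype M.subtype hcomm
      have hf : Function.Injective f := by
        rw [injective_iff_map_eq_one]
        rintro ⟨a, b⟩ hab
        have hab' : (a : G) * (b : G) = 1 := hab
        have hb : (b : G) ∈ K := by
          rw [show (b : G) = (a : G)⁻¹ from eq_inv_of_mul_eq_one_right hab']; exact inv_mem a.2
        have hb1 := hdisj _ b.2 hb
        rw [hb1, mul_one] at hab'
        exact Prod.ext (Subtype.ext hab') (Subtype.ext hb1)
      have hr : f.range = K ⊔ M := by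
        rw [MonoidHom.noncommCoprod_range, Subgroup.range_subtype, Subgroup.range_subtype]
      have hP : P (K ⊔ M) := by
        refine ⟨inferInstance, m + 1, ⟨MulEquiv.trans ?_ ((MonoidHom.ofInjective hf).trans (MulEquiv.subgroupCongr hr))⟩⟩
        exact
          { toFun := fun x => (e (fun i => x i.succ), φ.subgroupMap N (x 0))
            invFun := fun p => Fin.cons (α := fun _ => N) ((φ.subgroupMap N).symm p.2) (e.symm p.1)
            left_inv := fun x => by
              simp only [MulEquiv.symm_apply_apply]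
              exact Fin.cons_self_tail x
            right_inv := fun p => by
              simp only [Fin.cons_succ, Fin.cons_zero, MulEquiv.apply_symm_apply]
              exact Prod.ext rfl (MulEquiv.apply_symm_apply _ _)
            map_mul' := fun x y => by
              refine Prod.ext ?_ ?_
              · exact map_mul e (fun i => x i.succ) (fun i => y i.succ)
              · exact map_mul (φ.subgroupMap N) (x 0) (y 0) }
      have h1 := hmax _ (Finset.mem_filter.2 ⟨Finset.mem_univ _, hP⟩)
      have hK' : K ⊔ M = K := (Subgroup.eq_of_le_of_card_ge le_sup_left h1).symm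
      have hMK : M ≤ K := sup_eq_left.1 hK'
      rw [inf_eq_left.2 hMK] at hint
      rw [hint, Subgroup.card_bot] at hcard
      exact hN (Subgroup.card_eq_one.1 hcard.symm)
    · have h1 := hmin (M ⊓ K) ⟨inferInstance, hint⟩
      rw [← hcard] at h1
      exact inf_eq_left.1 (Subgroup.eq_of_le_of_card_ge inf_le_left h1)
  have hJ : (⨆ φ : G ≃* G, N.map φ.toMonoidHom) = ⊤ := by
    refine (h _ (Subgroup.characteristic_iff_map_le.2 fun ψ => ?_)).resolve_left fun hb => hN ?_
    · rw [Subgroup.map_iSup]
      refine iSup_le fun φ => ?_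
      rw [Subgroup.map_map]
      exact le_iSup (fun χ : G ≃* G => N.map χ.toMonoidHom) (φ.trans ψ)
    · rw [eq_bot_iff]
      refine le_trans ?_ hb.le
      refine le_trans ?_ (le_iSup (fun χ : G ≃* G => N.map χ.toMonoidHom) (MulEquiv.refl G))
      exact fun x hx => ⟨x, hx, rfl⟩
  have hKtop : K = ⊤ := top_le_iff.1 (hJ ▸ iSup_le hle)
  subst hKtop
  let E : G ≃* (Fin m → N) := Subgroup.topEquiv.symm.trans e.symm
  have hm : 1 ≤ m := by
    by_contra hm
    obtain rfl : m = 0 := by omega
    exact not_subsingleton G E.toEquiv.subsingleton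
  refine ⟨N, m, ?_, hm, ⟨E⟩⟩
  haveI : Nontrivial N := (Subgroup.nontrivial_iff_ne_bot N).2 hN
  refine ⟨fun A hA => or_iff_not_imp_right.2 fun hA1 => ?_⟩
  set i₀ : Fin m := ⟨0, hm⟩
  let B : Subgroup G := (A.map (MonoidHom.mulSingle (fun _ : Fin m => N) i₀)).comap E.toMonoidHom
  haveI : B.Normal := by
    refine Subgroup.Normal.comap ⟨?_⟩ _
    rintro _ ⟨a, ha, rfl⟩ g
    refine ⟨g i₀ * a * (g i₀)⁻¹, hA.conj_mem a ha _, funext fun l => ?_⟩
    rcases eq_or_ne l i₀ with rfl | hl
    · simp
    · simp [hl]
  have hcB : Nat.card B = Nat.card A := by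
    have h1 : B.map E.toMonoidHom = A.map (MonoidHom.mulSingle (fun _ : Fin m => N) i₀) :=
      Subgroup.map_comap_eq_self_of_surjective E.surjective _
    refine ((Nat.card_congr (E.subgroupMap B).toEquiv).trans (congrArg (fun K : Subgroup (Fin m → N) => Nat.card K) h1)).trans ?_
    exact (Nat.card_congr (Subgroup.equivMapOfInjective A _ (fun a b h => Pi.mulSingle_injective (M := fun _ : Fin m => N) i₀ h)).toEquiv).symm
  by_contra hA0
  have h1 := hmin B ⟨inferInstance, fun hB => by
    rw [hB, Subgroup.card_bot] at hcB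
    exact hA0 (Subgroup.card_eq_one.1 hcB.symm)⟩
  rw [hcB] at h1
  exact hA1 (Subgroup.eq_of_le_of_card_ge le_top (by rwa [Subgroup.card_top]))

/-- A non-trivial finite group G is characteristically simple (its only characteristic subgroups are 1 and G) if and only if G is isomorphic to a direct power S^n (n ≥ 1) of some simple group S (possibly cyclic of prime order). -/
theorem result {G : Type*} [Group G] [Finite G] [Nontrivial G] :
    (∀ H : Subgroup G, H.Characteristic → H = ⊥ ∨ H = ⊤) ↔
    ∃ (S : Type) (_ : Group S) (_ : IsSimpleGroup S) (n : ℕ), 1 ≤ n ∧ Nonempty (G ≃* (Fin n → S)) := by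
  constructor
  · intro h
    obtain ⟨N, n, hs, hn, ⟨e⟩⟩ := forward h
    let eq : N ≃ Carrier (Nat.card N) := Finite.equivFin N
    letI : Group (Carrier (Nat.card N)) := eq.symm.group
    let me : Carrier (Nat.card N) ≃* N := eq.symm.mulEquiv
    haveI := me.toEquiv.nontrivial
    refine ⟨Carrier (Nat.card N), inferInstance, IsSimpleGroup.isSimpleGroup_of_surjective me.symm.toMonoidHom me.symm.surjective,
      n, hn, ⟨e.trans (MulEquiv.piCongrRight fun _ => me.symm)⟩⟩
  · rintro ⟨S, _, _, n, -, ⟨e⟩⟩ H hH
    haveI : (H.map e.toMonoidHom).Characteristic := by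
      refine Subgroup.characteristic_iff_map_le.2 fun φ => ?_
      rintro _ ⟨_, ⟨y, hy, rfl⟩, rfl⟩
      refine ⟨(e.trans (φ.trans e.symm)) y, Subgroup.characteristic_iff_map_le.1 hH _ ⟨y, hy, rfl⟩, ?_⟩
      simp
    rcases backward (H.map e.toMonoidHom) with h | h
    · exact Or.inl ((Subgroup.map_eq_bot_iff_of_injective H e.injective).1 h)
    · refine Or.inr (Subgroup.map_injective e.injective (h.trans ?_))
      rw [Subgroup.map_top_of_surjective _ e.surjective]

end Cfsg.Agent.S5914
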