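import Cfsg.Statements.S5939
import Cfsg.Agent.Lib.Dickson.Targets

set_option autoImplicit false
open Cfsg

namespace Cfsg.Agent.S5939

/-- Let p be a prime and F a finite field of characteristic p such that either F has p elements and p ≡ ±1 (mod 10), or F has p² elements and p ≡ ±3 (mod 10). Then PSL_2(F) has a maximal subgroup isomorphic to the alternating group A_5. -/
theorem result {F : Type*} [Field F] [Fintype F] (p : ℕ) [Fact p.Prime] [CharP F p] (h : (Fintype.card F = p ∧ (p % 10 = 1 ∨ p % 10 = 9)) ∨ (Fintype.card F = p ^ 2 ∧ (p % 10 = 3 ∨ p % 10 = 7))) : ∃ H : Subgroup (Matrix.ProjectiveSpecialLinearGroup (Fin 2) F), IsCoatom H ∧ Nonempty (H ≃* alternatingGroup (Fin 5)) := by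
  classical
  haveI : Finite (Matrix.ProjectiveSpecialLinearGroup (Fin 2) F) := inferInstance
  have hp := (Fact.out : p.Prime)
  have hp3 : 3 ≤ p := by have := hp.two_le; omega
  have hodd : Fintype.card F % 2 = 1 := by
    rcases h with ⟨hF, h'⟩ | ⟨hF, h'⟩ <;> rw [hF]
    · omega
    · rw [Nat.pow_mod]; rw [show p % 2 = 1 by omega]
  have h5 : 5 ∣ Fintype.card F * (Fintype.card F ^ 2 - 1) := by
    refine Dvd.dvd.mul_left ?_ _
    have hq : (Fintype.card F ^ 2) % 5 = 1 := by
      rcases h with ⟨hF, h'⟩ | ⟨hF, h'⟩ <;> rw [hF]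
      · rw [sq, Nat.mul_mod]
        rcases h' with e | e <;>
          [rw [show p % 5 = 1 by omega]; rw [show p % 5 = 4 by omega]]
      · rw [sq (p ^ 2), Nat.mul_mod, sq, Nat.mul_mod p p]
        rcases h' with e | e <;>
          [rw [show p % 5 = 3 by omega]; rw [show p % 5 = 2 by omega]]
    have := Nat.one_le_pow 2 (Fintype.card F) Fintype.card_pos
    omega
  obtain ⟨H₀, ⟨e₀⟩⟩ := Cfsg.Lib.Dickson.exists_alternating_five (Cfsg.Lib.Dickson.two_ne_zero_of_odd hodd)
    (Cfsg.Lib.Dickson.isSquare_five_of hodd h5)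
  have hc₀ := Cfsg.Lib.Dickson.card_target_five e₀
  have hnn := Cfsg.Lib.Dickson.noNormalCyclic_congr e₀ Cfsg.Lib.Dickson.noNormalCyclic_alternating_five
  have hne : H₀ ≠ ⊥ := by
    intro h; rw [h, Subgroup.card_bot] at hc₀; omega
  have hG := Cfsg.Lib.Linear.Two.card_PSL_two (F := F)
  rw [Nat.gcd_eq_left (show 2 ∣ Fintype.card F - 1 by omega)] at hG
  have hq9 : 9 ≤ Fintype.card F := by
    rcases h with ⟨hF, h'⟩ | ⟨hF, h'⟩ <;> rw [hF]
    · omega
    · have := Nat.pow_le_pow_left hp3 2; omega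
  have hbig := Nat.mul_le_mul hq9 (show 80 ≤ Fintype.card F ^ 2 - 1 by have := Nat.pow_le_pow_left hq9 2; omega)
  refine ⟨H₀, Cfsg.Lib.Dickson.isCoatom_of_overgroups ?_ ?_, ⟨e₀⟩⟩
  · intro h
    rw [h, Subgroup.card_top] at hc₀
    omega
  intro H hlt
  obtain ⟨hc, hd⟩ := Cfsg.Lib.Dickson.card_lt_of_lt hlt
  have hN : ∀ P : Sylow p (Matrix.ProjectiveSpecialLinearGroup (Fin 2) F), ¬ H₀ ≤ Subgroup.normalizer ((P : Subgroup (Matrix.ProjectiveSpecialLinearGroup (Fin 2) F)) : Set (Matrix.ProjectiveSpecialLinearGroup (Fin 2) F)) := by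
    by_cases hpd : p ∣ 60
    · refine Cfsg.Lib.Dickson.not_le_normalizer_of_sylow p (Cfsg.Lib.Dickson.sylow_not_normal_congr e₀ fun Q hQ => ?_)
      rcases IsSimpleGroup.eq_bot_or_eq_top_of_normal _ hQ with e | e
      · refine Q.ne_bot_of_dvd_card ?_ e
        rw [nat_card_alternatingGroup, Nat.card_fin]; exact hpd
      · have h1 := Q.not_dvd_index
        obtain ⟨k, hk⟩ := IsPGroup.iff_card.mp Q.2
        rw [e, Subgroup.card_top, nat_card_alternatingGroup, Nat.card_fin] at hk
        have hk' : (60 : ℕ) = p ^ k := hk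
        have h2 : (2 : ℕ) ∣ p ^ k := hk' ▸ (by norm_num)
        have h3 : (3 : ℕ) ∣ p ^ k := hk' ▸ (by norm_num)
        have e2 := (Nat.prime_dvd_prime_iff_eq Nat.prime_two hp).mp (Nat.prime_two.dvd_of_dvd_pow h2)
        have e3 := (Nat.prime_dvd_prime_iff_eq Nat.prime_three hp).mp (Nat.prime_three.dvd_of_dvd_pow h3)
        omega
    · exact Cfsg.Lib.Dickson.not_le_normalizer_of_coprime p hnn hne (by rw [hc₀]; exact hpd)
  rcases Cfsg.Lib.Dickson.overgroup_cases p hlt.le hnn hne hN with he | he | he | ⟨K, _, _, m, _, h3, hm, hiso⟩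
  · obtain ⟨e⟩ := he
    rw [hc₀, Cfsg.Lib.Dickson.card_target_four e] at hc; omega
  · obtain ⟨e⟩ := he
    rw [hc₀, Cfsg.Lib.Dickson.card_target_perm e] at hc; omega
  · obtain ⟨e⟩ := he
    rw [hc₀, Cfsg.Lib.Dickson.card_target_five e] at hc; omega
  · obtain ⟨l, -, hl⟩ := FiniteField.card K p
    rcases h with ⟨hF, h'⟩ | ⟨hF, h'⟩
    · rw [hF] at hm
      exact Cfsg.Lib.Dickson.eq_top_of_full ((Cfsg.Lib.Dickson.eq_of_pow_eq_prime hp (by omega) hm).trans hF.symm) hiso
    · rw [hF, hl, ← pow_mul] at hm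
      have hlm : (l : ℕ) * m = 2 := Nat.pow_right_injective hp.two_le hm
      have hl2 : (l : ℕ) = 1 ∨ (l : ℕ) = 2 := (Nat.dvd_prime Nat.prime_two).mp (Dvd.intro m hlm)
      rcases hl2 with e | e
      · exfalso
        rw [e, pow_one] at hl
        have h60 : 60 ∣ Nat.card H := hc₀ ▸ hd
        have h5p : 5 ∣ p * (p ^ 2 - 1) := by
          rcases hiso with ⟨⟨f⟩, hK⟩ | hf
          · have h2 := Cfsg.Lib.Dickson.card_psl_mul (K := K) hK
            rw [← Nat.card_congr f.toEquiv, hl] at h2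
            rw [← h2]
            exact Dvd.dvd.mul_left ((by norm_num : (5 : ℕ) ∣ 60).trans h60) _
          · obtain ⟨f⟩ := hf
            have h2 := Nat.card_congr f.toEquiv
            rw [Cfsg.Lib.Dickson.card_PGL_two_eq, hl] at h2
            rw [← h2]
            exact (by norm_num : (5 : ℕ) ∣ 60).trans h60
        rcases (show Nat.Prime 5 by norm_num).dvd_mul.mp h5p with h | h
        · have := (Nat.prime_dvd_prime_iff_eq (by norm_num) hp).mp h
          omega
        · have h1 : p ^ 2 % 5 = 1 := by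
            have : 1 ≤ p ^ 2 := Nat.one_le_pow _ _ (by omega)
            omega
          rw [sq, Nat.mul_mod] at h1
          rcases h' with e | e
          · rw [show p % 5 = 3 by omega] at h1; omega
          · rw [show p % 5 = 2 by omega] at h1; omega
      · exact Cfsg.Lib.Dickson.eq_top_of_full (by rw [hl, e, hF]) hiso

end Cfsg.Agent.S5939
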