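import Cfsg.Statements.S5940
import Cfsg.Agent.Lib.Dickson.Targets

set_option autoImplicit false
open Cfsg

namespace Cfsg.Agent.S5940

/-- Let p ≥ 5 be a prime with p ≡ ±3 (mod 8) and p ≢ ±1 (mod 10), and F a field with p elements. Then PSL_2(F) has a maximal subgroup isomorphic to the alternating group A_4. -/
theorem result {F : Type*} [Field F] [Fintype F] (p : ℕ) [Fact p.Prime] (hF : Fintype.card F = p) (h5 : 5 ≤ p) (h8 : p % 8 = 3 ∨ p % 8 = 5) (h10 : p % 10 ≠ 1 ∧ p % 10 ≠ 9) : ∃ H : Subgroup (Matrix.ProjectiveSpecialLinearGroup (Fin 2) F), IsCoatom H ∧ Nonempty (H ≃* alternatingGroup (Fin 4)) := by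
  classical
  haveI : CharP F p := charP_of_card_eq_prime hF
  have hodd : Fintype.card F % 2 = 1 := by omega
  obtain ⟨H₀, ⟨e₀⟩⟩ := Cfsg.Lib.Dickson.exists_alternating_four (Cfsg.Lib.Dickson.two_ne_zero_of_odd hodd)
  haveI : Finite (Matrix.ProjectiveSpecialLinearGroup (Fin 2) F) := inferInstance
  have hc₀ := Cfsg.Lib.Dickson.card_target_four e₀
  have hnn := Cfsg.Lib.Dickson.noNormalCyclic_congr e₀ Cfsg.Lib.Dickson.noNormalCyclic_alternating_four
  have hne : H₀ ≠ ⊥ := by
    intro h; rw [h, Subgroup.card_bot] at hc₀; omega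
  have hG := Cfsg.Lib.Linear.Two.card_PSL_two (F := F)
  rw [hF, Nat.gcd_eq_left (show 2 ∣ p - 1 by omega)] at hG
  have hbig := Nat.mul_le_mul h5 (show 24 ≤ p ^ 2 - 1 by have := Nat.pow_le_pow_left h5 2; omega)
  refine ⟨H₀, Cfsg.Lib.Dickson.isCoatom_of_overgroups ?_ ?_, ⟨e₀⟩⟩
  · intro h
    rw [h, Subgroup.card_top] at hc₀
    omega
  intro H hlt
  obtain ⟨hc, hd⟩ := Cfsg.Lib.Dickson.card_lt_of_lt hlt
  have hN : ∀ P : Sylow p (Matrix.ProjectiveSpecialLinearGroup (Fin 2) F), ¬ H₀ ≤ Subgroup.normalizer ((P : Subgroup (Matrix.ProjectiveSpecialLinearGroup (Fin 2) F)) : Set (Matrix.ProjectiveSpecialLinearGroup (Fin 2) F)) := by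
    refine Cfsg.Lib.Dickson.not_le_normalizer_of_coprime p hnn hne ?_
    rw [hc₀]
    intro h
    have := Nat.le_of_dvd (by norm_num) h
    interval_cases p <;> omega
  rcases Cfsg.Lib.Dickson.overgroup_cases p hlt.le hnn hne hN with he | he | he | ⟨K, _, _, m, -, h3, hm, hiso⟩
  · obtain ⟨e⟩ := he
    rw [hc₀, Cfsg.Lib.Dickson.card_target_four e] at hc; omega
  · obtain ⟨e⟩ := he
    have h16 := Cfsg.Lib.Dickson.sq_mod_sixteen_of_perm_four e
    rw [hF, sq, Nat.mul_mod] at h16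
    have : p % 16 < 16 := Nat.mod_lt _ (by norm_num)
    interval_cases hh : p % 16 <;> omega
  · obtain ⟨e⟩ := he
    have h5' := Cfsg.Lib.Dickson.five_dvd_of_alternating_five e
    rw [hF] at h5'
    have hp5 : p = 5 := by
      rcases (show Nat.Prime 5 by norm_num).dvd_mul.mp h5' with h | h
      · exact ((Nat.prime_dvd_prime_iff_eq (by norm_num) Fact.out).mp h).symm
      · exfalso
        have h1 : p ^ 2 % 5 = 1 := by
          have : 1 ≤ p ^ 2 := Nat.one_le_pow _ _ (by omega)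
          omega
        rw [sq, Nat.mul_mod] at h1
        have : p % 5 < 5 := Nat.mod_lt _ (by norm_num)
        interval_cases hh : p % 5 <;> omega
    refine Subgroup.eq_top_of_card_eq H ?_
    rw [Cfsg.Lib.Dickson.card_target_five e]
    subst hp5
    simp only [Nat.reducePow, Nat.reduceSub, Nat.reduceMul] at hG
    omega
  · rw [hF] at hm
    exact Cfsg.Lib.Dickson.eq_top_of_full ((Cfsg.Lib.Dickson.eq_of_pow_eq_prime Fact.out (by omega) hm).trans hF.symm) hiso

end Cfsg.Agent.S5940
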