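import Cfsg.Statements.S5941
import Cfsg.Agent.Lib.Dickson.Targets

set_option autoImplicit false
open Cfsg

namespace Cfsg.Agent.S5941

/-- Let K and F be finite fields of odd characteristic with #F = (#K)². Then PSL_2(F) has a maximal subgroup isomorphic to PGL_2(K). -/
theorem result {F K : Type*} [Field F] [Fintype F] [Field K] [Fintype K] (q : ℕ) (hK : Fintype.card K = q) (hF : Fintype.card F = q ^ 2) (hq : Odd q) : ∃ H : Subgroup (Matrix.ProjectiveSpecialLinearGroup (Fin 2) F), IsCoatom H ∧ Nonempty (H ≃* Matrix.ProjGenLinGroup (Fin 2) K) := by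
  classical
  obtain ⟨p, hpp, hp, n, hn0, hn⟩ := Cfsg.Lib.Dickson.exists_char (F := F)
  haveI := Fact.mk hpp
  haveI : Finite (Matrix.ProjectiveSpecialLinearGroup (Fin 2) F) := inferInstance
  haveI : Finite (Matrix.ProjectiveSpecialLinearGroup (Fin 2) K) := inferInstance
  have hKF : Fintype.card K ^ 2 = Fintype.card F := by rw [hK, hF]
  obtain ⟨ι⟩ := Cfsg.Lib.Dickson.nonempty_ringHom hKF
  haveI : CharP K p := (RingHom.charP_iff ι ι.injective p).mpr hp
  obtain ⟨e, -, he⟩ := FiniteField.card K p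
  rw [hK] at he
  have hq2 : 2 ≤ q := hK ▸ Cfsg.Lib.Dickson.two_le_card
  have hG := Cfsg.Lib.Linear.Two.card_PSL_two (F := F)
  have hFodd : Fintype.card F % 2 = 1 := by
    rw [hF, Nat.pow_mod, Nat.odd_iff.mp hq]
  rw [Nat.gcd_eq_left (show 2 ∣ Fintype.card F - 1 by omega)] at hG
  obtain ⟨H₀, ⟨e₀⟩⟩ := Cfsg.Lib.Dickson.exists_pgl_subgroup hKF even_two hFodd
  have hc₀ : Nat.card H₀ = q * (q ^ 2 - 1) := by
    rw [Nat.card_congr e₀.toEquiv, Cfsg.Lib.Dickson.card_PGL_two_eq, hK]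
  haveI : Finite (Matrix.ProjGenLinGroup (Fin 2) K) := Finite.of_surjective _ Matrix.ProjGenLinGroup.mk_surjective
  have hsz := Cfsg.Lib.Dickson.two_mul_lt_of_sq_le hq2 (le_refl (q ^ 2))
  have hne : H₀ ≠ ⊥ := by
    intro h
    rw [h, Subgroup.card_bot] at hc₀
    have h3 : 3 ≤ q ^ 2 - 1 := by have := Nat.pow_le_pow_left hq2 2; omega
    have := Nat.mul_le_mul hq2 h3
    omega
  refine ⟨H₀, Cfsg.Lib.Dickson.isCoatom_of_overgroups ?_ ?_, ⟨e₀⟩⟩
  · intro h
    rw [h, Subgroup.card_top] at hc₀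
    rw [hc₀, hF] at hG
    omega
  intro H hlt
  obtain ⟨hc, hd⟩ := Cfsg.Lib.Dickson.card_lt_of_lt hlt
  have hN : ∀ P : Sylow p (Matrix.ProjectiveSpecialLinearGroup (Fin 2) F), ¬ H₀ ≤ Subgroup.normalizer ((P : Subgroup (Matrix.ProjectiveSpecialLinearGroup (Fin 2) F)) : Set (Matrix.ProjectiveSpecialLinearGroup (Fin 2) F)) :=
    Cfsg.Lib.Dickson.not_le_normalizer_of_sylow p
      (Cfsg.Lib.Dickson.sylow_not_normal_congr e₀ (Cfsg.Lib.Dickson.sylow_not_normal_pgl p))
  have h24 : 24 ≤ q * (q ^ 2 - 1) := by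
    have h3 : 3 ≤ q := by have := Nat.odd_iff.mp hq; omega
    have h8 : 8 ≤ q ^ 2 - 1 := by have := Nat.pow_le_pow_left h3 2; omega
    exact Nat.mul_le_mul h3 h8
  rcases Cfsg.Lib.Dickson.psl_subgroup_cases p H with ⟨k, -, hH⟩ | ⟨-, P, hP⟩ | ⟨-, hcase⟩
  · exfalso
    -- the subgroup contains two different Sylow subgroups of defining characteristic, so it is not cyclic or dihedral
    obtain ⟨Q⟩ : Nonempty (Sylow p H₀) := inferInstance
    refine Cfsg.Lib.Dickson.not_le_cyclic_or_dihedral hlt.le ?_ hne (hH.imp And.left id)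
    exact Cfsg.Lib.Dickson.noNormalCyclic_congr e₀ (Cfsg.Lib.Dickson.noNormalCyclic_pgl p (K := K) (by rw [hK]; have := Nat.odd_iff.mp hq; omega))
  · exact absurd (hlt.le.trans hP) (hN P)
  rcases hcase with he' | he' | he' | ⟨L, _, _, m, _, h3, hm, hiso⟩
  · obtain ⟨f⟩ := he'
    rw [hc₀, Cfsg.Lib.Dickson.card_target_four f] at hc; omega
  · obtain ⟨f⟩ := he'
    rw [hc₀, Cfsg.Lib.Dickson.card_target_perm f] at hc; omega
  · obtain ⟨f⟩ := he'
    rw [hc₀, Cfsg.Lib.Dickson.card_target_five f] at hc hd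
    have h60 := Nat.le_of_dvd (by norm_num) hd
    rcases Nat.lt_or_ge q 4 with h4 | h4
    · obtain rfl : q = 3 := by have := Nat.odd_iff.mp hq; omega
      norm_num at hd
    · have h5 : 5 ≤ q := by have := Nat.odd_iff.mp hq; omega
      have h24' : 24 ≤ q ^ 2 - 1 := by have := Nat.pow_le_pow_left h5 2; omega
      have := Nat.mul_le_mul h5 h24'
      omega
  · rcases Nat.lt_or_ge m 2 with hm2 | hm2
    · obtain rfl : m = 1 := by
        rcases Nat.eq_zero_or_pos m with rfl | h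
        · rw [pow_zero, hF] at hm
          have := Nat.le_self_pow two_ne_zero q
          omega
        · omega
      exact Cfsg.Lib.Dickson.eq_top_of_full (by rwa [pow_one] at hm) hiso
    · exfalso
      have hLq : Fintype.card L ≤ q := by
        refine Nat.le_of_not_lt fun hlt' => ?_
        have := (Nat.pow_lt_pow_left hlt' two_ne_zero).trans_le (Nat.pow_le_pow_right (by omega) hm2)
        rw [hm, hF] at this
        omega
      have hle : Fintype.card L * (Fintype.card L ^ 2 - 1) ≤ q * (q ^ 2 - 1) :=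
        Nat.mul_le_mul hLq (Nat.sub_le_sub_right (Nat.pow_le_pow_left hLq 2) 1)
      rcases hiso with ⟨⟨f⟩, hodd'⟩ | hf
      · have := Cfsg.Lib.Dickson.card_psl_mul (K := L) hodd'
        rw [← Nat.card_congr f.toEquiv] at this
        omega
      · obtain ⟨f⟩ := hf
        rw [Nat.card_congr f.toEquiv, Cfsg.Lib.Dickson.card_PGL_two_eq] at hc
        omega

end Cfsg.Agent.S5941
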