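import Cfsg.Statements.S5947

/-! Abelian subgroups of Singer order are Singer subgroups. -/

set_option autoImplicit false
open Cfsg Module

namespace Cfsg.Agent.S5947

theorem main {F K : Type*} [Field F] [Fintype F] [Field K] [Fintype K] [Algebra F K]
    (U : Subgroup (Module.End F K)ˣ) (hU : IsMulCommutative U) (hcard : Nat.card U = Fintype.card K - 1) :
    ∃ g : (Module.End F K)ˣ, U.map (MulAut.conj g).toMonoidHom =
      (Units.map ((Algebra.lmul F K : K →ₐ[F] Module.End F K) : K →* Module.End F K)).range := by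
  classical
  set Q := Fintype.card K with hQdef
  have hQ1 : 1 < Q := Fintype.one_lt_card
  haveI : Finite (Module.End F K) := Finite.of_injective (fun f : Module.End F K => (f : K → K)) DFunLike.coe_injective
  let T : Set (Module.End F K) := (fun u : (Module.End F K)ˣ => (u : Module.End F K)) '' (U : Set (Module.End F K)ˣ)
  let A := Algebra.adjoin F T
  have hUA : ∀ u ∈ U, (u : Module.End F K) ∈ A := fun u hu => Algebra.subset_adjoin ⟨u, hu, rfl⟩
  have hcommT : ∀ s ∈ T, ∀ t ∈ T, Commute s t := by
    rintro _ ⟨u, hu, rfl⟩ _ ⟨v, hv, rfl⟩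
    exact congrArg (fun w : U => ((w : (Module.End F K)ˣ) : Module.End F K)) (hU.is_comm.comm ⟨u, hu⟩ ⟨v, hv⟩)
  have hcomm : ∀ a ∈ A, ∀ b ∈ A, Commute a b := by
    intro a ha b hb
    have h1 : ∀ t ∈ T, Commute t a := fun t ht => by
      have := Algebra.adjoin_le (R := F) (s := T) (S := Subalgebra.centralizer F {t})
        (fun s hs => (Subalgebra.mem_centralizer_iff F).2 fun g hg => by
          rw [Set.mem_singleton_iff.1 hg]; exact hcommT t ht s hs) ha
      exact (Subalgebra.mem_centralizer_iff F).1 this t rfl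
    have := Algebra.adjoin_le (R := F) (s := T) (S := Subalgebra.centralizer F {a})
      (fun s hs => (Subalgebra.mem_centralizer_iff F).2 fun g hg => by
        rw [Set.mem_singleton_iff.1 hg]; exact (h1 s hs).symm) hb
    exact (Subalgebra.mem_centralizer_iff F).1 this a rfl
  obtain ⟨p, hp⟩ := CharP.exists K
  obtain ⟨m, hpr, hm⟩ := FiniteField.card K p
  haveI : Fact p.Prime := ⟨hpr⟩
  haveI : CharP (Module.End F K) p :=
    (RingHom.charP_iff ((Algebra.lmul F K : K →ₐ[F] Module.End F K) : K →+* Module.End F K)
      (fun a b h => by simpa using LinearMap.congr_fun h 1) p).1 hp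
  have hpow : ∀ a ∈ A, a ^ Q = a := by
    intro a ha
    induction ha using Algebra.adjoin_induction with
    | mem x hx =>
      obtain ⟨u, hu, rfl⟩ := hx
      have h : (⟨u, hu⟩ : U) ^ (Q - 1) = 1 := by rw [← hcard]; exact pow_card_eq_one'
      have h' : u ^ (Q - 1) = 1 := by simpa using congrArg Subtype.val h
      rw [show Q = (Q - 1) + 1 by omega, pow_succ, ← Units.val_pow_eq_pow_val, h', Units.val_one, one_mul]
    | algebraMap c =>
      rw [← map_pow]
      congr 1
      apply (algebraMap F K).injective
      rw [map_pow]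
      exact FiniteField.pow_card _
    | add x y hx hy ihx ihy =>
      rw [show Q = p ^ (m : ℕ) from hm] at ihx ihy ⊢
      rw [add_pow_char_pow_of_commute p _ (hcomm x hx y hy), ihx, ihy]
    | mul x y hx hy ihx ihy => rw [(hcomm x hx y hy).mul_pow, ihx, ihy]
  -- a vector with trivial annihilator
  obtain ⟨v, hv⟩ : ∃ v : K, ∀ a ∈ A, a v = 0 → a = 0 := by
    let f : K → ℕ := fun v => Nat.card {a : A // (a : Module.End F K) v = 0}
    obtain ⟨v, -, hmin⟩ := Finset.exists_min_image Finset.univ f Finset.univ_nonempty
    refine ⟨v, fun a ha hav => ?_⟩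
    by_contra ha0
    set e := a ^ (Q - 1) with he
    have heA : e ∈ A := A.pow_mem ha _
    have hae : a * e = a := by rw [he, ← pow_succ', show Q - 1 + 1 = Q by omega]; exact hpow a ha
    have hev : e v = 0 := by
      rw [he, show Q - 1 = Q - 2 + 1 by omega, pow_succ, Module.End.mul_apply, hav, map_zero]
    obtain ⟨w, hw⟩ : ∃ w, e w ≠ 0 := by
      by_contra hc
      push Not at hc
      exact ha0 (by rw [← hae, show e = 0 from LinearMap.ext hc, mul_zero])
    have hee : e * e = e := by
      conv_lhs => arg 1; rw [he, show Q - 1 = Q - 2 + 1 by omega, pow_succ]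
      rw [mul_assoc, hae, ← pow_succ, show Q - 2 + 1 = Q - 1 by omega]
    refine absurd (hmin (v + e w) (Finset.mem_univ _)) (not_le.2 ?_)
    have hsub : {b : A | (b : Module.End F K) (v + e w) = 0} ⊂ {b : A | (b : Module.End F K) v = 0} := by
      refine ⟨fun b hb => ?_, fun h => ?_⟩
      · have hb' : (b : Module.End F K) (v + e w) = 0 := hb
        have hc := hcomm e heA b b.2
        have h1 : (b : Module.End F K) (e w) = 0 := by
          have h2 := congrArg e hb'
          rw [map_zero, ← Module.End.mul_apply, hc.eq, Module.End.mul_apply, map_add, hev, zero_add,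
            ← Module.End.mul_apply e e, hee] at h2
          exact h2
        rw [map_add, h1, add_zero] at hb'
        exact hb'
      · have h1 : e (v + e w) = 0 := h (show (⟨e, heA⟩ : A) ∈ {b : A | (b : Module.End F K) v = 0} from hev)
        rw [map_add, hev, zero_add, ← Module.End.mul_apply, hee] at h1
        exact hw h1
    exact Set.ncard_lt_ncard hsub (Set.toFinite _)
  let ev : A →ₗ[F] K :=
    { toFun := fun a => (a : Module.End F K) v
      map_add' := fun a b => rfl
      map_smul' := fun c a => rfl }
  have hevinj : Function.Injective ev := by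
    intro a b h
    have h' : (a : Module.End F K) v = (b : Module.End F K) v := h
    exact Subtype.ext (sub_eq_zero.1 (hv _ (A.sub_mem a.2 b.2) (by rw [LinearMap.sub_apply, h', sub_self])))
  haveI : Fintype A := Fintype.ofFinite _
  -- every non-zero element is in `U`
  let j : U → {a : A // a ≠ 0} := fun u => ⟨⟨u.1, hUA u.1 u.2⟩, fun h => Units.ne_zero u.1 (congrArg Subtype.val h)⟩
  have hj : Function.Injective j := fun a b h =>
    Subtype.ext (Units.ext (congrArg (fun z : {a : A // a ≠ 0} => (z.1 : Module.End F K)) h))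
  have hA : Fintype.card A ≤ Q := Fintype.card_le_of_injective ev hevinj
  have hne : Fintype.card {a : A // a ≠ 0} = Fintype.card A - 1 := by simp
  have h1 := Nat.card_le_card_of_injective j hj
  rw [hcard, Nat.card_eq_fintype_card (α := {a : A // a ≠ 0}), hne] at h1
  have hAQ : Fintype.card A = Q := by omega
  have hjb : Function.Bijective j := (Nat.bijective_iff_injective_and_card j).2
    ⟨hj, by rw [hcard, Nat.card_eq_fintype_card, hne, hAQ]⟩
  letI : CommRing A := { A.toRing with mul_comm := fun a b => Subtype.ext (hcomm a a.2 b b.2) }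
  haveI : Nontrivial A := ⟨⟨0, 1, fun h => by
    have h2 := congrArg (fun z : A => (z : Module.End F K) 1) h
    exact zero_ne_one (h2 : (0 : K) = 1)⟩⟩
  have hfield : IsField A :=
    { exists_pair_ne := exists_pair_ne A
      mul_comm := mul_comm
      mul_inv_cancel := fun {a} ha => by
        obtain ⟨u, hu⟩ := hjb.2 ⟨a, ha⟩
        refine ⟨⟨((u⁻¹ : U) : (Module.End F K)ˣ), hUA _ (u⁻¹).2⟩, Subtype.ext ?_⟩
        have hua : ((u : (Module.End F K)ˣ) : Module.End F K) = (a : Module.End F K) :=
          congrArg (fun z : {a : A // a ≠ 0} => (z.1 : Module.End F K)) hu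
        show (a : Module.End F K) * (((u⁻¹ : U) : (Module.End F K)ˣ) : Module.End F K) = 1
        rw [← hua]
        exact Units.mul_inv (u : (Module.End F K)ˣ) }
  letI : Field A := hfield.toField
  haveI h2 := FiniteField.isSplittingField_sub A F
  rw [hAQ] at h2
  haveI h3 := FiniteField.isSplittingField_sub K F
  let ψ : A ≃ₐ[F] K := (Polynomial.IsSplittingField.algEquiv A (Polynomial.X ^ Q - Polynomial.X)).trans
    (Polynomial.IsSplittingField.algEquiv K (Polynomial.X ^ Q - Polynomial.X)).symm
  let evE : A ≃ₗ[F] K := LinearEquiv.ofBijective ev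
    ⟨hevinj, ((Fintype.bijective_iff_injective_and_card ev).2 ⟨hevinj, hAQ⟩).2⟩
  let g : K ≃ₗ[F] K := evE.symm.trans ψ.toLinearEquiv
  let gu : (Module.End F K)ˣ :=
    ⟨g, g.symm, LinearMap.ext g.apply_symm_apply, LinearMap.ext g.symm_apply_apply⟩
  refine ⟨gu, Subgroup.eq_of_le_of_card_ge ?_ ?_⟩
  · rintro _ ⟨u, hu, rfl⟩
    set a : A := ⟨u, hUA u hu⟩ with ha
    have ha0 : ψ a ≠ 0 := fun h => Units.ne_zero u (congrArg Subtype.val (ψ.injective (h.trans (map_zero ψ).symm)))
    refine ⟨Units.mk0 (ψ a) ha0, Units.ext (LinearMap.ext fun x => ?_)⟩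
    obtain ⟨b, rfl⟩ := ψ.surjective x
    show ψ a * ψ b = g ((u : Module.End F K) (g.symm (ψ b)))
    have hb : g.symm (ψ b) = ev b := by
      show evE (ψ.toLinearEquiv.symm (ψ b)) = ev b
      exact congrArg ev (ψ.symm_apply_apply b)
    rw [hb, show (u : Module.End F K) (ev b) = ev (a * b) from rfl, ← map_mul]
    show ψ (a * b) = ψ (evE.symm (evE (a * b)))
    rw [evE.symm_apply_apply]
  · rw [Nat.card_congr (Subgroup.equivMapOfInjective U _ (MulAut.conj gu).injective).toEquiv.symm, hcard]
    calc Nat.card (Units.map ((Algebra.lmul F K : K →ₐ[F] Module.End F K) : K →* Module.End F K)).range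
        ≤ Nat.card Kˣ := Nat.card_le_card_of_surjective _ (MonoidHom.rangeRestrict_surjective _)
      _ = Q - 1 := by rw [Nat.card_units, Nat.card_eq_fintype_card]

/-- Let F ⊆ K be finite fields with |F| = q and [K : F] = n ≥ 2, regard K as an n-dimensional F-vector space, and let M ≤ GL_F(K) be the Singer group of multiplications by non-zero elements of K (cyclic of order q^n − 1). Assume (n, q) ≠ (6, 2), and that it is not the case that n = 2 with q a prime such that q + 1 is a power of 2. Then every abelian subgroup of GL_F(K) of order q^n − 1 is conjugate to M. -/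
theorem result {F K : Type*} [Field F] [Fintype F] [Field K] [Fintype K] [Algebra F K] (n : ℕ) (hn : 2 ≤ n) (hdim : Module.finrank F K = n)
    (hex1 : ¬ (n = 6 ∧ Fintype.card F = 2))
    (hex2 : ¬ (n = 2 ∧ (Fintype.card F).Prime ∧ ∃ a : ℕ, Fintype.card F + 1 = 2 ^ a))
    (U : Subgroup (Module.End F K)ˣ) (hU : IsMulCommutative U) (hcard : Nat.card U = Fintype.card K - 1) :
    ∃ g : (Module.End F K)ˣ, U.map (MulAut.conj g).toMonoidHom = (Units.map ((Algebra.lmul F K : K →ₐ[F] Module.End F K) : K →* Module.End F K)).range := by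
  exact main U hU hcard

end Cfsg.Agent.S5947
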