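import Cfsg.Statements.S5949
import Cfsg.Agent.Lib.Linear.PrimeCriteria
import Cfsg.Agent.Lib.Linear.SubspaceCount
-- import your own Cfsg.Agent.* helpers here

set_option autoImplicit false
open scoped MatrixGroups
open Cfsg

namespace Cfsg.Agent.S5949

open Module
open Cfsg.Lib.Linear

/-- Elements of prime order of PSL_n(q) with no fixed `m`-space. Here `T = PSL_n(F)` for a field `F` with `q = p^f` elements (`n ≥ 2`, `(n, q) ≠ (2, 2), (2, 3)`); an element of `T` of prime order `r` is represented by a matrix `x` of determinant 1 with `x^r` scalar and `x` not scalar; `i` denotes the multiplicative order of `q` modulo `r` (when `r ≠ p`), and `(a)_r` the `r`-part of `a`. Let `1 ≤ m ≤ n/2` and let `r` be a prime dividing the number of `m`-dimensional subspaces of `F^n`. Then every element of `T` of order `r` fixes some `m`-dimensional subspace (the action on `m`-spaces is `r`-elusive) if and only if `r ≠ p` and either (i) `i = 1` and (`r ∣ m`, or `(q−1)_r ≥ (n)_r` where in addition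 `q ≡ 1 (mod 4)` is required when `r = 2` and `n` is even), or (ii) `2 ≤ i ≤ m` and `n mod i ≥ m mod i`. -/
theorem result {F : Type*} [Field F] [Fintype F] {p : ℕ} [Fact p.Prime] [CharP F p] {q : ℕ} (hq : Fintype.card F = q)
    (n m : ℕ) (hn : 2 ≤ n) (hT : (n, q) ≠ (2, 2) ∧ (n, q) ≠ (2, 3)) (hm : 1 ≤ m) (hmn : 2 * m ≤ n)
    (r : ℕ) [Fact r.Prime] (hrΩ : r ∣ Nat.card {W : Submodule F (Fin n → F) // Module.finrank F ↥W = m}) :
    (∀ x : Matrix.SpecialLinearGroup (Fin n) F,
      (∃ c : F, ((x ^ r : Matrix.SpecialLinearGroup (Fin n) F) : Matrix (Fin n) (Fin n) F) = c • (1 : Matrix (Fin n) (Fin n) F)) →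
      (∀ c : F, (x : Matrix (Fin n) (Fin n) F) ≠ c • (1 : Matrix (Fin n) (Fin n) F)) →
      ∃ W : Submodule F (Fin n → F), Module.finrank F ↥W = m ∧ W.map (Matrix.toLin' (x : Matrix (Fin n) (Fin n) F)) ≤ W) ↔
    (r ≠ p ∧
      ((orderOf (q : ZMod r) = 1 ∧ (r ∣ m ∨ (padicValNat r n ≤ padicValNat r (q - 1) ∧ (r = 2 → Even n → q % 4 = 1)))) ∨
       (2 ≤ orderOf (q : ZMod r) ∧ orderOf (q : ZMod r) ≤ m ∧ m % orderOf (q : ZMod r) ≤ n % orderOf (q : ZMod r)))) := by
  classical
  subst hq
  obtain ⟨hr⟩ := (inferInstance : Fact r.Prime)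
  obtain ⟨hp⟩ := (inferInstance : Fact p.Prime)
  have hn0 : n ≠ 0 := by omega
  have hfin : finrank F (Fin n → F) = n := Module.finrank_fin_fun F
  have hmod := SubCount.mod_lt_of_dvd_card (V := Fin n → F) (r := r) (m := m) (by omega) hrΩ
  rw [hfin] at hmod
  have hrp : r ≠ p := fun h => by
    obtain ⟨e, -, he⟩ := FiniteField.card F p
    exact SubCount.not_dvd_card (F := F) (V := Fin n → F) (p := r) (h ▸ (he ▸ dvd_pow_self p e.pos.ne'))
      (by omega) hrΩ
  have hrF : (r : F) ≠ 0 := fun h => hrp ((Nat.prime_dvd_prime_iff_eq hp hr).1 ((CharP.cast_eq_zero_iff F p r).1 h)).symm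
  have hrq : ¬ r ∣ Fintype.card F := fun h => by
    obtain ⟨e, -, he⟩ := FiniteField.card F p
    exact hrp ((Nat.prime_dvd_prime_iff_eq hr hp).1 (hr.dvd_of_dvd_pow (he ▸ h)))
  set e := orderOf (Fintype.card F : ZMod r) with he
  have he0 : 0 < e := PrimeCriteria.orderOf_pos_of_not_dvd hrq
  constructor
  · intro hall
    refine ⟨hrp, ?_⟩
    rcases Nat.lt_or_ge e 2 with h1 | h2
    · refine Or.inl ⟨by omega, ?_⟩
      by_contra hbad
      push Not at hbad
      obtain ⟨x, c, hxc, hns, hdim⟩ := PrimeCriteria.exists_bad (F := F) (r := r) hn0 (by omega)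
        (fun hv => by
          obtain ⟨h2, h3, h4⟩ := hbad.2 hv.1
          exact h4 (hv.2 h2 h3))
      obtain ⟨W, hW1, hW2⟩ := hall x ⟨c, by rw [Matrix.SpecialLinearGroup.coe_pow]; exact hxc⟩ hns
      exact hbad.1 (hW1 ▸ hdim W hW2)
    · refine Or.inr ⟨h2, ?_⟩
      have hem : e ≤ m ∨ m < e := le_or_gt e m
      have hen : e ≤ n := by
        by_contra h
        rw [Nat.mod_eq_of_lt (show n < e by omega)] at hmod
        omega
      obtain ⟨x, hx, hns, K, hK, hcong⟩ := PrimeCriteria.exists_small_fixed (F := F) (n := n) hrF hrq h2 hen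
      obtain ⟨W, hW1, hW2⟩ := hall x ⟨1, by rw [Matrix.SpecialLinearGroup.coe_pow, one_smul]; exact hx⟩ hns
      have h4 : finrank F ↥(W ⊓ K) ≤ n % e := (Submodule.finrank_mono inf_le_right).trans hK
      have h5 : m % e = finrank F ↥(W ⊓ K) % e := hW1 ▸ hcong W hW2
      have h6 : m % e ≤ n % e := h5 ▸ (Nat.mod_le _ _).trans h4
      refine ⟨?_, h6⟩
      by_contra h
      rw [Nat.mod_eq_of_lt (show m < e by omega)] at h6
      omega
  · rintro ⟨-, hcond⟩ x ⟨c, hx⟩ -
    rw [Matrix.SpecialLinearGroup.coe_pow] at hx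
    obtain ⟨ι, hι, f, hf, hform, hsum, hcase⟩ := PrimeCriteria.split_cases hn0 hrF x hx
    obtain ⟨P, -, hP1, hP2, -⟩ := PrimeForms.exists_parts hform hf
    obtain ⟨J, hJ⟩ : ∃ J : Finset ι, ∑ i ∈ J, (f i).natDegree = m := by
      rcases hcase with hd | ⟨he1, -, hd, hv⟩
      · refine PrimeForms.exists_one he0 hd (by omega) ?_
        rw [hsum]
        rcases hcond with ⟨he1, -⟩ | ⟨-, -, h⟩
        · rw [he1, Nat.mod_one]; omega
        · exact h
      · rcases hcond with ⟨-, hrm | hv'⟩ | ⟨h2, -⟩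
        · obtain ⟨j, hj⟩ := hrm
          have hk : j ≤ Fintype.card ι := by
            refine Nat.le_of_mul_le_mul_left (?_ : r * j ≤ r * Fintype.card ι) hr.pos
            rw [← hj]
            calc m ≤ n := by omega
              _ = r * Fintype.card ι := by
                rw [← hsum, Finset.sum_congr rfl fun i _ => hd i, Finset.sum_const, Finset.card_univ, smul_eq_mul, mul_comm]
          obtain ⟨J, -, hJ⟩ := Finset.exists_subset_card_eq (show j ≤ (Finset.univ : Finset ι).card from hk)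
          exact ⟨J, by rw [Finset.sum_congr rfl fun i _ => hd i, Finset.sum_const, smul_eq_mul, hJ, hj, mul_comm]⟩
        · exact absurd hv' hv
        · omega
    exact ⟨P J, (hP2 J).trans hJ, hP1 J⟩

end Cfsg.Agent.S5949
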