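import Cfsg.Statements.S5950
import Cfsg.Agent.Lib.Linear.PrimeCriteria
import Cfsg.Agent.Lib.Linear.SubspaceCount
import Cfsg.Agent.Lib.Linear.UnipotentClasses
-- import your own Cfsg.Agent.* helpers here

set_option autoImplicit false
open scoped MatrixGroups
open Cfsg

namespace Cfsg.Agent.S5950

open Module Polynomial
open Cfsg.Lib.Linear
open Cfsg.Lib

universe u

theorem exists_sub_of_le_map {α β : Type*} [DecidableEq β] (e : α → β) (s : Multiset α) :
    ∀ ν : Multiset β, ν ≤ s.map e → ∃ t ≤ s, t.map e = ν := by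
  induction s using Multiset.induction_on with
  | empty => intro ν h; exact ⟨0, le_rfl, (Multiset.le_zero.1 (by simpa using h)).symm⟩
  | cons a s ih =>
    intro ν h
    rw [Multiset.map_cons] at h
    by_cases ha : e a ∈ ν
    · obtain ⟨t, ht, he⟩ := ih (ν.erase (e a)) (Multiset.erase_le_iff_le_cons.2 h)
      exact ⟨a ::ₘ t, (Multiset.cons_le_cons_iff a).2 ht, by rw [Multiset.map_cons, he, Multiset.cons_erase ha]⟩
    · obtain ⟨t, ht, he⟩ := ih ν ((Multiset.le_cons_of_notMem ha).1 h)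
      exact ⟨t, ht.trans (Multiset.le_cons_self s a), he⟩

/-- The restriction of a unipotent matrix to an invariant subspace. -/
theorem restrict_form {F : Type u} [Field F] [Fintype F] {p n : ℕ} [Fact p.Prime] [CharP F p]
    {A : Matrix (Fin n) (Fin n) F} (hA : A ^ p = 1) (U : Submodule F (Fin n → F)) (hU : U.map (Matrix.toLin' A) ≤ U) :
    ∃ μ : Nat.Partition (finrank F U), (∀ a ∈ μ.parts, a ≤ p) ∧ ∃ (ι : Type u) (_ : Fintype ι) (e : ι → ℕ),
      (∀ i, 1 ≤ e i) ∧ (Finset.univ : Finset ι).val.map e = μ.parts ∧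
      ∃ Φ : U ≃ₗ[F] ∀ i, AdjoinRoot ((X - C (1 : F)) ^ e i),
        ∀ (v : U) (h : A.mulVec v ∈ U) i, Φ ⟨A.mulVec v, h⟩ i = AdjoinRoot.root _ * Φ v i := by
  rw [PrimeForms.inv_iff] at hU
  let φ : U ≃ₗ[F] (Fin (finrank F U) → F) := LinearEquiv.ofFinrankEq _ _ (by rw [Module.finrank_fin_fun])
  let T : U →ₗ[F] U := (Matrix.toLin' A).restrict hU
  let B := LinearMap.toMatrix' (φ.toLinearMap ∘ₗ T ∘ₗ φ.symm.toLinearMap)
  have hB : ∀ v : U, B.mulVec (φ v) = φ (T v) := fun v => by
    rw [← Matrix.toLin'_apply, Matrix.toLin'_toMatrix']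
    simp
  have hBk : ∀ k (v : U) (h : (A ^ k).mulVec v ∈ U), (B ^ k).mulVec (φ v) = φ ⟨(A ^ k).mulVec v, h⟩ := by
    intro k
    induction k with
    | zero =>
      intro v h
      rw [pow_zero, Matrix.one_mulVec]
      exact congrArg φ (Subtype.ext (by simp))
    | succ k ih =>
      intro v h
      have h1 : (A ^ k).mulVec (T v : Fin n → F) = (A ^ (k + 1)).mulVec v := by
        rw [pow_succ, ← Matrix.mulVec_mulVec]; rfl
      rw [pow_succ, ← Matrix.mulVec_mulVec, hB, ih (T v) (h1 ▸ h)]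
      exact congrArg φ (Subtype.ext h1)
  have hBp : B ^ p = 1 := by
    apply Matrix.toLin'.injective
    refine LinearMap.ext fun w => ?_
    obtain ⟨v, rfl⟩ := φ.surjective w
    rw [Matrix.toLin'_apply, hBk p v (by rw [hA, Matrix.one_mulVec]; exact v.2), Matrix.toLin'_one, LinearMap.id_apply]
    exact congrArg φ (Subtype.ext (by simp [hA]))
  have hB0 : (B - 1) ^ p = 0 := by
    have := (Cfsg.Agent.Lib.Linear.UnipotentClasses.pow_eq_one_iff (p := p) B 1).1 (by rwa [pow_one])
    rwa [pow_one] at this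
  obtain ⟨μ, hμ, ι, hι, e, he, hmap, Ψ, hΨ⟩ := Cfsg.Agent.Lib.Linear.UnipotentClasses.exists_type p hB0
  refine ⟨μ, hμ, ι, hι, e, he, hmap, φ.trans Ψ, fun v h i => ?_⟩
  have h2 := hΨ (φ v) i
  rw [hB] at h2
  exact h2

/-- A complement pair splits the Jordan type. -/
theorem split_type {F : Type u} [Field F] [Fintype F] {p n : ℕ} [Fact p.Prime] [CharP F p]
    {A : Matrix (Fin n) (Fin n) F} (hA : A ^ p = 1) {κ : Type u} [Fintype κ] {d : κ → ℕ} (hd : ∀ i, 1 ≤ d i)
    (hform : CanonicalForm.HasForm A fun i => (X - C (1 : F)) ^ d i) {U W : Submodule F (Fin n → F)} (hc : IsCompl U W)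
    (hU : U.map (Matrix.toLin' A) ≤ U) (hW : W.map (Matrix.toLin' A) ≤ W) :
    ∃ ν : Multiset ℕ, ν ≤ (Finset.univ : Finset κ).val.map d ∧ ν.sum = finrank F U := by
  obtain ⟨μ1, -, ι1, hι1, e1, he1, hm1, Φ1, hΦ1⟩ := restrict_form (p := p) hA U hU
  obtain ⟨μ2, -, ι2, hι2, e2, he2, hm2, Φ2, hΦ2⟩ := restrict_form (p := p) hA W hW
  rw [PrimeForms.inv_iff] at hU hW
  let f : ι1 ⊕ ι2 → F[X] := fun s => (X - C (1 : F)) ^ Sum.elim e1 e2 s
  let Ψ : (Fin n → F) ≃ₗ[F] ∀ s, AdjoinRoot (f s) :=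
    (Submodule.prodEquivOfIsCompl U W hc).symm.trans ((Φ1.prodCongr Φ2).trans
      (LinearEquiv.sumPiEquivProdPi F ι1 ι2 (fun s => AdjoinRoot (f s))).symm)
  have hform' : CanonicalForm.HasForm A f := by
    refine ⟨Ψ, fun v s => ?_⟩
    obtain ⟨⟨a, b⟩, rfl⟩ := (Submodule.prodEquivOfIsCompl U W hc).surjective v
    have h1 : A.mulVec (Submodule.prodEquivOfIsCompl U W hc (a, b)) =
        Submodule.prodEquivOfIsCompl U W hc (⟨A.mulVec a, hU _ a.2⟩, ⟨A.mulVec b, hW _ b.2⟩) := by
      simp [Submodule.coe_prodEquivOfIsCompl', Matrix.mulVec_add]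
    rw [h1]
    simp only [Ψ, LinearEquiv.trans_apply, LinearEquiv.symm_apply_apply]
    rcases s with i | i
    · exact hΦ1 a _ i
    · exact hΦ2 b _ i
  have hsum := CanonicalForm.map_eq_of_hasForm (Cfsg.Agent.Lib.Linear.UnipotentClasses.monic_Y)
    (Cfsg.Agent.Lib.Linear.UnipotentClasses.natDegree_Y) (e := d) (d := Sum.elim e1 e2) hd
    (fun s => by rcases s with i | i; exacts [he1 i, he2 i]) hform hform'
  refine ⟨μ1.parts, ?_, μ1.parts_sum⟩
  rw [hsum, ← hm1, show (Finset.univ : Finset (ι1 ⊕ ι2)).val = (Finset.univ : Finset ι1).val.disjSum (Finset.univ : Finset ι2).val from rfl,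
    Multiset.map_disjSum]
  exact Multiset.le_add_right _ _

/-- The unipotent case. -/
theorem unipotent_case {F : Type u} [Field F] [Fintype F] {p n m : ℕ} [Fact p.Prime] [CharP F p] (hn : 1 ≤ n) (hmn : m ≤ n) :
    ((∀ x : Matrix.SpecialLinearGroup (Fin n) F,
      (∃ c : F, ((x ^ p : Matrix.SpecialLinearGroup (Fin n) F) : Matrix (Fin n) (Fin n) F) = c • (1 : Matrix (Fin n) (Fin n) F)) →
      (∀ c : F, (x : Matrix (Fin n) (Fin n) F) ≠ c • (1 : Matrix (Fin n) (Fin n) F)) →
      ∃ U W : Submodule F (Fin n → F), IsCompl U W ∧ finrank F ↥U = m ∧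
        U.map (Matrix.toLin' (x : Matrix (Fin n) (Fin n) F)) ≤ U ∧ W.map (Matrix.toLin' (x : Matrix (Fin n) (Fin n) F)) ≤ W)) ↔
      ∀ μ : Multiset ℕ, (∀ a ∈ μ, 0 < a ∧ a ≤ p) → μ.sum = n → ∃ ν : Multiset ℕ, ν ≤ μ ∧ ν.sum = m := by
  classical
  have hp := (Fact.out : p.Prime)
  haveI : NeZero n := ⟨by omega⟩
  constructor
  · intro hall μ hμ hsum
    by_contra hno
    obtain ⟨g, hg, ι, hι, e, he, hmap, hform⟩ := Cfsg.Agent.Lib.Linear.UnipotentClasses.exists_GL_of_type (F := F) p
      (⟨μ, fun {i} hi => (hμ i hi).1, hsum⟩ : Nat.Partition n) fun a ha => (hμ a ha).2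
    have hgp : (g : Matrix (Fin n) (Fin n) F) ^ p = 1 := by
      have := (Cfsg.Agent.Lib.Linear.UnipotentClasses.pow_eq_one_iff (p := p) (g : Matrix (Fin n) (Fin n) F) 1).2 (by rwa [pow_one])
      rwa [pow_one] at this
    have hdet : (g : Matrix (Fin n) (Fin n) F).det = 1 := by
      have h := congrArg Matrix.det hgp
      rw [Matrix.det_pow, Matrix.det_one] at h
      exact frobenius_inj F p (by simpa [frobenius_def] using h)
    have hns : ∀ z : F, (g : Matrix (Fin n) (Fin n) F) ≠ z • 1 := fun z hz => by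
      have hz1 : z = 1 := by
        have h := hgp
        rw [hz, _root_.smul_pow, one_pow] at h
        have h' := congrFun (congrFun h 0) 0
        simp at h'
        exact frobenius_inj F p (by simpa [frobenius_def] using h')
      have h1 := (hform.aeval_eq_zero_iff ((X - C (1 : F)) ^ 1)).1 (by
        rw [Cfsg.Agent.Lib.Linear.UnipotentClasses.aeval_Y, pow_one, hz, hz1, one_smul, sub_self])
      have he1 : ∀ i, e i = 1 := fun i => le_antisymm
        ((pow_dvd_pow_iff (X_sub_C_ne_zero 1) (not_isUnit_X_sub_C 1)).1 (h1 i)) (he i)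
      have hμ1 : μ = Multiset.replicate n 1 := by
        have h2 : μ = Multiset.replicate (Multiset.card μ) 1 := Multiset.eq_replicate_card.2 fun a ha => by
          rw [← show (Finset.univ : Finset ι).val.map e = μ from hmap, Multiset.mem_map] at ha
          obtain ⟨i, -, rfl⟩ := ha
          exact he1 i
        rw [h2, Multiset.sum_replicate, smul_eq_mul, mul_one] at hsum
        rw [h2, hsum]
      exact hno ⟨Multiset.replicate m 1, hμ1 ▸ (Multiset.replicate_le_replicate 1).2 hmn, by simp⟩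
    let x : Matrix.SpecialLinearGroup (Fin n) F := ⟨_, hdet⟩
    obtain ⟨U, W, hc, hUm, hU, hW⟩ := hall x ⟨1, by rw [Matrix.SpecialLinearGroup.coe_pow, one_smul]; exact hgp⟩ hns
    obtain ⟨ν, hν, hνs⟩ := split_type hgp he hform hc hU hW
    exact hno ⟨ν, hν.trans_eq hmap, hνs.trans hUm⟩
  · intro hcond x hx _
    obtain ⟨c, hc⟩ := hx
    rw [Matrix.SpecialLinearGroup.coe_pow] at hc
    obtain ⟨d, hd⟩ := (frobeniusEquiv F p).surjective c
    rw [frobeniusEquiv_apply, frobenius_def] at hd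
    have hd0 : d ≠ 0 := fun h => by
      have := congrArg Matrix.det hc
      rw [Matrix.det_pow, x.2, one_pow, ← hd, h, zero_pow hp.ne_zero, zero_smul, Matrix.det_zero] at this
      exact one_ne_zero this
    set A := d⁻¹ • (x : Matrix (Fin n) (Fin n) F)
    have hA : (A - 1) ^ p = 0 := by
      have := (Cfsg.Agent.Lib.Linear.UnipotentClasses.pow_eq_one_iff (p := p) A 1).1 (by
        rw [pow_one, _root_.smul_pow, hc, ← hd, smul_smul, inv_pow, inv_mul_cancel₀ (pow_ne_zero _ hd0), one_smul])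
      rwa [pow_one] at this
    obtain ⟨μ, hμ, ι, hι, e, he, hmap, hform⟩ := Cfsg.Agent.Lib.Linear.UnipotentClasses.exists_type p hA
    obtain ⟨ν, hν, hνs⟩ := hcond μ.parts (fun a ha => ⟨μ.parts_pos ha, hμ a ha⟩) μ.parts_sum
    obtain ⟨t, ht, hte⟩ := exists_sub_of_le_map e _ ν (hν.trans_eq hmap.symm)
    obtain ⟨P, -, hP1, hP2, hP3⟩ := PrimeForms.exists_parts hform
      fun i => Cfsg.Agent.Lib.Linear.UnipotentClasses.monic_Y.pow _
    let J : Finset ι := ⟨t, Multiset.nodup_of_le ht Finset.univ.nodup⟩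
    have hinv : ∀ S : Submodule F (Fin n → F), S.map (Matrix.toLin' A) ≤ S →
        S.map (Matrix.toLin' (x : Matrix (Fin n) (Fin n) F)) ≤ S := by
      intro S hS
      rw [PrimeForms.inv_iff] at hS ⊢
      intro v hv
      have := S.smul_mem d (hS v hv)
      rwa [Matrix.smul_mulVec, smul_smul, mul_inv_cancel₀ hd0, one_smul] at this
    refine ⟨P J, P Jᶜ, hP3 J, ?_, hinv _ (hP1 _), hinv _ (hP1 _)⟩
    rw [hP2, ← hνs, ← hte]
    show (t.map fun i => ((X - C (1 : F)) ^ e i).natDegree).sum = (t.map e).sum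
    refine congrArg _ (Multiset.map_congr rfl fun i _ => ?_)
    rw [Cfsg.Agent.Lib.Linear.UnipotentClasses.monic_Y.natDegree_pow, Cfsg.Agent.Lib.Linear.UnipotentClasses.natDegree_Y, mul_one]

/-- Elements of prime order of PSL_n(q) fixing no decomposition `F^n = U ⊕ W` with `dim U = m`. Here `T = PSL_n(F)` for a field `F` with `q = p^f` elements (`n ≥ 2`, `(n, q) ≠ (2, 2), (2, 3)`); an element of `T` of prime order `r` is represented by a matrix `x` of determinant 1 with `x^r` scalar and `x` not scalar; `i` denotes the multiplicative order of `q` modulo `r` (when `r ≠ p`), and `(a)_r` the `r`-part of `a`. Let `n ≥ 3`, `1 ≤ m < n/2`, and let `r` be a prime dividing the number of such decompositions (unordered pairs `{U, W}` of complementary subspaces with `dim U = m`; since `m ≠ n − m` these are the ordered pairs with `dim U = m`). Then every element of `T` of order `r` fixes such a pair (fixes both `U` and `W` for some complementary `U, W` with `dim U = m`) if and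 only if one of: (i) `r = p > 2` and every partition of `n` into parts of size at most `p` contains, as a sub-multiset, a partition of `m`; (ii) `r = p = 2` and `n` is odd or `m` is even; (iii) `r ≠ p`, `i = 1`, and `r ∣ m` or `(q−1)_r ≥ (n)_r` (with `q ≡ 1 (mod 4)` required when `r = 2` and `n` is even); (iv) `r ≠ p`, `2 ≤ i ≤ m` and `n mod i ≥ m mod i`. -/
theorem result {F : Type*} [Field F] [Fintype F] {p : ℕ} [Fact p.Prime] [CharP F p] {q : ℕ} (hq : Fintype.card F = q)
    (n m : ℕ) (hn : 3 ≤ n) (hm : 1 ≤ m) (hmn : 2 * m < n)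
    (r : ℕ) [Fact r.Prime]
    (hrΩ : r ∣ Nat.card {P : Submodule F (Fin n → F) × Submodule F (Fin n → F) // IsCompl P.1 P.2 ∧ Module.finrank F ↥P.1 = m}) :
    (∀ x : Matrix.SpecialLinearGroup (Fin n) F,
      (∃ c : F, ((x ^ r : Matrix.SpecialLinearGroup (Fin n) F) : Matrix (Fin n) (Fin n) F) = c • (1 : Matrix (Fin n) (Fin n) F)) →
      (∀ c : F, (x : Matrix (Fin n) (Fin n) F) ≠ c • (1 : Matrix (Fin n) (Fin n) F)) →
      ∃ U W : Submodule F (Fin n → F), IsCompl U W ∧ Module.finrank F ↥U = m ∧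
        U.map (Matrix.toLin' (x : Matrix (Fin n) (Fin n) F)) ≤ U ∧ W.map (Matrix.toLin' (x : Matrix (Fin n) (Fin n) F)) ≤ W) ↔
    ((r = p ∧ 2 < p ∧ (∀ μ : Multiset ℕ, (∀ a ∈ μ, 0 < a ∧ a ≤ p) → μ.sum = n → ∃ ν : Multiset ℕ, ν ≤ μ ∧ ν.sum = m)) ∨
     (r = p ∧ p = 2 ∧ (Odd n ∨ Even m)) ∨
     (r ≠ p ∧
      ((orderOf (q : ZMod r) = 1 ∧ (r ∣ m ∨ (padicValNat r n ≤ padicValNat r (q - 1) ∧ (r = 2 → Even n → q % 4 = 1)))) ∨
       (2 ≤ orderOf (q : ZMod r) ∧ orderOf (q : ZMod r) ≤ m ∧ m % orderOf (q : ZMod r) ≤ n % orderOf (q : ZMod r))))) := by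
  classical
  subst hq
  obtain ⟨hr⟩ := (inferInstance : Fact r.Prime)
  obtain ⟨hp⟩ := (inferInstance : Fact p.Prime)
  have hn0 : n ≠ 0 := by omega
  have hfin : finrank F (Fin n → F) = n := Module.finrank_fin_fun F
  by_cases hrp : r = p
  · subst hrp
    rw [unipotent_case (by omega) (by omega)]
    constructor
    · intro h
      rcases hr.eq_two_or_odd' with h2 | h2
      · refine Or.inr (Or.inl ⟨rfl, h2, ?_⟩)
        by_contra hne
        simp only [not_or, Nat.not_odd_iff_even, Nat.not_even_iff_odd] at hne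
        obtain ⟨⟨a, ha⟩, hmo⟩ := hne
        obtain ⟨ν, hν, hνs⟩ := h (Multiset.replicate a 2)
          (fun b hb => by rw [Multiset.eq_of_mem_replicate hb, h2]; omega)
          (by rw [Multiset.sum_replicate, smul_eq_mul]; omega)
        have h3 : ν = Multiset.replicate (Multiset.card ν) 2 :=
          Multiset.eq_replicate_card.2 fun b hb => Multiset.eq_of_mem_replicate (Multiset.mem_of_le hν hb)
        rw [h3, Multiset.sum_replicate, smul_eq_mul] at hνs
        obtain ⟨i, hi⟩ := hmo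
        omega
      · exact Or.inl ⟨rfl, hr.two_le.lt_of_ne fun h' => by rw [← h'] at h2; exact absurd h2 (by decide), h⟩
    · rintro (⟨-, -, h⟩ | ⟨-, h2, hpar⟩ | ⟨hne, -⟩)
      · exact h
      · intro μ hμ hsum
        let d : Fin μ.toList.length → ℕ := μ.toList.get
        have hdmap : (Finset.univ : Finset (Fin μ.toList.length)).val.map d = μ := by
          rw [Fin.univ_val_map, List.ofFn_get]; exact Multiset.coe_toList μ
        have hdsum : ∑ i, d i = n := by
          rw [← hsum]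
          conv_rhs => rw [← hdmap]
          rfl
        obtain ⟨J, hJ⟩ := PrimeForms.exists_one (d := d) (e := 2) (m := m) (by norm_num) (fun i => by
            have := hμ (d i) (Multiset.mem_toList.1 (List.get_mem _ _))
            omega) (by omega) (by
          rw [hdsum]
          rcases hpar with h | h
          · rw [Nat.odd_iff.1 h]; omega
          · rw [Nat.even_iff.1 h]; omega)
        exact ⟨J.val.map d, (Multiset.map_le_map (Finset.val_le_iff.2 (Finset.subset_univ J))).trans_eq hdmap, hJ⟩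
      · exact absurd rfl hne
  have hrF : (r : F) ≠ 0 := fun h => hrp ((Nat.prime_dvd_prime_iff_eq hp hr).1 ((CharP.cast_eq_zero_iff F p r).1 h)).symm
  have hrq : ¬ r ∣ Fintype.card F := fun h => by
    obtain ⟨e, -, he⟩ := FiniteField.card F p
    exact hrp ((Nat.prime_dvd_prime_iff_eq hr hp).1 (hr.dvd_of_dvd_pow (he ▸ h)))
  rw [SubCount.card_pairs, hr.dvd_mul] at hrΩ
  have hmod := SubCount.mod_lt_of_dvd_card (V := Fin n → F) (r := r) (m := m) (by omega)
    (hrΩ.resolve_right fun h => hrq (hr.dvd_of_dvd_pow h))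
  rw [hfin] at hmod
  set e := orderOf (Fintype.card F : ZMod r) with he
  have he0 : 0 < e := PrimeCriteria.orderOf_pos_of_not_dvd hrq
  constructor
  · intro hall
    refine Or.inr (Or.inr ⟨hrp, ?_⟩)
    rcases Nat.lt_or_ge e 2 with h1 | h2
    · refine Or.inl ⟨by omega, ?_⟩
      by_contra hbad
      push Not at hbad
      obtain ⟨x, c, hxc, hns, hdim⟩ := PrimeCriteria.exists_bad (F := F) (r := r) hn0 (by omega)
        (fun hv => by
          obtain ⟨h2, h3, h4⟩ := hbad.2 hv.1
          exact h4 (hv.2 h2 h3))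
      obtain ⟨U, W, -, hW1, hW2, -⟩ := hall x ⟨c, by rw [Matrix.SpecialLinearGroup.coe_pow]; exact hxc⟩ hns
      exact hbad.1 (hW1 ▸ hdim U hW2)
    · refine Or.inr ⟨h2, ?_⟩
      have hen : e ≤ n := by
        by_contra h
        rw [Nat.mod_eq_of_lt (show n < e by omega)] at hmod
        omega
      obtain ⟨x, hx, hns, K, hK, hcong⟩ := PrimeCriteria.exists_small_fixed (F := F) (n := n) hrF hrq h2 hen
      obtain ⟨U, W, -, hW1, hW2, -⟩ := hall x ⟨1, by rw [Matrix.SpecialLinearGroup.coe_pow, one_smul]; exact hx⟩ hns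
      have h4 : finrank F ↥(U ⊓ K) ≤ n % e := (Submodule.finrank_mono inf_le_right).trans hK
      have h5 : m % e = finrank F ↥(U ⊓ K) % e := hW1 ▸ hcong U hW2
      have h6 : m % e ≤ n % e := h5 ▸ (Nat.mod_le _ _).trans h4
      refine ⟨?_, h6⟩
      by_contra h
      rw [Nat.mod_eq_of_lt (show m < e by omega)] at h6
      omega
  · intro hdisj x hx0 _
    have hcond := (hdisj.resolve_left fun h => hrp h.1).resolve_left fun h => hrp h.1
    obtain ⟨c, hx⟩ := hx0
    rw [Matrix.SpecialLinearGroup.coe_pow] at hx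
    obtain ⟨ι, hι, f, hf, hform, hsum, hcase⟩ := PrimeCriteria.split_cases hn0 hrF x hx
    obtain ⟨P, -, hP1, hP2, hP3⟩ := PrimeForms.exists_parts hform hf
    obtain ⟨J, hJ⟩ : ∃ J : Finset ι, ∑ i ∈ J, (f i).natDegree = m := by
      rcases hcase with hd | ⟨he1, -, hd, hv⟩
      · refine PrimeForms.exists_one he0 hd (by omega) ?_
        rw [hsum]
        rcases hcond.2 with ⟨he1, -⟩ | ⟨-, -, h⟩
        · rw [he1, Nat.mod_one]; omega
        · exact h
      · rcases hcond.2 with ⟨-, hrm | hv'⟩ | ⟨h2, -⟩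
        · obtain ⟨j, hj⟩ := hrm
          have hk : j ≤ Fintype.card ι := by
            refine Nat.le_of_mul_le_mul_left (?_ : r * j ≤ r * Fintype.card ι) hr.pos
            rw [← hj]
            calc m ≤ n := by omega
              _ = r * Fintype.card ι := by
                rw [← hsum, Finset.sum_congr rfl fun i _ => hd i, Finset.sum_const, Finset.card_univ, smul_eq_mul, mul_comm]
          obtain ⟨J, -, hJ⟩ := Finset.exists_subset_card_eq (show j ≤ (Finset.univ : Finset ι).card from hk)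
          exact ⟨J, by rw [Finset.sum_congr rfl fun i _ => hd i, Finset.sum_const, smul_eq_mul, hJ, hj, mul_comm]⟩
        · exact absurd hv' hv
        · omega
    exact ⟨P J, P Jᶜ, hP3 J, (hP2 J).trans hJ, hP1 J, hP1 Jᶜ⟩

end Cfsg.Agent.S5950
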