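import Cfsg.Statements.S5951
import Cfsg.Agent.Lib.Linear.PrimeCriteria
import Cfsg.Agent.Lib.Linear.SubspaceCount
-- import your own Cfsg.Agent.* helpers here

set_option autoImplicit false
open scoped MatrixGroups
open Cfsg

namespace Cfsg.Agent.S5951

open Module Finset
open Cfsg.Lib.Linear

theorem mod_lt_sub {F : Type*} [Field F] [Fintype F] {V : Type*} [AddCommGroup V] [Module F V] [Finite V]
    {r : ℕ} [Fact r.Prime] {k : ℕ} (hk : k ≤ finrank F V)
    (hd : r ∣ Nat.card {W : Submodule F V // finrank F W = k}) :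
    finrank F V % orderOf (Fintype.card F : ZMod r) < finrank F V - k := by
  set N := finrank F V
  set G := Nat.card {W : Submodule F V // finrank F W = k}
  let P : ℕ → ℕ → ℕ := fun M j => ∏ i ∈ range j, (Fintype.card F ^ (M - i) - 1)
  have hG : G * P k k = P N k := SubCount.card_mul hk
  have hsplit : ∀ j, j ≤ N → P N N = P N j * P (N - j) (N - j) := by
    intro j hj
    have h := Finset.prod_range_add (fun i => Fintype.card F ^ (N - i) - 1) j (N - j)
    rw [Nat.add_sub_cancel' hj] at h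
    show ∏ i ∈ range N, (Fintype.card F ^ (N - i) - 1) = _
    rw [h]
    exact congrArg _ (Finset.prod_congr rfl fun i _ => by rw [Nat.sub_sub])
  have h1 : G * P (N - k) (N - k) * P k k = P N (N - k) * P k k := by
    rw [mul_right_comm, hG, ← hsplit k hk, hsplit (N - k) (Nat.sub_le _ _), Nat.sub_sub_self hk]
  have hpos : 0 < P k k := Finset.prod_pos fun i hi => by
    have h2 : 2 ≤ Fintype.card F ^ (k - i) :=
      Fintype.one_lt_card.trans_le (Nat.le_self_pow (by rw [Finset.mem_range] at hi; omega) _)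
    omega
  have h : r ∣ P N (N - k) := Nat.eq_of_mul_eq_mul_right hpos h1 ▸ hd.mul_right _
  obtain ⟨i, hi, hr⟩ := ((Fact.out : r.Prime).prime.dvd_finsetProd_iff _).1 h
  rw [Finset.mem_range] at hi
  have h1 : orderOf (Fintype.card F : ZMod r) ∣ N - i := by
    refine orderOf_dvd_of_pow_eq_one ?_
    have h2 := (ZMod.natCast_eq_zero_iff _ _).2 hr
    rwa [Nat.cast_sub (Nat.one_le_pow _ _ Fintype.card_pos), Nat.cast_pow, Nat.cast_one, sub_eq_zero] at h2
  obtain ⟨j, hj⟩ := h1
  rw [show N = i + orderOf (Fintype.card F : ZMod r) * j by omega, Nat.add_mul_mod_self_left]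
  exact lt_of_le_of_lt (Nat.mod_le _ _) (by omega)

/-- Elements of prime order of PSL_n(q) fixing no pair of subspaces `U < W` with `dim U = m`, `dim W = n − m`. Here `T = PSL_n(F)` for a field `F` with `q = p^f` elements (`n ≥ 2`, `(n, q) ≠ (2, 2), (2, 3)`); an element of `T` of prime order `r` is represented by a matrix `x` of determinant 1 with `x^r` scalar and `x` not scalar; `i` denotes the multiplicative order of `q` modulo `r` (when `r ≠ p`), and `(a)_r` the `r`-part of `a`. Let `1 ≤ m < n/2` and let `r` be a prime dividing the number of such pairs. Then every element of `T` of order `r` fixes such a pair (both `U` and `W`) if and only if `r ≠ p` and either (i) `i = 1` and (`r ∣ m`, or `(q−1)_r ≥ (n)_r` with `q ≡ 1 (mod 4)` required when `r = 2` and `n` is even), or (ii) `2 ≤ i ≤ m` and `n mod i ≥ 2 (m mod i)`. -/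
theorem result {F : Type*} [Field F] [Fintype F] {p : ℕ} [Fact p.Prime] [CharP F p] {q : ℕ} (hq : Fintype.card F = q)
    (n m : ℕ) (hn : 2 ≤ n) (hT : (n, q) ≠ (2, 2) ∧ (n, q) ≠ (2, 3)) (hm : 1 ≤ m) (hmn : 2 * m < n)
    (r : ℕ) [Fact r.Prime]
    (hrΩ : r ∣ Nat.card {P : Submodule F (Fin n → F) × Submodule F (Fin n → F) //
        P.1 ≤ P.2 ∧ Module.finrank F ↥P.1 = m ∧ Module.finrank F ↥P.2 = n - m}) :
    (∀ x : Matrix.SpecialLinearGroup (Fin n) F,
      (∃ c : F, ((x ^ r : Matrix.SpecialLinearGroup (Fin n) F) : Matrix (Fin n) (Fin n) F) = c • (1 : Matrix (Fin n) (Fin n) F)) →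
      (∀ c : F, (x : Matrix (Fin n) (Fin n) F) ≠ c • (1 : Matrix (Fin n) (Fin n) F)) →
      ∃ U W : Submodule F (Fin n → F), U ≤ W ∧ Module.finrank F ↥U = m ∧ Module.finrank F ↥W = n - m ∧
        U.map (Matrix.toLin' (x : Matrix (Fin n) (Fin n) F)) ≤ U ∧ W.map (Matrix.toLin' (x : Matrix (Fin n) (Fin n) F)) ≤ W) ↔
    (r ≠ p ∧
      ((orderOf (q : ZMod r) = 1 ∧ (r ∣ m ∨ (padicValNat r n ≤ padicValNat r (q - 1) ∧ (r = 2 → Even n → q % 4 = 1)))) ∨
       (2 ≤ orderOf (q : ZMod r) ∧ orderOf (q : ZMod r) ≤ m ∧ 2 * (m % orderOf (q : ZMod r)) ≤ n % orderOf (q : ZMod r)))) := by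
  classical
  subst hq
  obtain ⟨hr⟩ := (inferInstance : Fact r.Prime)
  obtain ⟨hp⟩ := (inferInstance : Fact p.Prime)
  have hn0 : n ≠ 0 := by omega
  have hfin : finrank F (Fin n → F) = n := Module.finrank_fin_fun F
  have hflag := SubCount.dvd_card_flags (F := F) (V := Fin n → F) (r := r) (m := m) (by omega) (by rwa [hfin])
  rw [hfin] at hflag
  have hq' : ∀ U : Submodule F (Fin n → F), finrank F U = m → finrank F ((Fin n → F) ⧸ U) = n - m := by
    intro U hU
    have h1 := Submodule.finrank_quotient_add_finrank U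
    rw [hfin, hU] at h1
    omega
  have hrp : r ≠ p := fun h => by
    obtain ⟨e, -, he⟩ := FiniteField.card F p
    have hrd : r ∣ Fintype.card F := h ▸ (he ▸ dvd_pow_self p e.pos.ne')
    rcases hflag with h1 | ⟨U, hU, h1⟩
    · exact SubCount.not_dvd_card (F := F) (V := Fin n → F) (p := r) hrd (by omega) h1
    · haveI : Finite ((Fin n → F) ⧸ U) := Quotient.finite _
      exact SubCount.not_dvd_card (F := F) (V := (Fin n → F) ⧸ U) (p := r) hrd (by rw [hq' U hU]; omega) h1
  have hrF : (r : F) ≠ 0 := fun h => hrp ((Nat.prime_dvd_prime_iff_eq hp hr).1 ((CharP.cast_eq_zero_iff F p r).1 h)).symm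
  have hrq : ¬ r ∣ Fintype.card F := fun h => by
    obtain ⟨e, -, he⟩ := FiniteField.card F p
    exact hrp ((Nat.prime_dvd_prime_iff_eq hr hp).1 (hr.dvd_of_dvd_pow (he ▸ h)))
  have hmod : n % orderOf (Fintype.card F : ZMod r) < 2 * m := by
    rcases hflag with h1 | ⟨U, hU, h1⟩
    · have h2 := SubCount.mod_lt_of_dvd_card (by omega) h1
      rw [hfin] at h2
      omega
    · haveI : Finite ((Fin n → F) ⧸ U) := Quotient.finite _
      have h2 := mod_lt_sub (by rw [hq' U hU]; omega) h1
      rw [hq' U hU] at h2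
      generalize orderOf (Fintype.card F : ZMod r) = e at h2 ⊢
      have h3 : n % e = (m + (n - m) % e) % e := by
        rw [Nat.add_mod_mod]; congr 1; omega
      rw [h3]
      exact (Nat.mod_le _ _).trans_lt (by omega)
  set e := orderOf (Fintype.card F : ZMod r) with he
  have he0 : 0 < e := PrimeCriteria.orderOf_pos_of_not_dvd hrq
  constructor
  · intro hall
    refine ⟨hrp, ?_⟩
    rcases Nat.lt_or_ge e 2 with h1 | h2
    · refine Or.inl ⟨by omega, ?_⟩
      by_contra hbad
      push Not at hbad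
      obtain ⟨x, c, hxc, hns, hdim⟩ := PrimeCriteria.exists_bad (F := F) (r := r) hn0 (by omega)
        (fun hv => by
          obtain ⟨h2, h3, h4⟩ := hbad.2 hv.1
          exact h4 (hv.2 h2 h3))
      obtain ⟨U, W, -, hU1, -, hU2, -⟩ := hall x ⟨c, by rw [Matrix.SpecialLinearGroup.coe_pow]; exact hxc⟩ hns
      exact hbad.1 (hU1 ▸ hdim U hU2)
    · refine Or.inr ⟨h2, ?_⟩
      have hen : e ≤ n := by
        by_contra h
        rw [Nat.mod_eq_of_lt (show n < e by omega)] at hmod
        omega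
      obtain ⟨x, hx, hns, K, hK, hcong⟩ := PrimeCriteria.exists_small_fixed (F := F) (n := n) hrF hrq h2 hen
      obtain ⟨U, W, hUW, hU1, hW1, hU2, hW2⟩ := hall x ⟨1, by rw [Matrix.SpecialLinearGroup.coe_pow, one_smul]; exact hx⟩ hns
      have hV : n ≡ finrank F ↥((⊤ : Submodule F (Fin n → F)) ⊓ K) [MOD e] := by
        simpa [finrank_top, Module.finrank_fin_fun] using hcong ⊤ le_top
      rw [top_inf_eq] at hV
      have hU3 : m % e ≤ finrank F ↥(U ⊓ K) := by
        rw [show m % e = finrank F ↥(U ⊓ K) % e from hU1 ▸ hcong U hU2]; exact Nat.mod_le _ _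
      have hW3 : n - m ≡ finrank F ↥(W ⊓ K) [MOD e] := hW1 ▸ hcong W hW2
      have hle : finrank F ↥(U ⊓ K) ≤ finrank F ↥(W ⊓ K) := Submodule.finrank_mono (inf_le_inf_right K hUW)
      have hle2 : finrank F ↥(W ⊓ K) ≤ finrank F K := Submodule.finrank_mono inf_le_right
      have h7 : m ≡ finrank F K - finrank F ↥(W ⊓ K) [MOD e] := by
        refine Nat.ModEq.add_left_cancel hW3 ?_
        rw [show n - m + m = n by omega, Nat.add_sub_cancel' hle2]
        exact hV
      have hW4 : m % e ≤ finrank F K - finrank F ↥(W ⊓ K) := by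
        rw [show m % e = (finrank F K - finrank F ↥(W ⊓ K)) % e from h7]; exact Nat.mod_le _ _
      rw [← he] at hK
      have h6 : 2 * (m % e) ≤ n % e := by omega
      refine ⟨?_, h6⟩
      by_contra h
      rw [Nat.mod_eq_of_lt (show m < e by omega)] at h6
      omega
  · rintro ⟨-, hcond⟩ x ⟨c, hx⟩ -
    rw [Matrix.SpecialLinearGroup.coe_pow] at hx
    obtain ⟨ι, hι, f, hf, hform, hsum, hcase⟩ := PrimeCriteria.split_cases hn0 hrF x hx
    obtain ⟨P, hmono, hP1, hP2, hP3⟩ := PrimeForms.exists_parts hform hf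
    obtain ⟨J, K, hJK, hJ, hK⟩ : ∃ J K : Finset ι, Disjoint J K ∧ ∑ i ∈ J, (f i).natDegree = m ∧ ∑ i ∈ K, (f i).natDegree = m := by
      rcases hcase with hd | ⟨he1, -, hd, hv⟩
      · refine PrimeForms.exists_pair he0 hd (by omega) ?_
        rw [hsum]
        rcases hcond with ⟨he1, -⟩ | ⟨-, -, h⟩
        · rw [he1, Nat.mod_one]; omega
        · exact h
      · rcases hcond with ⟨-, hrm | hv'⟩ | ⟨h2, -⟩
        · obtain ⟨j, hj⟩ := hrm
          have hk : 2 * j ≤ Fintype.card ι := by
            refine Nat.le_of_mul_le_mul_left (?_ : r * (2 * j) ≤ r * Fintype.card ι) hr.pos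
            rw [Nat.mul_left_comm, ← hj]
            calc 2 * m ≤ n := by omega
              _ = r * Fintype.card ι := by
                rw [← hsum, Finset.sum_congr rfl fun i _ => hd i, Finset.sum_const, Finset.card_univ, smul_eq_mul, mul_comm]
          obtain ⟨J, -, hJ⟩ := Finset.exists_subset_card_eq (show j ≤ (Finset.univ : Finset ι).card by rw [Finset.card_univ]; omega)
          obtain ⟨K, hK, hKc⟩ := Finset.exists_subset_card_eq (show j ≤ Jᶜ.card by rw [Finset.card_compl]; omega)
          exact ⟨J, K, (disjoint_compl_right).mono_right hK,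
            by rw [Finset.sum_congr rfl fun i _ => hd i, Finset.sum_const, smul_eq_mul, hJ, hj, mul_comm],
            by rw [Finset.sum_congr rfl fun i _ => hd i, Finset.sum_const, smul_eq_mul, hKc, hj, mul_comm]⟩
        · exact absurd hv' hv
        · omega
    refine ⟨P J, P Kᶜ, hmono (fun i hi => Finset.mem_compl.2 (Finset.disjoint_left.1 hJK hi)), (hP2 J).trans hJ, ?_, hP1 J, hP1 Kᶜ⟩
    have h1 := Submodule.finrank_add_eq_of_isCompl (hP3 K)
    rw [hfin, hP2 K, hK] at h1
    omega

end Cfsg.Agent.S5951
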