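import Cfsg.Statements.S5952


set_option autoImplicit false
open Cfsg

namespace Cfsg.Agent.S5952

variable {F V : Type*} [Field F] [AddCommGroup V] [Module F V]

theorem step [FiniteDimensional F V] (f : V →ₗ[F] V) (W P U : Submodule F V)
    (hW : W.map f ≤ W) (hP : P.map f ≤ P) (hU : U.map f ≤ U) (hd : Disjoint P U)
    (hirr : ∀ X : Submodule F V, X ≤ U → X.map f ≤ X → X = ⊥ ∨ X = U) :
    Module.finrank F ↥(W ⊓ (P ⊔ U)) = Module.finrank F ↥(W ⊓ P) ∨
      Module.finrank F ↥(W ⊓ (P ⊔ U)) = Module.finrank F ↥(W ⊓ P) + Module.finrank F ↥U := by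
  set A := W ⊓ (P ⊔ U)
  have h1 : A ⊓ P = W ⊓ P := by
    simp only [A, inf_assoc, inf_eq_right.2 (le_sup_left : P ≤ P ⊔ U)]
  have h2 : A ⊔ P = P ⊔ (W ⊔ P) ⊓ U := by
    calc A ⊔ P = P ⊔ W ⊓ (P ⊔ U) := sup_comm _ _
      _ = (P ⊔ W) ⊓ (P ⊔ U) := (sup_inf_assoc_of_le W le_sup_left).symm
      _ = (P ⊔ U) ⊓ (W ⊔ P) := by rw [inf_comm, sup_comm W P]
      _ = P ⊔ U ⊓ (W ⊔ P) := sup_inf_assoc_of_le U le_sup_right
      _ = P ⊔ (W ⊔ P) ⊓ U := by rw [inf_comm U]
  have hinv : ((W ⊔ P) ⊓ U).map f ≤ (W ⊔ P) ⊓ U :=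
    le_inf ((Submodule.map_mono inf_le_left).trans (by rw [Submodule.map_sup]; exact sup_le_sup hW hP))
      ((Submodule.map_mono inf_le_right).trans hU)
  have h3 := Submodule.finrank_sup_add_finrank_inf_eq A P
  rw [h1, h2] at h3
  rcases hirr _ inf_le_right hinv with h | h
  · rw [h, sup_bot_eq] at h3
    left; omega
  · rw [h] at h3
    have h4 := Submodule.finrank_sup_add_finrank_inf_eq P U
    rw [hd.eq_bot, finrank_bot] at h4
    right; omega

theorem span_part [FiniteDimensional F V] {s a : ℕ} (f : V →ₗ[F] V) (E : Submodule F V) (U : Fin s → Submodule F V)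
    (hE : E.map f ≤ E) (hUinv : ∀ j, (U j).map f ≤ U j)
    (hUdim : ∀ j, Module.finrank F ↥(U j) = a)
    (hind : iSupIndep (fun o : Option (Fin s) => o.elim E U))
    (hUirr : ∀ j, ∀ X : Submodule F V, X ≤ U j → X.map f ≤ X → X = ⊥ ∨ X = U j)
    (T : Finset (Fin s)) :
    (E ⊔ T.sup U).map f ≤ E ⊔ T.sup U ∧ Module.finrank F ↥(E ⊔ T.sup U) = Module.finrank F ↥E + T.card * a ∧
      ∀ W : Submodule F V, W.map f ≤ W → ∃ k, Module.finrank F ↥(W ⊓ (E ⊔ T.sup U)) = Module.finrank F ↥(W ⊓ E) + k * a := by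
  classical
  induction T using Finset.induction_on with
  | empty =>
    have h0 : E ⊔ (∅ : Finset (Fin s)).sup U = E := by simp
    rw [h0]
    exact ⟨hE, by simp, fun W _ => ⟨0, by simp⟩⟩
  | @insert j T hj ih =>
    obtain ⟨hP, hdim, hW⟩ := ih
    have heq : E ⊔ (insert j T).sup U = (E ⊔ T.sup U) ⊔ U j := by
      rw [Finset.sup_insert, sup_comm (U j), sup_assoc]
    have hd : Disjoint (E ⊔ T.sup U) (U j) := by
      refine Disjoint.symm ((hind (some j)).mono_right (sup_le ?_ (Finset.sup_le fun i hi => ?_)))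
      · exact le_iSup₂_of_le none (by simp) le_rfl
      · exact le_iSup₂_of_le (some i) (by simp; rintro rfl; exact hj hi) le_rfl
    rw [heq]
    refine ⟨?_, ?_, fun W hWi => ?_⟩
    · rw [Submodule.map_sup]; exact sup_le_sup hP (hUinv j)
    · have h4 := Submodule.finrank_sup_add_finrank_inf_eq (E ⊔ T.sup U) (U j)
      rw [hd.eq_bot, finrank_bot, hdim, hUdim] at h4
      rw [Finset.card_insert_of_notMem hj, add_mul, one_mul]
      omega
    · obtain ⟨k, hk⟩ := hW W hWi
      rcases step f W _ (U j) hWi hP (hUinv j) hd (hUirr j) with h | h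
      · exact ⟨k, h.trans hk⟩
      · exact ⟨k + 1, by rw [h, hk, hUdim, add_mul, one_mul]; omega⟩

/-- Which dimensions of invariant subspaces a semisimple linear map has. Let `V` be a finite-dimensional vector space over a field `F` and `f` an invertible semisimple linear map of `V`. Suppose `V` is the internal direct sum of the fixed space `C_V(f)` (the eigenspace for 1) and subspaces `U_1, …, U_s`, each `f`-invariant of dimension `a ≥ 1` on which `f` acts irreducibly (no `f`-invariant subspaces other than 0 and `U_j`). Let `0 < m < dim V` and `ℓ = m mod a`. Then `f` leaves some `m`-dimensional subspace invariant if and only if `dim C_V(f) ≥ m`, or `a ≤ m` and `dim C_V(f) ≥ ℓ`. -/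
theorem result {F V : Type*} [Field F] [AddCommGroup V] [Module F V]
    [FiniteDimensional F V] (f : V →ₗ[F] V) (hf : Function.Bijective f) (hss : Module.End.IsSemisimple f)
    {s a : ℕ} (ha : 1 ≤ a) (U : Fin s → Submodule F V)
    (hUinv : ∀ j, (U j).map f ≤ U j) (hUdim : ∀ j, Module.finrank F ↥(U j) = a)
    (hUirr : ∀ j, ∀ W : Submodule F V, W ≤ U j → W.map f ≤ W → W = ⊥ ∨ W = U j)
    (hdec : DirectSum.IsInternal (fun o : Option (Fin s) => o.elim (Module.End.eigenspace f 1) U))
    (m : ℕ) (hm : 0 < m) (hmV : m < Module.finrank F V) :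
    (∃ W : Submodule F V, Module.finrank F ↥W = m ∧ W.map f ≤ W) ↔
    (m ≤ Module.finrank F ↥(Module.End.eigenspace f 1) ∨
      (a ≤ m ∧ m % a ≤ Module.finrank F ↥(Module.End.eigenspace f 1))) := by
  classical
  set E := Module.End.eigenspace f 1
  obtain ⟨hind, htop⟩ := (DirectSum.isInternal_submodule_iff_iSupIndep_and_iSup_eq_top _).1 hdec
  have hEinv : ∀ X : Submodule F V, X ≤ E → X.map f ≤ X := by
    rintro X hX _ ⟨x, hx, rfl⟩
    have := Module.End.mem_eigenspace_iff.1 (hX hx)
    rw [one_smul] at this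
    rw [this]; exact hx
  have huniv : E ⊔ (Finset.univ : Finset (Fin s)).sup U = ⊤ := by
    rw [eq_top_iff, ← htop, iSup_le_iff]
    rintro (_ | j)
    · exact le_sup_left
    · exact le_trans (Finset.le_sup (f := U) (Finset.mem_univ j)) le_sup_right
  have hV : Module.finrank F V = Module.finrank F ↥E + s * a := by
    have := (span_part f E U (hEinv E le_rfl) hUinv hUdim hind hUirr Finset.univ).2.1
    rwa [huniv, finrank_top, Finset.card_univ, Fintype.card_fin] at this
  constructor
  · rintro ⟨W, hWd, hWi⟩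
    obtain ⟨k, hk⟩ := (span_part f E U (hEinv E le_rfl) hUinv hUdim hind hUirr Finset.univ).2.2 W hWi
    rw [huniv, inf_top_eq, hWd] at hk
    have hle : Module.finrank F ↥(W ⊓ E) ≤ Module.finrank F ↥E := Submodule.finrank_mono inf_le_right
    rcases Nat.eq_zero_or_pos k with rfl | hk0
    · left; rw [zero_mul, add_zero] at hk; omega
    · right
      refine ⟨?_, ?_⟩
      · have : a ≤ k * a := Nat.le_mul_of_pos_left a hk0
        omega
      · rw [hk, Nat.add_mul_mod_self_right]
        exact le_trans (Nat.mod_le _ _) hle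
  · intro hcond
    obtain ⟨k, hks, hka, hrest⟩ : ∃ k, k ≤ s ∧ k * a ≤ m ∧ m - k * a ≤ Module.finrank F ↥E := by
      rcases hcond with h | ⟨h1, h2⟩
      · exact ⟨0, Nat.zero_le _, by simp, by simpa using h⟩
      · by_cases hq : m / a ≤ s
        · refine ⟨m / a, hq, Nat.div_mul_le_self m a, ?_⟩
          have := Nat.div_add_mod m a
          rw [Nat.mul_comm] at this
          omega
        · refine ⟨s, le_rfl, ?_, by omega⟩
          have h3 := Nat.mul_le_mul_right a (le_of_lt (not_le.1 hq))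
          have := Nat.div_mul_le_self m a
          omega
    obtain ⟨T, -, hT⟩ := Finset.exists_subset_card_eq (s := (Finset.univ : Finset (Fin s))) (n := k) (by simpa using hks)
    obtain ⟨g, hg⟩ : ∃ g : Fin (m - k * a) → ↥E, LinearIndependent F g :=
      ⟨_, (Module.finBasis F ↥E).linearIndependent.comp (Fin.castLE hrest) (Fin.castLE_injective hrest)⟩
    set E' : Submodule F V := Submodule.span F (Set.range fun i => (g i : V))
    have hE' : E' ≤ E := Submodule.span_le.2 (by rintro _ ⟨i, rfl⟩; exact (g i).2)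
    have hdimE' : Module.finrank F ↥E' = m - k * a := by
      have hli : LinearIndependent F (fun i => (g i : V)) := hg.map' E.subtype (Submodule.ker_subtype E)
      rw [finrank_span_eq_card hli, Fintype.card_fin]
    have hind' : iSupIndep (fun o : Option (Fin s) => o.elim E' U) :=
      hind.mono (by rintro (_ | j) <;> simp [hE'])
    obtain ⟨h1, h2, -⟩ := span_part f E' U (hEinv E' hE') hUinv hUdim hind' hUirr T
    exact ⟨_, by rw [h2, hdimE', hT]; omega, h1⟩

end Cfsg.Agent.S5952
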