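import Cfsg.Statements.S5953
import Cfsg.Agent.Lib.Linear.IsotropicFix.Unitary
import Cfsg.Agent.Lib.Linear.IsotropicFix.UnitaryCW
import Cfsg.Agent.Lib.Linear.PrimeClasses.Count
-- import your own Cfsg.Agent.* helpers here

set_option autoImplicit false
open scoped MatrixGroups
open Cfsg

namespace Cfsg.Agent.S5953

open Module Polynomial Cfsg.Lib.Linear.Herm Cfsg.Lib.Linear.IsoFix Cfsg.Agent.Lib.Linear.PrimeClasses
open scoped Matrix

section Basic

variable {F : Type*} [Field F] [Fintype F] {q : ℕ}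

/-- The statement with a matrix in place of an element of `SL`. -/
def AllFix (hF : Fintype.card F = q ^ 2) (n m r : ℕ) : Prop :=
  ∀ M : Matrix (Fin n) (Fin n) F, IsU hF M → M.det = 1 → (∃ z : F, M ^ r = z • (1 : Matrix (Fin n) (Fin n) F)) →
    (∀ z : F, M ≠ z • (1 : Matrix (Fin n) (Fin n) F)) → FixesU hF m M

theorem bridge (hF : Fintype.card F = q ^ 2) (n m r : ℕ) :
    (∀ x : Matrix.SpecialLinearGroup (Fin n) F, x ∈ Cfsg.SU n F q →
      (∃ z : F, ((x ^ r : Matrix.SpecialLinearGroup (Fin n) F) : Matrix (Fin n) (Fin n) F) = z • (1 : Matrix (Fin n) (Fin n) F)) →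
      (∀ z : F, (x : Matrix (Fin n) (Fin n) F) ≠ z • (1 : Matrix (Fin n) (Fin n) F)) →
      ∃ W : Submodule F (Fin n → F), Module.finrank F ↥W = m ∧ (∀ u ∈ W, ∀ v ∈ W, Cfsg.hermForm n F q u v = 0) ∧
        W.map (Matrix.toLin' (x : Matrix (Fin n) (Fin n) F)) ≤ W) ↔ AllFix hF n m r := by
  constructor
  · intro h M hM hdet hz hns
    obtain ⟨W, h1, h2, h3⟩ := h ⟨M, hdet⟩ (fun u v => (isU_iff hF M).1 hM v u)
      (by obtain ⟨z, hz⟩ := hz; exact ⟨z, (Matrix.SpecialLinearGroup.coe_pow (⟨M, hdet⟩ : Matrix.SpecialLinearGroup (Fin n) F) r).trans hz⟩) hns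
    exact ⟨W, h1, fun u hu v hv => h2 v hv u hu, h3⟩
  · intro h x hx hz hns
    obtain ⟨W, h1, h2, h3⟩ := h x.1 ((isU_iff hF x.1).2 fun u v => hx v u) x.2
      (by obtain ⟨z, hz⟩ := hz; exact ⟨z, by rw [← Matrix.SpecialLinearGroup.coe_pow]; exact hz⟩) hns
    exact ⟨W, h1, fun u hu v hv => h2 v hv u hu, h3⟩

theorem fixes_scalar (hF : Fintype.card F = q ^ 2) {n m : ℕ} (hmn : 2 * m ≤ n) (z : F) :
    FixesU hF m (z • (1 : Matrix (Fin n) (Fin n) F)) := by
  obtain ⟨W, -, hW, hWi⟩ := exists_ti_in hF (⊤ : Submodule F (Fin n → F)) m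
    (by rw [finrank_top, finrank_fin_fun]; exact hmn)
  refine ⟨W, hW, hWi, ?_⟩
  rintro _ ⟨v, hv, rfl⟩
  rw [Matrix.toLin'_apply, Matrix.smul_mulVec, Matrix.one_mulVec]
  exact W.smul_mem _ hv

theorem fixes_smul (hF : Fintype.card F = q ^ 2) {n m : ℕ} {M : Matrix (Fin n) (Fin n) F} (a : F)
    (h : FixesU hF m M) : FixesU hF m (a • M) := by
  obtain ⟨W, h1, h2, h3⟩ := h
  refine ⟨W, h1, h2, ?_⟩
  rintro _ ⟨v, hv, rfl⟩
  rw [Matrix.toLin'_apply, Matrix.smul_mulVec]
  exact W.smul_mem _ (h3 ⟨v, hv, Matrix.toLin'_apply _ _⟩)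

theorem det_norm (hF : Fintype.card F = q ^ 2) {n : ℕ} {M : Matrix (Fin n) (Fin n) F} (hM : IsU hF M) :
    M.det ^ (q + 1) = 1 := by
  have h := congrArg Matrix.det (show adj hF M * M = 1 from hM)
  rw [Matrix.det_mul, Matrix.det_one, adj, Matrix.det_transpose,
    show (M.map (frob hF)).det = frob hF M.det from ((frob hF).map_det M).symm, frob_apply, ← pow_succ] at h
  exact h

theorem norm_of_scalar (hF : Fintype.card F = q ^ 2) {n : ℕ} (hn : 0 < n) {z : F}
    (hM : IsU hF (z • (1 : Matrix (Fin n) (Fin n) F))) : z ^ (q + 1) = 1 := by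
  have h := congrFun (congrFun (show adj hF (z • (1 : Matrix (Fin n) (Fin n) F)) * (z • 1) = 1 from hM) ⟨0, hn⟩) ⟨0, hn⟩
  rw [adj_smul, adj_one, smul_mul_smul_comm, one_mul, Matrix.smul_apply, Matrix.one_apply_eq, smul_eq_mul, mul_one,
    frob_apply, ← pow_succ] at h
  exact h

theorem isU_diagonal (hF : Fintype.card F = q ^ 2) {n : ℕ} {d : Fin n → F} (hd : ∀ l, d l ^ (q + 1) = 1) :
    IsU hF (Matrix.diagonal d) := by
  show adj hF (Matrix.diagonal d) * Matrix.diagonal d = 1
  rw [adj, Matrix.diagonal_map (map_zero _), Matrix.diagonal_transpose, Matrix.diagonal_mul_diagonal, ← Matrix.diagonal_one]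
  congr 1
  funext l
  simp only [Function.comp_apply, frob_apply hF, ← pow_succ, hd]

theorem exists_norm_one_order (hF : Fintype.card F = q ^ 2) {d : ℕ} (hd : d ∣ q + 1) :
    ∃ y : Fˣ, orderOf y = d ∧ (y : F) ^ (q + 1) = 1 := by
  obtain ⟨g, hg⟩ := IsCyclic.exists_ofOrder_eq_natCard (α := Fˣ)
  have hdn : d ∣ orderOf g := by rw [hg, card_units_sq hF]; exact hd.mul_right _
  have ho := orderOf_pow_orderOf_div (orderOf_pos g).ne' hdn
  refine ⟨_, ho, ?_⟩
  have h := (orderOf_dvd_iff_pow_eq_one (x := g ^ (orderOf g / d)) (n := q + 1)).1 (ho.symm ▸ hd)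
  rw [← Units.val_pow_eq_pow_val, h, Units.val_one]

theorem exists_root (hF : Fintype.card F = q ^ 2) {r : ℕ} (hr : r ∣ q + 1) {z : F} (hz : z ^ (q + 1) = 1)
    (h : z ^ ((q + 1) * (q - 1) / r) = 1) : ∃ y : F, y ^ r = z := by
  obtain ⟨g, hg⟩ := IsCyclic.exists_monoid_generator (α := Fˣ)
  have hz0 : z ≠ 0 := fun h0 => by rw [h0, zero_pow (Nat.add_one_ne_zero q)] at hz; exact zero_ne_one hz
  obtain ⟨k, hk⟩ := Submonoid.mem_powers_iff _ _ |>.1 (hg (Units.mk0 z hz0))
  have hord : orderOf g = (q + 1) * (q - 1) := by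
    rw [← card_units_sq hF]
    exact orderOf_eq_card_of_forall_mem_zpowers fun x => by
      obtain ⟨l, hl⟩ := Submonoid.mem_powers_iff _ _ |>.1 (hg x)
      exact ⟨l, by rw [← hl]; exact zpow_natCast g l⟩
  have h1 : g ^ (k * ((q + 1) * (q - 1) / r)) = 1 := by
    rw [pow_mul, hk]
    exact Units.ext (by rw [Units.val_pow_eq_pow_val, Units.val_mk0, h, Units.val_one])
  have h2 := orderOf_dvd_of_pow_eq_one h1
  rw [hord] at h2
  obtain ⟨s, hs⟩ : r ∣ (q + 1) * (q - 1) := hr.mul_right _
  have hpos : 0 < r * s := hs ▸ hord ▸ orderOf_pos g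
  have hr0 : 0 < r := Nat.pos_of_mul_pos_right hpos
  rw [hs, Nat.mul_div_cancel_left s hr0] at h2
  obtain ⟨l, rfl⟩ := Nat.dvd_of_mul_dvd_mul_right (Nat.pos_of_mul_pos_left hpos) h2
  refine ⟨((g ^ l : Fˣ) : F), ?_⟩
  rw [← Units.val_pow_eq_pow_val, ← pow_mul, mul_comm l, hk, Units.val_mk0]

theorem root_norm (hF : Fintype.card F = q ^ 2) {r : ℕ} [Fact r.Prime] (hr2 : r ≠ 2) (hr : r ∣ q + 1) {z y : F}
    (hz : z ^ (q + 1) = 1) (hy : y ^ r = z) : y ^ (q + 1) = 1 := by
  have hy0 : y ≠ 0 := fun h0 => by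
    rw [← hy, h0, zero_pow (Fact.out : r.Prime).ne_zero, zero_pow (Nat.add_one_ne_zero q)] at hz
    exact zero_ne_one hz
  have h1 : (y ^ (q + 1)) ^ r = 1 := by rw [← pow_mul, mul_comm, pow_mul, hy, hz]
  have h2 : (y ^ (q + 1)) ^ (q - 1) = 1 := by
    rw [← pow_mul, ← card_units_sq hF, Nat.card_units]
    rw [Nat.card_eq_fintype_card]
    exact FiniteField.pow_card_sub_one_eq_one y hy0
  have hco : r.Coprime (q - 1) := by
    rw [(Fact.out : r.Prime).coprime_iff_not_dvd]
    intro hd
    have h3 := Nat.dvd_sub hr hd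
    have hq := two_le_q hF
    rw [show q + 1 - (q - 1) = 2 by omega] at h3
    exact hr2 ((Nat.prime_dvd_prime_iff_eq Fact.out Nat.prime_two).1 h3)
  have h3 := pow_gcd_eq_one.mpr ⟨h1, h2⟩
  rwa [hco.gcd_eq_one, pow_one] at h3

theorem count_dvd (hF : Fintype.card F = q ^ 2) {n m : ℕ} (hmn : 2 * m ≤ n) {r : ℕ} (hr : r.Prime)
    (h : r ∣ Nat.card {W : Submodule F (Fin n → F) // finrank F W = m ∧ (∀ u ∈ W, ∀ v ∈ W, Cfsg.hermForm n F q u v = 0)}) :
    ¬r ∣ q ∧ ∃ j < 2 * m, (-(q : ZMod r)) ^ (n - j) = 1 := by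
  classical
  have hq := two_le_q hF
  obtain ⟨W, -, hW, hWi⟩ := exists_ti_in hF (⊤ : Submodule F (Fin n → F)) m
    (by rw [finrank_top, finrank_fin_fun]; exact hmn)
  have hcard := card_isotropic_mul hF hmn hW hWi
  rw [Nat.card_congr (Equiv.subtypeEquivRight fun U => and_congr_right fun _ =>
    ⟨fun h u hu v hv => h v hv u hu, fun h u hu v hv => h v hv u hu⟩ :
    {U : Submodule F (Fin n → F) // finrank F U = m ∧ ∀ u ∈ U, ∀ v ∈ U, hB hF n u v = 0} ≃
      {U : Submodule F (Fin n → F) // finrank F U = m ∧ ∀ u ∈ U, ∀ v ∈ U, Cfsg.hermForm n F q u v = 0})] at hcard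
  obtain ⟨N, rfl⟩ := Nat.exists_eq_add_of_le hmn
  rw [Nat.add_sub_cancel_left] at hcard
  let g : ℕ → ℕ := fun i => if Even i then q ^ (i + 1) + 1 else q ^ (i + 1) - 1
  have hgpos : ∀ i, 0 < g i := fun i => by
    show 0 < if Even i then q ^ (i + 1) + 1 else q ^ (i + 1) - 1
    have := Nat.lt_of_lt_of_le (show 1 < q by omega) (Nat.le_self_pow (Nat.add_one_ne_zero i) q)
    split_ifs <;> omega
  have hsplit : ∏ i ∈ Finset.range (2 * m + N), g i =
      (∏ i ∈ Finset.range N, g i) * ∏ i ∈ Finset.Ico N (2 * m + N), g i :=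
    (Finset.prod_range_mul_prod_Ico g (by omega)).symm
  have hprod : ∏ i : Fin m, ((q ^ 2) ^ m - (q ^ 2) ^ (i : ℕ)) =
      q ^ (m * (m - 1)) * ∏ i ∈ Finset.range m, ((q ^ 2) ^ (m - i) - 1) := by
    rw [Fin.prod_univ_eq_prod_range (fun i => (q ^ 2) ^ m - (q ^ 2) ^ i) m, ← Finset.sum_range_id_mul_two m,
      show q ^ ((∑ i ∈ Finset.range m, i) * 2) = ∏ i ∈ Finset.range m, (q ^ 2) ^ i by
        rw [Finset.prod_pow_eq_pow_sum, ← pow_mul, mul_comm],
      ← Finset.prod_mul_distrib]
    refine Finset.prod_congr rfl fun i hi => ?_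
    rw [Nat.mul_sub, mul_one, ← pow_add, Nat.add_sub_cancel' (Finset.mem_range.1 hi).le]
  simp only [guCard] at hcard
  rw [hprod, show ∏ i ∈ Finset.range (2 * m + N), (if Even i then q ^ (i + 1) + 1 else q ^ (i + 1) - 1) = _ from hsplit] at hcard
  have hexp : m * (2 * (2 * m + N) - 3 * m) + N * (N - 1) / 2 + m * (m - 1) = (2 * m + N) * (2 * m + N - 1) / 2 := by
    have h1 := Nat.two_mul_div_two_of_even (Nat.even_mul_pred_self N)
    have h2 := Nat.two_mul_div_two_of_even (Nat.even_mul_pred_self (2 * m + N))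
    rw [Nat.mul_sub N N 1, mul_one] at h1 ⊢
    rw [Nat.mul_sub (2 * m + N) (2 * m + N) 1, mul_one] at h2 ⊢
    rw [Nat.mul_sub m m 1, mul_one, show 2 * (2 * m + N) - 3 * m = m + 2 * N by omega]
    have e1 : (2 * m + N) * (2 * m + N) = 4 * (m * m) + 4 * (m * N) + N * N := by ring
    have e2 : m * (m + 2 * N) = m * m + 2 * (m * N) := by ring
    have e3 : m ≤ m * m := Nat.le_mul_self m
    have e4 : N ≤ N * N := Nat.le_mul_self N
    omega
  rw [← hexp, pow_add, pow_add] at hcard
  have hne : 0 < q ^ (m * (2 * (2 * m + N) - 3 * m)) * q ^ (N * (N - 1) / 2) * q ^ (m * (m - 1)) *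
      ∏ i ∈ Finset.range N, g i :=
    Nat.mul_pos (Nat.mul_pos (Nat.mul_pos (pow_pos (by omega) _) (pow_pos (by omega) _)) (pow_pos (by omega) _))
      (Finset.prod_pos fun i _ => hgpos i)
  have hX := Nat.eq_of_mul_eq_mul_left hne (m := Nat.card {U : Submodule F (Fin (2 * m + N) → F) //
      finrank F U = m ∧ ∀ u ∈ U, ∀ v ∈ U, Cfsg.hermForm (2 * m + N) F q u v = 0} *
        ∏ i ∈ Finset.range m, ((q ^ 2) ^ (m - i) - 1))
    (k := ∏ i ∈ Finset.Ico N (2 * m + N), g i) (by
      simp only [g] at hcard ⊢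
      linear_combination hcard)
  obtain ⟨l, hl, hd⟩ := (Prime.dvd_finsetProd_iff hr.prime _).1 (hX ▸ h.mul_right _ : r ∣ ∏ i ∈ Finset.Ico N (2 * m + N), g i)
  rw [Finset.mem_Ico] at hl
  refine ⟨fun hrq => hr.one_lt.ne' (Nat.dvd_one.1 ?_), 2 * m + N - (l + 1), by omega, ?_⟩
  · have h1 : r ∣ q ^ (l + 1) := hrq.trans (dvd_pow_self q (Nat.succ_ne_zero l))
    simp only [g] at hd
    split_ifs at hd with he
    · have h2 := Nat.dvd_sub hd h1
      rwa [Nat.add_sub_cancel_left] at h2
    · have h2 := Nat.dvd_sub h1 hd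
      rwa [Nat.sub_sub_self (Nat.one_le_pow _ _ (by omega))] at h2
  · rw [show 2 * m + N - (2 * m + N - (l + 1)) = l + 1 by omega]
    simp only [g] at hd
    split_ifs at hd with he
    · rw [← ZMod.natCast_eq_zero_iff, Nat.cast_add, Nat.cast_pow, Nat.cast_one] at hd
      rw [(he.add_one).neg_pow]
      linear_combination -hd
    · rw [← ZMod.natCast_eq_zero_iff, Nat.cast_sub (Nat.one_le_pow _ _ (by omega)), Nat.cast_pow, Nat.cast_one,
        sub_eq_zero] at hd
      rw [(Nat.not_even_iff_odd.1 he).add_one.neg_pow, hd]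

end Basic

section Two

variable {F : Type*} [Field F] [Fintype F] {q : ℕ}

theorem exists_le_dim {n m : ℕ} (E : Submodule F (Fin n → F)) (hm : m ≤ finrank F E) :
    ∃ W : Submodule F (Fin n → F), W ≤ E ∧ finrank F W = m := by
  obtain ⟨f, hf⟩ := exists_linearIndependent_of_le_finrank hm
  have hf' := hf.map' E.subtype (Submodule.ker_subtype _)
  exact ⟨Submodule.span F (Set.range (E.subtype ∘ f)), Submodule.span_le.2 (by rintro _ ⟨j, rfl⟩; exact (f j).2),
    (finrank_span_eq_card hf').trans (Fintype.card_fin m)⟩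

/-- The case `r = 2`. -/
theorem two_case (hF : Fintype.card F = q ^ 2) (h2 : (2 : F) ≠ 0) {n m : ℕ} (hn : 2 ≤ n) (hm : 1 ≤ m) (hmn : 2 * m ≤ n) :
    AllFix hF n m 2 ↔ (2 * m < n ∨ padicValNat 2 (q + 1) ≤ padicValNat 2 n) := by
  classical
  have hq := two_le_q hF
  have hneg : (-1 : F) ≠ 1 := fun h => h2 (by linear_combination -h)
  constructor
  · intro hall
    by_contra hcon
    push Not at hcon
    obtain ⟨hn2, hv⟩ := hcon
    set v := padicValNat 2 n with hvdef
    obtain ⟨y, hy, hyq⟩ := exists_norm_one_order hF (d := 2 ^ (v + 1))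
      ((padicValNat_dvd_iff_le (Nat.add_one_ne_zero q)).2 hv)
    have hy2 : ((y : F) ^ 2 ^ v) = -1 := by
      have h1 : ((y : F) ^ 2 ^ v) * ((y : F) ^ 2 ^ v) = 1 := by
        rw [← pow_add, ← two_mul, ← pow_succ', ← Units.val_pow_eq_pow_val, ← hy, pow_orderOf_eq_one, Units.val_one]
      refine (mul_self_eq_one_iff.1 h1).resolve_left fun h => ?_
      rw [← Units.val_pow_eq_pow_val, Units.val_eq_one, ← orderOf_dvd_iff_pow_eq_one, hy,
        Nat.pow_dvd_pow_iff_le_right one_lt_two] at h
      omega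
    have hyn : (y : F) ^ n = -1 := by
      obtain ⟨t, ht⟩ : 2 ^ v ∣ n := pow_padicValNat_dvd
      have hto : Odd t := by
        rw [← Nat.not_even_iff_odd]
        rintro ⟨s, rfl⟩
        have h1 := (padicValNat_dvd_iff_le (p := 2) (a := n) (n := v + 1) (by omega)).1 ⟨s, by rw [ht]; ring⟩
        omega
      rw [ht, pow_mul, hy2, hto.neg_one_pow]
    let i₀ : Fin n := ⟨0, by omega⟩
    let d : Fin n → F := fun l => if l = i₀ then -(y : F) else y
    have hd : ∀ l, d l ^ (q + 1) = 1 := fun l => by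
      show (if l = i₀ then -(y : F) else y) ^ (q + 1) = 1
      split_ifs
      · have he : Even (q + 1) := by
          have := (dvd_pow_self 2 (Nat.succ_ne_zero v)).trans ((padicValNat_dvd_iff_le (Nat.add_one_ne_zero q)).2 hv)
          exact even_iff_two_dvd.2 this
        rw [he.neg_pow, hyq]
      · exact hyq
    have hdet : (Matrix.diagonal d).det = 1 := by
      rw [Matrix.det_diagonal, show d = fun l => (y : F) * (if l = i₀ then -1 else 1) from funext fun l => by
        simp only [d]; split_ifs <;> ring, Finset.prod_mul_distrib, Finset.prod_const, Finset.card_univ, Fintype.card_fin,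
        Finset.prod_ite_eq', if_pos (Finset.mem_univ _), hyn]
      ring
    obtain ⟨W, hWm, hWi, hWinv⟩ := hall _ (isU_diagonal hF hd) hdet
      ⟨(y : F) * y, by
        rw [Matrix.diagonal_pow, ← Matrix.diagonal_one, ← Matrix.diagonal_smul]
        congr 1
        funext l
        simp only [Pi.pow_apply, Pi.smul_apply, smul_eq_mul, mul_one, d]
        split_ifs <;> ring⟩
      (fun z hz => h2 (by
        have h0 := congrFun (congrFun hz i₀) i₀
        have h1 := congrFun (congrFun hz ⟨1, by omega⟩) ⟨1, by omega⟩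
        simp [d, i₀, Fin.ext_iff] at h0 h1
        have h3 : (2 : F) * y = 0 := by linear_combination h1 - h0
        exact (mul_eq_zero.1 h3).resolve_right y.ne_zero))
    have hW0 : ∀ w ∈ W, w i₀ = 0 := fun w hw => by
      have h1 : Matrix.diagonal d *ᵥ w - (y : F) • w ∈ W :=
        W.sub_mem (hWinv ⟨w, hw, Matrix.toLin'_apply _ _⟩) (W.smul_mem _ hw)
      have h3 : Matrix.diagonal d *ᵥ w - (y : F) • w = Pi.single i₀ ((-(2 : F) * y) * w i₀) := by
        funext l
        simp only [Pi.sub_apply, Pi.smul_apply, smul_eq_mul, Matrix.mulVec_diagonal, d, Pi.single_apply]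
        split_ifs with h
        · subst h; ring
        · ring
      rw [h3] at h1
      have h4 := hWi _ h1 _ h1
      rw [hB_single_right, Pi.single_eq_same, ← pow_succ'] at h4
      have h5 := pow_eq_zero_iff (Nat.add_one_ne_zero q) |>.1 h4
      exact (mul_eq_zero.1 h5).resolve_left (mul_ne_zero (neg_ne_zero.2 h2) y.ne_zero)
    have he0 : (Pi.single i₀ 1 : Fin n → F) ∈ perp hF W := fun w hw => by
      rw [hB_single_right, hW0 w hw, zero_pow (by omega), mul_zero]
    have he1 : (Pi.single i₀ 1 : Fin n → F) ∉ W := fun h => one_ne_zero (α := F) (by simpa using hW0 _ h)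
    have hle : W ⊔ (F ∙ (Pi.single i₀ 1 : Fin n → F)) ≤ perp hF W :=
      sup_le (fun w hw u hu => hWi u hu w hw) ((Submodule.span_singleton_le_iff_mem _ _).2 he0)
    have h6 := Submodule.finrank_mono hle
    rw [Submodule.finrank_sup_span_singleton he1] at h6
    have h7 := finrank_perp hF W
    omega
  · intro hcase M hM hdet ⟨z, hz⟩ _
    have hzn : z ^ (q + 1) = 1 := norm_of_scalar hF (by omega) (hz ▸ hM.pow hF 2)
    by_cases hy : ∃ y : F, y ^ (q + 1) = 1 ∧ y * y = z
    · obtain ⟨y, hyq, hyz⟩ := hy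
      have hy0 : y ≠ 0 := fun h => by rw [h, zero_pow (Nat.add_one_ne_zero q)] at hyq; exact zero_ne_one hyq
      obtain ⟨N, hNdef⟩ : ∃ N, N = y⁻¹ • M := ⟨_, rfl⟩
      have hNU : IsU hF N := by rw [hNdef]; exact hM.smul hF (by rw [_root_.inv_pow, hyq, inv_one])
      have hNN : N * N = 1 := by
        rw [hNdef, smul_mul_smul_comm, ← pow_two M, hz, smul_smul, ← hyz]
        field_simp
        exact one_smul _ _
      have hMN : M = y • N := by rw [hNdef, smul_smul, mul_inv_cancel₀ hy0, one_smul]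
      have hact : ∀ v, N *ᵥ (N *ᵥ v) = v := fun v => by rw [Matrix.mulVec_mulVec, hNN, Matrix.one_mulVec]
      obtain ⟨E, hE⟩ : ∃ E : F → Submodule F (Fin n → F), ∀ c x, x ∈ E c ↔ N *ᵥ x = c • x :=
        ⟨fun c => LinearMap.ker (Matrix.mulVecLin N - c • LinearMap.id), fun c x => by simp [sub_eq_zero]⟩
      have hcompl : IsCompl (E 1) (E (-1)) := by
        refine ⟨Submodule.disjoint_def.2 fun x h1 h3 => ?_, codisjoint_iff.2 (eq_top_iff.2 fun x _ => ?_)⟩
        · have h4 : (2 : F) • x = 0 := by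
            rw [show (2 : F) • x = (1 : F) • x - (-1 : F) • x by module, ← (hE 1 x).1 h1, ← (hE _ x).1 h3, sub_self]
          exact (smul_eq_zero.1 h4).resolve_left h2
        · rw [← inv_smul_smul₀ h2 x, show (2 : F) • x = (x + N *ᵥ x) + (x - N *ᵥ x) by module]
          refine Submodule.smul_mem _ _ (Submodule.add_mem_sup ((hE _ _).2 ?_) ((hE _ _).2 ?_))
          · rw [Matrix.mulVec_add, hact, one_smul, add_comm]
          · rw [Matrix.mulVec_sub, hact]; module
      have hdim := Submodule.finrank_add_eq_of_isCompl hcompl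
      rw [finrank_fin_fun] at hdim
      obtain ⟨a, b, ha, hb, hab⟩ : ∃ a b, 2 * a ≤ finrank F (E 1) ∧ 2 * b ≤ finrank F (E (-1)) ∧ a + b = m := by
        refine ⟨min m (finrank F (E 1) / 2), m - min m (finrank F (E 1) / 2), by omega, ?_, by omega⟩
        by_contra hbad
        have hodd : Odd (finrank F (E (-1))) ∧ 2 * m = n := by rw [Nat.odd_iff]; omega
        have hvle := hcase.resolve_left (by omega)
        -- the determinant forces `y ^ n = -1`
        have hNdet : N.det = -1 := by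
          let e := Submodule.prodEquivOfIsCompl _ _ hcompl
          let P : (E 1 × E (-1)) →ₗ[F] (E 1 × E (-1)) :=
            LinearMap.prodMap LinearMap.id ((-1 : F) • LinearMap.id)
          have hconj : (e : (E 1 × E (-1)) →ₗ[F] _) ∘ₗ P ∘ₗ (e.symm : (Fin n → F) →ₗ[F] _) = Matrix.toLin' N := by
            refine LinearMap.ext fun x => ?_
            obtain ⟨⟨u, w⟩, rfl⟩ := e.surjective x
            show e (P (e.symm (e (u, w)))) = Matrix.toLin' N (e (u, w))
            rw [LinearEquiv.symm_apply_apply]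
            simp only [P, LinearMap.prodMap_apply,
              LinearMap.id_apply, LinearMap.smul_apply, e, Submodule.coe_prodEquivOfIsCompl', Submodule.coe_smul,
              Matrix.toLin'_apply, Matrix.mulVec_add, (hE 1 _).1 u.2, (hE _ _).1 w.2, one_smul]
          rw [← LinearMap.det_toLin', ← hconj, LinearMap.det_conj, LinearMap.det_prodMap, LinearMap.det_id,
            LinearMap.det_smul, LinearMap.det_id, one_mul, mul_one, hodd.1.neg_one_pow]
        have hyn : y ^ n = -1 := by
          rw [hMN, Matrix.det_smul, Fintype.card_fin, hNdet] at hdet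
          linear_combination -hdet
        obtain ⟨s, hs⟩ : 2 ^ padicValNat 2 (q + 1) ∣ q + 1 := pow_padicValNat_dvd
        obtain ⟨u, hu⟩ : 2 ^ padicValNat 2 (q + 1) ∣ n := (padicValNat_dvd_iff_le (by omega)).2 hvle
        have hso : Odd s := by
          rw [← Nat.not_even_iff_odd]
          rintro ⟨l, rfl⟩
          have h1 := (padicValNat_dvd_iff_le (p := 2) (a := q + 1) (n := padicValNat 2 (q + 1) + 1)
            (Nat.add_one_ne_zero q)).1 ⟨l, by rw [pow_succ]; linarith⟩
          omega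
        have h1 : (y ^ n) ^ s = 1 := by
          rw [← pow_mul, hu, show 2 ^ padicValNat 2 (q + 1) * u * s = 2 ^ padicValNat 2 (q + 1) * s * u by ring, ← hs,
            pow_mul, hyq, one_pow]
        rw [hyn, hso.neg_one_pow] at h1
        exact hneg h1
      obtain ⟨W, hWE, hWd, hWi⟩ := exists_ti_in hF (E 1) a ha
      obtain ⟨Z, hZE, hZd, hZi⟩ := exists_ti_in hF (E (-1)) b hb
      have hcross : ∀ u ∈ E 1, ∀ v ∈ E (-1), hB hF n u v = 0 := fun u hu v hv => by
        have h1 := (isU_iff hF N).1 hNU u v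
        rw [(hE 1 u).1 hu, (hE _ v).1 hv, one_smul, map_smul, smul_eq_mul] at h1
        have h3 : (2 : F) * hB hF n u v = 0 := by linear_combination -h1
        exact (mul_eq_zero.1 h3).resolve_left h2
      rw [hMN]
      refine fixes_smul hF y ⟨W ⊔ Z, ?_, ?_, ?_⟩
      · have h1 := Submodule.finrank_sup_add_finrank_inf_eq W Z
        have h3 : W ⊓ Z = ⊥ := eq_bot_iff.2 ((inf_le_inf hWE hZE).trans hcompl.inf_eq_bot.le)
        rw [h3, finrank_bot, add_zero, hWd, hZd, hab] at h1
        exact h1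
      · intro u hu v hv
        obtain ⟨u₁, hu₁, u₂, hu₂, rfl⟩ := Submodule.mem_sup.1 hu
        obtain ⟨v₁, hv₁, v₂, hv₂, rfl⟩ := Submodule.mem_sup.1 hv
        simp only [map_add, LinearMap.add_apply, hWi _ hu₁ _ hv₁, hZi _ hu₂ _ hv₂, hcross _ (hWE hu₁) _ (hZE hv₂),
          hB_symm_zero hF (hcross _ (hWE hv₁) _ (hZE hu₂)), add_zero]
      · rw [Submodule.map_sup]
        refine sup_le_sup ?_ ?_
        · rintro _ ⟨x, hx, rfl⟩
          rw [Matrix.toLin'_apply, (hE 1 x).1 (hWE hx)]
          exact W.smul_mem _ hx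
        · rintro _ ⟨x, hx, rfl⟩
          rw [Matrix.toLin'_apply, (hE _ x).1 (hZE hx)]
          exact Z.smul_mem _ hx
    · -- eigenvalues off the norm-one group: the eigenspaces are totally isotropic
      have hqodd : Odd q := by
        rw [← Nat.not_even_iff_odd]
        intro he
        have h1 := FiniteField.odd_card_of_char_ne_two (F := F) fun h => h2 (by
          haveI : CharP F 2 := ringChar.of_eq h
          exact CharTwo.two_eq_zero)
        rw [hF] at h1
        have := Nat.even_iff.1 (Nat.even_pow.2 ⟨he, two_ne_zero⟩)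
        omega
      obtain ⟨l, hl⟩ : ∃ l : F, l ^ 2 = z := exists_root hF (even_iff_two_dvd.1 hqodd.add_one) hzn (by
        obtain ⟨k, hk⟩ := hqodd
        rw [show (q + 1) * (q - 1) / 2 = (q + 1) * k by
          rw [show q - 1 = k * 2 by omega, ← mul_assoc, Nat.mul_div_cancel _ two_pos], pow_mul, hzn, one_pow])
      have hl2 : l * l = z := by rw [← pow_two]; exact hl
      have hlq : l ^ (q + 1) = -1 := by
        have h1 : l ^ (q + 1) * l ^ (q + 1) = 1 := by rw [← mul_pow, hl2, hzn]
        exact (mul_self_eq_one_iff.1 h1).resolve_left fun h => hy ⟨l, h, hl2⟩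
      have hl0 : l ≠ 0 := fun h => by rw [h, zero_pow (Nat.add_one_ne_zero q)] at hlq; exact one_ne_zero (neg_eq_zero.1 hlq.symm)
      have hact : ∀ v, M *ᵥ (M *ᵥ v) = (l * l) • v := fun v => by
        rw [Matrix.mulVec_mulVec, ← pow_two M, hz, hl2, Matrix.smul_mulVec, Matrix.one_mulVec]
      obtain ⟨E, hE⟩ : ∃ E : F → Submodule F (Fin n → F), ∀ c x, x ∈ E c ↔ M *ᵥ x = c • x :=
        ⟨fun c => LinearMap.ker (Matrix.mulVecLin M - c • LinearMap.id), fun c x => by simp [sub_eq_zero]⟩
      have hti : ∀ c, c ^ (q + 1) = -1 → ∀ u ∈ E c, ∀ v ∈ E c, hB hF n u v = 0 := fun c hc u hu v hv => by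
        have h1 := (isU_iff hF M).1 hM u v
        rw [(hE c u).1 hu, (hE c v).1 hv] at h1
        simp only [map_smul, LinearMap.map_smulₛₗ, LinearMap.smul_apply, smul_eq_mul, frob_apply] at h1
        have h3 : (2 : F) * hB hF n u v = 0 := by linear_combination -h1 + (hB hF n u v) * hc
        exact (mul_eq_zero.1 h3).resolve_left h2
      have htop : ⊤ ≤ E l ⊔ E (-l) := fun x _ => by
        rw [← inv_smul_smul₀ (mul_ne_zero h2 hl0) x, show (2 * l) • x = (l • x + M *ᵥ x) + (l • x - M *ᵥ x) by module]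
        refine Submodule.smul_mem _ _ (Submodule.add_mem_sup ((hE _ _).2 ?_) ((hE _ _).2 ?_))
        · rw [Matrix.mulVec_add, Matrix.mulVec_smul, hact]; module
        · rw [Matrix.mulVec_sub, Matrix.mulVec_smul, hact]; module
      have h1 := Submodule.finrank_mono htop
      have h3 := Submodule.finrank_add_le_finrank_add_finrank (E l) (E (-l))
      rw [finrank_top, finrank_fin_fun] at h1
      obtain ⟨c, hc, hcm⟩ : ∃ c, c ^ (q + 1) = -1 ∧ m ≤ finrank F (E c) := by
        rcases le_total m (finrank F (E l)) with h | h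
        · exact ⟨l, hlq, h⟩
        · exact ⟨-l, by rw [hqodd.add_one.neg_pow, hlq], by omega⟩
      obtain ⟨W, hWE, hWd⟩ := exists_le_dim (E c) hcm
      refine ⟨W, hWd, fun u hu v hv => hti c hc u (hWE hu) v (hWE hv), ?_⟩
      rintro _ ⟨x, hx, rfl⟩
      rw [Matrix.toLin'_apply, (hE c x).1 (hWE hx)]
      exact W.smul_mem _ hx

end Two

section Central

variable {F : Type*} [Field F] [Fintype F] {q : ℕ} {r : ℕ} [Fact r.Prime]

/-- Invariant subspaces when `M ^ r` is a scalar without `r`-th root. -/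
theorem dvd_finrank (hF : Fintype.card F = q ^ 2) (hr : r ∣ q + 1) {n : ℕ} {M : Matrix (Fin n) (Fin n) F} {z : F}
    (hzq : z ^ (q + 1) = 1) (hz : M ^ r = z • 1) (hnp : ∀ y : F, y ^ r ≠ z) {W : Submodule F (Fin n → F)}
    (hinv : ∀ w ∈ W, M *ᵥ w ∈ W) : r ∣ finrank F W := by
  have hz0 : z ≠ 0 := fun h0 => by rw [h0, zero_pow (Nat.add_one_ne_zero q)] at hzq; exact zero_ne_one hzq
  have hi : ∀ w ∈ W, Matrix.toLin' M w ∈ W := fun w hw => by rw [Matrix.toLin'_apply]; exact hinv w hw
  obtain ⟨f, hf⟩ : ∃ f : W →ₗ[F] W, f = (Matrix.toLin' M).restrict hi := ⟨_, rfl⟩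
  have hpow : ∀ (k : ℕ) (w : W), (((f ^ k) w : W) : Fin n → F) = (M ^ k) *ᵥ (w : Fin n → F) := fun k => by
    induction k with
    | zero => intro w; simp
    | succ k ih =>
      intro w
      rw [pow_succ', pow_succ', Module.End.mul_apply, ← Matrix.mulVec_mulVec, ← ih, hf]
      exact Matrix.toLin'_apply M _
  have hfr : f ^ r = z • LinearMap.id := LinearMap.ext fun w => Subtype.ext (by
    rw [hpow, hz, Matrix.smul_mulVec, Matrix.one_mulVec]; rfl)
  have hdet : (LinearMap.det f) ^ r = z ^ finrank F W := by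
    rw [← map_pow, hfr, LinearMap.det_smul, LinearMap.det_id, mul_one]
  by_contra hndvd
  obtain ⟨s, hs⟩ : r ∣ (q + 1) * (q - 1) := hr.mul_right _
  have hr0 := (Fact.out : r.Prime).pos
  have hd0 : LinearMap.det f ≠ 0 := fun h => by
    rw [h, zero_pow (Fact.out : r.Prime).ne_zero] at hdet
    exact pow_ne_zero _ hz0 hdet.symm
  have hcard : ∀ x : F, x ≠ 0 → x ^ ((q + 1) * (q - 1)) = 1 := fun x hx => by
    rw [← card_units_sq hF, Nat.card_units, Nat.card_eq_fintype_card (α := F)]
    exact FiniteField.pow_card_sub_one_eq_one x hx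
  have h1 : (z ^ s) ^ finrank F W = 1 := by
    rw [← pow_mul, mul_comm, pow_mul, ← hdet, ← pow_mul, ← hs, hcard _ hd0]
  have h3 : (z ^ s) ^ r = 1 := by rw [← pow_mul, mul_comm, ← hs, hcard _ hz0]
  have h4 := pow_gcd_eq_one.mpr ⟨h1, h3⟩
  rw [Nat.Coprime.gcd_eq_one (((Fact.out : r.Prime).coprime_iff_not_dvd.2 hndvd).symm), pow_one] at h4
  obtain ⟨y, hy⟩ := exists_root hF hr hzq (by rw [hs, Nat.mul_div_cancel_left s hr0]; exact h4)
  exact hnp y hy

/-- Invariant totally isotropic subspaces when `M ^ r` is a scalar without `r`-th root. -/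
theorem exists_inv_ti (hF : Fintype.card F = q ^ 2) (hr : r ∣ q + 1) {n : ℕ} {M : Matrix (Fin n) (Fin n) F} {z : F}
    (hM : IsU hF M) (hzq : z ^ (q + 1) = 1) (hz : M ^ r = z • 1) (hnp : ∀ y : F, y ^ r ≠ z) :
    ∀ j, 2 * (j * r) ≤ n → ∃ W : Submodule F (Fin n → F), finrank F W = j * r ∧
      (∀ u ∈ W, ∀ v ∈ W, hB hF n u v = 0) ∧ ∀ w ∈ W, M *ᵥ w ∈ W := by
  classical
  have hz0 : z ≠ 0 := fun h0 => by rw [h0, zero_pow (Nat.add_one_ne_zero q)] at hzq; exact zero_ne_one hzq
  intro j
  induction j with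
  | zero =>
    exact fun _ => ⟨⊥, by simp, fun u hu v _ => by rw [(Submodule.mem_bot F).1 hu, map_zero, LinearMap.zero_apply],
      fun w hw => by rw [(Submodule.mem_bot F).1 hw, Matrix.mulVec_zero]; exact zero_mem _⟩
  | succ j ih =>
    intro hj
    rw [add_one_mul] at hj
    obtain ⟨W, hWd, hW, hinv⟩ := ih (by omega)
    obtain ⟨W', hW'⟩ := Submodule.exists_isCompl W
    let U := perp hF W ⊓ W'
    have hU : 2 * r ≤ finrank F U := by
      have h1 := finrank_perp hF W
      have h2 := Submodule.finrank_sup_add_finrank_inf_eq (perp hF W) W'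
      have h3 := Submodule.finrank_le (perp hF W ⊔ W')
      have h4 := Submodule.finrank_add_eq_of_isCompl hW'
      rw [finrank_fin_fun] at h3 h4
      show 2 * r ≤ finrank F ↥(perp hF W ⊓ W')
      omega
    obtain ⟨v, hv, hv0, hvv⟩ := exists_sing_cyclic hF M U (Fact.out : r.Prime).one_le hU
    have hvW : v ∉ W := fun h => hv0 (Submodule.disjoint_def.1 hW'.disjoint v h hv.2)
    have hpowinv : ∀ (k : ℕ), ∀ w ∈ W, (M ^ k) *ᵥ w ∈ W := fun k => by
      induction k with
      | zero => intro w hw; simpa using hw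
      | succ k ih2 => intro w hw; rw [pow_succ', ← Matrix.mulVec_mulVec]; exact hinv _ (ih2 w hw)
    have hWv : ∀ w ∈ W, ∀ k < r, hB hF n w ((M ^ k) *ᵥ v) = 0 := by
      intro w hw k hk
      have h1 : hB hF n ((M ^ k) *ᵥ ((M ^ (r - k)) *ᵥ w)) ((M ^ k) *ᵥ v) = 0 := by
        rw [(isU_iff hF _).1 (hM.pow hF k)]
        exact hv.1 _ (hpowinv _ w hw)
      rw [Matrix.mulVec_mulVec, ← pow_add, Nat.add_sub_cancel' hk.le, hz, Matrix.smul_mulVec, Matrix.one_mulVec,
        LinearMap.map_smulₛₗ, LinearMap.smul_apply, smul_eq_mul] at h1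
      exact (mul_eq_zero.1 h1).resolve_left ((_root_.map_ne_zero _).2 hz0)
    have hvkl : ∀ k < r, ∀ l < r, hB hF n ((M ^ k) *ᵥ v) ((M ^ l) *ᵥ v) = 0 := by
      have hle : ∀ k < r, ∀ l, l ≤ k → hB hF n ((M ^ k) *ᵥ v) ((M ^ l) *ᵥ v) = 0 := fun k hk l hlk => by
        rw [show k = l + (k - l) by omega, pow_add, ← Matrix.mulVec_mulVec, (isU_iff hF _).1 (hM.pow hF l)]
        exact hvv _ (by omega)
      intro k hk l hl
      rcases le_total l k with h | h
      · exact hle k hk l h
      · exact hB_symm_zero hF (hle l hl k h)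
    let C : Submodule F (Fin n → F) := Submodule.span F (Set.range fun k : Fin r => (M ^ (k : ℕ)) *ᵥ v)
    have hvC : v ∈ C := Submodule.subset_span ⟨⟨0, (Fact.out : r.Prime).pos⟩, by simp⟩
    have hCinv : ∀ x ∈ C, M *ᵥ x ∈ C := fun x hx => by
      have hle : C ≤ C.comap (Matrix.mulVecLin M) := Submodule.span_le.2 (by
        rintro _ ⟨k, rfl⟩
        show M *ᵥ ((M ^ (k : ℕ)) *ᵥ v) ∈ C
        rw [Matrix.mulVec_mulVec, ← pow_succ']
        by_cases hk : (k : ℕ) + 1 < r
        · exact Submodule.subset_span ⟨⟨(k : ℕ) + 1, hk⟩, rfl⟩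
        · have h2 := k.2
          rw [show (k : ℕ) + 1 = r by omega, hz, Matrix.smul_mulVec, Matrix.one_mulVec]
          exact C.smul_mem _ hvC)
      exact hle hx
    have hperpC : ∀ w ∈ W, ∀ x ∈ C, hB hF n w x = 0 := fun w hw x hx =>
      LinearMap.mem_ker.1 ((Submodule.span_le.2 (by rintro _ ⟨k, rfl⟩; exact hWv w hw k k.2) :
        C ≤ LinearMap.ker (hB hF n w)) hx)
    have hCC : ∀ x ∈ C, ∀ y ∈ C, hB hF n x y = 0 := by
      intro x hx y hy
      refine LinearMap.mem_ker.1 ((Submodule.span_le.2 ?_ : C ≤ LinearMap.ker (hB hF n x)) hy)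
      rintro _ ⟨l, rfl⟩
      exact hB_symm_zero hF (LinearMap.mem_ker.1 ((Submodule.span_le.2 (by
        rintro _ ⟨k, rfl⟩; exact hvkl l l.2 k k.2) : C ≤ LinearMap.ker (hB hF n ((M ^ (l : ℕ)) *ᵥ v))) hx))
    refine ⟨W ⊔ C, ?_, ?_, ?_⟩
    · have hinvWC : ∀ x ∈ W ⊔ C, M *ᵥ x ∈ W ⊔ C := fun x hx => by
        obtain ⟨a, ha, b, hb, rfl⟩ := Submodule.mem_sup.1 hx
        rw [Matrix.mulVec_add]
        exact Submodule.add_mem_sup (hinv a ha) (hCinv b hb)
      obtain ⟨e, he⟩ := dvd_finrank hF hr hzq hz hnp hinvWC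
      have h1 := Submodule.finrank_add_le_finrank_add_finrank W C
      have h2 : finrank F C ≤ r := (finrank_range_le_card _).trans (Fintype.card_fin r).le
      have h3 : finrank F W < finrank F ↥(W ⊔ C) := Submodule.finrank_lt_finrank_of_lt
        (lt_of_le_of_ne le_sup_left fun h => hvW (h ▸ Submodule.mem_sup_right hvC))
      rw [he, hWd] at h3
      rw [he, hWd] at h1
      have h5 : j < e := Nat.lt_of_mul_lt_mul_right (a := r) (by rw [mul_comm e]; exact h3)
      have h6 : r * e ≤ r * (j + 1) := by rw [mul_add, mul_one, mul_comm r j]; omega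
      have h7 := Nat.le_of_mul_le_mul_left h6 (Fact.out : r.Prime).pos
      rw [he, show e = j + 1 by omega]
      ring
    · intro x hx y hy
      obtain ⟨a, ha, b, hb, rfl⟩ := Submodule.mem_sup.1 hx
      obtain ⟨a', ha', b', hb', rfl⟩ := Submodule.mem_sup.1 hy
      simp only [map_add, LinearMap.add_apply, hW _ ha _ ha', hperpC _ ha _ hb', hB_symm_zero hF (hperpC _ ha' _ hb),
        hCC _ hb _ hb', add_zero]
    · intro x hx
      obtain ⟨a, ha, b, hb, rfl⟩ := Submodule.mem_sup.1 hx
      rw [Matrix.mulVec_add]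
      exact Submodule.add_mem_sup (hinv a ha) (hCinv b hb)

/-- A cyclic block with `C ^ r = z`. -/
theorem exists_cyc_block (hF : Fintype.card F = q ^ 2) (hr2 : r ≠ 2) {z : F} (hzq : z ^ (q + 1) = 1) :
    ∃ C : Matrix (ZMod r) (ZMod r) F, IsU hF C ∧ C ^ r = z • 1 ∧ C.det = z := by
  classical
  let d : ZMod r → F := fun j => if j = 0 then z else 1
  let C : Matrix (ZMod r) (ZMod r) F := Matrix.of fun i j => if j = i + 1 then d j else 0
  have hact : ∀ v i, (C *ᵥ v) i = d (i + 1) * v (i + 1) := fun v i => by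
    simp [C, Matrix.mulVec, dotProduct, ite_mul]
  have hd : ∀ j, d j ^ q * d j = 1 := fun j => by
    show (if j = 0 then z else 1) ^ q * (if j = 0 then z else 1) = 1
    split_ifs
    · rw [← pow_succ, hzq]
    · simp
  refine ⟨C, ?_, ?_, ?_⟩
  · show adj hF C * C = 1
    ext i j
    rw [Matrix.mul_apply, Finset.sum_eq_single (i - 1) (fun l _ hl => ?_) (fun h => absurd (Finset.mem_univ _) h)]
    · by_cases hij : i = j
      · subst hij
        simp [adj, C, frob_apply hF, hd]
      · simp [adj, C, Ne.symm hij, Matrix.one_apply_ne hij]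
    · have : i ≠ l + 1 := fun h => hl (by rw [h, add_sub_cancel_right])
      simp [adj, C, this]
  · have hiter : ∀ (k : ℕ) v i, ((C ^ k) *ᵥ v) i = (∏ l ∈ Finset.range k, d (i + 1 + (l : ZMod r))) * v (i + k) := by
      intro k
      induction k with
      | zero => intro v i; simp
      | succ k ih =>
        intro v i
        rw [pow_succ, ← Matrix.mulVec_mulVec, ih, hact, Finset.prod_range_succ, Nat.cast_succ, ← add_assoc i,
          show i + (k : ZMod r) + 1 = i + 1 + (k : ZMod r) by ring]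
        ring
    refine Matrix.ext_iff_mulVec.mpr fun v => funext fun i => ?_
    rw [hiter, ZMod.natCast_self, add_zero, Matrix.smul_mulVec, Matrix.one_mulVec, Pi.smul_apply, smul_eq_mul]
    congr 1
    refine (Finset.prod_nbij' (s := Finset.range r) (f := fun l => d (i + 1 + (l : ZMod r))) (t := (Finset.univ : Finset (ZMod r))) (g := d) (fun l => i + 1 + (l : ZMod r))
      (fun x => (x - (i + 1)).val) (fun _ _ => Finset.mem_univ _) (fun x _ => Finset.mem_range.2 (ZMod.val_lt _))
      (fun l hl => by simp [ZMod.val_natCast, Nat.mod_eq_of_lt (Finset.mem_range.1 hl)])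
      (fun x _ => by simp) (fun l _ => rfl)).trans ?_
    simp [d]
  · have hP : C = (Equiv.addRight (1 : ZMod r)).permMatrix F * Matrix.diagonal d := by
      ext i j
      rw [Matrix.mul_diagonal, Equiv.Perm.permMatrix, PEquiv.toMatrix_apply]
      show (if j = i + 1 then d j else 0) = _
      by_cases h : j = i + 1
      · simp [h]
      · simp [h, Ne.symm h]
    have hsign : Equiv.Perm.sign (Equiv.addRight (1 : ZMod r)) = 1 := by
      have h1 : (Equiv.addRight (1 : ZMod r)) ^ r = 1 := by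
        have hk : ∀ k : ℕ, (Equiv.addRight (1 : ZMod r)) ^ k = Equiv.addRight (k : ZMod r) := fun k => by
          induction k with
          | zero => ext; simp
          | succ k ih => rw [pow_succ, ih]; ext x; simp [add_assoc, add_comm (1 : ZMod r)]
        rw [hk, ZMod.natCast_self]
        ext x; simp
      have h2 := congrArg Equiv.Perm.sign h1
      rw [map_pow, map_one] at h2
      obtain ⟨k, hk⟩ := (Fact.out : r.Prime).odd_of_ne_two hr2
      have h3 : Equiv.Perm.sign (Equiv.addRight (1 : ZMod r)) ^ (2 * k + 1) = 1 := by rw [← hk]; exact h2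
      rw [pow_succ, pow_mul, Int.units_sq, one_pow, one_mul] at h3
      exact h3
    rw [hP, Matrix.det_mul, Matrix.det_permutation, hsign, Matrix.det_diagonal]
    simp [d]

/-- The characteristic polynomial when `M ^ r` is a scalar without `r`-th root. -/
theorem pow_eq_one_of_det {n : ℕ} (hr2 : r ≠ 2) {M : Matrix (Fin n) (Fin n) F} {z : F} (hz : M ^ r = z • 1)
    (hnp : ∀ y : F, y ^ r ≠ z) (hdet : M.det = 1) : ∃ N, n = r * N ∧ z ^ N = 1 := by
  classical
  let L := AlgebraicClosure F
  let g : F[X] := X ^ r - Polynomial.C z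
  have hg : Irreducible g := X_pow_sub_C_irreducible_of_prime Fact.out hnp
  have hgm : g.Monic := monic_X_pow_sub_C z (Fact.out : r.Prime).ne_zero
  have hP := M.charpoly_monic
  have hfac : ∀ h ∈ UniqueFactorizationMonoid.normalizedFactors M.charpoly, h = g := by
    intro h hh
    have hirr := UniqueFactorizationMonoid.irreducible_of_normalized_factor h hh
    have hmon : h.Monic := by
      rw [← UniqueFactorizationMonoid.normalize_normalized_factor h hh]
      exact Polynomial.monic_normalize hirr.ne_zero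
    have hdeg : (h.map (algebraMap F L)).degree ≠ 0 := by
      rw [degree_map]; exact (Polynomial.degree_pos_of_irreducible hirr).ne'
    obtain ⟨μ, hμ⟩ := IsAlgClosed.exists_root _ hdeg
    have hroot : ((M.map (algebraMap F L)).charpoly).IsRoot μ := by
      rw [Matrix.charpoly_map]
      exact hμ.dvd (Polynomial.map_dvd _ (UniqueFactorizationMonoid.dvd_of_mem_normalizedFactors hh))
    haveI : Nonempty (Fin n) := by
      rcases Nat.eq_zero_or_pos n with rfl | h0
      · rw [Matrix.charpoly, Matrix.det_isEmpty, UniqueFactorizationMonoid.normalizedFactors_one] at hh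
        simp at hh
      · exact ⟨⟨0, h0⟩⟩
    have h1 := spectrum.pow_mem_pow (M.map (algebraMap F L)) r (Matrix.mem_spectrum_iff_isRoot_charpoly.mpr hroot)
    rw [← RingHom.mapMatrix_apply, ← map_pow, hz, RingHom.mapMatrix_apply, Matrix.map_smul' _ _ _ (map_mul _), Matrix.map_one _ (map_zero _) (map_one _),
      ← Algebra.algebraMap_eq_smul_one, spectrum.scalar_eq, Set.mem_singleton_iff] at h1
    have hgμ : Polynomial.aeval μ g = 0 := by simp [g, h1]
    have hhμ : Polynomial.aeval μ h = 0 := by rw [aeval_def, ← eval_map]; exact hμ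
    exact (minpoly.eq_of_irreducible_of_monic hirr hhμ hmon).trans (minpoly.eq_of_irreducible_of_monic hg hgμ hgm).symm
  have hPe : M.charpoly = g ^ (UniqueFactorizationMonoid.normalizedFactors M.charpoly).card := by
    have h1 := (UniqueFactorizationMonoid.prod_normalizedFactors hP.ne_zero)
    rw [Multiset.eq_replicate_card.2 hfac, Multiset.prod_replicate] at h1
    exact (Polynomial.eq_of_monic_of_associated (hgm.pow _) hP h1).symm
  set N := (UniqueFactorizationMonoid.normalizedFactors M.charpoly).card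
  have hn : n = r * N := by
    have h1 := congrArg natDegree hPe
    rw [Matrix.charpoly_natDegree_eq_dim, Fintype.card_fin, natDegree_pow, natDegree_X_pow_sub_C] at h1
    rw [h1, mul_comm]
  refine ⟨N, hn, ?_⟩
  have h1 := Matrix.det_eq_sign_charpoly_coeff M
  rw [hdet, Fintype.card_fin, hPe, coeff_zero_eq_eval_zero, eval_pow] at h1
  simp only [g, eval_sub, eval_pow, eval_X, eval_C, zero_pow (Fact.out : r.Prime).ne_zero, zero_sub] at h1
  rw [neg_pow z, ← mul_assoc, ← pow_add, hn] at h1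
  have he : Even (r * N + N) := by
    rw [← add_one_mul]
    exact ((Fact.out : r.Prime).odd_of_ne_two hr2).add_one.mul_right N
  rw [he.neg_one_pow, one_mul] at h1
  exact h1.symm

end Central

universe u

section Main

variable {F : Type u} [Field F] [Fintype F] {q : ℕ} {r : ℕ} [Fact r.Prime]

theorem unit_inj {L : Type u} [Field L] [Algebra F L] {p : ℕ} [CharP F p] (hrp : ¬r ∣ p) (hp : p.Prime) :
    (r : F) ≠ 0 ∧ (r : L) ≠ 0 := by
  have h : (r : F) ≠ 0 := fun h =>
    hrp ((Nat.prime_dvd_prime_iff_eq hp (Fact.out : r.Prime)).1 ((CharP.cast_eq_zero_iff F p r).1 h) ▸ dvd_rfl)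
  exact ⟨h, fun hL => h ((algebraMap F L).injective (by rw [map_natCast, map_zero, hL]))⟩

/-- The case `r ∣ q + 1`. -/
theorem plus_case (hF : Fintype.card F = q ^ 2) (hr2 : r ≠ 2) (hrF : (r : F) ≠ 0) (hrd : r ∣ q + 1)
    {qu : (ZMod r)ˣ} (hqu : (qu : ZMod r) = (q : ZMod r)) {n m : ℕ} (hm : 1 ≤ m) (hmn : 2 * m ≤ n) :
    AllFix hF n m r ↔ ((r - 1) + 2 * m ≤ n ∧ (r ∣ m ∨ padicValNat r n ≤ padicValNat r (q + 1))) := by
  classical
  have hr := (Fact.out : r.Prime)
  have hodd := hr.odd_of_ne_two hr2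
  obtain ⟨ε, hε, hεq⟩ := exists_norm_one_order hF hrd
  let L := AlgebraicClosure F
  have hεF : IsPrimitiveRoot (ε : F) r := by
    rw [IsPrimitiveRoot.coe_units_iff, ← hε]
    exact IsPrimitiveRoot.orderOf ε
  have hζ : IsPrimitiveRoot (algebraMap F L ε) r := hεF.map_of_injective (algebraMap F L).injective
  have hrL : (r : L) ≠ 0 := fun hL => hrF ((algebraMap F L).injective (by rw [map_natCast, map_zero]; exact hL))
  have hw1 : (-qu : (ZMod r)ˣ) = 1 := Units.ext (by
    rw [Units.val_neg, hqu, Units.val_one, neg_eq_iff_add_eq_zero, ← Nat.cast_one, ← Nat.cast_add]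
    exact (ZMod.natCast_eq_zero_iff _ _).2 hrd)
  have hw2 : ((-qu) ^ 2 : (ZMod r)ˣ) = 1 := by rw [hw1, one_pow]
  have hn0 : n ≠ 0 := by omega
  constructor
  · intro hall
    refine ⟨?_, ?_⟩
    · by_contra hlt
      set h := (n - 2 * m + 2) / 2 with hh
      have hh1 : 1 ≤ h := by omega
      have hhr : 2 * h ≤ r - 1 := by
        obtain ⟨k, hk⟩ := hodd
        omega
      have h2h : 2 * h ≤ n := by omega
      let dd : ℕ → ZMod r := fun l => if l < 2 * h then
        (if Even l then ((l / 2 + 1 : ℕ) : ZMod r) else -((l / 2 + 1 : ℕ) : ZMod r)) else 0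
      have hsum2 : ∀ k ≤ h, ∑ l ∈ Finset.range (2 * k), dd l = 0 := by
        intro k
        induction k with
        | zero => intro _; simp
        | succ k ih =>
          intro hk
          rw [mul_add, mul_one, Finset.sum_range_succ, Finset.sum_range_succ, ih (by omega)]
          simp only [dd, if_pos (show 2 * k < 2 * h by omega), if_pos (show 2 * k + 1 < 2 * h by omega),
            if_pos (even_two_mul k), if_neg (Nat.not_even_iff_odd.2 ⟨k, rfl⟩),
            show (2 * k + 1) / 2 = k by omega, show 2 * k / 2 = k by omega]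
          ring
      have hsum : ∑ l : Fin n, dd l = 0 := by
        rw [Fin.sum_univ_eq_sum_range dd n, ← Finset.sum_range_add_sum_Ico dd h2h, hsum2 h le_rfl, zero_add]
        exact Finset.sum_eq_zero fun l hl => if_neg (by rw [Finset.mem_Ico] at hl; omega)
      have hinj : ∀ l < 2 * h, ∀ l' < 2 * h, dd l = dd l' → l = l' := by
        intro l hl l' hl' he
        have hpos : ∀ a b : ℕ, a < h → b < h → ((a + 1 : ℕ) : ZMod r) = ((b + 1 : ℕ) : ZMod r) → a = b := fun a b ha hb e => by
          rw [ZMod.natCast_eq_natCast_iff'] at e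
          rw [Nat.mod_eq_of_lt (by omega), Nat.mod_eq_of_lt (by omega)] at e
          omega
        have hmix : ∀ a b : ℕ, a < h → b < h → ((a + 1 : ℕ) : ZMod r) ≠ -((b + 1 : ℕ) : ZMod r) := fun a b ha hb e => by
          rw [eq_neg_iff_add_eq_zero, ← Nat.cast_add, ZMod.natCast_eq_zero_iff] at e
          have := Nat.le_of_dvd (by omega) e
          omega
        simp only [dd, if_pos hl, if_pos hl'] at he
        split_ifs at he with e1 e2 e2
        · have := hpos _ _ (by omega) (by omega) he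
          rw [Nat.even_iff] at e1 e2; omega
        · exact absurd he (hmix _ _ (by omega) (by omega))
        · exact absurd he.symm (hmix _ _ (by omega) (by omega))
        · have := hpos _ _ (by omega) (by omega) (neg_injective he)
          rw [Nat.not_even_iff] at e1 e2; omega
      have hne0 : ∀ l < 2 * h, dd l ≠ 0 := by
        intro l hl e
        have h1 : ((l / 2 + 1 : ℕ) : ZMod r) = 0 := by
          simp only [dd, if_pos hl] at e
          split_ifs at e
          · exact e
          · exact neg_eq_zero.1 e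
        rw [ZMod.natCast_eq_zero_iff] at h1
        have := Nat.le_of_dvd (by omega) h1
        omega
      let d : Fin n → F := fun l => zp (ε : F) (dd l)
      let f : ZMod r → ℕ := fun x => (Finset.univ.filter fun l : Fin n => dd l = x).card
      have hd : ∀ l, d l ^ (q + 1) = 1 := fun l => by
        show zp (ε : F) (dd l) ^ (q + 1) = 1
        rw [zp, ← pow_mul, mul_comm, pow_mul, hεq, one_pow]
      have hdr : Matrix.diagonal d ^ r = (1 : Matrix (Fin n) (Fin n) F) := by
        rw [Matrix.diagonal_pow, ← Matrix.diagonal_one]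
        congr 1
        funext l
        rw [Pi.pow_apply, zp_pow hεF, ZMod.natCast_self, zero_mul, zp_zero]
      have hdet : (Matrix.diagonal d).det = 1 := by
        have hprod : ∀ s : Finset (Fin n), ∏ l ∈ s, d l = zp (ε : F) (∑ l ∈ s, dd l) := fun s => by
          induction s using Finset.induction with
          | empty => simp [zp_zero]
          | insert a s has ih => rw [Finset.prod_insert has, Finset.sum_insert has, ih, zp_add hεF]
        rw [Matrix.det_diagonal, hprod, hsum, zp_zero]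
      have hcp : (Matrix.diagonal d).charpoly.map (algebraMap F L) = Pm (algebraMap F L ε) f := by
        rw [Matrix.charpoly_diagonal, Polynomial.map_prod, Pm]
        refine Eq.trans (Finset.prod_fiberwise Finset.univ (fun l : Fin n => dd (l : ℕ)) _).symm ?_
        refine Finset.prod_congr rfl fun x _ => ?_
        rw [Finset.prod_congr rfl (g := fun _ => X - Polynomial.C (zp (algebraMap F L ε) x)) fun l hl => by
          rw [Polynomial.map_sub, map_X, map_C, show d l = zp (ε : F) x by rw [← (Finset.mem_filter.1 hl).2],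
            zp, zp, map_pow], Finset.prod_const]
      have hU := isU_diagonal hF hd
      have hfix := hall _ hU hdet ⟨1, by rw [hdr, one_smul]⟩ fun z hz => by
        have h0 := congrFun (congrFun hz ⟨0, by omega⟩) ⟨0, by omega⟩
        have h1 := congrFun (congrFun hz ⟨1, by omega⟩) ⟨1, by omega⟩
        simp only [Matrix.diagonal_apply_eq, Matrix.smul_apply, Matrix.one_apply_eq, smul_eq_mul, mul_one, d] at h0 h1
        exact absurd (hinj 0 (by omega) 1 (by omega) (zp_inj hεF (h0.trans h1.symm))) zero_ne_one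
      obtain ⟨μ, hμ, hle⟩ := (fixesU_iff hF hζ hrL hrF hqu hmn _ hU hdr hcp).1 hfix
      have hμ0 : ∀ x, x ≠ 0 → μ x = 0 := fun x hx => by
        have h1 := hle x
        rw [hw1, Units.val_one, one_mul] at h1
        have h3 : f x ≤ 1 := Finset.card_le_one.2 fun a ha b hb => by
          rw [Finset.mem_filter] at ha hb
          have hlt : ∀ l : Fin n, dd l = x → (l : ℕ) < 2 * h := fun l hl => by
            by_contra hc
            exact hx (by rw [← hl]; exact if_neg hc)
          exact Fin.ext (hinj _ (hlt a ha.2) _ (hlt b hb.2) (ha.2.trans hb.2.symm))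
        omega
      have hμm : μ 0 = m := by
        have h1 := Cfsg.Agent.S5961.sum_split μ
        rw [hμ.1, Finset.sum_eq_zero fun x hx => hμ0 x (Finset.ne_of_mem_erase hx), add_zero] at h1
        exact h1.symm
      have hf0 : f 0 ≤ n - 2 * h := by
        have h1 : f 0 ≤ (Finset.univ.filter fun l : Fin n => ¬((l : ℕ) < 2 * h)).card :=
          Finset.card_le_card fun l hl => by
            simp only [Finset.mem_filter, Finset.mem_univ, true_and] at hl ⊢
            exact fun hlt => hne0 _ hlt hl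
        have h2 : (Finset.univ.filter fun l : Fin n => ¬((l : ℕ) < 2 * h)).card +
            (Finset.univ.filter fun l : Fin n => (l : ℕ) < 2 * h).card = n := by
          rw [add_comm, Finset.card_filter_add_card_filter_not, Finset.card_univ, Fintype.card_fin]
        have h3 : 2 * h ≤ (Finset.univ.filter fun l : Fin n => (l : ℕ) < 2 * h).card := by
          have h4 := Finset.card_le_card_of_injOn (s := (Finset.univ : Finset (Fin (2 * h))))
            (t := Finset.univ.filter fun l : Fin n => (l : ℕ) < 2 * h) (fun l => Fin.castLE h2h l)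
            (fun l _ => by simp) fun a _ b _ e => Fin.castLE_injective h2h e
          simpa using h4
        omega
      have h0 := hle 0
      rw [mul_zero, hμm] at h0
      omega
    · by_contra hcon
      push Not at hcon
      obtain ⟨hrm, hv⟩ := hcon
      set a := padicValNat r (q + 1) with hadef
      obtain ⟨z, hz, hzq⟩ := exists_norm_one_order hF (d := r ^ a) pow_padicValNat_dvd
      obtain ⟨N, hN⟩ : r ∣ n := (dvd_pow_self r (Nat.succ_ne_zero a)).trans ((padicValNat_dvd_iff_le hn0).2 hv)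
      have hzN : (z : F) ^ N = 1 := by
        obtain ⟨s, hs⟩ : r ^ a ∣ N := Nat.dvd_of_mul_dvd_mul_left hr.pos (by
          rw [← pow_succ', ← hN]; exact (padicValNat_dvd_iff_le hn0).2 hv)
        rw [hs, pow_mul, ← Units.val_pow_eq_pow_val, ← hz, pow_orderOf_eq_one, Units.val_one, one_pow]
      have hnp : ∀ y : F, y ^ r ≠ z := fun y hy => by
        have h1 := root_norm hF hr2 hrd hzq hy
        obtain ⟨s, hs⟩ := hrd
        have h2 : (z : F) ^ s = 1 := by rw [← hy, ← pow_mul, ← hs, h1]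
        rw [← Units.val_pow_eq_pow_val, Units.val_eq_one, ← orderOf_dvd_iff_pow_eq_one, hz] at h2
        have h3 := (padicValNat_dvd_iff_le (p := r) (Nat.add_one_ne_zero q) (n := a + 1)).1
          (by rw [hs, pow_succ']; exact Nat.mul_dvd_mul_left r h2)
        omega
      obtain ⟨C, hC, hCr, hCd⟩ := exists_cyc_block hF hr2 hzq
      let e : ZMod r × Fin N ≃ Fin n := Fintype.equivFinOfCardEq (by simp [hN])
      let R := Matrix.reindexAlgEquiv F F e
      let X := Matrix.blockDiagonal fun _ : Fin N => C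
      have hXU : IsU hF (R X) := by
        show adj hF (R X) * R X = 1
        rw [show adj hF (R X) = R (adj hF X) from rfl, ← map_mul]
        rw [show adj hF X = Matrix.blockDiagonal fun _ : Fin N => adj hF C by
          simp [X, adj, Matrix.blockDiagonal_map, Matrix.blockDiagonal_transpose], ← Matrix.blockDiagonal_mul]
        rw [show (fun _ : Fin N => adj hF C * C) = (fun _ : Fin N => (1 : Matrix (ZMod r) (ZMod r) F)) from funext fun _ => hC]
        rw [show (fun _ : Fin N => (1 : Matrix (ZMod r) (ZMod r) F)) = 1 from rfl, Matrix.blockDiagonal_one, map_one]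
      have hXr : R X ^ r = (z : F) • 1 := by
        rw [← map_pow, ← Matrix.blockDiagonal_pow, show ((fun _ : Fin N => C) ^ r) =
          (z : F) • (1 : Fin N → Matrix (ZMod r) (ZMod r) F) from funext fun _ => hCr, Matrix.blockDiagonal_smul,
          Matrix.blockDiagonal_one, map_smul, map_one]
      have hXd : (R X).det = 1 := by
        rw [Matrix.det_reindexAlgEquiv, Matrix.det_blockDiagonal, Finset.prod_const, Finset.card_univ, Fintype.card_fin, hCd, hzN]
      obtain ⟨W, hWm, -, hinv⟩ := hall _ hXU hXd ⟨z, hXr⟩ fun s hs => hnp s (by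
        have h1 := hXr
        rw [hs, _root_.smul_pow, one_pow] at h1
        have h2 := congrFun (congrFun h1 ⟨0, by omega⟩) ⟨0, by omega⟩
        simpa using h2)
      have h1 := dvd_finrank hF hrd hzq hXr hnp (W := W) fun w hw => hinv ⟨w, hw, Matrix.toLin'_apply _ _⟩
      rw [hWm] at h1
      exact hrm h1
  · rintro ⟨hcond, hdiv⟩ M hM hdet ⟨z, hz⟩ _
    have hzn : z ^ (q + 1) = 1 := norm_of_scalar hF (by omega) (hz ▸ hM.pow hF r)
    by_cases hy : ∃ y : F, y ^ r = z
    · obtain ⟨y, hy⟩ := hy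
      have hyq := root_norm hF hr2 hrd hzn hy
      have hy0 : y ≠ 0 := fun h => by rw [h, zero_pow (Nat.add_one_ne_zero q)] at hyq; exact zero_ne_one hyq
      have hall := (all_fixesU_iff hF hζ hrL hrF hqu hmn).2 ((ucomb_iff (b := 1) (c := 1) (t := r - 1) rfl
        (by rw [hw2, orderOf_one]) (by rw [hw1, orderOf_one]) (Or.inl rfl) (mul_one _)).2 (by
          intro K hK
          refine ⟨min m ((K - (r - 1) + 1) / 2), min_le_right _ _, by rw [one_mul]; exact min_le_left _ _, ?_⟩
          omega))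
      have hN := hall (y⁻¹ • M) (hM.smul hF (by rw [_root_.inv_pow, hyq, inv_one])) (by
        rw [_root_.smul_pow, hz, smul_smul, _root_.inv_pow, hy, inv_mul_cancel₀, one_smul]
        rw [← hy]; exact pow_ne_zero _ hy0)
      have h1 := fixes_smul hF y hN
      rwa [smul_smul, mul_inv_cancel₀ hy0, one_smul] at h1
    · push Not at hy
      obtain ⟨N, hnN, hzN⟩ := pow_eq_one_of_det hr2 hz hy hdet
      have hrm : r ∣ m := by
        refine hdiv.resolve_right fun hv => ?_
        set a := padicValNat r (q + 1) with hadef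
        have h1 : r ^ a ∣ N := by
          by_contra hnd
          obtain ⟨o, ho⟩ : r ^ a ∣ q + 1 := pow_padicValNat_dvd
          have hro : r.Coprime o := by
            rw [hr.coprime_iff_not_dvd]
            rintro ⟨s, rfl⟩
            have h3 := (padicValNat_dvd_iff_le (p := r) (Nat.add_one_ne_zero q) (n := a + 1)).1
              ⟨s, by rw [ho, pow_succ]; ring⟩
            omega
          obtain ⟨e, hea, hge⟩ := (Nat.dvd_prime_pow hr).1 (Nat.gcd_dvd_left (r ^ a) N)
          have hea' : e < a := lt_of_le_of_ne hea fun h => hnd (by rw [← h, ← hge]; exact Nat.gcd_dvd_right _ _)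
          obtain ⟨s, hs⟩ := hrd
          have hz2 : (z ^ (o * r ^ e)) = 1 := by
            rw [← hge, pow_mul]
            exact pow_gcd_eq_one.mpr ⟨by rw [← pow_mul, mul_comm, ← ho, hzn], by
              rw [← pow_mul, mul_comm, pow_mul, hzN, one_pow]⟩
          have hdvd : o * r ^ e ∣ s := by
            obtain ⟨a', ha'⟩ := Nat.exists_eq_add_of_lt hea'
            refine ⟨r ^ a', ?_⟩
            apply Nat.eq_of_mul_eq_mul_left hr.pos
            rw [← hs, ho, ha']
            ring
          obtain ⟨k, hk⟩ := hdvd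
          obtain ⟨y, hy'⟩ := exists_root hF (⟨s, hs⟩ : r ∣ q + 1) hzn (by
            rw [hs, mul_assoc, Nat.mul_div_cancel_left _ hr.pos, hk, mul_assoc, pow_mul, hz2, one_pow])
          exact hy y hy'
        have h3 := (padicValNat_dvd_iff_le (p := r) hn0 (n := a + 1)).1 (by
          rw [hnN, pow_succ']; exact Nat.mul_dvd_mul_left r h1)
        omega
      obtain ⟨j, rfl⟩ := hrm
      obtain ⟨W, hWd, hWi, hinv⟩ := exists_inv_ti hF hrd hM hzn hz hy j (by rw [mul_comm j]; omega)
      refine ⟨W, by rw [hWd, mul_comm], hWi, ?_⟩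
      rintro _ ⟨w, hw, rfl⟩
      rw [Matrix.toLin'_apply]
      exact hinv w hw

/-- The case `r ∤ q + 1`. -/
theorem other_case (hF : Fintype.card F = q ^ 2) (hrF : (r : F) ≠ 0) (hrd : ¬r ∣ q + 1)
    {qu : (ZMod r)ˣ} (hqu : (qu : ZMod r) = (q : ZMod r)) {n m b c t : ℕ} (hn : 0 < n) (hmn : 2 * m ≤ n)
    (hb : orderOf ((-qu) ^ 2) = b) (hc : orderOf (-qu) = c) (hcb : c = b ∨ c = 2 * b) (ht : t * b = r - 1) :
    AllFix hF n m r ↔ UCond n c b t m := by
  classical
  have hr := (Fact.out : r.Prime)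
  let L := AlgebraicClosure F
  have hrL : (r : L) ≠ 0 := fun hL => hrF ((algebraMap F L).injective (by rw [map_natCast, map_zero]; exact hL))
  haveI : NeZero (r : L) := ⟨hrL⟩
  obtain ⟨ζ, hζ⟩ := HasEnoughRootsOfUnity.exists_primitiveRoot L r
  have hco : r.Coprime (q + 1) := hr.coprime_iff_not_dvd.2 hrd
  rw [← ucomb_iff rfl hb hc hcb ht, ← all_fixesU_iff hF hζ hrL hrF hqu hmn]
  constructor
  · intro hall M hM hMr
    by_cases hsc : ∃ z : F, M = z • 1
    · obtain ⟨z, rfl⟩ := hsc
      exact fixes_scalar hF hmn z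
    · refine hall M hM ?_ ⟨1, by rw [hMr, one_smul]⟩ fun z hz => hsc ⟨z, hz⟩
      have h1 : M.det ^ r = 1 := by rw [← Matrix.det_pow, hMr, Matrix.det_one]
      have h3 := pow_gcd_eq_one.mpr ⟨h1, det_norm hF hM⟩
      rwa [hco.gcd_eq_one, pow_one] at h3
  · rintro hall M hM - ⟨z, hz⟩ -
    have hzn : z ^ (q + 1) = 1 := norm_of_scalar hF hn (hz ▸ hM.pow hF r)
    obtain ⟨k, hk⟩ := exists_pow_eq_self_of_coprime (x := z) (n := r)
      (hco.coprime_dvd_right (orderOf_dvd_of_pow_eq_one hzn))
    have hkr : (z ^ k) ^ r = z := by rw [← pow_mul, mul_comm, pow_mul, hk]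
    have hz0 : z ≠ 0 := fun h => by rw [h, zero_pow (Nat.add_one_ne_zero q)] at hzn; exact zero_ne_one hzn
    have hN := hall ((z ^ k)⁻¹ • M) (hM.smul hF (by rw [_root_.inv_pow, ← pow_mul, mul_comm, pow_mul, hzn, one_pow, inv_one]))
      (by rw [_root_.smul_pow, hz, smul_smul, _root_.inv_pow, hkr, inv_mul_cancel₀ hz0, one_smul])
    have h1 := fixes_smul hF (z ^ k) hN
    rwa [smul_smul, mul_inv_cancel₀ (pow_ne_zero _ hz0), one_smul] at h1

theorem orders {qu : (ZMod r)ˣ} (hr2 : r ≠ 2) {i b c : ℕ} (hiu : orderOf qu = i)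
    (hb : b = if Even i then i / 2 else i) (hc : c = if i % 4 = 0 then i else if i % 4 = 2 then i / 2 else 2 * i) :
    orderOf ((-qu) ^ 2) = b ∧ orderOf (-qu) = c := by
  have hi0 : 0 < i := hiu ▸ orderOf_pos qu
  by_cases he : Even i
  · obtain ⟨e, he'⟩ := he
    have hqe : qu ^ e = -1 := by
      have h1 : qu ^ e * qu ^ e = 1 := by rw [← pow_add, ← he', ← hiu, pow_orderOf_eq_one]
      have h2 : qu ^ e ≠ 1 := fun h => by
        have := Nat.le_of_dvd (by omega) (orderOf_dvd_of_pow_eq_one h)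
        omega
      have h3 := mul_self_eq_one_iff.1 (show ((qu ^ e : (ZMod r)ˣ) : ZMod r) * ((qu ^ e : (ZMod r)ˣ) : ZMod r) = 1 by
        rw [← Units.val_mul, h1, Units.val_one])
      rcases h3 with h3 | h3
      · exact absurd (Units.ext (h3.trans Units.val_one.symm)) h2
      · exact Units.ext (h3.trans (by rw [Units.val_neg, Units.val_one]))
    constructor
    · rw [neg_sq, orderOf_pow' qu two_ne_zero, hiu, hb, if_pos ⟨e, he'⟩, show Nat.gcd i 2 = 2 from
        Nat.gcd_eq_right ⟨e, by omega⟩]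
    · rcases Nat.even_or_odd e with hee | heo
      · have h4 : i % 4 = 0 := by rw [Nat.even_iff] at hee; omega
        rw [hc, if_pos h4]
        refine (orderOf_eq_iff hi0).2 ⟨?_, fun k hk hk0 h => ?_⟩
        · rw [(show Even i from ⟨e, he'⟩).neg_pow, ← hiu, pow_orderOf_eq_one]
        · have h5 : qu ^ (k + k) = 1 := by
            rw [← (Even.add_self k).neg_pow, pow_add, h, one_mul]
          obtain ⟨s, hs⟩ := orderOf_dvd_of_pow_eq_one h5
          rw [hiu] at hs
          have hs1 : s = 1 := by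
            rcases s with _ | _ | s
            · simp at hs; omega
            · rfl
            · have : i * 2 ≤ i * (s + 1 + 1) := Nat.mul_le_mul_left i (by omega)
              omega
          subst hs1
          rw [show k = e by omega, hee.neg_pow, hqe] at h
          exact neg_ne_self hr2 one_ne_zero (by simpa using congrArg Units.val h)
      · have h4 : i % 4 = 2 := by rw [Nat.odd_iff] at heo; omega
        rw [hc, if_neg (by omega), if_pos h4, show i / 2 = e by omega]
        refine (orderOf_eq_iff heo.pos).2 ⟨?_, fun k hk hk0 h => ?_⟩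
        · rw [heo.neg_pow, hqe, neg_neg]
        · have h5 : qu ^ (k + k) = 1 := by
            rw [← (Even.add_self k).neg_pow, pow_add, h, one_mul]
          have := Nat.le_of_dvd (by omega) (orderOf_dvd_of_pow_eq_one h5)
          omega
  · have ho := Nat.not_even_iff_odd.1 he
    constructor
    · rw [neg_sq, orderOf_pow' qu two_ne_zero, hiu, hb, if_neg he, Nat.Coprime.gcd_eq_one (Nat.coprime_two_right.2 ho),
        Nat.div_one]
    · rw [orderOf_neg_of_odd hr2 (hiu.symm ▸ ho), hiu, hc]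
      rw [Nat.odd_iff] at ho
      rw [if_neg (by omega), if_neg (by omega)]

end Main

/-- Elements of prime order of PSU_n(q) with no fixed totally isotropic `m`-space. Here `T = PSU_n(q)` (`n ≥ 3`, `(n, q) ≠ (3, 2)`), realised through the matrices of determinant 1 over the field `F` with `q²` elements preserving the Hermitian form `h(u, v) = Σ u_i v_i^q`; an element of `T` of prime order `r` is such a matrix `x` with `x^r` scalar and `x` not scalar. For `r ≠ p` let `i` be the multiplicative order of `q` modulo `r`, `b = i/2` for `i` even and `b = i` for `i` odd, `c = i, i/2, 2i` according as `i ≡ 0, 2 (mod 4)` or `i` odd, and write `k = n mod c`, `ℓ = m mod b`, `ℓ' = m mod c`, `n' = ⌊n/b⌋`, `m' = ⌊m/b⌋`, `s = (r−1)/b`; `(a)_r` is the `r`-part of `a`. Let `1 ≤ m ≤ n/2` and let `r` be a prime dividing the number of totally isotropic `m`-spaces. Then every element of `T` of order `r` fixes a totally isotropic `m`-space if and only if either (i) `r = 2`, `p ≠ 2`, and (`m < n/2`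 or `(q+1)_2 ≤ (n)_2`); or (ii) `r ≠ p`, `r > 2`, `b ≤ m`, `k ≥ 2ℓ`, and either `i ≢ 2 (mod 4)`, or `i ≡ 2 (mod 4)`, `n' − 2m' ≥ s` and (`i > 2`, or `i = 2` and (`r ∣ m` or `(q+1)_r ≥ (n)_r`)). -/
theorem result {F : Type*} [Field F] [Fintype F] {p : ℕ} [Fact p.Prime] [CharP F p] {q : ℕ} (hq : Fintype.card F = q ^ 2)
    (n m : ℕ) (hn : 3 ≤ n) (hT : (n, q) ≠ (3, 2)) (hm : 1 ≤ m) (hmn : 2 * m ≤ n)
    (r : ℕ) [Fact r.Prime]
    (hrΩ : r ∣ Nat.card {W : Submodule F (Fin n → F) // Module.finrank F ↥W = m ∧ (∀ u ∈ W, ∀ v ∈ W, Cfsg.hermForm n F q u v = 0)})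
    (i b c : ℕ) (hi : i = orderOf (q : ZMod r)) (hb : b = if Even i then i / 2 else i)
    (hc : c = if i % 4 = 0 then i else if i % 4 = 2 then i / 2 else 2 * i) :
    (∀ x : Matrix.SpecialLinearGroup (Fin n) F, x ∈ Cfsg.SU n F q →
      (∃ z : F, ((x ^ r : Matrix.SpecialLinearGroup (Fin n) F) : Matrix (Fin n) (Fin n) F) = z • (1 : Matrix (Fin n) (Fin n) F)) →
      (∀ z : F, (x : Matrix (Fin n) (Fin n) F) ≠ z • (1 : Matrix (Fin n) (Fin n) F)) →
      ∃ W : Submodule F (Fin n → F), Module.finrank F ↥W = m ∧ (∀ u ∈ W, ∀ v ∈ W, Cfsg.hermForm n F q u v = 0) ∧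
        W.map (Matrix.toLin' (x : Matrix (Fin n) (Fin n) F)) ≤ W) ↔
    ((r = 2 ∧ p ≠ 2 ∧ (2 * m < n ∨ padicValNat 2 (q + 1) ≤ padicValNat 2 n)) ∨
     (r ≠ p ∧ 2 < r ∧ b ≤ m ∧ 2 * (m % b) ≤ n % c ∧
       (i % 4 ≠ 2 ∨ (i % 4 = 2 ∧ (r - 1) / b + 2 * (m / b) ≤ n / b ∧
         (2 < i ∨ (i = 2 ∧ (r ∣ m ∨ padicValNat r n ≤ padicValNat r (q + 1)))))))) := by
  classical
  refine (bridge hq n m r).trans ?_
  have hF := hq
  obtain ⟨hr⟩ := (inferInstance : Fact r.Prime)
  obtain ⟨hrq, j, hj, hjr⟩ := count_dvd hF hmn hr hrΩ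
  obtain ⟨k, -, hk⟩ := FiniteField.card F p
  rw [hF] at hk
  have hrp : r ≠ p := by
    rintro rfl
    exact hrq (hr.dvd_of_dvd_pow (hk.symm ▸ dvd_pow_self r k.pos.ne' : r ∣ q ^ 2))
  have hrF : (r : F) ≠ 0 := fun h =>
    hrp ((Nat.prime_dvd_prime_iff_eq Fact.out hr).mp ((CharP.cast_eq_zero_iff F p r).mp h)).symm
  by_cases hr2 : r = 2
  · subst hr2
    have h2 : (2 : F) ≠ 0 := by exact_mod_cast hrF
    refine (two_case hF h2 (by omega) hm hmn).trans ⟨fun h => Or.inl ⟨rfl, hrp.symm, h⟩, ?_⟩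
    rintro (⟨-, -, h⟩ | ⟨-, h, -⟩)
    · exact h
    · exact absurd h (lt_irrefl 2)
  have h2r : 2 < r := lt_of_le_of_ne hr.two_le (Ne.symm hr2)
  have hq0 : (q : ZMod r) ≠ 0 := fun h => hrq ((ZMod.natCast_eq_zero_iff _ _).1 h)
  let qu : (ZMod r)ˣ := Units.mk0 _ hq0
  have hqu : (qu : ZMod r) = (q : ZMod r) := rfl
  have hiu : orderOf qu = i := by rw [hi, ← orderOf_units, hqu]
  have hi0 : 0 < i := hiu ▸ orderOf_pos qu
  obtain ⟨hbo, hco⟩ := orders hr2 hiu hb hc
  have hb0 : 0 < b := hbo ▸ orderOf_pos _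
  have hcb : (c = b ↔ i % 4 = 2) ∧ (c = b ∨ c = 2 * b) := by
    rw [hb, hc]
    rcases Nat.even_or_odd i with he | ho
    · rw [if_pos he]
      rw [Nat.even_iff] at he
      split_ifs <;> omega
    · rw [if_neg (Nat.not_even_iff_odd.2 ho)]
      rw [Nat.odd_iff] at ho
      split_ifs <;> omega
  have hklow : n % c < 2 * m := by
    have h1 : c ∣ n - j := by
      rw [← hco]
      refine orderOf_dvd_of_pow_eq_one (Units.ext ?_)
      rw [Units.val_pow_eq_pow_val, Units.val_neg, hqu, Units.val_one]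
      exact hjr
    obtain ⟨x, hx⟩ := h1
    rw [show n = j + c * x by omega, Nat.add_mul_mod_self_left]
    exact lt_of_le_of_lt (Nat.mod_le _ _) hj
  have hbr : b ∣ r - 1 := by
    rw [← hbo, ← ZMod.card_units r]
    exact orderOf_dvd_card
  by_cases hrd : r ∣ q + 1
  · have hi2 : i = 2 := by
      rw [← hiu]
      refine orderOf_eq_prime ?_ fun h => ?_
      · refine Units.ext ?_
        rw [Units.val_pow_eq_pow_val, hqu, Units.val_one]
        have h1 : (q : ZMod r) = -1 := by
          rw [eq_neg_iff_add_eq_zero, ← Nat.cast_one, ← Nat.cast_add]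
          exact (ZMod.natCast_eq_zero_iff _ _).2 hrd
        rw [h1, neg_one_sq]
      · have h1 : (q : ZMod r) = 1 := by rw [← hqu, h, Units.val_one]
        have h3 : ((2 : ℕ) : ZMod r) = 0 := by
          rw [show (2 : ℕ) = 1 + 1 from rfl, Nat.cast_add, Nat.cast_one]
          nth_rw 1 [← h1]
          rw [← Nat.cast_one, ← Nat.cast_add]
          exact (ZMod.natCast_eq_zero_iff _ _).2 hrd
        have h4 := Nat.le_of_dvd two_pos ((ZMod.natCast_eq_zero_iff _ _).1 h3)
        omega
    subst hi2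
    have hb1 : b = 1 := by rw [hb, if_pos even_two]
    have hc1 : c = 1 := by rw [hc]; norm_num
    subst hb1 hc1
    refine (plus_case hF hr2 hrF hrd hqu hm hmn).trans ?_
    simp only [Nat.div_one, Nat.mod_one]
    constructor
    · rintro ⟨h1, h3⟩
      exact Or.inr ⟨hrp, h2r, hm, by omega, Or.inr ⟨trivial, h1, Or.inr ⟨trivial, h3⟩⟩⟩
    · rintro (⟨h, -⟩ | ⟨-, -, -, -, h | ⟨-, h1, h | ⟨-, h3⟩⟩⟩)
      · exact absurd h hr2
      · exact absurd rfl h
      · exact absurd h (lt_irrefl 2)
      · exact ⟨h1, h3⟩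
  · have hi2 : i ≠ 2 := fun h => hrd (by
      have h1 : (q : ZMod r) * q = 1 := by
        rw [← hqu, ← Units.val_mul, ← pow_two, ← h, ← hiu, pow_orderOf_eq_one, Units.val_one]
      rcases mul_self_eq_one_iff.1 h1 with h3 | h3
      · exfalso
        have : orderOf qu = 1 := orderOf_eq_one_iff.2 (Units.ext (by rw [hqu, h3, Units.val_one]))
        omega
      · rw [eq_neg_iff_add_eq_zero, ← Nat.cast_one, ← Nat.cast_add] at h3
        exact (ZMod.natCast_eq_zero_iff _ _).1 h3)
    rw [other_case hF hrF hrd hqu (show 0 < n by omega) hmn hbo hco hcb.2 (Nat.div_mul_cancel hbr),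
      ucond_iff hb0 hcb.2 hmn hklow]
    constructor
    · rintro ⟨h1, h3, h4⟩
      refine Or.inr ⟨hrp, h2r, h1, h3, ?_⟩
      by_cases h : i % 4 = 2
      · exact Or.inr ⟨h, h4 (hcb.1.2 h), Or.inl (by omega)⟩
      · exact Or.inl h
    · rintro (⟨h, -⟩ | ⟨-, -, h1, h3, h4⟩)
      · exact absurd h hr2
      · refine ⟨h1, h3, fun h => ?_⟩
        rcases h4 with h4 | ⟨-, h4, -⟩
        · exact absurd (hcb.1.1 h) h4
        · exact h4

end Cfsg.Agent.S5953
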