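-- Statement S5954.
import Cfsg.Statements.S5954
import Cfsg.Agent.S5953
import Cfsg.Agent.Lib.Linear.NondegFix.HermTypes
import Cfsg.Agent.Lib.Linear.NondegFix.HermSemi

set_option autoImplicit false
open scoped MatrixGroups
open Cfsg

namespace Cfsg.Agent.S5954

open Module Polynomial Cfsg.Lib.Linear.Herm Cfsg.Lib.Linear.IsoFix Cfsg.Lib.Linear.HermFix
open Cfsg.Agent.Lib.Linear.PrimeClasses Cfsg.Agent.S5961
open scoped Matrix

universe u

variable {F : Type u} [Field F] [Fintype F] {q : ℕ}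

/-- The statement with a matrix in place of an element of `SL`. -/
def AllN (hF : Fintype.card F = q ^ 2) (n m r : ℕ) : Prop :=
  ∀ M : Matrix (Fin n) (Fin n) F, IsU hF M → M.det = 1 → (∃ z : F, M ^ r = z • (1 : Matrix (Fin n) (Fin n) F)) →
    (∀ z : F, M ≠ z • (1 : Matrix (Fin n) (Fin n) F)) → FixesN hF m M

theorem nd_iff (hF : Fintype.card F = q ^ 2) {n : ℕ} (W : Submodule F (Fin n → F)) :
    (∀ u ∈ W, u ≠ 0 → ∃ v ∈ W, Cfsg.hermForm n F q u v ≠ 0) ↔
      ∀ u ∈ W, (∀ v ∈ W, hB hF n u v = 0) → u = 0 := by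
  constructor
  · intro h u hu hz
    by_contra hne
    obtain ⟨v, hv, hne'⟩ := h u hu hne
    exact hne' (hB_symm_zero hF (hz v hv))
  · intro h u hu hne
    by_contra hcon
    push Not at hcon
    exact hne (h u hu fun v hv => hB_symm_zero hF (hcon v hv))

theorem bridge (hF : Fintype.card F = q ^ 2) (n m r : ℕ) :
    (∀ x : Matrix.SpecialLinearGroup (Fin n) F, x ∈ Cfsg.SU n F q →
      (∃ z : F, ((x ^ r : Matrix.SpecialLinearGroup (Fin n) F) : Matrix (Fin n) (Fin n) F) = z • (1 : Matrix (Fin n) (Fin n) F)) →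
      (∀ z : F, (x : Matrix (Fin n) (Fin n) F) ≠ z • (1 : Matrix (Fin n) (Fin n) F)) →
      ∃ W : Submodule F (Fin n → F), Module.finrank F ↥W = m ∧ (∀ u ∈ W, u ≠ 0 → ∃ v ∈ W, Cfsg.hermForm n F q u v ≠ 0) ∧
        W.map (Matrix.toLin' (x : Matrix (Fin n) (Fin n) F)) ≤ W) ↔ AllN hF n m r := by
  constructor
  · intro h M hM hdet hz hns
    obtain ⟨W, h1, h2, h3⟩ := h ⟨M, hdet⟩ (fun u v => (isU_iff hF M).1 hM v u)
      (by obtain ⟨z, hz⟩ := hz; exact ⟨z, (Matrix.SpecialLinearGroup.coe_pow (⟨M, hdet⟩ : Matrix.SpecialLinearGroup (Fin n) F) r).trans hz⟩) hns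
    exact ⟨W, ⟨(nd_iff hF W).1 h2, fun u hu => h3 ⟨u, hu, Matrix.toLin'_apply _ _⟩⟩, h1⟩
  · intro h x hx hz hns
    obtain ⟨W, P, h1⟩ := h x.1 ((isU_iff hF x.1).2 fun u v => hx v u) x.2
      (by obtain ⟨z, hz⟩ := hz; exact ⟨z, by rw [← Matrix.SpecialLinearGroup.coe_pow]; exact hz⟩) hns
    refine ⟨W, h1, (nd_iff hF W).2 P.nd, ?_⟩
    rintro _ ⟨u, hu, rfl⟩
    rw [Matrix.toLin'_apply]
    exact P.inv u hu

theorem fixesN_smul (hF : Fintype.card F = q ^ 2) {n m : ℕ} {M : Matrix (Fin n) (Fin n) F} (a : F)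
    (h : FixesN hF m M) : FixesN hF m (a • M) := by
  obtain ⟨W, P, h1⟩ := h
  exact ⟨W, ⟨P.nd, fun u hu => by rw [Matrix.smul_mulVec]; exact W.smul_mem _ (P.inv u hu)⟩, h1⟩

theorem fixesN_one (hF : Fintype.card F = q ^ 2) {n m : ℕ} (hmn : m ≤ n) :
    FixesN hF m (1 : Matrix (Fin n) (Fin n) F) := by
  classical
  let E : (Fin m → F) →ₗ[F] (Fin n → F) :=
    { toFun := fun a i => if h : (i : ℕ) < m then a ⟨i, h⟩ else 0
      map_add' := fun a b => funext fun i => by by_cases h : (i : ℕ) < m <;> simp [h]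
      map_smul' := fun c a => funext fun i => by by_cases h : (i : ℕ) < m <;> simp [h] }
  have hE : ∀ a b, hB hF n (E a) (E b) = hB hF m a b := fun a b => by
    rw [hB_apply, hB_apply, Cfsg.hermForm, Cfsg.hermForm]
    refine (Fintype.sum_of_injective (Fin.castLE hmn) (Fin.castLE_injective hmn) _ _ (fun i hi => ?_) fun i => ?_).symm
    · have hnlt : ¬(i : ℕ) < m := fun h => hi ⟨⟨i, h⟩, rfl⟩
      simp [E, hnlt]
    · simp [E]
  have hEi : Function.Injective E := (injective_iff_map_eq_zero E).2 fun a ha =>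
    (hB_nondegenerate hF m).1 a fun b => by rw [← hE, ha, map_zero, LinearMap.zero_apply]
  refine ⟨LinearMap.range E, ⟨?_, fun u hu => by rwa [Matrix.one_mulVec]⟩,
    by rw [LinearMap.finrank_range_of_inj hEi, finrank_fin_fun]⟩
  rintro _ ⟨a, rfl⟩ h
  rw [(hB_nondegenerate hF m).1 a fun b => by rw [← hE]; exact h _ ⟨b, rfl⟩, map_zero]

theorem eq_one_of_pow {p : ℕ} [Fact p.Prime] [CharP F p] {x : F} (h : x ^ p = 1) : x = 1 := by
  have h3 : (x - 1) ^ p = 0 := by rw [sub_pow_char, h, one_pow, sub_self]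
  exact sub_eq_zero.1 (pow_eq_zero_iff (Fact.out : p.Prime).ne_zero |>.1 h3)

/-- The case `r = p`. -/
theorem unip_case (hF : Fintype.card F = q ^ 2) (p : ℕ) [Fact p.Prime] [CharP F p] {n m : ℕ} (hn : 0 < n) (hmn : m ≤ n) :
    AllN hF n m p ↔ ∀ μ : Multiset ℕ, (∀ a ∈ μ, 0 < a ∧ a ≤ p) → μ.sum = n → ∃ ν : Multiset ℕ, ν ≤ μ ∧ ν.sum = m := by
  classical
  constructor
  · intro hall μ hpos hsum
    by_cases hbig : ∃ a ∈ μ, 2 ≤ a
    · obtain ⟨g, hgU, hgp, hmu, hg1⟩ := exists_type hF p hpos hsum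
      have hdet : g.det = 1 := eq_one_of_pow (p := p) (by rw [← Matrix.det_pow, hgp, Matrix.det_one])
      obtain ⟨W, P, hW⟩ := hall g hgU hdet ⟨1, by rw [hgp, one_smul]⟩ fun z hz => by
        have h1 := hgp
        rw [hz, _root_.smul_pow, one_pow] at h1
        have h2 := congrFun (congrFun h1 ⟨0, hn⟩) ⟨0, hn⟩
        have hz1 : z = 1 := eq_one_of_pow (p := p) (by simpa using h2)
        obtain ⟨a, ha, ha2⟩ := hbig
        have h4 := hmu a (by omega)
        have h5 := Multiset.count_pos.2 ha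
        have k := fun i (hi : 1 ≤ i) => Cfsg.Lib.Linear.JordanForms.kd_eq_of_pow_eq_zero
          (Matrix.toLinAlgEquiv' g - 1 : Module.End F (Fin n → F)) (i := i) (toLin_sub_pow (by
            rw [hz, hz1, one_smul, sub_self, zero_pow (by omega)]))
        rw [muM, Cfsg.Lib.Linear.JordanForms.mu, k a (by omega), k (a - 1) (by omega), k (a + 1) (by omega)] at h4
        omega
      obtain ⟨ν, hν, hs⟩ := sub_type hgU hg1 P
      refine ⟨ν, hν.trans (Multiset.le_iff_count.2 fun e => ?_), hs.trans hW⟩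
      rw [count_muSet]
      split_ifs with h
      · exact (hmu e (Finset.mem_Icc.1 h).1).le
      · exact Nat.zero_le _
    · push Not at hbig
      have h1 : ∀ a ∈ μ, a = 1 := fun a ha => by have := hpos a ha; have := hbig a ha; omega
      have h3 := Multiset.eq_replicate_card.2 h1
      rw [h3, Multiset.sum_replicate, smul_eq_mul, mul_one] at hsum
      refine ⟨Multiset.replicate m 1, ?_, by simp⟩
      rw [h3]
      exact (Multiset.replicate_le_replicate 1).2 (by omega)
  · intro hcond M hM hdet ⟨z, hz⟩ _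
    have hzn : z ^ (q + 1) = 1 := S5953.norm_of_scalar hF hn (hz ▸ hM.pow hF p)
    have hpq : p ∣ q := by
      obtain ⟨k, -, hk⟩ := FiniteField.card F p
      rw [hF] at hk
      obtain ⟨l, -, hl⟩ := (Nat.dvd_prime_pow Fact.out).1 (hk ▸ dvd_pow_self q two_ne_zero)
      rcases l with _ | l
      · have := two_le_q hF; rw [hl] at this; simp at this
      · exact ⟨p ^ l, by rw [hl, pow_succ']⟩
    have hco : p.Coprime (q + 1) := (Fact.out : p.Prime).coprime_iff_not_dvd.2 fun h =>
      (Fact.out : p.Prime).one_lt.ne' (Nat.dvd_one.1 (by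
        have h2 := Nat.dvd_sub h hpq
        rwa [Nat.add_sub_cancel_left] at h2))
    obtain ⟨k, hk⟩ := exists_pow_eq_self_of_coprime (x := z) (n := p)
      (hco.coprime_dvd_right (orderOf_dvd_of_pow_eq_one hzn))
    have hkr : (z ^ k) ^ p = z := by rw [← pow_mul, mul_comm, pow_mul, hk]
    have hz0 : z ≠ 0 := fun h => by rw [h, zero_pow (Nat.add_one_ne_zero q)] at hzn; exact zero_ne_one hzn
    set N := (z ^ k)⁻¹ • M with hN
    have hNU : IsU hF N := hM.smul hF (by rw [_root_.inv_pow, ← pow_mul, mul_comm, pow_mul, hzn, one_pow, inv_one])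
    haveI : Nonempty (Fin n) := ⟨⟨0, hn⟩⟩
    haveI : CharP (Matrix (Fin n) (Fin n) F) p := inferInstance
    have hNp : (N - 1) ^ p = 0 := by
      rw [sub_pow_char_of_commute (R := Matrix (Fin n) (Fin n) F) p (Commute.one_right _), one_pow, hN, _root_.smul_pow, hz,
        smul_smul, _root_.inv_pow, hkr, inv_mul_cancel₀ hz0, one_smul, sub_self]
    obtain ⟨ν, hν, hνm⟩ := hcond (muSet N p) (fun a ha => mem_muSet ha) (sum_muSet hNp)
    have hfix := sub_exists n N hNU ⟨p, hNp⟩ ν (fun h => lt_irrefl 0 (mem_muSet (Multiset.mem_of_le hν h)).1)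
      fun j hj => by
        refine (Multiset.le_iff_count.1 hν j).trans ?_
        rw [count_muSet]
        split_ifs
        · exact le_rfl
        · exact Nat.zero_le _
    rw [hνm] at hfix
    have h1 := fixesN_smul hF (z ^ k) hfix
    rwa [hN, smul_smul, mul_inv_cancel₀ (pow_ne_zero _ hz0), one_smul] at h1

/-- Partitions into ones and twos. -/
theorem two_parts {n m : ℕ} (hmn : m ≤ n) :
    (∀ μ : Multiset ℕ, (∀ a ∈ μ, 0 < a ∧ a ≤ 2) → μ.sum = n → ∃ ν : Multiset ℕ, ν ≤ μ ∧ ν.sum = m) ↔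
      (Odd n ∨ Even m) := by
  classical
  constructor
  · intro h
    by_contra hcon
    rw [not_or, Nat.not_odd_iff_even, Nat.not_even_iff_odd] at hcon
    obtain ⟨N, hN⟩ := hcon.1
    obtain ⟨ν, hν, hs⟩ := h (Multiset.replicate N 2)
      (fun a ha => by rw [Multiset.eq_of_mem_replicate ha]; omega) (by simp; omega)
    obtain ⟨k, -, rfl⟩ := Multiset.le_replicate_iff.1 hν
    rw [Multiset.sum_replicate, smul_eq_mul] at hs
    have := Nat.odd_iff.1 hcon.2
    omega
  · intro h μ hpos hsum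
    have hμ : μ = Multiset.replicate (μ.count 2) 2 + Multiset.replicate (μ.count 1) 1 := by
      refine Multiset.ext.2 fun a => ?_
      rw [Multiset.count_add, Multiset.count_replicate, Multiset.count_replicate]
      by_cases ha : a ∈ μ
      · have := hpos a ha
        rcases (show a = 1 ∨ a = 2 by omega) with rfl | rfl <;> simp
      · rw [Multiset.count_eq_zero_of_notMem ha]
        split_ifs with e1 e2 <;> first | rfl | (subst_vars; simp_all)
    have hs := congrArg Multiset.sum hμ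
    rw [hsum, Multiset.sum_add, Multiset.sum_replicate, Multiset.sum_replicate, smul_eq_mul, smul_eq_mul, mul_one] at hs
    rw [Nat.odd_iff, Nat.even_iff] at h
    refine ⟨Multiset.replicate (min (m / 2) (μ.count 2)) 2 +
      Multiset.replicate (m - 2 * min (m / 2) (μ.count 2)) 1, ?_, ?_⟩
    · conv_rhs => rw [hμ]
      exact add_le_add ((Multiset.replicate_le_replicate 2).2 (by omega)) ((Multiset.replicate_le_replicate 1).2 (by omega))
    · rw [Multiset.sum_add, Multiset.sum_replicate, Multiset.sum_replicate, smul_eq_mul, smul_eq_mul, mul_one]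
      omega

theorem exists_sub_fun {α : Type*} [DecidableEq α] (s : Finset α) (f : α → ℕ) :
    ∀ m, m ≤ ∑ x ∈ s, f x → ∃ μ : α → ℕ, (∀ x, μ x ≤ f x) ∧ (∀ x ∉ s, μ x = 0) ∧ ∑ x ∈ s, μ x = m := by
  induction s using Finset.induction with
  | empty => intro m hm; exact ⟨0, fun x => Nat.zero_le _, fun _ _ => rfl, by simpa using (Nat.le_zero.1 (by simpa using hm)).symm⟩
  | insert a s has ih =>
    intro m hm
    rw [Finset.sum_insert has] at hm
    obtain ⟨μ, h1, h2, h3⟩ := ih (m - min m (f a)) (by omega)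
    refine ⟨Function.update μ a (min m (f a)), fun x => ?_, fun x hx => ?_, ?_⟩
    · rcases eq_or_ne x a with rfl | hne
      · rw [Function.update_self]; exact min_le_right _ _
      · rw [Function.update_of_ne hne]; exact h1 x
    · rw [Finset.mem_insert, not_or] at hx
      rw [Function.update_of_ne hx.1]; exact h2 x hx.2
    · rw [Finset.sum_insert has, Function.update_self,
        Finset.sum_congr rfl fun x hx => Function.update_of_ne (fun e => has (by rw [← e]; exact hx)) _ μ, h3]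
      omega

variable {r : ℕ} [Fact r.Prime]

/-- `M ^ r` a scalar with a root of norm one. -/
theorem root_case (hF : Fintype.card F = q ^ 2) (hrF : (r : F) ≠ 0) (hrd : r ∣ q + 1) {n m : ℕ} (hmn : m ≤ n)
    {M : Matrix (Fin n) (Fin n) F} (hM : IsU hF M) {y : F} (hyq : y ^ (q + 1) = 1) (hy : M ^ r = y ^ r • 1) :
    FixesN hF m M := by
  classical
  have hy0 : y ≠ 0 := fun h0 => by rw [h0, zero_pow (Nat.add_one_ne_zero q)] at hyq; exact zero_ne_one hyq
  have hq1 : (q : ZMod r) = -1 := by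
    rw [eq_neg_iff_add_eq_zero, ← Nat.cast_one, ← Nat.cast_add]
    exact (ZMod.natCast_eq_zero_iff _ _).2 hrd
  let qu : (ZMod r)ˣ := -1
  have hqu : (qu : ZMod r) = (q : ZMod r) := by rw [hq1]; simp [qu]
  let L := AlgebraicClosure F
  have hrL : (r : L) ≠ 0 := fun h => hrF ((algebraMap F L).injective (by rw [map_natCast, map_zero]; exact h))
  haveI : NeZero (r : L) := ⟨hrL⟩
  obtain ⟨ζ, hζ⟩ := HasEnoughRootsOfUnity.exists_primitiveRoot L r
  have hN : IsU hF (y⁻¹ • M) := hM.smul hF (by rw [_root_.inv_pow, hyq, inv_one])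
  have hNr : (y⁻¹ • M) ^ r = 1 := by
    rw [_root_.smul_pow, hy, smul_smul, _root_.inv_pow, inv_mul_cancel₀ (pow_ne_zero _ hy0), one_smul]
  obtain ⟨f, hf, hfs⟩ := exists_mult (L := L) hζ _ hNr
  obtain ⟨μ, hle, -, hs⟩ := exists_sub_fun Finset.univ f m (by rw [hfs]; exact hmn)
  have h := exists_piece_of_mult hF hζ hrL hrF hqu _ hN hNr hf (m := m) (μ := μ)
    ⟨hs, fun x => by simp [qu]⟩ hle
  have h1 := fixesN_smul hF y h
  rwa [smul_smul, mul_inv_cancel₀ hy0, one_smul] at h1

/-- `M ^ r` a scalar without a root. -/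
theorem noroot_pieces (hF : Fintype.card F = q ^ 2) (hrd : r ∣ q + 1) {z : F} (hzq : z ^ (q + 1) = 1)
    (hnp : ∀ y : F, y ^ r ≠ z) (j : ℕ) : ∀ {n : ℕ} (M : Matrix (Fin n) (Fin n) F), IsU hF M → M ^ r = z • 1 →
      j * r ≤ n → FixesN hF (j * r) M := by
  classical
  induction j with
  | zero => intro n M _ _ _; exact ⟨⊥, piece_bot hF, by simp⟩
  | succ j ih =>
    intro n M hM hz hj
    rw [add_one_mul] at hj ⊢
    have hr0 := (Fact.out : r.Prime).pos
    obtain ⟨v, hv⟩ := exists_aniso hF (show 0 < n by omega)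
    let C : Submodule F (Fin n → F) := Submodule.span F (Set.range fun k : Fin r => (M ^ (k : ℕ)) *ᵥ v)
    have hvC : v ∈ C := Submodule.subset_span ⟨⟨0, hr0⟩, by simp⟩
    have hCinv : ∀ x ∈ C, M *ᵥ x ∈ C := fun x hx => by
      have hle : C ≤ C.comap (Matrix.mulVecLin M) := Submodule.span_le.2 (by
        rintro _ ⟨k, rfl⟩
        show M *ᵥ ((M ^ (k : ℕ)) *ᵥ v) ∈ C
        rw [Matrix.mulVec_mulVec, ← pow_succ']
        by_cases hk : (k : ℕ) + 1 < r
        · exact Submodule.subset_span ⟨⟨(k : ℕ) + 1, hk⟩, rfl⟩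
        · have h2 := k.2
          rw [show (k : ℕ) + 1 = r by omega, hz, Matrix.smul_mulVec, Matrix.one_mulVec]
          exact C.smul_mem _ hvC)
      exact hle hx
    obtain ⟨e, he⟩ := S5953.dvd_finrank hF hrd hzq hz hnp hCinv
    have hCr : finrank F C ≤ r := (finrank_range_le_card _).trans (Fintype.card_fin r).le
    have hCpos : 0 < finrank F C := Submodule.one_le_finrank_iff.2 fun h => hv (by
      have hv0 : v = 0 := (Submodule.mem_bot F).1 (h ▸ hvC)
      rw [hv0, map_zero])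
    have hC : finrank F C = r := by
      rcases e with _ | _ | e
      · rw [mul_zero] at he; omega
      · omega
      · have : r * 2 ≤ r * (e + 1 + 1) := Nat.mul_le_mul_left r (by omega)
        omega
    have hR : ∀ x ∈ C ⊓ perp hF C, M *ᵥ x ∈ C ⊓ perp hF C := fun x hx => ⟨hCinv x hx.1, fun w hw => by
      obtain ⟨w', hw', rfl⟩ := exists_preimage hF hM hCinv hw
      rw [(isU_iff hF M).1 hM]
      exact hx.2 w' hw'⟩
    have P : PieceH hF M C := by
      refine ⟨fun u hu h => ?_, hCinv⟩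
      obtain ⟨e', he'⟩ := S5953.dvd_finrank hF hrd hzq hz hnp hR
      have hlt : finrank F ↥(C ⊓ perp hF C) < finrank F C := Submodule.finrank_lt_finrank_of_lt
        (lt_of_le_of_ne inf_le_left fun e => hv (by
          have : v ∈ C ⊓ perp hF C := e.symm ▸ hvC
          exact this.2 v hvC))
      have h0 : e' = 0 := by
        rcases e' with _ | e'
        · rfl
        · have : r * 1 ≤ r * (e' + 1) := Nat.mul_le_mul_left r (by omega)
          omega
      rw [h0, mul_zero, Submodule.finrank_eq_zero] at he'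
      have : u ∈ C ⊓ perp hF C := ⟨hu, fun w hw => hB_symm_zero hF (h w hw)⟩
      rwa [he', Submodule.mem_bot] at this
    obtain ⟨L, T, -, hinj, hT, hMT, huse⟩ := P.split hM hC (Nat.add_sub_cancel' (show r ≤ n by omega))
    rw [add_comm]
    exact (huse _ (ih T hT (frame_scalar hinj hMT hz) (by omega))).2

/-- Unitary square roots of non-squares. -/
theorem noroot_two (hF : Fintype.card F = q ^ 2) (h2 : (2 : F) ≠ 0) {n : ℕ} {M : Matrix (Fin n) (Fin n) F}
    (hM : IsU hF M) {l : F} (hl : l ^ (q + 1) = -1) (hz : M ^ 2 = (l * l) • 1) :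
    (∃ N, n = N + N ∧ M.det = (-(l * l)) ^ N) ∧ (0 < n → ∃ W, PieceH hF M W ∧ finrank F W = 2) := by
  classical
  have hq := two_le_q hF
  have hl0 : l ≠ 0 := fun h => by
    rw [h, zero_pow (Nat.add_one_ne_zero q)] at hl; exact one_ne_zero (neg_eq_zero.1 hl.symm)
  have hqodd : Odd q := by
    rw [← Nat.not_even_iff_odd]
    intro he
    have h1 := FiniteField.odd_card_of_char_ne_two (F := F) fun h => h2 (by
      haveI : CharP F 2 := ringChar.of_eq h
      exact CharTwo.two_eq_zero)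
    rw [hF] at h1
    have := Nat.even_iff.1 (Nat.even_pow.2 ⟨he, two_ne_zero⟩)
    omega
  have hact : ∀ v, M *ᵥ (M *ᵥ v) = (l * l) • v := fun v => by
    rw [Matrix.mulVec_mulVec, ← pow_two M, hz, Matrix.smul_mulVec, Matrix.one_mulVec]
  obtain ⟨E, hE⟩ : ∃ E : F → Submodule F (Fin n → F), ∀ c x, x ∈ E c ↔ M *ᵥ x = c • x :=
    ⟨fun c => LinearMap.ker (Matrix.mulVecLin M - c • LinearMap.id), fun c x => by simp [sub_eq_zero]⟩
  have hti : ∀ c, c ^ (q + 1) = -1 → ∀ u ∈ E c, ∀ v ∈ E c, hB hF n u v = 0 := fun c hc u hu v hv => by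
    have h1 := (isU_iff hF M).1 hM u v
    rw [(hE c u).1 hu, (hE c v).1 hv] at h1
    simp only [map_smul, LinearMap.map_smulₛₗ, LinearMap.smul_apply, smul_eq_mul, frob_apply] at h1
    have h3 : (2 : F) * hB hF n u v = 0 := by linear_combination -h1 + (hB hF n u v) * hc
    exact (mul_eq_zero.1 h3).resolve_left h2
  have hsplit : ∀ x, ∃ a ∈ E l, ∃ b ∈ E (-l), (2 * l) • x = a + b := fun x =>
    ⟨l • x + M *ᵥ x, (hE _ _).2 (by rw [Matrix.mulVec_add, Matrix.mulVec_smul, hact]; module),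
      l • x - M *ᵥ x, (hE _ _).2 (by rw [Matrix.mulVec_sub, Matrix.mulVec_smul, hact]; module), by module⟩
  refine ⟨?_, fun hn => ?_⟩
  · have hcompl : IsCompl (E l) (E (-l)) := by
      refine ⟨Submodule.disjoint_def.2 fun x h1 h3 => ?_, codisjoint_iff.2 (eq_top_iff.2 fun x _ => ?_)⟩
      · have h4 : (2 * l) • x = 0 := by
          rw [show (2 * l) • x = l • x - (-l) • x by module, ← (hE l x).1 h1, ← (hE _ x).1 h3, sub_self]
        exact (smul_eq_zero.1 h4).resolve_left (mul_ne_zero h2 hl0)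
      · obtain ⟨a, ha, b, hb, hab⟩ := hsplit x
        rw [← inv_smul_smul₀ (mul_ne_zero h2 hl0) x, hab]
        exact Submodule.smul_mem _ _ (Submodule.add_mem_sup ha hb)
    have hhalf : ∀ c, c ^ (q + 1) = -1 → 2 * finrank F (E c) ≤ n := fun c hc => by
      have h1 : E c ≤ perp hF (E c) := fun x hx w hw => hti c hc w hw x hx
      have h3 := Submodule.finrank_mono h1
      have h4 := finrank_perp hF (E c)
      omega
    have hdim := Submodule.finrank_add_eq_of_isCompl hcompl
    rw [finrank_fin_fun] at hdim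
    have ha := hhalf l hl
    have hb := hhalf (-l) (by rw [hqodd.add_one.neg_pow, hl])
    refine ⟨finrank F (E l), by omega, ?_⟩
    let e := Submodule.prodEquivOfIsCompl _ _ hcompl
    let P : (E l × E (-l)) →ₗ[F] (E l × E (-l)) :=
      LinearMap.prodMap (l • LinearMap.id) ((-l) • LinearMap.id)
    have hconj : (e : (E l × E (-l)) →ₗ[F] _) ∘ₗ P ∘ₗ (e.symm : (Fin n → F) →ₗ[F] _) = Matrix.toLin' M := by
      refine LinearMap.ext fun x => ?_
      obtain ⟨⟨u, w⟩, rfl⟩ := e.surjective x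
      show e (P (e.symm (e (u, w)))) = Matrix.toLin' M (e (u, w))
      rw [LinearEquiv.symm_apply_apply]
      simp only [P, LinearMap.prodMap_apply,
        LinearMap.id_apply, LinearMap.smul_apply, e, Submodule.coe_prodEquivOfIsCompl', Submodule.coe_smul,
        Matrix.toLin'_apply, Matrix.mulVec_add, (hE l _).1 u.2, (hE _ _).1 w.2]
    rw [← LinearMap.det_toLin', ← hconj, LinearMap.det_conj, LinearMap.det_prodMap, LinearMap.det_smul,
      LinearMap.det_smul, LinearMap.det_id, LinearMap.det_id, mul_one, mul_one,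
      show finrank F (E (-l)) = finrank F (E l) by omega, ← mul_pow]
    ring
  · obtain ⟨c, hcq, hc, u, hu, hu0⟩ : ∃ c : F, c ^ (q + 1) = -1 ∧ c * c = l * l ∧ ∃ u ∈ E c, u ≠ 0 := by
      obtain ⟨a, ha, b, hb, hab⟩ := hsplit (Pi.single ⟨0, hn⟩ 1)
      by_cases ha0 : a = 0
      · refine ⟨-l, by rw [hqodd.add_one.neg_pow, hl], by ring, b, hb, fun hb0 => ?_⟩
        rw [ha0, hb0, add_zero] at hab
        have := congrFun hab ⟨0, hn⟩
        simp [h2, hl0] at this
      · exact ⟨l, hl, rfl, a, ha, ha0⟩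
    have hc0 : c ≠ 0 := fun h => hl0 (mul_self_eq_zero.1 (by rw [← hc, h, zero_mul]))
    obtain ⟨v, hv⟩ : ∃ v, hB hF n u v ≠ 0 := by
      by_contra h
      push Not at h
      exact hu0 ((hB_nondegenerate hF n).1 u h)
    set b := c • v - M *ᵥ v with hb
    have hMb : M *ᵥ b = (-c) • b := by
      rw [hb, Matrix.mulVec_sub, Matrix.mulVec_smul, hact, ← hc]; module
    have hcc : frob hF c * c = -1 := by rw [frob_apply, ← pow_succ, hcq]
    have hub : hB hF n u b ≠ 0 := by
      have h1 := (isU_iff hF M).1 hM u v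
      rw [(hE c u).1 hu, LinearMap.map_smulₛₗ, LinearMap.smul_apply, smul_eq_mul] at h1
      rw [hb, map_sub, map_smul, smul_eq_mul,
        show hB hF n u (M *ᵥ v) = -(c * hB hF n u v) by
          linear_combination (-c) * h1 + hB hF n u (M *ᵥ v) * hcc]
      rw [sub_neg_eq_add, ← two_mul]
      exact mul_ne_zero h2 (mul_ne_zero hc0 hv)
    have huu := hti c hcq u hu u hu
    have hbb := hti (-c) (by rw [hqodd.add_one.neg_pow, hcq]) b ((hE _ b).2 hMb) b ((hE _ b).2 hMb)
    have hbu : hB hF n b u ≠ 0 := fun h => hub (hB_symm_zero hF h)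
    have key : ∀ s t : F, (∀ w ∈ Submodule.span F ({u, b} : Set (Fin n → F)), hB hF n (s • u + t • b) w = 0) →
        s = 0 ∧ t = 0 := fun s t h => by
      have h1 := h b (Submodule.subset_span (by simp))
      have h3 := h u (Submodule.subset_span (by simp))
      simp only [map_add, LinearMap.map_smulₛₗ, LinearMap.add_apply, LinearMap.smul_apply, smul_eq_mul, huu, hbb,
        mul_zero, add_zero, zero_add] at h1 h3
      exact ⟨(_root_.map_eq_zero _).1 ((mul_eq_zero.1 h1).resolve_right hub),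
        (_root_.map_eq_zero _).1 ((mul_eq_zero.1 h3).resolve_right hbu)⟩
    refine ⟨Submodule.span F {u, b}, ⟨fun x hx h => ?_, fun x hx => ?_⟩, ?_⟩
    · obtain ⟨s, t, rfl⟩ := Submodule.mem_span_pair.1 hx
      obtain ⟨rfl, rfl⟩ := key s t h
      simp
    · obtain ⟨s, t, rfl⟩ := Submodule.mem_span_pair.1 hx
      rw [Matrix.mulVec_add, Matrix.mulVec_smul, Matrix.mulVec_smul, (hE c u).1 hu, hMb]
      exact Submodule.add_mem _ (Submodule.smul_mem _ _ (Submodule.smul_mem _ _ (Submodule.subset_span (by simp))))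
        (Submodule.smul_mem _ _ (Submodule.smul_mem _ _ (Submodule.subset_span (by simp))))
    · rw [← Matrix.range_cons_cons_empty u b Matrix.vecEmpty]
      refine finrank_span_eq_card (LinearIndependent.pair_iff.2 fun s t hst => ?_) |>.trans (Fintype.card_fin 2)
      exact key s t fun w _ => by rw [hst, map_zero, LinearMap.zero_apply]

theorem noroot_two_even (hF : Fintype.card F = q ^ 2) (h2 : (2 : F) ≠ 0) {l : F} (hl : l ^ (q + 1) = -1) (j : ℕ) :
    ∀ {n : ℕ} (M : Matrix (Fin n) (Fin n) F), IsU hF M → M ^ 2 = (l * l) • 1 → 2 * j ≤ n → FixesN hF (2 * j) M := by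
  induction j with
  | zero => intro n M _ _ _; exact ⟨⊥, piece_bot hF, by simp⟩
  | succ j ih =>
    intro n M hM hz hj
    obtain ⟨W, P, hW⟩ := (noroot_two hF h2 hM hl hz).2 (by omega)
    obtain ⟨L, T, -, hinj, hT, hMT, huse⟩ := P.split hM hW (Nat.add_sub_cancel' (show 2 ≤ n by omega))
    rw [show 2 * (j + 1) = 2 + 2 * j by ring]
    exact (huse _ (ih T hT (frame_scalar hinj hMT hz) (by omega))).2

theorem half_norm (hF : Fintype.card F = q ^ 2) {z : F} (hzq : z ^ (q + 1) = 1) (hodd : Odd q) :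
    ∃ l : F, l * l = z ∧ (l ^ (q + 1) = 1 ∨ l ^ (q + 1) = -1) := by
  obtain ⟨l, hl⟩ : ∃ l : F, l ^ 2 = z := S5953.exists_root hF (even_iff_two_dvd.1 hodd.add_one) hzq (by
    obtain ⟨k, hk⟩ := hodd
    rw [show (q + 1) * (q - 1) / 2 = (q + 1) * k by
      rw [show q - 1 = k * 2 by omega, ← mul_assoc, Nat.mul_div_cancel _ two_pos], pow_mul, hzq, one_pow])
  refine ⟨l, by rw [← pow_two]; exact hl, ?_⟩
  refine mul_self_eq_one_iff.1 ?_
  rw [← mul_pow, ← pow_two l, hl, hzq]

/-- The case `r = 2`. -/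
theorem two_case (hF : Fintype.card F = q ^ 2) (h2 : (2 : F) ≠ 0) {n m : ℕ} (hn : 1 ≤ n) (hmn : m ≤ n) :
    AllN hF n m 2 ↔ (Odd n ∨ Even m ∨ (padicValNat 2 n ≤ padicValNat 2 (q + 1) ∧ q % 4 = 3)) := by
  classical
  haveI : Fact (Nat.Prime 2) := ⟨Nat.prime_two⟩
  have hq := two_le_q hF
  have hqodd : Odd q := by
    rw [← Nat.not_even_iff_odd]
    intro he
    have h1 := FiniteField.odd_card_of_char_ne_two (F := F) fun h => h2 (by
      haveI : CharP F 2 := ringChar.of_eq h
      exact CharTwo.two_eq_zero)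
    rw [hF] at h1
    have := Nat.even_iff.1 (Nat.even_pow.2 ⟨he, two_ne_zero⟩)
    omega
  have hrd : 2 ∣ q + 1 := even_iff_two_dvd.1 hqodd.add_one
  constructor
  · intro hall
    by_contra hcon
    rw [not_or, not_or, Nat.not_odd_iff_even, Nat.not_even_iff_odd, not_and] at hcon
    obtain ⟨⟨N, hN⟩, hmo, hcon⟩ := hcon
    obtain ⟨z, hzq, hzN, hns⟩ : ∃ z : F, z ^ (q + 1) = 1 ∧ (-z) ^ N = 1 ∧ ∀ y : F, y ^ (q + 1) = 1 → y * y ≠ z := by
      by_cases h4 : q % 4 = 3
      · have hv : padicValNat 2 (q + 1) + 1 ≤ padicValNat 2 n := by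
          have := fun h => hcon h h4
          omega
        set a := padicValNat 2 (q + 1)
        obtain ⟨z, hz, hzq⟩ := S5953.exists_norm_one_order hF (d := 2 ^ a) pow_padicValNat_dvd
        have ha1 : 1 ≤ a := one_le_padicValNat_of_dvd (Nat.add_one_ne_zero q) hrd
        obtain ⟨s, hs⟩ : 2 ^ a ∣ N := Nat.dvd_of_mul_dvd_mul_left two_pos (by
          rw [← pow_succ', two_mul, ← hN]; exact (padicValNat_dvd_iff_le (by omega)).2 hv)
        refine ⟨z, hzq, ?_, fun y hy hyz => ?_⟩
        · have hNe : Even N := by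
            rw [hs, Nat.even_mul, Nat.even_pow]; exact Or.inl ⟨even_two, by omega⟩
          rw [hNe.neg_pow, hs, pow_mul, ← Units.val_pow_eq_pow_val, ← hz, pow_orderOf_eq_one, Units.val_one, one_pow]
        · obtain ⟨t, ht⟩ := hrd
          have h1 : (z : F) ^ t = 1 := by rw [← hyz, ← pow_two, ← pow_mul, ← ht, hy]
          rw [← Units.val_pow_eq_pow_val, Units.val_eq_one, ← orderOf_dvd_iff_pow_eq_one, hz] at h1
          have h3 := (padicValNat_dvd_iff_le (p := 2) (Nat.add_one_ne_zero q) (n := a + 1)).1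
            (by rw [ht, pow_succ']; exact Nat.mul_dvd_mul_left 2 h1)
          omega
      · refine ⟨-1, by rw [hqodd.add_one.neg_one_pow], by rw [neg_neg, one_pow], fun y hy hyz => ?_⟩
        obtain ⟨t, ht⟩ := hrd
        have hto : Odd t := by rw [Nat.odd_iff]; rw [Nat.odd_iff] at hqodd; omega
        rw [ht, pow_mul, pow_two, hyz, hto.neg_one_pow] at hy
        exact h2 (by linear_combination -hy)
    let C : Matrix (Fin 2) (Fin 2) F := !![0, z; 1, 0]
    have hC : adj hF C * C = 1 := by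
      have hzz : z ^ q * z = 1 := by rw [← pow_succ, hzq]
      ext i j
      fin_cases i <;> fin_cases j <;>
        simp [C, adj, Matrix.mul_apply, Fin.sum_univ_two, frob_apply hF, hzz, zero_pow (show q ≠ 0 by omega)]
    have hC2 : C ^ 2 = z • 1 := by
      rw [pow_two]
      ext i j
      fin_cases i <;> fin_cases j <;> simp [C, Matrix.mul_apply, Fin.sum_univ_two]
    have hCd : C.det = -z := by simp [C, Matrix.det_fin_two]
    let e : Fin 2 × Fin N ≃ Fin n := Fintype.equivFinOfCardEq (by simp; omega)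
    let R := Matrix.reindexAlgEquiv F F e
    let X := Matrix.blockDiagonal fun _ : Fin N => C
    have hXU : IsU hF (R X) := by
      show adj hF (R X) * R X = 1
      rw [show adj hF (R X) = R (adj hF X) from rfl, ← map_mul]
      rw [show adj hF X = Matrix.blockDiagonal fun _ : Fin N => adj hF C by
        simp [X, adj, Matrix.blockDiagonal_map, Matrix.blockDiagonal_transpose], ← Matrix.blockDiagonal_mul]
      rw [show (fun _ : Fin N => adj hF C * C) = (fun _ : Fin N => (1 : Matrix (Fin 2) (Fin 2) F)) from funext fun _ => hC]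
      rw [show (fun _ : Fin N => (1 : Matrix (Fin 2) (Fin 2) F)) = 1 from rfl, Matrix.blockDiagonal_one, map_one]
    have hXr : R X ^ 2 = z • 1 := by
      rw [← map_pow, ← Matrix.blockDiagonal_pow, show ((fun _ : Fin N => C) ^ 2) =
        z • (1 : Fin N → Matrix (Fin 2) (Fin 2) F) from funext fun _ => hC2, Matrix.blockDiagonal_smul,
        Matrix.blockDiagonal_one, map_smul, map_one]
    have hXd : (R X).det = 1 := by
      rw [Matrix.det_reindexAlgEquiv, Matrix.det_blockDiagonal, Finset.prod_const, Finset.card_univ, Fintype.card_fin, hCd, hzN]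
    obtain ⟨W, P, hW⟩ := hall _ hXU hXd ⟨z, hXr⟩ fun s hs => by
      have h1 := hXr
      rw [hs, _root_.smul_pow, one_pow] at h1
      have h3 := congrFun (congrFun h1 ⟨0, by omega⟩) ⟨0, by omega⟩
      exact hns s (S5953.norm_of_scalar hF (by omega) (hs ▸ hXU)) (by simpa [pow_two] using h3)
    obtain ⟨l, hl, hlq⟩ := half_norm hF hzq hqodd
    have hlq' : l ^ (q + 1) = -1 := hlq.resolve_left fun h => hns l h hl
    obtain ⟨L, T, -, hinj, -, hT, hMT⟩ := P.frame hXU hW
    obtain ⟨K, hK, -⟩ := (noroot_two hF h2 hT hlq' (frame_scalar hinj hMT (by rw [hl]; exact hXr))).1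
    rw [Nat.odd_iff] at hmo
    omega
  · intro hcond M hM hdet ⟨z, hz⟩ _
    have hzn : z ^ (q + 1) = 1 := S5953.norm_of_scalar hF (by omega) (hz ▸ hM.pow hF 2)
    obtain ⟨l, hl, hlq | hlq⟩ := half_norm hF hzn hqodd
    · exact root_case hF (by exact_mod_cast h2) hrd hmn hM hlq (by rw [hz, ← hl, pow_two l])
    rw [← hl] at hz
    obtain ⟨N, hN, hd⟩ := (noroot_two hF h2 hM hlq hz).1
    have hme : Even m := by
      rcases hcond with h | h | ⟨hv, h4⟩
      · rw [Nat.odd_iff] at h; omega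
      · exact h
      · exfalso
        set a := padicValNat 2 (q + 1)
        have hone : (-(l * l)) ^ N = 1 := hd.symm.trans hdet
        have hq1 : (-(l * l)) ^ (q + 1) = 1 := by rw [hqodd.add_one.neg_pow, mul_pow, hlq]; ring
        have hg := pow_gcd_eq_one.mpr ⟨hone, hq1⟩
        obtain ⟨t, ht⟩ := Nat.gcd_dvd_right N (q + 1)
        rcases Nat.even_or_odd t with hte | hto
        · obtain ⟨t', rfl⟩ := hte
          have hh : (-(l * l)) ^ (N.gcd (q + 1) * t') = 1 := by rw [pow_mul, hg, one_pow]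
          have hev : Even (N.gcd (q + 1) * t') := by rw [Nat.even_iff]; rw [Nat.mul_add] at ht; omega
          rw [hev.neg_pow, ← pow_two, ← pow_mul, show 2 * (N.gcd (q + 1) * t') = q + 1 by rw [Nat.mul_add] at ht; omega,
            hlq] at hh
          exact h2 (by linear_combination -hh)
        · have h1 : 2 ^ a ∣ N := by
            have h3 : 2 ^ a ∣ N.gcd (q + 1) * t := ht ▸ pow_padicValNat_dvd
            exact ((Nat.Coprime.pow_left a (Nat.coprime_two_left.2 hto)).dvd_of_dvd_mul_right h3).trans (Nat.gcd_dvd_left _ _)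
          have h3 := (padicValNat_dvd_iff_le (p := 2) (a := n) (n := a + 1) (by omega)).1 (by
            rw [hN, ← two_mul, pow_succ']; exact Nat.mul_dvd_mul_left 2 h1)
          omega
    obtain ⟨j, rfl⟩ := hme
    rw [← two_mul]
    exact noroot_two_even hF h2 hlq j M hM hz (by omega)

/-- The case `r ∣ q + 1`, `r` odd. -/
theorem plus_case (hF : Fintype.card F = q ^ 2) (hr2 : r ≠ 2) (hrF : (r : F) ≠ 0) (hrd : r ∣ q + 1) {n m : ℕ}
    (hn : 0 < n) (hmn : m ≤ n) :
    AllN hF n m r ↔ (r ∣ m ∨ padicValNat r n ≤ padicValNat r (q + 1)) := by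
  classical
  have hr := (Fact.out : r.Prime)
  have hn0 : n ≠ 0 := by omega
  constructor
  · intro hall
    by_contra hcon
    push Not at hcon
    obtain ⟨hrm, hv⟩ := hcon
    set a := padicValNat r (q + 1) with hadef
    obtain ⟨z, hz, hzq⟩ := S5953.exists_norm_one_order hF (d := r ^ a) pow_padicValNat_dvd
    obtain ⟨N, hN⟩ : r ∣ n := (dvd_pow_self r (Nat.succ_ne_zero a)).trans ((padicValNat_dvd_iff_le hn0).2 hv)
    have hzN : (z : F) ^ N = 1 := by
      obtain ⟨s, hs⟩ : r ^ a ∣ N := Nat.dvd_of_mul_dvd_mul_left hr.pos (by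
        rw [← pow_succ', ← hN]; exact (padicValNat_dvd_iff_le hn0).2 hv)
      rw [hs, pow_mul, ← Units.val_pow_eq_pow_val, ← hz, pow_orderOf_eq_one, Units.val_one, one_pow]
    have hnp : ∀ y : F, y ^ r ≠ z := fun y hy => by
      have h1 := S5953.root_norm hF hr2 hrd hzq hy
      obtain ⟨s, hs⟩ := hrd
      have h2 : (z : F) ^ s = 1 := by rw [← hy, ← pow_mul, ← hs, h1]
      rw [← Units.val_pow_eq_pow_val, Units.val_eq_one, ← orderOf_dvd_iff_pow_eq_one, hz] at h2
      have h3 := (padicValNat_dvd_iff_le (p := r) (Nat.add_one_ne_zero q) (n := a + 1)).1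
        (by rw [hs, pow_succ']; exact Nat.mul_dvd_mul_left r h2)
      omega
    obtain ⟨C, hC, hCr, hCd⟩ := S5953.exists_cyc_block hF hr2 hzq
    let e : ZMod r × Fin N ≃ Fin n := Fintype.equivFinOfCardEq (by simp [hN])
    let R := Matrix.reindexAlgEquiv F F e
    let X := Matrix.blockDiagonal fun _ : Fin N => C
    have hXU : IsU hF (R X) := by
      show adj hF (R X) * R X = 1
      rw [show adj hF (R X) = R (adj hF X) from rfl, ← map_mul]
      rw [show adj hF X = Matrix.blockDiagonal fun _ : Fin N => adj hF C by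
        simp [X, adj, Matrix.blockDiagonal_map, Matrix.blockDiagonal_transpose], ← Matrix.blockDiagonal_mul]
      rw [show (fun _ : Fin N => adj hF C * C) = (fun _ : Fin N => (1 : Matrix (ZMod r) (ZMod r) F)) from funext fun _ => hC]
      rw [show (fun _ : Fin N => (1 : Matrix (ZMod r) (ZMod r) F)) = 1 from rfl, Matrix.blockDiagonal_one, map_one]
    have hXr : R X ^ r = (z : F) • 1 := by
      rw [← map_pow, ← Matrix.blockDiagonal_pow, show ((fun _ : Fin N => C) ^ r) =
        (z : F) • (1 : Fin N → Matrix (ZMod r) (ZMod r) F) from funext fun _ => hCr, Matrix.blockDiagonal_smul,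
        Matrix.blockDiagonal_one, map_smul, map_one]
    have hXd : (R X).det = 1 := by
      rw [Matrix.det_reindexAlgEquiv, Matrix.det_blockDiagonal, Finset.prod_const, Finset.card_univ, Fintype.card_fin, hCd, hzN]
    obtain ⟨W, P, hWm⟩ := hall _ hXU hXd ⟨z, hXr⟩ fun s hs => hnp s (by
      have h1 := hXr
      rw [hs, _root_.smul_pow, one_pow] at h1
      have h2 := congrFun (congrFun h1 ⟨0, by omega⟩) ⟨0, by omega⟩
      simpa using h2)
    exact hrm (hWm ▸ S5953.dvd_finrank hF hrd hzq hXr hnp P.inv)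
  · intro hdiv M hM hdet ⟨z, hz⟩ _
    have hzn : z ^ (q + 1) = 1 := S5953.norm_of_scalar hF hn (hz ▸ hM.pow hF r)
    by_cases hy : ∃ y : F, y ^ r = z
    · obtain ⟨y, rfl⟩ := hy
      exact root_case hF hrF hrd hmn hM (S5953.root_norm hF hr2 hrd hzn rfl) hz
    push Not at hy
    obtain ⟨N, hnN, hzN⟩ := S5953.pow_eq_one_of_det hr2 hz hy hdet
    have hrm : r ∣ m := by
      refine hdiv.resolve_right fun hv => ?_
      set a := padicValNat r (q + 1) with hadef
      have h1 : r ^ a ∣ N := by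
        by_contra hnd
        obtain ⟨o, ho⟩ : r ^ a ∣ q + 1 := pow_padicValNat_dvd
        obtain ⟨e, hea, hge⟩ := (Nat.dvd_prime_pow hr).1 (Nat.gcd_dvd_left (r ^ a) N)
        have hea' : e < a := lt_of_le_of_ne hea fun h => hnd (by rw [← h, ← hge]; exact Nat.gcd_dvd_right _ _)
        obtain ⟨s, hs⟩ := hrd
        have hz2 : (z ^ (o * r ^ e)) = 1 := by
          rw [← hge, pow_mul]
          exact pow_gcd_eq_one.mpr ⟨by rw [← pow_mul, mul_comm, ← ho, hzn], by
            rw [← pow_mul, mul_comm, pow_mul, hzN, one_pow]⟩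
        have hdvd : o * r ^ e ∣ s := by
          obtain ⟨a', ha'⟩ := Nat.exists_eq_add_of_lt hea'
          refine ⟨r ^ a', ?_⟩
          apply Nat.eq_of_mul_eq_mul_left hr.pos
          rw [← hs, ho, ha']
          ring
        obtain ⟨k, hk⟩ := hdvd
        obtain ⟨y, hy'⟩ := S5953.exists_root hF (⟨s, hs⟩ : r ∣ q + 1) hzn (by
          rw [hs, mul_assoc, Nat.mul_div_cancel_left _ hr.pos, hk, mul_assoc, pow_mul, hz2, one_pow])
        exact hy y hy'
      have h3 := (padicValNat_dvd_iff_le (p := r) hn0 (n := a + 1)).1 (by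
        rw [hnN, pow_succ']; exact Nat.mul_dvd_mul_left r h1)
      omega
    obtain ⟨j, rfl⟩ := hrm
    rw [mul_comm]
    exact noroot_pieces hF hrd hzn hy j M hM hz (by rw [mul_comm]; exact hmn)

/-- The case `r ∤ q + 1`. -/
theorem other_case (hF : Fintype.card F = q ^ 2) (hrF : (r : F) ≠ 0) (hrd : ¬r ∣ q + 1)
    {qu : (ZMod r)ˣ} (hqu : (qu : ZMod r) = (q : ZMod r)) {n m c : ℕ} (hn : 0 < n) (hmn : m ≤ n)
    (hc : orderOf (-qu) = c) : AllN hF n m r ↔ m % c ≤ n % c := by
  classical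
  have hr := (Fact.out : r.Prime)
  let L := AlgebraicClosure F
  have hrL : (r : L) ≠ 0 := fun hL => hrF ((algebraMap F L).injective (by rw [map_natCast, map_zero]; exact hL))
  haveI : NeZero (r : L) := ⟨hrL⟩
  obtain ⟨ζ, hζ⟩ := HasEnoughRootsOfUnity.exists_primitiveRoot L r
  have hco : r.Coprime (q + 1) := hr.coprime_iff_not_dvd.2 hrd
  have hdiv := Nat.div_add_mod n c
  have hc0 : 0 < c := hc ▸ orderOf_pos _
  constructor
  · intro hall
    let f : ZMod r → ℕ := fun x => (if x = 0 then n % c else 0) + n / c * (if x ∈ orbit (-qu) 1 then 1 else 0)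
    have hf : Inv (-qu) n f := by
      refine ⟨?_, fun x => ?_⟩
      · rw [Finset.sum_add_distrib, Finset.sum_ite_eq', if_pos (Finset.mem_univ _), ← Finset.mul_sum,
          sum_orbit_one, hc, mul_comm (n / c)]
        omega
      · exact congrArg₂ (· + ·) (if_congr (by simp) rfl rfl)
          (congrArg (n / c * ·) (if_congr (orbit_indicator (-qu) 1 x) rfl rfl))
    have hf0 : f 0 = n % c := by simp [f, zero_notMem_orbit]
    obtain ⟨A, hA, hAr, hAp⟩ := exists_real hF hζ hrL hrF hqu n f hf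
    have hfix : FixesN hF m A := by
      by_cases hsc : ∃ z : F, A = z • 1
      · obtain ⟨z, rfl⟩ := hsc
        exact fixesN_smul hF z (fixesN_one hF hmn)
      · refine hall A hA ?_ ⟨1, by rw [hAr, one_smul]⟩ fun z hz => hsc ⟨z, hz⟩
        have h1 : A.det ^ r = 1 := by rw [← Matrix.det_pow, hAr, Matrix.det_one]
        have h3 := pow_gcd_eq_one.mpr ⟨h1, S5953.det_norm hF hA⟩
        rwa [hco.gcd_eq_one, pow_one] at h3
    obtain ⟨W, P, hW⟩ := hfix
    obtain ⟨a, J, ha, hJ⟩ := moved_piece hF hζ hrL hrF hqu A hA hAr hAp P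
    rw [hW, hc] at hJ
    rw [hJ, Nat.add_mul_mod_self_left]
    exact (Nat.mod_le _ _).trans (hf0 ▸ ha)
  · intro hle M hM _ ⟨z, hz⟩ _
    have hzn : z ^ (q + 1) = 1 := S5953.norm_of_scalar hF hn (hz ▸ hM.pow hF r)
    obtain ⟨k, hk⟩ := exists_pow_eq_self_of_coprime (x := z) (n := r)
      (hco.coprime_dvd_right (orderOf_dvd_of_pow_eq_one hzn))
    have hkr : (z ^ k) ^ r = z := by rw [← pow_mul, mul_comm, pow_mul, hk]
    have hz0 : z ≠ 0 := fun h => by rw [h, zero_pow (Nat.add_one_ne_zero q)] at hzn; exact zero_ne_one hzn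
    set N := (z ^ k)⁻¹ • M with hN
    have hNU : IsU hF N := hM.smul hF (by rw [_root_.inv_pow, ← pow_mul, mul_comm, pow_mul, hzn, one_pow, inv_one])
    have hNr : N ^ r = 1 := by rw [hN, _root_.smul_pow, hz, smul_smul, _root_.inv_pow, hkr, inv_mul_cancel₀ hz0, one_smul]
    obtain ⟨f, hf, -⟩ := exists_mult (L := L) hζ N hNr
    have hinv := inv_of_unitary hF hζ hrL hqu N hNU hNr hf
    obtain ⟨K, hK⟩ := dvd_sum_erase (-qu) hc _ _ hinv
    have hf0 : f 0 ≤ n := hinv.1 ▸ Finset.single_le_sum (fun y _ => Nat.zero_le _) (Finset.mem_univ (0 : ZMod r))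
    have hkf : n % c ≤ f 0 := by
      rw [show n = f 0 + c * K by omega, Nat.add_mul_mod_self_left]
      exact Nat.mod_le _ _
    have hmdiv := Nat.div_add_mod m c
    set J := min K (m / c) with hJdef
    have hJm : c * J ≤ m := (Nat.mul_le_mul_left c (min_le_right _ _)).trans (Nat.mul_div_le _ _)
    have hJK : c * J ≤ c * K := Nat.mul_le_mul_left c (min_le_left _ _)
    have hrest : m - c * J ≤ f 0 := by
      rcases le_total (m / c) K with h | h
      · rw [hJdef, min_eq_right h]; omega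
      · rw [hJdef, min_eq_left h]; omega
    obtain ⟨μ₀, hμle, hμ0, hμ₀⟩ := exists_sub_orbits (-qu) hc J _ _ hinv (by rw [mul_comm]; omega)
    have h := exists_piece_of_mult hF hζ hrL hrF hqu N hNU hNr hf (m := m)
      (μ := fun x => μ₀ x + if x = 0 then m - c * J else 0) ⟨by
        rw [Finset.sum_add_distrib, hμ₀.1, Finset.sum_ite_eq', if_pos (Finset.mem_univ _), mul_comm]
        omega, fun x => by
        show μ₀ _ + _ = μ₀ x + if x = 0 then _ else 0
        rw [hμ₀.2]
        exact congrArg (μ₀ x + ·) (if_congr (by simp) rfl rfl)⟩ fun x => by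
        by_cases hx : x = 0
        · subst hx
          simp only [reduceIte, hμ0, zero_add]
          exact hrest
        · simp only [if_neg hx, add_zero]
          exact hμle x
    have h1 := fixesN_smul hF (z ^ k) h
    rwa [hN, smul_smul, mul_inv_cancel₀ (pow_ne_zero _ hz0), one_smul] at h1

theorem orderOf_eq_two_iff (hr2 : r ≠ 2) {qu : (ZMod r)ˣ} (hqu : (qu : ZMod r) = (q : ZMod r)) :
    orderOf qu = 2 ↔ r ∣ q + 1 := by
  have key : r ∣ q + 1 ↔ qu = -1 := by
    rw [← ZMod.natCast_eq_zero_iff, Nat.cast_add, Nat.cast_one, ← eq_neg_iff_add_eq_zero, ← hqu, ← Units.val_one,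
      ← Units.val_neg, Units.val_inj]
  rw [key]
  constructor
  · intro h
    have h1 : qu ^ 2 = 1 := h ▸ pow_orderOf_eq_one qu
    rcases mul_self_eq_one_iff.1 (show ((qu : ZMod r)) * qu = 1 by
      rw [← Units.val_mul, ← pow_two, h1, Units.val_one]) with h3 | h3
    · rw [Units.val_eq_one] at h3
      rw [h3, orderOf_one] at h
      omega
    · exact Units.ext (h3.trans (by rw [Units.val_neg, Units.val_one]))
  · rintro rfl
    refine orderOf_eq_prime (by rw [neg_one_sq]) fun h => ?_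
    exact neg_ne_self hr2 one_ne_zero (by simpa using congrArg Units.val h)

/-- Elements of prime order of PSU_n(q) with no fixed nondegenerate `m`-space. Here `T = PSU_n(q)` (`n ≥ 3`, `(n, q) ≠ (3, 2)`), realised through the matrices of determinant 1 over the field `F` with `q²` elements preserving the Hermitian form `h(u, v) = Σ u_i v_i^q`; an element of `T` of prime order `r` is such a matrix `x` with `x^r` scalar and `x` not scalar. For `r ≠ p` let `i` be the multiplicative order of `q` modulo `r`, `b = i/2` for `i` even and `b = i` for `i` odd, `c = i, i/2, 2i` according as `i ≡ 0, 2 (mod 4)` or `i` odd, and write `k = n mod c`, `ℓ = m mod b`, `ℓ' = m mod c`, `n' = ⌊n/b⌋`, `m' = ⌊m/b⌋`, `s = (r−1)/b`; `(a)_r` is the `r`-part of `a`. Let `1 ≤ m < n/2` and let `r` be a prime dividing the number of nondegenerate `m`-spaces. Then every element of `T` of order `r` fixes a nondegenerate `m`-space if and only if one of: (i) `r = p > 2` and every partition of `n`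 into parts of size at most `p` contains (as a sub-multiset) a partition of `m`; (ii) `r = p = 2` and (`n` is odd or `m` is even); (iii) `r = 2 ≠ p` and (`n` is odd, or `m` is even, or `(q+1)_2 ≥ (n)_2` and `q ≡ 3 (mod 4)`); (iv) `r ≠ p`, `r > 2`, and either `i ≠ 2`, `c ≤ m` and `k ≥ ℓ'`, or `i = 2` and (`r ∣ m` or `(q+1)_r ≥ (n)_r`). -/
theorem result {F : Type*} [Field F] [Fintype F] {p : ℕ} [Fact p.Prime] [CharP F p] {q : ℕ} (hq : Fintype.card F = q ^ 2)
    (n m : ℕ) (hn : 3 ≤ n) (hT : (n, q) ≠ (3, 2)) (hm : 1 ≤ m) (hmn : 2 * m < n)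
    (r : ℕ) [Fact r.Prime]
    (hrΩ : r ∣ Nat.card {W : Submodule F (Fin n → F) // Module.finrank F ↥W = m ∧ (∀ u ∈ W, u ≠ 0 → ∃ v ∈ W, Cfsg.hermForm n F q u v ≠ 0)})
    (i b c : ℕ) (hi : i = orderOf (q : ZMod r)) (hb : b = if Even i then i / 2 else i)
    (hc : c = if i % 4 = 0 then i else if i % 4 = 2 then i / 2 else 2 * i) :
    (∀ x : Matrix.SpecialLinearGroup (Fin n) F, x ∈ Cfsg.SU n F q →
      (∃ z : F, ((x ^ r : Matrix.SpecialLinearGroup (Fin n) F) : Matrix (Fin n) (Fin n) F) = z • (1 : Matrix (Fin n) (Fin n) F)) →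
      (∀ z : F, (x : Matrix (Fin n) (Fin n) F) ≠ z • (1 : Matrix (Fin n) (Fin n) F)) →
      ∃ W : Submodule F (Fin n → F), Module.finrank F ↥W = m ∧ (∀ u ∈ W, u ≠ 0 → ∃ v ∈ W, Cfsg.hermForm n F q u v ≠ 0) ∧
        W.map (Matrix.toLin' (x : Matrix (Fin n) (Fin n) F)) ≤ W) ↔
    ((r = p ∧ 2 < p ∧ (∀ μ : Multiset ℕ, (∀ a ∈ μ, 0 < a ∧ a ≤ p) → μ.sum = n → ∃ ν : Multiset ℕ, ν ≤ μ ∧ ν.sum = m)) ∨
     (r = p ∧ p = 2 ∧ (Odd n ∨ Even m)) ∨
     (r = 2 ∧ p ≠ 2 ∧ (Odd n ∨ Even m ∨ (padicValNat 2 n ≤ padicValNat 2 (q + 1) ∧ q % 4 = 3))) ∨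
     (r ≠ p ∧ 2 < r ∧ ((i ≠ 2 ∧ c ≤ m ∧ m % c ≤ n % c) ∨ (i = 2 ∧ (r ∣ m ∨ padicValNat r n ≤ padicValNat r (q + 1)))))) := by
  classical
  refine (bridge hq n m r).trans ?_
  have hF := hq
  obtain ⟨hr⟩ := (inferInstance : Fact r.Prime)
  by_cases hrp : r = p
  · subst hrp
    rw [unip_case hF r (by omega) (by omega)]
    rcases (Nat.Prime.two_le hr).eq_or_lt with h2 | h2
    · subst h2
      rw [two_parts (by omega)]
      simp
    · simp [h2, show r ≠ 2 by omega]
  have hrF : (r : F) ≠ 0 := fun h =>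
    hrp ((Nat.prime_dvd_prime_iff_eq Fact.out hr).mp ((CharP.cast_eq_zero_iff F p r).mp h)).symm
  by_cases hr2 : r = 2
  · subst hr2
    rw [two_case hF (by exact_mod_cast hrF) (by omega) (by omega)]
    simp [hrp, Ne.symm hrp]
  have h2r : 2 < r := lt_of_le_of_ne hr.two_le (Ne.symm hr2)
  have hrq : ¬ r ∣ q := fun h => by
    obtain ⟨k, -, hk⟩ := FiniteField.card F p
    rw [hF] at hk
    exact hrp ((Nat.prime_dvd_prime_iff_eq hr Fact.out).mp (hr.dvd_of_dvd_pow (hk ▸ h.trans (dvd_pow_self q two_ne_zero))))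
  have hq0 : (q : ZMod r) ≠ 0 := fun h => hrq ((ZMod.natCast_eq_zero_iff _ _).1 h)
  let qu : (ZMod r)ˣ := Units.mk0 _ hq0
  have hqu : (qu : ZMod r) = (q : ZMod r) := rfl
  have hiu : orderOf qu = i := by rw [hi, ← orderOf_units, hqu]
  obtain ⟨-, hco⟩ := S5953.orders hr2 hiu hb hc
  by_cases hrd : r ∣ q + 1
  · have hi2 : i = 2 := hiu ▸ (orderOf_eq_two_iff hr2 hqu).2 hrd
    rw [plus_case hF hr2 hrF hrd (by omega) (by omega)]
    simp [hrp, hr2, h2r, hi2]
  · have hi2 : i ≠ 2 := fun h => hrd ((orderOf_eq_two_iff hr2 hqu).1 (hiu.trans h))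
    rw [other_case hF hrF hrd hqu (by omega) (by omega) hco]
    simp only [hrp, hr2, h2r, hi2, false_and, and_false, or_false, false_or, ne_eq, not_false_eq_true, true_and]
    refine ⟨fun h => ⟨?_, h⟩, fun h => h.2⟩
    by_contra hlt
    rw [Nat.mod_eq_of_lt (show m < c by omega)] at h
    refine not_dvd_count hF hrq hqu (show m ≤ n by omega) (hco.symm ▸ h) ?_
    rw [Nat.card_congr (Equiv.subtypeEquivRight fun W => and_congr_right fun _ => (nd_iff hF W).symm)]
    exact hrΩ

end Cfsg.Agent.S5954
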