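import Cfsg.Statements.S5956
import Cfsg.Agent.Lib.Linear.NondegFix.AltTypes
import Cfsg.Agent.Lib.Linear.NondegFix.AltSemi
import Cfsg.Agent.S5955
-- import your own Cfsg.Agent.* helpers here

set_option autoImplicit false
open scoped MatrixGroups
open Cfsg

namespace Cfsg.Agent.S5956

open Module Polynomial Cfsg.Lib.Linear Cfsg.Lib.Linear.IsoFix Cfsg.Lib.Linear.AltFix Cfsg.Lib.Linear.JordanForms Cfsg.Agent.Lib.Linear.PrimeClasses Cfsg.Agent.S5961
open scoped Matrix

/-- The condition in the statement. -/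
def Fixes (m : ℕ) {F : Type*} [Field F] {d : ℕ} (M : Matrix (Fin d ⊕ Fin d) (Fin d ⊕ Fin d) F) : Prop :=
  ∃ W : Submodule F (Fin d ⊕ Fin d → F), Module.finrank F ↥W = m ∧
    (∀ u ∈ W, u ≠ 0 → ∃ v ∈ W, Cfsg.sympForm d F u v ≠ 0) ∧ W.map (Matrix.toLin' M) ≤ W

variable {F : Type*} [Field F] {d m : ℕ} {M : Matrix (Fin d ⊕ Fin d) (Fin d ⊕ Fin d) F}

theorem fixes_of_piece {W : Submodule F (Fin d ⊕ Fin d → F)}
    (P : Piece (Symp.spB d F) (Matrix.toLinAlgEquiv' M) W) (h : finrank F W = m) : Fixes m M := by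
  refine ⟨W, h, fun u hu hu0 => ?_, ?_⟩
  · obtain ⟨v, hv, hne⟩ := P.nd u hu hu0
    exact ⟨v, hv, by rwa [← Symp.spB_apply]⟩
  · rintro _ ⟨u, hu, rfl⟩
    exact P.inv u hu

theorem piece_of_fixes (h : Fixes m M) :
    ∃ W, Piece (Symp.spB d F) (Matrix.toLinAlgEquiv' M) W ∧ finrank F W = m := by
  obtain ⟨W, hd, hn, hi⟩ := h
  refine ⟨W, ⟨fun u hu hu0 => ?_, fun u hu => hi ⟨u, hu, rfl⟩⟩, hd⟩
  obtain ⟨v, hv, hne⟩ := hn u hu hu0
  exact ⟨v, hv, by rwa [Symp.spB_apply]⟩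

theorem fixes_smul {z : F} (hz : z ≠ 0) (h : Fixes m (z • M)) : Fixes m M := by
  obtain ⟨W, hd, hn, hi⟩ := h
  refine ⟨W, hd, hn, ?_⟩
  rwa [map_smul, Submodule.map_smul _ W z hz] at hi

/-- A symplectic matrix with scalar power, up to sign. -/
theorem scalar_power (hd : 1 ≤ d) (x : Matrix.symplecticGroup (Fin d) F) {r : ℕ} {z : F}
    (hxz : ((x ^ r : Matrix.symplecticGroup (Fin d) F) : Matrix (Fin d ⊕ Fin d) (Fin d ⊕ Fin d) F) = z • 1) :
    z * z = 1 ∧ (z = 1 ∨ z = -1) ∧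
      (z • (x : Matrix (Fin d ⊕ Fin d) (Fin d ⊕ Fin d) F)) ∈ Matrix.symplecticGroup (Fin d) F ∧
      (Odd r → (z • (x : Matrix (Fin d ⊕ Fin d) (Fin d ⊕ Fin d) F)) ^ r = 1) := by
  have hz2 : z * z = 1 := by
    have h := SymplecticGroup.mem_iff'.mp ((x ^ r : Matrix.symplecticGroup (Fin d) F)).2
    rw [hxz, Matrix.transpose_smul, Matrix.transpose_one, smul_mul_assoc, one_mul,
      mul_smul_comm, mul_one, smul_smul] at h
    haveI : NeZero d := ⟨by omega⟩
    have h' := congrFun (congrFun h (Sum.inr 0)) (Sum.inl 0)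
    simpa [Matrix.J] using h'
  refine ⟨hz2, mul_self_eq_one_iff.1 hz2, ?_, fun hr => ?_⟩
  · rw [SymplecticGroup.mem_iff', Matrix.transpose_smul, smul_mul_assoc, smul_mul_assoc, mul_smul_comm, smul_smul,
      SymplecticGroup.mem_iff'.mp x.2, hz2, one_smul]
  · obtain ⟨k, hk⟩ := hr
    rw [SubmonoidClass.coe_pow] at hxz
    rw [_root_.smul_pow, hxz, smul_smul, hk, ← pow_succ, show 2 * k + 1 + 1 = 2 * (k + 1) by omega, pow_mul, pow_two,
      hz2, one_pow, one_smul]

/-- The order is the characteristic, odd. -/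
theorem unip_case [Fintype F] {p : ℕ} [Fact p.Prime] [CharP F p] (hp : 2 < p) (hd : 1 ≤ d) (hme : Even m) (hmd : m ≤ d) :
    (∀ x : ↥(Matrix.symplecticGroup (Fin d) F),
      (∃ z : F, ((x ^ p : ↥(Matrix.symplecticGroup (Fin d) F)) : Matrix (Fin d ⊕ Fin d) (Fin d ⊕ Fin d) F) = z • (1 : Matrix (Fin d ⊕ Fin d) (Fin d ⊕ Fin d) F)) →
      (∀ z : F, (x : Matrix (Fin d ⊕ Fin d) (Fin d ⊕ Fin d) F) ≠ z • (1 : Matrix (Fin d ⊕ Fin d) (Fin d ⊕ Fin d) F)) →
      Fixes m (x : Matrix (Fin d ⊕ Fin d) (Fin d ⊕ Fin d) F)) ↔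
    ∀ μ : Multiset ℕ, (∀ a ∈ μ, 0 < a ∧ a ≤ p) → (∀ a : ℕ, Odd a → Even (μ.count a)) → μ.sum = 2 * d →
        ∃ ν : Multiset ℕ, ν ≤ μ ∧ ν.sum = m ∧ ∀ a : ℕ, Odd a → Even (ν.count a) := by
  classical
  have hpp : p.Prime := Fact.out
  have h2 : (2 : F) ≠ 0 := fun h => by
    have h' := (CharP.cast_eq_zero_iff F p 2).1 (by exact_mod_cast h)
    have := Nat.le_of_dvd (by omega) h'
    omega
  constructor
  · intro hall μ hpos hodd hsum
    by_cases hbig : ∃ a ∈ μ, 2 ≤ a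
    · obtain ⟨x, hx, hns, hfix⟩ := exists_type_elt (F := F) p hpos hodd hsum hbig
      obtain ⟨W, P, hW⟩ := piece_of_fixes (hall x ⟨1, by rw [hx, one_smul]; rfl⟩ hns)
      obtain ⟨ν, h1, h3, h4⟩ := hfix W P
      exact ⟨ν, h1, h3.trans hW, h4⟩
    · push Not at hbig
      have h1 : ∀ a ∈ μ, a = 1 := fun a ha => by have := hpos a ha; have := hbig a ha; omega
      have h3 := Multiset.eq_replicate_card.2 h1
      rw [h3, Multiset.sum_replicate, smul_eq_mul, mul_one] at hsum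
      refine ⟨Multiset.replicate m 1, ?_, by simp, fun e he => ?_⟩
      · rw [h3]; exact (Multiset.replicate_le_replicate 1).2 (by omega)
      · rw [Multiset.count_replicate]
        split_ifs
        · exact hme
        · exact Even.zero
  · intro hcond x ⟨z, hxz⟩ _
    obtain ⟨hz2, -, hmem, hpow⟩ := scalar_power hd x hxz
    have hy := hpow (hpp.odd_of_ne_two (by omega))
    refine fixes_smul (z := z) (fun h => by simp [h] at hz2) ?_
    set Y := z • (x : Matrix (Fin d ⊕ Fin d) (Fin d ⊕ Fin d) F)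
    have H : Isom (Symp.spB d F) (Matrix.toLinAlgEquiv' Y) := matrix_isom ⟨Y, hmem⟩
    set g : End F (Fin d ⊕ Fin d → F) := Matrix.toLinAlgEquiv' Y with hg
    haveI : Nonempty (Fin d ⊕ Fin d) := ⟨Sum.inl ⟨0, by omega⟩⟩
    haveI : CharP (Matrix (Fin d ⊕ Fin d) (Fin d ⊕ Fin d) F) p := inferInstance
    have hgp : (g - 1) ^ p = 0 := by
      rw [hg, ← map_one (Matrix.toLinAlgEquiv' (R := F) (n := Fin d ⊕ Fin d)), ← map_sub, ← map_pow,
        sub_pow_char_of_commute (R := Matrix (Fin d ⊕ Fin d) (Fin d ⊕ Fin d) F) p (Commute.one_right _), one_pow, hy,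
        sub_self, map_zero]
    let μ : Multiset ℕ := ∑ j ∈ Finset.Icc 1 p, Multiset.replicate (mu (g - 1) j) j
    have hcount : ∀ e, μ.count e = if e ∈ Finset.Icc 1 p then mu (g - 1) e else 0 := fun e => by
      simp only [μ, Multiset.count_sum', Multiset.count_replicate]
      rw [Finset.sum_ite_eq']
    have hmem' : ∀ a ∈ μ, 0 < a ∧ a ≤ p := fun a ha => by
      have h := Multiset.count_pos.2 ha
      rw [hcount] at h
      split_ifs at h with h'
      · rw [Finset.mem_Icc] at h'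
        omega
      · omega
    obtain ⟨ν, hν, hνm, hνp⟩ := hcond μ hmem' (fun a ha => by
      rw [hcount]
      split_ifs with h
      · exact parity_odd H ⟨p, hgp⟩ ha
      · exact Even.zero) (by
      have h := sum_mu_of_pow (g - 1) hgp
      rw [finrank_fintype_fun_eq_card, Fintype.card_sum, Fintype.card_fin, ← two_mul] at h
      rw [← h]
      show Multiset.sumAddMonoidHom (∑ j ∈ Finset.Icc 1 p, Multiset.replicate (mu (g - 1) j) j) = _
      rw [map_sum, Finset.range_eq_Ico, ← Finset.Ico_add_one_right_eq_Icc,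
        Finset.sum_eq_sum_Ico_succ_bot (show 0 < p + 1 by omega)]
      simp [mul_comm])
    obtain ⟨W, P, hW⟩ := sub_exists h2 _ _ g rfl H ⟨p, hgp⟩ ν
      (fun h => lt_irrefl 0 (hmem' 0 (Multiset.mem_of_le hν h)).1) (fun j hj => by
        refine (Multiset.le_iff_count.1 hν j).trans ?_
        rw [hcount]
        split_ifs
        · exact le_rfl
        · exact Nat.zero_le _) hνp
    exact fixes_of_piece P (hW.trans hνm)

/-- The order is two, in characteristic two. -/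
theorem two_two [CharP F 2] (hd : 1 ≤ d) (hme : Even m) (hmd : m ≤ d) :
    (∀ x : ↥(Matrix.symplecticGroup (Fin d) F),
      (∃ z : F, ((x ^ 2 : ↥(Matrix.symplecticGroup (Fin d) F)) : Matrix (Fin d ⊕ Fin d) (Fin d ⊕ Fin d) F) = z • (1 : Matrix (Fin d ⊕ Fin d) (Fin d ⊕ Fin d) F)) →
      (∀ z : F, (x : Matrix (Fin d ⊕ Fin d) (Fin d ⊕ Fin d) F) ≠ z • (1 : Matrix (Fin d ⊕ Fin d) (Fin d ⊕ Fin d) F)) →
      Fixes m (x : Matrix (Fin d ⊕ Fin d) (Fin d ⊕ Fin d) F)) ↔
    ((2 * d) % 4 = 2 ∨ m % 4 = 0) := by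
  obtain ⟨k, rfl⟩ := hme
  constructor
  · intro hall
    by_contra hcon
    push Not at hcon
    obtain ⟨x, hx, hns, hfix⟩ := two_counter (F := F) (d := d) (by rw [Nat.even_iff]; omega) (by omega)
    obtain ⟨W, P, hW⟩ := piece_of_fixes (hall x ⟨1, by rw [hx, one_smul]; rfl⟩ hns)
    have h := hfix W P
    omega
  · intro hcond x ⟨z, hxz⟩ _
    obtain ⟨-, hz, -, -⟩ := scalar_power hd x hxz
    rw [CharTwo.neg_eq, or_self] at hz
    subst hz
    rw [SubmonoidClass.coe_pow, one_smul] at hxz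
    set g : End F (Fin d ⊕ Fin d → F) := Matrix.toLinAlgEquiv' (x : Matrix (Fin d ⊕ Fin d) (Fin d ⊕ Fin d) F)
    have hg2 : g * g = 1 := by rw [← map_mul, ← pow_two, hxz, map_one]
    have hgp : (g - 1) ^ 2 = 0 := LinearMap.ext fun v => by
      rw [pow_two, LinearMap.zero_apply]
      show g (g v - v) - (g v - v) = 0
      rw [map_sub, show g (g v) = v from LinearMap.congr_fun hg2 v]
      funext i
      simp only [Pi.sub_apply, Pi.zero_apply, CharTwo.sub_eq_add]
      linear_combination (v i + g v i) * (CharTwo.two_eq_zero (R := F))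
    obtain ⟨W, P, hW⟩ := two_sub d _ g (by simp; omega) (matrix_isom x) hgp k (by omega) (by
      rw [Nat.odd_iff, Nat.even_iff]; omega)
    exact fixes_of_piece P (by omega)

/-- Semisimple elements of odd order. -/
theorem semi_case [Fintype F] (p : ℕ) [Fact p.Prime] [CharP F p] (hd : 1 ≤ d) (hm : 1 ≤ m) (hme : Even m) (hmd : m ≤ d)
    {r : ℕ} [Fact r.Prime] (hr2 : r ≠ 2) (hrp : r ≠ p)
    (hrΩ : r ∣ Nat.card {W : Submodule F (Fin d ⊕ Fin d → F) // Module.finrank F ↥W = m ∧ (∀ u ∈ W, u ≠ 0 → ∃ v ∈ W, Cfsg.sympForm d F u v ≠ 0)})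
    {i c : ℕ} (hi : i = orderOf (Fintype.card F : ZMod r)) (hc : c = if Even i then i else 2 * i) :
    (∀ x : ↥(Matrix.symplecticGroup (Fin d) F),
      (∃ z : F, ((x ^ r : ↥(Matrix.symplecticGroup (Fin d) F)) : Matrix (Fin d ⊕ Fin d) (Fin d ⊕ Fin d) F) = z • (1 : Matrix (Fin d ⊕ Fin d) (Fin d ⊕ Fin d) F)) →
      (∀ z : F, (x : Matrix (Fin d ⊕ Fin d) (Fin d ⊕ Fin d) F) ≠ z • (1 : Matrix (Fin d ⊕ Fin d) (Fin d ⊕ Fin d) F)) →
      Fixes m (x : Matrix (Fin d ⊕ Fin d) (Fin d ⊕ Fin d) F)) ↔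
    (c ≤ m ∧ m % c ≤ (2 * d) % c) := by
  classical
  obtain ⟨hr⟩ := (inferInstance : Fact r.Prime)
  let L := AlgebraicClosure F
  haveI : CharP L p := charP_of_injective_algebraMap (algebraMap F L).injective p
  have hrL : (r : L) ≠ 0 := fun h =>
    hrp ((Nat.prime_dvd_prime_iff_eq Fact.out hr).mp ((CharP.cast_eq_zero_iff L p r).mp h)).symm
  have hrF : (r : F) ≠ 0 := fun h => hrL (by rw [← map_natCast (algebraMap F L), h, map_zero])
  haveI : NeZero (r : L) := ⟨hrL⟩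
  obtain ⟨ζ, hζ⟩ := HasEnoughRootsOfUnity.exists_primitiveRoot L r
  have hrq : ¬ r ∣ Fintype.card F := fun h => by
    obtain ⟨k, -, hk⟩ := FiniteField.card F p
    rw [hk] at h
    exact hrp ((Nat.prime_dvd_prime_iff_eq hr Fact.out).mp (hr.dvd_of_dvd_pow h))
  let uq : (ZMod r)ˣ := Units.mk0 _ (fun h => hrq ((ZMod.natCast_eq_zero_iff _ _).1 h) : (Fintype.card F : ZMod r) ≠ 0)
  have huq : (uq : ZMod r) = (Fintype.card F : ZMod r) := rfl
  have hiu : orderOf uq = i := by rw [hi, ← orderOf_units, huq]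
  obtain ⟨w, hw, hwq, hwn, hwo⟩ := exists_gen hr2 uq
  rw [hiu] at hwo
  have hwc : orderOf w = c := by
    rw [hwo, hc]
    by_cases he : Even i
    · rw [if_pos he, if_neg (Nat.not_odd_iff_even.mpr he)]
    · rw [if_neg he, if_pos (Nat.not_even_iff_odd.mp he)]
  have hc0 : 0 < c := hwc ▸ orderOf_pos w
  have hce : 2 ∣ c := by
    rw [hc]
    split_ifs with he
    · exact even_iff_two_dvd.1 he
    · exact dvd_mul_right 2 i
  have hc' : c = if Even (orderOf (Fintype.card F : ZMod r)) then orderOf (Fintype.card F : ZMod r)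
      else 2 * orderOf (Fintype.card F : ZMod r) := by rw [← hi]; exact hc
  have hev : ∀ {n : ℕ} {μ : ZMod r → ℕ}, Inv w (n + n) μ → Even (μ 0) := fun {n μ} hμ => by
    obtain ⟨K, hK⟩ := hce.trans (dvd_sum_erase w hwc _ _ hμ)
    have := hμ.1 ▸ Finset.single_le_sum (f := μ) (fun y _ => Nat.zero_le _) (Finset.mem_univ (0 : ZMod r))
    exact ⟨n - K, by omega⟩
  have hn := Nat.div_add_mod (2 * d) c
  have hnl : 2 * d % c < c := Nat.mod_lt _ hc0
  have hml : m % c < c := Nat.mod_lt _ hc0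
  obtain ⟨k, hk⟩ := hme
  constructor
  · intro hall
    suffices hle : m % c ≤ 2 * d % c by
      refine ⟨?_, hle⟩
      by_contra hcm
      rw [Nat.mod_eq_of_lt (by omega : m < c), hk, ← two_mul] at hle
      rw [hk, ← two_mul] at hrΩ
      exact not_dvd_count p hrp hi hc hle hrΩ
    rcases Nat.lt_or_ge (2 * d) c with hdc | hdc
    · rw [Nat.mod_eq_of_lt hdc]
      exact (Nat.mod_le _ _).trans (by omega)
    -- as few fixed points as possible
    obtain ⟨my, hmy, hmy0, -⟩ := Cfsg.Agent.S5955.exists_inv_fixed w (2 * d % c) (2 * d / c)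
    rw [hwc, show 2 * d % c + 2 * d / c * c = d + d by rw [mul_comm (2 * d / c)]; omega] at hmy
    obtain ⟨P, hP, -, hPm⟩ := altReal_any (F := F) hζ huq hr2 w hwq hwn hmy (hev hmy)
    obtain ⟨g, hg, hgp⟩ := exists_sp_of_altReal (m := d) hP (by
      rw [← natDegree_map (algebraMap F L), hPm, Pm_natDegree, hmy.1])
    rw [← hgp] at hPm
    set T := Matrix.toLin' (g : Matrix (Fin d ⊕ Fin d) (Fin d ⊕ Fin d) F)
    have hTr : T ^ r = 1 := by
      rw [← Matrix.toLin'_pow, ← SubmonoidClass.coe_pow, hg]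
      exact Matrix.toLin'_one
    have hfix : finrank F (LinearMap.ker (T - 1)) = 2 * d % c := by
      rw [finrank_fix (r := r) hrF hTr, Matrix.charpoly_toLin', eq_rootMultiplicity_map (algebraMap F L).injective, hPm,
        map_one, ← zp_zero (ζ := ζ) (r := r), count_roots_Pm hζ, hmy0]
    have hns : ∀ z : F, (g : Matrix (Fin d ⊕ Fin d) (Fin d ⊕ Fin d) F) ≠ z • 1 := fun z hz => by
      obtain ⟨hz2, -, -, -⟩ := scalar_power hd g (r := 1) (z := z) (by rw [pow_one]; exact hz)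
      have h1 : ((g ^ r : Matrix.symplecticGroup (Fin d) F) : Matrix (Fin d ⊕ Fin d) (Fin d ⊕ Fin d) F) = 1 := by
        rw [hg]; rfl
      rw [SubmonoidClass.coe_pow, hz, _root_.smul_pow, one_pow] at h1
      have h1' : z ^ r = 1 := by
        have h3 := congrFun (congrFun h1 (Sum.inl ⟨0, by omega⟩)) (Sum.inl ⟨0, by omega⟩)
        simpa using h3
      obtain ⟨e, he⟩ := hr.odd_of_ne_two hr2
      rw [he, pow_succ, pow_mul, pow_two, hz2, one_pow, one_mul] at h1'
      have htop : LinearMap.ker (T - 1) = ⊤ := by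
        rw [LinearMap.ker_eq_top, sub_eq_zero]
        show Matrix.toLin' _ = _
        rw [hz, h1', one_smul, Matrix.toLin'_one]
        rfl
      rw [htop, finrank_top, Symp.finrank_space] at hfix
      omega
    obtain ⟨W, Pc, hW⟩ := piece_of_fixes (hall g ⟨1, by rw [hg, one_smul]; rfl⟩ hns)
    have hmov := moved_part (B := Symp.spB d F) (T := T) hrF hrq (Symp.spB_isAlt d F)
      (fun u v => (Symp.mem_symplecticGroup_iff _).1 g.2 u v) hTr Pc.nd Pc.inv hc'
    rw [hW] at hmov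
    have h1 := Submodule.finrank_mono (inf_le_right : W ⊓ LinearMap.ker (T - 1) ≤ _)
    have h3 := Submodule.finrank_mono (inf_le_left : W ⊓ LinearMap.ker (T - 1) ≤ _)
    obtain ⟨J, hJ⟩ := hmov
    rw [show m = finrank F ↥(W ⊓ LinearMap.ker (T - 1)) + c * J by omega, Nat.add_mul_mod_self_left]
    exact (Nat.mod_le _ _).trans (by omega)
  · rintro ⟨-, hle⟩ x ⟨z, hxz⟩ _
    obtain ⟨hz2, -, hmem, hpow⟩ := scalar_power hd x hxz
    refine fixes_smul (z := z) (fun h => by simp [h] at hz2) ?_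
    let y : Matrix.symplecticGroup (Fin d) F := ⟨_, hmem⟩
    have hy : y ^ r = 1 := Subtype.ext (by
      rw [SubmonoidClass.coe_pow]
      exact hpow (hr.odd_of_ne_two hr2))
    obtain ⟨my, hmy, hinv, -⟩ := exists_mult_sp hζ hrL hrF huq w hw y hy
    have hf0 : my 0 ≤ d + d :=
      hinv.1 ▸ Finset.single_le_sum (f := my) (fun y _ => Nat.zero_le _) (Finset.mem_univ (0 : ZMod r))
    obtain ⟨K, hK⟩ := dvd_sum_erase w hwc _ _ hinv
    have hkf : 2 * d % c ≤ my 0 := by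
      rw [show 2 * d = my 0 + c * K by omega, Nat.add_mul_mod_self_left]
      exact Nat.mod_le _ _
    have hmdiv := Nat.div_add_mod m c
    -- the moved orbits to take
    have hJK : min K (m / c) ≤ K := min_le_left _ _
    have hJc : c * min K (m / c) ≤ m := (Nat.mul_le_mul_left c (min_le_right _ _)).trans (by omega)
    have hJK' := Nat.mul_le_mul_left c hJK
    have hrest : m - c * min K (m / c) ≤ my 0 := by
      rcases le_total (m / c) K with h | h
      · rw [min_eq_right h]; omega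
      · rw [min_eq_left h]; omega
    obtain ⟨μ₀, hμle, hμ0, hμ₀⟩ := exists_sub_orbits w hwc (min K (m / c)) _ _ hinv (by rw [mul_comm]; omega)
    let μ : ZMod r → ℕ := fun x => μ₀ x + if x = 0 then m - c * min K (m / c) else 0
    have hμ : Inv w (k + k) μ := by
      refine ⟨?_, fun x => ?_⟩
      · show ∑ x, (μ₀ x + _) = _
        rw [Finset.sum_add_distrib, hμ₀.1, Finset.sum_ite_eq', if_pos (Finset.mem_univ _), mul_comm]
        omega
      · show μ₀ _ + _ = μ₀ x + if x = 0 then _ else 0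
        rw [hμ₀.2]
        exact congrArg (μ₀ x + ·) (if_congr (by simp) rfl rfl)
    have hμy : ∀ x, μ x ≤ my x := fun x => by
      show μ₀ x + (if x = 0 then _ else 0) ≤ my x
      by_cases hx : x = 0
      · subst hx
        rw [if_pos rfl, hμ0, zero_add]
        exact hrest
      · rw [if_neg hx]; exact hμle x
    obtain ⟨W, Pc, hW⟩ := exists_piece_of_mult hζ hrF huq hr2 w hwq hwn (show k ≤ d by omega) y hy hmy hμ hinv hμy
      (hev hμ) (by
        have h1 := hev hinv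
        have h3 := hev hμ
        exact (Nat.even_sub (hμy 0)).2 ⟨fun _ => h3, fun _ => h1⟩)
    exact fixes_of_piece Pc (hW.trans hk.symm)

/-- Elements of prime order of PSp_n(q) with no fixed nondegenerate `m`-space. Here `T = PSp_n(q)` with `n = 2d ≥ 4`, `(n, q) ≠ (4, 2)`, realised through the symplectic matrices over the field `F` with `q` elements (preserving the standard alternating form); an element of `T` of prime order `r` is such a matrix `x` with `x^r` scalar and `x` not scalar. For `r ≠ p` let `i` be the multiplicative order of `q` modulo `r`, `c = i` for `i` even and `c = 2i` for `i` odd, and write `k = n mod c`, `ℓ = m mod i`, `ℓ' = m mod c`, `n' = ⌊n/i⌋`, `m' = ⌊m/i⌋`, `t = (r−1)/i`. Let `m` be even with `2 ≤ m < n/2` and let `r` be a prime dividing the number of nondegenerate `m`-spaces. Then every element of `T` of order `r` fixes a nondegenerate `m`-space if and only if one of: (i) `r = p > 2` and every partition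 of `n` into parts of size at most `p` in which every odd part has even multiplicity contains (as a sub-multiset) a partition of `m` in which every odd part has even multiplicity; (ii) `r = p = 2` and (`n ≡ 2 (mod 4)` or `m ≡ 0 (mod 4)`); (iii) `r = 2 ≠ p`; (iv) `r ≠ p`, `r > 2`, `c ≤ m` and `k ≥ ℓ'`. -/
theorem result {F : Type*} [Field F] [Fintype F] {p : ℕ} [Fact p.Prime] [CharP F p] {q : ℕ} (hq : Fintype.card F = q)
    (d m : ℕ) (hd : 2 ≤ d) (hT : (d, q) ≠ (2, 2)) (hm : 2 ≤ m) (hme : Even m) (hmd : m < d)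
    (r : ℕ) [Fact r.Prime]
    (hrΩ : r ∣ Nat.card {W : Submodule F (Fin d ⊕ Fin d → F) // Module.finrank F ↥W = m ∧ (∀ u ∈ W, u ≠ 0 → ∃ v ∈ W, Cfsg.sympForm d F u v ≠ 0)})
    (i c : ℕ) (hi : i = orderOf (q : ZMod r)) (hc : c = if Even i then i else 2 * i) :
    (∀ x : ↥(Matrix.symplecticGroup (Fin d) F),
      (∃ z : F, ((x ^ r : ↥(Matrix.symplecticGroup (Fin d) F)) : Matrix (Fin d ⊕ Fin d) (Fin d ⊕ Fin d) F) = z • (1 : Matrix (Fin d ⊕ Fin d) (Fin d ⊕ Fin d) F)) →
      (∀ z : F, (x : Matrix (Fin d ⊕ Fin d) (Fin d ⊕ Fin d) F) ≠ z • (1 : Matrix (Fin d ⊕ Fin d) (Fin d ⊕ Fin d) F)) →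
      ∃ W : Submodule F (Fin d ⊕ Fin d → F), Module.finrank F ↥W = m ∧ (∀ u ∈ W, u ≠ 0 → ∃ v ∈ W, Cfsg.sympForm d F u v ≠ 0) ∧
        W.map (Matrix.toLin' (x : Matrix (Fin d ⊕ Fin d) (Fin d ⊕ Fin d) F)) ≤ W) ↔
    ((r = p ∧ 2 < p ∧ (∀ μ : Multiset ℕ, (∀ a ∈ μ, 0 < a ∧ a ≤ p) → (∀ a : ℕ, Odd a → Even (μ.count a)) → μ.sum = 2 * d →
        ∃ ν : Multiset ℕ, ν ≤ μ ∧ ν.sum = m ∧ ∀ a : ℕ, Odd a → Even (ν.count a))) ∨
     (r = p ∧ p = 2 ∧ ((2 * d) % 4 = 2 ∨ m % 4 = 0)) ∨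
     (r = 2 ∧ p ≠ 2) ∨
     (r ≠ p ∧ 2 < r ∧ c ≤ m ∧ m % c ≤ (2 * d) % c)) := by
  classical
  subst hq
  change (∀ x : ↥(Matrix.symplecticGroup (Fin d) F), _ → _ → Fixes m (x : Matrix (Fin d ⊕ Fin d) (Fin d ⊕ Fin d) F)) ↔ _
  by_cases hrp : r = p
  · subst hrp
    rcases (Nat.Prime.two_le (Fact.out : r.Prime)).eq_or_lt with h2 | h2
    · subst h2
      rw [two_two (by omega) hme hmd.le]
      simp
    · rw [unip_case h2 (by omega) hme hmd.le]
      simp [h2, show r ≠ 2 by omega]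
  by_cases hr2 : r = 2
  · subst hr2
    have h2 : (2 : F) ≠ 0 := fun h => hrp (by
      have := (CharP.cast_eq_zero_iff F p 2).1 (by exact_mod_cast h)
      exact ((Nat.prime_dvd_prime_iff_eq Fact.out Nat.prime_two).1 this).symm)
    refine ⟨fun _ => Or.inr (Or.inr (Or.inl ⟨rfl, Ne.symm hrp⟩)), fun _ x ⟨z, hxz⟩ _ => ?_⟩
    obtain ⟨-, hz, -, -⟩ := scalar_power (by omega) x hxz
    rw [SubmonoidClass.coe_pow] at hxz
    obtain ⟨k, hk⟩ := hme
    obtain ⟨W, P, hW⟩ := invol_sub h2 hz k _ _ (matrix_isom x) (fun v => by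
      show (x : Matrix (Fin d ⊕ Fin d) (Fin d ⊕ Fin d) F) *ᵥ ((x : Matrix (Fin d ⊕ Fin d) (Fin d ⊕ Fin d) F) *ᵥ v) = _
      rw [Matrix.mulVec_mulVec, ← pow_two, hxz, Matrix.smul_mulVec, Matrix.one_mulVec]) (by simp; omega)
    exact fixes_of_piece P (by omega)
  have h2r : 2 < r := lt_of_le_of_ne (Fact.out : r.Prime).two_le (Ne.symm hr2)
  rw [semi_case p (by omega) (by omega) hme hmd.le hr2 hrp hrΩ hi hc]
  simp [hrp, hr2, h2r]

end Cfsg.Agent.S5956
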