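import Cfsg.Statements.S5957
import Mathlib.LinearAlgebra.Basis.VectorSpace
import Mathlib.LinearAlgebra.FiniteDimensional.Lemmas
import Mathlib.FieldTheory.Finite.Basic
-- import your own Cfsg.Agent.* helpers here

set_option autoImplicit false
open scoped MatrixGroups
open Cfsg

namespace Cfsg.Agent.S5957

open Module

/-- Where the vectors of the pairs go. -/
theorem exists_layout (a t r : ℕ) (ha : 1 ≤ a) (hr : 2 * r ≤ a * t) :
    ∃ (σ : Equiv.Perm (Fin t)) (ι : Fin r × Fin 2 → Fin t × Fin a), Function.Injective ι ∧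
      (∀ p, σ (ι (p, 0)).1 = (ι (p, 1)).1 ∧ σ (ι (p, 1)).1 = (ι (p, 0)).1) ∧
      ∀ x : Fin t × Fin a, x ∉ Set.range ι → σ x.1 = x.1 := by
  obtain ⟨s, hsdef⟩ : ∃ s, s = r / a := ⟨_, rfl⟩
  obtain ⟨h, hhdef⟩ : ∃ h, h = a / 2 := ⟨_, rfl⟩
  have hsa : s * a ≤ r := hsdef ▸ Nat.div_mul_le_self r a
  have hrem : r < s * a + a := by
    rw [hsdef]
    have := Nat.div_add_mod' r a
    have := Nat.mod_lt r ha
    omega
  have h2s : 2 * s ≤ t := by
    by_contra hlt
    push Not at hlt
    have : a * (t + 1) ≤ a * (2 * s) := Nat.mul_le_mul_left a hlt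
    nlinarith
  -- the room in the blocks that are not interchanged
  have hroom : r - s * a ≤ (t - 2 * s) * h := by
    obtain ⟨u, hu⟩ : ∃ u, t = 2 * s + u := ⟨t - 2 * s, by omega⟩
    subst hu
    rw [Nat.add_sub_cancel_left]
    have h1 : 2 * r ≤ 2 * (s * a) + a * u := by
      rw [mul_add] at hr; nlinarith
    have ha2 : a ≤ 2 * h + 1 := by omega
    have ha2' : 2 * h ≤ a := by omega
    rcases u with _ | _ | u
    · omega
    · omega
    · have h3 : 2 * h ≤ (u + 1 + 1) * h := Nat.mul_le_mul_right h (by omega)
      omega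
  let f : ℕ → ℕ → ℕ × ℕ := fun p e =>
    if p < s * a then (2 * (p / a) + e, p % a)
    else (2 * s + (p - s * a) / h, 2 * ((p - s * a) % h) + e)
  have hf : ∀ p < r, ∀ e < 2, (f p e).1 < t ∧ (f p e).2 < a := by
    intro p hp e he
    simp only [f]
    split_ifs with hlt
    · have h1 : p / a < s := Nat.div_lt_of_lt_mul (by rwa [mul_comm])
      exact ⟨by omega, Nat.mod_lt _ ha⟩
    · have hpos : 0 < h := by
        rcases Nat.eq_zero_or_pos h with h0 | h0
        · rw [h0, mul_zero] at hroom; omega
        · exact h0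
      have h1 : (p - s * a) / h < t - 2 * s := Nat.div_lt_of_lt_mul (by rw [Nat.mul_comm h]; omega)
      have h2 := Nat.mod_lt (p - s * a) hpos
      exact ⟨by omega, by omega⟩
  let g : Fin t → Fin t := fun j =>
    if hj : (j : ℕ) < 2 * s then
      ⟨2 * ((j : ℕ) / 2) + (1 - (j : ℕ) % 2), by omega⟩ else j
  have hg : ∀ j, g (g j) = j := by
    intro j
    by_cases hj : (j : ℕ) < 2 * s
    · have hj' : 2 * ((j : ℕ) / 2) + (1 - (j : ℕ) % 2) < 2 * s := by omega
      simp only [g, dif_pos hj, dif_pos hj']
      exact Fin.ext (by simp only; omega)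
    · simp only [g, dif_neg hj]
  refine ⟨⟨g, g, hg, hg⟩,
    fun x => (⟨(f x.1 x.2).1, (hf x.1 x.1.2 x.2 x.2.2).1⟩, ⟨(f x.1 x.2).2, (hf x.1 x.1.2 x.2 x.2.2).2⟩),
    ?_, ?_, ?_⟩
  · rintro ⟨p, e⟩ ⟨p', e'⟩ hpe
    simp only [Prod.mk.injEq, Fin.mk.injEq, f] at hpe
    have he := e.2
    have he' := e'.2
    obtain ⟨h1, h2⟩ := hpe
    have key : (p : ℕ) = p' ∧ (e : ℕ) = e' := by
      by_cases hp : (p : ℕ) < s * a <;> by_cases hp' : (p' : ℕ) < s * a
      · rw [if_pos hp, if_pos hp'] at h1 h2
        have h3 : (p : ℕ) / a = (p' : ℕ) / a := by simp only at h1; omega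
        simp only [h3] at h1 h2
        exact ⟨by rw [← Nat.div_add_mod (p : ℕ) a, ← Nat.div_add_mod (p' : ℕ) a, h3, h2], by omega⟩
      · rw [if_pos hp, if_neg hp'] at h1
        have := Nat.zero_le (((p' : ℕ) - s * a) / h)
        have : (p : ℕ) / a < s := Nat.div_lt_of_lt_mul (by rwa [mul_comm])
        simp only at h1
        omega
      · rw [if_neg hp, if_pos hp'] at h1
        have := Nat.zero_le (((p : ℕ) - s * a) / h)
        have : (p' : ℕ) / a < s := Nat.div_lt_of_lt_mul (by rwa [mul_comm])
        simp only at h1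
        omega
      · rw [if_neg hp, if_neg hp'] at h1 h2
        simp only at h1 h2
        have h3 : ((p : ℕ) - s * a) / h = ((p' : ℕ) - s * a) / h := by omega
        have h4 : ((p : ℕ) - s * a) % h = ((p' : ℕ) - s * a) % h := by omega
        have h5 : (p : ℕ) - s * a = (p' : ℕ) - s * a := by
          rw [← Nat.div_add_mod ((p : ℕ) - s * a) h, ← Nat.div_add_mod ((p' : ℕ) - s * a) h, h3, h4]
        omega
    exact Prod.ext (Fin.ext key.1) (Fin.ext key.2)
  · intro p
    simp only [f, Equiv.coe_fn_mk, g]
    by_cases hp : (p : ℕ) < s * a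
    · have h1 : (p : ℕ) / a < s := Nat.div_lt_of_lt_mul (by rwa [mul_comm])
      simp only [if_pos hp, Fin.coe_ofNat_eq_mod]
      constructor <;> (rw [dif_pos (by omega)]; exact Fin.ext (by simp only; omega))
    · simp only [if_neg hp]
      have := Nat.zero_le (((p : ℕ) - s * a) / h)
      constructor <;>
      · rw [dif_neg (by omega)]
  · rintro ⟨j, i⟩ hx
    simp only [Equiv.coe_fn_mk, g]
    refine dif_neg fun hj => hx ?_
    have hlt : (j : ℕ) / 2 * a + i < s * a := by
      have h1 : ((j : ℕ) / 2 + 1) * a ≤ s * a := Nat.mul_le_mul_right a (by omega)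
      rw [add_mul, one_mul] at h1
      have := i.2
      omega
    refine ⟨(⟨(j : ℕ) / 2 * a + i, by omega⟩, ⟨(j : ℕ) % 2, by omega⟩), ?_⟩
    have e1 : ((j : ℕ) / 2 * a + i) / a = (j : ℕ) / 2 := by
      rw [mul_comm, Nat.mul_add_div ha, Nat.div_eq_of_lt i.2, add_zero]
    have e2 : ((j : ℕ) / 2 * a + i) % a = i := by
      rw [mul_comm, Nat.mul_add_mod, Nat.mod_eq_of_lt i.2]
    simp only [f, Prod.mk.injEq, if_pos hlt, e1, e2]
    exact ⟨Fin.ext (by simp only; omega), trivial⟩

/-- A basis in normal form for `T` with `T² = z`. -/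
theorem exists_normal_basis {F V : Type*} [Field F] [Finite F] [AddCommGroup V] [Module F V]
    [FiniteDimensional F V] (T : V →ₗ[F] V) (z : F) (hz : z ≠ 0) (hT : ∀ v, T (T v) = z • v) :
    ∃ (r s : ℕ) (b : Basis ((Fin r × Fin 2) ⊕ Fin s) F V) (c : Fin s → F),
      (∀ p, T (b (.inl (p, 0))) = b (.inl (p, 1)) ∧ T (b (.inl (p, 1))) = z • b (.inl (p, 0))) ∧
      ∀ l, T (b (.inr l)) = c l • b (.inr l) := by
  classical
  by_cases hsq : ∃ c : F, c * c = z
  · obtain ⟨c, rfl⟩ := hsq
    have hc : c ≠ 0 := left_ne_zero_of_mul hz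
    by_cases h2 : (2 : F) = 0
    · -- characteristic two
      have hneg : ∀ x : F, x + x = 0 := fun x => by rw [← two_mul, h2, zero_mul]
      let N : V →ₗ[F] V := T - c • LinearMap.id
      have hN : ∀ v, N v = T v - c • v := fun v => rfl
      have hNN : ∀ v, N (N v) = 0 := by
        intro v
        have e : c * c + c * c = 0 := hneg _
        calc N (N v) = (c * c + c * c) • v - (c + c) • T v := by
              rw [hN, hN, map_sub, map_smul, hT]; module
          _ = 0 := by rw [e, hneg, zero_smul, zero_smul, sub_zero]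
      obtain ⟨Q, hQ⟩ := (LinearMap.range N).exists_isCompl
      let C : Submodule F V := Q ⊓ LinearMap.ker N
      let u := Module.finBasis F (LinearMap.range N)
      choose e he using fun k => (u k).2
      let w := Module.finBasis F C
      let b : (Fin (finrank F (LinearMap.range N)) × Fin 2) ⊕ Fin (finrank F C) → V :=
        Sum.elim (fun x => if x.2 = 0 then e x.1 else T (e x.1)) (fun l => (w l : V))
      have hRK : LinearMap.range N ≤ LinearMap.ker N := by
        rintro _ ⟨v, rfl⟩
        exact LinearMap.mem_ker.2 (hNN v)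
      have hspan : ⊤ ≤ Submodule.span F (Set.range b) := by
        intro v _
        have hin : ∀ x ∈ LinearMap.ker N, x ∈ Submodule.span F (Set.range b) := by
          intro x hx
          obtain ⟨y, hy, q, hq, rfl⟩ := Submodule.mem_sup.1 (hQ.sup_eq_top.ge (Submodule.mem_top (x := x)))
          refine add_mem ?_ ?_
          · have : (⟨y, hy⟩ : LinearMap.range N) ∈ Submodule.span F (Set.range u) := u.span_eq.ge trivial
            have h3 := Submodule.mem_map_of_mem (f := (LinearMap.range N).subtype) this
            rw [Submodule.map_span] at h3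
            refine Submodule.span_le.2 ?_ h3
            rintro _ ⟨_, ⟨k, rfl⟩, rfl⟩
            show ((u k : LinearMap.range N) : V) ∈ _
            rw [← he k, hN]
            exact sub_mem (Submodule.subset_span ⟨.inl (k, 1), by simp [b]⟩)
              (Submodule.smul_mem _ _ (Submodule.subset_span ⟨.inl (k, 0), by simp [b]⟩))
          · have hqC : q ∈ C := ⟨hq, by
              have h4 : N (y + q) = 0 := hx
              rw [map_add, LinearMap.mem_ker.1 (hRK hy), zero_add] at h4
              exact h4⟩
            have : (⟨q, hqC⟩ : C) ∈ Submodule.span F (Set.range w) := w.span_eq.ge trivial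
            have h3 := Submodule.mem_map_of_mem (f := C.subtype) this
            rw [Submodule.map_span] at h3
            refine Submodule.span_le.2 ?_ h3
            rintro _ ⟨_, ⟨l, rfl⟩, rfl⟩
            exact Submodule.subset_span ⟨.inr l, rfl⟩
        obtain ⟨α, hα⟩ : ∃ α : Fin _ → F, ∑ k, α k • u k = ⟨N v, LinearMap.mem_range_self N v⟩ :=
          ⟨fun k => u.repr _ k, u.sum_repr _⟩
        have h5 : v - ∑ k, α k • e k ∈ LinearMap.ker N := by
          have h6 := congrArg Subtype.val hα
          rw [Submodule.coe_sum] at h6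
          simp only [Submodule.coe_smul] at h6
          rw [LinearMap.mem_ker, map_sub, map_sum, sub_eq_zero, ← h6]
          simp only [map_smul, he]
        have h7 := add_mem (hin _ h5) (Submodule.sum_mem _ fun k (_ : k ∈ Finset.univ) =>
          Submodule.smul_mem _ (α k) (Submodule.subset_span (s := Set.range b) ⟨.inl (k, 0), by simp [b]⟩ :
            e k ∈ Submodule.span F (Set.range b)))
        rwa [sub_add_cancel] at h7
      have hcard : Fintype.card ((Fin (finrank F (LinearMap.range N)) × Fin 2) ⊕ Fin (finrank F C)) =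
          finrank F V := by
        have h1 := LinearMap.finrank_range_add_finrank_ker N
        have h3 : LinearMap.range N ⊔ C = LinearMap.ker N := by
          rw [show C = Q ⊓ LinearMap.ker N from rfl, ← sup_inf_assoc_of_le Q hRK, hQ.sup_eq_top, top_inf_eq]
        have h4 := Submodule.finrank_sup_add_finrank_inf_eq (LinearMap.range N) C
        have h5 : LinearMap.range N ⊓ C = ⊥ :=
          eq_bot_iff.2 ((inf_le_inf_left _ inf_le_left).trans hQ.inf_eq_bot.le)
        rw [h3, h5, finrank_bot] at h4
        simp only [Fintype.card_sum, Fintype.card_prod, Fintype.card_fin]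
        omega
      refine ⟨_, _, basisOfTopLeSpanOfCardEqFinrank b hspan hcard, fun _ => c, fun p => ?_, fun l => ?_⟩
      · simp [b, hT]
      · have h6 : N (w l : V) = 0 := (w l).2.2
        rw [hN, sub_eq_zero] at h6
        simp [b, h6]
    · -- two eigenspaces
      let P := LinearMap.ker (T - c • LinearMap.id)
      let M := LinearMap.ker (T + c • LinearMap.id)
      let u := Module.finBasis F P
      let w := Module.finBasis F M
      have hu : ∀ k, T (u k : V) = c • (u k : V) := fun k => sub_eq_zero.1 (u k).2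
      have hw : ∀ k, T (w k : V) = (-c) • (w k : V) := fun k => by
        rw [neg_smul]; exact eq_neg_of_add_eq_zero_left (w k).2
      have hPM : IsCompl P M := by
        constructor
        · rw [Submodule.disjoint_def]
          intro x hP hM
          have h1 : T x = c • x := sub_eq_zero.1 hP
          have h3 : T x + c • x = 0 := hM
          rw [h1, ← two_smul F, smul_smul] at h3
          exact (smul_eq_zero.1 h3).resolve_left (mul_ne_zero h2 hc)
        · rw [codisjoint_iff, eq_top_iff]
          intro x _
          have h4 : (2 * c) • x ∈ P ⊔ M := by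
            have e : (2 * c) • x = (c • x + T x) + (c • x - T x) := by module
            rw [e]
            refine Submodule.add_mem_sup ?_ ?_
            · show T (c • x + T x) - c • (c • x + T x) = 0
              rw [map_add, map_smul, hT]; module
            · show T (c • x - T x) + c • (c • x - T x) = 0
              rw [map_sub, map_smul, hT]; module
          have := (P ⊔ M).smul_mem (2 * c)⁻¹ h4
          rwa [smul_smul, inv_mul_cancel₀ (mul_ne_zero h2 hc), one_smul] at this
      let b0 := (u.prod w).map (Submodule.prodEquivOfIsCompl P M hPM)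
      refine ⟨0, finrank F P + finrank F M, b0.reindex (finSumFinEquiv.trans (Equiv.emptySum _ _).symm),
        fun l => Sum.elim (fun _ => c) (fun _ => -c) (finSumFinEquiv.symm l), fun p => p.elim0, fun l => ?_⟩
      obtain ⟨x, rfl⟩ := finSumFinEquiv.surjective l
      rcases x with k | k
      · simp [b0, hu]
      · simp [b0, hw]
  · -- no eigenvalue
    push Not at hsq
    suffices H : ∀ d, (∃ (r : ℕ) (e : Fin r → V),
        LinearIndependent F (fun x : Fin r × Fin 2 => if x.2 = 0 then e x.1 else T (e x.1)) ∧
        (d ≤ r ∨ ⊤ ≤ Submodule.span F (Set.range fun x : Fin r × Fin 2 => if x.2 = 0 then e x.1 else T (e x.1)))) by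
      obtain ⟨r, e, hli, hd | hspan⟩ := H (finrank F V + 1)
      · have := hli.fintype_card_le_finrank
        simp only [Fintype.card_prod, Fintype.card_fin] at this
        omega
      refine ⟨r, 0, (Basis.mk hli hspan).reindex (Equiv.sumEmpty (Fin r × Fin 2) (Fin 0)).symm,
        fun l => l.elim0, fun p => ?_, fun l => l.elim0⟩
      simp [hT]
    intro d
    induction d with
    | zero => exact ⟨0, Fin.elim0, linearIndependent_empty_type, Or.inl le_rfl⟩
    | succ d ih =>
      obtain ⟨r, e, hli, hd⟩ := ih
      set W := Submodule.span F (Set.range fun x : Fin r × Fin 2 => if x.2 = 0 then e x.1 else T (e x.1))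
        with hW
      by_cases hspan : ⊤ ≤ W
      · exact ⟨r, e, hli, Or.inr hspan⟩
      rcases hd with hd | hd
      swap
      · exact absurd hd hspan
      obtain ⟨v, -, hv⟩ := SetLike.exists_of_lt (lt_top_iff_ne_top.2 fun h => hspan h.ge : W < ⊤)
      have hWT : ∀ x ∈ W, T x ∈ W := by
        intro x hx
        have h3 := Submodule.mem_map_of_mem (f := T) hx
        rw [hW, Submodule.map_span] at h3
        refine Submodule.span_le.2 ?_ h3
        rintro _ ⟨_, ⟨⟨k, i⟩, rfl⟩, rfl⟩
        by_cases hi : i = 0
        · refine Submodule.subset_span ⟨(k, 1), ?_⟩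
          simp [hi]
        · simp only [if_neg hi, hT]
          exact Submodule.smul_mem _ _ (Submodule.subset_span ⟨(k, 0), by simp⟩)
      refine ⟨r + 1, Fin.snoc e v, ?_, Or.inl (by omega)⟩
      let E : (Fin r × Fin 2) ⊕ Fin 2 ≃ Fin (r + 1) × Fin 2 :=
        ((Equiv.sumCongr (Equiv.refl _) (Equiv.uniqueProd (Fin 2) (Fin 1)).symm).trans
          (Equiv.sumProdDistrib (Fin r) (Fin 1) (Fin 2)).symm).trans
          (Equiv.prodCongr finSumFinEquiv (Equiv.refl _))
      rw [← linearIndependent_equiv E]
      suffices key : LinearIndependent F (Sum.elim (fun x : Fin r × Fin 2 =>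
          if x.2 = 0 then e x.1 else T (e x.1)) (fun i : Fin 2 => if i = 0 then v else T v)) by
        convert key using 1
        funext x
        rcases x with ⟨k, i⟩ | i
        · simp [E, finSumFinEquiv_apply_left, Fin.castAdd, Fin.snoc, Fin.castLT, Fin.castLE]
        · simp [E, finSumFinEquiv_apply_right, Fin.natAdd, Fin.snoc]
      refine LinearIndependent.sum_type hli ?_ ?_
      · rw [Fintype.linearIndependent_iff]
        intro g hg
        simp only [Fin.sum_univ_two, if_true, Fin.one_eq_zero_iff, OfNat.ofNat_ne_one, if_false] at hg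
        by_cases h1 : g 1 = 0
        · rw [h1, zero_smul, add_zero] at hg
          have hv0 : v ≠ 0 := fun h => hv (h ▸ W.zero_mem)
          intro i
          fin_cases i
          · exact (smul_eq_zero.1 hg).resolve_right hv0
          · exact h1
        · exfalso
          have h3 := congrArg T hg
          rw [map_add, map_smul, map_smul, hT, map_zero] at h3
          have h4 : (g 1 * (g 1 * z) - g 0 * g 0) • v = 0 := by
            have h5 : g 1 • (g 0 • T v + g 1 • z • v) - g 0 • (g 0 • v + g 1 • T v) = 0 := by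
              rw [h3, hg, smul_zero, smul_zero, sub_zero]
            rw [← h5]; module
          rcases smul_eq_zero.1 h4 with h6 | h6
          · apply hsq (g 0 / g 1)
            field_simp
            linear_combination -h6
          · exact hv (h6 ▸ W.zero_mem)
      · rw [← hW, Submodule.disjoint_def]
        intro x hx hx'
        rw [Submodule.mem_span_range_iff_exists_fun] at hx'
        obtain ⟨g, rfl⟩ := hx'
        simp only [Fin.sum_univ_two, if_true, Fin.one_eq_zero_iff, OfNat.ofNat_ne_one, if_false] at hx ⊢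
        by_cases h1 : g 1 = 0
        · rw [h1, zero_smul, add_zero] at hx ⊢
          by_cases h0 : g 0 = 0
          · rw [h0, zero_smul]
          · exact absurd (by simpa [smul_smul, h0] using W.smul_mem (g 0)⁻¹ hx) hv
        · exfalso
          have h3 := hWT _ hx
          rw [map_add, map_smul, map_smul, hT] at h3
          have h4 : (g 1 * (g 1 * z) - g 0 * g 0) • v ∈ W := by
            have h5 := W.sub_mem (W.smul_mem (g 1) h3) (W.smul_mem (g 0) hx)
            convert h5 using 1
            module
          by_cases h6 : g 1 * (g 1 * z) - g 0 * g 0 = 0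
          · apply hsq (g 0 / g 1)
            field_simp
            linear_combination -h6
          · exact hv (by simpa [smul_smul, h6] using W.smul_mem (g 1 * (g 1 * z) - g 0 * g 0)⁻¹ h4)

/-- A map with square a nonzero scalar permutes the blocks of some decomposition. -/
theorem exists_decomposition {F : Type*} [Field F] [Finite F] {n : ℕ} (a t : ℕ) (hat : n = a * t) (ha : 1 ≤ a)
    (ht : 2 ≤ t) (T : (Fin n → F) →ₗ[F] (Fin n → F)) (z : F) (hz : z ≠ 0) (hT : ∀ v, T (T v) = z • v) :
    ∃ D : Fin t → Submodule F (Fin n → F), Cfsg.Geo.IsMDecomposition a D ∧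
        ∃ σ : Equiv.Perm (Fin t), ∀ j, (D j).map T = D (σ j) := by
  classical
  obtain ⟨r, s, b, c, hp, hs⟩ := exists_normal_basis T z hz hT
  have hn : (r * 2 + s) = a * t := by
    have := Module.finrank_eq_card_basis b
    simp only [Module.finrank_fin_fun, Fintype.card_sum, Fintype.card_prod, Fintype.card_fin] at this
    omega
  obtain ⟨σ, ι, hι, hσ, hfix⟩ := exists_layout a t r ha (by omega)
  have hcard : Fintype.card ((Fin r × Fin 2) ⊕ Fin s) = Fintype.card (Fin t × Fin a) := by
    simp only [Fintype.card_sum, Fintype.card_prod, Fintype.card_fin]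
    rw [mul_comm t a]; exact hn
  obtain ⟨k, hk⟩ := Equiv.Perm.exists_extending_pair
    (fun x : Fin r × Fin 2 => (Fintype.equivOfCardEq hcard) (.inl x)) ι
    ((Fintype.equivOfCardEq hcard).injective.comp Sum.inl_injective) hι
  let E : (Fin r × Fin 2) ⊕ Fin s ≃ Fin t × Fin a := (Fintype.equivOfCardEq hcard).trans k
  have hE : ∀ x, E (.inl x) = ι x := fun x => hk x
  let β := b.reindex E
  let D : Fin t → Submodule F (Fin n → F) := fun j => Submodule.span F (Set.range fun i => β (j, i))
  have hmap : ∀ x, T (β x) ∈ D (σ x.1) := by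
    intro x
    obtain ⟨y, rfl⟩ := E.surjective x
    simp only [β, Basis.reindex_apply, Equiv.symm_apply_apply]
    rcases y with ⟨p, e⟩ | l
    · rw [hE]
      rcases Fin.exists_fin_two.1 ⟨e, rfl⟩ with rfl | rfl
      · rw [(hp p).1, (hσ p).1]
        refine Submodule.subset_span ⟨(ι (p, 1)).2, ?_⟩
        show β _ = _
        rw [Prod.mk.eta, ← hE]
        simp [β]
      · rw [(hp p).2, (hσ p).2]
        refine Submodule.smul_mem _ _ (Submodule.subset_span ⟨(ι (p, 0)).2, ?_⟩)
        show β _ = _
        rw [Prod.mk.eta, ← hE]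
        simp [β]
    · rw [hs, hfix _ (by
        rintro ⟨y, hy⟩
        rw [← hE] at hy
        exact Sum.inl_ne_inr (E.injective hy))]
      refine Submodule.smul_mem _ _ (Submodule.subset_span ⟨(E (.inr l)).2, ?_⟩)
      show β _ = _
      rw [Prod.mk.eta]
      simp [β]
  have hfin : ∀ j, finrank F (D j) = a := fun j => by
    show finrank F (Submodule.span F (Set.range (β ∘ fun i => (j, i)))) = a
    rw [finrank_span_eq_card (β.linearIndependent.comp (fun i => (j, i)) fun i i' h => (Prod.mk.inj h).2), Fintype.card_fin]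
  refine ⟨D, ⟨ht, ha, hfin, ?_, ?_⟩, σ, fun j => ?_⟩
  · intro j
    have h1 : D j = Submodule.span F (β '' {x | x.1 = j}) := by
      refine congrArg (Submodule.span F) (Set.ext fun v => ?_)
      constructor
      · rintro ⟨i, rfl⟩; exact ⟨(j, i), rfl, rfl⟩
      · rintro ⟨⟨_, i⟩, rfl, rfl⟩; exact ⟨i, rfl⟩
    refine Disjoint.mono (h1.le) ?_ (β.linearIndependent.disjoint_span_image
      (s := {x | x.1 = j}) (t := {x | x.1 ≠ j}) (Set.disjoint_left.2 fun x h h' => h' h))
    refine iSup_le fun j' => iSup_le fun hj' => Submodule.span_mono ?_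
    rintro _ ⟨i, rfl⟩
    exact ⟨(j', i), hj', rfl⟩
  · rw [eq_top_iff, ← β.span_eq, Submodule.span_le]
    rintro _ ⟨x, rfl⟩
    exact le_iSup D x.1 (Submodule.subset_span ⟨x.2, rfl⟩)
  · have hinj : Function.Injective T := fun u v h => smul_right_injective _ hz (by
      show z • u = z • v
      rw [← hT, ← hT, h])
    refine Submodule.eq_of_le_of_finrank_eq ?_ ?_
    · rw [Submodule.map_span, Submodule.span_le]
      rintro _ ⟨_, ⟨i, rfl⟩, rfl⟩
      exact hmap (j, i)
    · rw [← LinearEquiv.finrank_eq (Submodule.equivMapOfInjective T hinj (D j)), hfin, hfin]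

/-- Involutions of PSL_n(q) and imprimitive subgroups. Here `T = PSL_n(F)` for a field `F` with `q = p^f` elements (`n ≥ 2`, `(n, q) ≠ (2, 2), (2, 3)`), `n = a·t` with `t ≥ 2`, and Ω is the set of direct-sum decompositions of `F^n` into `t` subspaces of dimension `a` (unordered; their number is the number of ordered ones divided by `t!`), whose stabilizers are the imprimitive subgroups of type GL_a(q) ≀ S_t (maximal except in some small cases; maximality is not assumed); an element of `T` of prime order `r` (a matrix `x` of determinant 1 with `x^r` scalar, `x` not scalar) fixes a point of Ω when it permutes the summands of some such decomposition. If the number of such decompositions is even, then every involution of `T` stabilizes one of them (the action is 2-elusive). -/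
theorem result {F : Type*} [Field F] [Fintype F] {p : ℕ} [Fact p.Prime] [CharP F p] {q : ℕ} (hq : Fintype.card F = q)
    (n a t : ℕ) (hn : 2 ≤ n) (hT : (n, q) ≠ (2, 2) ∧ (n, q) ≠ (2, 3)) (hat : n = a * t) (ha : 1 ≤ a) (ht : 2 ≤ t)
    (hΩ : 2 ∣ Nat.card {D : Fin t → Submodule F (Fin n → F) // Cfsg.Geo.IsMDecomposition a D} / Nat.factorial t)
    (x : Matrix.SpecialLinearGroup (Fin n) F)
    (hx1 : ∃ z : F, ((x ^ 2 : Matrix.SpecialLinearGroup (Fin n) F) : Matrix (Fin n) (Fin n) F) = z • (1 : Matrix (Fin n) (Fin n) F))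
    (hx2 : ∀ z : F, (x : Matrix (Fin n) (Fin n) F) ≠ z • (1 : Matrix (Fin n) (Fin n) F)) :
    ∃ D : Fin t → Submodule F (Fin n → F), Cfsg.Geo.IsMDecomposition a D ∧
        ∃ σ : Equiv.Perm (Fin t), ∀ j, (D j).map (Matrix.toLin' (x : Matrix (Fin n) (Fin n) F)) = D (σ j) := by
  obtain ⟨z, hz⟩ := hx1
  have hz0 : z ≠ 0 := by
    rintro rfl
    have h1 := (x ^ 2).2
    haveI : Nonempty (Fin n) := ⟨⟨0, by omega⟩⟩
    rw [hz, zero_smul, Matrix.det_zero] at h1
    exact zero_ne_one h1
  refine exists_decomposition a t hat ha ht _ z hz0 fun v => ?_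
  rw [← LinearMap.comp_apply, ← Matrix.toLin'_mul, ← pow_two, ← Matrix.SpecialLinearGroup.coe_pow, hz]
  simp [Matrix.smul_mulVec]

end Cfsg.Agent.S5957
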