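import Cfsg.Statements.S5958
import Cfsg.Agent.Lib.Linear.PrimeCriteria
import Cfsg.Agent.Lib.Linear.WeightStab
-- import your own Cfsg.Agent.* helpers here

set_option autoImplicit false
open scoped MatrixGroups
open Cfsg

namespace Cfsg.Agent.S5958

open Module Polynomial
open Cfsg.Lib.Linear
open Cfsg.Lib

universe u

variable {F : Type u} [Field F] {n : ℕ}

/-- Partition of degrees one and `e` into equal sums. -/
theorem exists_partition {ι : Type*} [DecidableEq ι] {d : ι → ℕ} {e a : ℕ} (he : 1 ≤ e)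
    (hd : ∀ i, d i = 1 ∨ d i = e) :
    ∀ (t : ℕ) (s : Finset ι), ∑ i ∈ s, d i = t * a → t * (a % e) < e →
      ∃ J : Fin t → Finset ι, (∀ j, J j ⊆ s) ∧ (∀ i j, i ≠ j → Disjoint (J i) (J j)) ∧
        (∀ j, ∑ i ∈ J j, d i = a) ∧ ∀ x ∈ s, ∃ j, x ∈ J j := by
  intro t
  induction t with
  | zero =>
    intro s hs _
    refine ⟨Fin.elim0, fun j => j.elim0, fun i => i.elim0, fun j => j.elim0, fun x hx => ?_⟩
    rw [zero_mul, Finset.sum_eq_zero_iff] at hs
    have := hs x hx
    rcases hd x with h | h <;> omega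
  | succ t ih =>
    intro s hs hlt
    have h1 : (t + 1) * a % e = (t + 1) * (a % e) := by
      rw [Nat.mul_mod, Nat.mod_mul_mod, Nat.mod_eq_of_lt hlt]
    have hsum : ∑ i : s, d i = (t + 1) * a := (Finset.sum_coe_sort s d).trans hs
    obtain ⟨K, hK⟩ := PrimeForms.exists_one (d := fun i : s => d i) (m := a) he (fun i => hd i)
      (by rw [hsum, add_mul]; omega)
      (by rw [hsum, h1, add_mul, one_mul]; omega)
    let K' := K.map (Function.Embedding.subtype _)
    have hK' : ∑ i ∈ K', d i = a := by rw [Finset.sum_map]; exact hK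
    have hKs : K' ⊆ s := fun x hx => by
      obtain ⟨y, -, rfl⟩ := Finset.mem_map.1 hx
      exact y.2
    obtain ⟨J, hJ1, hJ2, hJ3, hJ4⟩ := ih (s \ K') (by
      have := Finset.sum_sdiff (f := d) hKs
      rw [hK', hs, add_mul, one_mul] at this
      omega) (lt_of_le_of_lt (Nat.mul_le_mul_right _ t.le_succ) hlt)
    refine ⟨Fin.cons K' J, ?_, ?_, ?_, ?_⟩
    · intro j; cases j using Fin.cases with
      | zero => exact hKs
      | succ j => exact (hJ1 j).trans Finset.sdiff_subset
    · intro i j hij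
      cases i using Fin.cases with
      | zero => cases j using Fin.cases with
        | zero => exact absurd rfl hij
        | succ j => simpa using (Finset.sdiff_disjoint.mono_left (hJ1 j)).symm
      | succ i => cases j using Fin.cases with
        | zero => simpa using Finset.sdiff_disjoint.mono_left (hJ1 i)
        | succ j => simpa using hJ2 i j fun h => hij (congrArg Fin.succ h)
    · intro j; cases j using Fin.cases with
      | zero => exact hK'
      | succ j => simpa using hJ3 j
    · intro x hx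
      by_cases hxK : x ∈ K'
      · exact ⟨0, by simpa using hxK⟩
      · obtain ⟨j, hj⟩ := hJ4 x (Finset.mem_sdiff.2 ⟨hx, hxK⟩)
        exact ⟨j.succ, by simpa using hj⟩

/-- Blocks from parts: all fixed. -/
theorem decomp_of_partition {A : Matrix (Fin n) (Fin n) F} (hA : A.det ≠ 0) {ι : Type u} [Fintype ι] [DecidableEq ι]
    {f : ι → F[X]} (h : CanonicalForm.HasForm A f) (hf : ∀ i, (f i).Monic) {a t : ℕ} (ha : 0 < a) (ht : 2 ≤ t)
    (J : Fin t → Finset ι) (hJd : ∀ i j, i ≠ j → Disjoint (J i) (J j)) (hJs : ∀ j, ∑ i ∈ J j, (f i).natDegree = a)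
    (hJc : ∀ x, ∃ j, x ∈ J j) :
    ∃ D : Fin t → Submodule F (Fin n → F), Cfsg.Geo.IsMDecomposition a D ∧
      ∃ σ : Equiv.Perm (Fin t), ∀ j, (D j).map (Matrix.toLin' A) = D (σ j) := by
  obtain ⟨P, hmono, hP1, hP2, hP3⟩ := PrimeForms.exists_parts h hf
  have hinf : ∀ S T : Finset ι, Disjoint S T → P S ⊓ P T = ⊥ := fun S T hST => le_bot_iff.1
    ((inf_le_inf_left _ (hmono (fun x hx => Finset.mem_compl.2 (Finset.disjoint_right.1 hST hx) : T ⊆ Sᶜ))).trans (hP3 S).inf_eq_bot.le)
  have hsup : ∀ S T : Finset ι, Disjoint S T → P S ⊔ P T = P (S ∪ T) := by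
    intro S T hST
    refine Submodule.eq_of_le_of_finrank_eq (sup_le (hmono Finset.subset_union_left) (hmono Finset.subset_union_right)) ?_
    have h1 := Submodule.finrank_sup_add_finrank_inf_eq (P S) (P T)
    rw [hinf S T hST, finrank_bot, hP2, hP2] at h1
    rw [hP2, Finset.sum_union hST]
    omega
  have hbU : ∀ U : Finset (Fin t), U.sup (P ∘ J) = P (U.biUnion J) := by
    intro U
    induction U using Finset.induction_on with
    | empty =>
      rw [Finset.sup_empty, Finset.biUnion_empty]
      exact (Submodule.finrank_eq_zero.1 ((hP2 ∅).trans Finset.sum_empty)).symm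
    | @insert x U hx ih =>
      rw [Finset.sup_insert, Finset.biUnion_insert, ih]
      exact hsup _ _ ((Finset.disjoint_biUnion_right _ _ _).2 fun i hi => hJd x i fun h => hx (h ▸ hi))
  refine ⟨P ∘ J, ⟨ht, ha, fun j => (hP2 _).trans (hJs j), fun j => ?_, ?_⟩, 1, fun j => ?_⟩
  · refine disjoint_iff.2 (le_bot_iff.1 ((inf_le_inf_left _ (?_ : (⨆ k ≠ j, (P ∘ J) k) ≤ P (J j)ᶜ)).trans (hP3 (J j)).inf_eq_bot.le))
    exact iSup₂_le fun k hk => hmono fun x hx => Finset.mem_compl.2 (Finset.disjoint_left.1 (hJd k j hk) hx)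
  · have h1 := hbU Finset.univ
    rw [show Finset.univ.biUnion J = (Finset.univ : Finset ι) from Finset.eq_univ_iff_forall.2 fun x => by
      simpa using hJc x, Finset.sup_univ_eq_iSup] at h1
    rw [h1]
    have h2 : P (Finset.univ : Finset ι)ᶜ = ⊥ := by
      rw [Finset.compl_univ]; exact Submodule.finrank_eq_zero.1 ((hP2 ∅).trans Finset.sum_empty)
    have h3 := (hP3 (Finset.univ : Finset ι)).sup_eq_top
    rwa [h2, sup_bot_eq] at h3
  · refine Submodule.eq_of_le_of_finrank_eq (hP1 _) ?_
    have hu : Function.Injective (Matrix.toLin' A) := by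
      have hU := (Matrix.isUnit_iff_isUnit_det A).2 (Ne.isUnit hA)
      rw [Matrix.toLin'_apply'] at *
      exact Matrix.mulVec_injective_iff_isUnit.2 hU
    exact (Submodule.equivMapOfInjective _ hu _).symm.finrank_eq

/-- Blocks from a basis permuted up to scalars. -/
theorem decomp_of_monomial {κ : Type*} [Fintype κ] (β : Basis κ F (Fin n → F)) (T : (Fin n → F) →ₗ[F] (Fin n → F))
    (hT : Function.Injective T) (π : κ → κ) (hπ : ∀ x, ∃ c : F, T (β x) = c • β (π x)) {a t : ℕ} (ha : 0 < a) (ht : 2 ≤ t)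
    (E : κ ≃ Fin t × Fin a) (σ : Equiv.Perm (Fin t)) (hE : ∀ x, (E (π x)).1 = σ (E x).1) :
    ∃ D : Fin t → Submodule F (Fin n → F), Cfsg.Geo.IsMDecomposition a D ∧
      ∃ σ : Equiv.Perm (Fin t), ∀ j, (D j).map T = D (σ j) := by
  let γ := β.reindex E
  let D : Fin t → Submodule F (Fin n → F) := fun j => Submodule.span F (Set.range fun i => γ (j, i))
  have hfin : ∀ j, finrank F (D j) = a := fun j => by
    show finrank F (Submodule.span F (Set.range (γ ∘ fun i => (j, i)))) = a
    rw [finrank_span_eq_card (γ.linearIndependent.comp (fun i => (j, i)) fun i i' h => (Prod.mk.inj h).2), Fintype.card_fin]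
  refine ⟨D, ⟨ht, ha, hfin, fun j => ?_, ?_⟩, σ, fun j => ?_⟩
  · have h1 := γ.linearIndependent.disjoint_span_image (s := {p | p.1 = j}) (t := {p | p.1 ≠ j})
      (Set.disjoint_left.2 fun p hp hp' => hp' hp)
    refine h1.mono (Submodule.span_mono ?_) (iSup₂_le fun k hk => Submodule.span_mono ?_)
    · rintro _ ⟨i, rfl⟩; exact ⟨(j, i), rfl, rfl⟩
    · rintro _ ⟨i, rfl⟩; exact ⟨(k, i), hk, rfl⟩
  · rw [eq_top_iff, ← γ.span_eq, Submodule.span_le]
    rintro _ ⟨⟨j, i⟩, rfl⟩
    exact Submodule.mem_iSup_of_mem j (Submodule.subset_span ⟨i, rfl⟩)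
  · refine Submodule.eq_of_le_of_finrank_eq ?_ ?_
    · rw [Submodule.map_span, Submodule.span_le]
      rintro _ ⟨_, ⟨i, rfl⟩, rfl⟩
      obtain ⟨c, hc⟩ := hπ (E.symm (j, i))
      show T (γ (j, i)) ∈ D (σ j)
      rw [show T (γ (j, i)) = c • β (π (E.symm (j, i))) from (congrArg T (β.reindex_apply E (j, i))).trans hc]
      refine Submodule.smul_mem _ _ (Submodule.subset_span ⟨(E (π (E.symm (j, i)))).2, ?_⟩)
      have h := hE (E.symm (j, i))
      rw [Equiv.apply_symm_apply] at h
      show γ (σ j, (E (π (E.symm (j, i)))).2) = β (π (E.symm (j, i)))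
      rw [← h, Prod.mk.eta, Basis.reindex_apply, Equiv.symm_apply_apply]
    · rw [← (Submodule.equivMapOfInjective T hT _).finrank_eq, hfin, hfin]

/-- The basis of powers of the root, for binomial factors. -/
theorem exists_binomial_basis {A : Matrix (Fin n) (Fin n) F} {ι : Type u} [Fintype ι] {f : ι → F[X]}
    (h : CanonicalForm.HasForm A f) (d : ι → ℕ) (s : ι → F) (hd : ∀ i, 1 ≤ d i) (hf : ∀ i, f i = X ^ d i - C (s i)) :
    ∃ β : Basis (Σ i, Fin (d i)) F (Fin n → F),
      ∀ x : Σ i, Fin (d i), ∃ c : F, Matrix.toLin' A (β x) = c • β ⟨x.1, finRotate (d x.1) x.2⟩ := by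
  classical
  obtain ⟨Ψ, hΨ⟩ := h
  have hm : ∀ i, (f i).Monic := fun i => hf i ▸ monic_X_pow_sub_C _ (by have := hd i; omega)
  have hdeg : ∀ i, (AdjoinRoot.powerBasis' (hm i)).dim = d i := fun i => by
    show (f i).natDegree = d i
    rw [hf i, natDegree_X_pow_sub_C]
  let b : ∀ i, Basis (Fin (d i)) F (AdjoinRoot (f i)) :=
    fun i => (AdjoinRoot.powerBasis' (hm i)).basis.reindex (finCongr (hdeg i))
  have hb : ∀ i j, b i j = AdjoinRoot.root (f i) ^ (j : ℕ) := fun i j => by
    simp [b, PowerBasis.coe_basis, AdjoinRoot.powerBasis'_gen]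
  let β := (Pi.basis b).map Ψ.symm
  refine ⟨β, fun x => ⟨if (x.2 : ℕ) + 1 = d x.1 then s x.1 else 1, Ψ.injective (funext fun k => ?_)⟩⟩
  obtain ⟨i, j⟩ := x
  rw [Matrix.toLin'_apply, hΨ, map_smul, Pi.smul_apply]
  simp only [β, Basis.map_apply, LinearEquiv.apply_symm_apply, Pi.basis_apply]
  by_cases hk : k = i
  · subst hk
    rw [Pi.single_eq_same, Pi.single_eq_same, hb, hb, ← pow_succ']
    obtain ⟨D, hD⟩ : ∃ D, d k = D + 1 := ⟨d k - 1, by have := hd k; omega⟩
    by_cases hl : (j : ℕ) + 1 = d k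
    · have h0 : ((finRotate (d k) j : Fin (d k)) : ℕ) = 0 := by
        revert j; rw [hD]; intro j hl
        rw [coe_finRotate, if_pos (Fin.ext (by simp only [Fin.val_last]; omega))]
      rw [if_pos hl, hl, h0, pow_zero, Algebra.smul_def, mul_one, ← sub_eq_zero]
      have h2 := AdjoinRoot.mk_self (f := f k)
      conv_lhs at h2 => arg 2; rw [hf k]
      rwa [map_sub, map_pow, AdjoinRoot.mk_X, AdjoinRoot.mk_C] at h2
    · have h0 : ((finRotate (d k) j : Fin (d k)) : ℕ) = j + 1 := by
        revert j; rw [hD]; intro j hl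
        rw [coe_finRotate, if_neg (fun h => hl (by rw [h]; simp))]
      rw [if_neg hl, h0, one_smul]
  · rw [Pi.single_eq_of_ne hk, Pi.single_eq_of_ne hk, mul_zero, smul_zero]

section coords

variable {a t : ℕ} {D : Fin t → Submodule F (Fin n → F)} {T : (Fin n → F) →ₗ[F] (Fin n → F)}
  {σ : Equiv.Perm (Fin t)} {φ : (Fin t → Fin a → F) ≃ₗ[F] (Fin n → F)}

theorem coord_zero (hD : ∀ x j, x ∈ D j ↔ ∀ l, l ≠ j → φ.symm x l = 0) (hσ : ∀ j, (D j).map T = D (σ j))
    {x : Fin n → F} {k : Fin t} (hx : φ.symm x k = 0) : φ.symm (T x) (σ k) = 0 := by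
  classical
  have hsum : x = ∑ l, φ (Pi.single l (φ.symm x l)) := by
    rw [← map_sum, Finset.univ_sum_single, φ.apply_symm_apply]
  rw [hsum, map_sum, map_sum, Finset.sum_apply]
  refine Finset.sum_eq_zero fun l _ => ?_
  by_cases hl : l = k
  · rw [hl, hx, Pi.single_zero, map_zero, map_zero, map_zero, Pi.zero_apply]
  · exact (hD _ _).1 (hσ l ▸ Submodule.mem_map_of_mem (Weight.single_mem φ hD l _)) _ fun h => hl (σ.injective h.symm)

theorem pow_mem (hσ : ∀ j, (D j).map T = D (σ j)) {x : Fin n → F} {j : Fin t} (hx : x ∈ D j) :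
    ∀ k : ℕ, (T ^ k) x ∈ D ((σ ^ k) j) := by
  intro k
  induction k with
  | zero => simpa using hx
  | succ k ih =>
    rw [pow_succ', pow_succ', Module.End.mul_apply, Equiv.Perm.mul_apply, ← hσ]
    exact Submodule.mem_map_of_mem ih

theorem perm_pow_eq {r : ℕ} (ha : 0 < a) (hD : ∀ x j, x ∈ D j ↔ ∀ l, l ≠ j → φ.symm x l = 0)
    (hσ : ∀ j, (D j).map T = D (σ j)) (hr : T ^ r = 1) : σ ^ r = 1 := by
  refine Equiv.ext fun j => ?_
  rw [Equiv.Perm.one_apply]
  by_contra h
  let e : Fin a → F := fun _ => 1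
  have h1 := pow_mem hσ (Weight.single_mem φ hD j e) r
  rw [hr, Module.End.one_apply] at h1
  have h2 := (hD _ _).1 h1 j (Ne.symm h)
  rw [φ.symm_apply_apply, Pi.single_eq_same] at h2
  exact one_ne_zero (congrFun h2 ⟨0, ha⟩)

/-- Kernel vectors are determined by one block of an orbit. -/
theorem orbit_bound {r : ℕ} [hr : Fact r.Prime] (ha : 0 < a) (hD : ∀ x j, x ∈ D j ↔ ∀ l, l ≠ j → φ.symm x l = 0)
    (hσ : ∀ j, (D j).map T = D (σ j)) (hTr : T ^ r = 1) {j : Fin t} (hj : σ j ≠ j) :
    finrank F (LinearMap.ker (T - 1)) + (r - 1) * a ≤ n := by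
  classical
  have hper : Function.minimalPeriod σ j = r := by
    refine Function.minimalPeriod_eq_prime (p := r) ?_ hj
    show σ^[r] j = j
    rw [← Equiv.Perm.coe_pow, perm_pow_eq ha hD hσ hTr]; rfl
  let O : Finset (Fin t) := (Finset.range r).image fun i => (σ ^ i) j
  have hO : O.card = r := by
    rw [Finset.card_image_of_injOn, Finset.card_range]
    intro i hi i' hi' h
    simp only [Equiv.Perm.coe_pow] at h
    exact Function.iterate_injOn_Iio_minimalPeriod (by simpa [hper] using hi) (by simpa [hper] using hi') h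
  let S : Finset (Fin t) := insert j Oᶜ
  let L : LinearMap.ker (T - 1) →ₗ[F] ∀ _l : S, Fin a → F :=
    LinearMap.pi fun l => ((LinearMap.proj (l : Fin t)).comp φ.symm.toLinearMap).comp (Submodule.subtype _)
  have hL : Function.Injective L := (injective_iff_map_eq_zero _).2 fun v hv => by
    refine Subtype.ext (φ.symm.injective (funext fun l => ?_))
    rw [Submodule.coe_zero, map_zero, Pi.zero_apply]
    have hv' : T (v : Fin n → F) = v := by
      have := LinearMap.mem_ker.1 v.2
      rwa [LinearMap.sub_apply, Module.End.one_apply, sub_eq_zero] at this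
    by_cases hl : l ∈ O
    · obtain ⟨i, -, rfl⟩ := Finset.mem_image.1 hl
      clear hl
      induction i with
      | zero => exact congrFun hv ⟨j, Finset.mem_insert_self _ _⟩
      | succ i ih =>
        rw [pow_succ', Equiv.Perm.mul_apply, ← hv']
        exact coord_zero hD hσ ih
    · exact congrFun hv ⟨l, Finset.mem_insert_of_mem (Finset.mem_compl.2 hl)⟩
  have h1 := LinearMap.finrank_le_finrank_of_injective hL
  rw [Module.finrank_pi_fintype, Finset.sum_const, Finset.card_univ, Module.finrank_fin_fun, Fintype.card_coe, smul_eq_mul] at h1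
  have hn : n = t * a := by
    have := φ.finrank_eq
    simp [Module.finrank_pi_fintype] at this
    exact this.symm
  have hS : S.card ≤ t - (r - 1) := by
    show (insert j Oᶜ).card ≤ _
    have := Finset.card_insert_le j Oᶜ
    rw [Finset.card_compl, hO, Fintype.card_fin] at this
    have : r ≤ t := by rw [← hO]; exact (Finset.card_le_univ _).trans_eq (Fintype.card_fin t)
    have := hr.out.two_le
    omega
  have hrt : r - 1 ≤ t := by
    have := (Finset.card_le_univ O).trans_eq (Fintype.card_fin t)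
    omega
  calc finrank F (LinearMap.ker (T - 1)) + (r - 1) * a ≤ (t - (r - 1)) * a + (r - 1) * a := by
        have := Nat.mul_le_mul_right a hS
        omega
    _ = n := by rw [← add_mul, Nat.sub_add_cancel hrt, hn]

/-- Every orbit of blocks gives fixed vectors. -/
theorem orbit_lower {r : ℕ} [hr : Fact r.Prime] (hrF : (r : F) ≠ 0) (ha : 0 < a) (hD : ∀ x j, x ∈ D j ↔ ∀ l, l ≠ j → φ.symm x l = 0)
    (hσ : ∀ j, (D j).map T = D (σ j)) (hTr : T ^ r = 1) (hfix : ∀ j, σ j = j → ∀ x ∈ D j, T x = x) :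
    t ≤ r * finrank F (LinearMap.ker (T - 1)) := by
  classical
  let O : Fin t → Finset (Fin t) := fun j => (Finset.range r).image fun i => (σ ^ i) j
  let N := ∑ i ∈ Finset.range r, T ^ i
  have hTN : ∀ x, N x ∈ LinearMap.ker (T - 1) := fun x => by
    rw [LinearMap.mem_ker, ← Module.End.mul_apply, mul_geom_sum, hTr, sub_self, LinearMap.zero_apply]
  let R := Finset.univ.image O
  have hsel : ∀ o : R, ∃ j, O j = (o : Finset (Fin t)) := fun o => by
    obtain ⟨j, -, hj⟩ := Finset.mem_image.1 o.2
    exact ⟨j, hj⟩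
  choose rep hrep using hsel
  let e : Fin a → F := fun _ => 1
  let v : R → LinearMap.ker (T - 1) := fun o => ⟨N (φ (Pi.single (rep o) e)), hTN _⟩
  have hcoord : ∀ o o' : R, φ.symm (v o : Fin n → F) (rep o') = if o = o' then (if σ (rep o) = rep o then (r : F) • e else e) else 0 := by
    intro o o'
    show φ.symm (N (φ (Pi.single (rep o) e))) (rep o') = _
    simp only [N, LinearMap.sum_apply, map_sum, Finset.sum_apply]
    by_cases ho : o = o'
    · subst ho
      rw [if_pos rfl]
      by_cases hf : σ (rep o) = rep o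
      · have hk : ∀ i : ℕ, (T ^ i) (φ (Pi.single (rep o) e)) = φ (Pi.single (rep o) e) := by
          intro i
          induction i with
          | zero => simp
          | succ i ih => rw [pow_succ', Module.End.mul_apply, ih, hfix _ hf _ (Weight.single_mem φ hD _ _)]
        rw [if_pos hf, Finset.sum_congr rfl fun i _ => by rw [hk i, φ.symm_apply_apply, Pi.single_eq_same],
          Finset.sum_const, Finset.card_range, Nat.cast_smul_eq_nsmul]
      · rw [if_neg hf]
        have hper : Function.minimalPeriod σ (rep o) = r := by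
          refine Function.minimalPeriod_eq_prime (p := r) ?_ hf
          show σ^[r] (rep o) = rep o
          rw [← Equiv.Perm.coe_pow, perm_pow_eq ha hD hσ hTr]; rfl
        rw [Finset.sum_eq_single_of_mem 0 (Finset.mem_range.2 hr.out.pos)]
        · simp
        · intro i hi hi0
          refine (hD _ _).1 (pow_mem hσ (Weight.single_mem φ hD _ _) i) _ fun h => hi0 ?_
          rw [Equiv.Perm.coe_pow] at h
          exact Function.iterate_injOn_Iio_minimalPeriod (f := σ) (x := rep o) (by simpa [hper] using Finset.mem_range.1 hi)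
            (by simpa [hper] using hr.out.pos) (by simpa using h.symm)
    · rw [if_neg ho]
      refine Finset.sum_eq_zero fun i hi => (hD _ _).1 (pow_mem hσ (Weight.single_mem φ hD _ _) i) _ fun h => ho ?_
      have hp : ∀ k : ℕ, σ ^ k = σ ^ (k % r) := fun k => pow_eq_pow_mod k (perm_pow_eq ha hD hσ hTr)
      refine Subtype.ext ((hrep o).symm.trans (Eq.trans ?_ (hrep o')))
      ext x
      simp only [O, Finset.mem_image, Finset.mem_range]
      constructor
      · rintro ⟨k, hk, rfl⟩
        refine ⟨(k + (r - i)) % r, Nat.mod_lt _ hr.out.pos, ?_⟩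
        rw [h, ← Equiv.Perm.mul_apply, ← pow_add, hp (_ + i)]
        congr 2
        rw [Nat.mod_add_mod, show k + (r - i) + i = k + r by rw [Finset.mem_range] at hi; omega, Nat.add_mod_right,
          Nat.mod_eq_of_lt hk]
      · rintro ⟨k, -, rfl⟩
        refine ⟨(k + i) % r, Nat.mod_lt _ hr.out.pos, ?_⟩
        rw [h, ← Equiv.Perm.mul_apply, ← pow_add, ← hp]
  have hli : LinearIndependent F v := by
    rw [Fintype.linearIndependent_iff]
    intro g hg o'
    have h1 := congrArg (fun w : LinearMap.ker (T - 1) => φ.symm (w : Fin n → F) (rep o') ⟨0, ha⟩) hg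
    simp only [Submodule.coe_sum, Submodule.coe_smul, map_sum, map_smul, Finset.sum_apply, Pi.smul_apply, hcoord,
      Submodule.coe_zero, map_zero, Pi.zero_apply] at h1
    rw [Finset.sum_eq_single o' (fun o _ ho => by rw [if_neg ho]; simp) (fun h => absurd (Finset.mem_univ _) h), if_pos rfl] at h1
    split_ifs at h1 with hf
    · simpa [e, hrF] using h1
    · simpa [e] using h1
  have h1 := hli.fintype_card_le_finrank
  rw [Fintype.card_coe] at h1
  have h2 := Finset.card_le_mul_card_image (f := O) (Finset.univ : Finset (Fin t)) r (fun o ho => by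
    obtain ⟨j0, -, rfl⟩ := Finset.mem_image.1 ho
    calc _ ≤ (O j0).card := Finset.card_le_card fun j hj => by
          rw [← (Finset.mem_filter.1 hj).2]
          exact Finset.mem_image.2 ⟨0, Finset.mem_range.2 hr.out.pos, by simp⟩
      _ ≤ r := Finset.card_image_le.trans_eq (Finset.card_range r))
  rw [Finset.card_univ, Fintype.card_fin] at h2
  exact h2.trans (Nat.mul_le_mul_left r h1)

end coords

variable [Fintype F]

/-- A divisor of the number of decompositions bounds the order of the field size. -/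
theorem order_le {a t r : ℕ} [hr : Fact r.Prime] (hat : n = a * t) (ha : 0 < a) (ht : 2 ≤ t) (hrq : ¬ r ∣ Fintype.card F)
    (hΩ : r ∣ Nat.card {D : Fin t → Submodule F (Fin n → F) // Cfsg.Geo.IsMDecomposition a D} / Nat.factorial t) :
    orderOf (Fintype.card F : ZMod r) ≤ n := by
  classical
  let X := {D : Fin t → Submodule F (Fin n → F) // Cfsg.Geo.IsMDecomposition a D}
  have hperm : ∀ (D : Fin t → Submodule F (Fin n → F)) (π : Equiv.Perm (Fin t)), Cfsg.Geo.IsMDecomposition a D →
      Cfsg.Geo.IsMDecomposition a (D ∘ π) := fun D π h =>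
    ⟨h.two_le, h.pos, fun i => h.finrank_eq _, h.indep.comp π.injective, (π.surjective.iSup_comp D).trans h.iSup_eq_top⟩
  letI : MulAction (Equiv.Perm (Fin t)) X :=
    { smul := fun π D => ⟨D.1 ∘ π.symm, hperm _ _ D.2⟩
      one_smul := fun D => Subtype.ext rfl
      mul_smul := fun π ρ D => Subtype.ext rfl }
  have hfree : ∀ D : X, MulAction.stabilizer (Equiv.Perm (Fin t)) D = ⊥ := by
    intro D
    rw [Subgroup.eq_bot_iff_forall]
    intro π hπ
    refine Equiv.ext fun i => ?_
    have h1 : D.1 (π.symm (π i)) = D.1 (π i) := congrFun (congrArg Subtype.val (MulAction.mem_stabilizer_iff.1 hπ)) (π i)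
    rw [Equiv.symm_apply_apply] at h1
    have hne : D.1 i ≠ ⊥ := fun h => by
      have := D.2.finrank_eq i
      rw [h, finrank_bot] at this
      exact D.2.pos.ne this
    exact (D.2.indep.injOn (x₁ := i) hne (by rwa [Set.mem_setOf_eq, ← h1]) h1).symm
  have hX : r ∣ Nat.card X := by
    have h1 := Nat.card_congr (MulAction.selfEquivOrbitsQuotientProd hfree)
    rw [Nat.card_prod, Nat.card_perm, Nat.card_fin] at h1
    rw [h1, Nat.mul_div_cancel _ (Nat.factorial_pos t)] at hΩ
    exact h1 ▸ hΩ.mul_right _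
  have hbot : ∀ (e : (Fin n → F) ≃ₗ[F] (Fin n → F)) (D : X), Cfsg.Geo.IsMDecomposition a fun j => (D.1 j).map (e : (Fin n → F) →ₗ[F] (Fin n → F)) :=
    fun e D => ⟨D.2.two_le, D.2.pos, fun i => (LinearEquiv.finrank_map_eq e _).trans (D.2.finrank_eq i),
      D.2.indep.map_orderIso (Submodule.orderIsoMapComap e), by rw [← Submodule.map_iSup, D.2.iSup_eq_top, Submodule.map_top]; exact LinearEquiv.range e⟩
  letI : MulAction ((Fin n → F) ≃ₗ[F] (Fin n → F)) X :=
    { smul := fun e D => ⟨_, hbot e D⟩
      one_smul := fun D => Subtype.ext (funext fun j => Submodule.map_id _)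
      mul_smul := fun e e' D => Subtype.ext (funext fun j => Submodule.map_comp _ _ _) }
  haveI : MulAction.IsPretransitive ((Fin n → F) ≃ₗ[F] (Fin n → F)) X := by
    refine ⟨fun D D' => ?_⟩
    obtain ⟨φ, hφ⟩ := Weight.exists_coords D.2
    obtain ⟨φ', hφ'⟩ := Weight.exists_coords D'.2
    refine ⟨φ.symm.trans φ', Subtype.ext (funext fun j => ?_)⟩
    show (D.1 j).map ((φ.symm.trans φ') : (Fin n → F) →ₗ[F] (Fin n → F)) = D'.1 j
    refine Submodule.eq_of_le_of_finrank_eq ?_ ?_
    · rintro _ ⟨x, hx, rfl⟩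
      refine (hφ' _ _).2 fun l hl => ?_
      simp only [LinearEquiv.coe_coe, LinearEquiv.trans_apply, LinearEquiv.symm_apply_apply]
      exact (hφ x j).1 hx l hl
    · rw [LinearEquiv.finrank_map_eq, D.2.finrank_eq, D'.2.finrank_eq]
  obtain ⟨D0, hD0, -⟩ := decomp_of_monomial (Pi.basisFun F (Fin n)) LinearMap.id Function.injective_id id
    (fun x => ⟨1, by simp⟩) ha ht ((finCongr (hat.trans (mul_comm a t))).trans finProdFinEquiv.symm) 1 (fun x => rfl)
  have h2 : r ∣ Nat.card ((Fin n → F) ≃ₗ[F] (Fin n → F)) := by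
    refine hX.trans ?_
    rw [← MulAction.index_stabilizer_of_transitive ((Fin n → F) ≃ₗ[F] (Fin n → F)) (⟨D0, hD0⟩ : X)]
    exact Subgroup.index_dvd_card _
  rw [Nat.card_congr ((LinearMap.GeneralLinearGroup.generalLinearEquiv F (Fin n → F)).symm.trans
    Matrix.GeneralLinearGroup.toLin.symm).toEquiv, Matrix.card_GL_field] at h2
  obtain ⟨i, -, hi⟩ := (hr.out.prime.dvd_finsetProd_iff _).1 h2
  have hqn : Fintype.card F ^ n - Fintype.card F ^ (i : ℕ) = Fintype.card F ^ (i : ℕ) * (Fintype.card F ^ (n - i) - 1) := by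
    rw [Nat.mul_sub, mul_one, ← pow_add, Nat.add_sub_cancel' i.2.le]
  rw [hqn] at hi
  have h3 : orderOf (Fintype.card F : ZMod r) ∣ n - i := by
    refine orderOf_dvd_of_pow_eq_one ?_
    have h4 := (ZMod.natCast_eq_zero_iff _ _).2 ((hr.out.dvd_mul.1 hi).resolve_left fun h => hrq (hr.out.dvd_of_dvd_pow h))
    rwa [Nat.cast_sub (Nat.one_le_pow _ _ Fintype.card_pos), Nat.cast_pow, Nat.cast_one, sub_eq_zero] at h4
  have := Nat.le_of_dvd (by omega) h3
  omega

/-- An element of prime order with given fixed space. -/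
theorem exists_fixed {r b : ℕ} [hr : Fact r.Prime] (hrF : (r : F) ≠ 0)
    (he : 2 ≤ orderOf (Fintype.card F : ZMod r)) (hb : 1 ≤ b) (hbn : orderOf (Fintype.card F : ZMod r) * b ≤ n) :
    ∃ x : Matrix.SpecialLinearGroup (Fin n) F, (x : Matrix (Fin n) (Fin n) F) ^ r = 1 ∧
      (∀ z : F, (x : Matrix (Fin n) (Fin n) F) ≠ z • 1) ∧
      finrank F (LinearMap.ker (Matrix.toLin' (x : Matrix (Fin n) (Fin n) F) - 1)) = n - orderOf (Fintype.card F : ZMod r) * b := by
  classical
  set e := orderOf (Fintype.card F : ZMod r)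
  obtain ⟨g, hgm, hgi, hgd⟩ := exists_monic_irreducible_factor (cyclotomic r F) (not_isUnit_of_natDegree_pos _ (by
    rw [natDegree_cyclotomic, Nat.totient_prime hr.out]
    exact Nat.sub_pos_of_lt hr.out.one_lt))
  have hg1 : g ≠ X - C 1 := fun h => by
    have h1 : IsRoot (cyclotomic r F) 1 := dvd_iff_isRoot.1 (h ▸ hgd)
    rw [IsRoot, eval_one_cyclotomic_prime] at h1
    exact hrF h1
  have hgX : g ∣ X ^ r - C (1 : F) := by
    rw [C_1]; exact hgd.trans (cyclotomic.dvd_X_pow_sub_one r F)
  have hdeg : g.natDegree = e := (PrimeForms.natDegree_of_dvd hrF hgm hgi one_ne_zero ((one_pow r : (1 : F) ^ r = 1).symm ▸ hgX)).resolve_left hg1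
  let ι := ULift.{u} (Fin b) ⊕ ULift.{u} (Fin (n - e * b))
  let f : ι → F[X] := Sum.elim (fun _ => g) (fun _ => X - C 1)
  have hf : ∀ i, (f i).Monic := by
    rintro (i | i)
    exacts [hgm, monic_X_sub_C 1]
  obtain ⟨A, hA⟩ := CanonicalForm.exists_matrix (n := n) f hf (by
    simp [ι, f, Fintype.sum_sum_type, hdeg, natDegree_X_sub_C, mul_comm b e, Nat.add_sub_cancel' hbn, -map_one])
  have hAr : A ^ r = 1 := by
    have h1 := (hA.aeval_eq_zero_iff (X ^ r - C (1 : F))).2 (by
      rintro (i | i)
      · exact hgX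
      · exact dvd_iff_isRoot.2 (by simp))
    rwa [map_sub, map_pow, aeval_X, aeval_C, map_one, sub_eq_zero] at h1
  have hdet : A.det = 1 := by
    have h := congrArg Matrix.det hAr
    rw [Matrix.det_pow, Matrix.det_one] at h
    by_contra hne
    have h2 : r ∣ Fintype.card F - 1 := by
      rw [← orderOf_eq_prime h hne]
      exact orderOf_dvd_of_pow_eq_one (FiniteField.pow_card_sub_one_eq_one _ fun h0 => by
        rw [h0, zero_pow hr.out.ne_zero] at h; exact zero_ne_one h)
    have := PrimeCriteria.dvd_sub_one_iff.2 h2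
    omega
  refine ⟨⟨A, hdet⟩, hAr, fun z hz => ?_, ?_⟩
  · have h1 := (hA.aeval_eq_zero_iff (X - C z)).1 (by
      rw [map_sub, aeval_X, aeval_C, Algebra.algebraMap_eq_smul_one]; exact sub_eq_zero.2 hz)
    have h2 := natDegree_le_of_dvd (h1 (Sum.inl ⟨⟨0, hb⟩⟩)) (X_sub_C_ne_zero z)
    rw [natDegree_X_sub_C, show f (Sum.inl ⟨⟨0, hb⟩⟩) = g from rfl, hdeg] at h2
    omega
  · obtain ⟨Ψ, hΨ⟩ := hA
    haveI : ∀ i, Module.Finite F (AdjoinRoot (f i)) := fun i => (hf i).finite_adjoinRoot
    haveI : Fact (Irreducible g) := ⟨hgi⟩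
    let L : LinearMap.ker (Matrix.toLin' A - 1) →ₗ[F] ∀ i : ULift.{u} (Fin (n - e * b)), AdjoinRoot (f (Sum.inr i)) :=
      LinearMap.pi fun i => ((LinearMap.proj (Sum.inr i : ι)).comp Ψ.toLinearMap).comp (Submodule.subtype _)
    have hker : ∀ v, v ∈ LinearMap.ker (Matrix.toLin' A - 1) ↔ A.mulVec v = v := fun v => by
      rw [LinearMap.mem_ker, LinearMap.sub_apply, Matrix.toLin'_apply, Module.End.one_apply, sub_eq_zero]
    have hL : Function.Bijective L := by
      constructor
      · refine (injective_iff_map_eq_zero _).2 fun v hv => ?_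
        refine Subtype.ext (Ψ.injective (funext fun i => ?_))
        rw [Submodule.coe_zero, map_zero, Pi.zero_apply]
        rcases i with i | i
        · have h2 := hΨ v (Sum.inl i)
          rw [(hker _).1 v.2] at h2
          have h3 : (AdjoinRoot.root g - 1) * (show AdjoinRoot g from Ψ v (Sum.inl i)) = 0 := by
            rw [sub_mul, one_mul, sub_eq_zero]; exact h2.symm
          refine (mul_eq_zero.1 h3).resolve_left fun h4 => hg1 ?_
          have h5 : AdjoinRoot.mk g (X - C 1) = 0 := by rw [map_sub, AdjoinRoot.mk_X, C_1, map_one]; exact h4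
          exact eq_of_monic_of_associated hgm (monic_X_sub_C 1) (hgi.associated_of_dvd (irreducible_X_sub_C 1) (AdjoinRoot.mk_eq_zero.1 h5))
        · exact congrFun hv i
      · intro w
        let z : ∀ i, AdjoinRoot (f i) := fun i => match i with
          | Sum.inl _ => 0
          | Sum.inr i => w i
        refine ⟨⟨Ψ.symm z, (hker _).2 (Ψ.injective (funext fun i => ?_))⟩, funext fun i => ?_⟩
        · rw [hΨ, Ψ.apply_symm_apply]
          rcases i with i | i
          · exact mul_zero _
          · have h1 : AdjoinRoot.root (f (Sum.inr i)) = 1 := by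
              show AdjoinRoot.root (X - C (1 : F)) = 1
              have := AdjoinRoot.mk_self (f := X - C (1 : F))
              rwa [map_sub, AdjoinRoot.mk_X, AdjoinRoot.mk_C, map_one, sub_eq_zero] at this
            rw [h1, one_mul]
        · show Ψ (Ψ.symm z) (Sum.inr i) = w i
          rw [Ψ.apply_symm_apply]
    rw [(LinearEquiv.ofBijective L hL).finrank_eq, Module.finrank_pi_fintype, Finset.sum_congr rfl (g := fun _ => 1), Finset.sum_const,
      Finset.card_univ, Fintype.card_ulift, Fintype.card_fin, smul_eq_mul, mul_one]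
    intro i _
    rw [(AdjoinRoot.powerBasis' (hf (Sum.inr i))).finrank]
    exact natDegree_X_sub_C 1

/-- Lines: the element is conjugate to a monomial one. -/
theorem lines_case {r : ℕ} [hr : Fact r.Prime] (hrF : (r : F) ≠ 0) (hn : 2 ≤ n)
    (hc : orderOf (Fintype.card F : ZMod r) = r - 1) (hcr : n ≤ n % orderOf (Fintype.card F : ZMod r) * r)
    {A : Matrix (Fin n) (Fin n) F} (hA : A.det ≠ 0) {d : F} (hd : d ≠ 0) (hAr : A ^ r = d ^ r • 1) :
    ∃ D : Fin n → Submodule F (Fin n → F), Cfsg.Geo.IsMDecomposition 1 D ∧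
      ∃ σ : Equiv.Perm (Fin n), ∀ j, (D j).map (Matrix.toLin' A) = D (σ j) := by
  classical
  have hr0 := hr.out.two_le
  obtain ⟨ι, hι, f, hfm, hfi, hfd, hform⟩ := PrimeForms.exists_form_pow hrF (pow_ne_zero r hd) hAr
  set g0 := (X ^ r - C (d ^ r)) /ₘ (X - C d)
  have hg0 : (X - C d) * g0 = X ^ r - C (d ^ r) := mul_divByMonic_eq_iff_isRoot.2 (by simp)
  have hg0m : g0.Monic := (monic_X_sub_C d).of_mul_monic_left (hg0 ▸ monic_X_pow_sub_C _ hr.out.ne_zero)
  have hg0d : g0.natDegree = r - 1 := by
    have h1 := (monic_X_sub_C d).natDegree_mul hg0m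
    rw [hg0, natDegree_X_sub_C, natDegree_X_pow_sub_C] at h1
    omega
  have hkind : ∀ i, f i = X - C d ∨ f i = g0 := by
    intro i
    by_cases h : f i = X - C d
    · exact Or.inl h
    refine Or.inr (eq_of_monic_of_dvd_of_natDegree_le (hfm i) hg0m ?_ ?_).symm
    · refine (((hfi i).prime.dvd_mul).1 (hg0.symm ▸ hfd i)).resolve_left fun h1 => h ?_
      exact eq_of_monic_of_associated (hfm i) (monic_X_sub_C d) ((hfi i).associated_of_dvd (irreducible_X_sub_C d) h1)
    · rw [hg0d, ((PrimeForms.natDegree_of_dvd hrF (hfm i) (hfi i) hd (hfd i)).resolve_left h), hc]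
  have hsum := hform.sum_natDegree hfm
  set B := Finset.univ.filter fun i => ¬ f i = X - C d with hB
  have h1 : ∀ i ∈ B, f i = g0 := fun i hi => (hkind i).resolve_left (Finset.mem_filter.1 hi).2
  have h2 : ∀ i ∈ Bᶜ, f i = X - C d := fun i hi => by simpa [B] using hi
  have hn' : n = Bᶜ.card + B.card * (r - 1) := by
    rw [← hsum, ← Finset.sum_add_sum_compl B, Finset.sum_congr rfl fun i hi => congrArg natDegree (h1 i hi),
      Finset.sum_congr rfl fun i hi => congrArg natDegree (h2 i hi), Finset.sum_const, Finset.sum_const, hg0d,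
      natDegree_X_sub_C, smul_eq_mul, smul_eq_mul, mul_one, add_comm]
  rw [hc] at hcr
  have hmle : n % (r - 1) ≤ Bᶜ.card := by
    rw [hn', Nat.add_mul_mod_self_right]; exact Nat.mod_le _ _
  have hBle : B.card ≤ Bᶜ.card := by
    by_contra hlt
    push Not at hlt
    have h3 : Bᶜ.card * r < Bᶜ.card + B.card * (r - 1) := by
      obtain ⟨s, hs⟩ : ∃ s, r = s + 1 := ⟨r - 1, by omega⟩
      rw [hs, Nat.add_sub_cancel, mul_add, mul_one]
      have := Nat.mul_lt_mul_of_pos_right hlt (show 0 < s by omega)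
      omega
    have := Nat.mul_le_mul_right r hmle
    omega
  let κ := ULift.{u} (Fin B.card) ⊕ ULift.{u} (Fin (Bᶜ.card - B.card))
  let dd : κ → ℕ := Sum.elim (fun _ => r) (fun _ => 1)
  let ss : κ → F := Sum.elim (fun _ => d ^ r) (fun _ => d)
  let f' : κ → F[X] := fun i => X ^ dd i - C (ss i)
  have hdd : ∀ i, 1 ≤ dd i := by rintro (i | i) <;> simp [dd] <;> omega
  have hddn : ∑ i, dd i = n := by
    have h3 : B.card * r = B.card * (r - 1) + B.card := by
      rw [← Nat.mul_add_one, Nat.sub_add_cancel hr.out.pos]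
    simp [κ, dd, Fintype.sum_sum_type]
    omega
  have hf' : ∀ i, (f' i).Monic := fun i => monic_X_pow_sub_C _ (by have := hdd i; omega)
  obtain ⟨M, hM⟩ := CanonicalForm.exists_matrix (n := n) f' hf' (by
    rw [← hddn]; exact Finset.sum_congr rfl fun i _ => natDegree_X_pow_sub_C)
  have hMr : M ^ r = d ^ r • 1 := by
    have h3 := (hM.aeval_eq_zero_iff (X ^ r - C (d ^ r))).2 (by
      rintro (i | i)
      · exact dvd_rfl
      · show X ^ 1 - C d ∣ _
        rw [pow_one]; exact dvd_iff_isRoot.2 (by simp))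
    rwa [map_sub, map_pow, aeval_X, aeval_C, Algebra.algebraMap_eq_smul_one, sub_eq_zero] at h3
  have hpow : ∀ N : Matrix (Fin n) (Fin n) F, N ^ r = d ^ r • 1 → N ^ (r * (Fintype.card F - 1)) = 1 := fun N hN => by
    rw [pow_mul, hN, _root_.smul_pow, one_pow, FiniteField.pow_card_sub_one_eq_one _ (pow_ne_zero _ hd), one_smul]
  have hkF : ((r * (Fintype.card F - 1) : ℕ) : F) ≠ 0 := by
    rw [Nat.cast_mul, Nat.cast_sub Fintype.card_pos, FiniteField.cast_card_eq_zero, Nat.cast_one, zero_sub, mul_neg, mul_one]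
    exact neg_ne_zero.2 hrF
  have hconj : IsConj M A := by
    refine CanonicalForm.isConj_of_charpoly_eq _ _ hkF hkF (hpow M hMr) (hpow A hAr) ?_
    rw [hM.charpoly hf', hform.charpoly hfm, Fintype.prod_sum_type, ← Finset.prod_mul_prod_compl B,
      Finset.prod_congr rfl h1, Finset.prod_congr rfl h2, Finset.prod_const, Finset.prod_const]
    simp only [f', dd, ss, Sum.elim_inl, Sum.elim_inr, Finset.prod_const, Finset.card_univ, Fintype.card_ulift, Fintype.card_fin, pow_one]
    rw [← hg0, mul_pow, mul_comm ((X - C d) ^ B.card), mul_assoc, ← pow_add, Nat.add_sub_cancel' hBle]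
  obtain ⟨β, hβ⟩ := exists_binomial_basis hM dd ss hdd fun i => rfl
  obtain ⟨P, hP⟩ := hconj
  let L : (Fin n → F) ≃ₗ[F] (Fin n → F) := Matrix.toLin'OfInv P.inv_mul P.mul_inv
  have hinj : Function.Injective (Matrix.toLin' A) := by
    rw [Matrix.toLin'_apply']
    exact Matrix.mulVec_injective_iff_isUnit.2 ((Matrix.isUnit_iff_isUnit_det A).2 (Ne.isUnit hA))
  have hc' : Fintype.card (Σ i, Fin (dd i)) = Fintype.card (Fin n × Fin 1) := by
    rw [Fintype.card_sigma, Fintype.card_prod, Fintype.card_fin, Fintype.card_fin, mul_one, ← hddn]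
    exact Finset.sum_congr rfl fun i _ => Fintype.card_fin _
  let E := Fintype.equivOfCardEq hc'
  let π : Equiv.Perm (Σ i, Fin (dd i)) := Equiv.sigmaCongrRight fun i => finRotate (dd i)
  refine decomp_of_monomial (β.map L) (Matrix.toLin' A) hinj π (fun x => ?_) one_pos hn E
    (((Equiv.prodUnique (Fin n) (Fin 1)).symm.trans E.symm).trans (π.trans (E.trans (Equiv.prodUnique (Fin n) (Fin 1))))) fun x => ?_
  · obtain ⟨c, hc⟩ := hβ x
    refine ⟨c, ?_⟩
    show A.mulVec ((P : Matrix (Fin n) (Fin n) F).mulVec (β x)) = c • (P : Matrix (Fin n) (Fin n) F).mulVec (β _)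
    rw [Matrix.mulVec_mulVec, ← show (P : Matrix (Fin n) (Fin n) F) * M = A * P from hP, ← Matrix.mulVec_mulVec,
      show M.mulVec (β x) = c • β (π x) from hc, Matrix.mulVec_smul]
  · have hx : ((Equiv.prodUnique (Fin n) (Fin 1)).symm (E x).1) = E x := Prod.ext rfl (Subsingleton.elim _ _)
    simp only [Equiv.trans_apply, hx, Equiv.symm_apply_apply]
    rfl

/-- Elements of odd prime order of PSL_n(q) and imprimitive subgroups. Here `T = PSL_n(F)` for a field `F` with `q = p^f` elements (`n ≥ 2`, `(n, q) ≠ (2, 2), (2, 3)`), `n = a·t` with `t ≥ 2`, and Ω is the set of direct-sum decompositions of `F^n` into `t` subspaces of dimension `a` (unordered; their number is the number of ordered ones divided by `t!`), whose stabilizers are the imprimitive subgroups of type GL_a(q) ≀ S_t (maximal except in some small cases; maximality is not assumed); an element of `T` of prime order `r` (a matrix `x` of determinant 1 with `x^r` scalar, `x` not scalar) fixes a point of Ω when it permutes the summands of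 some such decomposition. Let `r ≠ p` be an odd prime dividing the number of such decompositions, let `c` be the multiplicative order of `q` modulo `r`, and write `k = n mod c`, `ℓ = a mod c`. Then every element of `T` of order `r` stabilizes such a decomposition if and only if either `a = 1`, `c = r − 1 > 1` and `n ≤ k·r`, or `c ≤ a` and `k = t·ℓ`. -/
theorem result {F : Type*} [Field F] [Fintype F] {p : ℕ} [Fact p.Prime] [CharP F p] {q : ℕ} (hq : Fintype.card F = q)
    (n a t : ℕ) (hn : 2 ≤ n) (hT : (n, q) ≠ (2, 2) ∧ (n, q) ≠ (2, 3)) (hat : n = a * t) (ha : 1 ≤ a) (ht : 2 ≤ t)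
    (r : ℕ) [Fact r.Prime] (hr2 : r ≠ 2) (hrp : r ≠ p) (hΩ : r ∣ Nat.card {D : Fin t → Submodule F (Fin n → F) // Cfsg.Geo.IsMDecomposition a D} / Nat.factorial t)
    (c : ℕ) (hc : c = orderOf (q : ZMod r)) :
    (∀ x : Matrix.SpecialLinearGroup (Fin n) F,
      (∃ z : F, ((x ^ r : Matrix.SpecialLinearGroup (Fin n) F) : Matrix (Fin n) (Fin n) F) = z • (1 : Matrix (Fin n) (Fin n) F)) →
      (∀ z : F, (x : Matrix (Fin n) (Fin n) F) ≠ z • (1 : Matrix (Fin n) (Fin n) F)) →
      ∃ D : Fin t → Submodule F (Fin n → F), Cfsg.Geo.IsMDecomposition a D ∧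
        ∃ σ : Equiv.Perm (Fin t), ∀ j, (D j).map (Matrix.toLin' (x : Matrix (Fin n) (Fin n) F)) = D (σ j)) ↔
    ((a = 1 ∧ 1 < c ∧ c = r - 1 ∧ n ≤ (n % c) * r) ∨ (c ≤ a ∧ n % c = t * (a % c))) := by
  classical
  subst hq
  obtain ⟨hr⟩ := (inferInstance : Fact r.Prime)
  obtain ⟨hp⟩ := (inferInstance : Fact p.Prime)
  have hn0 : n ≠ 0 := by omega
  have hrF : (r : F) ≠ 0 := fun h => hrp ((Nat.prime_dvd_prime_iff_eq hp hr).1 ((CharP.cast_eq_zero_iff F p r).1 h)).symm
  have hrq : ¬ r ∣ Fintype.card F := fun h => by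
    obtain ⟨e, -, he⟩ := FiniteField.card F p
    exact hrp ((Nat.prime_dvd_prime_iff_eq hr hp).1 (hr.dvd_of_dvd_pow (he ▸ h)))
  have hc0 : 0 < c := hc ▸ PrimeCriteria.orderOf_pos_of_not_dvd hrq
  have hcn : c ≤ n := hc ▸ order_le hat ha ht hrq hΩ
  constructor
  · intro hall
    rcases Nat.lt_or_ge c 2 with hc1 | hc2
    · have : c = 1 := by omega
      subst this
      exact Or.inr ⟨ha, by simp [Nat.mod_one]⟩
    have key : ∀ b, 1 ≤ b → c * b ≤ n → ∃ x : Matrix.SpecialLinearGroup (Fin n) F,
        finrank F (LinearMap.ker (Matrix.toLin' (x : Matrix (Fin n) (Fin n) F) - 1)) = n - c * b ∧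
        (∀ z : F, (x : Matrix (Fin n) (Fin n) F) ≠ z • 1) ∧
        (Matrix.toLin' (x : Matrix (Fin n) (Fin n) F)) ^ r = 1 ∧
        ∃ D : Fin t → Submodule F (Fin n → F), Cfsg.Geo.IsMDecomposition a D ∧
          ∃ σ : Equiv.Perm (Fin t), (∀ j, (D j).map (Matrix.toLin' (x : Matrix (Fin n) (Fin n) F)) = D (σ j)) ∧
          ∀ j, σ j = j → a % c ≤ finrank F ↥(D j ⊓ LinearMap.ker (Matrix.toLin' (x : Matrix (Fin n) (Fin n) F) - 1)) := by
      intro b hb hbn
      subst hc
      obtain ⟨x, hx, hns, hK⟩ := exists_fixed (r := r) hrF hc2 hb hbn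
      obtain ⟨D, hD, σ, hσ⟩ := hall x ⟨1, by rw [Matrix.SpecialLinearGroup.coe_pow, one_smul]; exact hx⟩ hns
      refine ⟨x, hK, hns, by rw [← Matrix.toLin'_pow, hx, Matrix.toLin'_one]; rfl, D, hD, σ, hσ, fun j hj => ?_⟩
      have h1 := PrimeForms.finrank_modEq hrq hx (D j) ((hσ j).trans_le (le_of_eq (congrArg D hj)))
      rw [hD.finrank_eq] at h1
      rw [show a % orderOf (Fintype.card F : ZMod r) = _ from h1]
      exact Nat.mod_le _ _
    rcases le_or_gt c a with hca | hca
    · refine Or.inr ⟨hca, ?_⟩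
      obtain ⟨x, hK, -, hxr, D, hD, σ, hσ, hfix⟩ := key (n / c) (Nat.div_pos hcn hc0) (Nat.mul_div_le n c)
      obtain ⟨φ, hφ⟩ := Cfsg.Lib.Linear.Weight.exists_coords hD
      set T := Matrix.toLin' (x : Matrix (Fin n) (Fin n) F)
      rw [← Nat.mod_eq_sub_mul_div] at hK
      have hall' : ∀ j, σ j = j := by
        intro j
        by_contra hj
        have hinj : ∀ v ∈ D j, (∑ i ∈ Finset.range r, T ^ i) v = 0 → v = 0 := by
          intro v hv h0
          have hper : Function.minimalPeriod σ j = r := by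
            refine Function.minimalPeriod_eq_prime (p := r) ?_ hj
            show σ^[r] j = j
            rw [← Equiv.Perm.coe_pow, perm_pow_eq ha hφ hσ hxr]; rfl
          have h1 := congrArg (fun w => φ.symm w j) h0
          simp only [LinearMap.sum_apply, map_sum, Finset.sum_apply, map_zero, Pi.zero_apply] at h1
          rw [Finset.sum_eq_single_of_mem 0 (Finset.mem_range.2 hr.pos)] at h1
          · rw [pow_zero, Module.End.one_apply] at h1
            refine φ.symm.injective (funext fun l => ?_)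
            rw [map_zero, Pi.zero_apply]
            by_cases hl : l = j
            · rw [hl]; exact h1
            · exact (hφ _ _).1 hv l hl
          · intro i hi hi0
            refine (hφ _ _).1 (pow_mem hσ hv i) _ fun h => hi0 ?_
            rw [Equiv.Perm.coe_pow] at h
            exact Function.iterate_injOn_Iio_minimalPeriod (f := σ) (x := j) (by simpa [hper] using Finset.mem_range.1 hi)
              (by simpa [hper] using hr.pos) (by simpa using h.symm)
        let L : D j →ₗ[F] LinearMap.ker (T - 1) := ((∑ i ∈ Finset.range r, T ^ i).comp (D j).subtype).codRestrict _ fun v => by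
          rw [LinearMap.mem_ker, LinearMap.comp_apply, ← Module.End.mul_apply, mul_geom_sum, hxr, sub_self, LinearMap.zero_apply]
        have h2 := LinearMap.finrank_le_finrank_of_injective (f := L)
          ((injective_iff_map_eq_zero _).2 fun v hv => Subtype.ext (hinj v v.2 (congrArg Subtype.val hv)))
        rw [hD.finrank_eq, hK] at h2
        have := Nat.mod_lt n hc0
        omega
      have hsum : t * (a % c) ≤ n % c := by
        let L : (∀ j, ↥(D j ⊓ LinearMap.ker (T - 1))) →ₗ[F] LinearMap.ker (T - 1) :=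
          ∑ j, (Submodule.inclusion (inf_le_right : D j ⊓ LinearMap.ker (T - 1) ≤ _)).comp (LinearMap.proj j)
        have hL : Function.Injective L := (injective_iff_map_eq_zero _).2 fun w hw => funext fun j => by
          refine Subtype.ext (φ.symm.injective (funext fun l => ?_))
          show φ.symm (w j : Fin n → F) l = φ.symm (0 : Fin n → F) l
          rw [map_zero, Pi.zero_apply]
          by_cases hl : l = j
          · subst hl
            have h1 := congrArg (fun v : LinearMap.ker (T - 1) => φ.symm (v : Fin n → F) l) hw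
            simp only [L, LinearMap.sum_apply, LinearMap.comp_apply, LinearMap.proj_apply, Submodule.coe_sum,
              Submodule.coe_inclusion, map_sum, Finset.sum_apply, Submodule.coe_zero, map_zero, Pi.zero_apply] at h1
            rwa [Finset.sum_eq_single l (fun k _ hk => (hφ _ _).1 (w k).2.1 _ (Ne.symm hk)) (fun h => absurd (Finset.mem_univ _) h)] at h1
          · exact (hφ _ _).1 (w j).2.1 _ hl
        have h1 := LinearMap.finrank_le_finrank_of_injective hL
        rw [Module.finrank_pi_fintype, hK] at h1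
        refine le_trans ?_ h1
        calc t * (a % c) = ∑ _j : Fin t, a % c := by simp
          _ ≤ _ := Finset.sum_le_sum fun j _ => hfix j (hall' j)
      have hlt : t * (a % c) < c := lt_of_le_of_lt hsum (Nat.mod_lt n hc0)
      rw [hat, mul_comm a t, Nat.mul_mod, Nat.mod_mul_mod, Nat.mod_eq_of_lt hlt]
    · refine Or.inl ?_
      have hfull : ∀ (x : Matrix.SpecialLinearGroup (Fin n) F) (D : Fin t → Submodule F (Fin n → F)) j,
          finrank F (D j) = a →
          a % c ≤ finrank F ↥(D j ⊓ LinearMap.ker (Matrix.toLin' (x : Matrix (Fin n) (Fin n) F) - 1)) →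
          ∀ v ∈ D j, Matrix.toLin' (x : Matrix (Fin n) (Fin n) F) v = v := by
        intro x D j hd h v hv
        rw [Nat.mod_eq_of_lt hca] at h
        have h1 := Submodule.eq_of_le_of_finrank_le (inf_le_left : D j ⊓ _ ≤ D j) (hd.trans_le h)
        rw [← h1] at hv
        exact sub_eq_zero.1 (LinearMap.mem_ker.1 hv.2)
      obtain ⟨x, hK, hns, hxr, D, hD, σ, hσ, hfix⟩ := key 1 le_rfl (by omega)
      obtain ⟨φ, hφ⟩ := Cfsg.Lib.Linear.Weight.exists_coords hD
      obtain ⟨j, hj⟩ : ∃ j, σ j ≠ j := by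
        by_contra h
        push Not at h
        refine hns 1 ?_
        rw [one_smul]
        apply Matrix.toLin'.injective
        rw [Matrix.toLin'_one]
        have htop : ⊤ ≤ LinearMap.ker (Matrix.toLin' (x : Matrix (Fin n) (Fin n) F) - 1) := by
          rw [← hD.iSup_eq_top]
          refine iSup_le fun j v hv => ?_
          rw [LinearMap.mem_ker, LinearMap.sub_apply, Module.End.one_apply, sub_eq_zero]
          exact hfull x D j (hD.finrank_eq j) (hfix j (h j)) v hv
        exact LinearMap.ext fun v => sub_eq_zero.1 (LinearMap.mem_ker.1 (htop (Submodule.mem_top (x := v))))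
      have h1 := orbit_bound (r := r) ha hφ hσ hxr hj
      rw [hK] at h1
      have hdvd : c ∣ r - 1 := by
        rw [hc]
        exact orderOf_dvd_of_pow_eq_one (ZMod.pow_card_sub_one_eq_one fun h => hrq ((ZMod.natCast_eq_zero_iff _ _).1 h))
      have hr1 : c ≤ r - 1 := Nat.le_of_dvd (Nat.sub_pos_of_lt hr.one_lt) hdvd
      have ha1 : a = 1 := by
        by_contra hne
        have : (r - 1) * 2 ≤ (r - 1) * a := Nat.mul_le_mul_left _ (by omega)
        omega
      subst ha1
      rw [mul_one] at h1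
      have hcr : c = r - 1 := by omega
      refine ⟨rfl, by omega, hcr, ?_⟩
      obtain ⟨x, hK, -, hxr, D, hD, σ, hσ, hfix⟩ := key (n / c) (Nat.div_pos hcn hc0) (Nat.mul_div_le n c)
      obtain ⟨φ, hφ⟩ := Cfsg.Lib.Linear.Weight.exists_coords hD
      rw [← Nat.mod_eq_sub_mul_div] at hK
      have h2 := orbit_lower (r := r) hrF ha hφ hσ hxr fun j hj => hfull x D j (hD.finrank_eq j) (hfix j hj)
      rw [hK, mul_comm] at h2
      omega
  · intro hcond x hx0 hns
    obtain ⟨z, hx⟩ := hx0
    rw [Matrix.SpecialLinearGroup.coe_pow] at hx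
    have hdet : (x : Matrix (Fin n) (Fin n) F).det ≠ 0 := by rw [x.2]; exact one_ne_zero
    rcases hcond with ⟨rfl, hc1, hcr, hnr⟩ | ⟨-, hmod⟩
    · obtain rfl : n = t := by omega
      have hz : z ≠ 0 := fun h => by
        haveI : NeZero n := ⟨hn0⟩
        have := congrArg Matrix.det hx
        rw [Matrix.det_pow, x.2, one_pow, h, zero_smul, Matrix.det_zero] at this
        exact one_ne_zero this
      have hnd : ¬ r ∣ Fintype.card F - 1 := fun h => by
        rw [← PrimeCriteria.dvd_sub_one_iff] at h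
        omega
      obtain ⟨d, hd⟩ := PrimeCriteria.exists_root_of_coprime hnd hz
      exact lines_case hrF hn (hc ▸ hcr) (hc ▸ hnr) hdet (fun h => hz (by rw [← hd, h, zero_pow hr.ne_zero])) (hd.symm ▸ hx)
    · obtain ⟨ι, hι, f, hf, hform, hsum, hcase⟩ := PrimeCriteria.split_cases hn0 hrF x hx
      have hlt : t * (a % c) < c := hmod ▸ Nat.mod_lt n hc0
      have hpart : ∀ e, 1 ≤ e → (∀ i, (f i).natDegree = 1 ∨ (f i).natDegree = e) → t * (a % e) < e →
          ∃ D : Fin t → Submodule F (Fin n → F), Cfsg.Geo.IsMDecomposition a D ∧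
            ∃ σ : Equiv.Perm (Fin t), ∀ j, (D j).map (Matrix.toLin' (x : Matrix (Fin n) (Fin n) F)) = D (σ j) := by
        intro e he hd ht'
        obtain ⟨J, -, hJ2, hJ3, hJ4⟩ := exists_partition (a := a) he hd t Finset.univ (by rw [hsum, hat, mul_comm]) ht'
        exact decomp_of_partition hdet hform hf ha ht J hJ2 hJ3 fun i => hJ4 i (Finset.mem_univ i)
      rcases hcase with hd | ⟨-, -, hd, -⟩
      · exact hpart c hc0 (hc ▸ hd) hlt
      · by_cases hra : r ∣ a
        · exact hpart r hr.pos (fun i => Or.inr (hd i)) (by rw [Nat.mod_eq_zero_of_dvd hra, mul_zero]; exact hr.pos)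
        · have hz : z ≠ 0 := fun h => by
            haveI : NeZero n := ⟨hn0⟩
            have := congrArg Matrix.det hx
            rw [Matrix.det_pow, x.2, one_pow, h, zero_smul, Matrix.det_zero] at this
            exact one_ne_zero this
          have hfi : ∀ i, f i = X ^ r - C z := fun i => (eq_of_monic_of_dvd_of_natDegree_le (hf i)
            (monic_X_pow_sub_C z hr.ne_zero)
            ((hform.aeval_eq_zero_iff (X ^ r - C z)).1 (by simp [hx, Algebra.algebraMap_eq_smul_one]) i)
            (by rw [natDegree_X_pow_sub_C, hd i])).symm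
          have hk : n = r * Fintype.card ι := (PrimeForms.det_binomial hr.ne_zero hform hfi).1
          obtain ⟨t', ht'⟩ : r ∣ t := (hr.dvd_mul.1 (hat ▸ hk ▸ dvd_mul_right r _)).resolve_left hra
          have hcard : Fintype.card ι = Fintype.card (Fin t' × Fin a) := by
            rw [Fintype.card_prod, Fintype.card_fin, Fintype.card_fin]
            refine Nat.eq_of_mul_eq_mul_left hr.pos ?_
            rw [← hk, hat, ht']; ring
          let g := Fintype.equivOfCardEq hcard
          obtain ⟨β, hβ⟩ := exists_binomial_basis hform (fun _ => r) (fun _ => z) (fun _ => hr.pos) hfi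
          let Et : Fin t' × Fin r ≃ Fin t := finProdFinEquiv.trans (finCongr (by rw [ht', mul_comm]))
          let E : (Σ _i : ι, Fin r) ≃ Fin t × Fin a :=
            { toFun := fun x => (Et ((g x.1).1, x.2), (g x.1).2)
              invFun := fun y => ⟨g.symm ((Et.symm y.1).1, y.2), (Et.symm y.1).2⟩
              left_inv := fun x => by simp
              right_inv := fun y => by simp }
          have hinj : Function.Injective (Matrix.toLin' (x : Matrix (Fin n) (Fin n) F)) := by
            rw [Matrix.toLin'_apply']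
            exact Matrix.mulVec_injective_iff_isUnit.2 ((Matrix.isUnit_iff_isUnit_det _).2 (Ne.isUnit hdet))
          exact decomp_of_monomial β _ hinj (fun y => ⟨y.1, finRotate r y.2⟩) hβ ha ht E
            (Et.symm.trans ((Equiv.prodCongr (Equiv.refl _) (finRotate r)).trans Et)) fun y => by simp [E]

end Cfsg.Agent.S5958
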