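import Cfsg.Statements.S5959
import Cfsg.Agent.Lib.Linear.UnipotentCommutant
-- import your own Cfsg.Agent.* helpers here

set_option autoImplicit false
open scoped MatrixGroups
open Cfsg

namespace Cfsg.Agent.S5959

open Polynomial
open Cfsg.Lib
open scoped Matrix

universe u

variable {F : Type u} [Field F] [Fintype F] {n : ℕ}

/-- The blocks of a unipotent matrix on an invariant subspace with invariant complement are among its blocks. -/
theorem parts_sub {A : Matrix (Fin n) (Fin n) F} {p : ℕ} (hA : (A - 1) ^ p = 0) {ι : Type u} [Fintype ι] {e : ι → ℕ}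
    (he : ∀ i, 1 ≤ e i) (hform : CanonicalForm.HasForm A fun i => (X - C (1 : F)) ^ e i)
    (U W : Submodule F (Fin n → F)) (hUW : IsCompl U W) (hU : ∀ v ∈ U, A *ᵥ v ∈ U) (hW : ∀ v ∈ W, A *ᵥ v ∈ W) :
    ∃ ν : Multiset ℕ, ν ≤ (Finset.univ : Finset ι).val.map e ∧ ν.sum = Module.finrank F U := by
  classical
  have side : ∀ U : Submodule F (Fin n → F), (∀ v ∈ U, A *ᵥ v ∈ U) →
      ∃ (κ : Type u) (_ : Fintype κ) (d : κ → ℕ) (Ψ : U ≃ₗ[F] ∀ i, AdjoinRoot ((X - C (1 : F)) ^ d i)),
        (∀ i, 1 ≤ d i) ∧ ∑ i, d i = Module.finrank F U ∧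
        ∀ (v : U) (hv : A *ᵥ (v : Fin n → F) ∈ U) (i : κ), Ψ ⟨A *ᵥ (v : Fin n → F), hv⟩ i = AdjoinRoot.root _ * Ψ v i := by
    intro U hU
    let β := Module.finBasis F U
    let TU : U →ₗ[F] U := (Matrix.toLin' A).restrict fun v hv => by rw [Matrix.toLin'_apply]; exact hU v hv
    obtain ⟨A0, hA0⟩ : ∃ A0, A0 = LinearMap.toMatrix β β TU := ⟨_, rfl⟩
    have hpow : (TU - 1) ^ p = 0 := by
      refine LinearMap.ext fun v => Subtype.ext ?_
      have h1 : ∀ k, (((TU - 1) ^ k) v : Fin n → F) = ((A - 1) ^ k) *ᵥ (v : Fin n → F) := by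
        intro k
        induction k with
        | zero => simp
        | succ k ih =>
          rw [pow_succ' (A - 1), pow_succ' (TU - 1), ← Matrix.mulVec_mulVec, ← ih, Module.End.mul_apply]
          simp [TU, Matrix.sub_mulVec]
      rw [h1, hA, Matrix.zero_mulVec]
      rfl
    have h0 : (A0 - 1) ^ p = 0 := by
      rw [hA0, show (1 : Matrix (Fin (Module.finrank F U)) (Fin (Module.finrank F U)) F) = LinearMap.toMatrixAlgEquiv β 1 from (map_one _).symm]
      show (LinearMap.toMatrixAlgEquiv β TU - LinearMap.toMatrixAlgEquiv β 1) ^ p = 0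
      rw [← map_sub, ← map_pow, hpow, map_zero]
    obtain ⟨μ, -, κ, hκ, d, hd, hmap, Ψ, hΨ⟩ := Cfsg.Agent.Lib.Linear.UnipotentClasses.exists_type p h0
    refine ⟨κ, hκ, d, β.equivFun.trans Ψ, hd, ?_, fun v hv i => ?_⟩
    · conv_rhs => rw [← μ.parts_sum, ← hmap]
      rfl
    · show Ψ (β.equivFun ⟨A *ᵥ (v : Fin n → F), hv⟩) i = _ * Ψ (β.equivFun v) i
      rw [show (⟨A *ᵥ (v : Fin n → F), hv⟩ : U) = TU v from Subtype.ext (by simp [TU]), ← hΨ, hA0,
        Module.Basis.equivFun_apply, Module.Basis.equivFun_apply, LinearMap.toMatrix_mulVec_repr]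
  obtain ⟨κ₁, _, d₁, Ψ₁, hd₁, hs₁, hΨ₁⟩ := side U hU
  obtain ⟨κ₂, _, d₂, Ψ₂, hd₂, -, hΨ₂⟩ := side W hW
  let f : κ₁ ⊕ κ₂ → F[X] := fun i => (X - C (1 : F)) ^ Sum.elim d₁ d₂ i
  let Φ : (Fin n → F) ≃ₗ[F] ∀ i, AdjoinRoot (f i) :=
    ((Submodule.prodEquivOfIsCompl U W hUW).symm.trans (Ψ₁.prodCongr Ψ₂)).trans
      (LinearEquiv.sumPiEquivProdPi F κ₁ κ₂ fun i => AdjoinRoot (f i)).symm
  have h' : CanonicalForm.HasForm A f := by
    refine ⟨Φ, fun v i => ?_⟩
    obtain ⟨⟨u, w⟩, rfl⟩ := (Submodule.prodEquivOfIsCompl U W hUW).surjective v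
    have e1 : A *ᵥ (Submodule.prodEquivOfIsCompl U W hUW (u, w)) =
        Submodule.prodEquivOfIsCompl U W hUW (⟨_, hU u u.2⟩, ⟨_, hW w w.2⟩) := by
      simp [Matrix.mulVec_add]
    rcases i with i | i
    · show Ψ₁ ((Submodule.prodEquivOfIsCompl U W hUW).symm (A *ᵥ _)).1 i =
        _ * Ψ₁ ((Submodule.prodEquivOfIsCompl U W hUW).symm _).1 i
      rw [e1, LinearEquiv.symm_apply_apply, LinearEquiv.symm_apply_apply]
      exact hΨ₁ u _ i
    · show Ψ₂ ((Submodule.prodEquivOfIsCompl U W hUW).symm (A *ᵥ _)).2 i =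
        _ * Ψ₂ ((Submodule.prodEquivOfIsCompl U W hUW).symm _).2 i
      rw [e1, LinearEquiv.symm_apply_apply, LinearEquiv.symm_apply_apply]
      exact hΨ₂ w _ i
  have hmap := CanonicalForm.map_eq_of_hasForm (monic_X_sub_C (1 : F)) (natDegree_X_sub_C 1) he
    (fun i => by rcases i with i | i <;> simp [hd₁, hd₂]) hform h'
  refine ⟨(Finset.univ : Finset κ₁).val.map d₁, ?_, hs₁ ▸ rfl⟩
  rw [hmap, show (Finset.univ : Finset (κ₁ ⊕ κ₂)).val =
    (Finset.univ : Finset κ₁).val.map Sum.inl + (Finset.univ : Finset κ₂).val.map Sum.inr from rfl,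
    Multiset.map_add, Multiset.map_map, Multiset.map_map]
  exact Multiset.le_add_right _ _

/-- Elements of order `p` of PSL_n(q) and imprimitive subgroups: a necessary condition. Here `T = PSL_n(F)` for a field `F` with `q = p^f` elements (`n ≥ 2`, `(n, q) ≠ (2, 2), (2, 3)`), `n = a·t` with `t ≥ 2`, and Ω is the set of direct-sum decompositions of `F^n` into `t` subspaces of dimension `a` (unordered; their number is the number of ordered ones divided by `t!`), whose stabilizers are the imprimitive subgroups of type GL_a(q) ≀ S_t (maximal except in some small cases; maximality is not assumed); an element of `T` of prime order `r` (a matrix `x` of determinant 1 with `x^r` scalar, `x` not scalar) fixes a point of Ω when it permutes the summands of some such decomposition. Suppose `p > 2` divides the number of such decompositions. If every element of `T` of order `p` stabilizes such a decomposition, then every partition of `n` into parts of size at most `p` in which the part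 `p` occurs fewer than `a` times contains (as a sub-multiset) a partition of `a`. -/
theorem result {F : Type*} [Field F] [Fintype F] {p : ℕ} [Fact p.Prime] [CharP F p] {q : ℕ} (hq : Fintype.card F = q)
    (n a t : ℕ) (hn : 2 ≤ n) (hT : (n, q) ≠ (2, 2) ∧ (n, q) ≠ (2, 3)) (hat : n = a * t) (ha : 1 ≤ a) (ht : 2 ≤ t)
    (hp : 2 < p) (hΩ : p ∣ Nat.card {D : Fin t → Submodule F (Fin n → F) // Cfsg.Geo.IsMDecomposition a D} / Nat.factorial t)
    (h : ∀ x : Matrix.SpecialLinearGroup (Fin n) F,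
      (∃ z : F, ((x ^ p : Matrix.SpecialLinearGroup (Fin n) F) : Matrix (Fin n) (Fin n) F) = z • (1 : Matrix (Fin n) (Fin n) F)) →
      (∀ z : F, (x : Matrix (Fin n) (Fin n) F) ≠ z • (1 : Matrix (Fin n) (Fin n) F)) →
      ∃ D : Fin t → Submodule F (Fin n → F), Cfsg.Geo.IsMDecomposition a D ∧
        ∃ σ : Equiv.Perm (Fin t), ∀ j, (D j).map (Matrix.toLin' (x : Matrix (Fin n) (Fin n) F)) = D (σ j)) :
    (∀ μ : Multiset ℕ, (∀ b ∈ μ, 0 < b ∧ b ≤ p) → μ.sum = n → μ.count p < a → ∃ ν : Multiset ℕ, ν ≤ μ ∧ ν.sum = a) := by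
  classical
  intro μ hμ hsum hcount
  let μ' : Nat.Partition n := ⟨μ, fun {i} hi => (hμ i hi).1, hsum⟩
  obtain ⟨g, hg, ι, hι, e, he, hmap, hform⟩ :=
    Cfsg.Agent.Lib.Linear.UnipotentClasses.exists_GL_of_type (F := F) p μ' fun a ha => (hμ a ha).2
  set A : Matrix (Fin n) (Fin n) F := (g : Matrix (Fin n) (Fin n) F) with hAdef
  have hAp : A ^ p = 1 := by
    simpa using (Cfsg.Agent.Lib.Linear.UnipotentClasses.pow_eq_one_iff (p := p) A 1).2 (by rw [pow_one]; exact hg)
  let x : Matrix.SpecialLinearGroup (Fin n) F :=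
    ⟨A, Cfsg.Agent.Lib.Linear.UnipotentCommutant.det_unipotent p hg⟩
  by_cases hA1 : A = 1
  · refine ⟨Multiset.replicate a 1, ?_, by simp⟩
    have hone : μ = Multiset.replicate n 1 := by
      have hall : ∀ b ∈ μ, b = 1 := fun b hb => by
        obtain ⟨i, -, rfl⟩ := Multiset.mem_map.1 (hmap.symm ▸ hb : b ∈ (Finset.univ : Finset ι).val.map e)
        have h0 : Polynomial.aeval A ((X - Polynomial.C (1 : F)) ^ 1) = 0 := by
          rw [Cfsg.Agent.Lib.Linear.UnipotentClasses.aeval_Y, pow_one, hA1, sub_self]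
        have h1 := (pow_dvd_pow_iff (X_sub_C_ne_zero (1 : F)) (not_isUnit_X_sub_C 1)).1 ((hform.aeval_eq_zero_iff _).1 h0 i)
        have := he i
        omega
      rw [Multiset.eq_replicate_of_mem hall] at hsum ⊢
      rw [Multiset.sum_replicate, smul_eq_mul, mul_one] at hsum
      rw [hsum]
    rw [hone]
    exact (Multiset.replicate_le_replicate 1).2 (by rw [hat]; exact Nat.le_mul_of_pos_right _ (by omega))
  obtain ⟨D, hD, σ, hσ⟩ := h x ⟨1, by rw [Matrix.SpecialLinearGroup.coe_pow, one_smul]; exact hAp⟩ fun z hz => hA1 (by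
    have hz' : A = z • 1 := hz
    have h0 : (z - 1) ^ p = 0 := by
      have h1 : ((z - 1) • (1 : Matrix (Fin n) (Fin n) F)) ^ p = 0 := by rw [sub_smul, one_smul, ← hz']; exact hg
      rw [_root_.smul_pow, one_pow] at h1
      simpa using congrFun (congrFun h1 ⟨0, by omega⟩) ⟨0, by omega⟩
    rw [hz', sub_eq_zero.1 (eq_zero_of_pow_eq_zero h0), one_smul])
  set T := Matrix.toLin' A with hTdef
  change ∀ j, (D j).map T = D (σ j) at hσ
  have hDne : ∀ j, D j ≠ ⊥ := fun j hj => by
    have := hD.finrank_eq j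
    rw [hj, finrank_bot] at this
    omega
  have hDinj : Function.Injective D := fun j j' hjj => by
    by_contra hne
    have h1 : Disjoint (D j) (D j') := hD.indep.pairwiseDisjoint hne
    rw [← hjj, disjoint_self] at h1
    exact hDne j h1
  have hiter : ∀ (k : ℕ) j, (D j).map (T ^ k) = D ((σ ^ k) j) := by
    intro k j
    induction k with
    | zero => rw [pow_zero, pow_zero, Module.End.one_eq_id, Submodule.map_id]; rfl
    | succ k ih => rw [pow_succ', pow_succ', Module.End.mul_eq_comp, Submodule.map_comp, ih, hσ, Equiv.Perm.mul_apply]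
  have hTp : T ^ p = 1 := by rw [hTdef, ← Matrix.toLin'_pow, hAp, Matrix.toLin'_one]; rfl
  have hsub1 : ∀ j, σ j = j := by
    by_contra hne
    push Not at hne
    obtain ⟨j, hj⟩ := hne
    have hfree : ∀ k, 0 < k → k < p → (σ ^ k) j ≠ j := by
      intro k hk0 hkp hk
      have h1 : (σ ^ p) j = j := hDinj (by rw [← hiter, hTp, Module.End.one_eq_id, Submodule.map_id])
      have hper : Function.IsPeriodicPt σ k j ∧ Function.IsPeriodicPt σ p j := by
        simp only [Function.IsPeriodicPt, Function.IsFixedPt, ← Equiv.Perm.coe_pow]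
        exact ⟨hk, h1⟩
      have h2 := hper.1.gcd hper.2
      rw [Nat.Coprime.gcd_eq_one] at h2
      · exact hj h2
      · exact ((Fact.out : p.Prime).coprime_iff_not_dvd.2 fun hd => by have := Nat.le_of_dvd hk0 hd; omega).symm
    -- the geometric sum
    have hgeom : (A - 1) ^ (p - 1) = ∑ k ∈ Finset.range p, A ^ k := by
      have h1 : ((X : F[X]) - Polynomial.C 1) ^ (p - 1) = ∑ k ∈ Finset.range p, (X : F[X]) ^ k := by
        refine mul_right_cancel₀ (X_sub_C_ne_zero (1 : F)) ?_
        rw [← pow_succ, show p - 1 + 1 = p by omega, Polynomial.C_1, geom_sum_mul, sub_pow_char, one_pow]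
      have h2 := congrArg (Polynomial.aeval A) h1
      simpa using h2
    let J : ↥(D j) →ₗ[F] (Fin n → F) := (Matrix.toLin' ((A - 1) ^ (p - 1))).comp (D j).subtype
    have hJ : Function.Injective J := by
      refine (injective_iff_map_eq_zero _).2 fun v hv => Subtype.ext ?_
      have h1 : ∑ k ∈ Finset.range p, (T ^ k) (v : Fin n → F) = 0 := by
        have : J v = 0 := hv
        simp only [J, LinearMap.comp_apply, hgeom, map_sum, Matrix.toLin'_pow, LinearMap.coe_sum, Finset.sum_apply] at this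
        exact this
      rw [← Finset.add_sum_erase _ _ (Finset.mem_range.2 (show 0 < p by omega))] at h1
      have h3 : ∑ k ∈ (Finset.range p).erase 0, (T ^ k) (v : Fin n → F) ∈ ⨆ (j') (_ : j' ≠ j), D j' := by
        refine sum_mem fun k hk => ?_
        rw [Finset.mem_erase, Finset.mem_range] at hk
        have h4 : (T ^ k) (v : Fin n → F) ∈ D ((σ ^ k) j) := hiter k j ▸ Submodule.mem_map_of_mem v.2
        exact Submodule.mem_iSup_of_mem _ (Submodule.mem_iSup_of_mem (hfree k (by omega) hk.2) h4)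
      have h5 : (v : Fin n → F) ∈ ⨆ (j') (_ : j' ≠ j), D j' := by
        rw [eq_neg_of_add_eq_zero_left (by simpa using h1 : (v : Fin n → F) + _ = 0)]
        exact neg_mem h3
      exact Submodule.disjoint_def.1 (hD.indep j) _ v.2 h5
    have h6 := Nat.card_le_card_of_injective (fun v => (⟨J v, ⟨(v : Fin n → F), by
        show (Polynomial.aeval A _) *ᵥ _ = Matrix.toLin' ((A - 1) ^ (p - 1)) (v : Fin n → F)
        rw [Cfsg.Agent.Lib.Linear.UnipotentClasses.aeval_Y, Matrix.toLin'_apply]⟩⟩ :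
        Set.range ((Polynomial.aeval A (((X : F[X]) - Polynomial.C 1) ^ (p - 1))).mulVec))) (fun v w hvw => hJ (by
          exact congrArg Subtype.val hvw))
    · rw [hform.card_range (monic_X_sub_C 1) (natDegree_X_sub_C 1), Module.natCard_eq_pow_finrank (K := F) (V := ↥(D j)),
        hD.finrank_eq, Nat.card_eq_fintype_card, Nat.pow_le_pow_iff_right Fintype.one_lt_card] at h6
      refine absurd hcount (not_lt.2 (h6.trans ?_))
      have hμe : μ.count p = ∑ i, if p = e i then 1 else 0 := by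
        rw [show μ = (Finset.univ : Finset ι).val.map e from hmap.symm, Multiset.count_map, ← Finset.card_filter]
        rfl
      rw [hμe]
      refine Finset.sum_le_sum fun i _ => ?_
      have := (hμ (e i) (hmap ▸ Multiset.mem_map_of_mem e (Finset.mem_univ i) : e i ∈ μ'.parts)).2
      split_ifs <;> omega
  let j0 : Fin t := ⟨0, by omega⟩
  have hinv : ∀ j, ∀ v ∈ D j, A *ᵥ v ∈ D j := fun j v hv => by
    have := Submodule.mem_map_of_mem (f := T) hv
    rw [hσ, hsub1] at this
    exact this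
  have hcompl : IsCompl (D j0) (⨆ (j) (_ : j ≠ j0), D j) :=
    ⟨hD.indep j0, codisjoint_iff.2 (eq_top_iff.2 (hD.iSup_eq_top.ge.trans (iSup_le fun j => by
      rcases eq_or_ne j j0 with rfl | hj
      · exact le_sup_left
      · exact le_sup_of_le_right (le_iSup₂ (f := fun j (_ : j ≠ j0) => D j) j hj))))⟩
  obtain ⟨ν, hν, hνs⟩ := parts_sub hg he hform (D j0) _ hcompl (hinv j0) fun v hv => by
    have h1 : (⨆ (j) (_ : j ≠ j0), D j) ≤ (⨆ (j) (_ : j ≠ j0), D j).comap T := iSup₂_le fun j hj v hv =>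
      Submodule.mem_iSup_of_mem j (Submodule.mem_iSup_of_mem hj (hinv j v hv))
    exact h1 hv
  exact ⟨ν, hν.trans (le_of_eq hmap), hνs.trans (hD.finrank_eq j0)⟩

end Cfsg.Agent.S5959
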