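import Cfsg.Statements.S5960
import Cfsg.Agent.Lib.Linear.SymplecticGroup
import Cfsg.Agent.S5957
-- import your own Cfsg.Agent.* helpers here

set_option autoImplicit false
open scoped MatrixGroups
open Cfsg

namespace Cfsg.Agent.S5960

open Module

variable {F V : Type*} [Field F] [AddCommGroup V] [Module F V]

/-- A family of hyperbolic pairs whose planes are permuted by `T` as `π` says. -/
structure Sys {ι : Type} (B : LinearMap.BilinForm F V) (T : V →ₗ[F] V) (π : ι → ι) (e f : ι → V) : Prop where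
  ee : ∀ x y, B (e x) (e y) = 0
  ff : ∀ x y, B (f x) (f y) = 0
  ef : ∀ x, B (e x) (f x) = 1
  ef_ne : ∀ x y, x ≠ y → B (e x) (f y) = 0
  mapE : ∀ x, T (e x) ∈ Submodule.span F {e (π x), f (π x)}
  mapF : ∀ x, T (f x) ∈ Submodule.span F {e (π x), f (π x)}

variable {B : LinearMap.BilinForm F V} {T : V →ₗ[F] V}

theorem Sys.append (hA : B.IsAlt) {ι κ : Type} {π : ι → ι} {ρ : κ → κ} {e f : ι → V} {e' f' : κ → V}
    (h : Sys B T π e f) (h' : Sys B T ρ e' f') (h0 : ∀ x y, B (e x) (e' y) = 0 ∧ B (e x) (f' y) = 0 ∧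
      B (f x) (e' y) = 0 ∧ B (f x) (f' y) = 0) :
    Sys B T (Sum.map π ρ) (Sum.elim e e') (Sum.elim f f') := by
  have hneg : ∀ a b, B a b = 0 → B b a = 0 := fun a b hab => by
    rw [← LinearMap.IsAlt.neg hA a b, hab, neg_zero]
  constructor
  · rintro (x | x) (y | y)
    exacts [h.ee x y, (h0 x y).1, hneg _ _ (h0 y x).1, h'.ee x y]
  · rintro (x | x) (y | y)
    exacts [h.ff x y, (h0 x y).2.2.2, hneg _ _ (h0 y x).2.2.2, h'.ff x y]
  · rintro (x | x)
    exacts [h.ef x, h'.ef x]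
  · rintro (x | x) (y | y) hxy
    exacts [h.ef_ne x y (fun e => hxy (by rw [e])), (h0 x y).2.1, hneg _ _ (h0 y x).2.2.1,
      h'.ef_ne x y (fun e => hxy (by rw [e]))]
  · rintro (x | x)
    exacts [h.mapE x, h'.mapE x]
  · rintro (x | x)
    exacts [h.mapF x, h'.mapF x]

theorem Sys.li (hA : B.IsAlt) {ι : Type} [Fintype ι] {π : ι → ι} {e f : ι → V} (h : Sys B T π e f) :
    LinearIndependent F (Sum.elim e f) := by
  classical
  rw [Fintype.linearIndependent_iff]
  intro g hg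
  rw [Fintype.sum_sum_type] at hg
  simp only [Sum.elim_inl, Sum.elim_inr] at hg
  rintro (x | x)
  · have h1 := congrArg (fun v => B v (f x)) hg
    simp only [map_add, map_sum, map_smul, map_zero, LinearMap.add_apply, LinearMap.coe_sum, Finset.sum_apply,
      LinearMap.smul_apply, smul_eq_mul, LinearMap.zero_apply, h.ff, mul_zero, Finset.sum_const_zero, add_zero] at h1
    rwa [Finset.sum_eq_single x (fun y _ hy => by rw [h.ef_ne y x hy, mul_zero]) (by simp), h.ef, mul_one] at h1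
  · have h1 := congrArg (B (e x)) hg
    simp only [map_add, map_sum, map_smul, map_zero, smul_eq_mul, h.ee, mul_zero, Finset.sum_const_zero,
      zero_add] at h1
    rwa [Finset.sum_eq_single x (fun y _ hy => by rw [h.ef_ne x y (Ne.symm hy), mul_zero]) (by simp), h.ef,
      mul_one] at h1

/-- A plane, or two planes exchanged by `T`, inside an invariant nondegenerate subspace. -/
theorem exists_first (hA : B.IsAlt) {z : F} (hz : z ≠ 0) (hTT : ∀ v, T (T v) = z • v)
    (hT : ∀ u v, B (T u) (T v) = B u v) (Y : Submodule F V) (hY : Y ≠ ⊥) (hTY : ∀ y ∈ Y, T y ∈ Y)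
    (hnd : ∀ y ∈ Y, (∀ y' ∈ Y, B y y' = 0) → y = 0) :
    ∃ (ι : Type) (_ : Fintype ι) (_ : Nonempty ι) (π : ι → ι) (e f : ι → V),
      Function.Involutive π ∧ Sys B T π e f ∧ ∀ x, e x ∈ Y ∧ f x ∈ Y := by
  have hne : ∀ a b, B a b = -B b a := fun a b => (LinearMap.IsAlt.neg hA b a).symm
  have plane : ∀ u w, u ∈ Y → w ∈ Y → B u w = 1 → T u ∈ Submodule.span F {u, w} →
      T w ∈ Submodule.span F {u, w} → ∃ (ι : Type) (_ : Fintype ι) (_ : Nonempty ι) (π : ι → ι) (e f : ι → V),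
        Function.Involutive π ∧ Sys B T π e f ∧ ∀ x, e x ∈ Y ∧ f x ∈ Y := fun u w hu hw huw h1 h2 =>
    ⟨Unit, inferInstance, inferInstance, id, fun _ => u, fun _ => w, fun _ => rfl,
      ⟨fun _ _ => hA u, fun _ _ => hA w, fun _ => huw, fun _ _ h => absurd rfl h, fun _ => h1, fun _ => h2⟩,
      fun _ => ⟨hu, hw⟩⟩
  by_cases h : ∃ u ∈ Y, B u (T u) ≠ 0
  · obtain ⟨u, hu, hc⟩ := h
    refine plane u ((B u (T u))⁻¹ • T u) hu (Y.smul_mem _ (hTY u hu)) ?_ ?_ ?_
    · rw [map_smul, smul_eq_mul, inv_mul_cancel₀ hc]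
    · refine Submodule.mem_span_pair.2 ⟨0, B u (T u), ?_⟩
      rw [zero_smul, zero_add, smul_smul, mul_inv_cancel₀ hc, one_smul]
    · rw [map_smul, hTT, smul_smul]
      exact Submodule.smul_mem _ _ (Submodule.subset_span (by simp))
  push Not at h
  by_cases h' : ∃ u ∈ Y, ∀ c : F, T u ≠ c • u
  · obtain ⟨u, hu, hind⟩ := h'
    have hTu := hTY u hu
    have hu0 : u ≠ 0 := fun e => hind 0 (by rw [e, map_zero, smul_zero])
    obtain ⟨y0, hy0, hy0'⟩ : ∃ y ∈ Y, B u y = 1 := by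
      obtain ⟨y, hy, hne'⟩ : ∃ y ∈ Y, B u y ≠ 0 := by
        by_contra hc
        push Not at hc
        exact hu0 (hnd u hu hc)
      exact ⟨_, Y.smul_mem (B u y)⁻¹ hy, by rw [map_smul, smul_eq_mul, inv_mul_cancel₀ hne']⟩
    obtain ⟨y1, hy1, hy1'⟩ : ∃ y ∈ Y, B (T u - B (T u) y0 • u) y = 1 := by
      obtain ⟨y, hy, hne'⟩ : ∃ y ∈ Y, B (T u - B (T u) y0 • u) y ≠ 0 := by
        by_contra hc
        push Not at hc
        exact hind _ (sub_eq_zero.1 (hnd _ (sub_mem hTu (Y.smul_mem _ hu)) hc))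
      exact ⟨_, Y.smul_mem (B (T u - B (T u) y0 • u) y)⁻¹ hy,
        by rw [map_smul, smul_eq_mul, inv_mul_cancel₀ hne']⟩
    simp only [map_sub, map_smul, LinearMap.sub_apply, LinearMap.smul_apply, smul_eq_mul] at hy1'
    obtain ⟨w, hwdef⟩ : ∃ w, w = y0 - B (T u) y0 • (y1 - B u y1 • y0) := ⟨_, rfl⟩
    have hw : w ∈ Y := hwdef ▸ sub_mem hy0 (Y.smul_mem _ (sub_mem hy1 (Y.smul_mem _ hy0)))
    have huw : B u w = 1 := by
      rw [hwdef]
      simp only [map_sub, map_smul, smul_eq_mul, hy0']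
      ring
    have hTuw : B (T u) w = 0 := by
      rw [hwdef]
      simp only [map_sub, map_smul, smul_eq_mul]
      linear_combination (-(B (T u) y0)) * hy1'
    have huTw : B u (T w) = 0 := by
      have h3 := h (u + w) (add_mem hu hw)
      simp only [map_add, LinearMap.add_apply, h u hu, h w hw, zero_add, add_zero, hne w (T u), hTuw,
        neg_zero] at h3
      exact h3
    refine ⟨Bool, inferInstance, inferInstance, not, fun b => cond b (T u) u, fun b => cond b (T w) w,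
      Bool.not_not, ⟨?_, ?_, ?_, ?_, ?_, ?_⟩, ?_⟩
    · rintro (_ | _) (_ | _)
      exacts [hA u, h u hu, by rw [cond_true, cond_false, hne, h u hu, neg_zero], hA _]
    · rintro (_ | _) (_ | _)
      exacts [hA w, h w hw, by rw [cond_true, cond_false, hne, h w hw, neg_zero], hA _]
    · rintro (_ | _)
      exacts [huw, by rw [cond_true, cond_true, hT, huw]]
    · rintro (_ | _) (_ | _) hb
      exacts [absurd rfl hb, huTw, hTuw, absurd rfl hb]
    · rintro (_ | _)
      · exact Submodule.subset_span (by simp)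
      · show T (T u) ∈ _
        rw [hTT]
        exact Submodule.smul_mem _ _ (Submodule.subset_span (by simp))
    · rintro (_ | _)
      · exact Submodule.subset_span (by simp)
      · show T (T w) ∈ _
        rw [hTT]
        exact Submodule.smul_mem _ _ (Submodule.subset_span (by simp))
    · rintro (_ | _)
      exacts [⟨hu, hw⟩, ⟨hTu, hTY w hw⟩]
  push Not at h'
  obtain ⟨u, hu, hu0⟩ := Y.exists_mem_ne_zero_of_ne_bot hY
  obtain ⟨y, hy, hne'⟩ : ∃ y ∈ Y, B u y ≠ 0 := by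
    by_contra hc
    push Not at hc
    exact hu0 (hnd u hu hc)
  have hw : (B u y)⁻¹ • y ∈ Y := Y.smul_mem _ hy
  obtain ⟨c, hc⟩ := h' u hu
  obtain ⟨c', hc'⟩ := h' _ hw
  refine plane u _ hu hw (by rw [map_smul, smul_eq_mul, inv_mul_cancel₀ hne']) ?_ ?_
  · rw [hc]; exact Submodule.smul_mem _ _ (Submodule.subset_span (by simp))
  · rw [hc']; exact Submodule.smul_mem _ _ (Submodule.subset_span (by simp))

/-- Enough planes permuted by `T` to fill an invariant nondegenerate subspace. -/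
theorem exists_sys [FiniteDimensional F V] (hA : B.IsAlt) {z : F} (hz : z ≠ 0)
    (hTT : ∀ v, T (T v) = z • v) (hT : ∀ u v, B (T u) (T v) = B u v) :
    ∀ (n : ℕ) (Y : Submodule F V), finrank F Y = n → (∀ y ∈ Y, T y ∈ Y) →
      (∀ y ∈ Y, (∀ y' ∈ Y, B y y' = 0) → y = 0) →
      ∃ (ι : Type) (_ : Fintype ι) (π : ι → ι) (e f : ι → V),
        Function.Involutive π ∧ Sys B T π e f ∧ (∀ x, e x ∈ Y ∧ f x ∈ Y) ∧ n ≤ 2 * Fintype.card ι := by
  intro n
  induction n using Nat.strong_induction_on with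
  | _ n ih =>
  intro Y hn hTY hnd
  by_cases hY : Y = ⊥
  · refine ⟨Empty, inferInstance, id, Empty.elim, Empty.elim, fun _ => rfl, ?_, fun x => x.elim, ?_⟩
    · constructor <;> intro x <;> exact x.elim
    · rw [← hn, hY, finrank_bot]; exact Nat.zero_le _
  obtain ⟨ι, _, hι, π, e, f, hπ, hs, hmem⟩ := exists_first hA hz hTT hT Y hY hTY hnd
  classical
  have hneg : ∀ a b, B a b = -B b a := fun a b => (LinearMap.IsAlt.neg hA b a).symm
  obtain ⟨Y', hY'⟩ : ∃ Y' : Submodule F V, ∀ y, y ∈ Y' ↔ y ∈ Y ∧ ∀ x, B (e x) y = 0 ∧ B (f x) y = 0 :=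
    ⟨Y ⊓ ⨅ x, (LinearMap.ker (B (e x)) ⊓ LinearMap.ker (B (f x))), fun y => by
      simp [Submodule.mem_iInf]⟩
  obtain ⟨p, hp⟩ : ∃ p : V → V, ∀ y, p y = ∑ x, (B (e x) y • f x - B (f x) y • e x) := ⟨_, fun y => rfl⟩
  have hpY : ∀ y ∈ Y, y - p y ∈ Y' := by
    intro y hy
    refine (hY' _).2 ⟨sub_mem hy (hp y ▸ Submodule.sum_mem _ fun x _ =>
      sub_mem (Y.smul_mem _ (hmem x).2) (Y.smul_mem _ (hmem x).1)), fun x => ⟨?_, ?_⟩⟩
    · rw [map_sub, hp, map_sum, Finset.sum_eq_single x (fun x' _ hx' => by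
        simp [hs.ee, hs.ef_ne x x' (Ne.symm hx')]) (by simp)]
      simp [hs.ee, hs.ef]
    · rw [map_sub, hp, map_sum, Finset.sum_eq_single x (fun x' _ hx' => by
        simp [hs.ff, hneg (f x) (e x'), hs.ef_ne x' x hx']) (by simp)]
      simp [hs.ff, hneg (f x) (e x), hs.ef]
  have hkill : ∀ y ∈ Y', ∀ x, ∀ v ∈ Submodule.span F {e x, f x}, B v y = 0 := by
    intro y hy x v hv
    obtain ⟨a, b, rfl⟩ := Submodule.mem_span_pair.1 hv
    simp [(((hY' y).1 hy).2 x).1, (((hY' y).1 hy).2 x).2]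
  have hTY' : ∀ y ∈ Y', T y ∈ Y' := by
    intro y hy
    have hk : ∀ v, ∀ x, T v ∈ Submodule.span F {e x, f x} → B v (T y) = 0 := by
      intro v x hv
      have h1 : v = z⁻¹ • T (T v) := by rw [hTT, smul_smul, inv_mul_cancel₀ hz, one_smul]
      rw [h1, map_smul, LinearMap.smul_apply, hT, hkill y hy x _ hv, smul_zero]
    exact (hY' _).2 ⟨hTY y ((hY' y).1 hy).1, fun x => ⟨hk _ _ (hs.mapE x), hk _ _ (hs.mapF x)⟩⟩
  have hnd' : ∀ y ∈ Y', (∀ y' ∈ Y', B y y' = 0) → y = 0 := by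
    intro y hy h
    refine hnd y ((hY' y).1 hy).1 fun y' hy' => ?_
    have h1 := h _ (hpY y' hy')
    have h2 : B y (p y') = 0 := by
      rw [hp, map_sum]
      refine Finset.sum_eq_zero fun x _ => ?_
      simp [hneg y (e x), hneg y (f x), (((hY' y).1 hy).2 x).1, (((hY' y).1 hy).2 x).2]
    rwa [map_sub, h2, sub_zero] at h1
  have hle : Y' ≤ Y := fun y hy => ((hY' y).1 hy).1
  have hlt : finrank F Y' < n := by
    rw [← hn]
    refine Submodule.finrank_lt_finrank_of_lt (lt_of_le_of_ne hle fun h => ?_)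
    obtain ⟨x⟩ := hι
    have h1 := (((hY' (f x)).1 (h.symm ▸ (hmem x).2)).2 x).1
    rw [hs.ef] at h1
    exact one_ne_zero h1
  obtain ⟨κ, _, ρ, e', f', hρ, hs', hmem', hcard⟩ := ih _ hlt Y' rfl hTY' hnd'
  refine ⟨ι ⊕ κ, inferInstance, Sum.map π ρ, Sum.elim e e', Sum.elim f f', ?_, hs.append hA hs' ?_, ?_, ?_⟩
  · rintro (x | x)
    · simp [hπ x]
    · simp [hρ x]
  · intro x y
    exact ⟨(((hY' _).1 (hmem' y).1).2 x).1, (((hY' _).1 (hmem' y).2).2 x).1,
      (((hY' _).1 (hmem' y).1).2 x).2, (((hY' _).1 (hmem' y).2).2 x).2⟩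
  · rintro (x | x)
    exacts [hmem x, ⟨hle (hmem' x).1, hle (hmem' x).2⟩]
  · have hsub : Y ≤ Y' ⊔ Submodule.span F (Set.range (Sum.elim e f)) := by
      intro y hy
      rw [← sub_add_cancel y (p y)]
      refine Submodule.add_mem_sup (hpY y hy) (hp y ▸ Submodule.sum_mem _ fun x _ => sub_mem ?_ ?_)
      · exact Submodule.smul_mem _ _ (Submodule.subset_span ⟨Sum.inr x, rfl⟩)
      · exact Submodule.smul_mem _ _ (Submodule.subset_span ⟨Sum.inl x, rfl⟩)
    have h1 := (Submodule.finrank_mono hsub).trans (Submodule.finrank_add_le_finrank_add_finrank _ _)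
    have h2 : finrank F (Submodule.span F (Set.range (Sum.elim e f))) ≤ Fintype.card (ι ⊕ ι) :=
      finrank_range_le_card _
    simp only [Fintype.card_sum] at h2 ⊢
    omega

/-- Blocks for the planes, compatible with an involution of the planes. -/
theorem exists_blocks {ι : Type} [Fintype ι] {π : ι → ι} (hπ : Function.Involutive π) (b t : ℕ) (hb : 1 ≤ b)
    (hcard : Fintype.card ι = b * t) :
    ∃ (σ : Equiv.Perm (Fin t)) (E : ι ≃ Fin t × Fin b), ∀ x, (E (π x)).1 = σ (E x).1 := by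
  classical
  let num := Fintype.equivFin ι
  let R := {x : ι // num x < num (π x)}
  let g : Fin (Fintype.card R) × Fin 2 → ι := fun p =>
    if p.2 = 0 then ((Fintype.equivFin R).symm p.1 : ι) else π ((Fintype.equivFin R).symm p.1 : ι)
  have hg : Function.Injective g := by
    rintro ⟨k, i⟩ ⟨k', j⟩ hk
    have h1 := ((Fintype.equivFin R).symm k).2
    have h2 := ((Fintype.equivFin R).symm k').2
    simp only [g] at hk
    rcases Fin.exists_fin_two.1 ⟨i, rfl⟩ with rfl | rfl <;>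
      rcases Fin.exists_fin_two.1 ⟨j, rfl⟩ with rfl | rfl <;>
      simp only [if_true, Fin.one_eq_zero_iff, OfNat.ofNat_ne_one, if_false] at hk
    · rw [(Fintype.equivFin R).symm.injective (Subtype.ext hk)]
    · rw [hk, hπ] at h1
      exact absurd h1 (lt_asymm h2)
    · rw [← hk, hπ] at h2
      exact absurd h2 (lt_asymm h1)
    · rw [(Fintype.equivFin R).symm.injective (Subtype.ext (hπ.injective hk))]
  have hgr : ∀ x, π x ≠ x → x ∈ Set.range g := by
    intro x hx
    rcases lt_or_gt_of_ne (fun e => hx (num.injective e)) with h | h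
    · exact ⟨(Fintype.equivFin R ⟨π x, by rw [hπ]; exact h⟩, 1), by simp [g, hπ x]⟩
    · exact ⟨(Fintype.equivFin R ⟨x, h⟩, 0), by simp [g]⟩
  obtain ⟨σ, l, hl, hσ, hfix⟩ := Cfsg.Agent.S5957.exists_layout b t (Fintype.card R) hb (by
    have := Fintype.card_le_of_injective g hg
    simp only [Fintype.card_prod, Fintype.card_fin] at this
    rw [← hcard]; omega)
  have hc : Fintype.card ι = Fintype.card (Fin t × Fin b) := by simp [hcard, mul_comm]
  obtain ⟨k, hk⟩ := Equiv.Perm.exists_extending_pair (fun p => Fintype.equivOfCardEq hc (g p)) l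
    ((Fintype.equivOfCardEq hc).injective.comp hg) hl
  refine ⟨σ, (Fintype.equivOfCardEq hc).trans k, fun x => ?_⟩
  by_cases hx : π x = x
  · rw [hx, hfix]
    rintro ⟨⟨q, i⟩, hq⟩
    rw [← hk] at hq
    have h1 := (Fintype.equivOfCardEq hc).injective (k.injective hq)
    have h2 := ((Fintype.equivFin R).symm q).2
    rw [← h1] at hx
    simp only [g] at hx
    split_ifs at hx
    · rw [hx] at h2; exact lt_irrefl _ h2
    · rw [hπ] at hx; rw [← hx] at h2; exact lt_irrefl _ h2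
  · obtain ⟨⟨q, i⟩, rfl⟩ := hgr x hx
    have h0 := hk (q, 0)
    have h1 := hk (q, 1)
    simp only [g] at h0 h1 ⊢
    simp only [if_true, Fin.one_eq_zero_iff, OfNat.ofNat_ne_one, if_false] at h0 h1
    rcases Fin.exists_fin_two.1 ⟨i, rfl⟩ with rfl | rfl <;>
      simp only [if_true, Fin.one_eq_zero_iff, OfNat.ofNat_ne_one, if_false, Equiv.trans_apply, hπ _]
    · rw [h0, h1, (hσ q).1]
    · rw [h0, h1, (hσ q).2]

/-- Involutions of PSp_n(q) and imprimitive subgroups. Here `T = PSp_n(q)`, `n = 2d ≥ 4`, `(n, q) ≠ (4, 2)`, realised through the symplectic matrices over the field `F` with `q` elements and the standard alternating form; `n = a·t` with `a` even and `t ≥ 2`, and Ω is the (nonempty) set of orthogonal decompositions of `F^n` into `t` nondegenerate subspaces of dimension `a` (unordered; counted as ordered ones divided by `t!`), whose stabilizers are the imprimitive subgroups of type Sp_a(q) ≀ S_t (maximality is not assumed); an element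 of `T` of prime order `r` (a symplectic matrix `x` with `x^r` scalar, `x` not scalar) fixes a point of Ω when it permutes the summands of some such decomposition. If the number of such decompositions is even, then every involution of `T` stabilizes one of them (the action is 2-elusive). -/
theorem result {F : Type*} [Field F] [Fintype F] {p : ℕ} [Fact p.Prime] [CharP F p] {q : ℕ} (hq : Fintype.card F = q)
    (d : ℕ) (hd : 2 ≤ d) (hT : (d, q) ≠ (2, 2))
    (a t : ℕ) (hat : 2 * d = a * t) (ha : 2 ≤ a) (hae : Even a) (ht : 2 ≤ t) (hΩ : 2 ∣ Nat.card {D : Fin t → Submodule F (Fin d ⊕ Fin d → F) // (Cfsg.Geo.IsMDecomposition a D ∧ (∀ j, ∀ u ∈ D j, u ≠ 0 → ∃ v ∈ D j, Cfsg.sympForm d F u v ≠ 0) ∧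
          (∀ j j', j ≠ j' → ∀ u ∈ D j, ∀ v ∈ D j', Cfsg.sympForm d F u v = 0))} / Nat.factorial t)
    (x : ↥(Matrix.symplecticGroup (Fin d) F))
    (hx1 : ∃ z : F, ((x ^ 2 : ↥(Matrix.symplecticGroup (Fin d) F)) : Matrix (Fin d ⊕ Fin d) (Fin d ⊕ Fin d) F) = z • (1 : Matrix (Fin d ⊕ Fin d) (Fin d ⊕ Fin d) F))
    (hx2 : ∀ z : F, (x : Matrix (Fin d ⊕ Fin d) (Fin d ⊕ Fin d) F) ≠ z • (1 : Matrix (Fin d ⊕ Fin d) (Fin d ⊕ Fin d) F)) :
    ∃ D : Fin t → Submodule F (Fin d ⊕ Fin d → F), (Cfsg.Geo.IsMDecomposition a D ∧ (∀ j, ∀ u ∈ D j, u ≠ 0 → ∃ v ∈ D j, Cfsg.sympForm d F u v ≠ 0) ∧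
          (∀ j j', j ≠ j' → ∀ u ∈ D j, ∀ v ∈ D j', Cfsg.sympForm d F u v = 0)) ∧
        ∃ σ : Equiv.Perm (Fin t), ∀ j, (D j).map (Matrix.toLin' (x : Matrix (Fin d ⊕ Fin d) (Fin d ⊕ Fin d) F)) = D (σ j) := by
  classical
  obtain ⟨z, hz⟩ := hx1
  set T := Matrix.toLin' (x : Matrix (Fin d ⊕ Fin d) (Fin d ⊕ Fin d) F) with hTdef
  have hTT : ∀ v, T (T v) = z • v := fun v => by
    rw [hTdef, ← LinearMap.comp_apply, ← Matrix.toLin'_mul, ← pow_two, ← SubmonoidClass.coe_pow, hz]
    simp [Matrix.smul_mulVec]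
  have hT : ∀ u v, Cfsg.Lib.Linear.Symp.spB d F (T u) (T v) = Cfsg.Lib.Linear.Symp.spB d F u v := fun u v => by
    simpa [hTdef] using (Cfsg.Lib.Linear.Symp.mem_symplecticGroup_iff _).1 x.2 u v
  have hB := Cfsg.Lib.Linear.Symp.spB_nondegenerate d F
  have hA := Cfsg.Lib.Linear.Symp.spB_isAlt d F
  have hz0 : z ≠ 0 := by
    rintro rfl
    have hnz : ∀ v : Fin d ⊕ Fin d → F, v = 0 := fun v => hB.1 v fun w => by
      rw [← hT, ← hT, hTT, hTT]; simp
    have h1 := congrFun (hnz fun _ => 1) (Sum.inl ⟨0, by omega⟩)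
    simp at h1
  obtain ⟨ι, _, π, e, f, hπ, hs, -, hcard⟩ := exists_sys hA hz0 hTT hT _ ⊤ rfl (fun y _ => Submodule.mem_top)
    (fun y _ h => hB.1 y fun y' => h y' Submodule.mem_top)
  obtain ⟨c, hc⟩ : ∃ c, a = 2 * c := ⟨a / 2, by rw [Nat.even_iff] at hae; omega⟩
  subst hc
  have hli := hs.li hA
  have hfr : Module.finrank F (Fin d ⊕ Fin d → F) = 2 * d := by
    rw [Module.finrank_pi, Fintype.card_sum, Fintype.card_fin, two_mul]
  have hle := hli.fintype_card_le_finrank
  rw [finrank_top, hfr] at hcard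
  rw [hfr, Fintype.card_sum] at hle
  have hι : Fintype.card ι = c * t := by
    rw [mul_assoc] at hat
    omega
  obtain ⟨σ, E, hE⟩ := exists_blocks hπ c t (by omega) hι
  let β : Module.Basis (ι ⊕ ι) F (Fin d ⊕ Fin d → F) := Module.Basis.mk hli (by
    rw [hli.span_eq_top_of_card_eq_finrank' (by rw [hfr, Fintype.card_sum]; omega)])
  let gv : Fin t → Fin c ⊕ Fin c → (Fin d ⊕ Fin d → F) := fun j i =>
    Sum.elim (fun k => e (E.symm (j, k))) (fun k => f (E.symm (j, k))) i
  let D : Fin t → Submodule F (Fin d ⊕ Fin d → F) := fun j => Submodule.span F (Set.range (gv j))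
  have hgv : ∀ j, gv j = Sum.elim e f ∘ Sum.map (fun k => E.symm (j, k)) (fun k => E.symm (j, k)) := by
    intro j; funext i; rcases i with i | i <;> rfl
  have hmemD : ∀ x, e x ∈ D (E x).1 ∧ f x ∈ D (E x).1 := fun x =>
    ⟨Submodule.subset_span ⟨Sum.inl (E x).2, by simp [gv]⟩, Submodule.subset_span ⟨Sum.inr (E x).2, by simp [gv]⟩⟩
  have hfin : ∀ j, Module.finrank F (D j) = 2 * c := fun j => by
    show Module.finrank F (Submodule.span F (Set.range (gv j))) = 2 * c
    rw [hgv, finrank_span_eq_card (hli.comp _ (Sum.map_injective.2 ⟨?_, ?_⟩)), Fintype.card_sum,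
      Fintype.card_fin, two_mul] <;> exact E.symm.injective.comp fun k k' h => (Prod.mk.inj h).2
  have htop : iSup D = ⊤ := by
    rw [eq_top_iff, ← β.span_eq, Submodule.span_le]
    rintro _ ⟨i, rfl⟩
    rcases i with i | i <;> simp only [β, Module.Basis.coe_mk, Sum.elim_inl, Sum.elim_inr]
    exacts [le_iSup D _ (hmemD i).1, le_iSup D _ (hmemD i).2]
  have hort : ∀ j j', j ≠ j' → ∀ u ∈ D j, ∀ v ∈ D j', Cfsg.Lib.Linear.Symp.spB d F u v = 0 := by
    intro j j' hj u hu v hv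
    have hne : ∀ k k', E.symm (j, k) ≠ E.symm (j', k') := fun k k' h => hj (Prod.mk.inj (E.symm.injective h)).1
    have hgen : ∀ i, D j' ≤ LinearMap.ker (Cfsg.Lib.Linear.Symp.spB d F (gv j i)) := fun i => by
      refine Submodule.span_le.2 ?_
      rintro _ ⟨i', rfl⟩
      rw [SetLike.mem_coe, LinearMap.mem_ker]
      rcases i with k | k <;> rcases i' with k' | k' <;> simp only [gv, Sum.elim_inl, Sum.elim_inr]
      exacts [hs.ee _ _, hs.ef_ne _ _ (hne k k'),
        by rw [← LinearMap.IsAlt.neg hA, hs.ef_ne _ _ (hne k k').symm, neg_zero], hs.ff _ _]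
    have h2 : D j ≤ LinearMap.ker ((Cfsg.Lib.Linear.Symp.spB d F).flip v) := by
      refine Submodule.span_le.2 ?_
      rintro _ ⟨i, rfl⟩
      exact hgen i hv
    exact h2 hu
  have hnd : ∀ j, ∀ u ∈ D j, u ≠ 0 → ∃ v ∈ D j, Cfsg.Lib.Linear.Symp.spB d F u v ≠ 0 := by
    intro j u hu hu0
    by_contra h
    push Not at h
    refine hu0 (hB.1 u fun v => ?_)
    have h2 : iSup D ≤ LinearMap.ker (Cfsg.Lib.Linear.Symp.spB d F u) := iSup_le fun j' v hv => by
      rw [LinearMap.mem_ker]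
      rcases eq_or_ne j j' with rfl | hj
      exacts [h v hv, hort j j' hj u hu v hv]
    exact h2 (htop ▸ Submodule.mem_top)
  have hind : iSupIndep D := fun j => Submodule.disjoint_def.2 fun u hu hu' => by
    by_contra hu0
    obtain ⟨v, hv, huv⟩ := hnd j u hu hu0
    have h2 : (⨆ (j') (_ : j' ≠ j), D j') ≤ LinearMap.ker ((Cfsg.Lib.Linear.Symp.spB d F).flip v) :=
      iSup_le fun j' => iSup_le fun hj' w hw => hort j' j hj' w hw v hv
    exact huv (h2 hu')
  simp only [Cfsg.Lib.Linear.Symp.spB_apply] at hort hnd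
  refine ⟨D, ⟨⟨ht, by omega, hfin, hind, htop⟩, hnd, hort⟩, σ, fun j => ?_⟩
  have hinj : Function.Injective T := fun u v h => smul_right_injective _ hz0 (by
    show z • u = z • v
    rw [← hTT, ← hTT, h])
  refine Submodule.eq_of_le_of_finrank_eq ?_ ?_
  · rw [Submodule.map_span, Submodule.span_le]
    rintro _ ⟨_, ⟨i, rfl⟩, rfl⟩
    have h1 : ∀ y, (E y).1 = j → Submodule.span F {e (π y), f (π y)} ≤ D (σ j) := fun y hy => by
      rw [Submodule.span_le, Set.insert_subset_iff, Set.singleton_subset_iff, ← hy, ← hE]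
      exact hmemD _
    rcases i with k | k
    · exact h1 _ (by simp) (hs.mapE _)
    · exact h1 _ (by simp) (hs.mapF _)
  · rw [← LinearEquiv.finrank_eq (Submodule.equivMapOfInjective T hinj (D j)), hfin, hfin]

end Cfsg.Agent.S5960
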