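import Cfsg.Statements.S5963
import Cfsg.Agent.Lib.Linear.SympParabolic
import Cfsg.Agent.Lib.Linear.AbsorbPSpElems
-- import your own Cfsg.Agent.* helpers here

set_option autoImplicit false
open scoped MatrixGroups
open Cfsg

namespace Cfsg.Agent.S5963

open Module
open scoped Matrix
open Cfsg.Lib.Linear

variable {F : Type*} [Field F]

/-- Complementary totally isotropic subspaces are in perfect pairing. -/
theorem pairing {d : ℕ} (U W : Submodule F (Fin d ⊕ Fin d → F)) (h : IsCompl U W)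
    (hU : ∀ u ∈ U, ∀ v ∈ U, Symp.spB d F u v = 0) (hW : ∀ u ∈ W, ∀ v ∈ W, Symp.spB d F u v = 0) :
    finrank F U = d ∧ finrank F W = d ∧ ∀ w ∈ W, (∀ u ∈ U, Symp.spB d F u w = 0) → w = 0 := by
  have key : ∀ U W : Submodule F (Fin d ⊕ Fin d → F), IsCompl U W →
      (∀ u ∈ W, ∀ v ∈ W, Symp.spB d F u v = 0) →
      finrank F W ≤ finrank F U ∧ ∀ w ∈ W, (∀ u ∈ U, Symp.spB d F u w = 0) → w = 0 := by
    intro U W h hW
    have h0 : ∀ w ∈ W, (∀ u ∈ U, Symp.spB d F u w = 0) → w = 0 := fun w hw hu => by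
      refine (Symp.spB_nondegenerate d F).2 w fun v => ?_
      obtain ⟨u, hu', w', hw', rfl⟩ := Submodule.mem_sup.1 (h.sup_eq_top.ge (Submodule.mem_top (x := v)))
      simp [hu u hu', hW w' hw' w hw]
    refine ⟨?_, h0⟩
    have hinj : Function.Injective (((Symp.spB d F).flip.domRestrict W).compl₂ U.subtype) := by
      refine (injective_iff_map_eq_zero _).2 fun w hw => Subtype.ext (h0 w w.2 fun u hu => ?_)
      exact LinearMap.congr_fun hw ⟨u, hu⟩
    refine (LinearMap.finrank_le_finrank_of_injective hinj).trans_eq ?_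
    exact Subspace.dual_finrank_eq
  have h1 := Submodule.finrank_add_eq_of_isCompl h
  have h2 := (key U W h hW).1
  have h3 := (key W U h.symm hU).1
  rw [Module.finrank_pi, Fintype.card_sum, Fintype.card_fin] at h1
  exact ⟨by omega, by omega, (key U W h hW).2⟩

/-- The group acts simply transitively on polar pairs with a basis of the first member. -/
theorem card_pairs [Fintype F] (d : ℕ) :
    Nat.card {P : Submodule F (Fin d ⊕ Fin d → F) × Submodule F (Fin d ⊕ Fin d → F) // IsCompl P.1 P.2 ∧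
        (∀ u ∈ P.1, ∀ v ∈ P.1, Cfsg.sympForm d F u v = 0) ∧ (∀ u ∈ P.2, ∀ v ∈ P.2, Cfsg.sympForm d F u v = 0)} *
      ∏ i : Fin d, (Fintype.card F ^ d - Fintype.card F ^ (i : ℕ)) =
    Nat.card ↥(Matrix.symplecticGroup (Fin d) F) := by
  classical
  simp only [← Symp.spB_apply]
  set B := Symp.spB d F with hB
  have hsingle : ∀ i j, B (Pi.single i 1) (Pi.single j 1) = Matrix.J (Fin d) F i j := fun i j => by
    simp [hB, Symp.spB]
  -- the map
  let Ω := {P : Submodule F (Fin d ⊕ Fin d → F) × Submodule F (Fin d ⊕ Fin d → F) // IsCompl P.1 P.2 ∧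
        (∀ u ∈ P.1, ∀ v ∈ P.1, B u v = 0) ∧ (∀ u ∈ P.2, ∀ v ∈ P.2, B u v = 0)}
  haveI : Fintype Ω := Fintype.ofFinite _
  let col : ↥(Matrix.symplecticGroup (Fin d) F) → Fin d ⊕ Fin d → (Fin d ⊕ Fin d → F) := fun A i =>
    (A : Matrix (Fin d ⊕ Fin d) (Fin d ⊕ Fin d) F) *ᵥ Pi.single i 1
  have hcol : ∀ A i j, B (col A i) (col A j) = Matrix.J (Fin d) F i j := fun A i j => by
    rw [(Symp.mem_symplecticGroup_iff _).1 A.2, hsingle]
  have hli : ∀ A, LinearIndependent F (col A) := fun A => by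
    have h1 := (Pi.basisFun F (Fin d ⊕ Fin d)).linearIndependent.map' (Matrix.toLin' (A : Matrix (Fin d ⊕ Fin d) (Fin d ⊕ Fin d) F)) (by
      refine LinearMap.ker_eq_bot'.2 fun v hv => (Symp.spB_nondegenerate d F).1 v fun w => ?_
      rw [Matrix.toLin'_apply] at hv
      rw [← (Symp.mem_symplecticGroup_iff _).1 A.2 v w, hv, map_zero, LinearMap.zero_apply])
    rw [show (Matrix.toLin' (A : Matrix (Fin d ⊕ Fin d) (Fin d ⊕ Fin d) F)) ∘ (Pi.basisFun F (Fin d ⊕ Fin d)) = col A
      from funext fun i => by simp [col]] at h1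
    exact h1
  let S := {P : Ω × (Fin d → (Fin d ⊕ Fin d → F)) // LinearIndependent F P.2 ∧ ∀ i, P.2 i ∈ P.1.1.1}
  have hiso : ∀ (A : ↥(Matrix.symplecticGroup (Fin d) F)) (g : Fin d → Fin d ⊕ Fin d),
      (∀ i j, Matrix.J (Fin d) F (g i) (g j) = 0) →
      ∀ u ∈ Submodule.span F (Set.range fun i => col A (g i)), ∀ v ∈ Submodule.span F (Set.range fun i => col A (g i)),
        B u v = 0 := by
    intro A g hg u hu v hv
    have h1 : Submodule.span F (Set.range fun i => col A (g i)) ≤ LinearMap.ker (B.flip v) := by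
      refine Submodule.span_le.2 ?_
      rintro _ ⟨i, rfl⟩
      have h2 : Submodule.span F (Set.range fun i => col A (g i)) ≤ LinearMap.ker (B (col A (g i))) := by
        refine Submodule.span_le.2 ?_
        rintro _ ⟨j, rfl⟩
        exact (hcol A _ _).trans (hg i j)
      exact h2 hv
    exact h1 hu
  have hcompl : ∀ A, IsCompl (Submodule.span F (Set.range fun i => col A (Sum.inl i)))
      (Submodule.span F (Set.range fun i => col A (Sum.inr i))) := fun A => by
    refine ⟨?_, codisjoint_iff.2 (eq_top_iff.2 ?_)⟩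
    · exact (linearIndependent_sum.1 (hli A)).2.2
    · rw [← (hli A).span_eq_top_of_card_eq_finrank' (by rw [Module.finrank_pi]), ← Submodule.span_union]
      refine Submodule.span_mono ?_
      rintro _ ⟨i | i, rfl⟩
      exacts [Or.inl ⟨i, rfl⟩, Or.inr ⟨i, rfl⟩]
  let Φ : ↥(Matrix.symplecticGroup (Fin d) F) → S := fun A =>
    ⟨⟨⟨(_, _), hcompl A, hiso A Sum.inl fun i j => by simp [Matrix.J], hiso A Sum.inr fun i j => by simp [Matrix.J]⟩,
      fun i => col A (Sum.inl i)⟩, (hli A).comp _ Sum.inl_injective, fun i => Submodule.subset_span ⟨i, rfl⟩⟩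
  have hΦi : Function.Injective Φ := by
    intro A A' h
    have he : ∀ i, col A (Sum.inl i) = col A' (Sum.inl i) := fun i =>
      congrFun (congrArg (fun P : S => P.1.2) h) i
    have hW : Submodule.span F (Set.range fun i => col A (Sum.inr i)) =
        Submodule.span F (Set.range fun i => col A' (Sum.inr i)) :=
      congrArg (fun P : S => P.1.1.1.2) h
    have hU : Submodule.span F (Set.range fun i => col A (Sum.inl i)) ≤
        Submodule.span F (Set.range fun i => col A' (Sum.inl i)) := by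
      rw [show (fun i => col A (Sum.inl i)) = fun i => col A' (Sum.inl i) from funext he]
    have hf : ∀ i, col A (Sum.inr i) = col A' (Sum.inr i) := fun i => by
      have hmem : col A (Sum.inr i) - col A' (Sum.inr i) ∈ Submodule.span F (Set.range fun i => col A (Sum.inr i)) :=
        sub_mem (Submodule.subset_span ⟨i, rfl⟩) (hW ▸ Submodule.subset_span ⟨i, rfl⟩)
      refine sub_eq_zero.1 ((pairing _ _ (hcompl A) (hiso A Sum.inl fun i j => by simp [Matrix.J])
        (hiso A Sum.inr fun i j => by simp [Matrix.J])).2.2 _ hmem fun u hu => ?_)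
      have h2 : Submodule.span F (Set.range fun i => col A (Sum.inl i)) ≤
          LinearMap.ker (B.flip (col A (Sum.inr i) - col A' (Sum.inr i))) := by
        refine Submodule.span_le.2 ?_
        rintro _ ⟨j, rfl⟩
        show B (col A (Sum.inl j)) (col A (Sum.inr i) - col A' (Sum.inr i)) = 0
        rw [map_sub, hcol, he j, hcol, sub_self]
      exact h2 hu
    refine Subtype.ext (Matrix.toLin'.injective ((Pi.basisFun F _).ext fun i => ?_))
    rw [Pi.basisFun_apply, Matrix.toLin'_apply, Matrix.toLin'_apply]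
    rcases i with i | i
    exacts [he i, hf i]
  have hΦs : Function.Surjective Φ := by
    rintro ⟨⟨⟨⟨U, W⟩, hc, hU, hW⟩, e⟩, heli, heU⟩
    obtain ⟨hdU, hdW, h0⟩ := pairing U W hc hU hW
    let ψ : W →ₗ[F] (Fin d → F) := LinearMap.pi fun i => (B (e i)).domRestrict W
    have hψ : Function.Injective ψ := by
      refine (injective_iff_map_eq_zero _).2 fun w hw => Subtype.ext (h0 w w.2 fun u hu => ?_)
      have hspan : Submodule.span F (Set.range e) = U := by
        refine Submodule.eq_of_le_of_finrank_eq (Submodule.span_le.2 ?_) ?_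
        · rintro _ ⟨i, rfl⟩; exact heU i
        · rw [finrank_span_eq_card heli, Fintype.card_fin, hdU]
      rw [← hspan] at hu
      have h2 : Submodule.span F (Set.range e) ≤ LinearMap.ker (B.flip (w : Fin d ⊕ Fin d → F)) := by
        refine Submodule.span_le.2 ?_
        rintro _ ⟨j, rfl⟩
        exact congrFun hw j
      exact h2 hu
    have hψs : Function.Surjective ψ :=
      (LinearMap.injective_iff_surjective_of_finrank_eq_finrank (by rw [hdW, Module.finrank_fin_fun])).1 hψ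
    choose w hw using fun j => hψs (Pi.single j (-1))
    have hwe : ∀ i j, B (e i) (w j : Fin d ⊕ Fin d → F) = if i = j then -1 else 0 := fun i j => by
      have := congrFun (hw j) i
      simp only [ψ, LinearMap.pi_apply, LinearMap.domRestrict_apply] at this
      rw [this, Pi.single_apply]
    let c : Fin d ⊕ Fin d → (Fin d ⊕ Fin d → F) := Sum.elim e fun j => (w j : Fin d ⊕ Fin d → F)
    let M : Matrix (Fin d ⊕ Fin d) (Fin d ⊕ Fin d) F := Matrix.of fun i j => c j i
    have hMc : ∀ j, M *ᵥ Pi.single j 1 = c j := fun j => by ext i; simp [M]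
    have hM : M ∈ Matrix.symplecticGroup (Fin d) F := by
      rw [Symp.mem_symplecticGroup_iff]
      refine fun u v => LinearMap.congr_fun₂ (f := B.compl₁₂ (Matrix.toLin' M) (Matrix.toLin' M)) (g := B)
        (LinearMap.BilinForm.ext_basis (Pi.basisFun F _) fun i j => ?_) u v
      simp only [LinearMap.compl₁₂_apply, Pi.basisFun_apply, Matrix.toLin'_apply, hMc, hsingle]
      rcases i with i | i <;> rcases j with j | j <;> simp only [c, Sum.elim_inl, Sum.elim_inr]
      · simp [hU _ (heU i) _ (heU j), Matrix.J]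
      · simp [hwe, Matrix.J, Matrix.one_apply]
        split_ifs <;> simp
      · rw [← LinearMap.IsAlt.neg (Symp.spB_isAlt d F), hwe]
        simp [Matrix.J, Matrix.one_apply, eq_comm]
        split_ifs <;> simp
      · simp [hW _ (w i).2 _ (w j).2, Matrix.J]
    have hcolM : ∀ i, col ⟨M, hM⟩ i = c i := hMc
    refine ⟨⟨M, hM⟩, Subtype.ext (Prod.ext (Subtype.ext (Prod.ext ?_ ?_)) (funext fun i => hcolM _))⟩
    · show Submodule.span F (Set.range fun i => col ⟨M, hM⟩ (Sum.inl i)) = U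
      refine Submodule.eq_of_le_of_finrank_eq (Submodule.span_le.2 ?_) ?_
      · rintro _ ⟨i, rfl⟩; simp only [hcolM]; exact heU i
      · rw [finrank_span_eq_card ?_, Fintype.card_fin, hdU]
        exact (hli ⟨M, hM⟩).comp _ Sum.inl_injective
    · show Submodule.span F (Set.range fun i => col ⟨M, hM⟩ (Sum.inr i)) = W
      refine Submodule.eq_of_le_of_finrank_eq (Submodule.span_le.2 ?_) ?_
      · rintro _ ⟨i, rfl⟩; simp only [hcolM]; exact (w i).2
      · rw [finrank_span_eq_card ?_, Fintype.card_fin, hdW]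
        exact (hli ⟨M, hM⟩).comp _ Sum.inr_injective
  rw [Nat.card_congr (Equiv.ofBijective Φ ⟨hΦi, hΦs⟩)]
  let eqv : S ≃ Σ P : Ω, {e : Fin d → ↥(P.1.1) // LinearIndependent F e} :=
    { toFun := fun P => ⟨P.1.1, fun i => ⟨P.1.2 i, P.2.2 i⟩, LinearIndependent.of_comp (P.1.1.1.1).subtype P.2.1⟩
      invFun := fun P => ⟨(P.1, fun i => (P.2.1 i : Fin d ⊕ Fin d → F)),
        P.2.2.map' _ (Submodule.ker_subtype _), fun i => (P.2.1 i).2⟩
      left_inv := fun P => rfl
      right_inv := fun P => rfl }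
  rw [Nat.card_congr eqv, Nat.card_sigma, Finset.sum_congr rfl fun P _ => by
    rw [card_linearIndependent (le_of_eq (pairing P.1.1 P.1.2 P.2.1 P.2.2.1 P.2.2.2).1.symm),
      (pairing P.1.1 P.1.2 P.2.1 P.2.2.1 P.2.2.2).1], Finset.sum_const, Finset.card_univ, smul_eq_mul,
    Nat.card_eq_fintype_card]

/-- A fixed space of an invariant subspace has codimension a multiple of the order of `q`. -/
theorem moved [Fintype F] {V : Type*} [AddCommGroup V] [Module F V] [Module.Finite F V] {r : ℕ} [Fact r.Prime]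
    (hrq : ¬ r ∣ Fintype.card F) (T : V →ₗ[F] V) (hT : ∀ v, (T ^ r) v = v) :
    orderOf (Fintype.card F : ZMod r) ∣ finrank F V - finrank F (LinearMap.ker (T - LinearMap.id)) := by
  classical
  haveI : Finite V := Module.finite_of_finite F
  let u : (V →ₗ[F] V)ˣ := Units.ofPowEqOne T r (LinearMap.ext hT) (Nat.Prime.ne_zero Fact.out)
  have hu : u ^ r = 1 := Units.pow_ofPowEqOne _ _
  have hp : IsPGroup r (Subgroup.zpowers u) := by
    rintro ⟨_, k, rfl⟩
    refine ⟨1, Subtype.ext ?_⟩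
    show (u ^ k) ^ (r ^ 1) = 1
    rw [pow_one, ← zpow_natCast, ← zpow_mul, mul_comm, zpow_mul, zpow_natCast, hu, one_zpow]
  have h := hp.card_modEq_card_fixedPoints V
  have hfix : MulAction.fixedPoints (Subgroup.zpowers u) V = (LinearMap.ker (T - LinearMap.id) : Set V) := by
    ext v
    simp only [MulAction.mem_fixedPoints, SetLike.mem_coe, LinearMap.mem_ker, LinearMap.sub_apply, LinearMap.id_apply,
      sub_eq_zero]
    refine ⟨fun h => h ⟨u, Subgroup.mem_zpowers u⟩, fun h g => ?_⟩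
    obtain ⟨g, k, rfl⟩ := g
    show (u ^ k) • v = v
    have hle : Subgroup.zpowers u ≤ MulAction.stabilizer ((V →ₗ[F] V)ˣ) v := Subgroup.zpowers_le.2 h
    exact hle ⟨k, rfl⟩
  rw [hfix] at h
  have h3 := le_of_eq_of_le rfl (Submodule.finrank_le (LinearMap.ker (T - LinearMap.id)))
  have h2 : (Fintype.card F : ZMod r) ^ finrank F V = (Fintype.card F : ZMod r) ^ finrank F (LinearMap.ker (T - LinearMap.id)) := by
    rw [Module.natCard_eq_pow_finrank (K := F) (V := V)] at h
    change _ ≡ Nat.card ↥(LinearMap.ker (T - LinearMap.id)) [MOD r] at h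
    rw [Module.natCard_eq_pow_finrank (K := F) (V := ↥(LinearMap.ker (T - LinearMap.id))), ← ZMod.natCast_eq_natCast_iff, Nat.card_eq_fintype_card] at h
    exact_mod_cast h
  refine orderOf_dvd_of_pow_eq_one ?_
  have hne : (Fintype.card F : ZMod r) ≠ 0 := fun h => hrq ((ZMod.natCast_eq_zero_iff _ _).1 h)
  rw [← Nat.add_sub_cancel' h3, pow_add] at h2
  exact mul_left_cancel₀ (pow_ne_zero _ hne) (h2.trans (mul_one _).symm)

/-- Derangements of odd prime order of PSp_n(q), q odd, on pairs of complementary totally isotropic subspaces. Here `T = PSp_n(q)`, `n = 2d ≥ 4`, `q` odd, realised through the symplectic matrices over the field `F` with `q` elements; Ω is the set of unordered pairs `{U, W}` of complementary totally isotropic `d`-spaces (`F^n = U ⊕ W`), whose stabilizers are the subgroups of type GL_d(q).2 (maximal except in some small cases; maximality is not assumed); an element of `T` of prime order `r` (a symplectic matrix `x` with `x^r` scalar, `x` not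 scalar) fixes such a pair when it fixes or interchanges `U` and `W`. For every odd prime `r ≠ p` dividing the number of such pairs, some element of `T` of order `r` fixes no such pair (the action is never `r`-elusive for odd `r ≠ p`). -/
theorem result {F : Type*} [Field F] [Fintype F] {p : ℕ} [Fact p.Prime] [CharP F p] {q : ℕ} (hq : Fintype.card F = q)
    (d : ℕ) (hd : 2 ≤ d) (hT : (d, q) ≠ (2, 2)) (hodd : Odd q)
    (r : ℕ) [Fact r.Prime] (hr2 : r ≠ 2) (hrp : r ≠ p) (hΩ : r ∣ Nat.card {P : Submodule F (Fin d ⊕ Fin d → F) × Submodule F (Fin d ⊕ Fin d → F) // IsCompl P.1 P.2 ∧ (∀ u ∈ P.1, ∀ v ∈ P.1, Cfsg.sympForm d F u v = 0) ∧ (∀ u ∈ P.2, ∀ v ∈ P.2, Cfsg.sympForm d F u v = 0)} / 2) :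
    ∃ x : ↥(Matrix.symplecticGroup (Fin d) F),
      (∃ z : F, ((x ^ r : ↥(Matrix.symplecticGroup (Fin d) F)) : Matrix (Fin d ⊕ Fin d) (Fin d ⊕ Fin d) F) = z • (1 : Matrix (Fin d ⊕ Fin d) (Fin d ⊕ Fin d) F)) ∧
      (∀ z : F, (x : Matrix (Fin d ⊕ Fin d) (Fin d ⊕ Fin d) F) ≠ z • (1 : Matrix (Fin d ⊕ Fin d) (Fin d ⊕ Fin d) F)) ∧
      ¬ (∃ U W : Submodule F (Fin d ⊕ Fin d → F), IsCompl U W ∧ (∀ u ∈ U, ∀ v ∈ U, Cfsg.sympForm d F u v = 0) ∧ (∀ u ∈ W, ∀ v ∈ W, Cfsg.sympForm d F u v = 0) ∧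
        ((U.map (Matrix.toLin' (x : Matrix (Fin d ⊕ Fin d) (Fin d ⊕ Fin d) F)) = U ∧ W.map (Matrix.toLin' (x : Matrix (Fin d ⊕ Fin d) (Fin d ⊕ Fin d) F)) = W) ∨
         (U.map (Matrix.toLin' (x : Matrix (Fin d ⊕ Fin d) (Fin d ⊕ Fin d) F)) = W ∧ W.map (Matrix.toLin' (x : Matrix (Fin d ⊕ Fin d) (Fin d ⊕ Fin d) F)) = U))) := by
  classical
  subst hq
  haveI : NeZero d := ⟨by omega⟩
  obtain ⟨hrP⟩ := (inferInstance : Fact r.Prime)
  have hp2 : p ≠ 2 := by
    rintro rfl
    have h1 : ringChar F = 2 := ringChar.eq F 2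
    have := (FiniteField.even_card_iff_char_two (F := F)).1 h1
    rw [Nat.odd_iff] at hodd
    omega
  have hrq : ¬ r ∣ Fintype.card F := fun h => by
    obtain ⟨k, -, hk⟩ := FiniteField.card F p
    rw [hk] at h
    exact hrp ((Nat.prime_dvd_prime_iff_eq hrP Fact.out).1 (hrP.dvd_of_dvd_pow h))
  -- a prime divisor of some `q ^ j + 1`
  obtain ⟨j, hjd, hj⟩ : ∃ j, j < d ∧ r ∣ Fintype.card F ^ (j + 1) + 1 := by
    have hΩ' : r ∣ Nat.card {P : Submodule F (Fin d ⊕ Fin d → F) × Submodule F (Fin d ⊕ Fin d → F) // IsCompl P.1 P.2 ∧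
        (∀ u ∈ P.1, ∀ v ∈ P.1, Cfsg.sympForm d F u v = 0) ∧ (∀ u ∈ P.2, ∀ v ∈ P.2, Cfsg.sympForm d F u v = 0)} := by
      refine hΩ.trans (Nat.div_dvd_of_dvd ?_)
      let sw : {P : Submodule F (Fin d ⊕ Fin d → F) × Submodule F (Fin d ⊕ Fin d → F) // IsCompl P.1 P.2 ∧
          (∀ u ∈ P.1, ∀ v ∈ P.1, Cfsg.sympForm d F u v = 0) ∧ (∀ u ∈ P.2, ∀ v ∈ P.2, Cfsg.sympForm d F u v = 0)} →
          {P : Submodule F (Fin d ⊕ Fin d → F) × Submodule F (Fin d ⊕ Fin d → F) // IsCompl P.1 P.2 ∧
          (∀ u ∈ P.1, ∀ v ∈ P.1, Cfsg.sympForm d F u v = 0) ∧ (∀ u ∈ P.2, ∀ v ∈ P.2, Cfsg.sympForm d F u v = 0)} :=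
        fun P => ⟨(P.1.2, P.1.1), P.2.1.symm, P.2.2.2, P.2.2.1⟩
      let σ : Equiv.Perm _ := Function.Involutive.toPerm sw fun P => Subtype.ext rfl
      haveI : Fact (Nat.Prime 2) := ⟨Nat.prime_two⟩
      haveI := Fintype.ofFinite {P : Submodule F (Fin d ⊕ Fin d → F) × Submodule F (Fin d ⊕ Fin d → F) // IsCompl P.1 P.2 ∧
          (∀ u ∈ P.1, ∀ v ∈ P.1, Cfsg.sympForm d F u v = 0) ∧ (∀ u ∈ P.2, ∀ v ∈ P.2, Cfsg.sympForm d F u v = 0)}
      rw [Nat.card_eq_fintype_card]
      by_contra hodd2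
      obtain ⟨P, hP⟩ := Equiv.Perm.exists_fixed_point_of_prime (p := 2) (n := 1) (σ := σ) hodd2
        (Equiv.ext fun P => by rw [pow_one, pow_two, Equiv.Perm.mul_apply, Equiv.Perm.one_apply]; exact Subtype.ext rfl)
      have h1 : P.1.2 = P.1.1 := congrArg (fun P => P.1.1) hP
      have h2 := P.2.1.disjoint.eq_bot
      have h3 := P.2.1.sup_eq_top
      rw [h1, inf_idem] at h2
      rw [h1, sup_idem, h2] at h3
      exact bot_ne_top h3
    have hcard := card_pairs (F := F) d
    obtain ⟨k, hk, hcardk⟩ := Symp.card_fixer (Symp.spB_nondegenerate d F) (Symp.spB_isAlt d F) (2 * d) ⊥ (by simp) (by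
      refine (Submodule.finrank_le _).trans ?_
      rw [Symp.finrank_space])
    have hk' : k = d := by
      rw [LinearMap.BilinForm.finrank_orthogonal (Symp.spB_nondegenerate d F), finrank_bot, Symp.finrank_space] at hk
      omega
    subst hk'
    have hsp : Nat.card ↥(Matrix.symplecticGroup (Fin k) F) = Nat.card (Symp.fixer (Symp.spB k F) ⊥) :=
      Nat.card_congr (Symp.spEquiv.toEquiv.trans (Equiv.subtypeEquivRight fun g =>
        ⟨fun h => ⟨h, fun x hx => by rw [(Submodule.mem_bot F).1 hx, map_zero]⟩, fun h => h.1⟩))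
    rw [hsp, hcardk, Finset.prod_congr rfl (fun (i : ℕ) _ => show Fintype.card F ^ (2 * (i + 1)) - 1 =
      (Fintype.card F ^ (i + 1) + 1) * (Fintype.card F ^ (i + 1) - 1) by
        rw [← Nat.sq_sub_sq, ← pow_mul, one_pow, mul_comm]), Finset.prod_mul_distrib,
      ← Fin.prod_univ_eq_prod_range (fun i => Fintype.card F ^ (i + 1) - 1)] at hcard
    rw [Finset.prod_congr rfl (fun (i : Fin k) _ => show Fintype.card F ^ k - Fintype.card F ^ (i : ℕ) =
      Fintype.card F ^ (i : ℕ) * (Fintype.card F ^ (k - i) - 1) by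
        rw [Nat.mul_sub_one, ← pow_add, Nat.add_sub_cancel' i.2.le]), Finset.prod_mul_distrib] at hcard
    have hrev : ∏ i : Fin k, (Fintype.card F ^ (k - (i : ℕ)) - 1) = ∏ i : Fin k, (Fintype.card F ^ ((i : ℕ) + 1) - 1) := by
      refine Fintype.prod_equiv Fin.revPerm _ _ fun i => ?_
      rw [Fin.revPerm_apply, Fin.val_rev]
      congr 2
      omega
    have hne : ∏ i : Fin k, (Fintype.card F ^ ((i : ℕ) + 1) - 1) ≠ 0 := Finset.prod_ne_zero_iff.2 fun i _ => by
      have : 1 < Fintype.card F ^ ((i : ℕ) + 1) := Nat.one_lt_pow (by omega) Fintype.one_lt_card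
      omega
    rw [hrev, ← mul_assoc, ← mul_assoc] at hcard
    have h4 : r ∣ Fintype.card F ^ k ^ 2 * ∏ i ∈ Finset.range k, (Fintype.card F ^ (i + 1) + 1) := by
      rw [← mul_right_cancel₀ hne hcard]
      exact hΩ'.mul_right _
    rcases hrP.dvd_mul.1 h4 with h | h
    · exact absurd (hrP.dvd_of_dvd_pow h) hrq
    · obtain ⟨j, hj, h⟩ := (hrP.prime.dvd_finsetProd_iff _).1 h
      exact ⟨j, Finset.mem_range.1 hj, h⟩
  -- the order of `q` is even
  haveI : Fact (2 < r) := ⟨by have := hrP.two_le; omega⟩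
  set e := orderOf (Fintype.card F : ZMod r) with he
  have hpow : (Fintype.card F : ZMod r) ^ (j + 1) = -1 := by
    rw [eq_neg_iff_add_eq_zero]
    exact_mod_cast (ZMod.natCast_eq_zero_iff _ _).2 hj
  have he2 : e ∣ 2 * (j + 1) := orderOf_dvd_of_pow_eq_one (by rw [mul_comm, pow_mul, hpow, neg_one_sq])
  have hnot : ¬ e ∣ j + 1 := fun h => by
    rw [he, orderOf_dvd_iff_pow_eq_one, hpow] at h
    exact ZMod.neg_one_ne_one h
  obtain ⟨i0, hi0⟩ : ∃ i0, e = 2 * i0 := by
    rcases Nat.even_or_odd e with ⟨i, hi⟩ | ho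
    · exact ⟨i, by omega⟩
    · exact absurd ((Nat.Coprime.dvd_mul_left (Nat.coprime_two_right.2 ho)).1 he2) hnot
  have hi0d : i0 ∣ j + 1 := by
    rw [hi0] at he2
    exact Nat.dvd_of_mul_dvd_mul_left (by norm_num) he2
  have hi0le : i0 ≤ d := (Nat.le_of_dvd (by omega) hi0d).trans (by omega)
  have hi00 : i0 ≠ 0 := fun h => by
    rw [h, zero_dvd_iff] at hi0d
    omega
  have hri0 : r ∣ Fintype.card F ^ i0 + 1 := by
    rw [← ZMod.natCast_eq_zero_iff]
    push_cast
    have h1 : ((Fintype.card F : ZMod r) ^ i0) * ((Fintype.card F : ZMod r) ^ i0) = 1 := by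
      rw [← pow_add, ← two_mul, ← hi0, he, pow_orderOf_eq_one]
    rcases mul_self_eq_one_iff.1 h1 with h | h
    · have := orderOf_dvd_of_pow_eq_one h
      rw [← he, hi0] at this
      have := Nat.le_of_dvd (by omega) this
      omega
    · rw [h, neg_add_cancel]
  -- the element
  obtain ⟨b, hb⟩ : ∃ b, d = i0 + b := ⟨d - i0, by omega⟩
  haveI : NeZero i0 := ⟨hi00⟩
  obtain ⟨⟨g, hg⟩, -⟩ := AbsorbPSp.exists_tori (F := F) p hp2 i0
  have hgdvd : r ∣ orderOf g := hri0.trans ((hg _).1 (by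
    rw [← SubmonoidClass.coe_pow, pow_orderOf_eq_one, OneMemClass.coe_one]))
  obtain ⟨x0, hx0⟩ : ∃ x0, x0 = g ^ (orderOf g / r) := ⟨_, rfl⟩
  have hx0o : orderOf x0 = r := by
    rw [hx0]
    exact orderOf_pow_orderOf_div (orderOf_pos g).ne' hgdvd
  let E : Fin i0 ⊕ Fin b ≃ Fin d := finSumFinEquiv.trans (finCongr hb.symm)
  let M : Matrix (Fin d ⊕ Fin d) (Fin d ⊕ Fin d) F :=
    AbsorbPSp.bsum E (x0 : Matrix (Fin i0 ⊕ Fin i0) (Fin i0 ⊕ Fin i0) F) 1
  have hMr : M ^ r = 1 := by
    rw [AbsorbPSp.bsum_pow, one_pow, ← SubmonoidClass.coe_pow, ← hx0o, pow_orderOf_eq_one]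
    exact AbsorbPSp.bsum_one E
  have hM1 : M ≠ 1 := fun h => by
    have h1 := (AbsorbPSp.bsum_inj E (h.trans (AbsorbPSp.bsum_one E).symm)).1
    have : x0 = 1 := Subtype.ext h1
    rw [this, orderOf_one] at hx0o
    exact hrP.ne_one hx0o.symm
  have hmem : M ∈ Matrix.symplecticGroup (Fin d) F := by
    rw [AbsorbPSp.mem_iff_st, AbsorbPSp.bsum_st, AbsorbPSp.bsum_mul, AbsorbPSp.st_mul_self, AbsorbPSp.st_one, one_mul]
    exact AbsorbPSp.bsum_one E
  set T := Matrix.toLin' M with hTdef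
  have hTr : ∀ v, (T ^ r) v = v := fun v => by
    rw [hTdef, ← Matrix.toLin'_pow, hMr, Matrix.toLin'_one]; rfl
  have hfixdim : 2 * b ≤ finrank F (LinearMap.ker (T - LinearMap.id)) := by
    let K := (Equiv.sumSumSumComm (Fin i0) (Fin i0) (Fin b) (Fin b)).trans (Equiv.sumCongr E E)
    let ι : (Fin b ⊕ Fin b → F) →ₗ[F] (Fin d ⊕ Fin d → F) :=
      (LinearMap.funLeft F F K.symm) ∘ₗ (LinearEquiv.sumArrowLequivProdArrow _ _ F F).symm.toLinearMap ∘ₗ
        LinearMap.inr F (Fin i0 ⊕ Fin i0 → F) (Fin b ⊕ Fin b → F)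
    have hι : ∀ w, ι w = Sum.elim (0 : Fin i0 ⊕ Fin i0 → F) w ∘ K.symm := fun w => rfl
    have hinj : Function.Injective ι := fun w w' h => funext fun l => by
      have := congrFun h (K (Sum.inr l))
      simpa [hι] using this
    have hle : LinearMap.range ι ≤ LinearMap.ker (T - LinearMap.id) := by
      rintro _ ⟨w, rfl⟩
      rw [LinearMap.mem_ker, LinearMap.sub_apply, LinearMap.id_apply, sub_eq_zero, hTdef, Matrix.toLin'_apply]
      show Matrix.reindex K K (Matrix.fromBlocks _ 0 0 1) *ᵥ ι w = ι w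
      rw [hι, Matrix.reindex_apply, Matrix.submatrix_mulVec_equiv, Equiv.symm_symm]
      simp [Function.comp_assoc, Matrix.fromBlocks_mulVec]
    have h1 := Submodule.finrank_mono hle
    rw [LinearMap.finrank_range_of_inj hinj, Module.finrank_pi, Fintype.card_sum, Fintype.card_fin] at h1
    omega
  refine ⟨⟨M, hmem⟩, ⟨1, ?_⟩, fun z hz => ?_, ?_⟩
  · rw [one_smul, SubmonoidClass.coe_pow]
    exact hMr
  · replace hz : M = z • 1 := hz
    have hzr : z ^ r = 1 := by
      have h1 : (z • (1 : Matrix (Fin d ⊕ Fin d) (Fin d ⊕ Fin d) F)) ^ r = 1 := by rw [← hz, hMr]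
      rw [_root_.smul_pow, one_pow] at h1
      simpa using congrFun (congrFun h1 (Sum.inl 0)) (Sum.inl 0)
    have hz1 : z ≠ 1 := fun h => hM1 (by rw [hz, h, one_smul])
    have hz0 : z ≠ 0 := fun h => by rw [h, zero_pow hrP.ne_zero] at hzr; exact zero_ne_one hzr
    have hdvd : r ∣ Fintype.card F - 1 := by
      rw [← orderOf_eq_prime hzr hz1]
      exact orderOf_dvd_of_pow_eq_one (FiniteField.pow_card_sub_one_eq_one z hz0)
    have : e ∣ 1 := orderOf_dvd_of_pow_eq_one (by
      rw [pow_one, ← sub_eq_zero, show (Fintype.card F : ZMod r) - 1 = ((Fintype.card F - 1 : ℕ) : ZMod r) by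
        rw [Nat.cast_sub Fintype.card_pos, Nat.cast_one]]
      exact (ZMod.natCast_eq_zero_iff _ _).2 hdvd)
    rw [hi0, Nat.dvd_one] at this
    omega
  · rintro ⟨U, W, hc, hU, hW, hUW⟩
    change U.map T = U ∧ W.map T = W ∨ U.map T = W ∧ W.map T = U at hUW
    simp only [← Symp.spB_apply] at hU hW
    obtain ⟨hdU, hdW, h0⟩ := pairing U W hc hU hW
    rcases hUW with ⟨hTU, hTW⟩ | ⟨hTU, hTW⟩
    swap
    · have key : ∀ s : ℕ, U.map (T ^ (2 * s + 1)) = W := by
        intro s
        induction s with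
        | zero => simpa using hTU
        | succ s ih =>
          rw [show 2 * (s + 1) + 1 = 2 * s + 1 + 1 + 1 by ring, pow_succ', Module.End.mul_eq_comp, Submodule.map_comp,
            pow_succ', Module.End.mul_eq_comp, Submodule.map_comp, ih, hTW, hTU]
      obtain ⟨s, hs⟩ := hrP.odd_of_ne_two hr2
      have h1 := key s
      rw [← hs, show T ^ r = LinearMap.id from LinearMap.ext hTr, Submodule.map_id] at h1
      have h2 := hc.disjoint.eq_bot
      rw [← h1, inf_idem] at h2
      rw [h2, finrank_bot] at hdU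
      omega
    have hmapU : ∀ u ∈ U, T u ∈ U := fun u hu => hTU ▸ Submodule.mem_map_of_mem hu
    have hmapW : ∀ u ∈ W, T u ∈ W := fun u hu => hTW ▸ Submodule.mem_map_of_mem hu
    have hsymp : ∀ u v, Symp.spB d F (T u) (T v) = Symp.spB d F u v := fun u v => by
      simpa [hTdef] using (Symp.mem_symplecticGroup_iff M).1 hmem u v
    -- one of the two halves is moved, and then so is the other
    have other : ∀ U W : Submodule F (Fin d ⊕ Fin d → F), (∀ u ∈ U, T u ∈ U) →
        (∀ u ∈ U, ∀ v ∈ U, Symp.spB d F u v = 0) → IsCompl U W →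
        (∀ w ∈ W, T w = w) → ∀ u ∈ U, T u = u := by
      intro U W hmU hU hc hfix u hu
      refine sub_eq_zero.1 ((Symp.spB_nondegenerate d F).1 _ fun v => ?_)
      obtain ⟨u', hu', w, hw, rfl⟩ := Submodule.mem_sup.1 (hc.sup_eq_top.ge (Submodule.mem_top (x := v)))
      rw [map_add, hU _ (sub_mem (hmU u hu) hu) u' hu', zero_add, map_sub, LinearMap.sub_apply, sub_eq_zero]
      conv_lhs => rw [← hfix w hw]
      exact hsymp u w
    obtain ⟨hdimU, hdimW⟩ : 2 * i0 + finrank F ↥(U ⊓ LinearMap.ker (T - LinearMap.id)) ≤ finrank F U ∧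
        2 * i0 + finrank F ↥(W ⊓ LinearMap.ker (T - LinearMap.id)) ≤ finrank F W := by
      have half : ∀ U : Submodule F (Fin d ⊕ Fin d → F), ∀ hmU : (∀ u ∈ U, T u ∈ U), ¬ (∀ u ∈ U, T u = u) →
          2 * i0 + finrank F ↥(U ⊓ LinearMap.ker (T - LinearMap.id)) ≤ finrank F U := by
        intro U hmU hne
        let TU : U →ₗ[F] U := T.restrict hmU
        have h1 := moved (r := r) hrq TU (fun v => Subtype.ext (by
          rw [show ((TU ^ r) v : Fin d ⊕ Fin d → F) = (T ^ r) v by rw [Module.End.pow_restrict]; rfl]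
          exact hTr v))
        have h2 : finrank F (LinearMap.ker (TU - LinearMap.id)) = finrank F ↥(U ⊓ LinearMap.ker (T - LinearMap.id)) := by
          rw [show (U ⊓ LinearMap.ker (T - LinearMap.id)) = (LinearMap.ker (TU - LinearMap.id)).map U.subtype from ?_,
            Submodule.finrank_map_subtype_eq]
          ext v
          simp only [Submodule.mem_map, LinearMap.mem_ker, Submodule.mem_inf, LinearMap.sub_apply, LinearMap.id_apply]
          constructor
          · rintro ⟨hv, hv'⟩; exact ⟨⟨v, hv⟩, Subtype.ext hv', rfl⟩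
          · rintro ⟨w, hw, rfl⟩; exact ⟨w.2, congrArg Subtype.val hw⟩
        have h3 : finrank F ↥(U ⊓ LinearMap.ker (T - LinearMap.id)) < finrank F U :=
          Submodule.finrank_lt_finrank_of_lt (lt_of_le_of_ne inf_le_left fun h => hne fun u hu =>
            sub_eq_zero.1 (inf_eq_left.1 h hu))
        rw [h2, ← he] at h1
        have := Nat.le_of_dvd (by omega) h1
        omega
      have hid : ¬ ((∀ u ∈ U, T u = u) ∧ ∀ w ∈ W, T w = w) := fun ⟨h1, h2⟩ => hM1 (by
        refine Matrix.toLin'.injective ?_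
        rw [← hTdef, Matrix.toLin'_one]
        refine LinearMap.ext fun v => ?_
        obtain ⟨u, hu, w, hw, rfl⟩ := Submodule.mem_sup.1 (hc.sup_eq_top.ge (Submodule.mem_top (x := v)))
        rw [map_add, h1 u hu, h2 w hw]; rfl)
      exact ⟨half U hmapU fun h => hid ⟨h, other W U hmapW hW hc.symm h⟩,
        half W hmapW fun h => hid ⟨other U W hmapU hU hc h, h⟩⟩
    have hfix : LinearMap.ker (T - LinearMap.id) ≤
        (U ⊓ LinearMap.ker (T - LinearMap.id)) ⊔ (W ⊓ LinearMap.ker (T - LinearMap.id)) := by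
      intro v hv
      obtain ⟨u, hu, w, hw, rfl⟩ := Submodule.mem_sup.1 (hc.sup_eq_top.ge (Submodule.mem_top (x := v)))
      rw [LinearMap.mem_ker, LinearMap.sub_apply, LinearMap.id_apply, map_add] at hv
      have h1 : (T u - u) + (T w - w) = 0 := by rw [← hv]; abel
      have h2 : T u - u ∈ U ⊓ W := by
        refine ⟨sub_mem (hmapU u hu) hu, ?_⟩
        rw [eq_neg_of_add_eq_zero_left h1]
        exact neg_mem (sub_mem (hmapW w hw) hw)
      rw [hc.disjoint.eq_bot, Submodule.mem_bot] at h2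
      rw [h2, zero_add] at h1
      exact Submodule.add_mem_sup ⟨hu, h2⟩ ⟨hw, h1⟩
    have h3 := (Submodule.finrank_mono hfix).trans (Submodule.finrank_add_le_finrank_add_finrank _ _)
    omega

end Cfsg.Agent.S5963
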