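import Cfsg.Statements.S5964
import Cfsg.Agent.Lib.Linear.SquareScalar
import Cfsg.Agent.Lib.Linear.SubfieldBasic
import Cfsg.Agent.Lib.Linear.SLBasic
-- import your own Cfsg.Agent.* helpers here

set_option autoImplicit false
open scoped MatrixGroups
open Cfsg

namespace Cfsg.Agent.S5964

open Module
open scoped Matrix

/-- For odd degree the index of the subfield group is odd. -/
theorem index_odd {F : Type*} [Field F] [Fintype F] {n : ℕ} (hn : 1 ≤ n) (F₀ : Subfield F) (k q₀ : ℕ)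
    (hk : Odd k) (hF₀ : Nat.card F₀ = q₀) (hqk : Fintype.card F = q₀ ^ k) (hq₀ : Odd q₀)
    (H : Subgroup (Matrix.SpecialLinearGroup (Fin n) F))
    (hH : ∀ A : Matrix.SpecialLinearGroup (Fin n) F₀, Matrix.SpecialLinearGroup.map F₀.subtype A ∈ H) :
    ¬ 2 ∣ H.index := by
  classical
  intro h2
  have := Fintype.ofFinite F₀
  rw [Nat.card_eq_fintype_card] at hF₀
  have hcop : ∀ A B : ℕ, Odd A → Odd B → B ≤ A → ∃ c, Odd c ∧ A ^ k - B ^ k = (A - B) * c := by
    intro A B hA hB hle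
    refine ⟨∑ j ∈ Finset.range k, A ^ j * B ^ (k - 1 - j), ?_, ?_⟩
    · rw [Finset.odd_sum_iff_odd_card_odd, Finset.filter_true_of_mem (fun j _ => (hA.pow).mul (hB.pow)),
        Finset.card_range]
      exact hk
    · rw [mul_comm, geom_sum₂_mul_of_ge hle]
  have hq₀1 : 1 < q₀ := hF₀ ▸ Fintype.one_lt_card
  obtain ⟨c0, hc0, hc0'⟩ := hcop q₀ 1 hq₀ odd_one hq₀1.le
  rw [one_pow, ← hqk] at hc0'
  have hci : ∀ i : Fin n, ∃ c, Odd c ∧
      Fintype.card F ^ n - Fintype.card F ^ (i : ℕ) = (q₀ ^ n - q₀ ^ (i : ℕ)) * c := fun i => by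
    rw [hqk, ← pow_mul, ← pow_mul, mul_comm k n, mul_comm k (i : ℕ), pow_mul, pow_mul]
    exact hcop _ _ hq₀.pow hq₀.pow (Nat.pow_le_pow_right (by omega) i.2.le)
  choose c hc hc' using hci
  have e1 := Cfsg.Lib.Linear.card_SL_mul (F := F) n hn
  have e2 := Cfsg.Lib.Linear.card_SL_mul (F := F₀) n hn
  rw [hF₀] at e2
  rw [Finset.prod_congr rfl (fun i _ => hc' i), Finset.prod_mul_distrib, ← e2, hc0', mul_assoc, mul_assoc] at e1
  have e3 := Nat.eq_of_mul_eq_mul_left (by omega : 0 < q₀ - 1) e1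
  have hdvd : Nat.card (Matrix.SpecialLinearGroup (Fin n) F₀) ∣ Nat.card H := by
    have hinj : Function.Injective (Matrix.SpecialLinearGroup.map (n := Fin n) F₀.subtype) := fun A B h =>
      Subtype.ext (Matrix.ext fun i j => Subtype.ext (congrFun (congrFun (congrArg Subtype.val h) i) j))
    rw [Nat.card_congr (MonoidHom.ofInjective hinj).toEquiv]
    exact Subgroup.card_dvd_of_le (by rintro _ ⟨A, rfl⟩; exact hH A)
  have e4 : 2 * Nat.card (Matrix.SpecialLinearGroup (Fin n) F₀) ∣ Nat.card (Matrix.SpecialLinearGroup (Fin n) F₀) * ∏ i, c i := by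
    rw [← e3]
    refine Dvd.dvd.mul_left ?_ c0
    rw [← H.index_mul_card]
    exact Nat.mul_dvd_mul h2 hdvd
  rw [mul_comm 2, Nat.mul_dvd_mul_iff_left Nat.card_pos] at e4
  obtain ⟨i, -, hi⟩ := (Nat.prime_two.prime.dvd_finsetProd_iff c).1 e4
  exact (hc i).not_two_dvd_nat hi

/-- In characteristic two every element is a square. -/
theorem isSquare_of_even {F : Type*} [Field F] [Fintype F] (h : ¬ Odd (Fintype.card F)) (z : F) : IsSquare z :=
  FiniteField.isSquare_of_char_two ((FiniteField.even_card_iff_char_two).2 (by rw [Nat.odd_iff] at h; omega)) z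

/-- The determinant of `T` when it has no eigenvalue. -/
theorem det_pairs {F V : Type*} [Field F] [AddCommGroup V] [Module F V] {r : ℕ}
    (b : Basis ((Fin r × Fin 2) ⊕ Fin 0) F V) (T : V →ₗ[F] V) (z : F)
    (hp : ∀ p, T (b (.inl (p, 0))) = b (.inl (p, 1)) ∧ T (b (.inl (p, 1))) = z • b (.inl (p, 0))) :
    LinearMap.det T = (-z) ^ r := by
  classical
  let b' := b.reindex ((Equiv.sumEmpty _ _).trans (Equiv.prodComm (Fin r) (Fin 2)))
  let MT := Matrix.blockDiagonal fun _ : Fin r => (!![0, z; 1, 0] : Matrix (Fin 2) (Fin 2) F)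
  have hTM : T = Matrix.toLin b' b' MT := by
    refine b'.ext fun x => ?_
    obtain ⟨i, p⟩ := x
    rw [Matrix.toLin_self, Fintype.sum_prod_type_right, Finset.sum_eq_single p
      (fun p' _ hp' => by simp [MT, Matrix.blockDiagonal_apply_ne _ _ _ hp']) (by simp), Fin.sum_univ_two]
    rcases Fin.exists_fin_two.1 ⟨i, rfl⟩ with rfl | rfl <;> simp [b', MT, (hp p).1, (hp p).2]
  rw [hTM, LinearMap.det_toLin, Matrix.det_blockDiagonal]
  simp

/-- `y ^ m = 1` with small 2-part of `m` makes `y` a square. -/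
theorem square_of_pow_eq_one {F : Type*} [Field F] [Fintype F] (hF : Odd (Fintype.card F)) {y : F} {m : ℕ}
    (hm : m ≠ 0) (h : padicValNat 2 m < padicValNat 2 (Fintype.card F - 1)) (hy : y ^ m = 1) : IsSquare y := by
  haveI : Fact (Nat.Prime 2) := ⟨Nat.prime_two⟩
  by_contra hns
  have hy0 : y ≠ 0 := fun h0 => hns (h0 ▸ IsSquare.zero)
  have hchar : ringChar F ≠ 2 := fun h => by
    have h1 := (FiniteField.even_card_iff_char_two (F := F)).1 h
    rw [Nat.odd_iff] at hF
    omega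
  have h1 : y ^ (Fintype.card F / 2) = -1 := by
    rcases FiniteField.pow_dichotomy hchar hy0 with h1 | h1
    · exact absurd ((FiniteField.isSquare_iff hchar hy0).2 h1) hns
    · exact h1
  obtain ⟨u, hu⟩ := pow_padicValNat_dvd (p := 2) (n := m)
  obtain ⟨w, hw⟩ := pow_padicValNat_dvd (p := 2) (n := Fintype.card F - 1)
  have hodd : Odd u := by
    rw [Nat.odd_iff]
    by_contra h2
    refine pow_succ_padicValNat_not_dvd (p := 2) (n := m) hm ⟨u / 2, ?_⟩
    rw [pow_succ, mul_assoc, show 2 * (u / 2) = u by omega, ← hu]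
  obtain ⟨d, hd⟩ : ∃ d, padicValNat 2 (Fintype.card F - 1) = padicValNat 2 m + 1 + d := ⟨_, (Nat.add_sub_cancel' h).symm⟩
  have h3 : Fintype.card F / 2 * u = m * (2 ^ d * w) := by
    have h4 : Fintype.card F / 2 = 2 ^ padicValNat 2 m * (2 ^ d * w) := by
      rw [hd, pow_add, pow_add, pow_one] at hw
      rw [Nat.odd_iff] at hF
      have : Fintype.card F = 2 * (2 ^ padicValNat 2 m * (2 ^ d * w)) + 1 := by
        have : 0 < Fintype.card F := Fintype.card_pos
        rw [show 2 * (2 ^ padicValNat 2 m * (2 ^ d * w)) = 2 ^ padicValNat 2 m * 2 * 2 ^ d * w by ring, ← hw]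
        omega
      omega
    conv_rhs => rw [hu]
    rw [h4]; ring
  have h5 := congrArg (fun t => t ^ u) h1
  simp only [← pow_mul, h3, hodd.neg_one_pow] at h5
  rw [pow_mul, hy, one_pow] at h5
  exact hchar ((Ring.neg_one_ne_one_of_char_ne_two (R := F) hchar h5.symm).elim)

/-- An element with every conjugate outside the subfield group. -/
theorem exists_bad {F : Type*} [Field F] [Fintype F] {n : ℕ} (hn : 2 ≤ n) (F₀ : Subfield F) (q₀ : ℕ)
    (hF₀ : Nat.card F₀ = q₀) (hqk : Fintype.card F = q₀ ^ 2) (hq₀ : Odd q₀)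
    (hv : padicValNat 2 (Fintype.card F - 1) < padicValNat 2 n) :
    ∃ x : Matrix.SpecialLinearGroup (Fin n) F, (∃ z : F, (x : Matrix (Fin n) (Fin n) F) ^ 2 = z • 1) ∧
      (∀ z : F, (x : Matrix (Fin n) (Fin n) F) ≠ z • 1) ∧
      ∀ P : Matrix.SpecialLinearGroup (Fin n) F,
        ¬ Cfsg.Lib.Linear.Rat0.RatG F₀ (Matrix.SpecialLinearGroup.toGL (P⁻¹ * x * P)) := by
  classical
  haveI : Fact (Nat.Prime 2) := ⟨Nat.prime_two⟩
  obtain ⟨e, he⟩ : ∃ e, e = padicValNat 2 (Fintype.card F - 1) := ⟨_, rfl⟩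
  obtain ⟨m, hm⟩ : 2 ^ (e + 1) ∣ n := (pow_dvd_pow 2 (he ▸ hv)).trans pow_padicValNat_dvd
  obtain ⟨r, hr⟩ : ∃ r, r = 2 ^ e * m := ⟨_, rfl⟩
  have hn2 : n = 2 * r := by rw [hr, hm, pow_succ]; ring
  have hcard : 1 < Fintype.card F := Fintype.one_lt_card
  obtain ⟨ζ, hζ⟩ := IsCyclic.exists_generator (α := Fˣ)
  have hoζ : orderOf ζ = Fintype.card F - 1 := by
    rw [orderOf_eq_card_of_forall_mem_zpowers hζ, Nat.card_eq_fintype_card, Fintype.card_units]
  obtain ⟨w, hw⟩ := pow_padicValNat_dvd (p := 2) (n := Fintype.card F - 1)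
  rw [← he] at hw
  have hwodd : Odd w := by
    rw [Nat.odd_iff]
    by_contra h2
    refine pow_succ_padicValNat_not_dvd (p := 2) (n := Fintype.card F - 1) (by omega) ⟨w / 2, ?_⟩
    rw [← he, pow_succ, mul_assoc, show 2 * (w / 2) = w by omega, ← hw]
  obtain ⟨y, hy⟩ : ∃ y : F, y = ((ζ ^ w : Fˣ) : F) := ⟨_, rfl⟩
  have hy1 : y ^ (2 ^ e) = 1 := by
    rw [hy, ← Units.val_pow_eq_pow_val, ← pow_mul, mul_comm, ← hw, ← hoζ, pow_orderOf_eq_one, Units.val_one]
  have hsqeven : ∀ t : Fˣ, IsSquare (t : F) → ∃ j : ℕ, t = ζ ^ (2 * j) := fun t ht => by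
    obtain ⟨s, hs⟩ := ht
    have hs0 : s ≠ 0 := fun h => t.ne_zero (by rw [hs, h, mul_zero])
    obtain ⟨j, hj⟩ := (mem_powers_iff_mem_zpowers.2 (hζ (Units.mk0 s hs0)) : Units.mk0 s hs0 ∈ Submonoid.powers ζ)
    exact ⟨j, Units.ext (by rw [hs, two_mul, pow_add, Units.val_mul, show ζ ^ j = Units.mk0 s hs0 from hj]; rfl)⟩
  have hq4 : 4 ∣ Fintype.card F - 1 := by
    obtain ⟨j, rfl⟩ := hq₀
    rw [hqk]
    exact ⟨j * j + j, by rw [show (2 * j + 1) ^ 2 = 4 * (j * j + j) + 1 by ring, Nat.add_sub_cancel]⟩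
  have hnsq : ¬ IsSquare y := fun h => by
    rw [hy] at h
    obtain ⟨j, hj⟩ := hsqeven _ h
    rw [pow_eq_pow_iff_modEq, hoζ] at hj
    have h2 : w % 2 = 2 * j % 2 := hj.of_dvd (dvd_trans (by norm_num) hq4)
    rw [Nat.odd_iff] at hwodd
    omega
  have hm1 : IsSquare (-1 : F) := by
    rw [FiniteField.isSquare_neg_one_iff]
    omega
  obtain ⟨z, hz⟩ : ∃ z : F, z = -y := ⟨_, rfl⟩
  have hzns : ¬ IsSquare z := fun h => hnsq (by
    have := hm1.mul h
    rwa [hz, neg_one_mul, neg_neg] at this)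
  let E : Fin 2 × Fin r ≃ Fin n := finProdFinEquiv.trans (finCongr hn2.symm)
  let M : Matrix (Fin n) (Fin n) F :=
    Matrix.reindex E E (Matrix.blockDiagonal fun _ : Fin r => (!![0, z; 1, 0] : Matrix (Fin 2) (Fin 2) F))
  have hdet : M.det = 1 := by
    simp only [M, Matrix.det_reindex_self, Matrix.det_blockDiagonal, Matrix.det_fin_two_of, Finset.prod_const,
      Finset.card_univ, Fintype.card_fin]
    rw [hz, show (0 * 0 - -y * 1 : F) = y by ring, hr, pow_mul, hy1, one_pow]
  have hM2 : M ^ 2 = z • 1 := by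
    simp only [M, pow_two, Matrix.reindex_apply, Matrix.submatrix_mul_equiv, ← Matrix.blockDiagonal_mul]
    rw [show (fun _ : Fin r => (!![0, z; 1, 0] : Matrix (Fin 2) (Fin 2) F) * !![0, z; 1, 0]) =
      z • (1 : Fin r → Matrix (Fin 2) (Fin 2) F)
      from funext fun _ => by ext i j; fin_cases i <;> fin_cases j <;> simp [Matrix.mul_apply, Fin.sum_univ_two],
      Matrix.blockDiagonal_smul,
      Matrix.blockDiagonal_one, Matrix.submatrix_smul]
    simp [Matrix.submatrix_one_equiv]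
  refine ⟨⟨M, hdet⟩, ⟨z, hM2⟩, fun t ht => ?_, ?_⟩
  · have h1 : t * t = z := by
      have h2 : (t • (1 : Matrix (Fin n) (Fin n) F)) ^ 2 = z • 1 := by rw [← ht]; exact hM2
      have h3 := congrFun (congrFun h2 ⟨0, by omega⟩) ⟨0, by omega⟩
      simpa [pow_two] using h3
    exact hzns ⟨t, h1.symm⟩
  rintro P ⟨s, hs0, hs⟩
  let x0 : Matrix.SpecialLinearGroup (Fin n) F := ⟨M, hdet⟩
  let N : Matrix (Fin n) (Fin n) F := ((P⁻¹ * x0 * P : Matrix.SpecialLinearGroup (Fin n) F) : Matrix (Fin n) (Fin n) F)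
  have hN : N * N = z • 1 := by
    show (_ : Matrix (Fin n) (Fin n) F) = _
    simp only [N, ← Matrix.SpecialLinearGroup.coe_mul]
    rw [show P⁻¹ * x0 * P * (P⁻¹ * x0 * P) = P⁻¹ * (x0 * x0) * P by group]
    rw [Matrix.SpecialLinearGroup.coe_mul, Matrix.SpecialLinearGroup.coe_mul, Matrix.SpecialLinearGroup.coe_mul,
      show (x0 : Matrix (Fin n) (Fin n) F) = M from rfl, ← pow_two, hM2, Matrix.mul_smul, Matrix.mul_one,
      Matrix.smul_mul, ← Matrix.SpecialLinearGroup.coe_mul, inv_mul_cancel, Matrix.SpecialLinearGroup.coe_one]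
  have hmem : s * s * z ∈ F₀ := by
    have h3 := congrFun (congrFun hN ⟨0, by omega⟩) ⟨0, by omega⟩
    rw [Matrix.smul_apply, Matrix.one_apply_eq, smul_eq_mul, mul_one, Matrix.mul_apply] at h3
    rw [← h3, Finset.mul_sum]
    refine sum_mem fun l _ => ?_
    rw [show s * s * (N ⟨0, by omega⟩ l * N l ⟨0, by omega⟩) = (s * N ⟨0, by omega⟩ l) * (s * N l ⟨0, by omega⟩) by ring]
    exact mul_mem (hs _ _) (hs _ _)
  have hsq : IsSquare (s * s * z) := by
    have := Fintype.ofFinite F₀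
    rcases eq_or_ne (s * s * z) 0 with h0 | h0
    · rw [h0]; exact IsSquare.zero
    have hchar : ringChar F ≠ 2 := fun h => by
      have h1 := (FiniteField.even_card_iff_char_two (F := F)).1 h
      omega
    rw [FiniteField.isSquare_iff hchar h0]
    have h1 : (s * s * z) ^ (q₀ - 1) = 1 := by
      have h2 := congrArg (fun t : F₀ => (t : F))
        (FiniteField.pow_card_sub_one_eq_one (⟨_, hmem⟩ : F₀) (fun h => h0 (congrArg Subtype.val h)))
      rw [← Nat.card_eq_fintype_card, hF₀] at h2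
      simpa using h2
    obtain ⟨j, rfl⟩ := hq₀
    rw [hqk, show (2 * j + 1) ^ 2 / 2 = (2 * j + 1 - 1) * (j + 1) by
      rw [Nat.add_sub_cancel, show (2 * j + 1) ^ 2 = 2 * (2 * j * (j + 1)) + 1 by ring]; omega, pow_mul, h1, one_pow]
  obtain ⟨t, ht⟩ := hsq
  exact hzns ⟨t / s, by field_simp; linear_combination ht⟩

/-- Involutions of PSL_n(q) and subfield subgroups. Here `T = PSL_n(F)` for a field `F` with `q = p^f` elements (`n ≥ 2`, `(n, q) ≠ (2, 2), (2, 3)`), `F₀` is the subfield with `q₀` elements where `q = q₀^k` for a prime `k`, and `H` is the subgroup of matrices of determinant 1 lying in the subfield group of `F₀` (invertible matrices over `F₀` times scalars) — a maximal subgroup of type GL_n(q₀) (the case `n = 2`, `q₀ = 2` is excluded); Ω is the set of `T`-conjugates of `H` (cosets of `H`), so an element of `T` of prime order `r` (a matrix `x` of determinant 1 with `x^r` scalar, `x` not scalar) fixes a point of Ω when some conjugate of `x` by a matrix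 of determinant 1 lies in `H`. Suppose the index of `H` is even. Then every involution of `T` is conjugate in `T` into `H` if and only if either `q` is even, or `k = 2` and `(n)_2 ≤ (q − 1)_2`. (For `q` odd and `k` odd the index of `H` is odd, so that case does not arise.) -/
theorem result {F : Type*} [Field F] [Fintype F] {p : ℕ} [Fact p.Prime] [CharP F p] {q : ℕ} (hq : Fintype.card F = q)
    (n : ℕ) (hn : 2 ≤ n) (hT : (n, q) ≠ (2, 2) ∧ (n, q) ≠ (2, 3))
    (F₀ : Subfield F) (k q₀ : ℕ) (hk : k.Prime) (hF₀ : Nat.card ↥F₀ = q₀) (hqk : q = q₀ ^ k) (hC5 : ¬ (n = 2 ∧ q₀ = 2)) (hΩ : 2 ∣ ((Cfsg.Geo.subfieldSubgroup F₀ 1).comap (Matrix.SpecialLinearGroup.toGL : Matrix.SpecialLinearGroup (Fin n) F →* GL (Fin n) F)).index) :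
    (∀ x : Matrix.SpecialLinearGroup (Fin n) F,
      (∃ z : F, ((x ^ 2 : Matrix.SpecialLinearGroup (Fin n) F) : Matrix (Fin n) (Fin n) F) = z • (1 : Matrix (Fin n) (Fin n) F)) →
      (∀ z : F, (x : Matrix (Fin n) (Fin n) F) ≠ z • (1 : Matrix (Fin n) (Fin n) F)) →
      ∃ P : Matrix.SpecialLinearGroup (Fin n) F, P⁻¹ * x * P ∈ ((Cfsg.Geo.subfieldSubgroup F₀ 1).comap (Matrix.SpecialLinearGroup.toGL : Matrix.SpecialLinearGroup (Fin n) F →* GL (Fin n) F))) ↔
    (Odd q → (k = 2 ∧ padicValNat 2 n ≤ padicValNat 2 (q - 1))) := by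
  classical
  subst hq
  haveI : Nonempty (Fin n) := ⟨⟨0, by omega⟩⟩
  constructor
  · intro hall hodd
    have hq₀ : Odd q₀ := by
      by_contra h
      rw [Nat.not_odd_iff_even] at h
      rw [hqk, Nat.odd_pow_iff hk.ne_zero] at hodd
      exact Nat.not_odd_iff_even.2 h hodd
    rcases hk.eq_two_or_odd' with rfl | hkodd
    · refine ⟨rfl, ?_⟩
      by_contra hlt
      push Not at hlt
      obtain ⟨x, ⟨z, hz⟩, hx2, hP⟩ := exists_bad hn F₀ q₀ hF₀ hqk hq₀ hlt
      obtain ⟨P, hP'⟩ := hall x ⟨z, by rw [Matrix.SpecialLinearGroup.coe_pow]; exact hz⟩ hx2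
      exact hP P ((Cfsg.Lib.Linear.Rat0.mem_subfieldSubgroup_one F₀ _).1 (Subgroup.mem_comap.1 hP'))
    · refine absurd hΩ (index_odd (by omega) F₀ k q₀ hkodd hF₀ hqk hq₀ _ fun A => Subgroup.mem_comap.2 ?_)
      exact (Cfsg.Lib.Linear.Rat0.mem_subfieldSubgroup_one F₀ _).2 ⟨1, one_ne_zero, fun i j => by
        rw [one_mul]; exact (A i j).2⟩
  · intro hv x hx1 hx2
    obtain ⟨z, hz⟩ := hx1
    set T := Matrix.toLin' (x : Matrix (Fin n) (Fin n) F) with hTdef
    have hz0 : z ≠ 0 := by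
      rintro rfl
      have h1 := (x ^ 2).2
      rw [hz, zero_smul, Matrix.det_zero] at h1
      exact zero_ne_one h1
    have hTT : ∀ v, T (T v) = z • v := fun v => by
      rw [hTdef, ← LinearMap.comp_apply, ← Matrix.toLin'_mul, ← pow_two, ← Matrix.SpecialLinearGroup.coe_pow, hz]
      simp [Matrix.smul_mulVec]
    obtain ⟨r, s, b, c, hp, hs⟩ := Cfsg.Agent.S5957.exists_normal_basis T z hz0 hTT
    have hc : ∀ l, c l * c l = z := fun l => by
      have h1 := hTT (b (.inr l))
      rw [hs, map_smul, hs, smul_smul] at h1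
      exact smul_left_injective F (b.ne_zero _) h1
    have hcardn : r * 2 + s = n := by
      have := finrank_eq_card_basis b
      simp only [Module.finrank_fin_fun, Fintype.card_sum, Fintype.card_prod, Fintype.card_fin] at this
      omega
    obtain ⟨γ, rfl⟩ : ∃ γ : F, γ * γ = z := by
      by_contra hns
      push Not at hns
      have hnsq : ¬ IsSquare z := fun ⟨t, ht⟩ => hns t ht.symm
      have hodd : Odd (Fintype.card F) := by
        by_contra h
        exact hnsq (isSquare_of_even h z)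
      obtain ⟨rfl, hle⟩ := hv hodd
      rcases Nat.eq_zero_or_pos s with rfl | hs0
      · have hdet : (-z) ^ r = 1 := by
          rw [← det_pairs b T z hp, hTdef, LinearMap.det_toLin']; exact x.2
        have hm1 : IsSquare (-1 : F) := by
          rw [FiniteField.isSquare_neg_one_iff]
          have hq₀ : Odd q₀ := by
            rw [hqk, Nat.odd_pow_iff (by norm_num)] at hodd
            exact hodd
          obtain ⟨j, rfl⟩ := hq₀
          rw [hqk, show (2 * j + 1) ^ 2 = 4 * (j * j + j) + 1 by ring]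
          omega
        have hlt : padicValNat 2 r < padicValNat 2 (Fintype.card F - 1) := by
          haveI : Fact (Nat.Prime 2) := ⟨Nat.prime_two⟩
          rw [← hcardn, Nat.add_zero, mul_comm, padicValNat.mul (by norm_num) (by omega)] at hle
          simp at hle
          omega
        exact hnsq (by
          have := hm1.mul (square_of_pow_eq_one hodd (by omega) hlt hdet)
          rwa [neg_one_mul, neg_neg] at this)
      · exact hns _ (hc ⟨0, hs0⟩)
    have hγ : γ ≠ 0 := left_ne_zero_of_mul hz0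
    have hc' : ∀ l, c l = γ * 1 ∨ c l = γ * -1 := fun l => by
      rcases mul_self_eq_mul_self_iff.1 (hc l) with h | h
      · exact Or.inl (by rw [h, mul_one])
      · exact Or.inr (by rw [h, mul_neg, mul_one])
    let u : (Fin r × Fin 2) ⊕ Fin s → Fˣ := fun i =>
      match i with
      | .inl (_, j) => if j = 0 then 1 else (Units.mk0 γ hγ)⁻¹
      | .inr _ => 1
    let E : ((Fin r × Fin 2) ⊕ Fin s) ≃ Fin n := Fintype.equivFinOfCardEq (by
      simp only [Fintype.card_sum, Fintype.card_prod, Fintype.card_fin]; exact hcardn)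
    let β := (b.unitsSMul u).reindex E
    have hβ : ∀ i, ∃ j ε, ε ∈ F₀ ∧ T (β i) = (γ * ε) • β j := by
      intro i
      simp only [β, Basis.reindex_apply]
      generalize E.symm i = y
      have key : ∀ y', ∃ j, ((b.unitsSMul u).reindex E) j = u y' • b y' :=
        fun y' => ⟨E y', by simp [Basis.unitsSMul_apply]⟩
      simp only [Basis.unitsSMul_apply]
      rcases y with ⟨p, e⟩ | l
      · rcases Fin.exists_fin_two.1 ⟨e, rfl⟩ with rfl | rfl
        · obtain ⟨j, hj⟩ := key (.inl (p, 1))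
          refine ⟨j, 1, one_mem _, ?_⟩
          simp only [Basis.reindex_apply, Basis.unitsSMul_apply] at hj
          rw [hj]
          simp [u, (hp p).1, Units.smul_def, smul_smul, hγ]
        · obtain ⟨j, hj⟩ := key (.inl (p, 0))
          refine ⟨j, 1, one_mem _, ?_⟩
          simp only [Basis.reindex_apply, Basis.unitsSMul_apply] at hj
          rw [hj]
          simp [u, (hp p).2, Units.smul_def, smul_smul, hγ, ← mul_assoc]
      · obtain ⟨j, hj⟩ := key (.inr l)
        simp only [Basis.reindex_apply, Basis.unitsSMul_apply] at hj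
        rcases hc' l with h | h
        · refine ⟨j, 1, one_mem _, ?_⟩
          rw [hj]; simp [u, hs, Units.smul_def, h]
        · refine ⟨j, -1, neg_mem (one_mem _), ?_⟩
          rw [hj]; simp [u, hs, Units.smul_def, h]
    obtain ⟨P, hP⟩ := Cfsg.Lib.Linear.SquareScalar.exists_SL x hz0 hTT β.equivFun
      (Matrix.toLin' (LinearMap.toMatrix β β T)) (fun v => by
        simp only [Basis.equivFun_apply]
        rw [Matrix.toLin'_apply (LinearMap.toMatrix β β T), LinearMap.toMatrix_mulVec_repr])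
    refine ⟨P, Subgroup.mem_comap.2 ((Cfsg.Lib.Linear.Rat0.mem_subfieldSubgroup_one F₀ _).2
      ⟨γ⁻¹, inv_ne_zero hγ, fun i j => ?_⟩)⟩
    show γ⁻¹ * ((P⁻¹ * x * P : Matrix.SpecialLinearGroup (Fin n) F) : Matrix (Fin n) (Fin n) F) i j ∈ F₀
    rw [Matrix.toLin'.injective hP, LinearMap.toMatrix_apply]
    obtain ⟨k', ε, hε, he⟩ := hβ j
    rw [he, map_smul, Basis.repr_self, Finsupp.smul_apply, Finsupp.single_apply, smul_eq_mul, ← mul_assoc, ← mul_assoc,
      inv_mul_cancel₀ hγ, one_mul]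
    split_ifs
    · rw [mul_one]; exact hε
    · rw [mul_zero]; exact zero_mem _

end Cfsg.Agent.S5964
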