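import Cfsg.Statements.S5968
import Cfsg.Agent.S5960
import Cfsg.Agent.Lib.Linear.SympParabolic
import Cfsg.Agent.Lib.Linear.SLBasic
-- import your own Cfsg.Agent.* helpers here

set_option autoImplicit false
open scoped MatrixGroups
open Cfsg

namespace Cfsg.Agent.S5968

open Module
open scoped Matrix

variable {F : Type*} [Field F] {n : ℕ}

/-- Standard vectors paired only among themselves are even in number. -/
theorem even_closed (g : LinearMap.BilinForm F (Fin n → F)) (hA : g.IsAlt)
    (hnd : ∀ v, (∀ j, g v (Pi.single j 1) = 0) → v = 0) (S : Finset (Fin n))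
    (hS : ∀ i ∈ S, ∀ j, j ∉ S → g (Pi.single i 1) (Pi.single j 1) = 0) : Even S.card := by
  classical
  let b : ↥S → (Fin n → F) := fun i => Pi.single (i : Fin n) (1 : F)
  have hb : b = fun i : ↥S => Pi.single (i : Fin n) (1 : F) := rfl
  have hbli : LinearIndependent F b := by
    have := (Pi.basisFun F (Fin n)).linearIndependent.comp (fun i : S => (i : Fin n)) Subtype.val_injective
    rw [hb]
    simpa [Function.comp_def] using this
  set Y := Submodule.span F (Set.range b) with hY
  have hYdim : finrank F Y = S.card := by rw [hY, finrank_span_eq_card hbli, Fintype.card_coe]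
  obtain ⟨ι, _, π, e, f, -, hs, hmem, hcard⟩ := Cfsg.Agent.S5960.exists_sys (T := LinearMap.id) hA (one_ne_zero (α := F))
    (fun v => (one_smul F v).symm) (fun u v => rfl) _ Y rfl (fun y hy => hy) (fun y hy h => hnd y fun j => by
      by_cases hj : j ∈ S
      · exact h _ (Submodule.subset_span ⟨⟨j, hj⟩, by rw [hb]⟩)
      · have h2 : Y ≤ LinearMap.ker (g.flip (Pi.single j 1)) := by
          rw [hY, Submodule.span_le, hb]
          rintro _ ⟨i, rfl⟩
          exact hS i i.2 j hj
        exact h2 hy)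
  have h3 := finrank_span_eq_card (hs.li hA)
  have h4 : Submodule.span F (Set.range (Sum.elim e f)) ≤ Y := by
    rw [Submodule.span_le]
    rintro _ ⟨x | x, rfl⟩
    exacts [(hmem x).1, (hmem x).2]
  have h5 := Submodule.finrank_mono h4
  rw [h3, Fintype.card_sum, hYdim] at h5
  exact ⟨Fintype.card ι, by omega⟩

/-- Standard vectors paired only with those of another set are at most as many. -/
theorem card_le_of_paired (g : LinearMap.BilinForm F (Fin n → F))
    (hnd : ∀ v, (∀ j, g v (Pi.single j 1) = 0) → v = 0) (S S' : Finset (Fin n))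
    (hS : ∀ i ∈ S, ∀ j, j ∉ S' → g (Pi.single i 1) (Pi.single j 1) = 0) : S.card ≤ S'.card := by
  classical
  obtain ⟨emb, hemb⟩ : ∃ emb : (S → F) →ₗ[F] (Fin n → F), emb = Fintype.linearCombination F fun i : S => Pi.single (i : Fin n) 1 :=
    ⟨_, rfl⟩
  let ψ : (S → F) →ₗ[F] (S' → F) := LinearMap.pi fun j => (g.flip (Pi.single (j : Fin n) 1)).comp emb
  have hinj : Function.Injective ψ := by
    refine (injective_iff_map_eq_zero _).2 fun c hc => ?_
    have h0 : emb c = 0 := hnd _ fun j => by
      by_cases hj : j ∈ S'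
      · exact congrFun hc ⟨j, hj⟩
      · rw [hemb, Fintype.linearCombination_apply, map_sum, LinearMap.sum_apply]
        exact Finset.sum_eq_zero fun i _ => by rw [map_smul, LinearMap.smul_apply, hS i i.2 j hj, smul_zero]
    funext i
    have h1 := congrFun h0 i
    rw [hemb, Fintype.linearCombination_apply, Finset.sum_apply, Finset.sum_eq_single i (fun l _ hl => by
      simp [Pi.single_apply, Subtype.val_injective.ne hl.symm]) (by simp)] at h1
    simpa using h1
  have := LinearMap.finrank_le_finrank_of_injective hinj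
  simpa [Module.finrank_pi, Fintype.card_coe] using this

/-- A conjugate in the similitude group gives an invariant form for the matrix itself. -/
theorem pull (f : (Fin n → F) → (Fin n → F) → F) (hf : Cfsg.Geo.IsSymplecticForm f)
    (x P : Matrix.SpecialLinearGroup (Fin n) F)
    (hP : P⁻¹ * x * P ∈ ((Cfsg.Geo.similarityGroup f).comap Matrix.SpecialLinearGroup.toGL)) :
    ∃ g : LinearMap.BilinForm F (Fin n → F), g.IsAlt ∧ (∀ v, (∀ j, g v (Pi.single j 1) = 0) → v = 0) ∧
      ∃ μ : F, ∀ u v, g ((x : Matrix (Fin n) (Fin n) F) *ᵥ u) ((x : Matrix (Fin n) (Fin n) F) *ᵥ v) = μ * g u v := by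
  obtain ⟨hfb, hskew, halt, hndeg⟩ := hf
  let B : LinearMap.BilinForm F (Fin n → F) := LinearMap.mk₂ F f hfb.add_left (fun a x v => hfb.smul_left a x v)
    (fun v x y => hfb.add_right v x y) (fun a v x => hfb.smul_right a v x)
  let Pi' : (Fin n → F) →ₗ[F] (Fin n → F) :=
    Matrix.toLin' ((P⁻¹ : Matrix.SpecialLinearGroup (Fin n) F) : Matrix (Fin n) (Fin n) F)
  have hPP : ∀ v, Pi' ((P : Matrix (Fin n) (Fin n) F) *ᵥ v) = v := fun v => by
    simp only [Pi', Matrix.toLin'_apply, Matrix.mulVec_mulVec]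
    rw [← Matrix.SpecialLinearGroup.coe_mul, inv_mul_cancel, Matrix.SpecialLinearGroup.coe_one, Matrix.one_mulVec]
  have hPP' : ∀ v, (P : Matrix (Fin n) (Fin n) F) *ᵥ Pi' v = v := fun v => by
    simp only [Pi', Matrix.toLin'_apply, Matrix.mulVec_mulVec]
    rw [← Matrix.SpecialLinearGroup.coe_mul, mul_inv_cancel, Matrix.SpecialLinearGroup.coe_one, Matrix.one_mulVec]
  obtain ⟨g, hg⟩ : ∃ g : LinearMap.BilinForm F (Fin n → F), ∀ u v, g u v = f (Pi' u) (Pi' v) :=
    ⟨B.compl₁₂ Pi' Pi', fun u v => rfl⟩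
  obtain ⟨μ, hμ⟩ := Subgroup.mem_comap.1 hP
  refine ⟨g, fun v => by rw [hg, halt], fun v hv => ?_, μ, fun u v => ?_⟩
  · by_contra h0
    have h1 : Pi' v ≠ 0 := fun h => h0 (by rw [← hPP' v, h, Matrix.mulVec_zero])
    obtain ⟨-, w, hw⟩ := hndeg (Pi' v) h1
    refine hw ?_
    have h2' : g v = 0 := (Pi.basisFun F (Fin n)).ext fun j => by
      rw [Pi.basisFun_apply]; exact hv j
    have := LinearMap.congr_fun h2' ((P : Matrix (Fin n) (Fin n) F) *ᵥ w)
    rwa [hg, hPP] at this
  · rw [hg, hg, ← hμ (Pi' u) (Pi' v)]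
    have key : ∀ u, Pi' ((x : Matrix (Fin n) (Fin n) F) *ᵥ u) =
        ((Matrix.SpecialLinearGroup.toGL (P⁻¹ * x * P) : GL (Fin n) F) : Matrix (Fin n) (Fin n) F) *ᵥ Pi' u := fun u => by
      show _ = ((P⁻¹ * x * P : Matrix.SpecialLinearGroup (Fin n) F) : Matrix (Fin n) (Fin n) F) *ᵥ Pi' u
      rw [Matrix.SpecialLinearGroup.coe_mul, Matrix.SpecialLinearGroup.coe_mul, ← Matrix.mulVec_mulVec, hPP',
        ← Matrix.mulVec_mulVec]
      rfl
    rw [key, key]

/-- The multiplier of an element of finite order. -/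
theorem mult_pow (g : LinearMap.BilinForm F (Fin n → F)) (hn : 0 < n)
    (hnd : ∀ v, (∀ j, g v (Pi.single j 1) = 0) → v = 0) (x : Matrix (Fin n) (Fin n) F) (μ : F)
    (h : ∀ u v, g (x *ᵥ u) (x *ᵥ v) = μ * g u v) (r : ℕ) (hx : x ^ r = 1) : μ ^ r = 1 := by
  have hi : ∀ k u v, g ((x ^ k) *ᵥ u) ((x ^ k) *ᵥ v) = μ ^ k * g u v := by
    intro k
    induction k with
    | zero => simp
    | succ k ih => intro u v; rw [pow_succ' x, ← Matrix.mulVec_mulVec, ← Matrix.mulVec_mulVec, h, ih]; ring
  obtain ⟨j, hj⟩ : ∃ j, g (Pi.single (⟨0, hn⟩ : Fin n) 1) (Pi.single j 1) ≠ 0 := by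
    by_contra hc
    push Not at hc
    have := congrFun (hnd _ hc) ⟨0, hn⟩
    simp at this
  have h1 := hi r (Pi.single (⟨0, hn⟩ : Fin n) 1) (Pi.single j 1)
  rw [hx, Matrix.one_mulVec, Matrix.one_mulVec] at h1
  exact (mul_right_cancel₀ hj (h1.symm.trans (one_mul _).symm))

/-- A prime dividing the index divides one of the odd factors. -/
theorem exists_odd_factor [Fintype F] {m : ℕ} (hnm : n = 2 * m) (hm : 1 ≤ m) (f : (Fin n → F) → (Fin n → F) → F)
    (hf : Cfsg.Geo.IsSymplecticForm f) {r : ℕ} (hr : r.Prime) (hr2 : r ≠ 2) (hrq : ¬ r ∣ Fintype.card F)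
    (hΩ : r ∣ ((Cfsg.Geo.similarityGroup f).comap (Matrix.SpecialLinearGroup.toGL : Matrix.SpecialLinearGroup (Fin n) F →* GL (Fin n) F)).index) :
    ∃ i, i < m ∧ 0 < i ∧ r ∣ Fintype.card F ^ (2 * i + 1) - 1 := by
  classical
  haveI : Nonempty (Fin n) := ⟨⟨0, by omega⟩⟩
  obtain ⟨hfb, hskew, halt, hndeg⟩ := hf
  let B : LinearMap.BilinForm F (Fin n → F) := LinearMap.mk₂ F f hfb.add_left (fun a x v => hfb.smul_left a x v)
    (fun v x y => hfb.add_right v x y) (fun a v x => hfb.smul_right a v x)
  have hA : B.IsAlt := fun u => halt u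
  have hnd : B.Nondegenerate := by
    refine ⟨fun u hu => ?_, fun u hu => ?_⟩
    · by_contra h0
      obtain ⟨-, w, hw⟩ := hndeg u h0
      exact hw (hu w)
    · by_contra h0
      obtain ⟨⟨w, hw⟩, -⟩ := hndeg u h0
      exact hw (hu w)
  set H := (Cfsg.Geo.similarityGroup f).comap (Matrix.SpecialLinearGroup.toGL : Matrix.SpecialLinearGroup (Fin n) F →* GL (Fin n) F) with hH
  let b := Pi.basisFun F (Fin n)
  have hdet : ∀ φ ∈ Cfsg.Lib.Linear.Symp.iso B,
      LinearMap.det (φ : (Fin n → F) →ₗ[F] (Fin n → F)) * LinearMap.det (φ : (Fin n → F) →ₗ[F] (Fin n → F)) = 1 := by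
    intro φ hφ
    have h1 : (LinearMap.BilinForm.toMatrix b (B.comp (φ : (Fin n → F) →ₗ[F] (Fin n → F)) φ)).det =
        (LinearMap.BilinForm.toMatrix b B).det := by
      rw [show B.comp (φ : (Fin n → F) →ₗ[F] (Fin n → F)) φ = B from LinearMap.ext₂ fun u v => hφ u v]
    rw [LinearMap.BilinForm.toMatrix_comp b b, Matrix.det_mul, Matrix.det_mul, Matrix.det_transpose,
      LinearMap.det_toMatrix] at h1
    have h0 : (LinearMap.BilinForm.toMatrix b B).det ≠ 0 := (LinearMap.BilinForm.nondegenerate_iff_det_ne_zero b).1 hnd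
    exact mul_right_cancel₀ h0 ((show _ * _ * (LinearMap.BilinForm.toMatrix b B).det = _ by linear_combination h1).trans (one_mul _).symm)
  -- the isometries of determinant one lie in `H`
  let δ : Cfsg.Lib.Linear.Symp.iso B →* Fˣ := (LinearEquiv.det.comp (Cfsg.Lib.Linear.Symp.iso B).subtype)
  have hker : Nat.card δ.ker ∣ Nat.card H := by
    have hdet1 : ∀ φ : δ.ker, (LinearMap.toMatrix' ((φ.1 : (Fin n → F) ≃ₗ[F] (Fin n → F)) : (Fin n → F) →ₗ[F] (Fin n → F))).det = 1 := fun φ => by
      rw [LinearMap.det_toMatrix', ← LinearEquiv.coe_det]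
      exact congrArg Units.val φ.2
    let ψ : δ.ker →* H :=
      { toFun := fun φ => ⟨⟨_, hdet1 φ⟩, ⟨1, fun u v => by
          show f ((LinearMap.toMatrix' _) *ᵥ u) ((LinearMap.toMatrix' _) *ᵥ v) = _
          rw [LinearMap.toMatrix'_mulVec, LinearMap.toMatrix'_mulVec, Units.val_one, one_mul]
          exact φ.1.2 u v⟩⟩
        map_one' := Subtype.ext (Subtype.ext (by
          show LinearMap.toMatrix' _ = 1
          exact LinearMap.toMatrix'_id))
        map_mul' := fun φ φ' => Subtype.ext (Subtype.ext (by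
          show LinearMap.toMatrix' _ = LinearMap.toMatrix' _ * LinearMap.toMatrix' _
          rw [← LinearMap.toMatrix'_comp]
          rfl)) }
    refine Subgroup.card_dvd_of_injective ψ fun φ φ' h => ?_
    have h1 := congrArg (fun z : H => ((z : Matrix.SpecialLinearGroup (Fin n) F) : Matrix (Fin n) (Fin n) F)) h
    have h2 := LinearMap.toMatrix'.injective h1
    exact Subtype.ext (Subtype.ext (LinearEquiv.toLinearMap_injective h2))
  have hiso : Nat.card (Cfsg.Lib.Linear.Symp.iso B) ∣ 2 * Nat.card H := by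
    rw [← δ.ker.index_mul_card, Subgroup.index_ker]
    refine Nat.mul_dvd_mul ?_ hker
    have hle : δ.range ≤ Subgroup.zpowers (-1 : Fˣ) := by
      rintro _ ⟨φ, rfl⟩
      have h1 := hdet φ.1 φ.2
      rcases mul_self_eq_one_iff.1 h1 with h | h
      · rw [show δ φ = 1 from Units.ext (by rw [Units.val_one, ← h, ← LinearEquiv.coe_det]; rfl)]
        exact one_mem _
      · rw [show δ φ = -1 from Units.ext (by rw [Units.val_neg, Units.val_one, ← h, ← LinearEquiv.coe_det]; rfl)]
        exact Subgroup.mem_zpowers _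
    refine (Subgroup.card_dvd_of_le hle).trans ?_
    rw [Nat.card_zpowers]
    exact orderOf_dvd_of_pow_eq_one (Units.ext (by simp))
  obtain ⟨k, hk, hcardk⟩ := Cfsg.Lib.Linear.Symp.card_fixer hnd hA n ⊥ (by simp) (by
    exact (Submodule.finrank_le _).trans (by rw [Module.finrank_fin_fun]))
  have hkm : k = m := by
    rw [LinearMap.BilinForm.finrank_orthogonal hnd, finrank_bot, Module.finrank_fin_fun] at hk
    omega
  subst hkm
  have hfix : Nat.card (Cfsg.Lib.Linear.Symp.fixer B ⊥) = Nat.card (Cfsg.Lib.Linear.Symp.iso B) :=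
    Nat.card_congr (Equiv.subtypeEquivRight fun g =>
      ⟨fun h => h.1, fun h => ⟨h, fun x hx => by rw [(Submodule.mem_bot F).1 hx, map_zero]⟩⟩)
  rw [hfix] at hcardk
  have h1 : r * Nat.card (Cfsg.Lib.Linear.Symp.iso B) * (Fintype.card F - 1) ∣
      2 * ((Fintype.card F - 1) * Nat.card (Matrix.SpecialLinearGroup (Fin n) F)) := by
    rw [← H.index_mul_card]
    calc r * Nat.card (Cfsg.Lib.Linear.Symp.iso B) * (Fintype.card F - 1)
        ∣ H.index * (2 * Nat.card H) * (Fintype.card F - 1) := Nat.mul_dvd_mul_right (Nat.mul_dvd_mul hΩ hiso) _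
      _ = _ := by ring
  rw [Cfsg.Lib.Linear.card_SL_mul n (by omega), Finset.prod_congr rfl (fun (i : Fin n) _ => show Fintype.card F ^ n - Fintype.card F ^ (i : ℕ) =
      Fintype.card F ^ (i : ℕ) * (Fintype.card F ^ (n - i) - 1) by
        rw [Nat.mul_sub_one, ← pow_add, Nat.add_sub_cancel' i.2.le]), Finset.prod_mul_distrib,
    show ∏ i : Fin n, (Fintype.card F ^ (n - (i : ℕ)) - 1) = ∏ i ∈ Finset.range n, (Fintype.card F ^ (i + 1) - 1) by
      rw [← Fin.prod_univ_eq_prod_range]
      refine Fintype.prod_equiv Fin.revPerm _ _ fun i => ?_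
      rw [Fin.revPerm_apply, Fin.val_rev]
      congr 2
      omega] at h1
  have hsplit : ∀ (m : ℕ) (h : ℕ → ℕ), ∏ i ∈ Finset.range (2 * m), h (i + 1) =
      (∏ i ∈ Finset.range m, h (2 * i + 1)) * ∏ i ∈ Finset.range m, h (2 * (i + 1)) := by
    intro m h
    induction m with
    | zero => simp
    | succ m ih =>
      rw [show 2 * (m + 1) = 2 * m + 1 + 1 by ring, Finset.prod_range_succ, Finset.prod_range_succ, ih,
        Finset.prod_range_succ _ m, Finset.prod_range_succ _ m, show 2 * (m + 1) = 2 * m + 1 + 1 by ring]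
      ring
  rw [show Finset.range n = Finset.range (2 * k) by rw [hnm], hsplit k (fun i => Fintype.card F ^ i - 1), hcardk] at h1
  obtain ⟨k', rfl⟩ : ∃ k', k = k' + 1 := ⟨k - 1, by omega⟩
  rw [Finset.prod_range_succ' (fun i => Fintype.card F ^ (2 * i + 1) - 1)] at h1
  simp only [mul_zero, zero_add, pow_one] at h1
  have hP : 0 < (∏ i ∈ Finset.range (k' + 1), (Fintype.card F ^ (2 * (i + 1)) - 1)) * (Fintype.card F - 1) := by
    have hq := Fintype.one_lt_card (α := F)
    refine Nat.mul_pos (Finset.prod_pos fun i _ => ?_) (by omega)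
    have : 1 < Fintype.card F ^ (2 * (i + 1)) := Nat.one_lt_pow (by omega) hq
    omega
  obtain ⟨t, ht⟩ := h1
  have h2 : r ∣ 2 * ((∏ i : Fin n, Fintype.card F ^ (i : ℕ)) *
      ∏ i ∈ Finset.range k', (Fintype.card F ^ (2 * (i + 1) + 1) - 1)) := by
    refine ⟨Fintype.card F ^ (k' + 1) ^ 2 * t, Nat.eq_of_mul_eq_mul_right hP ?_⟩
    linear_combination ht
  rcases hr.dvd_mul.1 h2 with h | h
  · exact absurd ((Nat.prime_dvd_prime_iff_eq hr Nat.prime_two).1 h) hr2
  rcases hr.dvd_mul.1 h with h | h
  · rw [Finset.prod_pow_eq_pow_sum] at h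
    exact absurd (hr.dvd_of_dvd_pow h) hrq
  · obtain ⟨i, hi, h⟩ := (hr.prime.dvd_finsetProd_iff _).1 h
    exact ⟨i + 1, by rw [Finset.mem_range] at hi; omega, by omega, h⟩

/-- The unipotent example. -/
theorem bad_unipotent (h2 : (2 : F) ≠ 0) (hn : 3 ≤ n) (g : LinearMap.BilinForm F (Fin n → F)) (hA : g.IsAlt)
    (hnd : ∀ v, (∀ j, g v (Pi.single j 1) = 0) → v = 0) (N : (Fin n → F) →ₗ[F] (Fin n → F))
    (a : Fin n → F) (ha : a ≠ 0) (φ : (Fin n → F) →ₗ[F] F) (hφ : φ ≠ 0) (hN2 : ∀ v, N (N v) = φ v • a) (hNa : N a = 0)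
    (hinv : ∀ u v, g (u + N u) (v + N v) = g u v) : False := by
  have hN3 : ∀ v, N (N (N v)) = 0 := fun v => by rw [hN2 v, map_smul, hNa, smul_zero]
  have hadj : ∀ u v, g (N u) v = g u (- N v + N (N v)) := by
    intro u v
    have h := hinv u (v - N v + N (N v))
    have e : v - N v + N (N v) + N (v - N v + N (N v)) = v := by
      rw [map_add, map_sub, hN3]; abel
    rw [e] at h
    simp only [map_add, map_sub, map_neg, LinearMap.add_apply] at h ⊢
    linear_combination h
  have hself : ∀ u v, g (N (N u)) v = g u (N (N v)) := by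
    intro u v
    rw [hadj, hadj]
    simp only [map_add, map_neg, hN3, map_zero, add_zero, neg_zero, neg_neg]
  have hzero : ∀ v, φ v * g a v = 0 := fun v => by
    have h1 := hself v v
    have h3 : g v (N (N v)) = - g (N (N v)) v := (LinearMap.IsAlt.neg hA _ _).symm
    rw [h3] at h1
    have h4 : (2 : F) * g (N (N v)) v = 0 := by linear_combination h1
    rw [hN2, map_smul, LinearMap.smul_apply, smul_eq_mul] at h4
    exact (mul_eq_zero.1 h4).resolve_left h2
  have hga : g a ≠ 0 := fun h => ha (hnd a fun j => by rw [h]; rfl)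
  obtain ⟨u, hu⟩ : ∃ u, φ u ≠ 0 := by
    by_contra h; push Not at h; exact hφ (LinearMap.ext h)
  obtain ⟨w, hw⟩ : ∃ w, g a w ≠ 0 := by
    by_contra h; push Not at h; exact hga (LinearMap.ext h)
  have hau : g a u = 0 := (mul_eq_zero.1 (hzero u)).resolve_left hu
  have hφw : φ w = 0 := (mul_eq_zero.1 (hzero w)).resolve_right hw
  have := hzero (u + w)
  rw [map_add, map_add, hau, hφw, add_zero, zero_add] at this
  exact (mul_ne_zero hu hw) this

/-- Derangements of odd prime order of PSL_n(q) on the cosets of a symplectic-type subgroup. Here `T = PSL_n(F)` for a field `F` with `q` elements, `n ≥ 4` even, `f` is a nondegenerate alternating form on `F^n`, and `H` is the subgroup of matrices of determinant 1 preserving `f` up to a scalar — a maximal subgroup of type Sp_n(q); Ω is the set of `T`-conjugates of `H` (cosets of `H`), so an element of `T` of prime order `r` (a matrix `x` of determinant 1 with `x^r` scalar, `x` not scalar) fixes a point of Ω when some conjugate of `x` by a matrix of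 determinant 1 preserves `f` up to a scalar. For every odd prime `r` dividing the index of `H`, with `(n, r) ≠ (6, 3)`, there is an element of `T` of order `r` with no conjugate in `H`. (For `n = 6`, `r = 3` this can fail: when `(q − 1)_3 = 3` every element of order 3 is conjugate into `H`.) -/
theorem result {F : Type*} [Field F] [Fintype F] {p : ℕ} [Fact p.Prime] [CharP F p] {q : ℕ} (hq : Fintype.card F = q)
    (n : ℕ) (hn : 4 ≤ n) (he : Even n) (f : (Fin n → F) → (Fin n → F) → F) (hf : Cfsg.Geo.IsSymplecticForm f)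
    (r : ℕ) [Fact r.Prime] (hr2 : r ≠ 2) (hgap : ¬ (n = 6 ∧ r = 3)) (hΩ : r ∣ ((Cfsg.Geo.similarityGroup f).comap (Matrix.SpecialLinearGroup.toGL : Matrix.SpecialLinearGroup (Fin n) F →* GL (Fin n) F)).index) :
    ∃ x : Matrix.SpecialLinearGroup (Fin n) F,
      (∃ z : F, ((x ^ r : Matrix.SpecialLinearGroup (Fin n) F) : Matrix (Fin n) (Fin n) F) = z • (1 : Matrix (Fin n) (Fin n) F)) ∧
      (∀ z : F, (x : Matrix (Fin n) (Fin n) F) ≠ z • (1 : Matrix (Fin n) (Fin n) F)) ∧
      ∀ P : Matrix.SpecialLinearGroup (Fin n) F, P⁻¹ * x * P ∉ ((Cfsg.Geo.similarityGroup f).comap (Matrix.SpecialLinearGroup.toGL : Matrix.SpecialLinearGroup (Fin n) F →* GL (Fin n) F)) := by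
  classical
  subst hq
  obtain ⟨hrP⟩ := (inferInstance : Fact r.Prime)
  obtain ⟨m, hnm⟩ : ∃ m, n = 2 * m := ⟨n / 2, by rw [Nat.even_iff] at he; omega⟩
  have hn0 : 0 < n := by omega
  haveI : Nonempty (Fin n) := ⟨⟨0, hn0⟩⟩
  have hr3 : 3 ≤ r := by have := hrP.two_le; omega
  by_cases hrp : r = p
  · subst hrp
    -- the unipotent element
    let i0 : Fin n := ⟨0, by omega⟩
    let i1 : Fin n := ⟨1, by omega⟩
    let i2 : Fin n := ⟨2, by omega⟩
    have h01 : i0 ≠ i1 := by simp [i0, i1]
    have h02 : i0 ≠ i2 := by simp [i0, i2]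
    have h12 : i1 ≠ i2 := by simp [i1, i2]
    obtain ⟨N, hN⟩ : ∃ N : Matrix (Fin n) (Fin n) F, N = Matrix.single i0 i1 1 + Matrix.single i1 i2 1 := ⟨_, rfl⟩
    have hN2 : N * N = Matrix.single i0 i2 1 := by
      rw [hN]; simp [add_mul, mul_add, h01.symm, h12.symm, h02.symm]
    have hN3 : N ^ 3 = 0 := by
      rw [pow_succ, pow_two, hN2, hN]; simp [mul_add, h02.symm, h12.symm]
    have hNr : N ^ r = 0 := pow_eq_zero_of_le (by omega) hN3
    have hdet : (1 + N).det = 1 := by
      rw [Matrix.det_of_isUpperTriangular]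
      · refine Finset.prod_eq_one fun i _ => ?_
        simp [hN, Matrix.single_apply, Ne.symm h01, Ne.symm h12]
        rw [if_neg, if_neg, add_zero] <;> rintro ⟨rfl, h⟩ <;> simp [i0, i1, i2] at h
      · intro i j hij
        have : j < i := hij
        simp [hN, Matrix.single_apply, Matrix.one_apply, this.ne']
        rw [if_neg, if_neg, add_zero] <;> rintro ⟨rfl, rfl⟩ <;> simp [i0, i1, i2] at this
    let x : Matrix.SpecialLinearGroup (Fin n) F := ⟨1 + N, hdet⟩
    have hxr : (x : Matrix (Fin n) (Fin n) F) ^ r = 1 := by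
      show (1 + N) ^ r = 1
      rw [add_pow_expChar_of_commute (p := r) (h := Commute.one_left N), one_pow, hNr, add_zero]
    refine ⟨x, ⟨1, by rw [Matrix.SpecialLinearGroup.coe_pow, one_smul, hxr]⟩, fun z hz => ?_, fun P hP => ?_⟩
    · have hz' : 1 + N = z • 1 := hz
      have := congrFun (congrFun hz' i0) i1
      simp [hN, Matrix.single_apply, h01, h01.symm, h12] at this
    · obtain ⟨g, hA, hnd, μ, hμ⟩ := pull f hf x P hP
      have hμ1 : μ = 1 := by
        have h1 := mult_pow g hn0 hnd _ μ hμ r hxr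
        have h2 : (μ - 1) ^ r = 0 := by rw [sub_pow_char, one_pow, h1, sub_self]
        exact sub_eq_zero.1 (eq_zero_of_pow_eq_zero h2)
      have h2 : (2 : F) ≠ 0 := by
        intro h
        have : r ∣ 2 := (CharP.cast_eq_zero_iff F r 2).1 (by exact_mod_cast h)
        have := Nat.le_of_dvd (by norm_num) this
        omega
      refine bad_unipotent h2 (by omega) g hA hnd (Matrix.toLin' N) (Pi.single i0 1) (by simp)
        (LinearMap.proj i2) (fun h => by simpa using LinearMap.congr_fun h (Pi.single i2 1)) (fun v => ?_) ?_ (fun u v => ?_)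
      · rw [Matrix.toLin'_apply, Matrix.toLin'_apply, Matrix.mulVec_mulVec, hN2, Matrix.single_mulVec]
        ext j
        simp [Pi.single_apply, Function.update_apply, mul_comm]
      · rw [Matrix.toLin'_apply, hN]
        ext j
        simp [Matrix.single_apply, h01.symm, h02.symm]
      · have h := hμ u v
        rw [hμ1, one_mul, show (x : Matrix (Fin n) (Fin n) F) = 1 + N from rfl, Matrix.add_mulVec, Matrix.add_mulVec,
          Matrix.one_mulVec, Matrix.one_mulVec] at h
        rwa [Matrix.toLin'_apply, Matrix.toLin'_apply]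
  have hrq : ¬ r ∣ Fintype.card F := fun h => by
    obtain ⟨k, -, hk⟩ := FiniteField.card F p
    rw [hk] at h
    exact hrp ((Nat.prime_dvd_prime_iff_eq hrP Fact.out).1 (hrP.dvd_of_dvd_pow h))
  obtain ⟨i, him, hi0, hi⟩ := exists_odd_factor hnm (by omega) f hf hrP hr2 hrq hΩ
  by_cases hr1 : r ∣ Fintype.card F - 1
  · -- a diagonal element
    haveI : Fact r.Prime := ⟨hrP⟩
    obtain ⟨w, hw⟩ := exists_prime_orderOf_dvd_card (G := Fˣ) r (by rwa [Fintype.card_units])
    set ω := (w : F) with hω
    have hωr : ω ^ r = 1 := by rw [hω, ← Units.val_pow_eq_pow_val, ← hw, pow_orderOf_eq_one, Units.val_one]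
    have hne : ∀ k, 0 < k → k < r → ω ^ k ≠ 1 := fun k h0 hk h => by
      have h1 : w ^ k = 1 := Units.ext (by rw [Units.val_pow_eq_pow_val]; exact h)
      have := Nat.le_of_dvd h0 (hw ▸ orderOf_dvd_of_pow_eq_one h1)
      omega
    have hω0 : ω ≠ 0 := w.ne_zero
    have hω1 : ω ≠ 1 := fun h => hne 1 one_pos (by omega) (by rw [pow_one, h])
    have build : ∀ d : Fin n → F, (∀ j, d j ^ r = 1) → ∏ j, d j = 1 → (∃ j k, d j ≠ d k) →
        (∀ g : LinearMap.BilinForm F (Fin n → F), g.IsAlt → (∀ v, (∀ j, g v (Pi.single j 1) = 0) → v = 0) →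
          ∀ μ : F, (∀ j k, g (Pi.single j 1) (Pi.single k 1) ≠ 0 → d j * d k = μ) → False) →
        ∃ x : Matrix.SpecialLinearGroup (Fin n) F,
          (∃ z : F, ((x ^ r : Matrix.SpecialLinearGroup (Fin n) F) : Matrix (Fin n) (Fin n) F) = z • (1 : Matrix (Fin n) (Fin n) F)) ∧
          (∀ z : F, (x : Matrix (Fin n) (Fin n) F) ≠ z • (1 : Matrix (Fin n) (Fin n) F)) ∧
          ∀ P : Matrix.SpecialLinearGroup (Fin n) F, P⁻¹ * x * P ∉ ((Cfsg.Geo.similarityGroup f).comap (Matrix.SpecialLinearGroup.toGL : Matrix.SpecialLinearGroup (Fin n) F →* GL (Fin n) F)) := by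
      rintro d hdr hdp ⟨j, k, hjk⟩ hbad
      let x : Matrix.SpecialLinearGroup (Fin n) F := ⟨Matrix.diagonal d, by rw [Matrix.det_diagonal, hdp]⟩
      refine ⟨x, ⟨1, ?_⟩, fun z hz => ?_, fun P hP => ?_⟩
      · rw [Matrix.SpecialLinearGroup.coe_pow, one_smul]
        show Matrix.diagonal d ^ r = 1
        rw [Matrix.diagonal_pow, show d ^ r = 1 from funext hdr]
        exact Matrix.diagonal_one
      · have hz' : Matrix.diagonal d = z • 1 := hz
        have e1 := congrFun (congrFun hz' j) j
        have e2 := congrFun (congrFun hz' k) k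
        simp at e1 e2
        exact hjk (e1.trans e2.symm)
      · obtain ⟨g, hA, hnd, μ, hμ⟩ := pull f hf _ P hP
        refine hbad g hA hnd μ fun j k hgjk => ?_
        have h := hμ (Pi.single j 1) (Pi.single k 1)
        have key : ∀ j, Matrix.diagonal d *ᵥ Pi.single j 1 = d j • (Pi.single j 1 : Fin n → F) := fun j => by
          ext l; simp [Matrix.mulVec_diagonal, Pi.single_apply]; split_ifs with hl <;> simp [hl]
        change g (Matrix.diagonal d *ᵥ _) (Matrix.diagonal d *ᵥ _) = _ at h
        rw [key, key, map_smul, map_smul, LinearMap.smul_apply, smul_eq_mul, smul_eq_mul, ← mul_assoc, mul_comm (d k) (d j)] at h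
        exact mul_right_cancel₀ hgjk h
    have hcardlt : ∀ b, b ≤ n → (Finset.univ.filter fun j : Fin n => (j : ℕ) < b).card = b := fun b hb => by
      rw [show (Finset.univ.filter fun j : Fin n => (j : ℕ) < b) = (Finset.univ : Finset (Fin b)).map (Fin.castLEEmb hb) by
        ext j; simp only [Finset.mem_filter, Finset.mem_univ, true_and, Finset.mem_map]
        exact ⟨fun h => ⟨⟨j, h⟩, Fin.ext rfl⟩, fun ⟨l, hl⟩ => hl ▸ l.2⟩, Finset.card_map, Finset.card_univ, Fintype.card_fin]
    by_cases hr3' : r = 3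
    · subst hr3'
      let S : Finset (Fin n) := Finset.univ.filter fun j : Fin n => (j : ℕ) < 3
      refine build (fun j => if j ∈ S then ω else 1) (fun j => by split_ifs; exacts [hωr, one_pow _]) ?_
        ⟨⟨0, hn0⟩, ⟨3, by omega⟩, by simp [S, hω1]⟩ fun g hA hnd μ hμ => ?_
      · rw [Finset.prod_ite, Finset.prod_const_one, mul_one, Finset.prod_const, Finset.filter_mem_eq_inter,
          Finset.univ_inter, hcardlt 3 (by omega), hωr]
      by_cases hcross : ∃ a ∈ S, ∃ b, b ∉ S ∧ g (Pi.single a 1) (Pi.single b 1) ≠ 0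
      · obtain ⟨a, ha, b, hb, hab⟩ := hcross
        have hμω : ω = μ := by simpa [if_pos ha, if_neg hb] using hμ a b hab
        have h1 : ∀ a ∈ S, ∀ b, b ∉ Sᶜ → g (Pi.single a 1) (Pi.single b 1) = 0 := fun a ha b hb => by
          rw [Finset.mem_compl, not_not] at hb
          by_contra h
          have := hμ a b h
          rw [if_pos ha, if_pos hb, ← hμω] at this
          exact hω1 (mul_left_cancel₀ hω0 (this.trans (mul_one _).symm))
        have h2 : ∀ a ∈ Sᶜ, ∀ b, b ∉ S → g (Pi.single a 1) (Pi.single b 1) = 0 := fun a ha b hb => by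
          rw [Finset.mem_compl] at ha
          by_contra h
          have := hμ a b h
          rw [if_neg ha, if_neg hb, ← hμω, mul_one] at this
          exact hω1 this.symm
        have e1 := card_le_of_paired g hnd S Sᶜ h1
        have e2 := card_le_of_paired g hnd Sᶜ S h2
        rw [Finset.card_compl, Fintype.card_fin, hcardlt 3 (by omega)] at e1 e2
        omega
      · push Not at hcross
        have := even_closed g hA hnd S hcross
        rw [hcardlt 3 (by omega), Nat.even_iff] at this
        omega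
    · have hr5 : 5 ≤ r := by
        rcases Nat.lt_or_ge r 5 with h | h
        · interval_cases r
          · exact absurd rfl hr3'
          · norm_num at hrP
        · exact h
      obtain ⟨c, hc⟩ : ∃ c : F, c = ω ^ (r - 2) := ⟨_, rfl⟩
      have hc2 : ω ^ 2 * c = 1 := by rw [hc, ← pow_add, show 2 + (r - 2) = r by omega, hωr]
      have hcω : c ≠ ω := fun h => hne 3 (by omega) (by omega) (by rw [h] at hc2; linear_combination hc2)
      have hc1 : c ≠ 1 := fun h => hne 2 (by omega) (by omega) (by rw [h, mul_one] at hc2; exact hc2)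
      refine build (fun j => if (j : ℕ) = 0 then c else if (j : ℕ) < 3 then ω else 1) (fun j => ?_) ?_
        ⟨⟨0, hn0⟩, ⟨3, by omega⟩, by simp [hc1]⟩ fun g hA hnd μ hμ => ?_
      · split_ifs
        · rw [hc, ← pow_mul, mul_comm, pow_mul, hωr, one_pow]
        · exact hωr
        · exact one_pow _
      · rw [← Finset.mul_prod_erase _ _ (Finset.mem_univ (⟨0, hn0⟩ : Fin n)), if_pos rfl,
          Finset.prod_congr rfl (g := fun j : Fin n => if (j : ℕ) < 3 then ω else 1) (fun j hj => by
            rw [if_neg fun h => (Finset.mem_erase.1 hj).1 (Fin.ext h)]),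
          Finset.prod_ite, Finset.prod_const_one, mul_one, Finset.prod_const,
          show (Finset.univ.erase (⟨0, hn0⟩ : Fin n)).filter (fun j : Fin n => (j : ℕ) < 3) =
            (Finset.univ.filter fun j : Fin n => (j : ℕ) < 3).erase ⟨0, hn0⟩ from Finset.filter_erase _ _ _,
          Finset.card_erase_of_mem (by simp), hcardlt 3 (by omega)]
        linear_combination hc2
      let i₀ : Fin n := ⟨0, hn0⟩
      have hd0 : ∀ j : Fin n, (if (j : ℕ) = 0 then c else if (j : ℕ) < 3 then ω else 1) = c → j = i₀ := fun j h => by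
        by_contra hne'
        rw [if_neg fun h => hne' (Fin.ext h)] at h
        split_ifs at h
        · exact hcω h.symm
        · exact hc1 h.symm
      obtain ⟨j, hj⟩ : ∃ j, g (Pi.single i₀ 1) (Pi.single j 1) ≠ 0 := by
        by_contra h
        push Not at h
        have := congrFun (hnd _ h) i₀
        simp at this
      have hji : j ≠ i₀ := fun h => hj (by rw [h]; exact hA _)
      have hμj := hμ i₀ j hj
      rw [if_pos (show (i₀ : ℕ) = 0 from rfl)] at hμj
      obtain ⟨dj, hdj⟩ : ∃ dj, dj = if (j : ℕ) = 0 then c else if (j : ℕ) < 3 then ω else 1 := ⟨_, rfl⟩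
      rw [← hdj] at hμj
      have hdj0 : dj ≠ 0 := by rw [hdj, if_neg fun h => hji (Fin.ext h)]; split_ifs; exacts [hω0, one_ne_zero]
      have hS := card_le_of_paired g hnd
        (Finset.univ.filter fun l : Fin n => (if (l : ℕ) = 0 then c else if (l : ℕ) < 3 then ω else 1) = dj) {i₀}
        fun a ha b hb => by
          rw [Finset.mem_singleton] at hb
          by_contra h
          have h1 := hμ a b h
          rw [(Finset.mem_filter.1 ha).2, ← hμj, mul_comm c dj] at h1
          exact hb (hd0 b (mul_left_cancel₀ hdj0 h1))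
      rw [Finset.card_singleton] at hS
      have hsub : ∀ a b : Fin n, (if (a : ℕ) = 0 then c else if (a : ℕ) < 3 then ω else 1) = dj →
          (if (b : ℕ) = 0 then c else if (b : ℕ) < 3 then ω else 1) = dj → a = b := fun a b ha hb =>
        Finset.card_le_one.1 hS a (by simp [ha]) b (by simp [hb])
      rcases Nat.lt_or_ge (j : ℕ) 3 with hj3 | hj3
      · have hdω : dj = ω := by rw [hdj, if_neg fun h => hji (Fin.ext h), if_pos hj3]
        exact absurd (hsub ⟨1, by omega⟩ ⟨2, by omega⟩ (by simp [hdω]) (by simp [hdω])) (by simp)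
      · have hd1 : dj = 1 := by rw [hdj, if_neg (by omega), if_neg (by omega)]
        rcases Nat.lt_or_ge n 5 with hn5 | hn5
        · rw [hd1, mul_one] at hμj
          have := hnd (Pi.single (⟨1, by omega⟩ : Fin n) 1) fun b => by
            by_contra h
            have h1 := hμ _ b h
            simp only [one_ne_zero, if_false, show (1 : ℕ) < 3 by norm_num, if_true, ← hμj] at h1
            split_ifs at h1
            · exact hω1 ((mul_eq_right₀ (fun hc0 => by simp [hc0] at hc2)).1 h1)
            · exact hne 4 (by omega) (by omega) (by linear_combination (ω ^ 2) * h1 + hc2)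
            · exact hcω (by rw [mul_one] at h1; exact h1.symm)
          have := congrFun this ⟨1, by omega⟩
          simp at this
        · exact absurd (hsub ⟨3, by omega⟩ ⟨4, by omega⟩ (by simp [hd1]) (by simp [hd1])) (by simp)
  · -- an irreducible block of odd dimension
    obtain ⟨e, he'⟩ : ∃ e, e = orderOf (Fintype.card F : ZMod r) := ⟨_, rfl⟩
    have hedvd : e ∣ 2 * i + 1 := by
      rw [he']
      refine orderOf_dvd_of_pow_eq_one ?_
      rw [← Nat.cast_pow, ← Nat.cast_one (R := ZMod r), ← sub_eq_zero, ← Nat.cast_sub (Nat.one_le_pow _ _ Fintype.card_pos)]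
      exact (ZMod.natCast_eq_zero_iff _ _).2 hi
    have heodd : Odd e := (odd_two_mul_add_one i).of_dvd_nat hedvd
    have hen : e ≤ n := (Nat.le_of_dvd (by omega) hedvd).trans (by omega)
    haveI : NeZero e := ⟨fun h => by rw [h] at hedvd; simp at hedvd⟩
    let K := FiniteField.Extension F p e
    let β : Module.Basis (Fin e) F K := (Module.finBasis F K).reindex (finCongr (FiniteField.finrank_extension F p e))
    letI : Fintype K := Fintype.ofFinite K
    have hQ : Fintype.card K = Fintype.card F ^ e := by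
      rw [← Nat.card_eq_fintype_card, FiniteField.natCard_extension, Nat.card_eq_fintype_card]
    haveI : Fact r.Prime := ⟨hrP⟩
    obtain ⟨w, hw⟩ := exists_prime_orderOf_dvd_card (G := Kˣ) r (by
      rw [Fintype.card_units, hQ, ← ZMod.natCast_eq_zero_iff, Nat.cast_sub (Nat.one_le_pow _ _ Fintype.card_pos),
        Nat.cast_pow, Nat.cast_one, he', pow_orderOf_eq_one, sub_self])
    have hwr : (w : K) ^ r = 1 := by rw [← Units.val_pow_eq_pow_val, ← hw, pow_orderOf_eq_one, Units.val_one]
    have hw1 : (w : K) ≠ 1 := fun h => by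
      rw [Units.val_eq_one] at h
      rw [h, orderOf_one] at hw
      omega
    have hroot : ∀ z : F, z ^ r = 1 → z = 1 := fun z hz => by
      by_contra hz1
      refine hr1 ?_
      rw [← orderOf_eq_prime hz hz1]
      exact orderOf_dvd_of_pow_eq_one (FiniteField.pow_card_sub_one_eq_one z fun h => by
        rw [h, zero_pow hrP.ne_zero] at hz; exact zero_ne_one hz)
    obtain ⟨M, hM⟩ : ∃ M, M = Algebra.leftMulMatrix β (w : K) := ⟨_, rfl⟩
    have hMdet : M.det = 1 := by
      rw [hM, ← Algebra.norm_eq_matrix_det]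
      exact hroot _ (by rw [← map_pow, hwr, map_one])
    have hM1 : IsUnit (M - 1) := by
      rw [hM, ← map_one (Algebra.leftMulMatrix β), ← map_sub]
      exact (IsUnit.mk0 _ (sub_ne_zero.2 hw1)).map (Algebra.leftMulMatrix β)
    let E : Fin e ⊕ Fin (n - e) ≃ Fin n := finSumFinEquiv.trans (finCongr (by omega))
    obtain ⟨X, hX⟩ : ∃ X : Matrix (Fin e ⊕ Fin (n - e)) (Fin e ⊕ Fin (n - e)) F, X = Matrix.fromBlocks M 0 0 1 := ⟨_, rfl⟩
    have hXr : X ^ r = 1 := by
      rw [hX, show (Matrix.fromBlocks M 0 0 1 : Matrix (Fin e ⊕ Fin (n - e)) (Fin e ⊕ Fin (n - e)) F) ^ r = Matrix.fromBlocks (M ^ r) 0 0 (1 ^ r) from Matrix.fromBlocks_diagonal_pow M 1 r,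
        one_pow, hM, ← map_pow, hwr, map_one, Matrix.fromBlocks_one]
    have hdet : (Matrix.reindexAlgEquiv F F E X).det = 1 := by
      rw [Matrix.coe_reindexAlgEquiv, Matrix.det_reindex_self, hX, Matrix.det_fromBlocks_zero₂₁, hMdet, Matrix.det_one, one_mul]
    let x : Matrix.SpecialLinearGroup (Fin n) F := ⟨_, hdet⟩
    refine ⟨x, ⟨1, ?_⟩, fun z hz => ?_, fun P hP => ?_⟩
    · rw [Matrix.SpecialLinearGroup.coe_pow, one_smul]
      show (Matrix.reindexAlgEquiv F F E X) ^ r = 1
      rw [← map_pow, hXr, map_one]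
    · have hz' : Matrix.reindexAlgEquiv F F E X = Matrix.reindexAlgEquiv F F E (z • 1) := by
        rw [map_smul, map_one]; exact hz
      have hz1 : X = z • 1 := (Matrix.reindexAlgEquiv F F E).injective hz'
      rw [hX, ← Matrix.fromBlocks_one, Matrix.fromBlocks_smul, Matrix.fromBlocks_inj] at hz1
      have hne' : 0 < e := Nat.pos_of_ne_zero (NeZero.ne e)
      have hz2 : z = 1 := hroot z (by
        have h1 := congrArg (fun A => A ^ r) hz1.1
        simp only [hM, ← map_pow, hwr, map_one, _root_.smul_pow, one_pow] at h1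
        simpa using (congrFun (congrFun h1 ⟨0, hne'⟩) ⟨0, hne'⟩).symm)
      rw [hz2, one_smul] at hz1
      have : M - 1 = 0 := by rw [hz1.1, sub_self]
      rw [this] at hM1
      haveI : Nonempty (Fin e) := ⟨⟨0, hne'⟩⟩
      exact not_isUnit_zero hM1
    · obtain ⟨g, hA, hnd, μ, hμ⟩ := pull f hf _ P hP
      have hμ1 : μ = 1 := hroot μ (mult_pow g hn0 hnd _ μ hμ r (by
        show (Matrix.reindexAlgEquiv F F E X) ^ r = 1
        rw [← map_pow, hXr, map_one]))
      obtain ⟨Mi, hMi⟩ := hM1.exists_right_inv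
      have hact : ∀ u, Matrix.reindexAlgEquiv F F E X *ᵥ u = (Sum.elim (M *ᵥ (u ∘ E ∘ Sum.inl)) (u ∘ E ∘ Sum.inr)) ∘ E.symm := fun u => by
        rw [Matrix.coe_reindexAlgEquiv, Matrix.reindex_apply, Matrix.submatrix_mulVec_equiv, hX, Equiv.symm_symm,
          Matrix.fromBlocks_mulVec]
        simp [Function.comp_assoc]
      let S : Finset (Fin n) := Finset.univ.filter fun j : Fin n => (j : ℕ) < e
      have hcross : ∀ a ∈ S, ∀ b, b ∉ S → g (Pi.single a 1) (Pi.single b 1) = 0 := by
        intro a ha b hb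
        obtain ⟨l, rfl⟩ : ∃ l, E (Sum.inl l) = a := ⟨⟨a, by simpa [S] using ha⟩, Fin.ext (by simp [E])⟩
        obtain ⟨l', rfl⟩ : ∃ l', E (Sum.inr l') = b := by
          have hb' : e ≤ (b : ℕ) := by simpa [S] using hb
          exact ⟨⟨b - e, by omega⟩, Fin.ext (by simp [E]; omega)⟩
        let u : Fin n → F := Sum.elim (Mi *ᵥ Pi.single l 1) (0 : Fin (n - e) → F) ∘ E.symm
        have hu : Matrix.reindexAlgEquiv F F E X *ᵥ u = u + Pi.single (E (Sum.inl l)) 1 := by
          rw [hact]
          funext t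
          obtain ⟨t, rfl⟩ := E.surjective t
          rcases t with t | t
          · have h3 : (M - 1) *ᵥ (Mi *ᵥ Pi.single l 1) = Pi.single l 1 := by rw [Matrix.mulVec_mulVec, hMi, Matrix.one_mulVec]
            rw [Matrix.sub_mulVec, Matrix.one_mulVec, sub_eq_iff_eq_add] at h3
            have h4 := congrFun h3 t
            simp [u, Function.comp_def, Pi.single_apply] at h4 ⊢
            exact h4.trans (add_comm _ _)
          · simp [u, Function.comp_def, Pi.single_apply]
        have hv : Matrix.reindexAlgEquiv F F E X *ᵥ Pi.single (E (Sum.inr l')) 1 = Pi.single (E (Sum.inr l')) 1 := by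
          rw [hact]
          funext t
          obtain ⟨t, rfl⟩ := E.surjective t
          rcases t with t | t
          · simp [Function.comp_def, Pi.single_apply, Matrix.mulVec, dotProduct]
          · simp [Function.comp_def]
        have h := hμ u (Pi.single (E (Sum.inr l')) 1)
        change g (Matrix.reindexAlgEquiv F F E X *ᵥ u) (Matrix.reindexAlgEquiv F F E X *ᵥ _) = _ at h
        rw [hu, hv, hμ1, one_mul, map_add, LinearMap.add_apply] at h
        linear_combination h
      have := even_closed g hA hnd S hcross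
      rw [show S.card = e from by
        rw [show S = (Finset.univ : Finset (Fin e)).map (Fin.castLEEmb hen) by
          ext j; simp only [S, Finset.mem_filter, Finset.mem_univ, true_and, Finset.mem_map]
          exact ⟨fun h => ⟨⟨j, h⟩, Fin.ext rfl⟩, fun ⟨l, hl⟩ => hl ▸ l.2⟩, Finset.card_map, Finset.card_univ, Fintype.card_fin]] at this
      rw [Nat.even_iff] at this
      rw [Nat.odd_iff] at heodd
      omega

end Cfsg.Agent.S5968
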