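import Cfsg.Statements.S5981
import Cfsg.Agent.Lib.Linear.FormClass.Common
import Cfsg.Agent.Lib.Linear.AutPSL.GraphOdd
import Cfsg.Agent.Lib.Linear.OrthOrderStd
import Cfsg.Agent.Lib.Linear.IsotropicFix.OrthTypes
import Cfsg.Agent.S5957
import Cfsg.Agent.S5968
-- import your own Cfsg.Agent.* helpers here

set_option autoImplicit false
open scoped MatrixGroups
open Cfsg

namespace Cfsg.Agent.S5981

open Cfsg.Lib.Linear.FormClass Cfsg.Lib.Linear.AutPSL.GForms Cfsg.Agent.Lib.Linear.PrimeClasses
open Cfsg.Lib.Linear.IsoFix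
open scoped Matrix

section Aux

variable {F : Type*} [Field F] {n : ℕ}

local notation "GLn" => GL (Fin n) F
local notation "Mn" => Matrix (Fin n) (Fin n) F

theorem exists_gram {Q : (Fin n → F) → F} (hQ : Cfsg.Geo.IsNondegenerateQuadraticForm Q) :
    ∃ M : Mn, M.transpose = M ∧ M.det ≠ 0 ∧ ∀ v, v ⬝ᵥ (M *ᵥ v) = 2 * Q v := by
  obtain ⟨hs, hb, hnd⟩ := hQ
  let B : LinearMap.BilinForm F (Fin n → F) := LinearMap.mk₂ F (QuadraticMap.polar Q) hb.add_left
    (fun a x v => hb.smul_left a x v) (fun v x y => hb.add_right v x y) (fun a v x => hb.smul_right a v x)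
  obtain ⟨M, hM⟩ : ∃ M, M = LinearMap.BilinForm.toMatrix' B := ⟨_, rfl⟩
  have hB : ∀ u v, B u v = u ⬝ᵥ (M *ᵥ v) := fun u v => by
    rw [← Matrix.toBilin'_apply', hM, Matrix.toBilin'_toMatrix']
  refine ⟨M, ?_, fun h => ?_, fun v => ?_⟩
  · rw [hM]; ext i j
    rw [Matrix.transpose_apply, LinearMap.BilinForm.toMatrix'_apply, LinearMap.BilinForm.toMatrix'_apply]
    exact QuadraticMap.polar_comm Q _ _
  · obtain ⟨v, hv, hv0⟩ := Matrix.exists_vecMul_eq_zero_iff.2 h
    obtain ⟨-, w, hw⟩ := hnd v hv
    refine hw ?_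
    show B v w = 0
    rw [hB, Matrix.dotProduct_mulVec, hv0, zero_dotProduct]
  · rw [← hB]
    show Q (v + v) - Q v - Q v = _
    rw [← two_smul F v, hs]
    ring

/-- A conjugate among the similitudes gives an invariant symmetric form. -/
theorem pull (h2 : (2 : F) ≠ 0) {Q : (Fin n → F) → F} {M : Mn} (hs : M.transpose = M) (hd : M.det ≠ 0)
    (hQ : ∀ v, v ⬝ᵥ (M *ᵥ v) = 2 * Q v) {x g : GLn} (h : g⁻¹ * x * g ∈ Cfsg.Geo.quadSimilarityGroup Q) :
    ∃ (G : Mn) (μ : F), G.transpose = G ∧ G.det ≠ 0 ∧ IsSquare (G.det * M.det) ∧ x.val.transpose * G * x.val = μ • G := by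
  obtain ⟨c, hc⟩ := (mem_sim_iff h2 hs hQ _).1 h
  obtain ⟨h', hh'⟩ : ∃ h' : GLn, h' = g⁻¹ := ⟨_, rfl⟩
  obtain ⟨y, hy⟩ : ∃ y : GLn, y = g⁻¹ * x * g := ⟨_, rfl⟩
  rw [← hy] at hc
  have e : y.val * h'.val = h'.val * x.val := by
    rw [← Units.val_mul, ← Units.val_mul]
    exact congrArg Units.val (by rw [hy, hh', mul_inv_cancel_right])
  refine ⟨h'.val.transpose * M * h'.val, c, self_transpose_congr hs _, ?_, ⟨h'.val.det * M.det, by rw [det_congr]; ring⟩, ?_⟩
  · rw [det_congr]; exact mul_ne_zero (pow_ne_zero _ (Matrix.GeneralLinearGroup.det h').ne_zero) hd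
  · calc x.val.transpose * (h'.val.transpose * M * h'.val) * x.val
        = (h'.val * x.val).transpose * M * (h'.val * x.val) := by rw [Matrix.transpose_mul]; simp only [mul_assoc]
      _ = h'.val.transpose * (y.val.transpose * M * y.val) * h'.val := by
          rw [← e, Matrix.transpose_mul]; simp only [mul_assoc]
      _ = _ := by rw [hc, Matrix.mul_smul, Matrix.smul_mul]

/-- An invariant symmetric form of the right class gives a conjugate among the similitudes. -/
theorem into [Finite F] (h2 : (2 : F) ≠ 0) {Q : (Fin n → F) → F} {M : Mn} (hs : M.transpose = M) (hd : M.det ≠ 0)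
    (hQ : ∀ v, v ⬝ᵥ (M *ᵥ v) = 2 * Q v) (x P : GLn) (A G : Mn) (hP : x.val * P.val = P.val * A)
    (hGs : G.transpose = G) (hGd : G.det ≠ 0) (hcls : Odd n ∨ IsSquare (G.det * M.det)) {μ : F} (hμ : μ ≠ 0)
    (hA : A.transpose * G * A = μ • G) : ∃ g : GLn, g⁻¹ * x * g ∈ Cfsg.Geo.quadSimilarityGroup Q := by
  obtain ⟨k, hk, hk2⟩ : ∃ k : F, k ≠ 0 ∧ IsSquare ((k • G).det * M.det) := by
    rcases hcls with ho | hsq
    · obtain ⟨m, rfl⟩ := ho
      exact ⟨G.det * M.det, mul_ne_zero hGd hd, (G.det * M.det) ^ (m + 1), by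
        rw [Matrix.det_smul, Fintype.card_fin]; ring⟩
    · exact ⟨1, one_ne_zero, by rwa [one_smul]⟩
  obtain ⟨C, hC⟩ := congr_of_det h2 (M := k • G) (M' := M) (by rw [Matrix.transpose_smul, hGs]) hs
    (by rw [Matrix.det_smul]; exact mul_ne_zero (pow_ne_zero _ hk) hGd) hd hk2
  refine ⟨P * C, (mem_sim_iff h2 hs hQ _).2 ⟨Units.mk0 μ hμ, ?_⟩⟩
  obtain ⟨y, hy⟩ : ∃ y : GLn, y = (P * C)⁻¹ * x * (P * C) := ⟨_, rfl⟩
  rw [← hy]
  have e : C.val * y.val = A * C.val := by
    have h1 : P.val * (C.val * y.val) = P.val * (A * C.val) := by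
      rw [← mul_assoc P.val A, ← hP]
      have h3 := congrArg Units.val (show P * (C * y) = x * P * C by rw [hy]; group)
      simpa only [Units.val_mul] using h3
    calc C.val * y.val = (P⁻¹).val * (P.val * (C.val * y.val)) := by rw [← mul_assoc, Units.inv_mul, one_mul]
      _ = _ := by rw [h1, ← mul_assoc, Units.inv_mul, one_mul]
  calc y.val.transpose * M * y.val
      = (C.val * y.val).transpose * (k • G) * (C.val * y.val) := by
        rw [← hC, Matrix.transpose_mul]; simp only [mul_assoc]
    _ = C.val.transpose * (k • (A.transpose * G * A)) * C.val := by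
        rw [e, Matrix.transpose_mul]
        simp only [mul_assoc, Matrix.mul_smul, Matrix.smul_mul]
    _ = _ := by rw [hA, smul_comm k μ, Matrix.mul_smul, Matrix.smul_mul, hC, Units.val_mk0]

theorem mult_pow_one (hn : 0 < n) {x G : Mn} {μ : F} (h : x.transpose * G * x = μ • G) (hG : G.det ≠ 0) {r : ℕ}
    (hx : x ^ r = 1) : μ ^ r = 1 := by
  have hp : ∀ k, (x ^ k).transpose * G * x ^ k = μ ^ k • G := by
    intro k
    induction k with
    | zero => simp
    | succ k ih =>
      calc (x ^ (k + 1)).transpose * G * x ^ (k + 1) = x.transpose * ((x ^ k).transpose * G * x ^ k) * x := by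
            rw [pow_succ, Matrix.transpose_mul]; simp only [mul_assoc]
        _ = _ := by rw [ih, Matrix.mul_smul, Matrix.smul_mul, h, smul_smul, pow_succ]
  have h1 := hp r
  rw [hx, Matrix.transpose_one, one_mul, mul_one] at h1
  have hG0 : G ≠ 0 := fun h0 => hG (by haveI : Nonempty (Fin n) := ⟨⟨0, hn⟩⟩; rw [h0]; exact Matrix.det_zero)
  exact smul_left_injective F hG0 (show μ ^ r • G = (1 : F) • G by rw [← h1, one_smul])

/-- Two eigenvalues with multiplicities of their own and different squares. -/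
theorem diag_bad [DecidableEq F] {d : Fin n → F} {G : Mn} (hG : G.det ≠ 0) {μ : F} (hμ : μ ≠ 0)
    (h : (Matrix.diagonal d).transpose * G * Matrix.diagonal d = μ • G) {a b : Fin n} (hab : d a ^ 2 ≠ d b ^ 2)
    (ha : ∀ j, (Finset.univ.filter fun l => d l = d j).card = (Finset.univ.filter fun l => d l = d a).card → d j = d a)
    (hb : ∀ j, (Finset.univ.filter fun l => d l = d j).card = (Finset.univ.filter fun l => d l = d b).card → d j = d b) :
    False := by
  have hnd : ∀ v, (∀ j, Matrix.toBilin' G v (Pi.single j 1) = 0) → v = 0 := fun v hv =>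
    (Matrix.Nondegenerate.toBilin' (Matrix.nondegenerate_of_det_ne_zero hG)).1 v fun w => by
      have h0 : Matrix.toBilin' G v = 0 := (Pi.basisFun F (Fin n)).ext fun j => by rw [Pi.basisFun_apply]; exact hv j
      rw [h0]; rfl
  have hij : ∀ i j, Matrix.toBilin' G (Pi.single i 1) (Pi.single j 1) ≠ 0 → d i * d j = μ := fun i j hne => by
    rw [Matrix.toBilin'_single] at hne
    have e := congrFun (congrFun h i) j
    rw [Matrix.diagonal_transpose, Matrix.mul_diagonal, Matrix.diagonal_mul, Matrix.smul_apply, smul_eq_mul] at e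
    exact mul_right_cancel₀ hne (by linear_combination e)
  have key : ∀ a, (∀ j, (Finset.univ.filter fun l => d l = d j).card = (Finset.univ.filter fun l => d l = d a).card →
      d j = d a) → d a ^ 2 = μ := by
    intro a ha
    obtain ⟨j, hj⟩ : ∃ j, Matrix.toBilin' G (Pi.single a 1) (Pi.single j 1) ≠ 0 := by
      by_contra hc
      push Not at hc
      simpa using congrFun (hnd _ hc) a
    have hμj := hij a j hj
    have hda : d a ≠ 0 := fun h0 => hμ (by rw [← hμj, h0, zero_mul])
    have hdj : d j ≠ 0 := fun h0 => hμ (by rw [← hμj, h0, mul_zero])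
    have h1 := Cfsg.Agent.S5968.card_le_of_paired (Matrix.toBilin' G) hnd (Finset.univ.filter fun l => d l = d a)
      (Finset.univ.filter fun l => d l = d j) fun i hi l hl => by
        by_contra hc
        refine hl (Finset.mem_filter.2 ⟨Finset.mem_univ _, mul_left_cancel₀ hda ?_⟩)
        rw [hμj, ← (Finset.mem_filter.1 hi).2]
        exact hij i l hc
    have h2 := Cfsg.Agent.S5968.card_le_of_paired (Matrix.toBilin' G) hnd (Finset.univ.filter fun l => d l = d j)
      (Finset.univ.filter fun l => d l = d a) fun i hi l hl => by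
        by_contra hc
        refine hl (Finset.mem_filter.2 ⟨Finset.mem_univ _, mul_left_cancel₀ hdj ?_⟩)
        rw [mul_comm (d j) (d a), hμj, ← (Finset.mem_filter.1 hi).2]
        exact hij i l hc
    rw [pow_two]
    conv_lhs => arg 2; rw [← ha j (le_antisymm h2 h1)]
    exact hμj
  exact hab ((key a ha).trans (key b hb).symm)

/-- A transvection preserves no non-degenerate symmetric form. -/
theorem transvection_bad (h2 : (2 : F) ≠ 0) {i j : Fin n} (hij : i ≠ j) {G : Mn} (hs : G.transpose = G) (hG : G.det ≠ 0)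
    (h : (Matrix.transvection i j (1 : F)).transpose * G * Matrix.transvection i j (1 : F) = G) : False := by
  refine hG (Matrix.det_eq_zero_of_column_eq_zero i fun a => ?_)
  have hsym : ∀ a b, G a b = G b a := fun a b => by rw [← Matrix.transpose_apply G b a, hs]
  have ht : (Matrix.transvection i j (1 : F)).transpose = Matrix.transvection j i (1 : F) := by
    simp [Matrix.transvection, Matrix.transpose_add, Matrix.transpose_single]
  rw [ht] at h
  rcases eq_or_ne a j with rfl | ha
  · have hi0 : G i i = 0 := by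
      have e := congrFun (congrFun h i) a
      rw [Matrix.mul_transvection_apply_same, Matrix.transvection_mul_apply_of_ne (ha := hij),
        Matrix.transvection_mul_apply_of_ne (ha := hij)] at e
      linear_combination e
    have e := congrFun (congrFun h a) a
    rw [Matrix.mul_transvection_apply_same, Matrix.transvection_mul_apply_same, Matrix.transvection_mul_apply_same,
      hsym i a, hi0] at e
    exact (mul_eq_zero.1 (show (2 : F) * G a i = 0 by linear_combination e)).resolve_left h2
  · have e := congrFun (congrFun h a) j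
    rw [Matrix.mul_transvection_apply_same, Matrix.transvection_mul_apply_of_ne (ha := ha),
      Matrix.transvection_mul_apply_of_ne (ha := ha)] at e
    linear_combination e

/-- Matrices with scalar square keep symmetric forms of both classes up to that scalar. -/
theorem exists_form_two [Finite F] (hn : 0 < n) (x : GLn) {z : F} (hz : z ≠ 0) (hx : x.val * x.val = z • 1) {δ : F} (hδ : δ ≠ 0) :
    ∃ (P : GLn) (A G : Mn), x.val * P.val = P.val * A ∧ G.transpose = G ∧ G.det = δ ∧ A.transpose * G * A = z • G := by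
  classical
  obtain ⟨r, s, b, c, hp, hs⟩ := Cfsg.Agent.S5957.exists_normal_basis (Matrix.toLin' x.val) z hz (fun v => by
    rw [Matrix.toLin'_apply, Matrix.toLin'_apply, Matrix.mulVec_mulVec, hx, Matrix.smul_mulVec, Matrix.one_mulVec])
  have hc : ∀ l, c l * c l = z := fun l => by
    have h1 := congrArg (fun T : Mn => T *ᵥ b (.inr l)) hx
    simp only [← Matrix.mulVec_mulVec, Matrix.smul_mulVec, Matrix.one_mulVec] at h1
    rw [← Matrix.toLin'_apply, ← Matrix.toLin'_apply, hs, map_smul, hs, smul_smul] at h1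
    exact smul_left_injective F (b.ne_zero _) h1
  let blk : F → Matrix (Fin 2) (Fin 2) F := fun e =>
    !![(Cfsg.Lib.Linear.SquareScalar.exists_quad hz (-e)).choose_spec.choose, (Cfsg.Lib.Linear.SquareScalar.exists_quad hz (-e)).choose;
      (Cfsg.Lib.Linear.SquareScalar.exists_quad hz (-e)).choose, z * (Cfsg.Lib.Linear.SquareScalar.exists_quad hz (-e)).choose_spec.choose]
  have hblk : ∀ e, (blk e).transpose = blk e ∧ (blk e).det = e ∧
      (!![0, z; 1, 0] : Matrix (Fin 2) (Fin 2) F).transpose * blk e * !![0, z; 1, 0] = z • blk e := fun e => by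
    have hsp := (Cfsg.Lib.Linear.SquareScalar.exists_quad hz (-e)).choose_spec.choose_spec
    refine ⟨?_, ?_, ?_⟩
    · ext i j; fin_cases i <;> fin_cases j <;> simp [blk]
    · simp only [blk, Matrix.det_fin_two_of]; linear_combination -hsp
    · ext i j; fin_cases i <;> fin_cases j <;> simp [blk, Matrix.mul_apply, Fin.sum_univ_two] <;> ring
  let K : Matrix ((Fin 2 × Fin r) ⊕ Fin s) ((Fin 2 × Fin r) ⊕ Fin s) F :=
    Matrix.fromBlocks (Matrix.blockDiagonal fun _ : Fin r => (!![0, z; 1, 0] : Matrix (Fin 2) (Fin 2) F)) 0 0 (Matrix.diagonal c)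
  let w1 : Fin r → F := fun p => if (p : ℕ) = 0 then δ else 1
  let w2 : Fin s → F := fun l => if (l : ℕ) = 0 ∧ r = 0 then δ else 1
  let N : Matrix ((Fin 2 × Fin r) ⊕ Fin s) ((Fin 2 × Fin r) ⊕ Fin s) F :=
    Matrix.fromBlocks (Matrix.blockDiagonal fun p : Fin r => blk (w1 p)) 0 0 (Matrix.diagonal w2)
  have hNs : N.transpose = N := by
    simp only [N, Matrix.fromBlocks_transpose, Matrix.blockDiagonal_transpose, Matrix.diagonal_transpose, Matrix.transpose_zero, (hblk _).1]
  have hKN : K.transpose * N * K = z • N := by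
    simp only [K, N, Matrix.fromBlocks_transpose, Matrix.blockDiagonal_transpose, Matrix.diagonal_transpose, Matrix.transpose_zero,
      Matrix.fromBlocks_multiply, Matrix.mul_zero, Matrix.zero_mul, add_zero, zero_add, Matrix.fromBlocks_smul, smul_zero,
      Matrix.diagonal_mul_diagonal, ← Matrix.blockDiagonal_mul, ← Matrix.blockDiagonal_smul, ← Matrix.diagonal_smul, (hblk _).2.2]
    congr 1
    exact congrArg _ (funext fun l => by simp only [Pi.smul_apply, smul_eq_mul]; rw [← hc l]; ring)
  have hNd : N.det = δ := by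
    simp only [N, Matrix.det_fromBlocks_zero₂₁, Matrix.det_blockDiagonal, (hblk _).2.1, Matrix.det_diagonal]
    rcases Nat.eq_zero_or_pos r with rfl | hr
    · have hs0 : 0 < s := by
        have := Module.finrank_eq_card_basis b
        simp only [Module.finrank_fin_fun, Fintype.card_sum, Fintype.card_prod, Fintype.card_fin] at this
        omega
      rw [Finset.univ_eq_empty, Finset.prod_empty, one_mul, Finset.prod_eq_single (⟨0, hs0⟩ : Fin s)
        (fun l _ hl => if_neg fun h => hl (Fin.ext h.1)) (by simp)]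
      exact if_pos ⟨rfl, rfl⟩
    · rw [Finset.prod_eq_single (⟨0, hr⟩ : Fin r) (fun l _ hl => if_neg fun h => hl (Fin.ext h)) (by simp),
        Finset.prod_eq_one (s := (Finset.univ : Finset (Fin s))) fun l _ => if_neg fun h => by omega, mul_one]
      exact if_pos rfl
  let b' := b.reindex (Equiv.sumCongr (Equiv.prodComm (Fin r) (Fin 2)) (Equiv.refl (Fin s)))
  have hb' : ∀ t, x.val *ᵥ b' t = ∑ t', K t' t • b' t' := by
    intro t
    rw [← Matrix.toLin'_apply]
    rcases t with ⟨i, p⟩ | l
    · rw [Fintype.sum_sum_type, Fintype.sum_prod_type_right, Finset.sum_eq_single p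
        (fun p' _ hp' => by simp [K, Matrix.blockDiagonal_apply_ne _ _ _ hp']) (by simp), Fin.sum_univ_two]
      rcases Fin.exists_fin_two.1 ⟨i, rfl⟩ with rfl | rfl <;> simp [b', K, (hp p).1, (hp p).2]
    · rw [Fintype.sum_sum_type, Finset.sum_eq_single l (fun l' _ hl' => by simp [K, Matrix.diagonal_apply_ne _ hl'])
        (by simp)]
      simp [b', K, hs]
  have hcard : Fintype.card ((Fin 2 × Fin r) ⊕ Fin s) = Fintype.card (Fin n) := by
    rw [← Module.finrank_eq_card_basis b', Module.finrank_fin_fun, Fintype.card_fin]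
  let E := Fintype.equivOfCardEq hcard
  let β := b'.reindex E
  let P : Mn := Matrix.of fun a j => β j a
  have hPd : P.det ≠ 0 := by
    have h1 : P = (Pi.basisFun F (Fin n)).toMatrix β := by ext a j; simp [P, Module.Basis.toMatrix_apply]
    rw [h1]
    haveI := (Pi.basisFun F (Fin n)).invertibleToMatrix β
    exact (Matrix.isUnit_det_of_invertible _).ne_zero
  refine ⟨Matrix.GeneralLinearGroup.mkOfDetNeZero P hPd, Matrix.reindex E E K, Matrix.reindex E E N, ?_, ?_, ?_, ?_⟩
  · ext a j
    show (x.val * P) a j = (P * Matrix.reindex E E K) a j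
    have h1 := congrFun (hb' (E.symm j)) a
    rw [Finset.sum_apply] at h1
    simp only [Pi.smul_apply, smul_eq_mul, Matrix.mulVec, dotProduct] at h1
    simp only [Matrix.mul_apply, P, β, Matrix.of_apply, Module.Basis.reindex_apply, Matrix.reindex_apply, Matrix.submatrix_apply]
    rw [h1]
    exact Fintype.sum_equiv E _ _ fun t => by simp [mul_comm]
  · rw [Matrix.transpose_reindex, hNs]
  · rw [Matrix.det_reindex_self, hNd]
  · rw [Matrix.transpose_reindex, ← rix_mul, ← rix_mul, hKN, rix_smul]

/-- Reversal-invariant multiplicities give an invariant form. -/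
theorem exists_form_sym {r : ℕ} [Fact r.Prime] {w : F} (hw : IsPrimitiveRoot w r) (e : Fin n → ZMod r) {c : ZMod r}
    (hc : ∀ x, Fintype.card {j // e j = c - x} = Fintype.card {j // e j = x}) :
    ∃ G : Mn, G.transpose = G ∧ G.det ≠ 0 ∧
      (Matrix.diagonal fun j => zp w (e j)).transpose * G * (Matrix.diagonal fun j => zp w (e j)) = zp w c • G := by
  classical
  let f : ZMod r → ℕ := fun x => Fintype.card {j // e j = x}
  let E : Fin n ≃ Σ x, Fin (f x) :=
    (Equiv.sigmaFiberEquiv e).symm.trans (Equiv.sigmaCongrRight fun x => Fintype.equivFin _)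
  have hE : ∀ j, (E j).1 = e j := fun j => rfl
  let τ : (Σ x, Fin (f x)) → Σ x, Fin (f x) := fun a => ⟨c - a.1, Fin.cast (hc a.1).symm a.2⟩
  have hτ : Function.Involutive τ := fun a => by
    rcases a with ⟨x, i⟩
    refine Sigma.ext (sub_sub_cancel c x) ?_
    refine (Fin.heq_ext_iff (congrArg f (sub_sub_cancel c x))).2 ?_
    rfl
  let σ : Equiv.Perm (Fin n) := (E.trans hτ.toPerm).trans E.symm
  have hσ : ∀ i, σ (σ i) = i := fun i => by simp [σ, hτ _]
  have hσe : ∀ i, e i + e (σ i) = c := fun i => by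
    rw [← hE i, ← hE (σ i)]
    simp [σ, τ]
  refine ⟨σ.permMatrix F, ?_, ?_, ?_⟩
  · rw [Matrix.transpose_permMatrix]
    congr 1
  · rw [Matrix.det_permutation]
    rcases Int.units_eq_one_or (Equiv.Perm.sign σ) with h | h <;> simp [h]
  · ext i j
    rw [Matrix.diagonal_transpose, Matrix.mul_diagonal, Matrix.diagonal_mul, Matrix.smul_apply, smul_eq_mul]
    simp only [Equiv.Perm.permMatrix, PEquiv.toMatrix_apply, Equiv.toPEquiv_apply, Option.mem_some_iff]
    split_ifs with h
    · rw [← h, mul_one, mul_one, ← zp_add hw, hσe]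
    · ring

theorem sym_three (a b d : ℕ) (h : a + b + d = 3) (hw : (b + 2 * d) % 3 = 0) :
    (b = d) ∨ (a = b) ∨ (a = d) := by omega

theorem exists_center_three (f : ZMod 3 → ℕ) (h : ∑ x, f x = 3) (hw : ∑ x, (f x : ZMod 3) * x = 0) :
    ∃ c, ∀ x, f (c - x) = f x := by
  change f 0 + (f 1 + (f 2 + 0)) = 3 at h
  change (f 0 : ZMod 3) * 0 + ((f 1 : ZMod 3) * 1 + ((f 2 : ZMod 3) * 2 + 0)) = 0 at hw
  have hm : (f 1 + 2 * f 2) % 3 = 0 := by
    have h1 : ((f 1 + 2 * f 2 : ℕ) : ZMod 3) = 0 := by push_cast; linear_combination hw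
    exact Nat.dvd_iff_mod_eq_zero.1 ((ZMod.natCast_eq_zero_iff _ _).1 h1)
  rcases sym_three (f 0) (f 1) (f 2) (by omega) hm with e | e | e
  · exact ⟨0, fun x => by fin_cases x <;> first | rfl | exact e | exact e.symm⟩
  · exact ⟨1, fun x => by fin_cases x <;> first | rfl | exact e | exact e.symm⟩
  · exact ⟨2, fun x => by fin_cases x <;> first | rfl | exact e | exact e.symm⟩

/-- The five symmetries of a multiplicity vector. -/
def sym5 (a b c d e : ℕ) : Bool :=
  (b == e && c == d) || (a == b && c == e) || (a == c && d == e) || (a == d && b == c) || (a == e && b == d)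

theorem sym_five : ∀ a b c d : Fin 6, (a : ℕ) + b + c + d ≤ 5 →
    (b + 2 * c + 3 * d + 4 * (5 - (a + b + c + d : ℕ)) : ℕ) % 5 = 0 →
      sym5 a b c d (5 - ((a : ℕ) + b + c + d)) = true := by decide +kernel

theorem exists_center_five [Fact (Nat.Prime 5)] (f : ZMod 5 → ℕ) (h : ∑ x, f x = 5) (hw : ∑ x, (f x : ZMod 5) * x = 0) :
    ∃ c, ∀ x, f (c - x) = f x := by
  change f 0 + (f 1 + (f 2 + (f 3 + (f 4 + 0)))) = 5 at h
  change (f 0 : ZMod 5) * 0 + ((f 1 : ZMod 5) * 1 + ((f 2 : ZMod 5) * 2 + ((f 3 : ZMod 5) * 3 + ((f 4 : ZMod 5) * 4 + 0)))) = 0 at hw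
  have hm : (f 1 + 2 * f 2 + 3 * f 3 + 4 * f 4) % 5 = 0 := by
    have h1 : ((f 1 + 2 * f 2 + 3 * f 3 + 4 * f 4 : ℕ) : ZMod 5) = 0 := by push_cast; linear_combination hw
    exact Nat.dvd_iff_mod_eq_zero.1 ((ZMod.natCast_eq_zero_iff _ _).1 h1)
  have hs := sym_five ⟨f 0, by omega⟩ ⟨f 1, by omega⟩ ⟨f 2, by omega⟩ ⟨f 3, by omega⟩ (by simp only; omega)
    (by simp only; rw [show 5 - (f 0 + f 1 + f 2 + f 3) = f 4 by omega]; exact hm)
  rw [show 5 - ((f 0 : ℕ) + f 1 + f 2 + f 3) = f 4 by omega] at hs
  simp only [sym5, Bool.or_eq_true, Bool.and_eq_true, beq_iff_eq] at hs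
  rcases hs with (((e | e) | e) | e) | e <;> obtain ⟨e1, e2⟩ := e
  · exact ⟨0, fun x => by fin_cases x <;> first | rfl | exact e1 | exact e1.symm | exact e2 | exact e2.symm⟩
  · exact ⟨1, fun x => by fin_cases x <;> first | rfl | exact e1 | exact e1.symm | exact e2 | exact e2.symm⟩
  · exact ⟨2, fun x => by fin_cases x <;> first | rfl | exact e1 | exact e1.symm | exact e2 | exact e2.symm⟩
  · exact ⟨3, fun x => by fin_cases x <;> first | rfl | exact e1 | exact e1.symm | exact e2 | exact e2.symm⟩
  · exact ⟨4, fun x => by fin_cases x <;> first | rfl | exact e1 | exact e1.symm | exact e2 | exact e2.symm⟩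

theorem reindex_one' {ι₀ : Type} [Fintype ι₀] [DecidableEq ι₀] (e : ι₀ ≃ Fin n) :
    Matrix.reindex e e (1 : Matrix ι₀ ι₀ F) = 1 := by simp

/-- The isometries of a standard form of the same class, inside the similitudes. -/
theorem card_iso_dvd [Finite F] (h2 : (2 : F) ≠ 0) {Q : (Fin n → F) → F} {M : Mn} (hs : M.transpose = M)
    (hQ : ∀ v, v ⬝ᵥ (M *ᵥ v) = 2 * Q v) {ι₀ : Type} [Fintype ι₀] [DecidableEq ι₀] (e : ι₀ ≃ Fin n)
    {N : Matrix ι₀ ι₀ F} (hN : N.transpose = N) (hNd : N.det ≠ 0) {R : (ι₀ → F) → F}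
    (hR : ∀ v, v ⬝ᵥ (N *ᵥ v) = 2 * R v) {C : GLn} {k : F} (hk : k ≠ 0)
    (hC : C.val.transpose * (k • M) * C.val = Matrix.reindex e e N) :
    Nat.card ↥(Cfsg.isometryGroup F R) ∣
      2 * Nat.card ↥(Cfsg.Geo.quadSimilarityGroup Q ⊓ Cfsg.Geo.specialLinear (Fin n) F) := by
  have hiso : ∀ g : ↥(Cfsg.isometryGroup F R), g.1.val.transpose * N * g.1.val = N := fun g =>
    eq_of_diag h2 (self_transpose_congr hN _) hN fun v => by
      rw [dot_congr, hR, hR]
      exact congrArg (2 * ·) (g.2 v v)
  let φ : ↥(Cfsg.isometryGroup F R) →* GLn := (MulAut.conj C).toMonoidHom.comp ((gix e).comp (Subgroup.subtype _))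
  have hφ : ∀ g, φ g = C * gix e g.1 * C⁻¹ := fun g => rfl
  refine card_dvd_two_mul φ (fun g g' h => ?_) _ (fun g => (mem_sim_iff h2 hs hQ _).2 ⟨1, ?_⟩) fun g => ?_
  · rw [hφ, hφ, mul_left_inj, mul_right_inj] at h
    exact Subtype.ext (Units.ext ((Matrix.reindex e e).injective (congrArg Units.val h)))
  · rw [Units.val_one, one_smul]
    obtain ⟨G, hG⟩ : ∃ G, G = gix e g.1 := ⟨_, rfl⟩
    obtain ⟨D, hD⟩ : ∃ D, D = C⁻¹ := ⟨_, rfl⟩
    have h1 : G.val.transpose * (C.val.transpose * (k • M) * C.val) * G.val = C.val.transpose * (k • M) * C.val := by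
      rw [hC, hG, ← rix_congr, hiso]
    have h3 : C.val * D.val = 1 := by rw [hD]; exact Units.mul_inv C
    refine smul_right_injective _ hk (show k • _ = k • _ from ?_)
    rw [hφ, ← hG, ← hD, Units.val_mul, Units.val_mul]
    calc k • ((C.val * G.val * D.val).transpose * M * (C.val * G.val * D.val))
        = D.val.transpose * (G.val.transpose * (C.val.transpose * (k • M) * C.val) * G.val) * D.val := by
          rw [Matrix.transpose_mul, Matrix.transpose_mul, ← Matrix.smul_mul, ← Matrix.mul_smul]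
          simp only [mul_assoc]
      _ = (C.val * D.val).transpose * (k • M) * (C.val * D.val) := by
          rw [h1, Matrix.transpose_mul]; simp only [mul_assoc]
      _ = _ := by rw [h3, Matrix.transpose_one, one_mul, mul_one]
  · have h1 := congrArg Matrix.det (hiso g)
    rw [det_congr] at h1
    have h3 := congrArg Matrix.det (Units.mul_inv C)
    rw [Matrix.det_mul, Matrix.det_one] at h3
    rw [hφ, Units.val_mul, Units.val_mul, Matrix.det_mul, Matrix.det_mul, gix_val, Matrix.det_reindex_self]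
    calc C.val.det * g.1.val.det * (C⁻¹).val.det * (C.val.det * g.1.val.det * (C⁻¹).val.det)
        = (C.val.det * (C⁻¹).val.det) ^ 2 * g.1.val.det ^ 2 := by ring
      _ = 1 := by rw [h3, one_pow, one_mul]; exact mul_right_cancel₀ hNd (h1.trans (one_mul _).symm)

/-- An isometry conjugate into the standard group, with the same characteristic polynomial. -/
theorem to_standard (h2 : (2 : F) ≠ 0) {M : Mn} {ι₀ : Type} [Fintype ι₀] [DecidableEq ι₀] (e : ι₀ ≃ Fin n)
    {N : Matrix ι₀ ι₀ F} {R : (ι₀ → F) → F} (hR : ∀ v, v ⬝ᵥ (N *ᵥ v) = 2 * R v) {C x : GLn}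
    (hC : C.val.transpose * M * C.val = Matrix.reindex e e N) (hx : x.val.transpose * M * x.val = M) {r : ℕ}
    (hxr : x ^ r = 1) : ∃ g : ↥(Cfsg.isometryGroup F R), g ^ r = 1 ∧ (g.1).val.charpoly = x.val.charpoly := by
  obtain ⟨g₀, hg₀⟩ := gix_surjective e (C⁻¹ * x * C)
  obtain ⟨y, hy⟩ : ∃ y, y = C⁻¹ * x * C := ⟨_, rfl⟩
  rw [← hy] at hg₀
  have hCy : C.val * y.val = x.val * C.val := by
    rw [← Units.val_mul, ← Units.val_mul]
    exact congrArg Units.val (by rw [hy]; group)
  have h1 : g₀.val.transpose * N * g₀.val = N := by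
    refine (Matrix.reindex e e).injective ?_
    rw [rix_congr, hg₀]
    calc y.val.transpose * Matrix.reindex e e N * y.val = (C.val * y.val).transpose * M * (C.val * y.val) := by
          rw [← hC, Matrix.transpose_mul]; simp only [mul_assoc]
      _ = C.val.transpose * (x.val.transpose * M * x.val) * C.val := by
          rw [hCy, Matrix.transpose_mul]; simp only [mul_assoc]
      _ = _ := by rw [hx, hC]
  refine ⟨⟨g₀, fun v _ => ?_⟩, Subtype.ext ?_, ?_⟩
  · show R (g₀.val *ᵥ v) = R v
    have h3 := dot_congr g₀.val N v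
    rw [h1, hR, hR] at h3
    exact mul_left_cancel₀ h2 h3.symm
  · show g₀ ^ r = 1
    refine Units.ext ((Matrix.reindex e e).injective ?_)
    rw [← gix_val, map_pow, hg₀, hy, show C⁻¹ * x * C = C⁻¹ * x * C⁻¹⁻¹ by rw [inv_inv], conj_pow, hxr, mul_one,
      mul_inv_cancel, Units.val_one, Units.val_one, reindex_one']
  · show g₀.val.charpoly = _
    rw [← Matrix.charpoly_reindex e g₀.val, ← gix_val, hg₀, hy, Units.val_mul, Units.val_mul,
      Matrix.coe_units_inv, Matrix.charpoly_units_conj']

theorem prod_pairs (h : ℕ → ℤ) (m : ℕ) : ∏ i ∈ Finset.range (2 * m), h (i + 1) =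
    (∏ i ∈ Finset.range m, h (2 * i + 1)) * ∏ i ∈ Finset.range m, h (2 * (i + 1)) := by
  induction m with
  | zero => simp
  | succ m ih =>
    rw [show 2 * (m + 1) = 2 * m + 1 + 1 by ring, Finset.prod_range_succ, Finset.prod_range_succ, ih,
      Finset.prod_range_succ _ m, Finset.prod_range_succ _ m, show 2 * (m + 1) = 2 * m + 1 + 1 by ring]
    ring

theorem even_prod_ne {q : ℤ} (hq : 2 ≤ q) (k : ℕ) : ∏ i ∈ Finset.range k, (q ^ (2 * (i + 1)) - 1) ≠ 0 :=
  Finset.prod_ne_zero_iff.2 fun i _ h => by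
    have := one_lt_pow₀ (a := q) (by omega) (n := 2 * (i + 1)) (by omega)
    omega

end Aux

/-- Elements of prime order of PSL_n(q), q odd, and the subgroups of orthogonal type. Here `T = PSL_n(F)` for a field `F` with `q` elements, `q` odd, `n ≥ 3`; `Q` is a non-degenerate quadratic form on `F^n` (of either type when `n` is even) and `H` is the subgroup of matrices of determinant 1 that preserve `Q` up to a scalar — a subgroup of type O^ε_n(q) (maximality is not assumed); Ω is the set of cosets of `H` in `T`, so an element of `T` of prime order `r` (a matrix `x` of determinant 1 with `x^r` scalar, `x` not scalar) fixes a point of Ω exactly when some conjugate of `x` by a matrix of determinant 1 preserves `Q` up to a scalar. Let `r` be a prime dividing the index of `H`, with `(n, r) ≠ (6, 3)`. Then every element of `T` of order `r` fixes a point of Ω if and only if `r = 2`, or `r ∈ {3, 5}`, `n = r` and `(q − 1)_r = r` (the `r`-part of `q − 1` is exactly `r`). The case `(n, r) = (6, 3)` is not covered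 by this statement. -/
theorem result {F : Type*} [Field F] [Fintype F] {p : ℕ} [Fact p.Prime] [CharP F p] {q : ℕ} (hq : Fintype.card F = q)
    (hodd : Odd q) (n : ℕ) (hn : 3 ≤ n) (Q : (Fin n → F) → F) (hQ : Cfsg.Geo.IsNondegenerateQuadraticForm Q)
    (r : ℕ) [Fact r.Prime] (hgap : ¬ (n = 6 ∧ r = 3))
    (hΩ : r ∣ (Cfsg.Geo.quadSimilarityGroup Q).relIndex (Cfsg.Geo.specialLinear (Fin n) F)) :
    (∀ x ∈ Cfsg.Geo.specialLinear (Fin n) F, (∃ z : F, ((x ^ r : GL (Fin n) F) : Matrix (Fin n) (Fin n) F) = z • (1 : Matrix (Fin n) (Fin n) F)) →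
      (∀ z : F, (x : Matrix (Fin n) (Fin n) F) ≠ z • (1 : Matrix (Fin n) (Fin n) F)) →
      ∃ g ∈ Cfsg.Geo.specialLinear (Fin n) F, g⁻¹ * x * g ∈ Cfsg.Geo.quadSimilarityGroup Q) ↔
    (r = 2 ∨ ((r = 3 ∨ r = 5) ∧ n = r ∧ padicValNat r (q - 1) = 1)) := by
  classical
  have hrP : r.Prime := Fact.out
  have h2 : (2 : F) ≠ 0 := two_ne_zero' (by rw [hq]; exact hodd)
  have hp : p.Prime := Fact.out
  haveI : NeZero n := ⟨by omega⟩
  obtain ⟨M, hMs, hMd, hMQ⟩ := exists_gram hQ
  have hq1 : 1 < q := hq ▸ Fintype.one_lt_card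
  constructor
  · intro hall
    by_contra hne
    push Not at hne
    obtain ⟨hr2, hnr⟩ := hne
    suffices hw : ∃ x ∈ Cfsg.Geo.specialLinear (Fin n) F, (∃ z : F, ((x ^ r : GL (Fin n) F) : Matrix (Fin n) (Fin n) F) = z • 1) ∧
        (∀ z : F, x.val ≠ z • (1 : Matrix (Fin n) (Fin n) F)) ∧
        ∀ (G : Matrix (Fin n) (Fin n) F) (μ : F), G.transpose = G → G.det ≠ 0 → IsSquare (G.det * M.det) →
          x.val.transpose * G * x.val ≠ μ • G by
      obtain ⟨x, hx, hxr, hxn, hbad⟩ := hw
      obtain ⟨g, -, hg⟩ := hall x hx hxr hxn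
      obtain ⟨G, μ, h1, h2', h3, h4⟩ := pull h2 hMs hMd hMQ hg
      exact hbad G μ h1 h2' h3 h4
    by_cases hrp : r = p
    · subst hrp
      have hij : (⟨0, by omega⟩ : Fin n) ≠ ⟨1, by omega⟩ := by simp [Fin.ext_iff]
      obtain ⟨x, hx, hxp, hxn, hxm⟩ := transvection_witness (F := F) r hij
      refine ⟨x, hx, ⟨1, by rw [hxp, Units.val_one, one_smul]⟩, hxn, fun G μ hGs hGd _ h => ?_⟩
      have hμ : μ = 1 := by
        have h1 := mult_pow_one (by omega) h hGd (r := r) (by rw [← Units.val_pow_eq_pow_val, hxp, Units.val_one])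
        have h3 : (μ - 1) ^ r = 0 := by rw [sub_pow_char, h1, one_pow, sub_self]
        exact sub_eq_zero.1 (eq_zero_of_pow_eq_zero h3)
      rw [hμ, one_smul, hxm] at h
      exact transvection_bad h2 hij hGs hGd h
    have hrq : ¬ r ∣ Fintype.card F := fun h => by
      obtain ⟨k, -, hk⟩ := FiniteField.card F p
      rw [hk] at h
      exact hrp ((Nat.prime_dvd_prime_iff_eq hrP hp).1 (hrP.dvd_of_dvd_pow h))
    by_cases hr1 : r ∣ Fintype.card F - 1
    · obtain ⟨w, hw⟩ := exists_prime_orderOf_dvd_card' (G := Fˣ) r (by rwa [Nat.card_eq_fintype_card, Fintype.card_units])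
      obtain ⟨ω, hω⟩ : ∃ ω : F, ω = w := ⟨_, rfl⟩
      have hwp : IsPrimitiveRoot ω r := by
        rw [hω, IsPrimitiveRoot.coe_units_iff, ← hw]; exact IsPrimitiveRoot.orderOf w
      have hω0 : ω ≠ 0 := hω ▸ w.ne_zero
      have hr3 : 3 ≤ r := by have := hrP.two_le; omega
      have hω1 : ω ≠ 1 := hwp.ne_one (by omega)
      have hω2 : ω ^ 2 ≠ 1 := hwp.pow_ne_one_of_pos_of_lt two_ne_zero (by omega)
      have hcnt : ∀ k, k ≤ n → (Finset.univ.filter fun j : Fin n => (j : ℕ) < k).card = k := fun k hk => by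
        rw [show (Finset.univ.filter fun j : Fin n => (j : ℕ) < k) = (Finset.univ : Finset (Fin k)).map (Fin.castLEEmb hk) by
          ext j; simp only [Finset.mem_filter, Finset.mem_univ, true_and, Finset.mem_map]
          exact ⟨fun h => ⟨⟨j, h⟩, Fin.ext rfl⟩, fun ⟨l, hl⟩ => hl ▸ l.2⟩, Finset.card_map, Finset.card_univ, Fintype.card_fin]
      have hcnt' : ∀ k, k ≤ n → (Finset.univ.filter fun j : Fin n => ¬ (j : ℕ) < k).card = n - k := fun k hk => by
        have h1 := Finset.card_filter_add_card_filter_not (s := (Finset.univ : Finset (Fin n))) fun j : Fin n => (j : ℕ) < k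
        rw [hcnt k hk, Finset.card_univ, Fintype.card_fin] at h1
        omega
      have two : ∀ (k : ℕ) (a b : F), 0 < k → k < n → k + k ≠ n → a ^ 2 ≠ b ^ 2 → a ^ k * b ^ (n - k) = 1 → a ^ r = b ^ r → a ≠ 0 →
          ∃ x ∈ Cfsg.Geo.specialLinear (Fin n) F, (∃ z : F, ((x ^ r : GL (Fin n) F) : Matrix (Fin n) (Fin n) F) = z • 1) ∧
            (∀ z : F, x.val ≠ z • (1 : Matrix (Fin n) (Fin n) F)) ∧
            ∀ (G : Matrix (Fin n) (Fin n) F) (μ : F), G.transpose = G → G.det ≠ 0 → IsSquare (G.det * M.det) →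
              x.val.transpose * G * x.val ≠ μ • G := by
        intro k a b hk0 hkn hkk hab hprod hpow ha0
        have hne : a ≠ b := fun h => hab (by rw [h])
        have hb0 : b ≠ 0 := fun h => by rw [h, zero_pow (by omega), mul_zero] at hprod; exact zero_ne_one hprod
        obtain ⟨d, hd⟩ : ∃ d : Fin n → F, ∀ j : Fin n, d j = if (j : ℕ) < k then a else b := ⟨_, fun _ => rfl⟩
        have hi : d ⟨0, by omega⟩ = a := by rw [hd, if_pos hk0]
        have hj : d ⟨k, hkn⟩ = b := by rw [hd, if_neg (lt_irrefl k)]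
        obtain ⟨x, hx, hxr, hxn, hxm⟩ := diag_witness (r := r) d (by
          simp only [hd]; rw [Finset.prod_ite, Finset.prod_const, Finset.prod_const, hcnt k hkn.le, hcnt' k hkn.le, hprod])
          (z := b ^ r) (fun j => by rw [hd]; split_ifs <;> simp [hpow]) (i := ⟨0, by omega⟩) (j := ⟨k, hkn⟩) (by rw [hi, hj]; exact hne)
        refine ⟨x, hx, hxr, hxn, fun G μ hGs hGd _ h => ?_⟩
        rw [hxm] at h
        have hμ : μ ≠ 0 := by
          intro h0
          rw [h0, zero_smul] at h
          have h1 := congrArg Matrix.det h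
          rw [Cfsg.Lib.Linear.AutPSL.GForms.det_congr, Matrix.det_zero, Matrix.det_diagonal] at h1
          exact mul_ne_zero (pow_ne_zero _ (Finset.prod_ne_zero_iff.2 fun j _ => by rw [hd]; split_ifs <;> assumption)) hGd h1
        have hSa : ∀ j, d j = a → (Finset.univ.filter fun l => d l = d j).card = k := fun j e => by
          refine (congrArg Finset.card (Finset.filter_congr fun l _ => ?_)).trans (hcnt k hkn.le)
          rw [e, hd]; split_ifs with hl <;> simp [hl, hne.symm]
        have hSb : ∀ j, d j = b → (Finset.univ.filter fun l => d l = d j).card = n - k := fun j e => by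
          refine (congrArg Finset.card (Finset.filter_congr fun l _ => ?_)).trans (hcnt' k hkn.le)
          rw [e, hd]; split_ifs with hl <;> simp [hl, hne]
        have hab' : ∀ j, d j = a ∨ d j = b := fun j => by rw [hd]; split_ifs <;> simp
        refine diag_bad hGd hμ h (a := ⟨0, by omega⟩) (b := ⟨k, hkn⟩) (by rw [hi, hj]; exact hab) (fun j e => ?_) fun j e => ?_
        · rcases hab' j with e' | e'
          · rw [e', hi]
          · rw [hSb j e', hSa _ hi] at e; omega
        · rcases hab' j with e' | e'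
          · rw [hSa j e', hSb _ hj] at e; omega
          · rw [e', hj]
      by_cases hrn : r ∣ n
      swap
      · obtain ⟨k, hk⟩ : ∃ k : ℕ, ((k : ZMod r) * n) = -1 := by
          have h0 : (n : ZMod r) ≠ 0 := fun h => hrn ((ZMod.natCast_eq_zero_iff _ _).1 h)
          exact ⟨(-(n : ZMod r)⁻¹).val, by rw [ZMod.natCast_zmod_val, neg_mul, inv_mul_cancel₀ h0]⟩
        have hb0 : (ω ^ k) ≠ 0 := pow_ne_zero _ hω0
        have hkn : ω ^ (k * n + 1) = 1 := by
          rw [hwp.pow_eq_one_iff_dvd, ← ZMod.natCast_eq_zero_iff]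
          push_cast; rw [hk, neg_add_cancel]
        refine two 1 (ω ^ (k + 1)) (ω ^ k) one_pos (by omega) (by omega) (fun h => hω2 ?_) ?_ ?_ (pow_ne_zero _ hω0)
        · rw [pow_succ ω k, mul_pow] at h
          exact (mul_eq_left₀ (pow_ne_zero _ hb0)).1 h
        · rw [pow_one, ← pow_mul, ← pow_add, ← hkn]
          congr 1
          have : k * (n - 1) + k = k * n := by rw [← Nat.mul_succ, show (n - 1).succ = n by omega]
          omega
        · rw [← pow_mul, ← pow_mul, mul_comm (k + 1), mul_comm k, pow_mul, pow_mul, hwp.pow_eq_one, one_pow, one_pow]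
      by_cases hv2 : n = r ∧ (n = 3 ∨ n = 5)
      · obtain ⟨hnr', h35⟩ := hv2
        have hv : padicValNat r (q - 1) ≠ 1 := fun h =>
          hnr (by rcases h35 with e | e <;> omega) hnr' h
        obtain ⟨v, hv⟩ : ∃ v : Fˣ, orderOf v = r ^ 2 := by
          have h1 : r ^ 2 ∣ Fintype.card F - 1 := by
            have h0 : padicValNat r (q - 1) ≠ 0 := fun h0 => by
              rcases padicValNat.eq_zero_iff.1 h0 with h | h | h
              · exact hrP.ne_one h
              · omega
              · exact h (hq ▸ hr1)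
            rw [hq]
            exact (pow_dvd_pow r (by omega : 2 ≤ padicValNat r (q - 1))).trans pow_padicValNat_dvd
          obtain ⟨gen, hgen⟩ := IsCyclic.exists_generator (α := Fˣ)
          have ho : orderOf gen = Fintype.card F - 1 := by
            rw [orderOf_eq_card_of_forall_mem_zpowers hgen, Nat.card_eq_fintype_card, Fintype.card_units]
          obtain ⟨t, ht⟩ := h1
          refine ⟨gen ^ t, ?_⟩
          have ht0 : t ≠ 0 := fun h0 => by rw [h0, mul_zero, hq] at ht; omega
          rw [orderOf_pow' gen ht0, ho, ht, Nat.gcd_eq_right ⟨_, mul_comm _ _⟩, Nat.mul_div_cancel _ (Nat.pos_of_ne_zero ht0)]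
        obtain ⟨u, hu⟩ : ∃ u : F, u = v := ⟨_, rfl⟩
        have hup : IsPrimitiveRoot u (r ^ 2) := by
          rw [hu, IsPrimitiveRoot.coe_units_iff, ← hv]; exact IsPrimitiveRoot.orderOf v
        have hu0 : u ≠ 0 := hu ▸ v.ne_zero
        refine two 1 (u ^ (r - 1)) u⁻¹ one_pos (by omega) (by omega) (fun h => ?_) ?_ ?_ (pow_ne_zero _ hu0)
        · have h3 : (u ^ r) ^ 2 = 1 := by
            rw [← pow_sub_one_mul (by omega : r ≠ 0) u, mul_pow, h, ← mul_pow, inv_mul_cancel₀ hu0, one_pow]
          rw [← pow_mul] at h3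
          exact hup.pow_ne_one_of_pos_of_lt (by omega) (by rw [pow_two]; nlinarith) h3
        · rw [pow_one, hnr', ← mul_pow, mul_inv_cancel₀ hu0, one_pow]
        · rw [← pow_mul, _root_.inv_pow]
          refine eq_inv_of_mul_eq_one_left ?_
          rw [← pow_add, ← Nat.succ_mul, show (r - 1).succ = r by omega, ← pow_two]
          exact hup.pow_eq_one
      have hn6 : 6 ≤ n := by
        obtain ⟨k, rfl⟩ := hrn
        rcases Nat.lt_or_ge k 2 with hk | hk
        · interval_cases k
          · omega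
          · by_contra h
            push Not at h
            refine hv2 ⟨mul_one r, ?_⟩
            have : r ≠ 4 := fun e => by rw [e] at hrP; norm_num at hrP
            omega
        · nlinarith
      by_cases hr3' : r = 3
      · subst hr3'
        have hn9 : 9 ≤ n := by
          obtain ⟨k, rfl⟩ := hrn
          by_contra h
          have hk : k ≤ 2 := by omega
          interval_cases k
          · omega
          · omega
          · exact hgap ⟨rfl, rfl⟩
        refine two 3 ω 1 (by omega) (by omega) (by omega) (by rw [one_pow]; exact hω2) ?_ ?_ hω0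
        · rw [one_pow, mul_one]; exact hwp.pow_eq_one
        · rw [one_pow]; exact hwp.pow_eq_one
      · have hr5 : 5 ≤ r := by
          have : r ≠ 4 := fun h => by rw [h] at hrP; norm_num at hrP
          omega
        obtain ⟨c, hc⟩ : ∃ c : F, c = ω ^ (r - 2) := ⟨_, rfl⟩
        have hc2 : ω ^ 2 * c = 1 := by rw [hc, ← pow_add, show 2 + (r - 2) = r by omega, hwp.pow_eq_one]
        have hcω : c ≠ ω := fun h => hwp.pow_ne_one_of_pos_of_lt (l := 3) (by omega) (by omega) (by rw [h] at hc2; linear_combination hc2)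
        have hc1 : c ≠ 1 := fun h => hω2 (by rw [h, mul_one] at hc2; exact hc2)
        have hc0 : c ≠ 0 := right_ne_zero_of_mul (hc2.trans_ne one_ne_zero)
        obtain ⟨d, hd⟩ : ∃ d : Fin n → F, ∀ j : Fin n, d j = if (j : ℕ) = 0 then c else if (j : ℕ) < 3 then ω else 1 :=
          ⟨_, fun _ => rfl⟩
        have hS0 : ∀ j : Fin n, d j = c ↔ (j : ℕ) = 0 := fun j => by
          rw [hd]; split_ifs with e e'
          exacts [iff_of_true rfl e, iff_of_false hcω.symm e, iff_of_false hc1.symm e]
        have hS1 : ∀ j : Fin n, d j = ω ↔ (j : ℕ) ≠ 0 ∧ (j : ℕ) < 3 := fun j => by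
          rw [hd]; split_ifs with e e'
          exacts [iff_of_false hcω fun h => h.1 e, iff_of_true rfl ⟨e, e'⟩, iff_of_false hω1.symm fun h => e' h.2]
        have hS2 : ∀ j : Fin n, d j = 1 ↔ ¬ (j : ℕ) < 3 := fun j => by
          rw [hd]; split_ifs with e e'
          exacts [iff_of_false hc1 (by omega), iff_of_false hω1 (not_not.2 e'), iff_of_true rfl e']
        have hC0 : (Finset.univ.filter fun l => d l = c).card = 1 := by
          rw [Finset.filter_congr fun l _ => hS0 l]
          exact Finset.card_eq_one.2 ⟨⟨0, by omega⟩, by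
            ext j; simp only [Finset.mem_filter, Finset.mem_univ, true_and, Finset.mem_singleton, Fin.ext_iff]⟩
        have hC1 : (Finset.univ.filter fun l => d l = ω).card = 2 := by
          rw [Finset.filter_congr fun l _ => hS1 l]
          exact Finset.card_eq_two.2 ⟨⟨1, by omega⟩, ⟨2, by omega⟩, fun h => absurd (congrArg Fin.val h) (by show (1 : ℕ) ≠ 2; omega), by
            ext j; simp only [Finset.mem_filter, Finset.mem_univ, true_and, Finset.mem_insert, Finset.mem_singleton, Fin.ext_iff]; omega⟩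
        have hC2 : (Finset.univ.filter fun l => d l = 1).card = n - 3 := by
          rw [Finset.filter_congr fun l _ => hS2 l]; exact hcnt' 3 (by omega)
        have hd0 : d ⟨0, by omega⟩ = c := (hS0 _).2 rfl
        have hd1 : d ⟨1, by omega⟩ = ω := (hS1 _).2 ⟨one_ne_zero, by show (1 : ℕ) < 3; omega⟩
        have hd3 : d ⟨3, by omega⟩ = 1 := (hS2 _).2 (lt_irrefl 3)
        have hvals : ∀ j, d j = c ∨ d j = ω ∨ d j = 1 := fun j => by rw [hd]; split_ifs <;> simp
        obtain ⟨x, hx, hxr, hxn, hxm⟩ := diag_witness (r := r) d (by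
          rw [← Finset.prod_fiberwise_of_maps_to (t := {c, ω, 1}) (g := d) fun j _ => by
            simpa using hvals j]
          rw [Finset.prod_insert (by simp [hcω, hc1]), Finset.prod_insert (by simp [hω1]), Finset.prod_singleton]
          have e : ∀ a : F, ∏ j ∈ Finset.univ.filter (fun l => d l = a), d j = a ^ (Finset.univ.filter fun l => d l = a).card :=
            fun a => by rw [Finset.prod_congr rfl fun j hj => (Finset.mem_filter.1 hj).2, Finset.prod_const]
          rw [e, e, e, hC0, hC1, hC2, one_pow, pow_one]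
          linear_combination hc2) (z := 1) (fun j => by
            rcases hvals j with h | h | h <;> rw [h]
            · rw [hc, ← pow_mul, mul_comm, pow_mul, hwp.pow_eq_one, one_pow]
            · exact hwp.pow_eq_one
            · exact one_pow _) (i := ⟨1, by omega⟩) (j := ⟨3, by omega⟩) (by rw [hd1, hd3]; exact hω1)
        refine ⟨x, hx, hxr, hxn, fun G μ hGs hGd _ h => ?_⟩
        rw [hxm] at h
        have hμ : μ ≠ 0 := by
          intro h0
          rw [h0, zero_smul] at h
          have h1 := congrArg Matrix.det h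
          rw [Cfsg.Lib.Linear.AutPSL.GForms.det_congr, Matrix.det_zero, Matrix.det_diagonal] at h1
          exact mul_ne_zero (pow_ne_zero _ (Finset.prod_ne_zero_iff.2 fun j _ => by
            rcases hvals j with e | e | e <;> rw [e] <;> first | assumption | exact one_ne_zero)) hGd h1
        refine diag_bad hGd hμ h (a := ⟨1, by omega⟩) (b := ⟨3, by omega⟩) (by rw [hd1, hd3, one_pow]; exact hω2)
          (fun j e => ?_) fun j e => ?_
        · rw [hd1] at e ⊢
          rw [hC1] at e
          rcases hvals j with e' | e' | e' <;> rw [e'] at e ⊢ <;> first | (rw [hC0] at e; omega) | (rw [hC2] at e; omega)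
        · rw [hd3] at e ⊢
          rw [hC2] at e
          rcases hvals j with e' | e' | e' <;> rw [e'] at e ⊢ <;> first | (rw [hC0] at e; omega) | (rw [hC1] at e; omega)
    · let L := AlgebraicClosure F
      have hrL : ((r : ℕ) : L) ≠ 0 := by
        rw [← map_natCast (algebraMap F L), ne_eq, map_eq_zero]
        exact fun e => hrp ((Nat.prime_dvd_prime_iff_eq hp hrP).1 ((CharP.cast_eq_zero_iff F p r).1 e)).symm
      haveI : NeZero ((r : ℕ) : L) := ⟨hrL⟩
      obtain ⟨ζ, hζ⟩ := HasEnoughRootsOfUnity.exists_primitiveRoot L r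
      have hqz : (Fintype.card F : ZMod r) ≠ 0 := fun h => hrq ((ZMod.natCast_eq_zero_iff _ _).1 h)
      let uq : (ZMod r)ˣ := Units.mk0 _ hqz
      have huq : (uq : ZMod r) = (Fintype.card F : ZMod r) := rfl
      have hsl := relIndex_mul (Cfsg.Geo.quadSimilarityGroup Q) (Cfsg.Geo.specialLinear (Fin n) F)
      have hΩ' : r ∣ (Fintype.card F - 1) * Nat.card ↥(Cfsg.Geo.specialLinear (Fin n) F) := by
        rw [← hsl]; exact Dvd.dvd.mul_left (Dvd.dvd.mul_right hΩ _) _
      have hin : orderOf uq ≤ n := by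
        have := orderOf_le_of_dvd_sl (F := F) (by omega) hrq hΩ'
        rwa [← huq, orderOf_units] at this
      have hu1 : (uq : ZMod r) ≠ 1 := fun h => by
        refine hr1 ?_
        rw [← ZMod.natCast_eq_zero_iff, Nat.cast_sub Fintype.card_pos, ← huq, h, Nat.cast_one, sub_self]
      have h11 : (1 : ZMod r) ∈ orbit uq 1 := mem_orbit.2 ⟨0, by simp⟩
      have hμ1 : ∀ {x : GL (Fin n) F}, x ^ r = 1 → ∀ {G : Matrix (Fin n) (Fin n) F} {μ : F}, G.det ≠ 0 →
          x.val.transpose * G * x.val = μ • G → x.val.transpose * G * x.val = G := by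
        intro x hxr G μ hGd h
        have hμ := root_one hr1 (mult_pow_one (by omega) h hGd (r := r) (by rw [← Units.val_pow_eq_pow_val, hxr, Units.val_one]))
        rw [h, hμ, one_smul]
      rcases Nat.even_or_odd (orderOf uq) with hie | hio
      swap
      · have hf := orbit_fun uq 1 (n - orderOf uq)
        rw [mul_one, Nat.add_sub_cancel' hin] at hf
        obtain ⟨x, hx, hxr, hxn, hxc⟩ := exists_elt hr1 hζ huq hf (by simp [h11])
        refine ⟨x, hx, ⟨1, by rw [hxr, Units.val_one, one_smul]⟩, hxn, fun G μ hGs hGd _ h => ?_⟩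
        have h1 := charpoly_inv_of_form G x.val (x⁻¹).val ((Matrix.isUnit_iff_isUnit_det _).2 (isUnit_iff_ne_zero.2 hGd))
          (hμ1 hxr hGd h) (Units.mul_inv x)
        have h3 := (inv_of_charpoly hζ hrL huq (-uq) (Or.inr (Units.val_neg uq)) x.val (x⁻¹).val
          (by rw [← Units.val_pow_eq_pow_val, hxr, Units.val_one]) (Units.mul_inv x) h1 hxc hf.1).2 1
        simp only [mul_one, Units.val_neg, one_ne_zero, neg_eq_zero, uq.ne_zero, if_false, h11, if_true] at h3
        have hmem : -(uq : ZMod r) ∈ orbit uq 1 := by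
          by_contra hnm
          rw [if_neg hnm] at h3
          omega
        obtain ⟨j, hj⟩ := mem_orbit.1 hmem
        rw [mul_one] at hj
        have h4 : ((-1 : (ZMod r)ˣ) * uq) = uq ^ j := Units.ext (by rw [neg_one_mul, Units.val_neg, Units.val_pow_eq_pow_val]; exact hj)
        have h5 := congrArg (· ^ orderOf uq) h4
        have h6 : (uq ^ j) ^ orderOf uq = 1 := by rw [← pow_mul, mul_comm, pow_mul, pow_orderOf_eq_one, one_pow]
        simp only [mul_pow, hio.neg_one_pow, pow_orderOf_eq_one, mul_one] at h5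
        rw [h6] at h5
        exact neg_ne_self hr2 one_ne_zero (by simpa using congrArg Units.val h5)
      · have hpow : ∀ k : ℕ, (uq : ZMod r) ^ k = 1 → Even k := fun k hk => by
          have h1 : orderOf uq ∣ k := orderOf_dvd_of_pow_eq_one (Units.ext (by rw [Units.val_pow_eq_pow_val, hk, Units.val_one]))
          exact even_iff_two_dvd.2 ((even_iff_two_dvd.1 hie).trans h1)
        obtain ⟨E, hE⟩ := card_sl_int (F := F) (n := n) (by omega)
        obtain ⟨qz, hqzdef⟩ : ∃ qz : ℤ, qz = (Fintype.card F : ℤ) := ⟨_, rfl⟩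
        have hqz2 : 2 ≤ qz := by rw [hqzdef]; exact_mod_cast Fintype.one_lt_card
        rw [← hqzdef] at hE
        have key : ∀ {ι₀ : Type} [Fintype ι₀] [DecidableEq ι₀] (R : (ι₀ → F) → F),
            Nat.card ↥(Cfsg.isometryGroup F R) ∣
              2 * Nat.card ↥(Cfsg.Geo.quadSimilarityGroup Q ⊓ Cfsg.Geo.specialLinear (Fin n) F) →
            (r : ℤ) * ((Nat.card ↥(Cfsg.isometryGroup F R) : ℤ) * (qz - 1)) ∣
              2 * (qz ^ E * ∏ i ∈ Finset.range n, (qz ^ (i + 1) - 1)) := by
          intro ι₀ _ _ R h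
          rw [← hE, ← hsl]
          have h1 := Int.natCast_dvd_natCast.2 (Nat.mul_dvd_mul hΩ h)
          push_cast at h1 ⊢
          refine (show (r : ℤ) * ((Nat.card ↥(Cfsg.isometryGroup F R) : ℤ) * (qz - 1)) = (r : ℤ) * Nat.card ↥(Cfsg.isometryGroup F R) * (qz - 1) by ring) ▸
            (mul_dvd_mul_right h1 (qz - 1)).trans (dvd_of_eq (by ring))
        have hcast : ((qz : ℤ) : ZMod r) = uq := by rw [hqzdef, huq, Int.cast_natCast]
        have hnotq : ¬ (r : ℤ) ∣ 2 ∧ ∀ k : ℕ, ¬ (r : ℤ) ∣ qz ^ k := by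
          refine ⟨fun h => hr2 ((Nat.prime_dvd_prime_iff_eq hrP Nat.prime_two).1 (Int.natCast_dvd_natCast.1 h)), fun k h => ?_⟩
          rw [hqzdef] at h
          exact hrq (hrP.dvd_of_dvd_pow (Int.natCast_dvd_natCast.1 (by exact_mod_cast h)))
        have hodd' : ∀ k : ℕ, ¬ (r : ℤ) ∣ qz ^ (2 * k + 1) - 1 := fun k h => by
          have h1 := (ZMod.intCast_zmod_eq_zero_iff_dvd _ r).2 h
          push_cast [hcast] at h1
          exact Nat.not_even_iff_odd.2 (odd_two_mul_add_one k) (hpow _ (sub_eq_zero.1 h1))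
        have hq1z : qz - 1 ≠ 0 := by omega
        obtain ⟨mm, hne | hno⟩ := Nat.even_or_odd' n
        swap
        · obtain ⟨m, hm⟩ : ∃ m, n = 2 * m + 1 := ⟨_, hno⟩
          let e : Unit ⊕ (Fin m ⊕ Fin m) ≃ Fin n := Fintype.equivFinOfCardEq (by simp; omega)
          have hN0 : (oddM F m).det ≠ 0 := by
            rw [oddM_det]; exact mul_ne_zero h2 (pow_ne_zero _ (neg_ne_zero.2 one_ne_zero))
          have hk : (oddM F m).det * M.det ≠ 0 := mul_ne_zero hN0 hMd
          obtain ⟨C, hC⟩ := congr_of_det h2 (M := ((oddM F m).det * M.det) • M) (M' := Matrix.reindex e e (oddM F m))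
            (by rw [Matrix.transpose_smul, hMs]) (by rw [Matrix.transpose_reindex, oddM_symm])
            (by rw [Matrix.det_smul]; exact mul_ne_zero (pow_ne_zero _ hk) hMd) (by rw [Matrix.det_reindex_self]; exact hN0)
            ⟨((oddM F m).det * M.det) ^ (m + 1), by
              rw [Matrix.det_smul, Matrix.det_reindex_self, Fintype.card_fin,
                congrArg (((oddM F m).det * M.det) ^ ·) hm]
              ring⟩
          have h1 := key _ (card_iso_dvd h2 hMs hMQ e (oddM_symm F m) hN0 (oddM_dot F m) hk hC)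
          rw [(Cfsg.Lib.Linear.Orth.counts_odd (F := F) h2 m).2.2, Nat.card_eq_fintype_card, ← hqzdef,
            Cfsg.Lib.Linear.Orth.prod_odd, hm, Finset.prod_range_succ, prod_pairs (fun i => qz ^ i - 1)] at h1
          have h3 : (r : ℤ) ∣ qz ^ E * ((∏ i ∈ Finset.range m, (qz ^ (2 * i + 1) - 1)) * (qz ^ (2 * m + 1) - 1)) := by
            obtain ⟨t, ht⟩ := h1
            refine ⟨qz ^ (1 * m + m * (m - 1)) * (qz - 1) * t, mul_left_cancel₀ (even_prod_ne hqz2 m) ?_⟩
            refine mul_left_cancel₀ (two_ne_zero (α := ℤ)) ?_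
            linear_combination ht
          have hp' := Nat.prime_iff_prime_int.1 hrP
          rcases hp'.dvd_mul.1 h3 with h | h
          · exact absurd h (hnotq.2 _)
          rcases hp'.dvd_mul.1 h with h | h
          · obtain ⟨i, -, h⟩ := hp'.exists_mem_finset_dvd h
            exact absurd h (hodd' i)
          · exact absurd h (hodd' m)
        obtain ⟨m, hm⟩ : ∃ m, n = 2 * m := ⟨_, hne⟩
        obtain ⟨m', rfl⟩ : ∃ m', m = m' + 1 := ⟨m - 1, by omega⟩
        have hdvd : ∀ {k : ℕ}, (uq : ZMod r) ^ k = 1 → orderOf uq ∣ k := fun hk =>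
          orderOf_dvd_of_pow_eq_one (Units.ext (by rw [Units.val_pow_eq_pow_val, hk, Units.val_one]))
        obtain ⟨j, hj⟩ : ∃ j, orderOf uq = j + j := id hie
        have hj0 : 0 < j := by have := orderOf_pos uq; omega
        have hp' := Nat.prime_iff_prime_int.1 hrP
        have hfine : ∀ {s : ℤ}, (r : ℤ) ∣ 2 * (qz ^ E * ((∏ i ∈ Finset.range m', (qz ^ (2 * (i + 1) + 1) - 1)) * s)) →
            (r : ℤ) ∣ s := fun h => by
          rcases hp'.dvd_mul.1 h with h | h
          · exact absurd h hnotq.1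
          rcases hp'.dvd_mul.1 h with h | h
          · exact absurd h (hnotq.2 _)
          rcases hp'.dvd_mul.1 h with h | h
          · obtain ⟨i, -, h⟩ := hp'.exists_mem_finset_dvd h
            exact absurd h (hodd' (i + 1))
          · exact h
        by_cases hcl : IsSquare ((-1) ^ (m' + 1) * M.det)
        · let e : Fin (m' + 1) ⊕ Fin (m' + 1) ≃ Fin n := Fintype.equivFinOfCardEq (by simp; omega)
          have hN0 : (hypM F (m' + 1)).det ≠ 0 := by rw [hypM_det]; exact pow_ne_zero _ (neg_ne_zero.2 one_ne_zero)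
          obtain ⟨C, hC⟩ := congr_of_det h2 (M := M) (M' := Matrix.reindex e e (hypM F (m' + 1)))
            hMs (by rw [Matrix.transpose_reindex, hypM_symm]) hMd (by rw [Matrix.det_reindex_self]; exact hN0)
            (by rwa [Matrix.det_reindex_self, hypM_det, mul_comm])
          have h1 := key _ (card_iso_dvd h2 hMs hMQ e (hypM_symm F _) hN0 (hypM_dot F _) one_ne_zero (by rwa [one_smul]))
          rw [(Cfsg.Lib.Linear.Orth.counts_plus (F := F) (m' + 1)).2, Nat.card_eq_fintype_card, ← hqzdef,
            Cfsg.Lib.Linear.Orth.prod_plus, hm, prod_pairs (fun i => qz ^ i - 1), Finset.prod_range_succ' (fun i => qz ^ (2 * i + 1) - 1),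
            Finset.prod_range_succ (fun i => qz ^ (2 * (i + 1)) - 1)] at h1
          have h3 : (r : ℤ) ∣ qz ^ (m' + 1) + 1 := hfine (by
            obtain ⟨t, ht⟩ := h1
            have hA : qz ^ (m' + 1) - 1 ≠ 0 := by
              have := one_lt_pow₀ (a := qz) (by omega) (n := m' + 1) (by omega)
              omega
            refine ⟨qz ^ ((m' + 1) * (m' + 1 - 1)) * 2 * t, ?_⟩
            refine mul_left_cancel₀ (mul_ne_zero (mul_ne_zero hA (even_prod_ne hqz2 m')) hq1z) ?_
            simp only [mul_zero, zero_add, pow_one] at ht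
            linear_combination ht)
          have h4 : (uq : ZMod r) ^ (m' + 1) = -1 := by
            have h5 := (ZMod.intCast_zmod_eq_zero_iff_dvd _ r).2 h3
            push_cast [hcast] at h5
            exact eq_neg_of_add_eq_zero_left h5
          have hndiv : ¬ orderOf uq ∣ m' + 1 := fun ⟨t, ht⟩ => by
            rw [ht, pow_mul, ← Units.val_pow_eq_pow_val, pow_orderOf_eq_one, Units.val_one, one_pow] at h4
            exact neg_ne_self hr2 one_ne_zero h4.symm
          obtain ⟨k, hk⟩ : orderOf uq ∣ n := hm ▸ hdvd (by rw [mul_comm, pow_mul, h4]; norm_num)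
          have hkodd : Odd k := by
            rw [← Nat.not_even_iff_odd]
            rintro ⟨k', rfl⟩
            exact hndiv ⟨k', by rw [hj] at hk ⊢; nlinarith⟩
          have hf := orbit_fun uq k 0
          rw [add_zero, ← hk] at hf
          obtain ⟨x, hx, hxr, hxn, hxc⟩ := exists_elt hr1 hζ huq hf (by simp [h11, hkodd.pos.ne'])
          refine ⟨x, hx, ⟨1, by rw [hxr, Units.val_one, one_smul]⟩, hxn, fun G μ hGs hGd hsq h => ?_⟩
          obtain ⟨D, hD⟩ := congr_of_det h2 (M := G) (M' := Matrix.reindex e e (hypM F (m' + 1))) hGs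
            (by rw [Matrix.transpose_reindex, hypM_symm]) hGd (by rw [Matrix.det_reindex_self]; exact hN0) (by
              rw [Matrix.det_reindex_self, hypM_det]
              obtain ⟨a, ha⟩ := hsq
              obtain ⟨b, hb⟩ := hcl
              exact ⟨a * b / M.det, by field_simp; linear_combination ((-1) ^ (m' + 1) * M.det) * ha + (a * a) * hb⟩)
          obtain ⟨g, hgr, hgc⟩ := to_standard h2 e (hypM_dot F _) hD (hμ1 hxr hGd h) hxr
          have hpp := pplus_of_fpf hζ hr2 huq uq ⟨1, (pow_one uq).symm⟩ (m' + 1) (by rwa [hm] at hf) (by simp) g hgr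
            (by rw [hgc, hxc])
          rcases hpp with hp1 | hp1
          · exact Nat.not_even_iff_odd.2 hp1 hie
          · rw [← hm, hk, Nat.mul_div_cancel_left _ (orderOf_pos uq)] at hp1
            exact Nat.not_even_iff_odd.2 hkodd hp1
        · obtain ⟨α, hα⟩ := exists_nonsquare' (F := F) (by rw [hq]; exact hodd)
          have hα0 : α ≠ 0 := fun h => hα (h ▸ IsSquare.zero)
          have hab := aniso F hα
          let e : (Fin m' ⊕ Fin m') ⊕ Fin 2 ≃ Fin n := Fintype.equivFinOfCardEq (by simp; omega)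
          have hN0 : (minM F m' α).det ≠ 0 := by
            rw [minM_det]
            exact mul_ne_zero (pow_ne_zero _ (neg_ne_zero.2 one_ne_zero))
              (mul_ne_zero (by rw [show (4 : F) = 2 * 2 by norm_num]; exact mul_ne_zero h2 h2) hα0)
          have hcls : ∀ {D : F}, IsSquare (D * M.det) → IsSquare (D * (minM F m' α).det) := fun {D} hD => by
            obtain ⟨b, hb⟩ := isSquare_mul_of_not (by rw [hq]; exact hodd) hcl hα
            obtain ⟨a, ha⟩ := hD
            exact ⟨a * b * 2 / M.det, by rw [minM_det]; field_simp; linear_combination (4 * α * (-1) ^ (m' + 1) * M.det) * ha + (4 * a ^ 2) * hb⟩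
          obtain ⟨C, hC⟩ := congr_of_det h2 (M := M) (M' := Matrix.reindex e e (minM F m' α))
            hMs (by rw [Matrix.transpose_reindex, minM_symm]) hMd (by rw [Matrix.det_reindex_self]; exact hN0)
            (by rw [Matrix.det_reindex_self]; exact hcls ⟨M.det, rfl⟩)
          have h1 := key _ (card_iso_dvd h2 hMs hMQ e (minM_symm F _ α) hN0 (minM_dot F _ α) one_ne_zero (by rwa [one_smul]))
          rw [(Cfsg.Lib.Linear.Orth.counts_minus (F := F) m' hab).2.2, Nat.card_eq_fintype_card, ← hqzdef, hm,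
            prod_pairs (fun i => qz ^ i - 1), Finset.prod_range_succ' (fun i => qz ^ (2 * i + 1) - 1),
            Finset.prod_range_succ (fun i => qz ^ (2 * (i + 1)) - 1)] at h1
          have h3 : (r : ℤ) ∣ qz ^ (m' + 1) - 1 := hfine (by
            obtain ⟨t, ht⟩ := h1
            have hA : qz ^ (m' + 1) + 1 ≠ 0 := by positivity
            refine ⟨qz ^ (2 * m' + m' * (m' - 1)) * 2 * t, ?_⟩
            refine mul_left_cancel₀ (mul_ne_zero (mul_ne_zero hA (even_prod_ne hqz2 m')) hq1z) ?_
            simp only [mul_zero, zero_add, pow_one] at ht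
            linear_combination ht + (2 * (r : ℤ) * qz ^ (2 * m' + m' * (m' - 1)) * (qz - 1) * t) * Cfsg.Lib.Linear.Orth.prod_minus qz m')
          have h4 : (uq : ZMod r) ^ (m' + 1) = 1 := by
            have h5 := (ZMod.intCast_zmod_eq_zero_iff_dvd _ r).2 h3
            push_cast [hcast] at h5
            exact sub_eq_zero.1 h5
          obtain ⟨t, ht⟩ := hdvd h4
          have hf := orbit_fun uq (2 * t) 0
          have hn2 : orderOf uq * (2 * t) = n := by rw [hm, ht]; ring
          rw [add_zero, hn2] at hf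
          obtain ⟨x, hx, hxr, hxn, hxc⟩ := exists_elt hr1 hζ huq hf (by
            simp only [one_ne_zero, if_false, h11, if_true]; intro h0; rw [h0, mul_zero] at hn2; omega)
          refine ⟨x, hx, ⟨1, by rw [hxr, Units.val_one, one_smul]⟩, hxn, fun G μ hGs hGd hsq h => ?_⟩
          obtain ⟨D, hD⟩ := congr_of_det h2 (M := G) (M' := Matrix.reindex e e (minM F m' α)) hGs
            (by rw [Matrix.transpose_reindex, minM_symm]) hGd (by rw [Matrix.det_reindex_self]; exact hN0)
            (by rw [Matrix.det_reindex_self]; exact hcls hsq)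
          obtain ⟨g, hgr, hgc⟩ := to_standard h2 e (minM_dot F _ α) hD (hμ1 hxr hGd h) hxr
          have hpp := pminus_of_fpf hζ hr2 huq uq ⟨1, (pow_one uq).symm⟩ m' hab
            (by rwa [show n = 2 * m' + 2 by omega] at hf) (by simp) g hgr (by rw [hgc, hxc])
          have h6 := hpp.2
          rw [show 2 * m' + 2 = orderOf uq * (2 * t) by omega, Nat.mul_div_cancel_left _ (orderOf_pos uq)] at h6
          exact Nat.not_even_iff_odd.2 h6 (even_two_mul t)
  · rintro hcase x hx hxz -
    obtain ⟨z, hz⟩ := hxz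
    have hxd : x.val.det = 1 := (sl_iff x).1 hx
    rw [Units.val_pow_eq_pow_val] at hz
    have hz0 : z ≠ 0 := fun h0 => by
      have h1 := congrArg Matrix.det hz
      rw [Matrix.det_pow, hxd, one_pow, h0, zero_smul, Matrix.det_zero] at h1
      exact one_ne_zero h1
    rcases hcase with rfl | ⟨h35, hnr, hv⟩
    · rw [pow_two] at hz
      obtain ⟨P, A, G, hP, hGs, hGd, hA⟩ := exists_form_two (by omega) x hz0 hz hMd
      obtain ⟨g, hg⟩ := into h2 hMs hMd hMQ x P A G hP hGs (by rw [hGd]; exact hMd) (Or.inr ⟨M.det, by rw [hGd]⟩) hz0 hA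
      exact upgrade x g _ (fun δ _ => centralizer_two (by omega) x hz0 hz δ) hg
    · have hr2 : r ≠ 2 := by omega
      rw [← hq] at hv
      obtain ⟨P, d, hP, hd⟩ := exists_diag_prime hnr hr2 hv x hxd hz
      obtain ⟨w, hw⟩ := exists_prime_orderOf_dvd_card' (G := Fˣ) r (by
        rw [Nat.card_eq_fintype_card, Fintype.card_units]; exact dvd_of_one_le_padicValNat (by omega))
      have hwp : IsPrimitiveRoot (w : F) r := by
        rw [IsPrimitiveRoot.coe_units_iff, ← hw]; exact IsPrimitiveRoot.orderOf w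
      choose e he using fun j => exists_zp hwp (hd j)
      have hsum : ∑ j, e j = 0 := by
        refine zp_inj hwp ?_
        rw [zp_zero]
        have h1 : ∀ s : Finset (Fin n), zp (w : F) (∑ j ∈ s, e j) = ∏ j ∈ s, d j := fun s => by
          induction s using Finset.induction_on with
          | empty => simp [zp_zero]
          | insert a s ha ih => rw [Finset.sum_insert ha, Finset.prod_insert ha, zp_add hwp, ih, he]
        rw [h1 Finset.univ]
        have h3 := congrArg Matrix.det hP
        rw [Matrix.det_mul, Matrix.det_mul, hxd, one_mul, Matrix.det_diagonal] at h3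
        exact (mul_eq_left₀ (Matrix.GeneralLinearGroup.det P).ne_zero).1 h3.symm
      have hcs : ∑ x, Fintype.card {j // e j = x} = r := by
        rw [← Fintype.card_sigma, Fintype.card_congr (Equiv.sigmaFiberEquiv e), Fintype.card_fin, hnr]
      have hws : ∑ x, (Fintype.card {j // e j = x} : ZMod r) * x = 0 := by
        rw [← hsum, ← Finset.sum_fiberwise Finset.univ e e]
        refine Finset.sum_congr rfl fun x _ => ?_
        rw [Finset.sum_congr rfl fun j hj => (Finset.mem_filter.1 hj).2, Finset.sum_const, nsmul_eq_mul,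
          Fintype.card_subtype]
      obtain ⟨c, hc⟩ : ∃ c, ∀ x, Fintype.card {j // e j = c - x} = Fintype.card {j // e j = x} := by
        rcases h35 with rfl | rfl
        · exact exists_center_three _ hcs hws
        · exact exists_center_five _ hcs hws
      obtain ⟨G, hGs, hGd, hA⟩ := exists_form_sym hwp e hc
      rw [show (fun j => zp (w : F) (e j)) = d from funext he] at hA
      obtain ⟨g, hg⟩ := into h2 hMs hMd hMQ x P _ G hP hGs hGd
        (Or.inl (hnr ▸ hrP.odd_of_ne_two hr2)) (zp_ne_zero hwp c) hA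
      exact upgrade x g _ (fun δ _ => centralizer_diag (by omega) x P d hP δ) hg

end Cfsg.Agent.S5981
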