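import Cfsg.Statements.S5965
import Cfsg.Agent.Lib.Linear.FormClass.Common
import Cfsg.Agent.Lib.Linear.CentralizerDet
import Cfsg.Agent.Lib.Linear.SubfieldBasic
import Cfsg.Agent.S5981
-- import your own Cfsg.Agent.* helpers here

set_option autoImplicit false
open scoped MatrixGroups
open Cfsg

namespace Cfsg.Agent.S5965

open Cfsg.Lib.Linear.FormClass Cfsg.Agent.Lib.Linear.PrimeClasses
open Cfsg.Lib
open Cfsg.Lib.Linear.Rat0 (RatG frobRel frobRel_mem mem_of_frobRel_eq mem_subfieldSubgroup_one)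

universe u

section Aux

variable {F : Type u} [Field F] {n : ℕ}

local notation "GLn" => GL (Fin n) F
local notation "Mn" => Matrix (Fin n) (Fin n) F

/-- Without the exceptional exponents the index of the subfield group is prime to `r`. -/
theorem not_dvd_index [Fintype F] (F₀ : Subfield F) {k q₀ r m : ℕ} [hr : Fact r.Prime] (hnm : n = m + 1)
    (hF₀ : Nat.card F₀ = q₀) (hqk : Fintype.card F = q₀ ^ k) (hrq : ¬ r ∣ q₀) (hrk : ¬ r ∣ k)
    (hvac : ∀ j, 2 ≤ j → j ≤ n → ((q₀ : ZMod r) ^ j) ^ k = 1 → (q₀ : ZMod r) ^ j = 1)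
    (H : Subgroup (Matrix.SpecialLinearGroup (Fin n) F))
    (hH : ∀ A : Matrix.SpecialLinearGroup (Fin n) F₀, Matrix.SpecialLinearGroup.map F₀.subtype A ∈ H) :
    ¬ r ∣ H.index := by
  classical
  subst hnm
  intro hdiv
  have := Fintype.ofFinite F₀
  rw [Nat.card_eq_fintype_card] at hF₀
  have hq₀1 : 1 < q₀ := hF₀ ▸ Fintype.one_lt_card
  obtain ⟨c, hc⟩ : ∃ c : ℕ → ℕ, ∀ i, c i = (q₀ ^ i) ^ (k - 1) * ∑ l ∈ Finset.range k, (q₀ ^ (m + 1 - i)) ^ l :=
    ⟨_, fun _ => rfl⟩
  have hk0 : k ≠ 0 := fun h => hrk (h ▸ dvd_zero r)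
  have hci : ∀ i : Fin (m + 1), Fintype.card F ^ (m + 1) - Fintype.card F ^ (i : ℕ) =
      (q₀ ^ (m + 1) - q₀ ^ (i : ℕ)) * c i := fun i => by
    rw [hc]
    obtain ⟨a, ha⟩ : ∃ a, a = (i : ℕ) := ⟨_, rfl⟩
    have ha' : a ≤ m + 1 := by omega
    rw [← ha]
    obtain ⟨j, hj⟩ : ∃ j, j = m + 1 - a := ⟨_, rfl⟩
    rw [← hj, show m + 1 = a + j by omega, hqk, ← pow_mul, ← pow_mul, mul_comm k, mul_comm k, add_mul, pow_add, pow_add,
      ← Nat.mul_sub_one, ← Nat.mul_sub_one, pow_mul, pow_mul q₀ j, ← geom_sum_mul_of_one_le (Nat.one_le_pow _ _ (by omega)) k]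
    conv_lhs => rw [← pow_sub_one_mul hk0 (q₀ ^ a)]
    ring
  have e1 := Cfsg.Lib.Linear.card_SL_mul (F := F) (m + 1) (by omega)
  have e2 := Cfsg.Lib.Linear.card_SL_mul (F := F₀) (m + 1) (by omega)
  rw [hF₀] at e2
  rw [Finset.prod_congr rfl (fun i _ => hci i), Finset.prod_mul_distrib, ← e2, Fin.prod_univ_castSucc,
    Fin.val_last, hc m, show m + 1 - m = 1 by omega, pow_one, hqk,
    ← geom_sum_mul_of_one_le hq₀1.le k] at e1
  have e3 : Nat.card (Matrix.SpecialLinearGroup (Fin (m + 1)) F) =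
      Nat.card (Matrix.SpecialLinearGroup (Fin (m + 1)) F₀) * ((∏ i : Fin m, c i) * (q₀ ^ m) ^ (k - 1)) := by
    refine mul_left_cancel₀ (b := Nat.card (Matrix.SpecialLinearGroup (Fin (m + 1)) F))
      (show (∑ l ∈ Finset.range k, q₀ ^ l) * (q₀ - 1) ≠ 0 from ?_) ?_
    · rw [geom_sum_mul_of_one_le hq₀1.le k]
      exact Nat.sub_ne_zero_of_lt (Nat.one_lt_pow hk0 hq₀1)
    · simp only [Fin.val_castSucc] at e1
      linear_combination e1
  have hdvd : Nat.card (Matrix.SpecialLinearGroup (Fin (m + 1)) F₀) ∣ Nat.card H := by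
    have hinj : Function.Injective (Matrix.SpecialLinearGroup.map (n := Fin (m + 1)) F₀.subtype) := fun A B h =>
      Subtype.ext (Matrix.ext fun i j => Subtype.ext (congrFun (congrFun (congrArg Subtype.val h) i) j))
    rw [Nat.card_congr (MonoidHom.ofInjective hinj).toEquiv]
    exact Subgroup.card_dvd_of_le (by rintro _ ⟨A, rfl⟩; exact hH A)
  have e4 := Nat.mul_dvd_mul hdiv hdvd
  rw [H.index_mul_card, e3, mul_comm, Nat.mul_dvd_mul_iff_left Nat.card_pos] at e4
  rcases hr.out.prime.dvd_mul.1 e4 with h | h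
  swap
  · exact hrq (hr.out.dvd_of_dvd_pow (hr.out.dvd_of_dvd_pow h))
  obtain ⟨i, -, hi⟩ := (hr.out.prime.dvd_finsetProd_iff _).1 h
  rw [hc] at hi
  rcases hr.out.prime.dvd_mul.1 hi with h | h
  · exact hrq (hr.out.dvd_of_dvd_pow (hr.out.dvd_of_dvd_pow h))
  obtain ⟨a, ha⟩ : ∃ a : ZMod r, a = (q₀ : ZMod r) ^ (m + 1 - (i : ℕ)) := ⟨_, rfl⟩
  have h0 := (ZMod.natCast_eq_zero_iff _ r).2 h
  push_cast at h0
  rw [← ha] at h0
  have h1 : a ^ k = 1 := by rw [← sub_eq_zero, ← geom_sum_mul, h0, zero_mul]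
  have h2 : a = 1 := ha ▸ hvac _ (by omega) (by omega) (ha ▸ h1)
  simp only [h2, one_pow, Finset.sum_const, Finset.card_range, nsmul_one] at h0
  exact hrk ((ZMod.natCast_eq_zero_iff _ r).1 h0)

theorem frob_apply [Finite F] (F₀ : Subfield F) (t : F) : frobRel F₀ t = t ^ Nat.card F₀ := by
  letI := Fintype.ofFinite F₀
  rw [Nat.card_eq_fintype_card]
  rfl

theorem pow_eq_one_of_frob [Finite F] (F₀ : Subfield F) {t : F} (ht : t ≠ 0) (h : frobRel F₀ t = t) :
    t ^ (Nat.card F₀ - 1) = 1 := by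
  have h1 : 0 < Nat.card F₀ := Nat.card_pos
  rw [frob_apply, ← Nat.sub_add_cancel h1, pow_succ] at h
  exact (mul_eq_right₀ ht).1 h

theorem frob_eq_of_pow [Finite F] (F₀ : Subfield F) {t : F} (h : t ^ (Nat.card F₀ - 1) = 1) : t ∈ F₀ := by
  refine mem_of_frobRel_eq F₀ ?_
  rw [frob_apply, ← Nat.sub_add_cancel (Nat.card_pos (α := F₀)), pow_succ, h, one_mul]

/-- A rational conjugate gives a characteristic polynomial over the subfield. -/
theorem rat_charpoly (F₀ : Subfield F) (x g : GLn) (h : RatG F₀ (g⁻¹ * x * g)) :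
    ∃ c : F, c ≠ 0 ∧ ∃ A : Matrix (Fin n) (Fin n) F₀, A.map F₀.subtype = c • (g⁻¹ * x * g).val ∧
      (c • x.val).charpoly = A.charpoly.map F₀.subtype := by
  obtain ⟨c, hc, h⟩ := h
  obtain ⟨A, hA⟩ : ∃ A : Matrix (Fin n) (Fin n) F₀, A = Matrix.of fun i j => ⟨_, h i j⟩ := ⟨_, rfl⟩
  have hm : A.map F₀.subtype = c • (g⁻¹ * x * g).val := by rw [hA]; rfl
  refine ⟨c, hc, A, hm, ?_⟩
  rw [← Matrix.charpoly_map, hm, Units.val_mul, Units.val_mul, ← Matrix.smul_mul, ← Matrix.mul_smul,
    Matrix.coe_units_inv, Matrix.charpoly_units_conj']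

/-- Diagonal elements with a rational conjugate: the Frobenius keeps multiplicities. -/
theorem rat_diag [Finite F] [DecidableEq F] (F₀ : Subfield F) (d : Fin n → F) {x g : GLn}
    (hx : x.val = Matrix.diagonal d) (h : RatG F₀ (g⁻¹ * x * g)) :
    ∃ c : F, c ≠ 0 ∧ ∀ a, ∃ b, frobRel F₀ (c * d a) = c * d b ∧
      (Finset.univ.filter fun l => d l = d b).card = (Finset.univ.filter fun l => d l = d a).card := by
  obtain ⟨c, hc, A, -, hA⟩ := rat_charpoly F₀ x g h
  refine ⟨c, hc, fun a => ?_⟩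
  rw [hx, ← Matrix.diagonal_smul, Matrix.charpoly_diagonal] at hA
  have h1 := congrArg (Polynomial.map (frobRel F₀)) hA
  rw [Polynomial.map_map, show (frobRel F₀).comp F₀.subtype = F₀.subtype from RingHom.ext (frobRel_mem F₀), ← hA,
    Polynomial.map_prod] at h1
  simp only [Polynomial.map_sub, Polynomial.map_X, Polynomial.map_C, Pi.smul_apply, smul_eq_mul] at h1
  have h2 : ∀ e : Fin n → F, (∏ j, (Polynomial.X - Polynomial.C (e j))).roots = Finset.univ.val.map e := fun e => by
    rw [← Polynomial.roots_multiset_prod_X_sub_C (Finset.univ.val.map e), Multiset.map_map]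
    rfl
  have h3 := congrArg Polynomial.roots h1
  rw [h2, h2] at h3
  have h4 := congrArg (Multiset.count (frobRel F₀ (c * d a))) h3
  simp only [Multiset.count_map, ← Finset.filter_val, Finset.card_val, (frobRel F₀).injective.eq_iff, mul_right_inj' hc,
    eq_comm (a := d a)] at h4
  obtain ⟨b, hb⟩ : (Finset.univ.filter fun l => frobRel F₀ (c * d a) = c * d l).Nonempty := by
    rw [← Finset.card_pos, ← h4, Finset.card_pos]
    exact ⟨a, Finset.mem_filter.2 ⟨Finset.mem_univ _, rfl⟩⟩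
  have hb' := (Finset.mem_filter.1 hb).2
  refine ⟨b, hb', ?_⟩
  rw [h4, hb']
  simp only [mul_right_inj' hc, eq_comm]

/-- Two eigenvalues with multiplicities of their own forbid rationality. -/
theorem diag_not_rat [Finite F] [DecidableEq F] (F₀ : Subfield F) {r : ℕ} [hr : Fact r.Prime]
    (hrF : ¬ r ∣ Nat.card F₀ - 1) (d : Fin n → F) (hd : ∀ j, d j ≠ 0) {z : F} (hz : ∀ j, d j ^ r = z)
    {a b : Fin n} (hab : d a ≠ d b)
    (ha : ∀ j, (Finset.univ.filter fun l => d l = d j).card = (Finset.univ.filter fun l => d l = d a).card → d j = d a)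
    (hb : ∀ j, (Finset.univ.filter fun l => d l = d j).card = (Finset.univ.filter fun l => d l = d b).card → d j = d b)
    {x g : GLn} (hx : x.val = Matrix.diagonal d) (h : RatG F₀ (g⁻¹ * x * g)) : False := by
  obtain ⟨c, hc, hφ⟩ := rat_diag F₀ d hx h
  obtain ⟨a', ha1, ha2⟩ := hφ a
  obtain ⟨b', hb1, hb2⟩ := hφ b
  rw [ha a' ha2] at ha1
  rw [hb b' hb2] at hb1
  obtain ⟨t, ht⟩ : ∃ t, t = d a / d b := ⟨_, rfl⟩
  have htφ : frobRel F₀ t = t := by
    rw [ht, ← mul_div_mul_left _ _ hc, map_div₀, ha1, hb1]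
  have htr : t ^ r = 1 := by rw [ht, div_pow, hz, hz, div_self (hz a ▸ pow_ne_zero _ (hd a))]
  have ht1 : t ≠ 1 := fun h1 => hab ((div_eq_one_iff_eq (hd b)).1 (ht ▸ h1))
  refine hrF ?_
  rw [← orderOf_eq_prime htr ht1]
  exact orderOf_dvd_of_pow_eq_one (pow_eq_one_of_frob F₀ (by rw [ht]; exact div_ne_zero (hd a) (hd b)) htφ)

/-- Two simple eigenvalues: the square of the Frobenius fixes their ratio. -/
theorem pair_frob [Finite F] [DecidableEq F] (F₀ : Subfield F) (d : Fin n → F) (a b : Fin n)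
    (hall : ∀ j, d j = d a ∨ d j = d b)
    {x g : GLn} (hx : x.val = Matrix.diagonal d) (h : RatG F₀ (g⁻¹ * x * g)) :
    frobRel F₀ (frobRel F₀ (d a / d b)) = d a / d b := by
  obtain ⟨c, hc, hφ⟩ := rat_diag F₀ d hx h
  obtain ⟨a', ha1, -⟩ := hφ a
  obtain ⟨b', hb1, -⟩ := hφ b
  rw [← mul_div_mul_left _ _ hc, map_div₀, map_div₀]
  have hinj : d a ≠ d b → frobRel F₀ (c * d a) ≠ frobRel F₀ (c * d b) := fun hne e =>
    hne (mul_left_cancel₀ hc ((frobRel F₀).injective e))
  rcases eq_or_ne (d a) (d b) with e | hne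
  · rw [e]
    rcases eq_or_ne (c * d b) 0 with e0 | e0
    · rw [e0, map_zero, map_zero]
    · rw [div_self e0, div_self (by rw [_root_.map_ne_zero, _root_.map_ne_zero]; exact e0)]
  rcases hall a' with e1 | e1 <;> rw [e1] at ha1 <;> rcases hall b' with e2 | e2 <;> rw [e2] at hb1
  · exact absurd (ha1.trans hb1.symm) (hinj hne)
  · simp only [ha1, hb1]
  · simp only [ha1, hb1]
  · exact absurd (ha1.trans hb1.symm) (hinj hne)

/-- With a scalar `r`th power, the centraliser has every determinant. -/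
theorem centralizer_pow [Fintype F] (hn : 0 < n) {r : ℕ} (hr : (r : F) ≠ 0) {z : F} (hz : z ≠ 0) {A : Mn}
    (hA : A ^ r = z • 1) (δ : F) (hδ : δ ≠ 0) : ∃ C : Mn, C * A = A * C ∧ C.det = δ := by
  obtain ⟨ι, hι, f, hf1, hf2, -, h⟩ := Cfsg.Lib.Linear.PrimeForms.exists_form_pow hr hz hA
  obtain ⟨i⟩ : Nonempty ι := by
    by_contra h0
    haveI := not_nonempty_iff.1 h0
    have := h.sum_natDegree hf1
    rw [Finset.univ_eq_empty, Finset.sum_empty] at this
    omega
  obtain ⟨C, hC, hd⟩ := Cfsg.Lib.Linear.CentralizerDet.exists_det_pow (p := f) (e := fun _ => 1) (fun i => ⟨hf1 i, hf2 i⟩)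
    (by simpa only [pow_one] using h) i (Units.mk0 δ hδ)
  exact ⟨C, hC.symm, by rw [hd, pow_one, Units.val_mk0]⟩

/-- From a rational matrix with the same characteristic polynomial. -/
theorem rat_of_charpoly [Fintype F] (F₀ : Subfield F) {x : GLn} {s : F} (hs : s ≠ 0) {k l : ℕ} (hk : (k : F) ≠ 0)
    (hl : (l : F) ≠ 0) (hxk : (s • x.val) ^ k = 1) (A : Matrix (Fin n) (Fin n) F₀) (hAl : A ^ l = 1)
    (hcp : A.charpoly.map F₀.subtype = (s • x.val).charpoly) : ∃ g : GLn, RatG F₀ (g⁻¹ * x * g) := by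
  obtain ⟨c, hc⟩ := CanonicalForm.isConj_of_charpoly_eq k l hk hl hxk
    (B := A.map F₀.subtype) (by rw [← RingHom.mapMatrix_apply, ← map_pow, hAl, map_one])
    (by rw [Matrix.charpoly_map, hcp])
  refine ⟨c⁻¹, s, hs, fun i j => ?_⟩
  have hc' : c.val * (s • x.val) = A.map F₀.subtype * c.val := hc
  have e : s • (c⁻¹⁻¹ * x * c⁻¹).val = A.map F₀.subtype := by
    rw [inv_inv, Units.val_mul, Units.val_mul, ← Matrix.smul_mul, ← Matrix.mul_smul, hc', mul_assoc, Units.mul_inv, mul_one]
  rw [← smul_eq_mul, ← Matrix.smul_apply, e]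
  exact SetLike.coe_mem _

/-- A root of a degree one invariant factor. -/
theorem exists_root_of_linear {r : ℕ} {z : F} {A : Mn} (hA : A ^ r = z • 1) {ι : Type u} {f : ι → Polynomial F}
    (h : CanonicalForm.HasForm A f) {i : ι} (hm : (f i).Monic) (h1 : (f i).natDegree = 1) : ∃ l : F, l ^ r = z := by
  have hd := (h.aeval_eq_zero_iff (Polynomial.X ^ r - Polynomial.C z)).1
    (by simp [hA, Algebra.algebraMap_eq_smul_one]) i
  rw [hm.eq_X_add_C h1, ← sub_neg_eq_add, ← map_neg, Polynomial.dvd_iff_isRoot, Polynomial.IsRoot, Polynomial.eval_sub,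
    Polynomial.eval_pow, Polynomial.eval_X, Polynomial.eval_C, sub_eq_zero] at hd
  exact ⟨_, hd⟩

end Aux

/-- Elements of odd prime order r ≠ p of PSL_n(q) and subfield subgroups. Here `T = PSL_n(F)` for a field `F` with `q = p^f` elements (`n ≥ 2`, `(n, q) ≠ (2, 2), (2, 3)`), `F₀` is the subfield with `q₀` elements where `q = q₀^k` for a prime `k`, and `H` is the subgroup of matrices of determinant 1 lying in the subfield group of `F₀` (invertible matrices over `F₀` times scalars) — a maximal subgroup of type GL_n(q₀) (the case `n = 2`, `q₀ = 2` is excluded); Ω is the set of `T`-conjugates of `H` (cosets of `H`), so an element of `T` of prime order `r` (a matrix `x` of determinant 1 with `x^r` scalar, `x` not scalar) fixes a point of Ω when some conjugate of `x` by a matrix of determinant 1 lies in `H`. Let `r ≠ p` be an odd prime dividing the index of `H`, with `(n, r) ≠ (6, 3)` and, when `r = k` divides `q₀ − 1`, with `(n)_r ≤ (q − 1)_r`. Then every element of `T`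 of order `r` is conjugate in `T` into `H` if and only if `r = k`, or `k = 2`, `r = n ∈ {3, 5}` and `(q₀ + 1)_r = r`. The two excluded cases, `(n, r) = (6, 3)` and `r = k ∣ q₀ − 1` with `(n)_r > (q − 1)_r`, are ones where this criterion can fail, so they are left out. -/
theorem result {F : Type*} [Field F] [Fintype F] {p : ℕ} [Fact p.Prime] [CharP F p] {q : ℕ} (hq : Fintype.card F = q)
    (n : ℕ) (hn : 2 ≤ n) (hT : (n, q) ≠ (2, 2) ∧ (n, q) ≠ (2, 3))
    (F₀ : Subfield F) (k q₀ : ℕ) (hk : k.Prime) (hF₀ : Nat.card ↥F₀ = q₀) (hqk : q = q₀ ^ k) (hC5 : ¬ (n = 2 ∧ q₀ = 2)) (r : ℕ) [Fact r.Prime] (hr2 : r ≠ 2) (hrp : r ≠ p) (hgap : ¬ (n = 6 ∧ r = 3)) (hgapk : r = k → r ∣ q₀ - 1 → padicValNat r n ≤ padicValNat r (q - 1)) (hΩ : r ∣ ((Cfsg.Geo.subfieldSubgroup F₀ 1).comap (Matrix.SpecialLinearGroup.toGL : Matrix.SpecialLinearGroup (Fin n) F →* GL (Fin n) F)).index) :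
    (∀ x : Matrix.SpecialLinearGroup (Fin n) F,
      (∃ z : F, ((x ^ r : Matrix.SpecialLinearGroup (Fin n) F) : Matrix (Fin n) (Fin n) F) = z • (1 : Matrix (Fin n) (Fin n) F)) →
      (∀ z : F, (x : Matrix (Fin n) (Fin n) F) ≠ z • (1 : Matrix (Fin n) (Fin n) F)) →
      ∃ P : Matrix.SpecialLinearGroup (Fin n) F, P⁻¹ * x * P ∈ ((Cfsg.Geo.subfieldSubgroup F₀ 1).comap (Matrix.SpecialLinearGroup.toGL : Matrix.SpecialLinearGroup (Fin n) F →* GL (Fin n) F))) ↔
    (r = k ∨ (k = 2 ∧ r = n ∧ (n = 3 ∨ n = 5) ∧ padicValNat r (q₀ + 1) = 1)) := by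
  classical
  subst hq
  have hrP : r.Prime := Fact.out
  haveI : NeZero n := ⟨by omega⟩
  have hrq : ¬ r ∣ Fintype.card F := fun h => by
    obtain ⟨e, -, he⟩ := FiniteField.card F p
    rw [he] at h
    exact hrp ((Nat.prime_dvd_prime_iff_eq hrP Fact.out).1 (hrP.dvd_of_dvd_pow h))
  have hrF : (r : F) ≠ 0 := fun h =>
    hrp ((Nat.prime_dvd_prime_iff_eq Fact.out hrP).1 ((CharP.cast_eq_zero_iff F p r).1 h)).symm
  letI := Fintype.ofFinite F₀
  have hq₀ : Fintype.card F₀ = q₀ := by rw [← Nat.card_eq_fintype_card, hF₀]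
  have hq₀1 : 1 < q₀ := hq₀ ▸ Fintype.one_lt_card
  have hrq₀ : ¬ r ∣ q₀ := fun h => hrq (hqk ▸ dvd_pow h hk.ne_zero)
  have hqz : (Fintype.card F : ZMod r) = (q₀ : ZMod r) ^ k := by rw [hqk, Nat.cast_pow]
  have hsub : ∀ a : ℕ, 1 ≤ a → ((a : ZMod r) = 1 ↔ r ∣ a - 1) := fun a ha => by
    rw [← ZMod.natCast_eq_zero_iff, Nat.cast_sub ha, Nat.cast_one, sub_eq_zero]
  let L := AlgebraicClosure F
  have hrL : ((r : ℕ) : L) ≠ 0 := by
    rw [← map_natCast (algebraMap F L), _root_.map_ne_zero]; exact hrF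
  haveI : NeZero ((r : ℕ) : L) := ⟨hrL⟩
  obtain ⟨ζ, hζ⟩ := HasEnoughRootsOfUnity.exists_primitiveRoot L r
  have hqne : (Fintype.card F : ZMod r) ≠ 0 := fun h => hrq ((ZMod.natCast_eq_zero_iff _ _).1 h)
  let uq : (ZMod r)ˣ := Units.mk0 _ hqne
  have huq : (uq : ZMod r) = (Fintype.card F : ZMod r) := rfl
  have hmap : (algebraMap F L).comp F₀.subtype = algebraMap F₀ L := (IsScalarTower.algebraMap_eq F₀ F L).symm
  have hmem : ∀ g : GL (Fin n) F, g ∈ Cfsg.Geo.subfieldSubgroup F₀ 1 ↔ RatG F₀ g :=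
    fun g => mem_subfieldSubgroup_one F₀ g
  constructor
  · intro hall
    by_contra hne
    push Not at hne
    obtain ⟨hrk, hex⟩ := hne
    suffices hw : ∃ x ∈ Cfsg.Geo.specialLinear (Fin n) F, (∃ z : F, ((x ^ r : GL (Fin n) F) : Matrix (Fin n) (Fin n) F) = z • 1) ∧
        (∀ z : F, x.val ≠ z • (1 : Matrix (Fin n) (Fin n) F)) ∧ ∀ g : GL (Fin n) F, ¬ RatG F₀ (g⁻¹ * x * g) by
      obtain ⟨x, hx, ⟨z, hz⟩, hxn, hbad⟩ := hw
      obtain ⟨X, hX⟩ : ∃ X : Matrix.SpecialLinearGroup (Fin n) F, (X : Matrix (Fin n) (Fin n) F) = x.val :=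
        ⟨⟨x.val, (sl_iff x).1 hx⟩, rfl⟩
      rw [Units.val_pow_eq_pow_val] at hz
      obtain ⟨P, hP⟩ := hall X ⟨z, by rw [Matrix.SpecialLinearGroup.coe_pow, hX]; exact hz⟩ (hX.symm ▸ hxn)
      have e : Matrix.SpecialLinearGroup.toGL X = x := Units.ext hX
      rw [Subgroup.mem_comap, hmem, map_mul, map_mul, map_inv, e] at hP
      exact hbad _ hP
    obtain ⟨j, hj2, hjn, hjq, hjq₀⟩ : ∃ j, 2 ≤ j ∧ j ≤ n ∧ ((q₀ : ZMod r) ^ j) ^ k = 1 ∧ (q₀ : ZMod r) ^ j ≠ 1 := by
      by_contra hno
      push Not at hno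
      refine not_dvd_index (m := n - 1) F₀ (by omega) hF₀ hqk hrq₀ (fun h => hrk ((Nat.prime_dvd_prime_iff_eq hrP hk).1 h))
        hno _ (fun A => ?_) hΩ
      rw [Subgroup.mem_comap, hmem]
      exact ⟨1, one_ne_zero, fun a b => by rw [one_mul]; exact (A a b).2⟩
    rw [← pow_mul, mul_comm, pow_mul, ← hqz] at hjq
    have hq₀ne : (q₀ : ZMod r) ≠ 1 := fun h => hjq₀ (by rw [h, one_pow])
    have hr₀ : ¬ r ∣ Nat.card F₀ - 1 := fun h => hq₀ne ((hsub _ hq₀1.le).2 (hF₀ ▸ h))
    by_cases hr1 : r ∣ Fintype.card F - 1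
    swap
    · have hin : orderOf uq ≤ j :=
        Nat.le_of_dvd (by omega) (orderOf_dvd_of_pow_eq_one (Units.ext (by rw [Units.val_pow_eq_pow_val, huq, hjq, Units.val_one])))
      have hf := orbit_fun uq 1 (n - orderOf uq)
      rw [mul_one, Nat.add_sub_cancel' (hin.trans hjn)] at hf
      have h11 : (1 : ZMod r) ∈ orbit uq 1 := mem_orbit.2 ⟨0, by simp⟩
      obtain ⟨x, hx, hxr, hxn, hxc⟩ := exists_elt hr1 hζ huq hf (by simp [h11])
      refine ⟨x, hx, ⟨1, by rw [hxr, Units.val_one, one_smul]⟩, hxn, fun g h => ?_⟩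
      obtain ⟨c, hc, A, hA, hAc⟩ := rat_charpoly F₀ x g h
      have hcr : c ^ r ∈ F₀ := by
        have h1 := congrArg (· ^ r) hA
        simp only [_root_.smul_pow, ← Units.val_pow_eq_pow_val] at h1
        rw [show (g⁻¹ * x * g) ^ r = g⁻¹ * x ^ r * g⁻¹⁻¹ by rw [← conj_pow, inv_inv], hxr, mul_one, mul_inv_cancel,
          Units.val_one, ← RingHom.mapMatrix_apply, ← map_pow] at h1
        have h2 := congrFun (congrFun h1 0) 0
        rw [Matrix.smul_apply, Matrix.one_apply_eq, smul_eq_mul, mul_one] at h2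
        rw [← h2]
        exact SetLike.coe_mem _
      have hcF : c ∈ F₀ := frob_eq_of_pow F₀ (root_one hr1 (by
        rw [← pow_mul, mul_comm, pow_mul]
        exact pow_eq_one_of_frob F₀ (pow_ne_zero _ hc) (frobRel_mem F₀ ⟨_, hcr⟩)))
      obtain ⟨B, hB'⟩ : ∃ B : Matrix (Fin n) (Fin n) F₀, B = (⟨c, hcF⟩ : F₀)⁻¹ • A := ⟨_, rfl⟩
      have hBc : B.charpoly.map (algebraMap F₀ L) = x.val.charpoly.map (algebraMap F L) := by
        rw [← hmap, ← Polynomial.map_map]
        refine congrArg (Polynomial.map (algebraMap F L)) ?_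
        rw [← Matrix.charpoly_map, hB',
          show ((⟨c, hcF⟩ : F₀)⁻¹ • A).map F₀.subtype = c⁻¹ • A.map F₀.subtype by ext a b; simp, hA, smul_smul,
          inv_mul_cancel₀ hc, one_smul, Units.val_mul, Units.val_mul, Matrix.coe_units_inv, Matrix.charpoly_units_conj']
      have hq₀z : ((q₀ : ℕ) : ZMod r) ≠ 0 := fun h => hrq₀ ((ZMod.natCast_eq_zero_iff _ _).1 h)
      have h3 := Pm_frob_invariant (F := F₀) hζ (u := Units.mk0 _ hq₀z) (by rw [Units.val_mk0, hq₀]) _ B.charpoly
        (hBc.trans hxc) 1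
      simp only [mul_one, Units.val_mk0, one_ne_zero, if_false, h11, if_true, hq₀z] at h3
      have hmemo : (q₀ : ZMod r) ∈ orbit uq 1 := by
        by_contra hnm
        rw [if_neg hnm] at h3
        omega
      obtain ⟨i, hi⟩ := mem_orbit.1 hmemo
      refine hjq₀ ?_
      rw [hi, mul_one, huq, ← pow_mul, mul_comm, pow_mul, hjq, one_pow]
    · have hq1 : (Fintype.card F : ZMod r) = 1 := (hsub _ Fintype.card_pos).2 hr1
      obtain ⟨w, hw⟩ := exists_prime_orderOf_dvd_card' (G := Fˣ) r (by rwa [Nat.card_eq_fintype_card, Fintype.card_units])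
      obtain ⟨ω, hω⟩ : ∃ ω : F, ω = w := ⟨_, rfl⟩
      have hwp : IsPrimitiveRoot ω r := by
        rw [hω, IsPrimitiveRoot.coe_units_iff, ← hw]; exact IsPrimitiveRoot.orderOf w
      have hω0 : ω ≠ 0 := hω ▸ w.ne_zero
      have hr3 : 3 ≤ r := by have := hrP.two_le; omega
      have hω1 : ω ≠ 1 := hwp.ne_one (by omega)
      have hω2 : ω ^ 2 ≠ 1 := hwp.pow_ne_one_of_pos_of_lt two_ne_zero (by omega)
      rcases eq_or_lt_of_le hn with hn2 | hn3
      · subst hn2
        obtain rfl : j = 2 := le_antisymm hjn hj2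
        obtain ⟨d, hd⟩ : ∃ d : Fin 2 → F, d = ![ω, ω⁻¹] := ⟨_, rfl⟩
        have hd0 : d 0 = ω := by rw [hd]; rfl
        have hd1 : d 1 = ω⁻¹ := by rw [hd]; rfl
        have hne : d 0 ≠ d 1 := fun e => hω2 (by
          rw [hd0, hd1] at e
          rw [pow_two]
          nth_rw 1 [e]
          exact inv_mul_cancel₀ hω0)
        obtain ⟨x, hx, hxr, hxn, hxm⟩ := diag_witness (r := r) d (by rw [Fin.prod_univ_two, hd0, hd1, mul_inv_cancel₀ hω0])
          (z := 1) (Fin.forall_fin_two.2 ⟨by rw [hd0]; exact hwp.pow_eq_one,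
            by rw [hd1, _root_.inv_pow, hwp.pow_eq_one, inv_one]⟩) hne
        refine ⟨x, hx, hxr, hxn, fun g h => ?_⟩
        have h1 := pair_frob F₀ d 0 1 (Fin.forall_fin_two.2 ⟨Or.inl rfl, Or.inr rfl⟩) hxm h
        rw [frob_apply, frob_apply, ← pow_mul, hF₀, ← pow_two, hd0, hd1, div_inv_eq_mul, ← pow_two, ← pow_mul] at h1
        refine hjq₀ ?_
        have h2 : ((2 * q₀ ^ 2 : ℕ) : ZMod r) = ((2 : ℕ) : ZMod r) := by
          rw [ZMod.natCast_eq_natCast_iff, hwp.eq_orderOf]
          exact ((hwp.isOfFinOrder hrP.ne_zero).pow_eq_pow_iff_modEq).1 h1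
        push_cast at h2
        refine (mul_eq_left₀ ?_).1 h2
        exact Cfsg.Agent.Lib.Linear.PrimeClasses.two_ne_zero_zmod hr2
      have hcnt : ∀ k, k ≤ n → (Finset.univ.filter fun j : Fin n => (j : ℕ) < k).card = k := fun k hk => by
        rw [show (Finset.univ.filter fun j : Fin n => (j : ℕ) < k) = (Finset.univ : Finset (Fin k)).map (Fin.castLEEmb hk) by
          ext j; simp only [Finset.mem_filter, Finset.mem_univ, true_and, Finset.mem_map]
          exact ⟨fun h => ⟨⟨j, h⟩, Fin.ext rfl⟩, fun ⟨l, hl⟩ => hl ▸ l.2⟩, Finset.card_map, Finset.card_univ, Fintype.card_fin]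
      have hcnt' : ∀ k, k ≤ n → (Finset.univ.filter fun j : Fin n => ¬ (j : ℕ) < k).card = n - k := fun k hk => by
        have h1 := Finset.card_filter_add_card_filter_not (s := (Finset.univ : Finset (Fin n))) fun j : Fin n => (j : ℕ) < k
        rw [hcnt k hk, Finset.card_univ, Fintype.card_fin] at h1
        omega
      have two : ∀ (k : ℕ) (a b : F), 0 < k → k < n → k + k ≠ n → a ≠ b → a ^ k * b ^ (n - k) = 1 → a ^ r = b ^ r → a ≠ 0 →
          ∃ x ∈ Cfsg.Geo.specialLinear (Fin n) F, (∃ z : F, ((x ^ r : GL (Fin n) F) : Matrix (Fin n) (Fin n) F) = z • 1) ∧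
            (∀ z : F, x.val ≠ z • (1 : Matrix (Fin n) (Fin n) F)) ∧ ∀ g : GL (Fin n) F, ¬ RatG F₀ (g⁻¹ * x * g) := by
        intro k a b hk0 hkn hkk hne hprod hpow ha0
        have hb0 : b ≠ 0 := fun h => by rw [h, zero_pow (by omega), mul_zero] at hprod; exact zero_ne_one hprod
        obtain ⟨d, hd⟩ : ∃ d : Fin n → F, ∀ j : Fin n, d j = if (j : ℕ) < k then a else b := ⟨_, fun _ => rfl⟩
        have hi : d ⟨0, by omega⟩ = a := by rw [hd, if_pos hk0]
        have hj : d ⟨k, hkn⟩ = b := by rw [hd, if_neg (lt_irrefl k)]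
        have hpows : ∀ j, d j ^ r = b ^ r := fun j => by rw [hd]; split_ifs <;> simp [hpow]
        obtain ⟨x, hx, hxr, hxn, hxm⟩ := diag_witness (r := r) d (by
          simp only [hd]; rw [Finset.prod_ite, Finset.prod_const, Finset.prod_const, hcnt k hkn.le, hcnt' k hkn.le, hprod])
          hpows (i := ⟨0, by omega⟩) (j := ⟨k, hkn⟩) (by rw [hi, hj]; exact hne)
        refine ⟨x, hx, hxr, hxn, fun g h => ?_⟩
        have hSa : ∀ j, d j = a → (Finset.univ.filter fun l => d l = d j).card = k := fun j e => by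
          refine (congrArg Finset.card (Finset.filter_congr fun l _ => ?_)).trans (hcnt k hkn.le)
          rw [e, hd]; split_ifs with hl <;> simp [hl, hne.symm]
        have hSb : ∀ j, d j = b → (Finset.univ.filter fun l => d l = d j).card = n - k := fun j e => by
          refine (congrArg Finset.card (Finset.filter_congr fun l _ => ?_)).trans (hcnt' k hkn.le)
          rw [e, hd]; split_ifs with hl <;> simp [hl, hne]
        have hab' : ∀ j, d j = a ∨ d j = b := fun j => by rw [hd]; split_ifs <;> simp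
        refine diag_not_rat F₀ hr₀ d (fun j => by rw [hd]; split_ifs <;> assumption) hpows (a := ⟨0, by omega⟩)
          (b := ⟨k, hkn⟩) (by rw [hi, hj]; exact hne) (fun j e => ?_) (fun j e => ?_) hxm h
        · rcases hab' j with e' | e'
          · rw [e', hi]
          · rw [hSb j e', hSa _ hi] at e; omega
        · rcases hab' j with e' | e'
          · rw [hSa j e', hSb _ hj] at e; omega
          · rw [e', hj]
      by_cases hrn : r ∣ n
      swap
      · obtain ⟨k', hk'⟩ : ∃ k' : ℕ, ((k' : ZMod r) * n) = -1 := by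
          have h0 : (n : ZMod r) ≠ 0 := fun h => hrn ((ZMod.natCast_eq_zero_iff _ _).1 h)
          exact ⟨(-(n : ZMod r)⁻¹).val, by rw [ZMod.natCast_zmod_val, neg_mul, inv_mul_cancel₀ h0]⟩
        have hb0 : (ω ^ k') ≠ 0 := pow_ne_zero _ hω0
        have hkn : ω ^ (k' * n + 1) = 1 := by
          rw [hwp.pow_eq_one_iff_dvd, ← ZMod.natCast_eq_zero_iff]
          push_cast; rw [hk', neg_add_cancel]
        refine two 1 (ω ^ (k' + 1)) (ω ^ k') one_pos (by omega) (by omega) (fun h => hω1 ?_) ?_ ?_ (pow_ne_zero _ hω0)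
        · rw [pow_succ] at h
          exact (mul_eq_left₀ hb0).1 h
        · rw [pow_one, ← pow_mul, ← pow_add, ← hkn]
          congr 1
          have : k' * (n - 1) + k' = k' * n := by rw [← Nat.mul_succ, show (n - 1).succ = n by omega]
          omega
        · rw [← pow_mul, ← pow_mul, mul_comm (k' + 1), mul_comm k', pow_mul, pow_mul, hwp.pow_eq_one, one_pow, one_pow]
      by_cases hv2 : n = r ∧ (n = 3 ∨ n = 5)
      · obtain ⟨hnr', h35⟩ := hv2
        obtain rfl : k = 2 := by
          have h1 : orderOf (q₀ : ZMod r) = k := by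
            haveI : Fact k.Prime := ⟨hk⟩
            exact orderOf_eq_prime (hqz.symm.trans hq1) hq₀ne
          have h2 : k ∣ r - 1 := h1 ▸ orderOf_dvd_of_pow_eq_one (ZMod.pow_card_sub_one_eq_one fun h => by
            rw [h, zero_pow hk.ne_zero, hq1] at hqz; exact one_ne_zero hqz)
          have h3 : k ∣ 2 ^ 2 := h2.trans (by rcases h35 with e | e <;> rw [← hnr', e] <;> decide)
          exact (Nat.prime_dvd_prime_iff_eq hk Nat.prime_two).1 (hk.dvd_of_dvd_pow h3)
        have hv : padicValNat r (Fintype.card F - 1) ≠ 1 := fun h => hex rfl hnr'.symm (by omega) (by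
          rw [hqk, show q₀ ^ 2 - 1 = (q₀ + 1) * (q₀ - 1) by rw [← one_pow 2, Nat.sq_sub_sq, one_pow],
            padicValNat.mul (by omega) (by omega), padicValNat.eq_zero_of_not_dvd (n := q₀ - 1) (hF₀ ▸ hr₀),
            Nat.add_zero] at h
          exact h)
        obtain ⟨v, hv⟩ : ∃ v : Fˣ, orderOf v = r ^ 2 := by
          have h1 : r ^ 2 ∣ Fintype.card F - 1 := by
            have h0 : padicValNat r (Fintype.card F - 1) ≠ 0 := fun h0 => by
              rcases padicValNat.eq_zero_iff.1 h0 with h | h | h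
              · exact hrP.ne_one h
              · have := Fintype.one_lt_card (α := F); omega
              · exact h hr1
            exact (pow_dvd_pow r (by omega : 2 ≤ padicValNat r (Fintype.card F - 1))).trans pow_padicValNat_dvd
          obtain ⟨gen, hgen⟩ := IsCyclic.exists_generator (α := Fˣ)
          have ho : orderOf gen = Fintype.card F - 1 := by
            rw [orderOf_eq_card_of_forall_mem_zpowers hgen, Nat.card_eq_fintype_card, Fintype.card_units]
          obtain ⟨t, ht⟩ := h1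
          refine ⟨gen ^ t, ?_⟩
          have ht0 : t ≠ 0 := fun h0 => by rw [h0, mul_zero] at ht; have := Fintype.one_lt_card (α := F); omega
          rw [orderOf_pow' gen ht0, ho, ht, Nat.gcd_eq_right ⟨_, mul_comm _ _⟩, Nat.mul_div_cancel _ (Nat.pos_of_ne_zero ht0)]
        obtain ⟨u, hu⟩ : ∃ u : F, u = v := ⟨_, rfl⟩
        have hup : IsPrimitiveRoot u (r ^ 2) := by
          rw [hu, IsPrimitiveRoot.coe_units_iff, ← hv]; exact IsPrimitiveRoot.orderOf v
        have hu0 : u ≠ 0 := hu ▸ v.ne_zero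
        refine two 1 (u ^ (r - 1)) u⁻¹ one_pos (by omega) (by omega) (fun h => ?_) ?_ ?_ (pow_ne_zero _ hu0)
        · have h3 : u ^ r = 1 := by rw [← pow_sub_one_mul (by omega : r ≠ 0) u, h, inv_mul_cancel₀ hu0]
          exact hup.pow_ne_one_of_pos_of_lt (by omega) (by rw [pow_two]; nlinarith) h3
        · rw [pow_one, hnr', ← mul_pow, mul_inv_cancel₀ hu0, one_pow]
        · rw [← pow_mul, _root_.inv_pow]
          refine eq_inv_of_mul_eq_one_left ?_
          rw [← pow_add, ← Nat.succ_mul, show (r - 1).succ = r by omega, ← pow_two]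
          exact hup.pow_eq_one
      have hn6 : 6 ≤ n := by
        obtain ⟨m, rfl⟩ := hrn
        rcases Nat.lt_or_ge m 2 with hm | hm
        · interval_cases m
          · omega
          · by_contra h
            push Not at h
            refine hv2 ⟨mul_one r, ?_⟩
            have : r ≠ 4 := fun e => by rw [e] at hrP; norm_num at hrP
            omega
        · nlinarith
      by_cases hr3' : r = 3
      · subst hr3'
        have hn9 : 9 ≤ n := by
          obtain ⟨m, rfl⟩ := hrn
          by_contra h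
          have hm : m ≤ 2 := by omega
          interval_cases m
          · omega
          · omega
          · exact hgap ⟨rfl, rfl⟩
        refine two 3 ω 1 (by omega) (by omega) (by omega) hω1 ?_ ?_ hω0
        · rw [one_pow, mul_one]; exact hwp.pow_eq_one
        · rw [one_pow]; exact hwp.pow_eq_one
      · have hr5 : 5 ≤ r := by
          have : r ≠ 4 := fun h => by rw [h] at hrP; norm_num at hrP
          omega
        obtain ⟨c, hc⟩ : ∃ c : F, c = ω ^ (r - 2) := ⟨_, rfl⟩
        have hc2 : ω ^ 2 * c = 1 := by rw [hc, ← pow_add, show 2 + (r - 2) = r by omega, hwp.pow_eq_one]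
        have hcω : c ≠ ω := fun h => hwp.pow_ne_one_of_pos_of_lt (l := 3) (by omega) (by omega) (by rw [h] at hc2; linear_combination hc2)
        have hc1 : c ≠ 1 := fun h => hω2 (by rw [h, mul_one] at hc2; exact hc2)
        have hc0 : c ≠ 0 := right_ne_zero_of_mul (hc2.trans_ne one_ne_zero)
        obtain ⟨d, hd⟩ : ∃ d : Fin n → F, ∀ j : Fin n, d j = if (j : ℕ) = 0 then c else if (j : ℕ) < 3 then ω else 1 :=
          ⟨_, fun _ => rfl⟩
        have hS0 : ∀ j : Fin n, d j = c ↔ (j : ℕ) = 0 := fun j => by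
          rw [hd]; split_ifs with e e'
          exacts [iff_of_true rfl e, iff_of_false hcω.symm e, iff_of_false hc1.symm e]
        have hS1 : ∀ j : Fin n, d j = ω ↔ (j : ℕ) ≠ 0 ∧ (j : ℕ) < 3 := fun j => by
          rw [hd]; split_ifs with e e'
          exacts [iff_of_false hcω fun h => h.1 e, iff_of_true rfl ⟨e, e'⟩, iff_of_false hω1.symm fun h => e' h.2]
        have hS2 : ∀ j : Fin n, d j = 1 ↔ ¬ (j : ℕ) < 3 := fun j => by
          rw [hd]; split_ifs with e e'
          exacts [iff_of_false hc1 (by omega), iff_of_false hω1 (not_not.2 e'), iff_of_true rfl e']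
        have hC0 : (Finset.univ.filter fun l => d l = c).card = 1 := by
          rw [Finset.filter_congr fun l _ => hS0 l]
          exact Finset.card_eq_one.2 ⟨⟨0, by omega⟩, by
            ext j; simp only [Finset.mem_filter, Finset.mem_univ, true_and, Finset.mem_singleton, Fin.ext_iff]⟩
        have hC1 : (Finset.univ.filter fun l => d l = ω).card = 2 := by
          rw [Finset.filter_congr fun l _ => hS1 l]
          exact Finset.card_eq_two.2 ⟨⟨1, by omega⟩, ⟨2, by omega⟩, fun h => absurd (congrArg Fin.val h) (by show (1 : ℕ) ≠ 2; omega), by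
            ext j; simp only [Finset.mem_filter, Finset.mem_univ, true_and, Finset.mem_insert, Finset.mem_singleton, Fin.ext_iff]; omega⟩
        have hC2 : (Finset.univ.filter fun l => d l = 1).card = n - 3 := by
          rw [Finset.filter_congr fun l _ => hS2 l]; exact hcnt' 3 (by omega)
        have hd0 : d ⟨0, by omega⟩ = c := (hS0 _).2 rfl
        have hd1 : d ⟨1, by omega⟩ = ω := (hS1 _).2 ⟨one_ne_zero, by show (1 : ℕ) < 3; omega⟩
        have hd3 : d ⟨3, by omega⟩ = 1 := (hS2 _).2 (lt_irrefl 3)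
        have hvals : ∀ j, d j = c ∨ d j = ω ∨ d j = 1 := fun j => by rw [hd]; split_ifs <;> simp
        have hpows : ∀ j, d j ^ r = 1 := fun j => by
          rcases hvals j with h | h | h <;> rw [h]
          · rw [hc, ← pow_mul, mul_comm, pow_mul, hwp.pow_eq_one, one_pow]
          · exact hwp.pow_eq_one
          · exact one_pow _
        obtain ⟨x, hx, hxr, hxn, hxm⟩ := diag_witness (r := r) d (by
          rw [← Finset.prod_fiberwise_of_maps_to (t := {c, ω, 1}) (g := d) fun j _ => by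
            simpa using hvals j]
          rw [Finset.prod_insert (by simp [hcω, hc1]), Finset.prod_insert (by simp [hω1]), Finset.prod_singleton]
          have e : ∀ a : F, ∏ j ∈ Finset.univ.filter (fun l => d l = a), d j = a ^ (Finset.univ.filter fun l => d l = a).card :=
            fun a => by rw [Finset.prod_congr rfl fun j hj => (Finset.mem_filter.1 hj).2, Finset.prod_const]
          rw [e, e, e, hC0, hC1, hC2, one_pow, pow_one]
          linear_combination hc2) hpows (i := ⟨1, by omega⟩) (j := ⟨3, by omega⟩) (by rw [hd1, hd3]; exact hω1)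
        refine ⟨x, hx, hxr, hxn, fun g h => ?_⟩
        refine diag_not_rat F₀ hr₀ d (fun j => by
            rcases hvals j with e | e | e <;> rw [e] <;> first | assumption | exact one_ne_zero) hpows
          (a := ⟨1, by omega⟩) (b := ⟨3, by omega⟩) (by rw [hd1, hd3]; exact hω1) (fun j e => ?_) (fun j e => ?_) hxm h
        · rw [hd1] at e ⊢
          rw [hC1] at e
          rcases hvals j with e' | e' | e' <;> rw [e'] at e ⊢ <;> first | (rw [hC0] at e; omega) | (rw [hC2] at e; omega)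
        · rw [hd3] at e ⊢
          rw [hC2] at e
          rcases hvals j with e' | e' | e' <;> rw [e'] at e ⊢ <;> first | (rw [hC0] at e; omega) | (rw [hC1] at e; omega)
  · intro hcase X hX _
    obtain ⟨z, hz⟩ := hX
    rw [Matrix.SpecialLinearGroup.coe_pow] at hz
    obtain ⟨x, hxdef⟩ : ∃ x : GL (Fin n) F, x = Matrix.SpecialLinearGroup.toGL X := ⟨_, rfl⟩
    have hxv : x.val = (X : Matrix (Fin n) (Fin n) F) := by rw [hxdef]; rfl
    rw [← hxv] at hz
    have hxd : x.val.det = 1 := hxv ▸ X.2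
    have hz0 : z ≠ 0 := fun h0 => by
      have h1 := congrArg Matrix.det hz
      rw [Matrix.det_pow, hxd, one_pow, h0, zero_smul, Matrix.det_zero] at h1
      exact one_ne_zero h1
    suffices hw : ∃ g : GL (Fin n) F, RatG F₀ (g⁻¹ * x * g) by
      obtain ⟨g, hg⟩ := hw
      obtain ⟨g', hg', h⟩ := upgrade x g (Cfsg.Geo.subfieldSubgroup F₀ 1)
        (centralizer_pow (by omega) hrF hz0 hz) ((hmem _).2 hg)
      obtain ⟨P, hP⟩ : ∃ P : Matrix.SpecialLinearGroup (Fin n) F, Matrix.SpecialLinearGroup.toGL P = g' :=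
        ⟨⟨g'.val, (sl_iff g').1 hg'⟩, Units.ext rfl⟩
      refine ⟨P, ?_⟩
      rw [Subgroup.mem_comap, map_mul, map_mul, map_inv, ← hxdef, hP]
      exact h
    haveI : CharP F₀ p := (RingHom.charP_iff F₀.subtype Subtype.val_injective p).2 ‹_›
    rcases hcase with rfl | ⟨rfl, hrn, h35, hv⟩
    · have hqq : (Fintype.card F : ZMod r) = (Fintype.card F₀ : ZMod r) := by rw [hqz, hq₀, ZMod.pow_card]
      obtain ⟨l, hl⟩ : ∃ l : F, l ^ r = z := by
        by_cases hr1 : r ∣ Fintype.card F - 1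
        swap
        · exact Cfsg.Lib.Linear.PrimeCriteria.exists_root_of_coprime hr1 hz0
        obtain ⟨ι, hι, f, hfm, hfA, hsum, hcases⟩ :=
          Cfsg.Lib.Linear.PrimeCriteria.split_cases (NeZero.ne n) hrF (⟨x.val, hxd⟩ : Matrix.SpecialLinearGroup (Fin n) F) hz
        have he := Cfsg.Lib.Linear.PrimeCriteria.dvd_sub_one_iff.2 hr1
        rcases hcases with hdeg | ⟨-, -, -, hbad⟩
        swap
        · refine absurd ⟨hgapk rfl ?_, fun h => absurd h hr2⟩ hbad
          rw [← hsub _ hq₀1.le, ← hq₀, ← hqq]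
          exact (hsub _ Fintype.card_pos).2 hr1
        obtain ⟨i⟩ : Nonempty ι := by
          by_contra h0
          haveI := not_nonempty_iff.1 h0
          rw [Finset.univ_eq_empty, Finset.sum_empty] at hsum
          omega
        exact exists_root_of_linear hz hfA (hfm i) ((hdeg i).elim id fun h => h.trans he)
      have hl0 : l ≠ 0 := fun h => hz0 (by rw [← hl, h, zero_pow hrP.ne_zero])
      have hy : (l⁻¹ • x.val) ^ r = 1 := by
        rw [_root_.smul_pow, hz, smul_smul, _root_.inv_pow, hl, inv_mul_cancel₀ hz0, one_smul]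
      obtain ⟨m, hm, hms⟩ := exists_mult (L := L) hζ _ hy
      have hinv := Pm_frob_invariant hζ huq m _ hm
      obtain ⟨A, hA, hAc⟩ := exists_linear (F := F₀) hζ (uq := uq) (huq.trans hqq) uq ⟨1, (pow_one uq).symm⟩ (n := n) ⟨hms, hinv⟩
      refine rat_of_charpoly F₀ (inv_ne_zero hl0) hrF hrF hy A hA ?_
      refine Polynomial.map_injective _ (algebraMap F L).injective ?_
      rw [Polynomial.map_map, hmap, hAc, hm]
    · have hdvd : r ∣ q₀ + 1 := dvd_of_one_le_padicValNat (by omega)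
      have hr₀ : ¬ r ∣ q₀ - 1 := fun h => by
        have h1 := Nat.dvd_sub hdvd h
        rw [show q₀ + 1 - (q₀ - 1) = 2 by omega] at h1
        exact hr2 ((Nat.prime_dvd_prime_iff_eq hrP Nat.prime_two).1 h1)
      have hcard : Fintype.card F - 1 = (q₀ + 1) * (q₀ - 1) := by rw [hqk, ← one_pow 2, Nat.sq_sub_sq, one_pow]
      have hv' : padicValNat r (Fintype.card F - 1) = 1 := by
        rw [hcard, padicValNat.mul (by omega) (by omega), hv, padicValNat.eq_zero_of_not_dvd hr₀]
      obtain ⟨P, d, hP, hd⟩ := exists_diag_prime hrn.symm hr2 hv' x hxd hz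
      obtain ⟨w, hw⟩ := exists_prime_orderOf_dvd_card' (G := Fˣ) r (by
        rw [Nat.card_eq_fintype_card, Fintype.card_units]; exact dvd_of_one_le_padicValNat hv'.ge)
      have hwp : IsPrimitiveRoot (w : F) r := by
        rw [IsPrimitiveRoot.coe_units_iff, ← hw]; exact IsPrimitiveRoot.orderOf w
      choose e he using fun j => exists_zp hwp (hd j)
      have hsum : ∑ j, e j = 0 := by
        refine zp_inj hwp ?_
        rw [zp_zero]
        have h1 : ∀ s : Finset (Fin n), zp (w : F) (∑ j ∈ s, e j) = ∏ j ∈ s, d j := fun s => by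
          induction s using Finset.induction_on with
          | empty => simp [zp_zero]
          | insert a s ha ih => rw [Finset.sum_insert ha, Finset.prod_insert ha, zp_add hwp, ih, he]
        rw [h1 Finset.univ]
        have h3 := congrArg Matrix.det hP
        rw [Matrix.det_mul, Matrix.det_mul, hxd, one_mul, Matrix.det_diagonal] at h3
        exact (mul_eq_left₀ (Matrix.GeneralLinearGroup.det P).ne_zero).1 h3.symm
      have hcs : ∑ x, Fintype.card {j // e j = x} = r := by
        rw [← Fintype.card_sigma, Fintype.card_congr (Equiv.sigmaFiberEquiv e), Fintype.card_fin, hrn]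
      have hws : ∑ x, (Fintype.card {j // e j = x} : ZMod r) * x = 0 := by
        rw [← hsum, ← Finset.sum_fiberwise Finset.univ e e]
        refine Finset.sum_congr rfl fun x _ => ?_
        rw [Finset.sum_congr rfl fun j hj => (Finset.mem_filter.1 hj).2, Finset.sum_const, nsmul_eq_mul,
          Fintype.card_subtype]
      obtain ⟨c, hc⟩ : ∃ c, ∀ x, Fintype.card {j // e j = c - x} = Fintype.card {j // e j = x} := by
        rcases h35 with h | h
        · obtain rfl : r = 3 := hrn.trans h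
          exact Cfsg.Agent.S5981.exists_center_three _ hcs hws
        · obtain rfl : r = 5 := hrn.trans h
          exact Cfsg.Agent.S5981.exists_center_five _ hcs hws
      -- a scalar moving the centre to zero
      obtain ⟨s, hs0, hs⟩ : ∃ s : F, s ≠ 0 ∧ s ^ (q₀ - 1) = zp (w : F) c := by
        obtain ⟨gen, hgen⟩ := IsCyclic.exists_generator (α := Fˣ)
        obtain ⟨i, hi⟩ := mem_powers_iff_mem_zpowers.2 (hgen (Units.mk0 _ (zp_ne_zero hwp c)))
        have hi' : gen ^ i = Units.mk0 _ (zp_ne_zero hwp c) := hi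
        have ho : orderOf gen = Fintype.card F - 1 := by
          rw [orderOf_eq_card_of_forall_mem_zpowers hgen, Nat.card_eq_fintype_card, Fintype.card_units]
        have h1 : gen ^ (i * (q₀ + 1)) = 1 := by
          rw [pow_mul, hi']
          refine Units.ext ?_
          rw [Units.val_pow_eq_pow_val, Units.val_mk0, zp_pow hwp, (ZMod.natCast_eq_zero_iff _ r).2 hdvd, zero_mul,
            zp_zero, Units.val_one]
        have h2 := orderOf_dvd_of_pow_eq_one h1
        rw [ho, hcard, mul_comm (q₀ + 1), Nat.mul_dvd_mul_iff_right (by omega : 0 < q₀ + 1)] at h2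
        obtain ⟨t, rfl⟩ := h2
        refine ⟨(gen ^ t : Fˣ), Units.ne_zero _, ?_⟩
        rw [← Units.val_pow_eq_pow_val, ← pow_mul, mul_comm, hi', Units.val_mk0]
      have hφ : ∀ a, frobRel F₀ (s * zp (w : F) a) = s * zp (w : F) (c - a) := fun a => by
        have hneg : ((q₀ : ℕ) : ZMod r) = -1 := by
          rw [eq_neg_iff_add_eq_zero, ← Nat.cast_one, ← Nat.cast_add, ZMod.natCast_eq_zero_iff]; exact hdvd
        have e1 : s ^ q₀ = zp (w : F) c * s := by rw [← pow_sub_one_mul (by omega : q₀ ≠ 0) s, hs]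
        rw [frob_apply, hF₀, mul_pow, e1, zp_pow hwp, hneg, neg_one_mul, sub_eq_add_neg, zp_add hwp]
        ring
      obtain ⟨G, hG⟩ : ∃ G : Polynomial F, G = ∏ j, (Polynomial.X - Polynomial.C (s * d j)) := ⟨_, rfl⟩
      have hfib : ∀ f : ZMod r → Polynomial F, ∏ j, f (e j) = ∏ a, f a ^ Fintype.card {j // e j = a} := fun f => by
        rw [← Finset.prod_fiberwise Finset.univ e]
        refine Finset.prod_congr rfl fun a _ => ?_
        rw [Finset.prod_congr rfl fun j hj => congrArg f (Finset.mem_filter.1 hj).2, Finset.prod_const, Fintype.card_subtype]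
      have hGφ : G.map (frobRel F₀) = G := by
        simp only [hG, Polynomial.map_prod, Polynomial.map_sub, Polynomial.map_X, Polynomial.map_C, ← he, hφ]
        rw [hfib (fun a => Polynomial.X - Polynomial.C (s * zp (w : F) (c - a))),
          hfib (fun a => Polynomial.X - Polynomial.C (s * zp (w : F) a))]
        exact Fintype.prod_equiv (Equiv.subLeft c) _ _ fun a => by simp [hc]
      have hGl : G ∈ Polynomial.lifts F₀.subtype := by
        rw [Polynomial.lifts_iff_coeff_lifts]
        exact fun i => ⟨⟨G.coeff i, mem_of_frobRel_eq F₀ (by rw [← Polynomial.coeff_map, hGφ])⟩, rfl⟩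
      have hGm : G.Monic := hG ▸ Polynomial.monic_prod_of_monic _ _ fun _ _ => Polynomial.monic_X_sub_C _
      obtain ⟨g₀, hg₀, hdeg, hmon⟩ := Polynomial.lifts_and_degree_eq_and_monic hGl hGm
      have hd0 : ∀ j, d j ≠ 0 := fun j h0 => by simpa [h0, hrP.ne_zero] using hd j
      obtain ⟨A, hAc, m, hmp, hAm⟩ := CanonicalForm.exists_semisimple (n := n) p g₀ hmon (by
          rw [← Polynomial.natDegree_map F₀.subtype, hg₀, hG, Polynomial.natDegree_prod_of_monic _ _ fun _ _ => Polynomial.monic_X_sub_C _,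
            Finset.sum_congr rfl fun j _ => Polynomial.natDegree_X_sub_C _]
          simp) (fun h0 => by
          have h1 : G.coeff 0 = 0 := by rw [← hg₀, Polynomial.coeff_map, h0, map_zero]
          rw [hG, Polynomial.coeff_zero_prod] at h1
          obtain ⟨j, -, hj⟩ := Finset.prod_eq_zero_iff.1 h1
          simp [hs0, hd0 j] at hj)
      have hP' : (P⁻¹).val * x.val * P.val = Matrix.diagonal d := by
        rw [mul_assoc, hP, ← mul_assoc, Units.inv_mul, one_mul]
      have hxr : x.val ^ r = 1 := by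
        have hpow : ∀ i : ℕ, x.val ^ i * P.val = P.val * Matrix.diagonal d ^ i := by
          intro i
          induction i with
          | zero => simp
          | succ i ih => rw [pow_succ, mul_assoc, hP, ← mul_assoc, ih, mul_assoc, ← pow_succ]
        have h1 := hpow r
        rw [Matrix.diagonal_pow, show d ^ r = 1 from funext hd] at h1
        calc x.val ^ r = x.val ^ r * P.val * (P⁻¹).val := by rw [mul_assoc, Units.mul_inv, mul_one]
          _ = 1 := by rw [h1]; simp
      have hm0 : (m : F) ≠ 0 := fun h0 =>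
        (Fact.out : p.Prime).ne_one (Nat.eq_one_of_dvd_coprimes hmp ((CharP.cast_eq_zero_iff F p m).1 h0) dvd_rfl)
      refine rat_of_charpoly F₀ hs0 (k := r * (Fintype.card F - 1)) ?_ hm0 ?_ A hAm ?_
      · rw [Nat.cast_mul, Nat.cast_sub Fintype.card_pos, FiniteField.cast_card_eq_zero, Nat.cast_one, zero_sub]
        exact mul_ne_zero hrF (neg_ne_zero.2 one_ne_zero)
      · rw [_root_.smul_pow, pow_mul x.val, hxr, one_pow, mul_comm r, pow_mul, FiniteField.pow_card_sub_one_eq_one _ hs0, one_pow, one_smul]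
      · rw [hAc, hg₀, hG, ← Matrix.charpoly_units_conj' P (s • x.val), ← Matrix.coe_units_inv, Matrix.mul_smul, Matrix.smul_mul,
          hP', ← Matrix.diagonal_smul, Matrix.charpoly_diagonal]
        rfl

end Cfsg.Agent.S5965
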