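import Cfsg.Statements.S5966
import Cfsg.Agent.Lib.Linear.UnipotentCommutant
import Cfsg.Agent.Lib.Linear.SubfieldBasic
-- import your own Cfsg.Agent.* helpers here

set_option autoImplicit false
open scoped MatrixGroups
open Cfsg

namespace Cfsg.Agent.S5966

open Polynomial
open Cfsg.Lib
open scoped Matrix

universe u

variable {F : Type u} [Field F] {n : ℕ}

/-- A matrix whose invariant factors have coefficients in a subfield is conjugate to a matrix over that subfield. -/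
theorem exists_rational_basis (F₀ : Subfield F) {A : Matrix (Fin n) (Fin n) F} {ι : Type u} [Fintype ι] {f : ι → F[X]}
    (g : ι → F₀[X]) (hg : ∀ i, (g i).map F₀.subtype = f i) (hgm : ∀ i, (g i).Monic)
    (hA : CanonicalForm.HasForm A f) :
    ∃ β : Module.Basis (Fin n) F (Fin n → F), ∀ i j, LinearMap.toMatrix β β (Matrix.toLin' A) i j ∈ F₀ := by
  classical
  obtain ⟨Ψ, hΨ⟩ := hA
  have hfm : ∀ i, (f i).Monic := fun i => hg i ▸ (hgm i).map _
  let pb := fun k => AdjoinRoot.powerBasis' (hfm k)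
  let b := (Pi.basis fun k => (pb k).basis).map Ψ.symm
  have hn : Fintype.card (Σ k, Fin (pb k).dim) = n := by
    rw [← Module.finrank_eq_card_basis b, Module.finrank_fin_fun]
  refine ⟨b.reindex (Fintype.equivFinOfCardEq hn), fun i j => ?_⟩
  rw [LinearMap.toMatrix_apply, Module.Basis.repr_reindex_apply, Module.Basis.reindex_apply]
  generalize (Fintype.equivFinOfCardEq hn).symm i = i'
  generalize (Fintype.equivFinOfCardEq hn).symm j = j'
  obtain ⟨k', a⟩ := i'
  obtain ⟨k, c⟩ := j'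
  rw [Module.Basis.map_repr, LinearEquiv.trans_apply, LinearEquiv.symm_symm, Pi.basis_repr, Matrix.toLin'_apply, hΨ,
    Module.Basis.map_apply, LinearEquiv.apply_symm_apply, Pi.basis_apply]
  by_cases hk : k' = k
  · subst hk
    rw [Pi.single_eq_same, (pb k').basis_eq_pow]
    show (AdjoinRoot.modByMonicHom (hfm k') (AdjoinRoot.root (f k') * AdjoinRoot.root (f k') ^ (c : ℕ))).coeff (a : ℕ) ∈ F₀
    rw [← pow_succ', ← AdjoinRoot.mk_X, ← map_pow,
      AdjoinRoot.modByMonicHom_mk, ← Polynomial.map_X F₀.subtype, ← Polynomial.map_pow,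
      show ∀ (P : F[X]) (d : ℕ), (P %ₘ f k').coeff d = (P %ₘ (g k').map F₀.subtype).coeff d from fun P d => by rw [hg],
      ← Polynomial.map_modByMonic _ (hgm k'), Polynomial.coeff_map]
    exact SetLike.coe_mem _
  · rw [Pi.single_eq_of_ne hk, mul_zero, map_zero, Finsupp.zero_apply]
    exact zero_mem _

/-- Rational Jordan form inside the special linear class. -/
theorem sufficiency [Fintype F] [CharP F 3] (hn : 0 < n) (F₀ : Subfield F)
    (hsq : Odd n ∨ ∀ δ : F, δ ≠ 0 → ∃ ν ∈ F₀, ∃ s : F, δ = ν * s ^ 2)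
    (x : Matrix.SpecialLinearGroup (Fin n) F) (z : F)
    (hz : (x : Matrix (Fin n) (Fin n) F) ^ 3 = z • 1) :
    ∃ P : Matrix.SpecialLinearGroup (Fin n) F,
      Cfsg.Lib.Linear.Rat0.RatG F₀ (Matrix.SpecialLinearGroup.toGL (P⁻¹ * x * P)) := by
  classical
  haveI : Fact (Nat.Prime 3) := ⟨Nat.prime_three⟩
  haveI : Nonempty (Fin n) := ⟨⟨0, hn⟩⟩
  have hcube : ∀ t : F, ∃ c, c ^ 3 = t := fun t => by
    obtain ⟨c, hc⟩ := (Finite.injective_iff_surjective.1 (frobenius_inj F 3)) t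
    exact ⟨c, hc⟩
  have hz0 : z ≠ 0 := by
    intro h
    have h1 := congrArg Matrix.det hz
    rw [h, zero_smul, Matrix.det_zero, Matrix.det_pow, x.2, one_pow] at h1
    exact one_ne_zero h1
  obtain ⟨c, hc⟩ := hcube z
  have hc0 : c ≠ 0 := fun h => hz0 (by rw [← hc, h, zero_pow (by norm_num)])
  obtain ⟨A, hAdef⟩ : ∃ A, A = c⁻¹ • (x : Matrix (Fin n) (Fin n) F) := ⟨_, rfl⟩
  have hA : (A - 1) ^ 3 = 0 := by
    have h1 : A ^ 3 ^ 1 = 1 := by
      rw [pow_one, hAdef, _root_.smul_pow, hz, smul_smul, ← hc, inv_pow, inv_mul_cancel₀ (pow_ne_zero _ hc0), one_smul]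
    simpa using (Cfsg.Agent.Lib.Linear.UnipotentClasses.pow_eq_one_iff (p := 3) A 1).1 h1
  obtain ⟨μ, hμ3, ι, hι, e, he, hmap, hform⟩ := Cfsg.Agent.Lib.Linear.UnipotentClasses.exists_type 3 hA
  have hsum : ∑ i, e i = n := by
    conv_rhs => rw [← μ.parts_sum, ← hmap]
    rfl
  have he3 : ∀ i, e i ≤ 3 := fun i => hμ3 _ (hmap ▸ Multiset.mem_map_of_mem e (Finset.mem_univ i))
  obtain ⟨β, hβ⟩ := exists_rational_basis F₀ (fun i => (Polynomial.X - Polynomial.C (1 : F₀)) ^ e i)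
    (fun i => by rw [Polynomial.map_pow, Polynomial.map_sub, Polynomial.map_X, Polynomial.map_C, map_one])
    (fun i => (Polynomial.monic_X_sub_C 1).pow _) hform
  obtain ⟨M₀, hM₀⟩ : ∃ M₀, M₀ = LinearMap.toMatrix' (β.equivFun : (Fin n → F) →ₗ[F] (Fin n → F)) := ⟨_, rfl⟩
  have hδ : M₀.det ≠ 0 := by
    rw [hM₀, LinearMap.det_toMatrix']
    exact (LinearEquiv.isUnit_det' _).ne_zero
  obtain ⟨N₀, hN₀def⟩ : ∃ N₀, N₀ = LinearMap.toMatrix β β (Matrix.toLin' A) := ⟨_, rfl⟩
  have hMA : M₀ * A = N₀ * M₀ := by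
    refine Matrix.toLin'.injective (LinearMap.ext fun v => ?_)
    rw [Matrix.toLin'_mul, Matrix.toLin'_mul, hM₀, Matrix.toLin'_toMatrix']
    simp only [LinearMap.comp_apply, LinearEquiv.coe_coe, Module.Basis.equivFun_apply]
    rw [Matrix.toLin'_apply N₀, hN₀def, LinearMap.toMatrix_mulVec_repr]
  -- a rational diagonal matrix and an element of the centraliser
  obtain ⟨ν, hν, hν0, C, hC, hCdet⟩ : ∃ ν ∈ F₀, ν ≠ 0 ∧ ∃ C : Matrix (Fin n) (Fin n) F, C * A = A * C ∧
      C.det = (ν * M₀.det)⁻¹ := by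
    have hscale : ∀ (i : ι) (s : F), ∃ C : Matrix (Fin n) (Fin n) F, C * A = A * C ∧ C.det = s ^ e i := fun i s => by
      obtain ⟨T, hT, hdet⟩ := Cfsg.Agent.Lib.Linear.UnipotentCommutant.exists_scale hform
        (fun i => (Polynomial.monic_X_sub_C 1).pow _) i s
      rw [(Polynomial.monic_X_sub_C 1).natDegree_pow, Polynomial.natDegree_X_sub_C, mul_one] at hdet
      exact ⟨T, hT, hdet⟩
    by_cases hodd : ∃ i, e i ≠ 2
    · obtain ⟨i, hi⟩ := hodd
      refine ⟨1, one_mem _, one_ne_zero, ?_⟩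
      rcases (show e i = 1 ∨ e i = 3 by have := he i; have := he3 i; omega) with h | h
      · obtain ⟨C, hC, hd⟩ := hscale i (1 * M₀.det)⁻¹
        exact ⟨C, hC, by rw [hd, h, pow_one]⟩
      · obtain ⟨s, hs⟩ := hcube (1 * M₀.det)⁻¹
        obtain ⟨C, hC, hd⟩ := hscale i s
        exact ⟨C, hC, by rw [hd, h, hs]⟩
    · push Not at hodd
      rcases hsq with hn' | hsq
      · exfalso
        rw [← hsum, Finset.sum_congr rfl (fun i _ => hodd i), Finset.sum_const, smul_eq_mul, Nat.odd_iff] at hn'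
        omega
      obtain ⟨ν, hν, s, hs⟩ := hsq M₀.det⁻¹ (inv_ne_zero hδ)
      have hν0 : ν ≠ 0 := fun h => inv_ne_zero hδ (by rw [hs, h, zero_mul])
      obtain ⟨i⟩ : Nonempty ι := by
        by_contra h
        haveI := not_nonempty_iff.1 h
        rw [Finset.univ_eq_empty, Finset.sum_empty] at hsum
        omega
      obtain ⟨C, hC, hd⟩ := hscale i s
      refine ⟨ν, hν, hν0, C, hC, ?_⟩
      rw [hd, hodd i, mul_inv, hs, ← mul_assoc, inv_mul_cancel₀ hν0, one_mul]
  let w : Fin n → F := fun i => if i = ⟨0, hn⟩ then ν else 1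
  have hw0 : ∀ i, w i ≠ 0 := fun i => by simp only [w]; split_ifs <;> simp [hν0]
  have hwF : ∀ i, w i ∈ F₀ := fun i => by simp only [w]; split_ifs; exacts [hν, one_mem _]
  obtain ⟨M, hMdef⟩ : ∃ M, M = Matrix.diagonal w * M₀ * C := ⟨_, rfl⟩
  have hM : M.det = 1 := by
    rw [hMdef, Matrix.det_mul, Matrix.det_mul, Matrix.det_diagonal, hCdet,
      Finset.prod_eq_single (⟨0, hn⟩ : Fin n) (fun i _ hi => if_neg hi) (by simp)]
    simp only [w, if_true]
    exact mul_inv_cancel₀ (mul_ne_zero hν0 hδ)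
  obtain ⟨N, hNdef⟩ : ∃ N, N = Matrix.diagonal w * N₀ * Matrix.diagonal (fun i => (w i)⁻¹) := ⟨_, rfl⟩
  have hMA' : M * A = N * M := by
    have hd : Matrix.diagonal (fun i => (w i)⁻¹) * Matrix.diagonal w = 1 := by
      rw [Matrix.diagonal_mul_diagonal, ← Matrix.diagonal_one]
      exact congrArg _ (funext fun i => inv_mul_cancel₀ (hw0 i))
    rw [hMdef, hNdef, mul_assoc _ C A, hC, ← mul_assoc _ A C, mul_assoc _ M₀ A, hMA]
    simp only [mul_assoc]
    rw [← mul_assoc (Matrix.diagonal fun i => (w i)⁻¹), hd, one_mul]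
  let Q : Matrix.SpecialLinearGroup (Fin n) F := ⟨M, hM⟩
  refine ⟨Q⁻¹, c⁻¹, inv_ne_zero hc0, fun i j => ?_⟩
  have h1 : ((Q⁻¹⁻¹ * x * Q⁻¹ : Matrix.SpecialLinearGroup (Fin n) F) : Matrix (Fin n) (Fin n) F) = c • N := by
    have hx : (x : Matrix (Fin n) (Fin n) F) = c • A := by rw [hAdef, smul_smul, mul_inv_cancel₀ hc0, one_smul]
    have h2 : (Q : Matrix (Fin n) (Fin n) F) * ((Q⁻¹ : Matrix.SpecialLinearGroup (Fin n) F) : Matrix (Fin n) (Fin n) F) = 1 := by
      rw [← Matrix.SpecialLinearGroup.coe_mul, mul_inv_cancel, Matrix.SpecialLinearGroup.coe_one]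
    rw [inv_inv, Matrix.SpecialLinearGroup.coe_mul, Matrix.SpecialLinearGroup.coe_mul, hx, mul_smul_comm,
      show (Q : Matrix (Fin n) (Fin n) F) = M from rfl, hMA', smul_mul_assoc, mul_assoc]
    rw [show M * ((Q⁻¹ : Matrix.SpecialLinearGroup (Fin n) F) : Matrix (Fin n) (Fin n) F) = 1 from h2, mul_one]
  show c⁻¹ * ((Q⁻¹⁻¹ * x * Q⁻¹ : Matrix.SpecialLinearGroup (Fin n) F) : Matrix (Fin n) (Fin n) F) i j ∈ F₀
  rw [h1, Matrix.smul_apply, smul_eq_mul, ← mul_assoc, inv_mul_cancel₀ hc0, one_mul, hNdef, Matrix.mul_diagonal,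
    Matrix.diagonal_mul, hN₀def]
  exact mul_mem (mul_mem (hwF i) (hβ i j)) (inv_mem (hwF j))

/-- The element whose class in the special linear group has no rational point. -/
theorem exists_bad [Fintype F] [CharP F 3] {m : ℕ} (hm : 0 < m) (hn : n = m + m) (F₀ : Subfield F) (q₀ : ℕ)
    (hF₀ : Nat.card F₀ = q₀) (hqk : Fintype.card F = q₀ ^ 2) :
    ∃ x : Matrix.SpecialLinearGroup (Fin n) F, (∃ z : F, (x : Matrix (Fin n) (Fin n) F) ^ 3 = z • 1) ∧
      (∀ z : F, (x : Matrix (Fin n) (Fin n) F) ≠ z • 1) ∧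
      ∀ P : Matrix.SpecialLinearGroup (Fin n) F,
        ¬ Cfsg.Lib.Linear.Rat0.RatG F₀ (Matrix.SpecialLinearGroup.toGL (P⁻¹ * x * P)) := by
  classical
  haveI : Fact (Nat.Prime 3) := ⟨Nat.prime_three⟩
  have := Fintype.ofFinite F₀
  have hchar : ringChar F ≠ 2 := by rw [ringChar.eq F 3]; norm_num
  have hcard : Fintype.card F₀ = q₀ := by rw [← Nat.card_eq_fintype_card, hF₀]
  have hq₀ : Odd q₀ := by
    have h1 := FiniteField.odd_card_of_char_ne_two hchar
    rw [← Nat.odd_iff, hqk, Nat.odd_pow_iff (by norm_num)] at h1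
    exact h1
  have hsquare : ∀ t ∈ F₀, IsSquare t := fun t ht => by
    rcases eq_or_ne t 0 with rfl | h0
    · exact IsSquare.zero
    rw [FiniteField.isSquare_iff hchar h0]
    have h1 : t ^ (q₀ - 1) = 1 := by
      have h2 := congrArg Subtype.val (FiniteField.pow_card_sub_one_eq_one (⟨t, ht⟩ : F₀) (fun h => h0 (congrArg Subtype.val h)))
      rw [hcard] at h2
      simpa using h2
    obtain ⟨j, rfl⟩ := hq₀
    rw [hqk, show (2 * j + 1) ^ 2 / 2 = (2 * j + 1 - 1) * (j + 1) by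
      rw [Nat.add_sub_cancel, show (2 * j + 1) ^ 2 = 2 * (2 * j * (j + 1)) + 1 by ring]; omega, pow_mul, h1, one_pow]
  obtain ⟨ν, hν⟩ := FiniteField.exists_nonsquare hchar
  obtain ⟨D, hD⟩ : ∃ D : Matrix (Fin m) (Fin m) F, D.det = ν :=
    ⟨Matrix.diagonal fun i => if i = ⟨0, hm⟩ then ν else 1, by
      rw [Matrix.det_diagonal, Finset.prod_ite_eq' Finset.univ _ fun _ => ν]; simp⟩
  let E : Fin m ⊕ Fin m ≃ Fin n := finSumFinEquiv.trans (finCongr hn.symm)
  obtain ⟨Xm, hXdef⟩ : ∃ Xm : Matrix (Fin m ⊕ Fin m) (Fin m ⊕ Fin m) F, Xm = Matrix.fromBlocks (1 : Matrix (Fin m) (Fin m) F) D 0 1 := ⟨_, rfl⟩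
  have hdet : (Matrix.reindex E E Xm).det = 1 := by
    rw [Matrix.det_reindex_self, hXdef, Matrix.det_fromBlocks_zero₂₁, Matrix.det_one, one_mul]
  have hX3 : Xm ^ 3 = 1 := by
    rw [hXdef, pow_succ, pow_two, Matrix.fromBlocks_multiply, Matrix.fromBlocks_multiply, ← Matrix.fromBlocks_one]
    have h3 : (3 : F) = 0 := by exact_mod_cast CharP.cast_eq_zero F 3
    congr 1 <;> simp
    rw [show D + (D + D) = (3 : F) • D by module, h3, zero_smul]
  refine ⟨⟨_, hdet⟩, ⟨1, ?_⟩, fun z hz => ?_, ?_⟩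
  · show (Matrix.reindexAlgEquiv F F E Xm) ^ 3 = _
    rw [← map_pow, hX3, map_one, one_smul]
  · apply hν
    have h1 : ∀ i j, D i j = 0 := fun i j => by
      have := congrFun (congrFun hz (E (Sum.inl i))) (E (Sum.inr j))
      simpa [Matrix.reindex_apply, hXdef, Matrix.one_apply] using this
    haveI : Nonempty (Fin m) := ⟨⟨0, hm⟩⟩
    rw [← hD, show D = 0 from Matrix.ext h1, Matrix.det_zero]
    exact IsSquare.zero
  rintro P ⟨s, hs0, hs⟩
  let x0 : Matrix.SpecialLinearGroup (Fin n) F := ⟨_, hdet⟩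
  obtain ⟨Y, hY⟩ : ∃ Y : Matrix (Fin n) (Fin n) F, Y = ((P⁻¹ * x0 * P : Matrix.SpecialLinearGroup (Fin n) F) : Matrix (Fin n) (Fin n) F) := ⟨_, rfl⟩
  have hs' : ∀ i j, s * Y i j ∈ F₀ := fun i j => hY ▸ hs i j
  have hsF : s ∈ F₀ := by
    have h1 : (P⁻¹ * x0 * P) ^ 3 = 1 := by
      rw [show (P⁻¹ * x0 * P) ^ 3 = P⁻¹ * x0 ^ 3 * P by simp only [pow_succ, pow_zero, one_mul]; group]
      have : x0 ^ 3 = 1 := Subtype.ext (by
        rw [Matrix.SpecialLinearGroup.coe_pow]
        show (Matrix.reindexAlgEquiv F F E Xm) ^ 3 = 1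
        rw [← map_pow, hX3, map_one])
      rw [this, mul_one, inv_mul_cancel]
    have h2 : (s • Y) ^ 3 = s ^ 3 • (1 : Matrix (Fin n) (Fin n) F) := by
      rw [_root_.smul_pow, hY, ← Matrix.SpecialLinearGroup.coe_pow, h1, Matrix.SpecialLinearGroup.coe_one]
    let Y₀ : Matrix (Fin n) (Fin n) F₀ := fun i j => ⟨s * Y i j, hs' i j⟩
    have h3 : ∀ i j, ((s • Y) ^ 3) i j ∈ F₀ := fun i j => by
      have : s • Y = F₀.subtype.mapMatrix Y₀ := rfl
      rw [this, ← map_pow]
      exact SetLike.coe_mem _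
    have h4 : s ^ 3 ∈ F₀ := by
      have := h3 ⟨0, by omega⟩ ⟨0, by omega⟩
      rwa [h2, Matrix.smul_apply, Matrix.one_apply_eq, smul_eq_mul, mul_one] at this
    refine Cfsg.Lib.Linear.Rat0.mem_of_frobRel_eq F₀ ((frobenius_inj F 3) ?_)
    simp only [frobenius_def, ← map_pow]
    exact Cfsg.Lib.Linear.Rat0.frobRel_mem F₀ ⟨_, h4⟩
  have hYF : ∀ i j, Y i j ∈ F₀ := fun i j => by
    have := mul_mem (inv_mem hsF) (hs' i j)
    rwa [← mul_assoc, inv_mul_cancel₀ hs0, one_mul] at this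
  -- compare determinants
  let P' : Matrix (Fin m ⊕ Fin m) (Fin n) F := (P : Matrix (Fin n) (Fin n) F).submatrix E id
  obtain ⟨N, hNdef⟩ : ∃ N, N = Y - 1 := ⟨_, rfl⟩
  obtain ⟨Nil, hNil⟩ : ∃ Nil : Matrix (Fin m ⊕ Fin m) (Fin m ⊕ Fin m) F,
      Nil = Matrix.fromBlocks (0 : Matrix (Fin m) (Fin m) F) D 0 0 := ⟨_, rfl⟩
  have hPN : P' * N = Nil * P' := by
    have h1 : (P : Matrix (Fin n) (Fin n) F) * Y = Matrix.reindex E E Xm * (P : Matrix (Fin n) (Fin n) F) := by
      rw [hY, ← Matrix.SpecialLinearGroup.coe_mul, mul_assoc P⁻¹, mul_inv_cancel_left, Matrix.SpecialLinearGroup.coe_mul]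
    have h2 : P' * Y = Xm * P' := by
      have := congrArg (fun M => M.submatrix E id) h1
      rw [Matrix.reindex_apply] at this
      simp only [Matrix.submatrix_mul _ _ _ id _ Function.bijective_id, Matrix.submatrix_id_id] at this
      rw [show Xm * P' = (Xm.submatrix E.symm E.symm).submatrix E id * (P : Matrix (Fin n) (Fin n) F) from ?_]
      · exact this
      ext i j
      simp only [P', Matrix.mul_apply, Matrix.submatrix_apply, id, Equiv.symm_apply_apply]
      exact Fintype.sum_equiv E _ _ (fun l => by rw [Equiv.symm_apply_apply])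
    rw [hNdef, Matrix.mul_sub, Matrix.mul_one, h2,
      show Xm = 1 + Nil by rw [hNil, hXdef, ← Matrix.fromBlocks_one, Matrix.fromBlocks_add]; simp,
      Matrix.add_mul, Matrix.one_mul, add_sub_cancel_left]
  let P2 : Matrix (Fin m) (Fin n) F := P'.toRows₂
  have hrank : Submodule.span F (Set.range P2.col) = ⊤ := by
    rw [← Matrix.range_mulVecLin, LinearMap.range_eq_top]
    intro v
    refine ⟨((P⁻¹ : Matrix.SpecialLinearGroup (Fin n) F) : Matrix (Fin n) (Fin n) F) *ᵥ (Sum.elim (0 : Fin m → F) v ∘ E.symm), ?_⟩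
    funext i
    have h1 : (P : Matrix (Fin n) (Fin n) F) *ᵥ (((P⁻¹ : Matrix.SpecialLinearGroup (Fin n) F) : Matrix (Fin n) (Fin n) F) *ᵥ
        (Sum.elim (0 : Fin m → F) v ∘ E.symm)) = Sum.elim (0 : Fin m → F) v ∘ E.symm := by
      rw [Matrix.mulVec_mulVec, ← Matrix.SpecialLinearGroup.coe_mul, mul_inv_cancel, Matrix.SpecialLinearGroup.coe_one,
        Matrix.one_mulVec]
    have h2 := congrFun h1 (E (Sum.inr i))
    simpa [P2, P', Matrix.mulVec, Matrix.toRows₂, Matrix.submatrix] using h2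
  obtain ⟨κ, a, ha, hspan, hli⟩ := exists_linearIndependent' F P2.col
  haveI : Finite κ := Finite.of_injective a ha
  haveI := Fintype.ofFinite κ
  have hκ : Fintype.card κ = m := by
    have := finrank_span_eq_card hli
    rw [hspan, hrank, finrank_top, Module.finrank_fin_fun] at this
    exact this.symm
  let σ : Fin m → Fin n := a ∘ (Fintype.equivFinOfCardEq hκ).symm
  let U : Matrix (Fin n) (Fin m) F := (1 : Matrix (Fin n) (Fin n) F).submatrix id σ
  have hP2U : IsUnit (P2 * U) := by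
    rw [← Matrix.linearIndependent_cols_iff_isUnit]
    have : (P2 * U).col = (P2.col ∘ a) ∘ (Fintype.equivFinOfCardEq hκ).symm := by
      funext i j
      simp [U, σ, Matrix.col, Matrix.mul_apply, Matrix.one_apply]
      rfl
    rw [this]
    exact hli.comp _ (Equiv.injective _)
  let Q : Matrix (Fin n) (Fin m ⊕ Fin m) F := Matrix.fromCols (N * U) U
  have hPQ : P' * Q = Matrix.fromBlocks (D * (P2 * U)) (P'.toRows₁ * U) 0 (P2 * U) := by
    conv_lhs => rw [Matrix.mul_fromCols, ← Matrix.mul_assoc, hPN, hNil, ← Matrix.fromRows_toRows P',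
      Matrix.fromBlocks_mul_fromRows, Matrix.fromRows_mul, Matrix.fromRows_mul, Matrix.fromCols_fromRows_eq_fromBlocks]
    simp [P2, Matrix.mul_assoc]
  have hdetPQ := congrArg Matrix.det hPQ
  rw [Matrix.det_fromBlocks_zero₂₁, Matrix.det_mul, hD] at hdetPQ
  have hsplit : P' * Q = (P : Matrix (Fin n) (Fin n) F).submatrix E E * Q.submatrix E id := by
    ext i j
    simp only [P', Matrix.mul_apply, Matrix.submatrix_apply, id]
    exact (Equiv.sum_comp E (fun l => (P : Matrix (Fin n) (Fin n) F) (E i) l * Q l j)).symm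
  rw [hsplit, Matrix.det_mul, Matrix.det_submatrix_equiv_self, P.2, one_mul] at hdetPQ
  have hQ : ∀ i j, Q i j ∈ F₀ := by
    have hU : ∀ i j, U i j ∈ F₀ := fun i j => by
      simp only [U, Matrix.submatrix_apply, id, Matrix.one_apply]; split_ifs; exacts [one_mem _, zero_mem _]
    rintro i (j | j)
    · simp only [Q, Matrix.fromCols_apply_inl, Matrix.mul_apply]
      refine sum_mem fun l _ => mul_mem ?_ (hU l j)
      rw [hNdef, Matrix.sub_apply, Matrix.one_apply]
      exact sub_mem (hYF i l) (by split_ifs; exacts [one_mem _, zero_mem _])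
    · exact hU i j
  have hQdet : (Q.submatrix E id).det ∈ F₀ := by
    let Q₀ : Matrix (Fin m ⊕ Fin m) (Fin m ⊕ Fin m) F₀ := fun i j => ⟨Q (E i) j, hQ _ _⟩
    rw [show Q.submatrix E id = F₀.subtype.mapMatrix Q₀ from rfl, ← RingHom.map_det]
    exact SetLike.coe_mem _
  have hM0 : (P2 * U).det ≠ 0 := ((Matrix.isUnit_iff_isUnit_det _).1 hP2U).ne_zero
  apply hν
  obtain ⟨r, hr⟩ := hsquare _ hQdet
  exact ⟨r / (P2 * U).det, by field_simp; linear_combination hr - hdetPQ⟩

/-- Elements of order 3 of PSL_n(q) in characteristic 3 and subfield subgroups. Here `T = PSL_n(F)` for a field `F` with `q` elements, `q` a power of 3 (`n ≥ 2`, `(n, q) ≠ (2, 2), (2, 3)`), `F₀` is the subfield with `q₀` elements where `q = q₀^k` for a prime `k`, and `H` is the subgroup of matrices of determinant 1 lying in the subfield group of `F₀` (invertible matrices over `F₀` times scalars) — a maximal subgroup of type GL_n(q₀) (the case `n = 2`, `q₀ = 2` is excluded);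 Ω is the set of `T`-conjugates of `H` (cosets of `H`), so an element of `T` of prime order `r` (a matrix `x` of determinant 1 with `x^r` scalar, `x` not scalar) fixes a point of Ω when some conjugate of `x` by a matrix of determinant 1 lies in `H`. Suppose 3 divides the index of `H`. Then every element of `T` of order 3 is conjugate in `T` into `H` if and only if `n` is odd, or `n` is even and `k > 2`. -/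
theorem result {F : Type*} [Field F] [Fintype F] [CharP F 3] {q : ℕ} (hq : Fintype.card F = q)
    (n : ℕ) (hn : 2 ≤ n) (hT : (n, q) ≠ (2, 3))
    (F₀ : Subfield F) (k q₀ : ℕ) (hk : k.Prime) (hF₀ : Nat.card ↥F₀ = q₀) (hqk : q = q₀ ^ k) (hC5 : ¬ (n = 2 ∧ q₀ = 2)) (hΩ : 3 ∣ ((Cfsg.Geo.subfieldSubgroup F₀ 1).comap (Matrix.SpecialLinearGroup.toGL : Matrix.SpecialLinearGroup (Fin n) F →* GL (Fin n) F)).index) :
    (∀ x : Matrix.SpecialLinearGroup (Fin n) F,
      (∃ z : F, ((x ^ 3 : Matrix.SpecialLinearGroup (Fin n) F) : Matrix (Fin n) (Fin n) F) = z • (1 : Matrix (Fin n) (Fin n) F)) →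
      (∀ z : F, (x : Matrix (Fin n) (Fin n) F) ≠ z • (1 : Matrix (Fin n) (Fin n) F)) →
      ∃ P : Matrix.SpecialLinearGroup (Fin n) F, P⁻¹ * x * P ∈ ((Cfsg.Geo.subfieldSubgroup F₀ 1).comap (Matrix.SpecialLinearGroup.toGL : Matrix.SpecialLinearGroup (Fin n) F →* GL (Fin n) F))) ↔
    (Odd n ∨ (Even n ∧ 2 < k)) := by
  classical
  subst hq
  simp only [Matrix.SpecialLinearGroup.coe_pow]
  have hmem : ∀ g : GL (Fin n) F, g ∈ Cfsg.Geo.subfieldSubgroup F₀ 1 ↔ Cfsg.Lib.Linear.Rat0.RatG F₀ g :=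
    fun g => Cfsg.Lib.Linear.Rat0.mem_subfieldSubgroup_one F₀ g
  constructor
  · intro hall
    by_contra hneg
    push Not at hneg
    obtain ⟨hn', hk'⟩ := hneg
    rw [Nat.not_odd_iff_even] at hn'
    obtain rfl : k = 2 := le_antisymm (hk' hn') hk.two_le
    obtain ⟨m, hm⟩ := hn'
    obtain ⟨x, hx1, hx2, hP⟩ := exists_bad (by omega) hm F₀ q₀ hF₀ hqk
    obtain ⟨P, hP'⟩ := hall x hx1 hx2
    exact hP P ((hmem _).1 (Subgroup.mem_comap.1 hP'))
  · intro hv x hx1 hx2
    obtain ⟨z, hz⟩ := hx1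
    obtain ⟨P, hP⟩ := sufficiency (by omega) F₀ (by
      rcases hv with h | ⟨-, h⟩
      · exact Or.inl h
      refine Or.inr fun δ hδ => ?_
      have hkodd : Odd k := hk.odd_of_ne_two (by omega)
      letI := Fintype.ofFinite F₀
      have hq₀ : 1 < q₀ := by
        rw [← hF₀, Nat.card_eq_fintype_card]
        exact Fintype.one_lt_card
      obtain ⟨N, hN, hNodd⟩ : ∃ N, q₀ ^ k - 1 = (q₀ - 1) * N ∧ Odd N := by
        refine ⟨∑ i ∈ Finset.range k, q₀ ^ i, ?_, ?_⟩
        · rw [mul_comm, ← geom_sum_mul_of_one_le hq₀.le]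
        · have hq₀odd : Odd q₀ := by
            have h1 := FiniteField.odd_card_of_char_ne_two (F := F) (by rw [ringChar.eq F 3]; norm_num)
            rw [← Nat.odd_iff, hqk, Nat.odd_pow_iff hk.ne_zero] at h1
            exact h1
          rw [Finset.odd_sum_iff_odd_card_odd, Finset.filter_true_of_mem (fun i _ => hq₀odd.pow), Finset.card_range]
          exact hkodd
      refine ⟨δ ^ N, Cfsg.Lib.Linear.Rat0.mem_of_frobRel_eq F₀ ?_, ?_⟩
      · show (δ ^ N) ^ Fintype.card F₀ = δ ^ N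
        rw [← Nat.card_eq_fintype_card, hF₀, ← Nat.succ_pred_eq_of_pos (show 0 < q₀ by omega), pow_succ, ← pow_mul,
          show N * q₀.pred = Fintype.card F - 1 by rw [hqk, hN, mul_comm]; rfl,
          FiniteField.pow_card_sub_one_eq_one δ hδ, one_mul]
      · obtain ⟨M, rfl⟩ := hNodd
        refine ⟨(δ ^ M)⁻¹, ?_⟩
        field_simp
        ring) x z hz
    exact ⟨P, Subgroup.mem_comap.2 ((hmem _).2 hP)⟩

end Cfsg.Agent.S5966
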