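import Cfsg.Statements.S5967
import Cfsg.Agent.S5960
import Cfsg.Agent.Lib.Linear.SquareScalar
-- import your own Cfsg.Agent.* helpers here

set_option autoImplicit false
open scoped MatrixGroups
open Cfsg

namespace Cfsg.Agent.S5967

open Module
open scoped Matrix

/-- A map acting on pairs with a common determinant becomes a similitude. -/
theorem build {F V : Type*} [Field F] [AddCommGroup V] [Module F V] (B : LinearMap.BilinForm F V) (hA : B.IsAlt)
    {ι κ : Type} [Fintype ι] {e f : ι → V} (hs : Cfsg.Agent.S5960.Sys B LinearMap.id id e f)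
    (γ : Basis (ι ⊕ ι) F V) (hγ : ∀ i, γ i = Sum.elim e f i) (φ : κ ≃ ι)
    (β : Basis (κ ⊕ κ) F V) (T : V →ₗ[F] V) (μ : F)
    (h : ∀ k, ∃ p q r s : F, T (β (.inl k)) = p • β (.inl k) + q • β (.inr k) ∧
      T (β (.inr k)) = r • β (.inl k) + s • β (.inr k) ∧ p * s - q * r = μ) :
    ∃ G : V ≃ₗ[F] V, ∀ u v, B (G (T u)) (G (T v)) = μ * B (G u) (G v) := by
  classical
  let G := β.equiv γ (Equiv.sumCongr φ φ)
  have hGl : ∀ k, G (β (.inl k)) = e (φ k) := fun k => by simp [G, hγ]
  have hGr : ∀ k, G (β (.inr k)) = f (φ k) := fun k => by simp [G, hγ]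
  have hneg : ∀ a b, B a b = -B b a := fun a b => (LinearMap.IsAlt.neg hA b a).symm
  have hef : ∀ k l, B (e (φ k)) (f (φ l)) = if k = l then 1 else 0 := fun k l => by
    split_ifs with hkl
    · rw [hkl, hs.ef]
    · exact hs.ef_ne _ _ fun h => hkl (φ.injective h)
  refine ⟨G, fun u v => ?_⟩
  refine LinearMap.congr_fun₂ (f := B.compl₁₂ ((G : V →ₗ[F] V) ∘ₗ T) ((G : V →ₗ[F] V) ∘ₗ T))
    (g := μ • B.compl₁₂ (G : V →ₗ[F] V) (G : V →ₗ[F] V)) (LinearMap.BilinForm.ext_basis β fun x y => ?_) u v
  simp only [LinearMap.compl₁₂_apply, LinearMap.smul_apply, LinearMap.comp_apply, LinearEquiv.coe_coe, smul_eq_mul]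
  rcases x with k | k <;> rcases y with l | l <;>
    obtain ⟨p, q, r, s, h1, h2, h3⟩ := h k <;> obtain ⟨p', q', r', s', h1', h2', h3'⟩ := h l <;>
    simp only [h1, h2, h1', h2', map_add, map_smul, hGl, hGr, LinearMap.add_apply, LinearMap.smul_apply, smul_eq_mul,
      hs.ee, hs.ff, hef, hneg (f _) (e _)] <;>
    rcases eq_or_ne k l with rfl | hkl
  all_goals first
    | (simp [hkl, Ne.symm hkl]; done)
    | (have e1 : T (β (.inl k)) = p' • β (.inl k) + q' • β (.inr k) := h1'
       have hp := congrArg (fun v => β.repr v (.inl k)) (h1.symm.trans e1)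
       have hq := congrArg (fun v => β.repr v (.inr k)) (h1.symm.trans e1)
       have hr := congrArg (fun v => β.repr v (.inl k)) (h2.symm.trans h2')
       have hs' := congrArg (fun v => β.repr v (.inr k)) (h2.symm.trans h2')
       simp at hp hq hr hs'
       subst hp hq hr hs'
       first | (simp; ring1) | (simp only [if_true]; linear_combination h3) | (simp only [if_true]; linear_combination -h3))

/-- Pairs `Fin r × Fin 2` as two copies of `Fin r`. -/
def pairEquiv (r : ℕ) : Fin r × Fin 2 ≃ Fin r ⊕ Fin r where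
  toFun p := if p.2 = 0 then .inl p.1 else .inr p.1
  invFun := Sum.elim (·, 0) (·, 1)
  left_inv := by
    rintro ⟨k, i⟩
    rcases Fin.exists_fin_two.1 ⟨i, rfl⟩ with rfl | rfl <;> simp
  right_inv := by rintro (k | k) <;> simp

/-- The pairs on which a similitude is built. -/
theorem exists_pairing {F V : Type*} [Field F] [Finite F] [AddCommGroup V] [Module F V] [FiniteDimensional F V]
    {m : ℕ} (hV : finrank F V = 2 * m) (T : V →ₗ[F] V) {z : F} (hz : z ≠ 0) (hT : ∀ v, T (T v) = z • v)
    (hdet : LinearMap.det T = 1) (hcond : ∀ c : F, c ^ (2 * m) ≠ -1 ∨ (2 : F) = 0) :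
    ∃ (κ : Type) (_ : Fintype κ) (β : Basis (κ ⊕ κ) F V) (μ : F), μ ≠ 0 ∧
      ∀ k, ∃ p q r s : F, T (β (.inl k)) = p • β (.inl k) + q • β (.inr k) ∧
        T (β (.inr k)) = r • β (.inl k) + s • β (.inr k) ∧ p * s - q * r = μ := by
  classical
  by_cases hodd : (2 : F) ≠ 0 ∧ ∃ c : F, c * c = z
  · obtain ⟨h2, c, rfl⟩ := hodd
    have hc : c ≠ 0 := left_ne_zero_of_mul hz
    obtain ⟨a, b, β, hl, hr⟩ := Cfsg.Lib.Linear.SquareScalar.exists_eigenbasis h2 T hc hT
    have hab : a + b = 2 * m := by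
      rw [← hV, finrank_eq_card_basis β]; simp
    rcases Nat.even_or_odd b with ⟨b', rfl⟩ | hb
    · obtain ⟨a', rfl⟩ : ∃ a', a = a' + a' := ⟨a / 2, by omega⟩
      let E : Fin (a' + a') ⊕ Fin (b' + b') ≃ (Fin a' ⊕ Fin b') ⊕ (Fin a' ⊕ Fin b') :=
        (Equiv.sumCongr finSumFinEquiv.symm finSumFinEquiv.symm).trans (Equiv.sumSumSumComm _ _ _ _)
      refine ⟨Fin a' ⊕ Fin b', inferInstance, β.reindex E, c * c, hz, ?_⟩
      rintro (i | i)
      · exact ⟨c, 0, 0, c, by simp [E, hl], by simp [E, hl], by ring⟩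
      · exact ⟨-c, 0, 0, -c, by simp [E, hr], by simp [E, hr], by ring⟩
    · exfalso
      have h1 := Cfsg.Lib.Linear.SquareScalar.det_of_eigenbasis β T (Sum.elim (fun _ => c) (fun _ => -c))
        (by rintro (i | i) <;> simp [hl, hr])
      rw [hdet] at h1
      simp only [Fintype.prod_sum_type, Sum.elim_inl, Sum.elim_inr, Finset.prod_const, Finset.card_univ,
        Fintype.card_fin, hb.neg_pow, mul_neg, ← pow_add, hab] at h1
      exact (hcond c).elim (fun h => h (by rw [h1, neg_neg])) h2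
  · have hsingle : ∀ (c c' : F), c * c = z → c' * c' = z → c * c' = -z := by
      intro c c' h h'
      have h2 : (2 : F) = 0 := by
        by_contra h2
        exact hodd ⟨h2, c, h⟩
      have hneg : ∀ x : F, -x = x := fun x => neg_eq_iff_add_eq_zero.2 (by rw [← two_mul, h2, zero_mul])
      have h3 : (c * c' - z) * (c * c' + z) = 0 := by linear_combination (c' * c') * h + z * h'
      rcases mul_eq_zero.1 h3 with h4 | h4
      · rw [hneg, sub_eq_zero.1 h4]
      · exact eq_neg_of_add_eq_zero_left h4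
    obtain ⟨r, s, b, c, hp, hs⟩ := Cfsg.Agent.S5957.exists_normal_basis T z hz hT
    obtain ⟨s', rfl⟩ : ∃ s', s = s' + s' := ⟨s / 2, by
      rw [finrank_eq_card_basis b] at hV
      simp only [Fintype.card_sum, Fintype.card_prod, Fintype.card_fin] at hV
      omega⟩
    let E : (Fin r × Fin 2) ⊕ Fin (s' + s') ≃ (Fin r ⊕ Fin s') ⊕ (Fin r ⊕ Fin s') :=
      (Equiv.sumCongr (pairEquiv r) finSumFinEquiv.symm).trans (Equiv.sumSumSumComm _ _ _ _)
    have hc : ∀ l, c l * c l = z := fun l => by
      have h1 := hT (b (.inr l))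
      rw [hs, map_smul, hs, smul_smul] at h1
      exact smul_left_injective F (b.ne_zero _) h1
    refine ⟨Fin r ⊕ Fin s', inferInstance, b.reindex E, -z, neg_ne_zero.2 hz, ?_⟩
    rintro (i | i)
    · exact ⟨0, 1, z, 0, by simp [E, pairEquiv, (hp i).1], by simp [E, pairEquiv, (hp i).2], by ring⟩
    · exact ⟨c (finSumFinEquiv (.inl i)), 0, 0, c (finSumFinEquiv (.inr i)), by simp [E, hs], by simp [E, hs],
        by rw [hsingle _ _ (hc _) (hc _)]; ring⟩

/-- If `2`-parts allow, `-1` is no `n`-th power. -/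
theorem no_root {F : Type*} [Field F] [Fintype F] (h2 : (2 : F) ≠ 0) {n : ℕ} (hn : n ≠ 0)
    (h : padicValNat 2 (Fintype.card F - 1) ≤ padicValNat 2 n) (c : F) : c ^ n ≠ -1 := by
  intro hc
  haveI : Fact (Nat.Prime 2) := ⟨Nat.prime_two⟩
  have hq : 1 < Fintype.card F := Fintype.one_lt_card
  have hc0 : c ≠ 0 := fun h0 => by
    rw [h0, zero_pow hn] at hc
    exact one_ne_zero (neg_eq_zero.1 hc.symm)
  obtain ⟨w, hw, hw2⟩ : ∃ w, Fintype.card F - 1 ∣ n * w ∧ Odd w := by
    refine ⟨(Fintype.card F - 1) / 2 ^ padicValNat 2 (Fintype.card F - 1), ?_, ?_⟩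
    · obtain ⟨u, hu⟩ := (pow_dvd_pow 2 h).trans (pow_padicValNat_dvd (p := 2) (n := n))
      refine ⟨u, ?_⟩
      conv_rhs => rw [← Nat.mul_div_cancel' (pow_padicValNat_dvd (p := 2) (n := Fintype.card F - 1))]
      rw [hu]; ring
    · rw [Nat.odd_iff, Nat.two_dvd_ne_zero.symm]
      intro hd
      have := Nat.mul_dvd_mul (dvd_refl (2 ^ padicValNat 2 (Fintype.card F - 1))) hd
      rw [Nat.mul_div_cancel' pow_padicValNat_dvd, ← pow_succ] at this
      exact pow_succ_padicValNat_not_dvd (by omega) this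
  obtain ⟨u, hu⟩ := hw
  have h1 : c ^ (n * w) = 1 := by rw [hu, pow_mul, FiniteField.pow_card_sub_one_eq_one c hc0, one_pow]
  rw [pow_mul, hc, hw2.neg_one_pow] at h1
  exact h2 (by linear_combination -h1)

/-- Involutions of PSL_n(q) and the symplectic-type subgroups. Here `T = PSL_n(F)` for a field `F` with `q` elements, `n ≥ 4` even, `f` is a nondegenerate alternating form on `F^n`, and `H` is the subgroup of matrices of determinant 1 preserving `f` up to a scalar — a maximal subgroup of type Sp_n(q); Ω is the set of `T`-conjugates of `H` (cosets of `H`), so an element of `T` of prime order `r` (a matrix `x` of determinant 1 with `x^r` scalar, `x` not scalar) fixes a point of Ω when some conjugate of `x` by a matrix of determinant 1 preserves `f` up to a scalar. Suppose the index of `H` is even. Then every involution of `T` is conjugate in `T` into `H` if and only if `(q − 1)_2 ≤ (n)_2`. -/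
theorem result {F : Type*} [Field F] [Fintype F] {p : ℕ} [Fact p.Prime] [CharP F p] {q : ℕ} (hq : Fintype.card F = q)
    (n : ℕ) (hn : 4 ≤ n) (he : Even n) (f : (Fin n → F) → (Fin n → F) → F) (hf : Cfsg.Geo.IsSymplecticForm f)
    (hΩ : 2 ∣ ((Cfsg.Geo.similarityGroup f).comap (Matrix.SpecialLinearGroup.toGL : Matrix.SpecialLinearGroup (Fin n) F →* GL (Fin n) F)).index) :
    (∀ x : Matrix.SpecialLinearGroup (Fin n) F,
      (∃ z : F, ((x ^ 2 : Matrix.SpecialLinearGroup (Fin n) F) : Matrix (Fin n) (Fin n) F) = z • (1 : Matrix (Fin n) (Fin n) F)) →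
      (∀ z : F, (x : Matrix (Fin n) (Fin n) F) ≠ z • (1 : Matrix (Fin n) (Fin n) F)) →
      ∃ P : Matrix.SpecialLinearGroup (Fin n) F, P⁻¹ * x * P ∈ ((Cfsg.Geo.similarityGroup f).comap (Matrix.SpecialLinearGroup.toGL : Matrix.SpecialLinearGroup (Fin n) F →* GL (Fin n) F))) ↔
    padicValNat 2 (q - 1) ≤ padicValNat 2 n := by
  classical
  haveI : Nonempty (Fin n) := ⟨⟨0, by omega⟩⟩
  obtain ⟨m, hm⟩ := he
  obtain ⟨hfb, hskew, halt, hndeg⟩ := hf
  let B : LinearMap.BilinForm F (Fin n → F) := LinearMap.mk₂ F f hfb.add_left (fun a x v => hfb.smul_left a x v)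
    (fun v x y => hfb.add_right v x y) (fun a v x => hfb.smul_right a v x)
  have hBf : ∀ u v, B u v = f u v := fun u v => rfl
  have hA : B.IsAlt := fun u => halt u
  constructor
  · intro hall
    by_contra hlt
    push Not at hlt
    have hq2 : 2 ∣ q - 1 := by
      by_contra h
      rw [padicValNat.eq_zero_of_not_dvd h] at hlt
      omega
    have h2 : (2 : F) ≠ 0 := by
      refine Ring.two_ne_zero fun h => ?_
      have := (FiniteField.even_card_iff_char_two (F := F)).1 h
      rw [hq] at this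
      have : 1 < q := hq ▸ Fintype.one_lt_card
      omega
    obtain ⟨c, hc⟩ : ∃ c : F, c ^ n = -1 := by
      obtain ⟨ζ, hζ⟩ := IsCyclic.exists_generator (α := Fˣ)
      obtain ⟨N, hN⟩ : ∃ N, N = padicValNat 2 n := ⟨_, rfl⟩
      have hdvd : 2 ^ (N + 1) ∣ q - 1 := (pow_dvd_pow 2 (hN ▸ hlt)).trans pow_padicValNat_dvd
      obtain ⟨e, he⟩ := hdvd
      have hord : orderOf (ζ ^ e) = 2 ^ (N + 1) := by
        have hoζ : orderOf ζ = q - 1 := by
          rw [orderOf_eq_card_of_forall_mem_zpowers hζ, Nat.card_eq_fintype_card, Fintype.card_units, hq]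
        have he0 : e ≠ 0 := fun h => by
          rw [h, mul_zero] at he
          have : 1 < q := hq ▸ Fintype.one_lt_card
          omega
        rw [orderOf_pow' ζ he0, hoζ, he, Nat.gcd_eq_right ⟨_, by rw [mul_comm]⟩, Nat.mul_div_cancel _ (Nat.pos_of_ne_zero he0)]
      have h1 : ((ζ ^ e : Fˣ) : F) ^ (2 ^ N) = -1 := by
        have h2' : (((ζ ^ e : Fˣ) : F) ^ (2 ^ N)) * (((ζ ^ e : Fˣ) : F) ^ (2 ^ N)) = 1 := by
          rw [← pow_add, ← two_mul, ← pow_succ', ← Units.val_pow_eq_pow_val, ← hord, pow_orderOf_eq_one, Units.val_one]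
        rcases mul_self_eq_one_iff.1 h2' with h | h
        · rw [← Units.val_pow_eq_pow_val, Units.val_eq_one] at h
          have := Nat.le_of_dvd (by positivity) (hord ▸ orderOf_dvd_of_pow_eq_one h)
          rw [pow_succ] at this
          have : 0 < 2 ^ N := by positivity
          omega
        · exact h
      refine ⟨((ζ ^ e : Fˣ) : F), ?_⟩
      obtain ⟨u, hu⟩ := hN ▸ (pow_padicValNat_dvd (p := 2) (n := n))
      have hodd : Odd u := by
        rw [Nat.odd_iff]
        by_contra h
        haveI : Fact (Nat.Prime 2) := ⟨Nat.prime_two⟩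
        refine pow_succ_padicValNat_not_dvd (p := 2) (n := n) (by omega) ⟨u / 2, ?_⟩
        rw [← hN, pow_succ, mul_assoc, show 2 * (u / 2) = u by omega, ← hu]
      rw [hu, pow_mul, h1, hodd.neg_one_pow]
    have hc0 : c ≠ 0 := fun h0 => by
      rw [h0, zero_pow (by omega)] at hc
      exact one_ne_zero (neg_eq_zero.1 hc.symm)
    let i₀ : Fin n := ⟨n - 1, by omega⟩
    let d : Fin n → F := fun i => if i = i₀ then -c else c
    have hdet : (Matrix.diagonal d).det = 1 := by
      rw [Matrix.det_diagonal, show d = fun i => c * (if i = i₀ then -1 else 1) from funext fun i => by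
        simp only [d]; split_ifs <;> ring, Finset.prod_mul_distrib, Finset.prod_ite_eq' Finset.univ i₀ fun _ => (-1 : F)]
      simp [hc]
    let x0 : Matrix.SpecialLinearGroup (Fin n) F := ⟨Matrix.diagonal d, hdet⟩
    obtain ⟨P, hP⟩ := hall x0 ⟨c * c, by
      rw [Matrix.SpecialLinearGroup.coe_pow, show (x0 : Matrix (Fin n) (Fin n) F) = Matrix.diagonal d from rfl,
        Matrix.diagonal_pow, Matrix.smul_one_eq_diagonal]
      exact congrArg _ (funext fun i => by simp only [d, Pi.pow_apply]; split_ifs <;> ring)⟩ (by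
      intro w hw
      rw [show (x0 : Matrix (Fin n) (Fin n) F) = Matrix.diagonal d from rfl] at hw
      have e1 := congrFun (congrFun hw i₀) i₀
      have e2 := congrFun (congrFun hw ⟨0, by omega⟩) ⟨0, by omega⟩
      have hne : (⟨0, by omega⟩ : Fin n) ≠ i₀ := fun h => by
        have := congrArg Fin.val h
        simp only [i₀] at this
        omega
      simp [d, hne] at e1 e2
      exact mul_ne_zero h2 hc0 (by linear_combination e2 - e1))
    obtain ⟨μ, hμ⟩ := hP
    let Pi' : (Fin n → F) →ₗ[F] (Fin n → F) := Matrix.toLin' ((P⁻¹ : Matrix.SpecialLinearGroup (Fin n) F) : Matrix (Fin n) (Fin n) F)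
    let P' : (Fin n → F) →ₗ[F] (Fin n → F) := Matrix.toLin' (P : Matrix (Fin n) (Fin n) F)
    have hPP : ∀ v, Pi' (P' v) = v := fun v => by
      simp only [Pi', P', Matrix.toLin'_apply, Matrix.mulVec_mulVec]
      rw [← Matrix.SpecialLinearGroup.coe_mul, inv_mul_cancel, Matrix.SpecialLinearGroup.coe_one, Matrix.one_mulVec]
    have hPP' : ∀ v, P' (Pi' v) = v := fun v => by
      simp only [Pi', P', Matrix.toLin'_apply, Matrix.mulVec_mulVec]
      rw [← Matrix.SpecialLinearGroup.coe_mul, mul_inv_cancel, Matrix.SpecialLinearGroup.coe_one, Matrix.one_mulVec]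
    obtain ⟨g, hg⟩ : ∃ g : LinearMap.BilinForm F (Fin n → F), ∀ u v, g u v = B (Pi' u) (Pi' v) :=
      ⟨B.compl₁₂ Pi' Pi', fun u v => rfl⟩
    obtain ⟨e, he⟩ : ∃ e : Fin n → (Fin n → F), ∀ i, e i = Pi.single i 1 := ⟨_, fun i => rfl⟩
    have hentry : ∀ i j, d i * d j * g (e i) (e j) = (μ : F) * g (e i) (e j) := by
      intro i j
      have h := hμ (Pi' (e i)) (Pi' (e j))
      have key : ∀ k, ((Matrix.SpecialLinearGroup.toGL (P⁻¹ * x0 * P) : GL (Fin n) F) :
          Matrix (Fin n) (Fin n) F) *ᵥ Pi' (e k) = d k • Pi' (e k) := by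
        intro k
        show ((P⁻¹ * x0 * P : Matrix.SpecialLinearGroup (Fin n) F) : Matrix (Fin n) (Fin n) F) *ᵥ _ = _
        rw [Matrix.SpecialLinearGroup.coe_mul, Matrix.SpecialLinearGroup.coe_mul, ← Matrix.mulVec_mulVec,
          ← Matrix.toLin'_apply (P : Matrix (Fin n) (Fin n) F), hPP', ← Matrix.mulVec_mulVec, ← map_smul]
        show Pi' ((x0 : Matrix (Fin n) (Fin n) F) *ᵥ e k) = _
        rw [show (x0 : Matrix (Fin n) (Fin n) F) = Matrix.diagonal d from rfl]
        refine congrArg Pi' (funext fun l => ?_)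
        simp [Matrix.mulVec_diagonal, he, Pi.single_apply]
        split_ifs with hl <;> simp [hl]
      rw [key, key] at h
      simp only [← hBf, map_smul, LinearMap.smul_apply, smul_eq_mul] at h
      rw [hg]
      linear_combination h
    have hgnd : ∀ v, (∀ j, g v (e j) = 0) → v = 0 := by
      intro v hv
      by_contra h0
      have h1 : Pi' v ≠ 0 := fun h => h0 (by rw [← hPP' v, h, map_zero])
      obtain ⟨-, w, hw⟩ := hndeg (Pi' v) h1
      refine hw ?_
      have h2' : g v = 0 := (Pi.basisFun F (Fin n)).ext fun j => by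
        rw [Pi.basisFun_apply, ← he]; exact hv j
      have := LinearMap.congr_fun h2' (P' w)
      rwa [hg, hPP, hBf] at this
    have hμc : (μ : F) = -(c * c) := by
      obtain ⟨j, hj⟩ : ∃ j, g (e i₀) (e j) ≠ 0 := by
        by_contra h
        push Not at h
        have := congrFun (hgnd _ h) i₀
        simp [he] at this
      have hji : j ≠ i₀ := fun h => hj (by rw [h, hg]; exact hA _)
      have h := mul_right_cancel₀ hj (hentry i₀ j)
      simp only [d, if_pos, if_neg hji] at h
      linear_combination -h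
    have hzero : ∀ i j, i ≠ i₀ → j ≠ i₀ → g (e i) (e j) = 0 := fun i j hi hj => by
      have h := hentry i j
      simp only [d, if_neg hi, if_neg hj, hμc] at h
      exact (mul_eq_zero.1 (by linear_combination h : (2 * (c * c)) * g (e i) (e j) = 0)).resolve_left
        (mul_ne_zero h2 (mul_ne_zero hc0 hc0))
    obtain ⟨i, hi⟩ : ∃ i : Fin n, i = ⟨0, by omega⟩ := ⟨_, rfl⟩
    obtain ⟨j, hj⟩ : ∃ j : Fin n, j = ⟨1, by omega⟩ := ⟨_, rfl⟩
    have hii : i ≠ i₀ := fun h => by have := congrArg Fin.val (hi.symm.trans h); simp only [i₀] at this; omega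
    have hjj : j ≠ i₀ := fun h => by have := congrArg Fin.val (hj.symm.trans h); simp only [i₀] at this; omega
    have hij : i ≠ j := fun h => by simp [hi, hj] at h
    have h1 := hgnd (g (e j) (e i₀) • e i - g (e i) (e i₀) • e j) fun k => by
      simp only [map_sub, map_smul, LinearMap.sub_apply, LinearMap.smul_apply, smul_eq_mul]
      rcases eq_or_ne k i₀ with rfl | hk
      · ring
      · rw [hzero i k hii hk, hzero j k hjj hk]; ring
    have h3 : g (e i) (e i₀) = 0 := by
      have := congrFun h1 j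
      simpa [he, hij.symm] using this
    have h4 := congrFun (hgnd (e i) fun k => by
      rcases eq_or_ne k i₀ with rfl | hk
      exacts [h3, hzero i k hii hk]) i
    simp [he] at h4
  · intro hv x hx1 hx2
    obtain ⟨z, hz⟩ := hx1
    set T := Matrix.toLin' (x : Matrix (Fin n) (Fin n) F) with hTdef
    have hz0 : z ≠ 0 := by
      rintro rfl
      have h1 := (x ^ 2).2
      rw [hz, zero_smul, Matrix.det_zero] at h1
      exact zero_ne_one h1
    have hTT : ∀ v, T (T v) = z • v := fun v => by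
      rw [hTdef, ← LinearMap.comp_apply, ← Matrix.toLin'_mul, ← pow_two, ← Matrix.SpecialLinearGroup.coe_pow, hz]
      simp [Matrix.smul_mulVec]
    have hfr : finrank F (Fin n → F) = 2 * m := by rw [Module.finrank_fin_fun]; omega
    obtain ⟨κ, _, β, μ, hμ, hβ⟩ := exists_pairing hfr T hz0 hTT (by rw [hTdef, LinearMap.det_toLin']; exact x.2)
      fun c => by
        by_cases h2 : (2 : F) = 0
        · exact Or.inr h2
        · exact Or.inl (no_root h2 (by omega) (by rw [hq, show 2 * m = n by omega]; exact hv) c)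
    obtain ⟨ι, _, π, e, g, hπ, hs, -, hcard⟩ := Cfsg.Agent.S5960.exists_sys (T := LinearMap.id) hA (one_ne_zero (α := F))
      (fun v => (one_smul F v).symm) (fun u v => rfl) _ ⊤ rfl (fun y _ => Submodule.mem_top)
      (fun y _ h => by
        by_contra h0
        obtain ⟨-, w, hw⟩ := hndeg y h0
        exact hw (by rw [← hBf]; exact h w Submodule.mem_top))
    have hli := hs.li hA
    have hle := hli.fintype_card_le_finrank
    rw [finrank_top] at hcard
    rw [Fintype.card_sum] at hle
    have hκ : Fintype.card κ = Fintype.card ι := by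
      have := finrank_eq_card_basis β
      rw [Fintype.card_sum] at this
      omega
    let γ : Basis (ι ⊕ ι) F (Fin n → F) := Basis.mk hli (by
      rw [hli.span_eq_top_of_card_eq_finrank' (by rw [Fintype.card_sum]; omega)])
    have hsid : Cfsg.Agent.S5960.Sys B LinearMap.id id e g :=
      ⟨hs.ee, hs.ff, hs.ef, hs.ef_ne, fun x => Submodule.subset_span (by simp), fun x => Submodule.subset_span (by simp)⟩
    obtain ⟨G, hG⟩ := build B hA hsid γ (fun i => Basis.mk_apply _ _ _) (Fintype.equivOfCardEq hκ) β T μ hβ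
    obtain ⟨P, hP⟩ := Cfsg.Lib.Linear.SquareScalar.exists_SL x hz0 hTT G
      ((G : (Fin n → F) →ₗ[F] (Fin n → F)) ∘ₗ T ∘ₗ (G.symm : (Fin n → F) →ₗ[F] (Fin n → F)))
      (fun v => by simp [hTdef])
    refine ⟨P, Subgroup.mem_comap.2 ⟨Units.mk0 μ hμ, fun u v => ?_⟩⟩
    show f (((P⁻¹ * x * P : Matrix.SpecialLinearGroup (Fin n) F) : Matrix (Fin n) (Fin n) F) *ᵥ u)
      (((P⁻¹ * x * P : Matrix.SpecialLinearGroup (Fin n) F) : Matrix (Fin n) (Fin n) F) *ᵥ v) = μ * f u v
    rw [← Matrix.toLin'_apply, ← Matrix.toLin'_apply, hP, ← hBf, ← hBf]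
    simp only [LinearMap.comp_apply, LinearEquiv.coe_coe]
    rw [hG, LinearEquiv.apply_symm_apply, LinearEquiv.apply_symm_apply]

end Cfsg.Agent.S5967
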