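import Cfsg.Statements.S5969
import Cfsg.Agent.S5957
import Cfsg.Agent.Lib.Linear.SquareScalar
-- import your own Cfsg.Agent.* helpers here

set_option autoImplicit false
open scoped MatrixGroups
open Cfsg

namespace Cfsg.Agent.S5969

open Module
open scoped Matrix

variable {F : Type*} [Field F] {n : ℕ}

/-- A nonscalar element of a quadratic field of matrices. -/
theorem exists_gen [NeZero n] (K : Subalgebra F (Matrix (Fin n) (Fin n) F))
    (hK : Cfsg.Geo.IsFieldSubalgebra 2 K) :
    ∃ k ∈ K, ∃ a b : F, k * k = a • k + b • 1 ∧ (∀ t : F, t * t ≠ a * t + b) ∧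
      (∀ e ∈ K, ∃ α β : F, e = α • k + β • 1) ∧ ∀ t : F, k ≠ t • 1 := by
  obtain ⟨k, hk, hns⟩ : ∃ k ∈ K, ∀ t : F, k ≠ t • 1 := by
    by_contra h
    push Not at h
    have hle : Subalgebra.toSubmodule K ≤ Submodule.span F {(1 : Matrix (Fin n) (Fin n) F)} := fun e he => by
      obtain ⟨t, rfl⟩ := h e he
      exact Submodule.smul_mem _ _ (Submodule.mem_span_singleton_self _)
    have h1 := (Submodule.finrank_mono hle).trans (finrank_span_le_card _)
    simp only [Subalgebra.finrank_toSubmodule, hK.finrank_eq, Set.toFinset_singleton, Finset.card_singleton] at h1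
    omega
  have hspan : Submodule.span F {k, 1} = Subalgebra.toSubmodule K := by
    refine Submodule.eq_of_le_of_finrank_le (Submodule.span_le.2 ?_) ?_
    · rintro e (rfl | rfl)
      exacts [hk, K.one_mem]
    · rw [Subalgebra.finrank_toSubmodule, hK.finrank_eq]
      have hli : LinearIndependent F ![k, 1] := LinearIndependent.pair_iff.2 fun s t hst => by
        by_cases hs : s = 0
        · subst hs
          rw [zero_smul, zero_add] at hst
          exact ⟨rfl, (smul_eq_zero.1 hst).resolve_right one_ne_zero⟩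
        · refine absurd ?_ (hns (-(t / s)))
          rw [add_eq_zero_iff_eq_neg] at hst
          rw [← inv_smul_smul₀ hs k, hst, smul_neg, smul_smul, neg_smul, div_eq_inv_mul]
      have := finrank_span_eq_card hli
      rw [Matrix.range_cons, Matrix.range_cons, Matrix.range_empty, Set.union_empty, Set.singleton_union, Fintype.card_fin] at this
      rw [this]
  have hall : ∀ e ∈ K, ∃ α β : F, e = α • k + β • 1 := fun e he => by
    obtain ⟨α, β, h⟩ := Submodule.mem_span_pair.1 (hspan ▸ he : e ∈ Submodule.span F {k, 1})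
    exact ⟨α, β, h.symm⟩
  obtain ⟨a, b, hab⟩ := hall _ (K.mul_mem hk hk)
  refine ⟨k, hk, a, b, hab, fun t ht => ?_, hall, hns⟩
  have h0 : (k - t • 1) * (k - (a - t) • 1) = 0 := by
    simp only [sub_mul, mul_sub, smul_mul_assoc, mul_smul_comm, one_mul, mul_one, hab, smul_smul, smul_sub]
    match_scalars <;> first | ring1 | linear_combination -ht
  by_cases h : k - t • 1 = 0
  · exact hns t (sub_eq_zero.1 h)
  obtain ⟨y, -, hy⟩ := hK.inv _ (K.sub_mem hk (K.smul_mem K.one_mem t)) h
  have hy' : y * (k - t • 1) = 1 := mul_eq_one_comm.1 hy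
  have h2 := congrArg (y * ·) h0
  simp only [← mul_assoc, hy', one_mul, mul_zero] at h2
  exact hns _ (sub_eq_zero.1 h2)

/-- An element whose square is scalar and which moves a generator into `K` normalises `K`. -/
theorem mem_norm (K : Subalgebra F (Matrix (Fin n) (Fin n) F)) (k k' : Matrix (Fin n) (Fin n) F)
    (hk' : k' ∈ K) (hgen : ∀ e ∈ K, ∃ α β : F, e = α • k + β • 1) (g : GL (Fin n) F) {z : F} (hz : z ≠ 0)
    (hg : (g : Matrix (Fin n) (Fin n) F) * g = z • 1) (hgk : (g : Matrix (Fin n) (Fin n) F) * k = k' * g) :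
    g ∈ Cfsg.Geo.subalgebraNormalizer K := by
  have hconj : ∀ e ∈ K, (g : Matrix (Fin n) (Fin n) F) * e * ((g⁻¹ : GL (Fin n) F) : Matrix (Fin n) (Fin n) F) ∈ K := by
    intro e he
    obtain ⟨α, β, rfl⟩ := hgen e he
    rw [mul_add, add_mul, mul_smul_comm, mul_smul_comm, smul_mul_assoc, smul_mul_assoc, hgk, mul_assoc, mul_one,
      Units.mul_inv, mul_one]
    exact K.add_mem (K.smul_mem hk' α) (K.smul_mem K.one_mem β)
  intro e
  refine ⟨hconj e, fun h => ?_⟩
  have h1 := hconj _ h
  have hgi : ((g⁻¹ : GL (Fin n) F) : Matrix (Fin n) (Fin n) F) = z⁻¹ • (g : Matrix (Fin n) (Fin n) F) := by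
    rw [Units.inv_eq_of_mul_eq_one_right (u := g)]
    rw [mul_smul_comm, hg, smul_smul, inv_mul_cancel₀ hz, one_smul]
  have h2 : (g : Matrix (Fin n) (Fin n) F) * ((g : Matrix (Fin n) (Fin n) F) * e * ((g⁻¹ : GL (Fin n) F) : Matrix (Fin n) (Fin n) F)) *
      ((g⁻¹ : GL (Fin n) F) : Matrix (Fin n) (Fin n) F) = e := by
    rw [hgi, ← mul_assoc, ← mul_assoc, hg]
    simp only [smul_mul_assoc, mul_smul_comm, one_mul, mul_assoc, hg, smul_smul, mul_one]
    rw [show z⁻¹ * (z⁻¹ * (z * z)) = (z⁻¹ * z) * (z⁻¹ * z) by ring, inv_mul_cancel₀ hz, one_mul, one_smul]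
  rwa [h2] at h1

/-- Two maps squaring to the same non-square are conjugate. -/
theorem conj_nonsquare [Finite F] {V : Type*} [AddCommGroup V] [Module F V] [FiniteDimensional F V]
    (J J' : V →ₗ[F] V) {d : F} (hd : ∀ t : F, t * t ≠ d) (hJ : ∀ v, J (J v) = d • v) (hJ' : ∀ v, J' (J' v) = d • v) :
    ∃ G : V ≃ₗ[F] V, ∀ v, G (J v) = J' (G v) := by
  have hd0 : d ≠ 0 := fun h => hd 0 (by rw [h, mul_zero])
  obtain ⟨r, s, b, c, hp, hs⟩ := Cfsg.Agent.S5957.exists_normal_basis J d hd0 hJ
  obtain ⟨r', s', b', c', hp', hs'⟩ := Cfsg.Agent.S5957.exists_normal_basis J' d hd0 hJ'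
  have hzero : ∀ {r s : ℕ} (J : V →ₗ[F] V) (b : Basis ((Fin r × Fin 2) ⊕ Fin s) F V) (c : Fin s → F),
      (∀ v, J (J v) = d • v) → (∀ l, J (b (.inr l)) = c l • b (.inr l)) → s = 0 := by
    intro r s J b c hJ hs
    rcases Nat.eq_zero_or_pos s with h | h
    · exact h
    have h1 := hJ (b (.inr ⟨0, h⟩))
    rw [hs, map_smul, hs, smul_smul] at h1
    exact absurd (smul_left_injective F (b.ne_zero _) h1) (hd _)
  obtain rfl := hzero J b c hJ hs
  obtain rfl := hzero J' b' c' hJ' hs'
  obtain rfl : r = r' := by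
    have h1 := finrank_eq_card_basis b
    have h2 := finrank_eq_card_basis b'
    simp only [Fintype.card_sum, Fintype.card_prod, Fintype.card_fin] at h1 h2
    omega
  refine ⟨b.equiv b' (Equiv.refl _), fun v => ?_⟩
  refine LinearMap.congr_fun (f := ((b.equiv b' (Equiv.refl _)) : V →ₗ[F] V) ∘ₗ J)
    (g := J' ∘ₗ ((b.equiv b' (Equiv.refl _)) : V →ₗ[F] V)) (b.ext ?_) v
  rintro (⟨p, i⟩ | l)
  · rcases Fin.exists_fin_two.1 ⟨i, rfl⟩ with rfl | rfl <;> simp [(hp p).1, (hp p).2, (hp' p).1, (hp' p).2]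
  · exact l.elim0

/-- A map with scalar square anticommutes or commutes with some square root of a non-square. -/
theorem exists_root {V : Type*} [AddCommGroup V] [Module F V] [FiniteDimensional F V] (h2 : (2 : F) ≠ 0)
    {m : ℕ} (hV : finrank F V = 2 * m) (T : V →ₗ[F] V) {c d : F} (hc : c ≠ 0) (hT : ∀ v, T (T v) = (c * c) • v)
    (hdet : LinearMap.det T = 1) (hcond : m = 1 ∨ c ^ (2 * m) ≠ -1) :
    ∃ (J : V →ₗ[F] V) (ε : F), (∀ v, J (J v) = d • v) ∧ ∀ v, T (J v) = ε • J (T v) := by
  classical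
  obtain ⟨a, b, β, hl, hr⟩ := Cfsg.Lib.Linear.SquareScalar.exists_eigenbasis h2 T hc hT
  have hab : a + b = 2 * m := by rw [← hV, finrank_eq_card_basis β]; simp
  have build : ∀ {κ : Type} [Fintype κ] (γ : Basis (κ ⊕ κ) F V) (ε : F) (e : κ → F), (ε * ε = 1) →
      (∀ k, T (γ (.inl k)) = e k • γ (.inl k) ∧ T (γ (.inr k)) = (ε * e k) • γ (.inr k)) →
      ∃ (J : V →ₗ[F] V) (ε : F), (∀ v, J (J v) = d • v) ∧ ∀ v, T (J v) = ε • J (T v) := by
    intro κ _ γ ε e hε h
    obtain ⟨J, hJdef⟩ : ∃ J : V →ₗ[F] V, J = γ.constr F (Sum.elim (fun k => γ (.inr k)) (fun k => d • γ (.inl k))) :=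
      ⟨_, rfl⟩
    refine ⟨J, ε, fun v => LinearMap.congr_fun (f := J ∘ₗ J) (g := d • LinearMap.id) (γ.ext ?_) v,
      fun v => LinearMap.congr_fun (f := T ∘ₗ J) (g := ε • J ∘ₗ T) (γ.ext ?_) v⟩
    · rintro (k | k) <;> simp [hJdef]
    · rintro (k | k)
      · simp [hJdef, (h k).1, (h k).2, smul_smul]
      · simp [hJdef, (h k).1, (h k).2, smul_smul]
        rw [show ε * (ε * e k * d) = (ε * ε) * (d * e k) by ring, hε, one_mul]
  rcases Nat.even_or_odd b with ⟨b', rfl⟩ | hb
  · obtain ⟨a', rfl⟩ : ∃ a', a = a' + a' := ⟨a / 2, by omega⟩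
    let E : Fin (a' + a') ⊕ Fin (b' + b') ≃ (Fin a' ⊕ Fin b') ⊕ (Fin a' ⊕ Fin b') :=
      (Equiv.sumCongr finSumFinEquiv.symm finSumFinEquiv.symm).trans (Equiv.sumSumSumComm _ _ _ _)
    refine build (β.reindex E) 1 (Sum.elim (fun _ => c) (fun _ => -c)) (one_mul 1) ?_
    rintro (i | i) <;> simp [E, hl, hr]
  · obtain rfl : a = b := by
      rcases hcond with rfl | hcond
      · rw [Nat.odd_iff] at hb; omega
      exfalso
      have h1 := Cfsg.Lib.Linear.SquareScalar.det_of_eigenbasis β T (Sum.elim (fun _ => c) (fun _ => -c))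
        (by rintro (i | i) <;> simp [hl, hr])
      rw [hdet] at h1
      simp only [Fintype.prod_sum_type, Sum.elim_inl, Sum.elim_inr, Finset.prod_const, Finset.card_univ,
        Fintype.card_fin, hb.neg_pow, mul_neg, ← pow_add, hab] at h1
      exact hcond (by rw [h1, neg_neg])
    exact build β (-1) (fun _ => c) (by ring) fun k => ⟨hl k, by rw [hr]; simp⟩

/-- Two nonscalar maps on a plane with the same scalar square are conjugate. -/
theorem conj_plane {V : Type*} [AddCommGroup V] [Module F V] [FiniteDimensional F V] (hV : finrank F V = 2)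
    (T Y : V →ₗ[F] V) {z : F} (hT : ∀ v, T (T v) = z • v) (hY : ∀ v, Y (Y v) = z • v)
    (hT' : ∀ t : F, T ≠ t • LinearMap.id) (hY' : ∀ t : F, Y ≠ t • LinearMap.id) :
    ∃ G : V ≃ₗ[F] V, ∀ v, G (T v) = Y (G v) := by
  have mk : ∀ T : V →ₗ[F] V, (∀ t : F, T ≠ t • LinearMap.id) → ∃ b : Basis (Fin 2) F V, b 1 = T (b 0) := by
    intro T hT'
    obtain ⟨u, hu⟩ : ∃ u, LinearIndependent F ![u, T u] := by
      by_contra h
      push Not at h
      have key : ∀ u, ∃ t : F, T u = t • u := fun u => by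
        by_cases hu : u = 0
        · exact ⟨0, by rw [hu, map_zero, smul_zero]⟩
        have h1 := h u
        rw [LinearIndependent.pair_iff' hu] at h1
        push Not at h1
        obtain ⟨t, ht⟩ := h1
        exact ⟨t, ht.symm⟩
      obtain ⟨t, ht⟩ := LinearMap.exists_eq_smul_id_of_forall_notLinearIndependent (f := T) (fun v => h v)
      exact hT' t ht
    refine ⟨Basis.mk hu (by rw [hu.span_eq_top_of_card_eq_finrank' (by rw [hV, Fintype.card_fin])]), by simp⟩
  obtain ⟨b, hb⟩ := mk T hT'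
  obtain ⟨b', hb'⟩ := mk Y hY'
  refine ⟨b.equiv b' (Equiv.refl _), fun v => ?_⟩
  refine LinearMap.congr_fun (f := ((b.equiv b' (Equiv.refl _)) : V →ₗ[F] V) ∘ₗ T)
    (g := Y ∘ₗ ((b.equiv b' (Equiv.refl _)) : V →ₗ[F] V)) (b.ext fun i => ?_) v
  rcases Fin.exists_fin_two.1 ⟨i, rfl⟩ with rfl | rfl
  · simp only [LinearMap.comp_apply, LinearEquiv.coe_coe, ← hb, Basis.equiv_apply, Equiv.refl_apply, hb']
  · rw [LinearMap.comp_apply, LinearMap.comp_apply, LinearEquiv.coe_coe, Basis.equiv_apply, Equiv.refl_apply, hb', hY,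
      hb, hT, map_smul, Basis.equiv_apply, Equiv.refl_apply]

/-- If `2`-parts allow, `-1` is no `n`-th power. -/
theorem no_root [Fintype F] (h2 : (2 : F) ≠ 0) {n : ℕ} (hn : n ≠ 0)
    (h : padicValNat 2 (Fintype.card F - 1) ≤ padicValNat 2 n) (c : F) : c ^ n ≠ -1 := by
  intro hc
  haveI : Fact (Nat.Prime 2) := ⟨Nat.prime_two⟩
  have hq : 1 < Fintype.card F := Fintype.one_lt_card
  have hc0 : c ≠ 0 := fun h0 => by
    rw [h0, zero_pow hn] at hc
    exact one_ne_zero (neg_eq_zero.1 hc.symm)
  obtain ⟨u, hu⟩ := (pow_dvd_pow 2 h).trans (pow_padicValNat_dvd (p := 2) (n := n))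
  obtain ⟨w, hw⟩ := pow_padicValNat_dvd (p := 2) (n := Fintype.card F - 1)
  have hwodd : Odd w := by
    rw [Nat.odd_iff]
    by_contra h2
    refine pow_succ_padicValNat_not_dvd (p := 2) (n := Fintype.card F - 1) (by omega) ⟨w / 2, ?_⟩
    rw [pow_succ, mul_assoc, show 2 * (w / 2) = w by omega, ← hw]
  have h1 : c ^ (n * w) = 1 := by
    rw [show n * w = (Fintype.card F - 1) * u by
      conv_lhs => rw [hu]
      conv_rhs => rw [hw]
      ring, pow_mul, FiniteField.pow_card_sub_one_eq_one c hc0, one_pow]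
  rw [pow_mul, hc, hwodd.neg_one_pow] at h1
  exact h2 (by linear_combination -h1)

/-- If `2`-parts allow, `-1` is an `n`-th power. -/
theorem exists_neg_root [Fintype F] {n : ℕ} (hn : n ≠ 0)
    (hlt : padicValNat 2 n < padicValNat 2 (Fintype.card F - 1)) : ∃ c : F, c ^ n = -1 := by
  classical
  haveI : Fact (Nat.Prime 2) := ⟨Nat.prime_two⟩
  have hq : 1 < Fintype.card F := Fintype.one_lt_card
  obtain ⟨ζ, hζ⟩ := IsCyclic.exists_generator (α := Fˣ)
  obtain ⟨N, hN⟩ : ∃ N, N = padicValNat 2 n := ⟨_, rfl⟩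
  obtain ⟨e, he⟩ : 2 ^ (N + 1) ∣ Fintype.card F - 1 := (pow_dvd_pow 2 (hN ▸ hlt)).trans pow_padicValNat_dvd
  have hord : orderOf (ζ ^ e) = 2 ^ (N + 1) := by
    have hoζ : orderOf ζ = Fintype.card F - 1 := by
      rw [orderOf_eq_card_of_forall_mem_zpowers hζ, Nat.card_eq_fintype_card, Fintype.card_units]
    have he0 : e ≠ 0 := fun h => by rw [h, mul_zero] at he; omega
    rw [orderOf_pow' ζ he0, hoζ, he, Nat.gcd_eq_right ⟨_, by rw [mul_comm]⟩,
      Nat.mul_div_cancel _ (Nat.pos_of_ne_zero he0)]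
  have h1 : ((ζ ^ e : Fˣ) : F) ^ (2 ^ N) = -1 := by
    have h2' : (((ζ ^ e : Fˣ) : F) ^ (2 ^ N)) * (((ζ ^ e : Fˣ) : F) ^ (2 ^ N)) = 1 := by
      rw [← pow_add, ← two_mul, ← pow_succ', ← Units.val_pow_eq_pow_val, ← hord, pow_orderOf_eq_one, Units.val_one]
    rcases mul_self_eq_one_iff.1 h2' with h | h
    · rw [← Units.val_pow_eq_pow_val, Units.val_eq_one] at h
      have := Nat.le_of_dvd (by positivity) (hord ▸ orderOf_dvd_of_pow_eq_one h)
      rw [pow_succ] at this
      have : 0 < 2 ^ N := by positivity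
      omega
    · exact h
  refine ⟨((ζ ^ e : Fˣ) : F), ?_⟩
  obtain ⟨u, hu⟩ := hN ▸ (pow_padicValNat_dvd (p := 2) (n := n))
  have hodd : Odd u := by
    rw [Nat.odd_iff]
    by_contra h
    refine pow_succ_padicValNat_not_dvd (p := 2) (n := n) hn ⟨u / 2, ?_⟩
    rw [← hN, pow_succ, mul_assoc, show 2 * (u / 2) = u by omega, ← hu]
  rw [hu, pow_mul, h1, hodd.neg_one_pow]

/-- A diagonal reflection times a scalar moves no field generator to itself or its conjugate. -/
theorem bad_odd (h2 : (2 : F) ≠ 0) (hn : 3 ≤ n) (i₀ : Fin n) {c d : F} (hc : c ≠ 0) (hd : ∀ t : F, t * t ≠ d)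
    (W : Matrix (Fin n) (Fin n) F) (hW : W * W = d • 1) {ε : F} (hε : ε = 1 ∨ ε = -1)
    (h : Matrix.diagonal (fun i => if i = i₀ then -c else c) * W =
      ε • (W * Matrix.diagonal (fun i => if i = i₀ then -c else c))) : False := by
  classical
  have he : ∀ i j, (if i = i₀ then -c else c) * W i j = ε * (W i j * if j = i₀ then -c else c) := fun i j => by
    have := congrFun (congrFun h i) j
    rwa [Matrix.diagonal_mul, Matrix.smul_apply, smul_eq_mul, Matrix.mul_diagonal] at this
  have hd0 : d ≠ 0 := fun h => hd 0 (by rw [h, mul_zero])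
  have h2c : (2 : F) * c ≠ 0 := mul_ne_zero h2 hc
  rcases hε with rfl | rfl
  · have h0 : ∀ i, i ≠ i₀ → W i₀ i = 0 := fun i hi => by
      have := he i₀ i
      rw [if_pos rfl, if_neg hi] at this
      exact (mul_eq_zero.1 (by linear_combination -this : (2 * c) * W i₀ i = 0)).resolve_left h2c
    have := congrFun (congrFun hW i₀) i₀
    rw [Matrix.mul_apply, Finset.sum_eq_single i₀ (fun i _ hi => by rw [h0 i hi, zero_mul]) (by simp)] at this
    exact hd (W i₀ i₀) (by simpa using this)
  · have h0 : ∀ i j, i ≠ i₀ → j ≠ i₀ → W i j = 0 := fun i j hi hj => by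
      have := he i j
      rw [if_neg hi, if_neg hj] at this
      exact (mul_eq_zero.1 (by linear_combination this : (2 * c) * W i j = 0)).resolve_left h2c
    have hsq : ∀ i j, i ≠ i₀ → j ≠ i₀ → (W * W) i j = W i i₀ * W i₀ j := fun i j hi hj => by
      rw [Matrix.mul_apply, Finset.sum_eq_single i₀ (fun l _ hl => by rw [h0 i l hi hl, zero_mul]) (by simp)]
    obtain ⟨i, j, hi, hj, hij⟩ : ∃ i j : Fin n, i ≠ i₀ ∧ j ≠ i₀ ∧ i ≠ j := by
      have : 1 < (Finset.univ.erase i₀).card := by simp; omega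
      obtain ⟨i, hi, j, hj, hij⟩ := Finset.one_lt_card.1 this
      exact ⟨i, j, (Finset.mem_erase.1 hi).1, (Finset.mem_erase.1 hj).1, hij⟩
    have e1 := hsq i i hi hi
    have e2 := hsq j j hj hj
    have e3 := hsq i j hi hj
    simp only [hW, Matrix.smul_apply, Matrix.one_apply_eq, Matrix.one_apply_ne hij, smul_eq_mul, mul_one, mul_zero] at e1 e2 e3
    rcases mul_eq_zero.1 e3.symm with h | h
    · rw [h, zero_mul] at e1; exact hd0 e1
    · rw [h, mul_zero] at e2; exact hd0 e2

/-- A transvection moves no field generator to itself or its conjugate in characteristic two. -/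
theorem bad_even (h2 : (2 : F) = 0) (hn : 3 ≤ n) (i j : Fin n) (hij : i ≠ j) {a b : F} (hab : ∀ t : F, t * t ≠ a * t + b)
    (W W' : Matrix (Fin n) (Fin n) F) (hW : W * W = a • W + b • 1) (hW' : W' = W ∨ W' = a • 1 - W) (ha : a ≠ 0)
    (h : Matrix.transvection i j (1 : F) * W = W' * Matrix.transvection i j (1 : F)) : False := by
  classical
  have he : ∀ k l, W k l + (if k = i then W j l else 0) = W' k l + (if l = j then W' k i else 0) := fun k l => by
    have := congrFun (congrFun h k) l
    rw [Matrix.transvection, add_mul, one_mul, mul_add, mul_one, Matrix.add_apply, Matrix.add_apply] at this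
    simp only [Matrix.mul_apply, Matrix.single_apply, ite_mul, mul_ite, one_mul, mul_one, zero_mul, mul_zero] at this
    simpa [ite_and, eq_comm] using this
  rcases hW' with rfl | rfl
  · have h0 : ∀ k, k ≠ i → W' k i = 0 := fun k hk => by
      have := he k j
      rw [if_neg hk, if_pos rfl] at this
      linear_combination -this
    have := congrFun (congrFun hW i) i
    rw [Matrix.mul_apply, Finset.sum_eq_single i (fun k _ hk => by rw [h0 k hk, mul_zero]) (by simp)] at this
    exact hab (W' i i) (by simpa using this)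
  · obtain ⟨k, hki, hkj⟩ : ∃ k : Fin n, k ≠ i ∧ k ≠ j := by
      have : 0 < ((Finset.univ.erase i).erase j).card := by
        rw [Finset.card_erase_of_mem (by simp [hij.symm]), Finset.card_erase_of_mem (by simp)]
        simp; omega
      obtain ⟨k, hk⟩ := Finset.card_pos.1 this
      exact ⟨k, (Finset.mem_erase.1 (Finset.mem_erase.1 hk).2).1, (Finset.mem_erase.1 hk).1⟩
    have := he k k
    rw [if_neg hki, if_neg hkj, add_zero, add_zero, Matrix.sub_apply, Matrix.smul_apply, Matrix.one_apply_eq,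
      smul_eq_mul, mul_one] at this
    exact ha (by linear_combination -this + (W k k) * h2)

/-- Involutions of PSL_n(q) and extension-field subgroups of degree 2. Here `T = PSL_n(F)` for a field `F` with `q = p^f` elements (`n ≥ 2`, `(n, q) ≠ (2, 2), (2, 3)`), `k` is a prime dividing `n`, `K` is a subalgebra of the `n × n` matrices that is a field of degree `k` over `F` (an extension-field structure F_{q^k} on `F^n`), and `H` is the subgroup of matrices of determinant 1 normalizing `K` — a subgroup of type GL_{n/k}(q^k) (maximal except in some small cases; maximality is not assumed); Ω is the set of cosets of `H` in `T`, so an element of `T` of prime order `r` (a matrix `x` of determinant 1 with `x^r` scalar, `x` not scalar) fixes a point of Ω when some conjugate of `x` by a matrix of determinant 1 normalizes `K`. Take `k = 2` and suppose the index of `H` is even. Then every involution of `T` is conjugate in `T` into `H` if and only if `n = 2`, or `q` is odd and `(q − 1)_2 ≤ (n)_2`.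 -/
theorem result {F : Type*} [Field F] [Fintype F] {p : ℕ} [Fact p.Prime] [CharP F p] {q : ℕ} (hq : Fintype.card F = q)
    (n : ℕ) (hn : 2 ≤ n) (hT : (n, q) ≠ (2, 2) ∧ (n, q) ≠ (2, 3))
    (k : ℕ) (hk : k.Prime) (hkn : k ∣ n) (K : Subalgebra F (Matrix (Fin n) (Fin n) F)) (hK : Cfsg.Geo.IsFieldSubalgebra k K) (hk2 : k = 2) (hΩ : 2 ∣ ((Cfsg.Geo.subalgebraNormalizer K).comap (Matrix.SpecialLinearGroup.toGL : Matrix.SpecialLinearGroup (Fin n) F →* GL (Fin n) F)).index) :
    (∀ x : Matrix.SpecialLinearGroup (Fin n) F,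
      (∃ z : F, ((x ^ 2 : Matrix.SpecialLinearGroup (Fin n) F) : Matrix (Fin n) (Fin n) F) = z • (1 : Matrix (Fin n) (Fin n) F)) →
      (∀ z : F, (x : Matrix (Fin n) (Fin n) F) ≠ z • (1 : Matrix (Fin n) (Fin n) F)) →
      ∃ P : Matrix.SpecialLinearGroup (Fin n) F, P⁻¹ * x * P ∈ ((Cfsg.Geo.subalgebraNormalizer K).comap (Matrix.SpecialLinearGroup.toGL : Matrix.SpecialLinearGroup (Fin n) F →* GL (Fin n) F))) ↔
    (n = 2 ∨ (Odd q ∧ padicValNat 2 (q - 1) ≤ padicValNat 2 n)) := by
  classical
  subst hk2 hq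
  haveI : NeZero n := ⟨by omega⟩
  haveI : Nonempty (Fin n) := ⟨⟨0, by omega⟩⟩
  obtain ⟨m, hm⟩ := hkn
  obtain ⟨k, hkK, a, b, hab, hirr, hgen, hns⟩ := exists_gen K hK
  have hchar : ¬ Odd (Fintype.card F) → (2 : F) = 0 := fun h => by
    have h1 : ringChar F = 2 := (FiniteField.even_card_iff_char_two).2 (by rw [Nat.odd_iff] at h; omega)
    have h3 := ringChar.charP F
    rw [h1] at h3
    exact_mod_cast CharP.cast_eq_zero F 2
  have hodd2 : Odd (Fintype.card F) → (2 : F) ≠ 0 := fun h => by
    refine Ring.two_ne_zero fun h1 => ?_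
    have := (FiniteField.even_card_iff_char_two (F := F)).1 h1
    rw [Nat.odd_iff] at h
    omega
  have ha0 : (2 : F) = 0 → a ≠ 0 := fun h2 ha => by
    have h1 : ringChar F = 2 := by
      by_contra h
      exact Ring.two_ne_zero h h2
    obtain ⟨t, ht⟩ := FiniteField.isSquare_of_char_two h1 b
    exact hirr t (by rw [ha, ht]; ring)
  constructor
  · intro hall
    by_contra hneg
    push Not at hneg
    obtain ⟨hn2, hv⟩ := hneg
    have hn3 : 3 ≤ n := by omega
    have key : ∀ x : Matrix.SpecialLinearGroup (Fin n) F,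
        ∀ P : Matrix.SpecialLinearGroup (Fin n) F,
        P⁻¹ * x * P ∈ ((Cfsg.Geo.subalgebraNormalizer K).comap Matrix.SpecialLinearGroup.toGL) →
        ∃ W W' : Matrix (Fin n) (Fin n) F, W * W = a • W + b • 1 ∧ (W' = W ∨ W' = a • 1 - W) ∧
          (x : Matrix (Fin n) (Fin n) F) * W = W' * (x : Matrix (Fin n) (Fin n) F) := by
      intro x P hP
      obtain ⟨g, hg⟩ : ∃ g, g = (Matrix.SpecialLinearGroup.toGL (P⁻¹ * x * P) : GL (Fin n) F) := ⟨_, rfl⟩
      have he : (g : Matrix (Fin n) (Fin n) F) * k * ((g⁻¹ : GL (Fin n) F) : Matrix (Fin n) (Fin n) F) ∈ K := by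
        subst hg
        exact ((Subgroup.mem_comap.1 hP) k).1 hkK
      obtain ⟨e, hedef⟩ : ∃ e, e = (g : Matrix (Fin n) (Fin n) F) * k * ((g⁻¹ : GL (Fin n) F) : Matrix (Fin n) (Fin n) F) := ⟨_, rfl⟩
      rw [← hedef] at he
      have he2 : e * e = a • e + b • 1 := by
        rw [hedef, mul_assoc, ← mul_assoc _ (_ * k), ← mul_assoc ((g⁻¹ : GL (Fin n) F) : Matrix (Fin n) (Fin n) F),
          Units.inv_mul, one_mul, ← mul_assoc, mul_assoc (g : Matrix (Fin n) (Fin n) F) k k, hab]
        simp [mul_add, add_mul]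
      have hek : e = k ∨ e = a • 1 - k := by
        have hcomm := hK.comm e he k hkK
        have h0 : (e - k) * (e - (a • 1 - k)) = 0 := by
          simp only [sub_mul, mul_sub, smul_mul_assoc, mul_smul_comm, one_mul, mul_one, hab, he2, hcomm, smul_sub]
          abel
        by_cases h : e - k = 0
        · exact Or.inl (sub_eq_zero.1 h)
        obtain ⟨y, -, hy⟩ := hK.inv _ (K.sub_mem he hkK) h
        have h3 := congrArg (y * ·) h0
        simp only [← mul_assoc, mul_eq_one_comm.1 hy, one_mul, mul_zero] at h3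
        exact Or.inr (sub_eq_zero.1 h3)
      refine ⟨(P : Matrix (Fin n) (Fin n) F) * k * ((P⁻¹ : Matrix.SpecialLinearGroup (Fin n) F) : Matrix (Fin n) (Fin n) F),
        (P : Matrix (Fin n) (Fin n) F) * e * ((P⁻¹ : Matrix.SpecialLinearGroup (Fin n) F) : Matrix (Fin n) (Fin n) F), ?_, ?_, ?_⟩
      · have h1 : ((P⁻¹ : Matrix.SpecialLinearGroup (Fin n) F) : Matrix (Fin n) (Fin n) F) * (P : Matrix (Fin n) (Fin n) F) = 1 := by
          rw [← Matrix.SpecialLinearGroup.coe_mul, inv_mul_cancel, Matrix.SpecialLinearGroup.coe_one]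
        have h3 : (P : Matrix (Fin n) (Fin n) F) * ((P⁻¹ : Matrix.SpecialLinearGroup (Fin n) F) : Matrix (Fin n) (Fin n) F) = 1 := by
          rw [← Matrix.SpecialLinearGroup.coe_mul, mul_inv_cancel, Matrix.SpecialLinearGroup.coe_one]
        calc _ = (P : Matrix (Fin n) (Fin n) F) * (k * k) * ((P⁻¹ : Matrix.SpecialLinearGroup (Fin n) F) : Matrix (Fin n) (Fin n) F) := by
              simp only [mul_assoc]
              rw [← mul_assoc ((P⁻¹ : Matrix.SpecialLinearGroup (Fin n) F) : Matrix (Fin n) (Fin n) F), h1, one_mul]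
          _ = _ := by rw [hab, mul_add, add_mul, mul_smul_comm, mul_smul_comm, smul_mul_assoc, smul_mul_assoc, mul_one, h3]
      · rcases hek with h | h
        · exact Or.inl (by rw [h])
        · refine Or.inr ?_
          rw [h, mul_sub, sub_mul, mul_smul_comm, smul_mul_assoc, mul_one, ← Matrix.SpecialLinearGroup.coe_mul,
            mul_inv_cancel, Matrix.SpecialLinearGroup.coe_one]
      · have hge : (g : Matrix (Fin n) (Fin n) F) * k = e * (g : Matrix (Fin n) (Fin n) F) := by
          rw [hedef, mul_assoc _ _ (g : Matrix (Fin n) (Fin n) F), Units.inv_mul, mul_one]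
        have hgm : (g : Matrix (Fin n) (Fin n) F) = ((P⁻¹ * x * P : Matrix.SpecialLinearGroup (Fin n) F) : Matrix (Fin n) (Fin n) F) := by
          rw [hg]; rfl
        rw [hgm, Matrix.SpecialLinearGroup.coe_mul, Matrix.SpecialLinearGroup.coe_mul] at hge
        have h1 : (P : Matrix (Fin n) (Fin n) F) * ((P⁻¹ : Matrix.SpecialLinearGroup (Fin n) F) : Matrix (Fin n) (Fin n) F) = 1 := by
          rw [← Matrix.SpecialLinearGroup.coe_mul, mul_inv_cancel, Matrix.SpecialLinearGroup.coe_one]
        have h3 := congrArg (fun M => (P : Matrix (Fin n) (Fin n) F) * M * ((P⁻¹ : Matrix.SpecialLinearGroup (Fin n) F) : Matrix (Fin n) (Fin n) F)) hge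
        simp only [← mul_assoc] at h3
        rw [h1, one_mul] at h3
        simp only [mul_assoc] at h3 ⊢
        rw [h1, mul_one] at h3
        exact h3
    by_cases hodd : Odd (Fintype.card F)
    · have h2 := hodd2 hodd
      obtain ⟨c, hc⟩ := exists_neg_root (F := F) (n := n) (by omega) (hv hodd)
      have hc0 : c ≠ 0 := fun h0 => by
        rw [h0, zero_pow (by omega)] at hc
        exact one_ne_zero (neg_eq_zero.1 hc.symm)
      let i₀ : Fin n := ⟨0, by omega⟩
      have hdet : (Matrix.diagonal fun i => if i = i₀ then -c else c).det = 1 := by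
        rw [Matrix.det_diagonal, show (fun i => if i = i₀ then -c else c) = fun i => c * (if i = i₀ then -1 else 1) from
          funext fun i => by split_ifs <;> ring, Finset.prod_mul_distrib,
          Finset.prod_ite_eq' Finset.univ i₀ fun _ => (-1 : F)]
        simp [hc]
      let x0 : Matrix.SpecialLinearGroup (Fin n) F := ⟨_, hdet⟩
      have hx0 : (x0 : Matrix (Fin n) (Fin n) F) = Matrix.diagonal fun i => if i = i₀ then -c else c := rfl
      obtain ⟨P, hP⟩ := hall x0 ⟨c * c, by
        rw [Matrix.SpecialLinearGroup.coe_pow, hx0, Matrix.diagonal_pow, Matrix.smul_one_eq_diagonal]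
        exact congrArg _ (funext fun i => by simp only [Pi.pow_apply]; split_ifs <;> ring)⟩ (by
        intro w hw
        rw [hx0] at hw
        have e1 := congrFun (congrFun hw i₀) i₀
        have e2 := congrFun (congrFun hw ⟨1, by omega⟩) ⟨1, by omega⟩
        simp [i₀] at e1 e2
        exact mul_ne_zero h2 hc0 (by linear_combination e2 - e1))
      obtain ⟨W, W', hW, hW', hxW⟩ := key x0 P hP
      rw [hx0] at hxW
      refine bad_odd h2 hn3 i₀ hc0 (d := a * a + 4 * b) (fun t ht => hirr ((t + a) / 2) ?_)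
        ((2 : F) • W - a • 1) ?_ (ε := if W' = W then 1 else -1) (by split_ifs <;> simp) ?_
      · field_simp; linear_combination ht
      · simp only [sub_mul, mul_sub, smul_mul_assoc, mul_smul_comm, one_mul, mul_one, hW, smul_sub, smul_add, smul_smul]
        match_scalars <;> ring
      · split_ifs with hWW
        · rw [one_smul, mul_sub, mul_smul_comm, hxW, hWW, sub_mul, smul_mul_assoc]
          simp
        · rw [mul_sub, mul_smul_comm, hxW, hW'.resolve_left hWW]
          simp only [sub_mul, smul_mul_assoc, one_mul, mul_smul_comm, mul_one, smul_sub, smul_smul]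
          match_scalars <;> ring
    · have h2 := hchar hodd
      let i : Fin n := ⟨0, by omega⟩
      let j : Fin n := ⟨1, by omega⟩
      have hij : i ≠ j := by simp [i, j]
      let x0 : Matrix.SpecialLinearGroup (Fin n) F := ⟨Matrix.transvection i j 1, Matrix.det_transvection_of_ne i j hij 1⟩
      have hx0 : (x0 : Matrix (Fin n) (Fin n) F) = Matrix.transvection i j 1 := rfl
      obtain ⟨P, hP⟩ := hall x0 ⟨1, by
        rw [Matrix.SpecialLinearGroup.coe_pow, hx0, pow_two, one_smul, Matrix.transvection]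
        have hEE : Matrix.single i j (1 : F) * Matrix.single i j (1 : F) = 0 := by simp [hij.symm]
        simp only [add_mul, mul_add, one_mul, mul_one, hEE, add_zero]
        rw [add_assoc, ← Matrix.single_add, one_add_one_eq_two, h2, Matrix.single_zero, add_zero]⟩ (by
        intro w hw
        have := congrFun (congrFun hw i) j
        rw [hx0] at this
        simp [Matrix.transvection, hij] at this)
      obtain ⟨W, W', hW, hW', hxW⟩ := key x0 P hP
      exact bad_even h2 hn3 i j hij hirr W W' hW hW' (ha0 h2) (hx0 ▸ hxW)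
  · intro hv x hx1 hx2
    obtain ⟨z, hz⟩ := hx1
    set T := Matrix.toLin' (x : Matrix (Fin n) (Fin n) F) with hTdef
    have hz0 : z ≠ 0 := by
      rintro rfl
      have h1 := (x ^ 2).2
      rw [hz, zero_smul, Matrix.det_zero] at h1
      exact zero_ne_one h1
    have hTT : ∀ v, T (T v) = z • v := fun v => by
      rw [hTdef, ← LinearMap.comp_apply, ← Matrix.toLin'_mul, ← pow_two, ← Matrix.SpecialLinearGroup.coe_pow, hz]
      simp [Matrix.smul_mulVec]
    have hfr : finrank F (Fin n → F) = 2 * m := by rw [Module.finrank_fin_fun, hm]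
    suffices H : ∃ (G : (Fin n → F) ≃ₗ[F] (Fin n → F)) (Y k0 k' : Matrix (Fin n) (Fin n) F), k' ∈ K ∧
        (∀ e ∈ K, ∃ α β : F, e = α • k0 + β • 1) ∧ Y * k0 = k' * Y ∧ ∀ v, G (T v) = Matrix.toLin' Y (G v) by
      obtain ⟨G, Y, k0, k', hk', hgen0, hYk, hG⟩ := H
      obtain ⟨P, hP⟩ := Cfsg.Lib.Linear.SquareScalar.exists_SL x hz0 hTT G (Matrix.toLin' Y) hG
      refine ⟨P, Subgroup.mem_comap.2 ?_⟩
      have hcoe : ((Matrix.SpecialLinearGroup.toGL (P⁻¹ * x * P) : GL (Fin n) F) : Matrix (Fin n) (Fin n) F) = Y :=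
        Matrix.toLin'.injective hP
      refine mem_norm K k0 k' hk' hgen0 _ hz0 ?_ (by rw [hcoe]; exact hYk)
      rw [hcoe]
      refine Matrix.toLin'.injective (LinearMap.ext fun v => ?_)
      obtain ⟨u, rfl⟩ := G.surjective v
      rw [Matrix.toLin'_mul, LinearMap.comp_apply, ← hG, ← hG, hTT, map_smul, map_smul, Matrix.toLin'_one,
        LinearMap.smul_apply, LinearMap.id_apply]
    by_cases hodd : Odd (Fintype.card F)
    · have h2 := hodd2 hodd
      -- square roots of non-squares in `K`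
      obtain ⟨ω, hωK, d, hω, hd, hωgen⟩ : ∃ ω ∈ K, ∃ d : F, ω * ω = d • 1 ∧ (∀ t : F, t * t ≠ d) ∧
          ∀ e ∈ K, ∃ α β : F, e = α • ω + β • 1 := by
        refine ⟨(2 : F) • k - a • 1, K.sub_mem (K.smul_mem hkK _) (K.smul_mem K.one_mem _), a * a + 4 * b, ?_,
          fun t ht => hirr ((t + a) / 2) (by field_simp; linear_combination ht), fun e he => ?_⟩
        · simp only [sub_mul, mul_sub, smul_mul_assoc, mul_smul_comm, one_mul, mul_one, hab, smul_sub, smul_add, smul_smul]
          match_scalars <;> ring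
        · obtain ⟨α, β, rfl⟩ := hgen e he
          refine ⟨α / 2, β + α / 2 * a, ?_⟩
          match_scalars <;> field_simp <;> ring
      have hωω : ∀ v, Matrix.toLin' ω (Matrix.toLin' ω v) = d • v := fun v => by
        rw [← LinearMap.comp_apply, ← Matrix.toLin'_mul, hω]
        simp [Matrix.smul_mulVec]
      by_cases hsq : IsSquare z
      · obtain ⟨c, rfl⟩ := hsq
        obtain ⟨J, ε, hJ, hTJ⟩ := exists_root (d := d) h2 hfr T (left_ne_zero_of_mul hz0) hTT
          (by rw [hTdef, LinearMap.det_toLin']; exact x.2) (by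
            rcases hv with h | ⟨-, h⟩
            · exact Or.inl (by omega)
            · exact Or.inr (no_root h2 (by omega) (hm ▸ h) c))
        obtain ⟨G, hG⟩ := conj_nonsquare J (Matrix.toLin' ω) hd hJ hωω
        refine ⟨G, LinearMap.toMatrix' ((G : (Fin n → F) →ₗ[F] (Fin n → F)) ∘ₗ T ∘ₗ (G.symm : (Fin n → F) →ₗ[F] (Fin n → F))),
          ω, ε • ω, K.smul_mem hωK ε, hωgen, ?_, fun v => by simp [hTdef]⟩
        refine Matrix.toLin'.injective (LinearMap.ext fun v => ?_)
        obtain ⟨u, rfl⟩ := G.surjective v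
        simp only [Matrix.toLin'_mul, map_smul, Matrix.toLin'_toMatrix', LinearMap.comp_apply, LinearMap.smul_apply,
          LinearEquiv.coe_coe, LinearEquiv.symm_apply_apply]
        rw [← hG, LinearEquiv.symm_apply_apply, hTJ, map_smul, hG]
      · obtain ⟨s, hs⟩ : ∃ s : F, z = d * (s * s) := by
          have hchar : ringChar F ≠ 2 := fun h => by
            have := (FiniteField.even_card_iff_char_two (F := F)).1 h
            rw [Nat.odd_iff] at hodd
            omega
          have hd0 : d ≠ 0 := fun h => hd 0 (by rw [h, mul_zero])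
          have h3 : IsSquare (z / d) := by
            rw [FiniteField.isSquare_iff hchar (div_ne_zero hz0 hd0), div_pow]
            rcases FiniteField.pow_dichotomy hchar hz0 with h | h
            · exact absurd ((FiniteField.isSquare_iff hchar hz0).2 h) hsq
            rcases FiniteField.pow_dichotomy hchar hd0 with h' | h'
            · obtain ⟨t, ht⟩ := (FiniteField.isSquare_iff hchar hd0).2 h'
              exact absurd ht.symm (hd t)
            rw [h, h', div_self (neg_ne_zero.2 one_ne_zero)]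
          obtain ⟨s, hs⟩ := h3
          exact ⟨s, by rw [← hs, mul_div_cancel₀ z hd0]⟩
        obtain ⟨G, hG⟩ := conj_nonsquare T (Matrix.toLin' (s • ω)) (fun t ht => hsq ⟨t, ht.symm⟩) hTT (fun v => by
          simp only [map_smul, LinearMap.smul_apply, hωω, smul_smul]; rw [hs]; congr 1; ring)
        exact ⟨G, s • ω, ω, ω, hωK, hωgen, by rw [smul_mul_assoc, mul_smul_comm], hG⟩
    · obtain rfl : n = 2 := hv.resolve_right fun h => hodd h.1
      have h2 := hchar hodd
      have hchar2 : ringChar F = 2 := (FiniteField.even_card_iff_char_two).2 (by rw [Nat.odd_iff] at hodd; omega)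
      obtain ⟨c, rfl⟩ := FiniteField.isSquare_of_char_two hchar2 z
      have hc := left_ne_zero_of_mul hz0
      obtain ⟨v0, hv0⟩ : ∃ v0 : Fin 2 → F, v0 ≠ 0 := ⟨Pi.single 0 1, by simp⟩
      obtain ⟨w, hw⟩ : ∃ w, w = k *ᵥ v0 := ⟨_, rfl⟩
      have hkw : k *ᵥ w = a • w + b • v0 := by
        rw [hw, Matrix.mulVec_mulVec, hab, Matrix.add_mulVec, Matrix.smul_mulVec, Matrix.smul_mulVec, Matrix.one_mulVec]
      have hli : LinearIndependent F ![v0, w] := by
        rw [LinearIndependent.pair_iff' hv0]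
        intro t ht
        refine hirr t (smul_left_injective F hv0 ?_)
        show (t * t) • v0 = (a * t + b) • v0
        rw [← ht, Matrix.mulVec_smul, ← hw, ← ht, smul_smul, smul_smul, ← add_smul] at hkw
        exact hkw
      let B0 : Basis (Fin 2) F (Fin 2 → F) := Basis.mk hli (by
        rw [hli.span_eq_top_of_card_eq_finrank' (by simp)])
      have hB0 : B0 0 = v0 := by simp [B0]
      have hB1 : B0 1 = w := by simp [B0]
      obtain ⟨Y, hYdef⟩ : ∃ Y : (Fin 2 → F) →ₗ[F] (Fin 2 → F), Y = B0.constr F ![c • v0, c • (a • v0 - w)] := ⟨_, rfl⟩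
      have hY0 : Y v0 = c • v0 := by
        rw [hYdef]; exact (congrArg _ hB0.symm).trans (B0.constr_basis F _ 0)
      have hY1 : Y w = c • (a • v0 - w) := by
        rw [hYdef]; exact (congrArg _ hB1.symm).trans (B0.constr_basis F _ 1)
      have hext : ∀ f g : (Fin 2 → F) →ₗ[F] (Fin 2 → F), f v0 = g v0 → f w = g w → f = g :=
        fun f g h h' => B0.ext fun i => by
          rcases Fin.exists_fin_two.1 ⟨i, rfl⟩ with rfl | rfl <;> simp only [hB0, hB1, h, h']
      have hYY : ∀ v, Y (Y v) = (c * c) • v := by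
        refine LinearMap.congr_fun (hext (Y ∘ₗ Y) ((c * c) • LinearMap.id) ?_ ?_)
        · simp only [LinearMap.comp_apply, LinearMap.smul_apply, LinearMap.id_apply, hY0, map_smul, smul_smul]
        · simp only [LinearMap.comp_apply, LinearMap.smul_apply, LinearMap.id_apply, hY0, hY1, map_smul, map_sub]
          module
      have hY' : ∀ t : F, Y ≠ t • LinearMap.id := fun t ht => by
        rw [ht, LinearMap.smul_apply, LinearMap.id_apply] at hY0 hY1
        obtain rfl : t = c := smul_left_injective F hv0 hY0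
        have h3 : (t * a) • v0 + (-(2 * t)) • w = 0 := by
          linear_combination (norm := module) -hY1
        exact ha0 h2 ((mul_eq_zero.1 (LinearIndependent.pair_iff.1 hli _ _ h3).1).resolve_left hc)
      have hT' : ∀ t : F, T ≠ t • LinearMap.id := fun t ht => hx2 t (Matrix.toLin'.injective (by
        rw [← hTdef, ht, map_smul, Matrix.toLin'_one]))
      obtain ⟨G, hG⟩ := conj_plane (by simp) T Y hTT hYY hT' hY'
      refine ⟨G, LinearMap.toMatrix' Y, k, a • 1 - k, K.sub_mem (K.smul_mem K.one_mem a) hkK, hgen, ?_,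
        fun v => by rw [Matrix.toLin'_toMatrix', hG]⟩
      refine Matrix.toLin'.injective ?_
      rw [Matrix.toLin'_mul, Matrix.toLin'_mul, Matrix.toLin'_toMatrix']
      refine hext _ _ ?_ ?_
      · simp only [LinearMap.comp_apply, Matrix.toLin'_apply, ← hw, hY0, hY1, Matrix.mulVec_smul, Matrix.sub_mulVec,
          Matrix.smul_mulVec, Matrix.one_mulVec]
      · simp only [LinearMap.comp_apply, Matrix.toLin'_apply, hkw, map_add, map_smul, hY0, hY1, Matrix.mulVec_smul,
          Matrix.mulVec_sub, Matrix.sub_mulVec, Matrix.smul_mulVec, Matrix.one_mulVec, ← hw]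
        try module

end Cfsg.Agent.S5969
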