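import Cfsg.Statements.S5970
import Cfsg.Agent.Lib.Linear.SingerNormalizer
-- import your own Cfsg.Agent.* helpers here

set_option autoImplicit false
open scoped MatrixGroups
open Cfsg

namespace Cfsg.Agent.S5970

open Module
open scoped Matrix

universe u

/-- A nonscalar element with a repeated eigenvalue has no conjugate in the normaliser. -/
theorem not_conj {F : Type u} [Field F] {n : ℕ} (hn : n.Prime) (K : Subalgebra F (Matrix (Fin n) (Fin n) F))
    (hK : Cfsg.Geo.IsFieldSubalgebra n K) (x : Matrix.SpecialLinearGroup (Fin n) F)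
    (hns : ∀ z : F, (x : Matrix (Fin n) (Fin n) F) ≠ z • 1) (c : F) (i j : Fin n) (hij : i ≠ j)
    (hi : (x : Matrix (Fin n) (Fin n) F) *ᵥ Pi.single i 1 = c • Pi.single i 1)
    (hj : (x : Matrix (Fin n) (Fin n) F) *ᵥ Pi.single j 1 = c • Pi.single j 1)
    (P : Matrix.SpecialLinearGroup (Fin n) F)
    (hP : P⁻¹ * x * P ∈ (Cfsg.Geo.subalgebraNormalizer K).comap Matrix.SpecialLinearGroup.toGL) : False := by
  let A : Matrix (Fin n) (Fin n) F := ((P⁻¹ : Matrix.SpecialLinearGroup (Fin n) F) : Matrix (Fin n) (Fin n) F)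
  have hPA : (P : Matrix (Fin n) (Fin n) F) * A = 1 := by
    rw [← Matrix.SpecialLinearGroup.coe_mul, mul_inv_cancel, Matrix.SpecialLinearGroup.coe_one]
  have hAP : A * (P : Matrix (Fin n) (Fin n) F) = 1 := by
    rw [← Matrix.SpecialLinearGroup.coe_mul, inv_mul_cancel, Matrix.SpecialLinearGroup.coe_one]
  have hli : LinearIndependent F ![A *ᵥ Pi.single i 1, A *ᵥ Pi.single j 1] := by
    refine LinearIndependent.pair_iff.2 fun s t h => ?_
    have h1 := congrArg ((P : Matrix (Fin n) (Fin n) F) *ᵥ ·) h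
    simp only [Matrix.mulVec_add, Matrix.mulVec_smul, Matrix.mulVec_mulVec, hPA, Matrix.one_mulVec, Matrix.mulVec_zero] at h1
    have e1 := congrFun h1 i
    have e2 := congrFun h1 j
    simp [Pi.single_apply, hij, hij.symm] at e1 e2
    exact ⟨e1, e2⟩
  have hcoe : ((Matrix.SpecialLinearGroup.toGL (P⁻¹ * x * P) : GL (Fin n) F) : Matrix (Fin n) (Fin n) F) =
      A * (x : Matrix (Fin n) (Fin n) F) * (P : Matrix (Fin n) (Fin n) F) := by
    show ((P⁻¹ * x * P : Matrix.SpecialLinearGroup (Fin n) F) : Matrix (Fin n) (Fin n) F) = _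
    rw [Matrix.SpecialLinearGroup.coe_mul, Matrix.SpecialLinearGroup.coe_mul]
  have hv : ∀ l, (x : Matrix (Fin n) (Fin n) F) *ᵥ Pi.single l 1 = c • Pi.single l 1 →
      (A * (x : Matrix (Fin n) (Fin n) F) * (P : Matrix (Fin n) (Fin n) F)) *ᵥ (A *ᵥ Pi.single l 1) = c • (A *ᵥ Pi.single l 1) := fun l hl => by
    rw [← Matrix.mulVec_mulVec, Matrix.mulVec_mulVec _ (P : Matrix (Fin n) (Fin n) F), hPA, Matrix.one_mulVec,
      ← Matrix.mulVec_mulVec, hl, Matrix.mulVec_smul]
  have h := Cfsg.Lib.Linear.Singer.scalar_of_eigen hn hK _ (Subgroup.mem_comap.1 hP) c _ _ hli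
    (by rw [hcoe]; exact hv i hi) (by rw [hcoe]; exact hv j hj)
  rw [hcoe] at h
  refine hns c ?_
  have h2 := congrArg (fun M => (P : Matrix (Fin n) (Fin n) F) * M * A) h
  simp only [← mul_assoc, hPA, one_mul, mul_smul_comm, mul_one, smul_mul_assoc] at h2
  rw [mul_assoc, hPA, mul_one] at h2
  exact h2

/-- Elements of order `n` of PSL_n(q), `n` prime, and the normalizer of a Singer cycle. Here `T = PSL_n(F)` for a field `F` with `q = p^f` elements (`n ≥ 2`, `(n, q) ≠ (2, 2), (2, 3)`), `k` is a prime dividing `n`, `K` is a subalgebra of the `n × n` matrices that is a field of degree `k` over `F` (an extension-field structure F_{q^k} on `F^n`), and `H` is the subgroup of matrices of determinant 1 normalizing `K` — a subgroup of type GL_{n/k}(q^k) (maximal except in some small cases; maximality is not assumed); Ω is the set of cosets of `H` in `T`, so an element of `T` of prime order `r` (a matrix `x` of determinant 1 with `x^r` scalar, `x` not scalar) fixes a point of Ω when some conjugate of `x`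 by a matrix of determinant 1 normalizes `K`. Take `k = n > 3` prime with `n ≠ p` (so `H` is the normalizer of a Singer cycle), and suppose `n` divides the index of `H`. Then every element of `T` of order `n` is conjugate in `T` into `H` if and only if the multiplicative order of `q` modulo `n` is `n − 1`. -/
theorem result {F : Type*} [Field F] [Fintype F] {p : ℕ} [Fact p.Prime] [CharP F p] {q : ℕ} (hq : Fintype.card F = q)
    (n : ℕ) (hn : 2 ≤ n) (hT : (n, q) ≠ (2, 2) ∧ (n, q) ≠ (2, 3))
    (k : ℕ) (hk : k.Prime) (hkn : k ∣ n) (K : Subalgebra F (Matrix (Fin n) (Fin n) F)) (hK : Cfsg.Geo.IsFieldSubalgebra k K) (hkn' : k = n) (hn3 : 3 < n) (hnp : n ≠ p) (hΩ : n ∣ ((Cfsg.Geo.subalgebraNormalizer K).comap (Matrix.SpecialLinearGroup.toGL : Matrix.SpecialLinearGroup (Fin n) F →* GL (Fin n) F)).index) :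
    (∀ x : Matrix.SpecialLinearGroup (Fin n) F,
      (∃ z : F, ((x ^ n : Matrix.SpecialLinearGroup (Fin n) F) : Matrix (Fin n) (Fin n) F) = z • (1 : Matrix (Fin n) (Fin n) F)) →
      (∀ z : F, (x : Matrix (Fin n) (Fin n) F) ≠ z • (1 : Matrix (Fin n) (Fin n) F)) →
      ∃ P : Matrix.SpecialLinearGroup (Fin n) F, P⁻¹ * x * P ∈ ((Cfsg.Geo.subalgebraNormalizer K).comap (Matrix.SpecialLinearGroup.toGL : Matrix.SpecialLinearGroup (Fin n) F →* GL (Fin n) F))) ↔
    orderOf (q : ZMod n) = n - 1 := by
  classical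
  subst hkn' hq
  rename_i n
  obtain ⟨hp⟩ := (inferInstance : Fact p.Prime)
  haveI : Fact k.Prime := ⟨hk⟩
  have hkq : ¬ k ∣ Fintype.card F := fun h => by
    obtain ⟨e, -, he⟩ := FiniteField.card F p
    rw [he] at h
    exact hnp ((Nat.prime_dvd_prime_iff_eq hk hp).1 (hk.dvd_of_dvd_pow h))
  have hkF : (k : F) ≠ 0 := fun h =>
    hnp ((Nat.prime_dvd_prime_iff_eq hp hk).1 ((CharP.cast_eq_zero_iff F p k).1 h)).symm
  constructor
  · intro hall
    by_contra hne
    have hq0 : (Fintype.card F : ZMod k) ≠ 0 := fun h => hkq ((ZMod.natCast_eq_zero_iff _ _).1 h)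
    obtain ⟨c, hc⟩ : ∃ c, c = orderOf (Fintype.card F : ZMod k) := ⟨_, rfl⟩
    rw [← hc] at hne
    have hck : c ∣ k - 1 := hc ▸ ZMod.orderOf_dvd_card_sub_one hq0
    have hcle : c ≤ k - 2 := by
      obtain ⟨j, hj⟩ := hck
      rcases j with _ | _ | j
      · omega
      · omega
      · rw [mul_add, mul_add] at hj; omega
    have hc0 : 0 < c := Nat.pos_of_dvd_of_pos hck (by omega)
    suffices H : ∃ x : Matrix.SpecialLinearGroup (Fin k) F, (x : Matrix (Fin k) (Fin k) F) ^ k = 1 ∧
        (∀ z : F, (x : Matrix (Fin k) (Fin k) F) ≠ z • 1) ∧ ∃ i j : Fin k, i ≠ j ∧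
          (x : Matrix (Fin k) (Fin k) F) *ᵥ Pi.single i 1 = (1 : F) • Pi.single i 1 ∧
          (x : Matrix (Fin k) (Fin k) F) *ᵥ Pi.single j 1 = (1 : F) • Pi.single j 1 by
      obtain ⟨x, hx, hns, i, j, hij, hi, hj⟩ := H
      obtain ⟨P, hP⟩ := hall x ⟨1, by rw [Matrix.SpecialLinearGroup.coe_pow, one_smul]; exact hx⟩ hns
      exact not_conj hk K hK x hns 1 i j hij hi hj P hP
    let i : Fin k := ⟨k - 2, by omega⟩
    let j : Fin k := ⟨k - 1, by omega⟩
    have hij : i ≠ j := fun h => by
      have := congrArg Fin.val h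
      simp only [i, j] at this
      omega
    rcases Nat.lt_or_ge c 2 with hc1 | hc1
    · -- roots of unity in `F`
      obtain ⟨w, hw⟩ := exists_prime_orderOf_dvd_card (G := Fˣ) k (by
        rw [Fintype.card_units, ← ZMod.natCast_eq_zero_iff, Nat.cast_sub Fintype.card_pos, Nat.cast_one, sub_eq_zero]
        exact orderOf_eq_one_iff.1 (by omega))
      have hw1 : (w : F) ≠ 1 := fun h => by
        rw [Units.val_eq_one] at h
        rw [h, orderOf_one] at hw
        omega
      have hwk : (w : F) ^ k = 1 := by rw [← Units.val_pow_eq_pow_val, ← hw, pow_orderOf_eq_one, Units.val_one]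
      let a : Fin k := ⟨0, by omega⟩
      let b : Fin k := ⟨1, by omega⟩
      have hab : a ≠ b := by simp [a, b]
      let d : Fin k → F := fun l => if l = a then (w : F) else if l = b then (w : F)⁻¹ else 1
      have hd : ∀ l : Fin k, 2 ≤ (l : ℕ) → d l = 1 := fun l hl => by
        simp only [d]
        rw [if_neg fun h => by simp [h, a] at hl, if_neg fun h => by simp [h, b] at hl]
      have hdet : (Matrix.diagonal d).det = 1 := by
        rw [Matrix.det_diagonal, Finset.prod_eq_mul a b hab (fun l _ hl => by simp [d, hl.1, hl.2]) (by simp) (by simp)]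
        simp [d, hab.symm]
      let x : Matrix.SpecialLinearGroup (Fin k) F := ⟨_, hdet⟩
      have hx : (x : Matrix (Fin k) (Fin k) F) = Matrix.diagonal d := rfl
      have hfix : ∀ l : Fin k, 2 ≤ (l : ℕ) → (x : Matrix (Fin k) (Fin k) F) *ᵥ Pi.single l 1 = (1 : F) • Pi.single l 1 := fun l hl => by
        rw [hx, one_smul]
        ext m
        simp [Matrix.mulVec_diagonal, Pi.single_apply]
        split_ifs with hm
        · rw [hm, hd l hl]
        · rfl
      refine ⟨x, ?_, fun z hz => ?_, i, j, hij, hfix i (by simp only [i]; omega), hfix j (by simp only [j]; omega)⟩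
      · rw [hx, Matrix.diagonal_pow, ← Matrix.diagonal_one]
        refine congrArg _ (funext fun l => ?_)
        simp only [Pi.pow_apply, d]
        split_ifs <;> simp [hwk, inv_pow]
      · rw [hx] at hz
        have e1 := congrFun (congrFun hz a) a
        have e2 := congrFun (congrFun hz j) j
        simp [d] at e1
        rw [Matrix.diagonal_apply_eq, hd j (by simp only [j]; omega)] at e2
        simp at e2
        exact hw1 (e1.trans e2.symm)
    · -- a block of degree `c`
      haveI : NeZero c := ⟨hc0.ne'⟩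
      let L := FiniteField.Extension F p c
      let β : Module.Basis (Fin c) F L := (Module.finBasis F L).reindex (finCongr (FiniteField.finrank_extension F p c))
      letI : Fintype L := Fintype.ofFinite L
      have hQ : Fintype.card L = Fintype.card F ^ c := by
        rw [← Nat.card_eq_fintype_card, FiniteField.natCard_extension, Nat.card_eq_fintype_card]
      obtain ⟨w, hw⟩ := exists_prime_orderOf_dvd_card (G := Lˣ) k (by
        rw [Fintype.card_units, hQ, ← ZMod.natCast_eq_zero_iff, Nat.cast_sub (Nat.one_le_pow _ _ Fintype.card_pos),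
          Nat.cast_pow, Nat.cast_one, hc, pow_orderOf_eq_one, sub_self])
      have hwr : (w : L) ^ k = 1 := by rw [← Units.val_pow_eq_pow_val, ← hw, pow_orderOf_eq_one, Units.val_one]
      have hroot : ∀ z : F, z ^ k = 1 → z = 1 := fun z hz => by
        by_contra hz1
        have h1 : k ∣ Fintype.card F - 1 := by
          rw [← orderOf_eq_prime hz hz1]
          exact orderOf_dvd_of_pow_eq_one (FiniteField.pow_card_sub_one_eq_one z fun h => by
            rw [h, zero_pow hk.ne_zero] at hz; exact zero_ne_one hz)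
        rw [← ZMod.natCast_eq_zero_iff, Nat.cast_sub Fintype.card_pos, Nat.cast_one, sub_eq_zero] at h1
        rw [h1, orderOf_one] at hc
        omega
      obtain ⟨M, hM⟩ : ∃ M, M = Algebra.leftMulMatrix β (w : L) := ⟨_, rfl⟩
      have hMdet : M.det = 1 := by
        rw [hM, ← Algebra.norm_eq_matrix_det]
        exact hroot _ (by rw [← map_pow, hwr, map_one])
      let E : Fin c ⊕ Fin (k - c) ≃ Fin k := finSumFinEquiv.trans (finCongr (by omega))
      obtain ⟨X, hX⟩ : ∃ X : Matrix (Fin c ⊕ Fin (k - c)) (Fin c ⊕ Fin (k - c)) F, X = Matrix.fromBlocks M 0 0 1 := ⟨_, rfl⟩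
      have hdet : (Matrix.reindexAlgEquiv F F E X).det = 1 := by
        rw [Matrix.coe_reindexAlgEquiv, Matrix.det_reindex_self, hX, Matrix.det_fromBlocks_zero₂₁, hMdet, Matrix.det_one, one_mul]
      have hXr : X ^ k = 1 := by
        rw [hX, show (Matrix.fromBlocks M 0 0 1 : Matrix (Fin c ⊕ Fin (k - c)) (Fin c ⊕ Fin (k - c)) F) ^ k =
          Matrix.fromBlocks (M ^ k) 0 0 (1 ^ k) from Matrix.fromBlocks_diagonal_pow M 1 k,
          one_pow, hM, ← map_pow, hwr, map_one, Matrix.fromBlocks_one]
      let x : Matrix.SpecialLinearGroup (Fin k) F := ⟨_, hdet⟩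
      have hx : (x : Matrix (Fin k) (Fin k) F) = Matrix.reindexAlgEquiv F F E X := rfl
      have hfix : ∀ l : Fin k, c ≤ (l : ℕ) → (x : Matrix (Fin k) (Fin k) F) *ᵥ Pi.single l 1 = (1 : F) • Pi.single l 1 := fun l hl => by
        obtain ⟨l', rfl⟩ : ∃ l', E (Sum.inr l') = l := ⟨⟨l - c, by omega⟩, Fin.ext (by simp [E]; omega)⟩
        rw [one_smul, hx, Matrix.coe_reindexAlgEquiv, Matrix.mulVec_single_one]
        funext m
        obtain ⟨m, rfl⟩ := E.surjective m
        rcases m with m | m <;> simp [hX, Matrix.reindex_apply, Pi.single_apply, Matrix.one_apply]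
      refine ⟨x, by rw [hx, ← map_pow, hXr, map_one], fun z hz => ?_, i, j, hij, hfix i (by simp only [i]; omega), hfix j (by simp only [j]; omega)⟩
      have hz' : Matrix.reindexAlgEquiv F F E X = Matrix.reindexAlgEquiv F F E (z • 1) := by
        rw [map_smul, map_one]; exact hz
      have hz1 : X = z • 1 := (Matrix.reindexAlgEquiv F F E).injective hz'
      rw [hX, ← Matrix.fromBlocks_one, Matrix.fromBlocks_smul, Matrix.fromBlocks_inj] at hz1
      have h22 := congrFun (congrFun hz1.2.2.2 ⟨0, by omega⟩) ⟨0, by omega⟩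
      simp at h22
      rw [← h22, one_smul, hM, ← map_one (Algebra.leftMulMatrix β)] at hz1
      have hw1 : (w : L) = 1 := Algebra.leftMulMatrix_injective β hz1.1
      rw [Units.val_eq_one] at hw1
      rw [hw1, orderOf_one] at hw
      omega
  · intro hord x hx1 hx2
    obtain ⟨z, hz⟩ := hx1
    rw [Matrix.SpecialLinearGroup.coe_pow] at hz
    have hz1 : z = 1 := by
      have h1 := congrArg Matrix.det hz
      rw [Matrix.det_pow, x.2, one_pow, Matrix.det_smul, Matrix.det_one, mul_one, Fintype.card_fin] at h1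
      by_contra hne
      have h2 : k ∣ Fintype.card F - 1 := by
        rw [← orderOf_eq_prime h1.symm hne]
        exact orderOf_dvd_of_pow_eq_one (FiniteField.pow_card_sub_one_eq_one z fun h => by
          rw [h, zero_pow hk.ne_zero] at h1; exact one_ne_zero h1)
      rw [← ZMod.natCast_eq_zero_iff, Nat.cast_sub Fintype.card_pos, Nat.cast_one, sub_eq_zero] at h2
      rw [h2, orderOf_one] at hord
      omega
    rw [hz1, one_smul] at hz
    obtain ⟨g, hg, hgk, -, hmin⟩ := Cfsg.Lib.Linear.Singer.exists_frob hK (by omega)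
    have hgc : (g : Matrix (Fin k) (Fin k) F).charpoly = Polynomial.X ^ k - 1 := by
      refine Polynomial.eq_of_monic_of_dvd_of_natDegree_le ?_ (Matrix.charpoly_monic _) ?_ ?_
      · exact Polynomial.monic_X_pow_sub_C 1 hk.ne_zero
      · exact hmin ▸ Matrix.minpoly_dvd_charpoly _
      · rw [Matrix.charpoly_natDegree_eq_dim, Fintype.card_fin, ← Polynomial.C_1, Polynomial.natDegree_X_pow_sub_C]
    exact Cfsg.Lib.Linear.Singer.conj_into hK (by omega) x g hg hkF hz hgk
      ((Cfsg.Lib.Linear.Singer.charpoly_eq hk (by omega) hord _ hz (fun h => hx2 1 (by rw [one_smul]; exact h)) x.2).trans hgc.symm)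

end Cfsg.Agent.S5970
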