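import Cfsg.Statements.S5971
import Cfsg.Agent.Lib.Linear.SingerNormalizer
import Cfsg.Agent.Lib.Linear.SLBasic
import Cfsg.Agent.S5970
-- import your own Cfsg.Agent.* helpers here

set_option autoImplicit false
open scoped MatrixGroups
open Cfsg

namespace Cfsg.Agent.S5971

open Module Polynomial
open scoped Matrix

universe u

/-- The characteristic polynomial of an element of order three. -/
theorem charpoly_one {F : Type u} [Field F] (T : Matrix (Fin 3) (Fin 3) F) (hT : T ^ 3 = 1) (hdet : T.det = 1)
    (hns : ∀ t : F, T ≠ t • 1) : T.charpoly = X ^ 3 - 1 := by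
  have hdeg : T.charpoly.natDegree = 3 := by rw [Matrix.charpoly_natDegree_eq_dim, Fintype.card_fin]
  have hc3 : T.charpoly.coeff 3 = 1 := by
    have := (Matrix.charpoly_monic T).coeff_natDegree
    rwa [hdeg] at this
  have hc0 : T.charpoly.coeff 0 = -1 := by
    have := Matrix.det_eq_sign_charpoly_coeff T
    rw [hdet, Fintype.card_fin] at this
    linear_combination this
  have hCH := Matrix.aeval_self_charpoly T
  rw [aeval_eq_sum_range' (show T.charpoly.natDegree < 4 by omega), Finset.sum_range_succ, Finset.sum_range_succ,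
    Finset.sum_range_succ, Finset.sum_range_one, hc3, hc0, hT, pow_zero, pow_one] at hCH
  have h1 : T.charpoly.coeff 2 • (T * T) + T.charpoly.coeff 1 • T = 0 := by
    rw [← hCH, pow_two]; module
  have h2 : T.charpoly.coeff 2 • T + T.charpoly.coeff 1 • (1 : Matrix (Fin 3) (Fin 3) F) = 0 := by
    have hu : T * T * T = 1 := by rw [← hT, pow_succ, pow_two]
    have h3 := congrArg ((T * T) * ·) h1
    simp only [mul_add, mul_smul_comm, mul_zero, hu] at h3
    rwa [show T * T * (T * T) = T by rw [← mul_assoc, hu, one_mul]] at h3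
  have ha : T.charpoly.coeff 2 = 0 := by
    by_contra ha
    refine hns (-((T.charpoly.coeff 2)⁻¹ * T.charpoly.coeff 1)) ?_
    have h3 := congrArg ((T.charpoly.coeff 2)⁻¹ • ·) (eq_neg_of_add_eq_zero_left h2)
    simp only [smul_smul, inv_mul_cancel₀ ha, one_smul, smul_neg] at h3
    exact h3.trans (neg_smul _ _).symm
  have hb : T.charpoly.coeff 1 = 0 := by
    rw [ha, zero_smul, zero_add] at h2
    exact (smul_eq_zero.1 h2).resolve_right one_ne_zero
  ext i
  rcases Nat.lt_or_ge i 4 with hi | hi
  · interval_cases i <;> simp [hc3, hc0, ha, hb, coeff_one]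
  · rw [coeff_eq_zero_of_natDegree_lt (by omega), coeff_sub, coeff_X_pow, coeff_one, if_neg (by omega), if_neg (by omega), sub_zero]

/-- The characteristic polynomial of a cube root of a non-cube. -/
theorem charpoly_noncube {F : Type u} [Field F] (T : Matrix (Fin 3) (Fin 3) F) {z : F} (hz : ∀ w : F, w ^ 3 ≠ z)
    (hT : T ^ 3 = z • 1) : T.charpoly = X ^ 3 - Polynomial.C z := by
  have hirr : Irreducible (X ^ 3 - Polynomial.C z) := X_pow_sub_C_irreducible_of_prime Nat.prime_three hz
  have hmin := minpoly.eq_of_irreducible_of_monic hirr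
    (show aeval T (X ^ 3 - Polynomial.C z) = 0 by simp [hT, Algebra.algebraMap_eq_smul_one]) (monic_X_pow_sub_C z (by norm_num))
  refine Polynomial.eq_of_monic_of_dvd_of_natDegree_le (monic_X_pow_sub_C z (by norm_num)) (Matrix.charpoly_monic T)
    (hmin ▸ Matrix.minpoly_dvd_charpoly T) ?_
  rw [Matrix.charpoly_natDegree_eq_dim, Fintype.card_fin, natDegree_X_pow_sub_C]

/-- A conjugate inside the normaliser, from the Frobenius element. -/
theorem conj_frob {F : Type u} [Field F] [Fintype F] {K : Subalgebra F (Matrix (Fin 3) (Fin 3) F)}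
    (hK : Cfsg.Geo.IsFieldSubalgebra 3 K) (h3 : (3 : F) ≠ 0) (x : Matrix.SpecialLinearGroup (Fin 3) F)
    (hx : (x : Matrix (Fin 3) (Fin 3) F) ^ 3 = 1) (hc : (x : Matrix (Fin 3) (Fin 3) F).charpoly = X ^ 3 - 1) :
    ∃ P : Matrix.SpecialLinearGroup (Fin 3) F,
      P⁻¹ * x * P ∈ (Cfsg.Geo.subalgebraNormalizer K).comap Matrix.SpecialLinearGroup.toGL := by
  obtain ⟨g, hg, hgk, -, hmin⟩ := Cfsg.Lib.Linear.Singer.exists_frob hK (by norm_num)
  have hgc : (g : Matrix (Fin 3) (Fin 3) F).charpoly = X ^ 3 - 1 := by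
    refine Polynomial.eq_of_monic_of_dvd_of_natDegree_le (monic_X_pow_sub_C 1 (by norm_num)) (Matrix.charpoly_monic _) (hmin ▸ Matrix.minpoly_dvd_charpoly _) ?_
    rw [Matrix.charpoly_natDegree_eq_dim, Fintype.card_fin, ← Polynomial.C_1, natDegree_X_pow_sub_C]
  exact Cfsg.Lib.Linear.Singer.conj_into hK (by norm_num) x g hg (N := 3) (by exact_mod_cast h3) hx hgk (hc.trans hgc.symm)

/-- Elements of order 3 of PSL_3(q) and the normalizer of a Singer cycle. Here `T = PSL_n(F)` for a field `F` with `q = p^f` elements (`n ≥ 2`, `(n, q) ≠ (2, 2), (2, 3)`), `k` is a prime dividing `n`, `K` is a subalgebra of the `n × n` matrices that is a field of degree `k` over `F` (an extension-field structure F_{q^k} on `F^n`), and `H` is the subgroup of matrices of determinant 1 normalizing `K` — a subgroup of type GL_{n/k}(q^k) (maximal except in some small cases; maximality is not assumed); Ω is the set of cosets of `H` in `T`, so an element of `T` of prime order `r` (a matrix `x` of determinant 1 with `x^r` scalar, `x`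 not scalar) fixes a point of Ω when some conjugate of `x` by a matrix of determinant 1 normalizes `K`. Take `n = k = 3` and suppose 3 divides the index of `H`. Then every element of `T` of order 3 is conjugate in `T` into `H` if and only if `q ≡ 4, 7` or `8 (mod 9)`. -/
theorem result {F : Type*} [Field F] [Fintype F] {p : ℕ} [Fact p.Prime] [CharP F p] {q : ℕ} (hq : Fintype.card F = q)
    (n : ℕ) (hn : n = 3) (k : ℕ) (hk : k.Prime) (hkn : k ∣ n) (K : Subalgebra F (Matrix (Fin n) (Fin n) F)) (hK : Cfsg.Geo.IsFieldSubalgebra k K) (hk3 : k = 3) (hΩ : 3 ∣ ((Cfsg.Geo.subalgebraNormalizer K).comap (Matrix.SpecialLinearGroup.toGL : Matrix.SpecialLinearGroup (Fin n) F →* GL (Fin n) F)).index) :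
    (∀ x : Matrix.SpecialLinearGroup (Fin n) F,
      (∃ z : F, ((x ^ 3 : Matrix.SpecialLinearGroup (Fin n) F) : Matrix (Fin n) (Fin n) F) = z • (1 : Matrix (Fin n) (Fin n) F)) →
      (∀ z : F, (x : Matrix (Fin n) (Fin n) F) ≠ z • (1 : Matrix (Fin n) (Fin n) F)) →
      ∃ P : Matrix.SpecialLinearGroup (Fin n) F, P⁻¹ * x * P ∈ ((Cfsg.Geo.subalgebraNormalizer K).comap (Matrix.SpecialLinearGroup.toGL : Matrix.SpecialLinearGroup (Fin n) F →* GL (Fin n) F))) ↔
    (q % 9 = 4 ∨ q % 9 = 7 ∨ q % 9 = 8) := by
  classical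
  subst hk3 hn hq
  obtain ⟨hp⟩ := (inferInstance : Fact p.Prime)
  haveI : Fact (Nat.Prime 3) := ⟨Nat.prime_three⟩
  obtain ⟨e, -, he⟩ := FiniteField.card F p
  have hq1 : 1 < Fintype.card F := Fintype.one_lt_card
  have hp3 : p = 3 ↔ 3 ∣ Fintype.card F := by
    refine ⟨fun h => by rw [he, h]; exact dvd_pow_self 3 e.pos.ne', fun h => ?_⟩
    rw [he] at h
    exact ((Nat.prime_dvd_prime_iff_eq Nat.prime_three hp).1 (Nat.prime_three.dvd_of_dvd_pow h)).symm
  have h3F : p ≠ 3 → (3 : F) ≠ 0 := fun hne h =>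
    hne ((Nat.prime_dvd_prime_iff_eq hp Nat.prime_three).1 ((CharP.cast_eq_zero_iff F p 3).1 (by exact_mod_cast h)))
  constructor
  · intro hall
    by_contra hmod
    push Not at hmod
    let i0 : Fin 3 := 0
    let i1 : Fin 3 := 1
    let i2 : Fin 3 := 2
    by_cases hp' : p = 3
    · have h3 : (3 : F) = 0 := by
        have := CharP.cast_eq_zero F p
        rw [hp'] at this
        exact_mod_cast this
      let x : Matrix.SpecialLinearGroup (Fin 3) F :=
        ⟨Matrix.transvection i0 i1 1, Matrix.det_transvection_of_ne i0 i1 (by decide) 1⟩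
      have hx : (x : Matrix (Fin 3) (Fin 3) F) = Matrix.transvection i0 i1 1 := rfl
      have hns : ∀ z : F, (x : Matrix (Fin 3) (Fin 3) F) ≠ z • 1 := fun z hz => by
        have := congrFun (congrFun (hx ▸ hz : Matrix.transvection i0 i1 (1 : F) = z • 1) i0) i1
        simp [Matrix.transvection, i0, i1] at this
      obtain ⟨P, hP⟩ := hall x ⟨1, by
        rw [Matrix.SpecialLinearGroup.coe_pow, hx, pow_succ, pow_two,
          Matrix.transvection_mul_transvection_same (h := (by decide : i0 ≠ i1)),
          Matrix.transvection_mul_transvection_same (h := (by decide : i0 ≠ i1)),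
          show (1 : F) + 1 + 1 = 3 by ring, h3, Matrix.transvection_zero, one_smul]⟩ hns
      refine Cfsg.Agent.S5970.not_conj Nat.prime_three K hK x hns 1 i0 i2 (by decide) ?_ ?_ P hP <;>
      · rw [hx, one_smul]
        ext m
        fin_cases m <;> simp [Matrix.transvection, i0, i1, i2, Matrix.add_apply]
    have hnd : ¬ 3 ∣ Fintype.card F := fun h => hp' (hp3.2 h)
    have hcases : Fintype.card F % 9 = 1 ∨ Fintype.card F % 9 = 2 ∨ Fintype.card F % 9 = 5 := by
      rw [Nat.dvd_iff_mod_eq_zero] at hnd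
      omega
    rcases hcases with h1 | h25
    · -- an element of order nine
      have h9 : 9 ∣ Fintype.card Fˣ := by rw [Fintype.card_units]; omega
      obtain ⟨ζ, hζ⟩ := IsCyclic.exists_generator (α := Fˣ)
      obtain ⟨t, ht⟩ := h9
      have hζo : orderOf ζ = 9 * t := by
        rw [orderOf_eq_card_of_forall_mem_zpowers hζ, Nat.card_eq_fintype_card, ht]
      obtain ⟨a, ha⟩ : ∃ a : Fˣ, orderOf a = 9 := ⟨ζ ^ t, by
        have ht0 : t ≠ 0 := fun h => by
          rw [h, mul_zero, Fintype.card_units] at ht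
          omega
        rw [orderOf_pow' ζ ht0, hζo, Nat.gcd_eq_right ⟨9, mul_comm _ _⟩, Nat.mul_div_cancel _ (Nat.pos_of_ne_zero ht0)]⟩
      have ha9 : (a : F) ^ 9 = 1 := by rw [← Units.val_pow_eq_pow_val, ← ha, pow_orderOf_eq_one, Units.val_one]
      have ha3 : (a : F) ^ 3 ≠ 1 := fun h => by
        have h' : a ^ 3 = 1 := Units.ext (by rw [Units.val_pow_eq_pow_val]; exact h)
        have := orderOf_dvd_of_pow_eq_one h'
        rw [ha] at this
        norm_num at this
      let d : Fin 3 → F := ![(a : F), (a : F), ((a : F) ^ 2)⁻¹]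
      have hdet : (Matrix.diagonal d).det = 1 := by
        rw [Matrix.det_diagonal, Fin.prod_univ_three]
        simp [d]
        field_simp
      let x : Matrix.SpecialLinearGroup (Fin 3) F := ⟨_, hdet⟩
      have hx : (x : Matrix (Fin 3) (Fin 3) F) = Matrix.diagonal d := rfl
      have hns : ∀ z : F, (x : Matrix (Fin 3) (Fin 3) F) ≠ z • 1 := fun z hz => by
        rw [hx] at hz
        have e1 := congrFun (congrFun hz i0) i0
        have e2 := congrFun (congrFun hz i2) i2
        simp [d, i0, i2] at e1 e2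
        refine ha3 ?_
        rw [← e1] at e2
        rw [pow_succ]
        exact (mul_eq_one_iff_inv_eq₀ (pow_ne_zero 2 a.ne_zero)).2 e2
      obtain ⟨P, hP⟩ := hall x ⟨(a : F) ^ 3, by
        rw [Matrix.SpecialLinearGroup.coe_pow, hx, Matrix.diagonal_pow, Matrix.smul_one_eq_diagonal]
        refine congrArg _ (funext fun l => ?_)
        fin_cases l <;> simp [d]
        field_simp
        linear_combination -ha9⟩ hns
      refine Cfsg.Agent.S5970.not_conj Nat.prime_three K hK x hns (a : F) i0 i1 (by decide) ?_ ?_ P hP <;>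
      · rw [hx]
        ext m
        fin_cases m <;> simp [d, i0, i1, Matrix.mulVec_diagonal]
    · -- the index is prime to three
      obtain ⟨g, hg, hg3, hg1, -⟩ := Cfsg.Lib.Linear.Singer.exists_frob hK (by norm_num)
      have hgdet : (g : Matrix (Fin 3) (Fin 3) F).det = 1 := by
        have h := congrArg Matrix.det hg3
        rw [Matrix.det_pow, Matrix.det_one] at h
        by_contra hne
        have h2 : 3 ∣ Fintype.card F - 1 := by
          rw [← orderOf_eq_prime h hne]
          exact orderOf_dvd_of_pow_eq_one (FiniteField.pow_card_sub_one_eq_one _ fun h0 => by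
            rw [h0] at h; simp at h)
        omega
      let s : Matrix.SpecialLinearGroup (Fin 3) F := ⟨_, hgdet⟩
      set H := (Cfsg.Geo.subalgebraNormalizer K).comap (Matrix.SpecialLinearGroup.toGL : Matrix.SpecialLinearGroup (Fin 3) F →* GL (Fin 3) F)
      have hs : s ∈ H := Subgroup.mem_comap.2 (by
        rw [show Matrix.SpecialLinearGroup.toGL s = g from Units.ext rfl]; exact hg)
      have hso : orderOf s = 3 := orderOf_eq_prime (Subtype.ext (by rw [Matrix.SpecialLinearGroup.coe_pow]; exact hg3))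
        fun h => hg1 (congrArg Subtype.val h)
      have h3H : 3 ∣ Nat.card H := by
        have h := orderOf_dvd_natCard (⟨s, hs⟩ : H)
        rwa [Subgroup.orderOf_mk, hso] at h
      have h9 : 9 ∣ Nat.card (Matrix.SpecialLinearGroup (Fin 3) F) := by
        rw [← H.index_mul_card]
        exact Nat.mul_dvd_mul hΩ h3H
      have hcard := Cfsg.Lib.Linear.card_SL_mul (F := F) 3 (by norm_num)
      rw [Fin.prod_univ_three] at hcard
      have hz := congrArg (fun m : ℕ => (m : ZMod 9)) hcard
      simp only [Nat.cast_mul, Fin.val_zero, Fin.val_one, Fin.val_two, pow_zero, pow_one,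
        Nat.cast_sub hq1.le, Nat.cast_sub (Nat.one_le_pow 3 _ Fintype.card_pos),
        Nat.cast_sub (Nat.le_self_pow (by norm_num : 3 ≠ 0) (Fintype.card F)),
        Nat.cast_sub (Nat.pow_le_pow_right Fintype.card_pos (by norm_num : 2 ≤ 3)),
        (ZMod.natCast_eq_zero_iff _ _).2 h9, mul_zero, Nat.cast_pow, Nat.cast_one] at hz
      rcases h25 with h | h <;>
      · rw [← ZMod.natCast_mod (Fintype.card F) 9, h] at hz
        revert hz
        decide
  · intro hmod x hx1 hx2
    obtain ⟨z, hz⟩ := hx1
    rw [Matrix.SpecialLinearGroup.coe_pow] at hz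
    have hp' : p ≠ 3 := fun h => by
      have := hp3.1 h
      omega
    have h3 := h3F hp'
    have hz3 : z ^ 3 = 1 := by
      have h1 := congrArg Matrix.det hz
      rw [Matrix.det_pow, x.2, one_pow, Matrix.det_smul, Matrix.det_one, mul_one, Fintype.card_fin] at h1
      exact h1.symm
    by_cases hz1 : z = 1
    · rw [hz1, one_smul] at hz
      exact conj_frob hK h3 x hz (charpoly_one _ hz x.2 hx2)
    have hq47 : Fintype.card F % 9 = 4 ∨ Fintype.card F % 9 = 7 := by
      have h2 : 3 ∣ Fintype.card F - 1 := by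
        rw [← orderOf_eq_prime hz3 hz1]
        exact orderOf_dvd_of_pow_eq_one (FiniteField.pow_card_sub_one_eq_one z fun h => by rw [h] at hz3; simp at hz3)
      omega
    have hnc : ∀ w : F, w ^ 3 ≠ z := fun w hw => by
      have hw0 : w ≠ 0 := fun h => by rw [← hw, h] at hz3; simp at hz3
      have h9 : w ^ 9 = 1 := by rw [show (9 : ℕ) = 3 * 3 by norm_num, pow_mul, hw, hz3]
      have h1 := orderOf_dvd_of_pow_eq_one h9
      have h2 := orderOf_dvd_of_pow_eq_one (FiniteField.pow_card_sub_one_eq_one w hw0)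
      have h4 := Nat.dvd_gcd h1 h2
      have h5 : Nat.gcd 9 (Fintype.card F - 1) ∣ 3 := by
        rw [Nat.gcd_rec]
        rcases hq47 with h | h
        · rw [show (Fintype.card F - 1) % 9 = 3 by omega]; decide
        · rw [show (Fintype.card F - 1) % 9 = 6 by omega]; decide
      exact hz1 (by rw [← hw]; exact orderOf_dvd_iff_pow_eq_one.1 (h4.trans h5))
    letI := (Cfsg.Lib.Linear.Singer.isField_K hK (by norm_num)).toField
    haveI : Module.Finite F K := Module.finite_of_finrank_pos (by rw [hK.finrank_eq]; norm_num)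
    haveI : Finite K := Module.finite_of_finite F
    letI := Fintype.ofFinite K
    have hcardK : Fintype.card K = Fintype.card F ^ 3 := by rw [Module.card_eq_pow_finrank (K := F), hK.finrank_eq]
    obtain ⟨y, hy⟩ : ∃ y : K, y ^ 3 = algebraMap F K z := by
      obtain ⟨ζ, hζ⟩ := IsCyclic.exists_generator (α := Kˣ)
      have hz0 : algebraMap F K z ≠ 0 := fun h => by
        rw [map_eq_zero_iff _ (algebraMap F K).injective] at h
        rw [h] at hz3; simp at hz3
      obtain ⟨j, hj⟩ := (mem_powers_iff_mem_zpowers.2 (hζ (Units.mk0 _ hz0)) : Units.mk0 _ hz0 ∈ Submonoid.powers ζ)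
      have h1 : ζ ^ (j * 3) = 1 := by
        rw [pow_mul, show ζ ^ j = Units.mk0 _ hz0 from hj]
        exact Units.ext (by rw [Units.val_pow_eq_pow_val, Units.val_mk0, ← map_pow, hz3, map_one, Units.val_one])
      have h2 := orderOf_dvd_of_pow_eq_one h1
      rw [orderOf_eq_card_of_forall_mem_zpowers hζ, Nat.card_eq_fintype_card, Fintype.card_units, hcardK] at h2
      have h9 : 9 ∣ Fintype.card F ^ 3 - 1 := by
        have h9' : Fintype.card F ^ 3 % 9 = 1 := by
          rw [Nat.pow_mod]
          rcases hq47 with h | h <;> rw [h]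
        omega
      obtain ⟨i, hi⟩ : 3 ∣ j := (Nat.mul_dvd_mul_iff_right (by norm_num : 0 < 3)).1 ((show 3 * 3 ∣ Fintype.card F ^ 3 - 1 from h9).trans h2)
      refine ⟨(ζ ^ i : Kˣ), ?_⟩
      rw [← Units.val_pow_eq_pow_val, ← pow_mul, mul_comm, ← hi, show ζ ^ j = Units.mk0 _ hz0 from hj, Units.val_mk0]
    have hy' : (y : Matrix (Fin 3) (Fin 3) F) ^ 3 = z • 1 := by
      have := congrArg Subtype.val hy
      rw [SubmonoidClass.coe_pow] at this
      rw [this]; exact Algebra.algebraMap_eq_smul_one z
    have hy9 : (y : Matrix (Fin 3) (Fin 3) F) ^ 9 = 1 := by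
      rw [show (9 : ℕ) = 3 * 3 by norm_num, pow_mul, hy', _root_.smul_pow, one_pow, hz3, one_smul]
    let g : GL (Fin 3) F := Units.ofPowEqOne _ 9 hy9 (by norm_num)
    have hg : g ∈ Cfsg.Geo.subalgebraNormalizer K := Cfsg.Lib.Linear.Singer.mem_norm_of_conj g fun e he => by
      rw [show (g : Matrix (Fin 3) (Fin 3) F) * e = e * (g : Matrix (Fin 3) (Fin 3) F) from hK.comm _ y.2 _ he, mul_assoc,
        Units.mul_inv, mul_one]
      exact he
    exact Cfsg.Lib.Linear.Singer.conj_into hK (by norm_num) x g hg (N := 9)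
      (by rw [show (9 : ℕ) = 3 * 3 by norm_num, Nat.cast_mul]; exact mul_ne_zero (by exact_mod_cast h3) (by exact_mod_cast h3))
      (by rw [show (9 : ℕ) = 3 * 3 by norm_num, pow_mul, hz, _root_.smul_pow, one_pow, hz3, one_smul]) hy9
      ((charpoly_noncube _ hnc hz).trans (charpoly_noncube _ hnc hy').symm)

end Cfsg.Agent.S5971
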