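import Cfsg.Statements.S5972
import Cfsg.Agent.Lib.Linear.IsotropicFix.OrthTypes
import Cfsg.Agent.Lib.Linear.IsotropicFix.OrthReduce
import Cfsg.Agent.Lib.Linear.IsotropicFix.OrthInvol
import Cfsg.Agent.Lib.Linear.IsotropicFix.Comb
-- import your own Cfsg.Agent.* helpers here

set_option autoImplicit false
open scoped MatrixGroups
open Cfsg

namespace Cfsg.Agent.S5972

open Module Polynomial Cfsg.Lib.Linear.Orth Cfsg.Lib.Linear.IsoFix Cfsg.Agent.Lib.Linear.PrimeClasses
open scoped Matrix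

theorem eq_div_of_lt {i m J : ℕ} (h : i * J ≤ m) (hlt : m - i * J < i) : m / i = J :=
  Nat.div_eq_of_lt_le (by rw [mul_comm]; exact h) (by rw [Nat.succ_mul, mul_comm J]; omega)

/-- The arithmetic. -/
theorem cond_odd {d i c t m : ℕ} (hi : 0 < i) (hc : c = if Even i then i else 2 * i)
    (hklow : (2 * d + 1) % c < 2 * m) (hmd : m ≤ d) :
    Cond (2 * d + 1) c i t m (fun _ => True) ↔
      (i ≤ m ∧ 2 * (m % i) < (2 * d + 1) % c ∧ (Odd i ∨ t + 2 * (m / i) ≤ (2 * d + 1) / i)) := by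
  have hm := Nat.div_add_mod m i
  have hn := Nat.div_add_mod (2 * d + 1) c
  have hlm : m % i < i := Nat.mod_lt _ hi
  have hce : ∃ e, c = 2 * e := by
    rw [hc]
    split_ifs with h
    · exact h.two_dvd
    · exact ⟨i, rfl⟩
  have hci : i ≤ c ∧ c ≤ 2 * i := by rw [hc]; split_ifs <;> omega
  obtain ⟨e, he2⟩ := hce
  have hlk : (2 * d + 1) % c < c := Nat.mod_lt _ (by omega)
  constructor
  · intro h
    obtain ⟨J, hJb, hJm, hJ⟩ := h ((2 * d + 1) / c) (Nat.mul_div_le _ _) (Or.inr trivial)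
    have hs : 2 * (m - i * J) ≤ (2 * d + 1) % c := by omega
    have hJpos : 0 < J := by
      rcases Nat.eq_zero_or_pos J with h0 | h0
      · subst h0; simp at hs; omega
      · exact h0
    have hiJ : i ≤ i * J := Nat.le_mul_of_pos_right i hJpos
    have hlt : m - i * J < i := by omega
    have hJeq := eq_div_of_lt hJm hlt
    rw [hJeq] at hm
    refine ⟨by omega, ?_, ?_⟩
    · have hp : (2 * d + 1) % c % 2 = 1 := by
        rw [he2, Nat.mod_mul_right_mod]; omega
      omega
    · refine (Nat.even_or_odd i).symm.imp id fun hev => ?_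
      rw [hJeq]
      have hci' : c = i := by rw [hc, if_pos hev]
      subst hci'
      by_contra hcon
      rw [Jbound, if_pos hev] at hJb
      set N := (2 * d + 1) / c with hN
      have hN1 : c * (N - 1) + c = c * N ∨ N = 0 := by
        rcases Nat.eq_zero_or_pos N with h0 | h0
        · exact Or.inr h0
        · left
          rw [← Nat.mul_succ]
          congr 1
          omega
      obtain ⟨J', hJb', hJm', hJ'⟩ := h (N - 1) ((Nat.mul_le_mul_left c (Nat.sub_le N 1)).trans (Nat.mul_div_le _ _))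
        (Or.inr trivial)
      rw [Jbound, if_pos hev] at hJb'
      have hlt' : m - c * J' < c := by omega
      have hJeq' := eq_div_of_lt hJm' hlt'
      omega
  · rintro ⟨him, hkl, hcond⟩ K hK -
    have hKn : K ≤ (2 * d + 1) / c := (Nat.le_div_iff_mul_le (by omega)).2 (by rw [mul_comm]; exact hK)
    have hcK := Nat.mul_le_mul_left c hKn
    refine ⟨min (m / i) (Jbound i t K), min_le_right _ _, ?_, Or.inl ?_⟩
    · exact (Nat.mul_le_mul_left i (min_le_left _ _)).trans (Nat.mul_div_le _ _)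
    rcases le_total (m / i) (Jbound i t K) with h | h
    · rw [min_eq_left h]
      omega
    · rw [min_eq_right h]
      rw [Jbound] at h ⊢
      have h1 := Nat.mul_le_mul_left i h
      by_cases hev : Even i
      · rw [if_pos hev] at h1 ⊢
        have hci' : c = i := by rw [hc, if_pos hev]
        subst hci'
        have h3 := Nat.mul_le_mul_left c (hcond.resolve_left (Nat.not_odd_iff_even.mpr hev))
        have h4 : c * K ≤ c * (2 * ((K - t + 1) / 2) + t) := Nat.mul_le_mul_left c (by omega)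
        have e4 : c * (2 * ((K - t + 1) / 2) + t) = 2 * (c * ((K - t + 1) / 2)) + c * t := by ring
        have e3 : c * (t + 2 * (m / c)) = c * t + 2 * (c * (m / c)) := by ring
        omega
      · rw [if_neg hev] at h1 ⊢
        have e5 : c * K = 2 * (i * K) := by rw [hc, if_neg hev, mul_assoc]
        omega

/-- The case `r = 2`. -/
theorem two_case {F : Type*} [Field F] [Fintype F] (h2 : (2 : F) ≠ 0) {d m : ℕ} (hd : 2 ≤ d) (hmd : m ≤ d) :
    (∀ x : GL (Unit ⊕ (Fin d ⊕ Fin d)) F, x ∈ Cfsg.Geo.omegaGL (Cfsg.quadFormOdd d F) → orderOf x = 2 →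
      FixesQ (Cfsg.quadFormOdd d F) m (x : Matrix (Unit ⊕ (Fin d ⊕ Fin d)) (Unit ⊕ (Fin d ⊕ Fin d)) F)) ↔
    (m < d ∨ Fintype.card F % 4 = 1) := by
  classical
  obtain ⟨B, C⟩ := exists_space (Q := Cfsg.quadFormOdd d F) (isQuad_odd d h2)
  have hc := card_odd_index d
  have hodd : Fintype.card F % 2 = 1 := FiniteField.odd_card_of_char_ne_two fun h => h2 (by
    haveI : CharP F 2 := ringChar.of_eq h
    exact CharTwo.two_eq_zero)
  have hneg : IsSquare (-1 : F) ↔ Fintype.card F % 4 = 1 := by rw [FiniteField.isSquare_neg_one_iff]; omega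
  constructor
  · intro hall
    by_contra hcon
    push Not at hcon
    obtain rfl : m = d := by omega
    let a : Fin m := ⟨0, by omega⟩
    let b : Fin m := ⟨1, by omega⟩
    have hab : a ≠ b := fun h => by simpa [a, b] using congrArg Fin.val h
    let u₁ : Unit ⊕ (Fin m ⊕ Fin m) → F := Pi.single (Sum.inr (Sum.inl a)) 1 + Pi.single (Sum.inr (Sum.inr a)) 1
    let u₂ : Unit ⊕ (Fin m ⊕ Fin m) → F := Pi.single (Sum.inr (Sum.inl b)) 1 + Pi.single (Sum.inr (Sum.inr b)) 1
    have hQ₁ : Cfsg.quadFormOdd m F u₁ = 1 := by simp [u₁, Cfsg.quadFormOdd, Pi.single_apply]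
    have hQ₂ : Cfsg.quadFormOdd m F u₂ = 1 := by simp [u₂, Cfsg.quadFormOdd, Pi.single_apply]
    have h12 : B u₁ u₂ = 0 := by
      rw [← C.polar, QuadraticMap.polar, hQ₁, hQ₂]
      have e : Cfsg.quadFormOdd m F (u₁ + u₂) = 2 := by
        simp [u₁, u₂, Cfsg.quadFormOdd, Pi.single_apply]
        rw [Finset.sum_eq_add a b hab (fun x _ hx => by simp [hx.1, hx.2]) (by simp) (by simp)]
        simp [hab, hab.symm]
        norm_num
      rw [e]; ring
    have hO : OrthList (Cfsg.quadFormOdd m F) B [u₁, u₂] := ⟨by simp [hQ₁, hQ₂], by simpa using h12⟩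
    obtain ⟨g, hg, -, -⟩ := exists_refl_prod C h2 [u₁, u₂] hO.1
    have hgΩ : g ∈ Omega F (Cfsg.quadFormOdd m F) :=
      (refl_prod_mem_omega_iff C h2 (by omega) [u₁, u₂] hO.1 g hg).2
        ⟨⟨1, rfl⟩, by simp [hQ₁, hQ₂]⟩
    have hg1 : (g : GL (Unit ⊕ (Fin m ⊕ Fin m)) F).val *ᵥ u₁ = -u₁ := by
      rw [hg]; exact refl_prod_neg C _ hO u₁ (by simp)
    have hg2 : (g : GL (Unit ⊕ (Fin m ⊕ Fin m)) F).val *ᵥ u₂ = -u₂ := by
      rw [hg]; exact refl_prod_neg C _ hO u₂ (by simp)
    have hBs : ∀ x y, B x y = B y x := C.symm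
    have hgfix : ∀ x, (g : GL (Unit ⊕ (Fin m ⊕ Fin m)) F).val *ᵥ x = x - (B u₁ x) • u₁ - (B u₂ x) • u₂ := fun x => by
      rw [hg]
      simp only [List.map_cons, List.map_nil, List.prod_cons, List.prod_nil, mul_one, ← Matrix.mulVec_mulVec]
      rw [← rGL_val C (show Cfsg.quadFormOdd m F u₂ ≠ 0 by rw [hQ₂]; exact one_ne_zero), rGL_act C (by rw [hQ₂]; exact one_ne_zero),
        ← rGL_val C (show Cfsg.quadFormOdd m F u₁ ≠ 0 by rw [hQ₁]; exact one_ne_zero), rGL_act C (by rw [hQ₁]; exact one_ne_zero),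
        hQ₁, hQ₂, inv_one, one_mul, one_mul, map_sub, map_smul, h12, smul_zero, sub_zero]
      abel
    have hord : orderOf (g : GL (Unit ⊕ (Fin m ⊕ Fin m)) F) = 2 := by
      refine orderOf_eq_prime (gl_ext fun x => ?_) fun h => ?_
      · have e11 : B u₁ u₁ = 2 := by rw [C.self, hQ₁, mul_one]
        have e22 : B u₂ u₂ = 2 := by rw [C.self, hQ₂, mul_one]
        rw [pow_two, mul_act, hgfix, hgfix, Units.val_one, Matrix.one_mulVec]
        simp only [map_sub, map_smul, smul_eq_mul, e11, e22, h12, hBs u₂ u₁, mul_zero, sub_zero]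
        module
      · rw [h, Units.val_one, Matrix.one_mulVec] at hg1
        have h3 : (2 : F) • u₁ = 0 := by rw [two_smul]; nth_rw 1 [hg1]; exact neg_add_cancel u₁
        rw [smul_eq_zero, or_iff_right h2] at h3
        rw [h3, C.zero] at hQ₁
        exact zero_ne_one hQ₁
    obtain ⟨W, hWm, hW, hinv⟩ := hall _ ⟨g, hgΩ, rfl⟩ hord
    have hBW : ∀ x ∈ W, B u₁ x = 0 ∧ B u₂ x = 0 := by
      intro x hx
      have h3 : x - (g : GL (Unit ⊕ (Fin m ⊕ Fin m)) F).val *ᵥ x ∈ W :=
        W.sub_mem hx (hinv ⟨x, hx, Matrix.toLin'_apply _ _⟩)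
      have h4 := hW _ h3
      rw [hgfix, show x - (x - (B u₁ x) • u₁ - (B u₂ x) • u₂) = (B u₁ x) • u₁ + (B u₂ x) • u₂ by abel,
        C.smul_add, hQ₁, hQ₂, h12] at h4
      have h5 : B u₂ x = 0 := by
        by_contra h5
        refine hcon.2 (hneg.1 ⟨B u₁ x / B u₂ x, ?_⟩)
        field_simp
        linear_combination -h4
      refine ⟨?_, h5⟩
      rw [h5] at h4
      simpa using h4
    have hperp : W ⊔ Submodule.span F (Set.range ![u₁, u₂]) ≤ B.orthogonal W := by
      refine sup_le (fun x hx y hy => ?_) (Submodule.span_le.2 ?_)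
      · exact ts_orth C hW hy hx
      · rintro _ ⟨j, rfl⟩ y hy
        show B y _ = 0
        rw [C.symm]
        fin_cases j
        · exact (hBW y hy).1
        · exact (hBW y hy).2
    have hli : LinearIndependent F ![u₁, u₂] := by
      rw [LinearIndependent.pair_iff]
      intro p q hpq
      have e11 : B u₁ u₁ = 2 := by rw [C.self, hQ₁, mul_one]
      have e22 : B u₂ u₂ = 2 := by rw [C.self, hQ₂, mul_one]
      have k1 := congrArg (B u₁) hpq
      have k2 := congrArg (B u₂) hpq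
      simp only [map_add, map_smul, smul_eq_mul, map_zero, e11, e22, h12, hBs u₂ u₁, mul_zero, add_zero, zero_add,
        mul_eq_zero, or_iff_left h2] at k1 k2
      exact ⟨k1, k2⟩
    have hinf : W ⊓ Submodule.span F (Set.range ![u₁, u₂]) = ⊥ := eq_bot_iff.2 fun x hx => by
      obtain ⟨w, rfl⟩ := (Submodule.mem_span_range_iff_exists_fun F).1 hx.2
      obtain ⟨k1, k2⟩ := hBW _ hx.1
      have e11 : B u₁ u₁ = 2 := by rw [C.self, hQ₁, mul_one]
      have e22 : B u₂ u₂ = 2 := by rw [C.self, hQ₂, mul_one]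
      simp only [Fin.sum_univ_two, Matrix.cons_val_zero, Matrix.cons_val_one, map_add, map_smul, smul_eq_mul, e11, e22,
        h12, hBs u₂ u₁, mul_zero, add_zero, zero_add, mul_eq_zero, or_iff_left h2] at k1 k2
      simp [Fin.sum_univ_two, k1, k2]
    have h6 := Submodule.finrank_mono hperp
    have h7 := Submodule.finrank_sup_add_finrank_inf_eq W (Submodule.span F (Set.range ![u₁, u₂]))
    rw [hinf, finrank_bot, add_zero, finrank_span_eq_card hli, Fintype.card_fin, hWm] at h7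
    have hnd : B.Nondegenerate := ⟨fun x hx => C.nondeg' hx, fun x hx => C.nondeg _ hx⟩
    rw [LinearMap.BilinForm.finrank_orthogonal hnd, finrank_fintype_fun_eq_card, hc, hWm, h7] at h6
    omega
  · intro hcase x hx hord
    obtain ⟨g, hg, rfl⟩ := hx
    have hgg : g ^ 2 = 1 := Subtype.ext (by
      rw [SubmonoidClass.coe_pow, ← hord]
      exact pow_orderOf_eq_one _)
    obtain ⟨Lp, Lm, hp, hm, hOp, hOm, hlen, ⟨a, ha⟩, hsq⟩ := exists_lists_omega C h2 (by omega) g hg hgg
    rw [hc] at hlen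
    by_cases hfull : m = d ∧ 0 < a
    · obtain ⟨rfl, ha0⟩ := hfull
      have h1 : IsSquare (-1 : F) := hneg.2 (hcase.resolve_left (lt_irrefl _))
      have hW := fixesQ_of_lists (k := m - a) (l := a) C h2 1 (C.B_act g.2) one_ne_zero (one_mul 1)
        (fun v hv => by rw [one_smul]; exact hp v hv)
        (fun v hv => by rw [neg_one_smul]; exact hm v hv) hOp hOm (Or.inl (by omega))
        (Or.inr ⟨by omega, (h1.pow a).mul hsq⟩)
      rwa [show m - a + a = m by omega] at hW
    · have hma : m - min m (a - 1) + min m (a - 1) = m := by omega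
      rw [← hma]
      refine fixesQ_of_lists C h2 1 (C.B_act g.2) one_ne_zero (one_mul 1) (fun v hv => by rw [one_smul]; exact hp v hv)
        (fun v hv => by rw [neg_one_smul]; exact hm v hv) hOp hOm (Or.inl (by omega)) ?_
      rcases Nat.eq_zero_or_pos a with h0 | h0
      · subst h0
        refine Or.inr ⟨by omega, ?_⟩
        rw [show min m (0 - 1) = 0 by omega, pow_zero, one_mul]
        exact hsq
      · exact Or.inl (by omega)

/-- Elements of prime order of Ω_n(q), n = 2d+1 ≥ 7, q odd, with no fixed totally singular `m`-space. Here `T = Ω_n(q)` is realised as the commutator subgroup of the isometry group of the quadratic form `x₀² + Σ xᵢyᵢ` over the field `F` with `q` elements (it has trivial centre, so its elements of prime order `r` are used directly); let `1 ≤ m ≤ d` and let `r` be a prime dividing the number of totally singular `m`-spaces. For `r ≠ p` let `i` be the multiplicative order of `q` modulo `r`, `c = i` for `i` even and `c = 2i`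 for `i` odd, and write `k = n mod c`, `ℓ = m mod i`, `n' = ⌊n/i⌋`, `m' = ⌊m/i⌋`, `t = (r−1)/i`. Then every element of `T` of order `r` fixes some totally singular `m`-space if and only if either (i) `r = 2` and (`m < (n−1)/2` or `q ≡ 1 (mod 4)`); or (ii) `r ≠ p` is odd, `i ≤ m`, `k > 2ℓ`, and (`i` is odd or `n' − 2m' ≥ t`). -/
theorem result {F : Type*} [Field F] [Fintype F] {p : ℕ} [Fact p.Prime] [CharP F p] {q : ℕ} (hq : Fintype.card F = q) (hqodd : Odd q)
    (d m : ℕ) (hd : 3 ≤ d) (hm : 1 ≤ m) (hmd : m ≤ d)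
    (r : ℕ) [Fact r.Prime]
    (hrΩ : r ∣ Nat.card {W : Submodule F (Unit ⊕ (Fin d ⊕ Fin d) → F) // Module.finrank F ↥W = m ∧ (∀ w ∈ W, Cfsg.quadFormOdd d F w = 0)})
    (i c : ℕ) (hi : i = orderOf (q : ZMod r)) (hc : c = if Even i then i else 2 * i) :
    (∀ x : GL (Unit ⊕ (Fin d ⊕ Fin d)) F, x ∈ Cfsg.Geo.omegaGL (Cfsg.quadFormOdd d F) → orderOf x = r →
      ∃ W : Submodule F (Unit ⊕ (Fin d ⊕ Fin d) → F), Module.finrank F ↥W = m ∧ (∀ w ∈ W, Cfsg.quadFormOdd d F w = 0) ∧
        W.map (Matrix.toLin' (x : Matrix (Unit ⊕ (Fin d ⊕ Fin d)) (Unit ⊕ (Fin d ⊕ Fin d)) F)) ≤ W) ↔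
    ((r = 2 ∧ (m < d ∨ q % 4 = 1)) ∨
     (r ≠ p ∧ 2 < r ∧ i ≤ m ∧ 2 * (m % i) < (2 * d + 1) % c ∧ (Odd i ∨ (r - 1) / i + 2 * (m / i) ≤ (2 * d + 1) / i))) := by
  classical
  subst hq
  obtain ⟨hr⟩ := (inferInstance : Fact r.Prime)
  have h2 : (2 : F) ≠ 0 := two_ne_zero_of_odd_card hqodd
  have hp2 : p ≠ 2 := fun h => h2 (by subst h; exact CharTwo.two_eq_zero)
  obtain ⟨B, C⟩ := exists_space (Q := Cfsg.quadFormOdd d F) (isQuad_odd d h2)
  -- local counts
  obtain ⟨j, hjm, hrj⟩ := exists_dvd_local C (fun j => Fintype.card F ^ (2 * (d - j)) - 1) m (fun j hj W hWj hW => by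
    obtain ⟨e, rfl⟩ := Nat.exists_eq_add_of_le (le_of_lt (lt_of_lt_of_le hj hmd))
    obtain ⟨B₀, C₀⟩ := exists_space (Q := Cfsg.quadFormOdd e F) (isQuad_odd e h2)
    show _ = _ * (Fintype.card F ^ (2 * (j + e - j)) - 1)
    rw [Nat.add_sub_cancel_left, card_extensions C C₀ (oddSplit j e) hWj hW, count_odd h2 e]) hr hrΩ
  have hrp : r ≠ p := by
    rintro rfl
    obtain ⟨k, -, hk⟩ := FiniteField.card F r
    have h1 : r ∣ Fintype.card F ^ (2 * (d - j)) := by
      rw [hk, ← pow_mul]; exact dvd_pow_self r (Nat.mul_ne_zero k.pos.ne' (by omega))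
    have h3 := Nat.dvd_sub h1 hrj
    rw [Nat.sub_sub_self (Nat.one_le_pow _ _ Fintype.card_pos)] at h3
    exact hr.one_lt.ne' (Nat.dvd_one.1 h3)
  by_cases hr2 : r = 2
  · subst hr2
    refine (two_case h2 (by omega) hmd).trans ⟨fun h => Or.inl ⟨rfl, h⟩, ?_⟩
    rintro (⟨-, h⟩ | ⟨-, h, -⟩)
    · exact h
    · exact absurd h (lt_irrefl 2)
  obtain ⟨e, rfl⟩ := Nat.exists_eq_add_of_le hmd
  obtain ⟨B₀, C₀⟩ := exists_space (Q := Cfsg.quadFormOdd e F) (isQuad_odd e h2)
  refine (omega_order_iff C C₀ (oddSplit m e) (by rw [card_odd_index]; omega)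
    (Or.inr (by rw [card_odd_index]; omega)) hr2).trans ?_
  let L := AlgebraicClosure F
  haveI : CharP L p := charP_of_injective_algebraMap (algebraMap F L).injective p
  have hrL : (r : L) ≠ 0 := fun h =>
    hrp ((Nat.prime_dvd_prime_iff_eq Fact.out hr).mp ((CharP.cast_eq_zero_iff L p r).mp h)).symm
  have hrF : (r : F) ≠ 0 := fun h => hrL (by rw [← map_natCast (algebraMap F L), h, map_zero])
  haveI : NeZero (r : L) := ⟨hrL⟩
  obtain ⟨ζ, hζ⟩ := HasEnoughRootsOfUnity.exists_primitiveRoot L r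
  have hrq : (Fintype.card F : ZMod r) ≠ 0 := fun h => by
    obtain ⟨k, -, hk⟩ := FiniteField.card F p
    rw [ZMod.natCast_eq_zero_iff, hk] at h
    exact hrp ((Nat.prime_dvd_prime_iff_eq hr Fact.out).mp (hr.dvd_of_dvd_pow h))
  let uq : (ZMod r)ˣ := Units.mk0 _ hrq
  have huq : (uq : ZMod r) = (Fintype.card F : ZMod r) := rfl
  have hiu : orderOf uq = i := by rw [hi, ← orderOf_units, huq]
  obtain ⟨w, hw, hwq, hwn, hwo⟩ := exists_gen hr2 uq
  rw [hiu] at hwo
  have hwc : orderOf w = c := by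
    rw [hwo, hc]
    by_cases he : Even i
    · rw [if_pos he, if_neg (Nat.not_odd_iff_even.mpr he)]
    · rw [if_neg he, if_pos (Nat.not_even_iff_odd.mp he)]
  have hi0 : 0 < i := hiu ▸ orderOf_pos uq
  have hir : i ∣ r - 1 := by
    rw [← hiu, ← ZMod.card_units r]
    exact orderOf_dvd_card
  have hklow : (2 * (m + e) + 1) % c < 2 * m := by
    have h5 : i ∣ 2 * (m + e - j) := by
      rw [← hiu]
      refine orderOf_dvd_of_pow_eq_one (Units.ext ?_)
      rw [Units.val_pow_eq_pow_val, huq, Units.val_one, ← Nat.cast_pow, ← sub_eq_zero, ← Nat.cast_one,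
        ← Nat.cast_sub (Nat.one_le_pow _ _ Fintype.card_pos)]
      exact (ZMod.natCast_eq_zero_iff _ _).2 hrj
    have hij : c ∣ 2 * (m + e - j) := by
      rw [hc]
      split_ifs with he
      · exact h5
      · exact Nat.Coprime.mul_dvd_of_dvd_of_dvd
          ((Nat.Prime.coprime_iff_not_dvd Nat.prime_two).2 fun h => he (even_iff_two_dvd.2 h)) (dvd_mul_right 2 _) h5
    obtain ⟨x, hx⟩ := hij
    rw [show 2 * (m + e) + 1 = (2 * j + 1) + c * x by omega, Nat.add_mul_mod_self_left]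
    exact lt_of_le_of_lt (Nat.mod_le _ _) (by omega)
  rw [all_fixes_iff C C₀ (oddSplit m e) hζ hrL hrF hr2 huq w hw (n := 2 * (m + e) + 1) (n₀ := 2 * e + 1)
    (card_odd_index _) (by omega) (fun _ => True) (fun _ => True)
    (fun f hf => ⟨fun _ => real_odd hζ hr2 huq w hwq hwn h2 _ hf, fun _ => trivial⟩)
    (fun f hf => ⟨fun _ => real_odd hζ hr2 huq w hwq hwn h2 _ hf, fun _ => trivial⟩)]
  have hcomb := comb_iff (n := 2 * (m + e) + 1) (m := m) hr2 hwq hwn hiu hwc hc (Nat.div_mul_cancel hir) (fun _ => True)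
  constructor
  · intro h
    have h' := (cond_odd hi0 hc hklow (by omega)).1 (hcomb.1 fun f hf _ => by
      obtain ⟨μ, h1, h3, -⟩ := h f hf trivial
      exact ⟨μ, h1, h3, Or.inr trivial⟩)
    exact Or.inr ⟨hrp, lt_of_le_of_ne hr.two_le (Ne.symm hr2), h'⟩
  · rintro (⟨h, -⟩ | ⟨-, -, h⟩) f hf -
    · exact absurd h hr2
    obtain ⟨μ, h1, h3, -⟩ := hcomb.2 ((cond_odd hi0 hc hklow (by omega)).2 h) f hf (Or.inr trivial)
    exact ⟨μ, h1, h3, trivial⟩

end Cfsg.Agent.S5972
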