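import Cfsg.Statements.S5974
import Cfsg.Agent.Lib.Linear.NondegFix.InvolEven
import Cfsg.Agent.Lib.Linear.NondegFix.InvolTwo
import Cfsg.Agent.Lib.Linear.NondegFix.EvenArith
-- import your own Cfsg.Agent.* helpers here

set_option autoImplicit false
open scoped MatrixGroups Matrix
open Cfsg

namespace Cfsg.Agent.S5974

open Module Cfsg.Lib.Linear.Orth Cfsg.Lib.Linear.IsoFix Cfsg.Lib.Linear.NondegFix Cfsg.Agent.Lib.Linear.PrimeClasses

/-- The predicate of the statement in terms of plus type. -/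
theorem pred_iff {F : Type*} [Field F] {d : ℕ} {B : LinearMap.BilinForm F (Fin d ⊕ Fin d → F)}
    (C : Space (Cfsg.quadFormPlus d F) B) (k : ℕ) (W : Submodule F (Fin d ⊕ Fin d → F)) :
    (finrank F W = 2 * k ∧ (∀ u ∈ W, u ≠ 0 → ∃ v ∈ W, QuadraticMap.polar (Cfsg.quadFormPlus d F) u v ≠ 0) ∧
      ∃ U : Submodule F (Fin d ⊕ Fin d → F), U ≤ W ∧ 2 * finrank F ↥U = 2 * k ∧ ∀ u ∈ U, Cfsg.quadFormPlus d F u = 0) ↔
    (finrank F W = 2 * k ∧ Cfsg.Geo.IsNondegenerateOn (QuadraticMap.polar (Cfsg.quadFormPlus d F)) W ∧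
      Cfsg.Geo.IsPlusTypeOn (Cfsg.quadFormPlus d F) W) := by
  refine and_congr_right fun hW => and_congr ⟨fun h => geo_of_ndeg C fun x hx h0 => ?_, fun h u hu hu0 => ?_⟩ ?_
  · by_contra hx0
    obtain ⟨v, hv, hne⟩ := h x hx hx0
    exact hne ((C.polar x v).trans (h0 v hv))
  · by_contra hcon
    push Not at hcon
    exact hu0 (ndeg_of_geo C h u hu fun y hy => by rw [← C.polar]; exact hcon y hy)
  · constructor
    · rintro ⟨U, h1, h2, h3⟩; exact ⟨U, h1, h3, by omega⟩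
    · rintro ⟨U, h1, h3, h2⟩; exact ⟨U, h1, by omega, h3⟩

/-- Characteristic two. -/
theorem two_case {F : Type*} [Field F] [Fintype F] [CharP F 2] {d k : ℕ} (hd : 4 ≤ d) (hk : 1 ≤ k) (hkd : k < d) :
    (∀ x : GL (Fin d ⊕ Fin d) F, x ∈ Cfsg.Geo.omegaGL (Cfsg.quadFormPlus d F) →
      (∃ z : F, ((x ^ 2 : GL (Fin d ⊕ Fin d) F) : Matrix (Fin d ⊕ Fin d) (Fin d ⊕ Fin d) F) = z • (1 : Matrix _ _ F)) →
      (∀ z : F, (x : Matrix (Fin d ⊕ Fin d) (Fin d ⊕ Fin d) F) ≠ z • (1 : Matrix _ _ F)) →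
      ∃ W : Submodule F (Fin d ⊕ Fin d → F), (finrank F W = 2 * k ∧
        Cfsg.Geo.IsNondegenerateOn (QuadraticMap.polar (Cfsg.quadFormPlus d F)) W ∧
        Cfsg.Geo.IsPlusTypeOn (Cfsg.quadFormPlus d F) W) ∧
        W.map (Matrix.toLin' (x : Matrix (Fin d ⊕ Fin d) (Fin d ⊕ Fin d) F)) ≤ W) ↔ (Odd d ∨ Even k) := by
  classical
  obtain ⟨B, C⟩ := exists_space_plus (F := F) d
  have hcard : Fintype.card (Fin d ⊕ Fin d) = 2 * d := by simp; omega
  have h2 : (2 : F) = 0 := CharTwo.two_eq_zero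
  constructor
  · intro hall
    by_contra hcon
    rw [not_or, Nat.not_odd_iff_even, Nat.not_even_iff_odd] at hcon
    obtain ⟨hde, hko⟩ := hcon
    rw [Nat.even_iff] at hde
    have hrk := nilpP_rank (F := F) (d := d)
    obtain ⟨x, hx, hxp, hxv, hns⟩ := exists_one_add 2 C hcard (by omega) (nilpP F d) nilpP_sq nilpP_iso nilpP_ts
      (fun h => by rw [h, LinearMap.range_zero, finrank_bot] at hrk; omega)
    obtain ⟨W, ⟨hWd, hWn, -⟩, hinv⟩ := hall x hx ⟨1, by rw [hxp, Units.val_one, one_smul]⟩ hns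
    have hinv' : ∀ u ∈ W, nilpP F d u ∈ W := fun u hu => by
      have h3 := hinv ⟨u, hu, Matrix.toLin'_apply _ _⟩
      rw [hxv u] at h3
      simpa using W.sub_mem h3 hu
    rcases sq_zero_core C (nilpP F d) nilpP_sq nilpP_iso nilpP_ts (s := 0) (by omega) (by omega) hWd (ndeg_of_geo C hWn)
      hinv' with ⟨h, -⟩ | ⟨-, h, -⟩
    · exact Nat.not_even_iff_odd.2 hko h
    · omega
  · intro hcond x hx ⟨z, hz⟩ _
    obtain ⟨g, hg, rfl⟩ := hx
    have hgg : ∀ v, (g : GL (Fin d ⊕ Fin d) F).val *ᵥ ((g : GL (Fin d ⊕ Fin d) F).val *ᵥ v) = v := fun v => by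
      rcases sq_scalar C (by omega) g.2 hz with h1 | hsq
      · rw [← mul_act, ← pow_two]
        exact (congrArg (fun y : GL (Fin d ⊕ Fin d) F => y.val *ᵥ v) h1).trans (Matrix.one_mulVec v)
      · exact (hsq v).trans (funext fun i => CharTwo.neg_eq _)
    let N : (Fin d ⊕ Fin d → F) →ₗ[F] (Fin d ⊕ Fin d → F) := Matrix.mulVecLin (g : GL (Fin d ⊕ Fin d) F).val - LinearMap.id
    have hgv : ∀ v, (g : GL (Fin d ⊕ Fin d) F).val *ᵥ v = v + N v := fun v => by simp [N]
    have T := twoInv_mk C (N := N) h2 (fun u => by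
      have h := hgg u
      rw [hgv, hgv, map_add] at h
      have h' : N (N u) + (2 : F) • N u = 0 := by rw [two_smul]; linear_combination (norm := abel) h
      rwa [h2, zero_smul, add_zero] at h') (fun u => by rw [← hgv]; exact mem_iso.1 g.2 u)
    obtain ⟨A, hAd, hA⟩ := ts_plus F d
    obtain ⟨W, h1, h3, h4, h5⟩ := two_fixes C T hcard hk hkd True (iff_true_intro ⟨A, le_top, hA, by
        rw [finrank_top, finrank_fintype_fun_eq_card, hcard, hAd]⟩)
      ⟨fun _ => hcond, fun h => absurd trivial h⟩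
    refine ⟨W, ⟨h1, geo_of_ndeg C h3, h4.2 trivial⟩, ?_⟩
    rintro _ ⟨v, hv, rfl⟩
    show (g : GL (Fin d ⊕ Fin d) F).val *ᵥ v ∈ W
    rw [hgv]
    exact W.add_mem hv (h5 v hv)

/-- Elements of prime order of PΩ⁺_n(q), n = 2d ≥ 8, with no fixed nondegenerate hyperbolic `m`-space. Here `T = PΩ⁺_n(q)` is realised through `Ω⁺_n(q)`, the commutator subgroup of the isometry group of `Q = Σ xᵢyᵢ` over the field `F` with `q` elements; an element of `T` of prime order `r` is an element `x` of `Ω⁺_n(q)` with `x^r` scalar and `x` not scalar. A hyperbolic `m`-space is a subspace `W` of even dimension `m` on which the polar form of `Q` is nondegenerate and which contains a totally singular subspace of dimension `m/2`. Let `m` be even with `2 ≤ m < n/2`, and let `r` be a prime dividing the number of hyperbolic `m`-spaces, with `r = 2` or `r ≠ p`. For `r ≠ p` let `i` be the multiplicative order of `q` modulo `r`, `c = i` for `i` even and `c = 2i`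 for `i` odd, and write `k = n mod c`, `ℓ' = m mod c`. Then every element of `T` of order `r` fixes some hyperbolic `m`-space if and only if one of: (i) `r = 2` and (`n ≡ 2 (mod 4)`, or `m ≡ 0 (mod 4)`, or `q ≡ 1 (mod 4)`); (ii) `r ≠ p` odd, `i` odd, `c ≤ m` and `k ≥ ℓ'`; (iii) `r ≠ p` odd, `i` even, and either `k = 0` and (`n/i` odd, or `ℓ' = 0` and `m/i` even), or `i ≤ m` and (`k > ℓ' > 0`, or `k = ℓ' > 0` and `(n + m − 2k)/i` even, or `k > ℓ' = 0` and `m/i` even). -/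
theorem result {F : Type*} [Field F] [Fintype F] {p : ℕ} [Fact p.Prime] [CharP F p] {q : ℕ} (hq : Fintype.card F = q)
    (d m : ℕ) (hd : 4 ≤ d) (hm : 2 ≤ m) (hme : Even m) (hmd : m < d)
    (r : ℕ) [Fact r.Prime] (hr : r = 2 ∨ r ≠ p)
    (hrΩ : r ∣ Nat.card {W : Submodule F (Fin d ⊕ Fin d → F) // (Module.finrank F ↥W = m ∧ (∀ u ∈ W, u ≠ 0 → ∃ v ∈ W, QuadraticMap.polar (Cfsg.quadFormPlus d F) u v ≠ 0) ∧
          ∃ U : Submodule F (Fin d ⊕ Fin d → F), U ≤ W ∧ 2 * Module.finrank F ↥U = m ∧ ∀ u ∈ U, Cfsg.quadFormPlus d F u = 0)})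
    (i c : ℕ) (hi : i = orderOf (q : ZMod r)) (hc : c = if Even i then i else 2 * i) :
    (∀ x : GL (Fin d ⊕ Fin d) F, x ∈ Cfsg.Geo.omegaGL (Cfsg.quadFormPlus d F) →
      (∃ z : F, ((x ^ r : GL (Fin d ⊕ Fin d) F) : Matrix (Fin d ⊕ Fin d) (Fin d ⊕ Fin d) F) = z • (1 : Matrix (Fin d ⊕ Fin d) (Fin d ⊕ Fin d) F)) →
      (∀ z : F, (x : Matrix (Fin d ⊕ Fin d) (Fin d ⊕ Fin d) F) ≠ z • (1 : Matrix (Fin d ⊕ Fin d) (Fin d ⊕ Fin d) F)) →
      ∃ W : Submodule F (Fin d ⊕ Fin d → F), (Module.finrank F ↥W = m ∧ (∀ u ∈ W, u ≠ 0 → ∃ v ∈ W, QuadraticMap.polar (Cfsg.quadFormPlus d F) u v ≠ 0) ∧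
          ∃ U : Submodule F (Fin d ⊕ Fin d → F), U ≤ W ∧ 2 * Module.finrank F ↥U = m ∧ ∀ u ∈ U, Cfsg.quadFormPlus d F u = 0) ∧
        W.map (Matrix.toLin' (x : Matrix (Fin d ⊕ Fin d) (Fin d ⊕ Fin d) F)) ≤ W) ↔
    ((r = 2 ∧ ((2 * d) % 4 = 2 ∨ m % 4 = 0 ∨ q % 4 = 1)) ∨
     (r ≠ p ∧ 2 < r ∧ Odd i ∧ c ≤ m ∧ m % c ≤ (2 * d) % c) ∨
     (r ≠ p ∧ 2 < r ∧ Even i ∧
       (((2 * d) % c = 0 ∧ (Odd ((2 * d) / i) ∨ (m % c = 0 ∧ Even (m / i)))) ∨
        (i ≤ m ∧ ((m % c < (2 * d) % c ∧ 0 < m % c) ∨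
                  ((2 * d) % c = m % c ∧ 0 < m % c ∧ Even ((2 * d + m - 2 * ((2 * d) % c)) / i)) ∨
                  (0 < (2 * d) % c ∧ m % c = 0 ∧ Even (m / i))))))) := by
  classical
  subst hq
  have hrP : r.Prime := Fact.out
  obtain ⟨B, C⟩ := exists_space_plus (F := F) d
  have hcard : Fintype.card (Fin d ⊕ Fin d) = 2 * d := by simp; omega
  obtain ⟨k, hk⟩ := hme
  obtain ⟨j, rfl⟩ : ∃ j, k = j + 1 := ⟨k - 1, by omega⟩
  obtain rfl : m = 2 * (j + 1) := by omega
  refine Iff.trans (forall_congr' fun x => forall_congr' fun _ => forall_congr' fun _ => forall_congr' fun _ =>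
    exists_congr fun W => and_congr (pred_iff C (j + 1) W) Iff.rfl) ?_
  rw [Nat.card_congr (Equiv.subtypeEquivRight (pred_iff C (j + 1)))] at hrΩ
  by_cases hr2 : r = 2
  · subst hr2
    by_cases hp2 : p = 2
    · subst hp2
      rw [two_case hd (k := j + 1) (by omega) (by omega)]
      have heven : Fintype.card F % 2 = 0 := by
        obtain ⟨t, -, ht⟩ := FiniteField.card F 2
        rw [ht, Nat.pow_mod]
        simp
      constructor
      · intro h
        refine Or.inl ⟨rfl, ?_⟩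
        rw [Nat.odd_iff, Nat.even_iff] at h
        omega
      · rintro (⟨-, h⟩ | ⟨-, h, -⟩ | ⟨-, h, -⟩)
        · rw [Nat.odd_iff, Nat.even_iff]
          omega
        · exact absurd h (lt_irrefl 2)
        · exact absurd h (lt_irrefl 2)
    have h2 : (2 : F) ≠ 0 := fun h => hp2 (by
      have := (CharP.cast_eq_zero_iff F p 2).1 (by exact_mod_cast h)
      exact (Nat.prime_dvd_prime_iff_eq Fact.out Nat.prime_two).1 this)
    have h := even_two C h2 (k := j + 1) (by omega) (by rw [hcard]; omega) True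
    simp only [iff_true] at h
    rw [h, exists_sq_neg_plus h2 (by omega), neg_one_pow_sq h2]
    constructor
    · intro h
      refine Or.inl ⟨rfl, ?_⟩
      rcases Nat.even_or_odd d with he | ho
      · rcases h (Or.inl he) with h | h
        · rw [Nat.even_iff] at h; omega
        · omega
      · rw [Nat.odd_iff] at ho; omega
    · rintro (⟨-, h⟩ | ⟨-, h, -⟩ | ⟨-, h, -⟩)
      · intro hex
        rw [Nat.even_iff] at hex ⊢
        omega
      · exact absurd h (lt_irrefl 2)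
      · exact absurd h (lt_irrefl 2)
  have hrp : r ≠ p := hr.resolve_left hr2
  obtain ⟨e, rfl⟩ : ∃ e, d = j + 1 + (e + 1) := ⟨d - (j + 1) - 1, by omega⟩
  obtain ⟨BP, CP⟩ := exists_space_plus (F := F) (j + 1)
  obtain ⟨B', C'⟩ := exists_space_plus (F := F) (e + 1)
  have S := plusSum_plus (F := F) (j + 1) (e + 1)
  have hW := plus_pred_iff C (show 1 ≤ j + 1 by omega)
  rw [Nat.card_congr (Equiv.subtypeEquivRight hW)] at hrΩ
  have hi0 : 0 < i := by
    rw [hi]
    have hne : (Fintype.card F : ZMod r) ≠ 0 := fun h => by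
      have := (ZMod.natCast_eq_zero_iff _ _).1 h
      exact not_dvd_qpow p hrp 1 (by rw [pow_one]; exact this)
    rw [show (Fintype.card F : ZMod r) = ((Units.mk0 _ hne : (ZMod r)ˣ) : ZMod r) from rfl, orderOf_units]
    exact orderOf_pos _
  refine Iff.trans (forall_congr' fun x => forall_congr' fun _ => forall_congr' fun _ => forall_congr' fun _ =>
    fixes_pred_iff _ hW _) ?_
  rw [even_iff p C CP C' S (n := 2 * (j + 1 + (e + 1))) (m := 2 * (j + 1)) hcard (by simp; omega) (by omega) (by omega)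
    (by omega) hr2 hrp hi hc (TPlus i) (TPlus i) (TPlus i) (realSpec_plus hr2 hc _) (realSpec_plus hr2 hc _)
    (by
      rw [show 2 * (j + 1 + (e + 1)) - 2 * (j + 1) = 2 * (e + 1) by omega]
      exact realSpec_plus hr2 hc _)
    (fun h => by
      have hle := Nat.div_le_div_right (c := c) (show 2 * (j + 1) ≤ 2 * (j + 1 + (e + 1)) by omega)
      simp only [TPlus, not_or, Nat.not_odd_iff_even, Nat.not_even_iff_odd] at h ⊢
      simp only [Nat.not_odd_iff_even.2 h.1, false_or, Nat.even_iff, Nat.odd_iff] at h ⊢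
      omega)
    (fun h h' => by
      rcases h with h | h
      · exact Or.inl h
      rcases h' with h' | h'
      · exact Or.inl h'
      have hle := Nat.div_le_div_right (c := c) (show 2 * (j + 1) ≤ 2 * (j + 1 + (e + 1)) by omega)
      refine Or.inr ?_
      rw [Nat.even_iff] at h h' ⊢
      omega)]
  refine (arith_pp hc hi0 (by omega) (by omega) (fun hk hl hP => ?_)).trans ?_
  · exact c_le_even p C CP C' S (e := e) (j := j) (by omega) (A := Fintype.card F ^ (j + 1 + (e + 1)) - 1)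
      (B₁ := Fintype.card F ^ (e + 1) - 1) (B₂ := Fintype.card F ^ (e + 1) + 1)
      (by
        conv_lhs => rw [show j + 1 + (e + 1) = j + 1 + e + 1 by omega, card_iso_plus]
        rw [show j + 1 + (e + 1) - 1 = j + 1 + e by omega, show j + 1 + (e + 1) = j + 1 + e + 1 by omega])
      (Or.inl rfl) (card_iso_plus e)
      (by rw [mul_comm, ← Nat.sq_sub_sq, one_pow, ← pow_mul, mul_comm 2])
      hr2 hrp hi hc (fun h => tplus_factor hr2 hi hc hi0 h) hrΩ hk hl hP
  · have h2r : 2 < r := lt_of_le_of_ne hrP.two_le (Ne.symm hr2)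
    simp only [hr2, false_and, false_or, ne_eq, hrp, not_false_eq_true, h2r, true_and]

end Cfsg.Agent.S5974
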