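import Cfsg.Statements.S5976
import Cfsg.Agent.Lib.Linear.SkewField.Frame
import Cfsg.Agent.Lib.Linear.SkewField.Eigen
import Cfsg.Agent.Lib.Linear.OverfieldAlg
import Cfsg.Agent.Lib.Linear.OrthOdd
import Cfsg.Agent.Lib.Linear.SymplecticMax
import Cfsg.Agent.Lib.Linear.HermStandard
import Cfsg.Agent.Lib.Linear.IsotropicFix.OrthEven
import Cfsg.Agent.S5955
import Cfsg.Agent.S5956
-- import your own Cfsg.Agent.* helpers here

set_option autoImplicit false
open scoped MatrixGroups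
open Cfsg

namespace Cfsg.Agent.S5976

open Module Polynomial Cfsg.Lib.Linear Cfsg.Lib.Linear.SkewField Cfsg.Agent.Lib.Linear.PrimeClasses
open scoped Matrix

universe u

variable {F : Type u} [Field F] {d : ℕ}

/-- A trace-zero generator of the field. -/
theorem exists_theta (h2 : (2 : F) ≠ 0) (hd : 1 ≤ d) (K : Subalgebra F (Matrix (Fin d ⊕ Fin d) (Fin d ⊕ Fin d) F))
    (hK : Cfsg.Geo.IsFieldSubalgebra 2 K) (hac : Cfsg.Geo.IsAdjointClosedFor (Cfsg.sympForm d F) K)
    (hnsa : ¬ Cfsg.Geo.IsSelfAdjointFor (Cfsg.sympForm d F) K) :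
    ∃ (Θ : Matrix (Fin d ⊕ Fin d) (Fin d ⊕ Fin d) F) (ν : F), Θ ∈ K ∧ (∀ k, k ∈ K ↔ ∃ a b : F, k = a • 1 + b • Θ) ∧ (∀ t : F, t * t ≠ ν) ∧
      Θ * Θ = ν • 1 ∧ Root (Symp.spB d F) ν (Matrix.toLin' Θ) ∧ ∀ v, v ≠ 0 → ∀ c : F, Θ *ᵥ v ≠ c • v := by
  obtain ⟨T, t, N₀, hT, hmem, hsq₀, -, hfree₀⟩ := exists_quad_gen K hK
  set B := Symp.spB d F
  have hB : B.Nondegenerate := Symp.spB_nondegenerate d F
  have hA : B.IsAlt := Symp.spB_isAlt d F
  set T₀ := T - (t / 2) • 1 with hT₀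
  set N := N₀ - t / 2 * (t / 2) with hNdef
  have hT₀K : T₀ ∈ K := K.sub_mem hT (K.smul_mem K.one_mem _)
  have hsq : T₀ * T₀ = -(N • 1) := by
    simp only [hT₀, sub_mul, mul_sub, Matrix.smul_mul, Matrix.mul_smul, one_mul, mul_one, hsq₀]
    match_scalars <;> (try simp only [hNdef]) <;> field_simp <;> ring
  have hfree : ∀ v, v ≠ 0 → ∀ c : F, T₀ *ᵥ v ≠ c • v := fun v hv c e => hfree₀ v hv (c + t / 2) (by
    rw [hT₀, Matrix.sub_mulVec, Matrix.smul_mulVec, Matrix.one_mulVec, sub_eq_iff_eq_add] at e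
    rw [e, add_smul])
  have hmem₀ : ∀ k, k ∈ K ↔ ∃ a b : F, k = a • 1 + b • T₀ := fun k => by
    rw [hmem]
    constructor
    · rintro ⟨a, b, rfl⟩
      exact ⟨a + b * (t / 2), b, by rw [hT₀]; module⟩
    · rintro ⟨a, b, rfl⟩
      exact ⟨a - b * (t / 2), b, by rw [hT₀]; module⟩
  set θ := Matrix.toLin' T₀
  have hθθ : ∀ v, θ (θ v) = -(N • v) := fun v => by
    simp only [θ, Matrix.toLin'_apply, Matrix.mulVec_mulVec, hsq, Matrix.neg_mulVec, Matrix.smul_mulVec,
      Matrix.one_mulVec]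
  obtain ⟨i0⟩ : Nonempty (Fin d ⊕ Fin d) := ⟨Sum.inl ⟨0, by omega⟩⟩
  set e0 : (Fin d ⊕ Fin d) → F := Pi.single i0 1
  have he0 : e0 ≠ 0 := by simp [e0]
  have hN : ∀ s : F, s * s ≠ -N := fun s hs => by
    by_cases h : θ e0 + s • e0 = 0
    · exact hfree e0 he0 (-s) (by rw [neg_smul]; exact eq_neg_of_add_eq_zero_left h)
    · refine hfree _ h s ?_
      show θ (θ e0 + s • e0) = _
      rw [map_add, map_smul, hθθ, smul_add, smul_smul, hs, neg_smul, add_comm]
  obtain ⟨T', hT', hadj⟩ := hac T₀ hT₀K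
  obtain ⟨a', b', rfl⟩ := (hmem₀ T').mp hT'
  have hadj' : ∀ u v, B (θ u) v = a' * B u v + b' * B u (θ v) := fun u v => by
    have h := hadj u v
    rw [← Symp.spB_apply, ← Symp.spB_apply, Matrix.add_mulVec, Matrix.smul_mulVec,
      Matrix.smul_mulVec, Matrix.one_mulVec, map_add, map_smul, map_smul] at h
    exact h
  have hsw : ∀ u v, B v u = -B u v := fun u v => (LinearMap.IsAlt.neg hA u v).symm
  have key2 : ∀ u v, a' * (1 + b') * B u v + (b' * b' - 1) * B u (θ v) = 0 := fun u v => by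
    have h1 := hadj' u v
    have h2 := hadj' v u
    rw [hsw u (θ v), hsw u v, hsw (θ u) v] at h2
    linear_combination h2 - b' * h1
  have hzero : ∀ p q : F, (∀ u, p * B u e0 + q * B u (θ e0) = 0) → p = 0 ∧ q = 0 := by
    intro p q h
    have hz : p • e0 + q • θ e0 = 0 := hB.2 _ fun u => by
      rw [map_add, map_smul, map_smul]; exact h u
    by_cases hq : q = 0
    · rw [hq, zero_smul, add_zero, smul_eq_zero] at hz
      exact ⟨hz.resolve_right he0, hq⟩
    · exfalso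
      refine hfree e0 he0 (-(q⁻¹ * p)) ?_
      show θ e0 = _
      rw [neg_smul, ← smul_smul, ← smul_neg, neg_eq_of_add_eq_zero_right hz, smul_smul,
        inv_mul_cancel₀ hq, one_smul]
  obtain ⟨ha1, hb2⟩ := hzero _ _ fun u => key2 u e0
  have hb' : b' = -1 := by
    rcases mul_eq_zero.mp (show (b' + 1) * (b' - 1) = 0 by linear_combination hb2) with h | h
    · linear_combination h
    · exfalso
      have hb1 : b' = 1 := by linear_combination h
      have ha0 : a' = 0 := by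
        rw [hb1, show (1 : F) + 1 = 2 by norm_num] at ha1
        exact (mul_eq_zero.mp ha1).resolve_right h2
      refine hnsa fun k hk u v => ?_
      obtain ⟨p, q, rfl⟩ := (hmem₀ k).mp hk
      have h1 := hadj' u v
      rw [ha0, hb1, zero_mul, zero_add, one_mul] at h1
      rw [← Symp.spB_apply, ← Symp.spB_apply]
      simp only [Matrix.add_mulVec, Matrix.smul_mulVec, Matrix.one_mulVec, map_add, map_smul,
        LinearMap.add_apply, LinearMap.smul_apply]
      show _ + q • B (θ u) v = _ + q • B u (θ v)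
      rw [h1]
  subst hb'
  have ha' : a' = 0 := by
    by_contra hne
    have key3 : ∀ u, a' * a' * B u e0 + (-2 * a') * B u (θ e0) = 0 := fun u => by
      have h1 := hadj' (θ u) e0
      have h2 := hadj' u (θ e0)
      rw [hθθ] at h2
      rw [hθθ, h2, hadj' u e0] at h1
      simp only [map_neg, map_smul, LinearMap.neg_apply, LinearMap.smul_apply, smul_eq_mul] at h1
      linear_combination -h1
    exact hne (mul_self_eq_zero.mp (hzero _ _ key3).1)
  refine ⟨T₀, -N, hT₀K, hmem₀, hN, by rw [hsq, neg_smul], ⟨fun v => by rw [hθθ, neg_smul], fun u v => ?_⟩, hfree⟩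
  rw [hadj', ha']; ring

theorem mem_sp {g : GL (Fin d ⊕ Fin d) F} :
    g ∈ Cfsg.spGL d F ↔ ∀ u v, Symp.spB d F (g.val *ᵥ u) (g.val *ᵥ v) = Symp.spB d F u v := by
  simp only [Symp.spB_apply]
  exact Iff.rfl

variable {K : Subalgebra F (Matrix (Fin d ⊕ Fin d) (Fin d ⊕ Fin d) F)} {Θ : Matrix (Fin d ⊕ Fin d) (Fin d ⊕ Fin d) F} {ν : F}

theorem norm_of_comm (hmem : ∀ k, k ∈ K ↔ ∃ a b : F, k = a • 1 + b • Θ) (y : GL (Fin d ⊕ Fin d) F) {ε : F} (hε : ε ≠ 0)
    (h : y.val * Θ = ε • (Θ * y.val)) : y ∈ Cfsg.Geo.subalgebraNormalizer K := by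
  have h1 : y.val * Θ * ((y⁻¹ : GL (Fin d ⊕ Fin d) F) : Matrix (Fin d ⊕ Fin d) (Fin d ⊕ Fin d) F) = ε • Θ := by
    rw [h, smul_mul_assoc, mul_assoc, Units.mul_inv, mul_one]
  have h3 : ∀ a b : F, y.val * (a • 1 + b • Θ) * ((y⁻¹ : GL (Fin d ⊕ Fin d) F) : Matrix (Fin d ⊕ Fin d) (Fin d ⊕ Fin d) F) = a • 1 + (b * ε) • Θ := fun a b => by
    rw [mul_add, add_mul, mul_smul_comm, mul_smul_comm, smul_mul_assoc, smul_mul_assoc, h1, mul_one, Units.mul_inv,
      smul_smul]
  intro k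
  constructor
  · intro hk
    obtain ⟨a, b, rfl⟩ := (hmem k).1 hk
    rw [h3]
    exact (hmem _).2 ⟨a, b * ε, rfl⟩
  · intro hk
    obtain ⟨a, b, hab⟩ := (hmem _).1 hk
    have h4 := h3 a (b * ε⁻¹)
    rw [mul_assoc b, inv_mul_cancel₀ hε, mul_one, ← hab] at h4
    have h5 := congrArg (fun A => ((y⁻¹ : GL (Fin d ⊕ Fin d) F) : Matrix (Fin d ⊕ Fin d) (Fin d ⊕ Fin d) F) * A * y.val) h4
    simp only [← mul_assoc, Units.inv_mul, one_mul] at h5
    simp only [mul_assoc, Units.inv_mul, mul_one] at h5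
    rw [← h5]
    exact (hmem _).2 ⟨a, b * ε⁻¹, rfl⟩

theorem comm_of_norm (h2 : (2 : F) ≠ 0) (hmem : ∀ k, k ∈ K ↔ ∃ a b : F, k = a • 1 + b • Θ)
    (hν : ∀ t : F, t * t ≠ ν) (hsq : Θ * Θ = ν • 1) (hfree : ∀ v, v ≠ 0 → ∀ c : F, Θ *ᵥ v ≠ c • v) (hd : 1 ≤ d)
    {y : GL (Fin d ⊕ Fin d) F} (hy : y ∈ Cfsg.Geo.subalgebraNormalizer K) {r : ℕ} (hr : Odd r) (hyr : y ^ r = 1) :
    y.val * Θ = Θ * y.val := by
  obtain ⟨a, b, hab⟩ := (hmem _).1 ((hy Θ).1 ((hmem Θ).2 ⟨0, 1, by simp⟩))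
  have hsq' : (a • 1 + b • Θ) * (a • 1 + b • Θ) = ν • (1 : Matrix (Fin d ⊕ Fin d) (Fin d ⊕ Fin d) F) := by
    rw [← hab]
    calc _ = y.val * (Θ * (((y⁻¹ : GL (Fin d ⊕ Fin d) F) : Matrix (Fin d ⊕ Fin d) (Fin d ⊕ Fin d) F) * y.val) * Θ) * ((y⁻¹ : GL (Fin d ⊕ Fin d) F) : Matrix (Fin d ⊕ Fin d) (Fin d ⊕ Fin d) F) := by
          simp only [mul_assoc]
      _ = _ := by rw [Units.inv_mul, mul_one, hsq, mul_smul_comm, mul_one, smul_mul_assoc, Units.mul_inv]
  set e0 : (Fin d ⊕ Fin d) → F := Pi.single (Sum.inl ⟨0, by omega⟩) 1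
  have he0 : e0 ≠ 0 := by simp [e0]
  have hindep : ∀ p q : F, p • (1 : Matrix (Fin d ⊕ Fin d) (Fin d ⊕ Fin d) F) + q • Θ = 0 → p = 0 ∧ q = 0 := fun p q h => by
    have h1 := congrArg (· *ᵥ e0) h
    simp only [Matrix.add_mulVec, Matrix.smul_mulVec, Matrix.one_mulVec, Matrix.zero_mulVec] at h1
    by_cases hq : q = 0
    · rw [hq, zero_smul, add_zero, smul_eq_zero] at h1
      exact ⟨h1.resolve_right he0, hq⟩
    · refine absurd ?_ (hfree e0 he0 (-(q⁻¹ * p)))
      rw [neg_smul, ← smul_smul, ← smul_neg, neg_eq_of_add_eq_zero_right h1, smul_smul,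
        inv_mul_cancel₀ hq, one_smul]
  obtain ⟨h1, h3⟩ := hindep (a * a + b * b * ν - ν) (2 * (a * b)) (by
    rw [← sub_eq_zero] at hsq'
    rw [← hsq']
    simp only [mul_add, add_mul, smul_mul_assoc, mul_smul_comm, one_mul, mul_one, hsq]
    module)
  rcases mul_eq_zero.1 ((mul_eq_zero.1 h3).resolve_left h2) with rfl | rfl
  swap
  · exact absurd (by linear_combination h1) (hν a)
  have hb : b * b = 1 := by
    have hν0 : ν ≠ 0 := fun h => hν 0 (by rw [h, mul_zero])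
    exact mul_right_cancel₀ hν0 (by linear_combination h1)
  rw [zero_smul, zero_add] at hab
  have hpow : ∀ n : ℕ, (y ^ n).val * Θ * ((y ^ n)⁻¹ : GL (Fin d ⊕ Fin d) F).val = (b ^ n) • Θ := fun n => by
    induction n with
    | zero => simp
    | succ n ih =>
      rw [pow_succ', mul_inv_rev, Units.val_mul, Units.val_mul]
      calc _ = y.val * ((y ^ n).val * Θ * ((y ^ n)⁻¹ : GL (Fin d ⊕ Fin d) F).val) * (y⁻¹ : GL (Fin d ⊕ Fin d) F).val := by simp only [mul_assoc]
        _ = _ := by rw [ih, mul_smul_comm, smul_mul_assoc, hab, smul_smul, pow_succ]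
  have h4 := hpow r
  rw [hyr, Units.val_one, one_mul, inv_one, Units.val_one, mul_one] at h4
  have h5 : b ^ r = 1 := by
    have h6 := hindep 0 (b ^ r - 1) (by rw [zero_smul, zero_add, sub_smul, one_smul, ← h4, sub_self])
    exact sub_eq_zero.1 h6.2
  obtain ⟨k, rfl⟩ := hr
  rw [pow_succ, pow_mul, pow_two, hb, one_pow, one_mul] at h5
  rw [h5, one_smul] at hab
  calc y.val * Θ = y.val * Θ * (((y⁻¹ : GL (Fin d ⊕ Fin d) F) : Matrix (Fin d ⊕ Fin d) (Fin d ⊕ Fin d) F) * y.val) := by rw [Units.inv_mul, mul_one]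
    _ = _ := by rw [← mul_assoc, hab]

/-- Involutions normalise a conjugate. -/
theorem fixes_two [Finite F] (h2 : (2 : F) ≠ 0) (hd : 1 ≤ d) (hmem : ∀ k, k ∈ K ↔ ∃ a b : F, k = a • 1 + b • Θ)
    (hν : ∀ t : F, t * t ≠ ν) (R : Root (Symp.spB d F) ν (Matrix.toLin' Θ)) {x : GL (Fin d ⊕ Fin d) F} (hx : x ∈ Cfsg.spGL d F)
    {z : F} (hxz : ((x ^ 2 : GL (Fin d ⊕ Fin d) F) : Matrix (Fin d ⊕ Fin d) (Fin d ⊕ Fin d) F) = z • 1) :
    ∃ g ∈ Cfsg.spGL d F, g⁻¹ * x * g ∈ Cfsg.Geo.subalgebraNormalizer K := by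
  let X₀ : Matrix.symplecticGroup (Fin d) F := ⟨x.val, (Symp.mem_symplecticGroup_iff _).2 (mem_sp.1 hx)⟩
  rw [Units.val_pow_eq_pow_val] at hxz
  obtain ⟨hz2, hz, -, -⟩ := Cfsg.Agent.S5956.scalar_power hd X₀ (r := 2) (z := z) (by rw [SubmonoidClass.coe_pow]; exact hxz)
  have hA := Symp.spB_isAlt d F
  have hB := Symp.spB_nondegenerate d F
  obtain ⟨J, ε, RJ, hJ⟩ := exists_root_invol (ν := ν) h2 (Symp.spB d F) (Matrix.toLin' x.val) hA hB
    (fun u v => by simpa using mem_sp.1 hx u v) hz (fun v => by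
      rw [Matrix.toLin'_apply, Matrix.toLin'_apply, Matrix.mulVec_mulVec, ← pow_two, hxz, Matrix.smul_mulVec,
        Matrix.one_mulVec])
  obtain ⟨G, hG, hGJ⟩ := root_conj h2 hν _ _ hA hB R _ J hA hB RJ (k := d) (by simp; omega) (by simp; omega)
  let g : GL (Fin d ⊕ Fin d) F := (Symp.glEquiv (Fin d ⊕ Fin d) F).symm G
  have hg : ∀ v, g.val *ᵥ v = G v := fun v => by
    rw [← Symp.glEquiv_apply]
    exact LinearEquiv.congr_fun ((Symp.glEquiv (Fin d ⊕ Fin d) F).apply_symm_apply G) v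
  have hgi : ∀ v, g.val *ᵥ ((g⁻¹ : GL (Fin d ⊕ Fin d) F).val *ᵥ v) = v := fun v => by
    rw [Matrix.mulVec_mulVec, Units.mul_inv, Matrix.one_mulVec]
  have hε : ε ≠ 0 := fun h => by
    let e0 : (Fin d ⊕ Fin d) → F := Pi.single (Sum.inl ⟨0, by omega⟩) 1
    have he0 : e0 ≠ 0 := by simp [e0]
    have hν0 : ν ≠ 0 := fun h => hν 0 (by rw [h, mul_zero])
    have h1 := hJ (J e0)
    rw [RJ.sq, h, zero_smul, Matrix.toLin'_apply, Matrix.mulVec_smul, smul_eq_zero] at h1
    refine he0 ?_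
    have h3 := congrArg ((x⁻¹ : GL (Fin d ⊕ Fin d) F).val *ᵥ ·) (h1.resolve_left hν0)
    simpa [Matrix.mulVec_mulVec] using h3
  refine ⟨g, mem_sp.2 fun u v => by rw [hg, hg, hG], norm_of_comm hmem _ hε ?_⟩
  refine Matrix.ext_iff_mulVec.2 fun v => ?_
  simp only [Units.val_mul, Matrix.smul_mulVec, ← Matrix.mulVec_mulVec]
  refine G.injective ?_
  have e : ∀ w, G (Θ *ᵥ w) = J (G w) := fun w => by rw [← hGJ]; rfl
  rw [map_smul, e, ← hg ((g⁻¹ : GL (Fin d ⊕ Fin d) F).val *ᵥ _), hgi, ← hg ((g⁻¹ : GL (Fin d ⊕ Fin d) F).val *ᵥ _), hgi, hg, hg, e]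
  exact hJ (G v)

/-- Transvections normalise no conjugate. -/
theorem transvection_bad (h2 : (2 : F) ≠ 0) {p : ℕ} [Fact p.Prime] [CharP F p] (hp : Odd p) (hd : 1 ≤ d)
    (hmem : ∀ k, k ∈ K ↔ ∃ a b : F, k = a • 1 + b • Θ)
    (hν : ∀ t : F, t * t ≠ ν) (hsq : Θ * Θ = ν • 1) (hfree : ∀ v, v ≠ 0 → ∀ c : F, Θ *ᵥ v ≠ c • v) :
    ∃ x ∈ Cfsg.spGL d F, (∃ z : F, ((x ^ p : GL (Fin d ⊕ Fin d) F) : Matrix (Fin d ⊕ Fin d) (Fin d ⊕ Fin d) F) = z • 1) ∧ (∀ z : F, x.val ≠ z • 1) ∧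
      ∀ g : GL (Fin d ⊕ Fin d) F, g⁻¹ * x * g ∉ Cfsg.Geo.subalgebraNormalizer K := by
  classical
  set B := Symp.spB d F
  let e : (Fin d ⊕ Fin d) → F := Pi.single (Sum.inl ⟨0, by omega⟩) 1
  have he : e ≠ 0 := by simp [e]
  obtain ⟨f, hf⟩ : ∃ f, B f e ≠ 0 := by
    by_contra h
    push Not at h
    exact he ((Symp.spB_nondegenerate d F).2 e h)
  set X := Cfsg.sympTransvection d e (1 : F)
  have hX : X ∈ Matrix.symplecticGroup (Fin d) F := Symp.sympTransvection_mem _ _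
  have hact : ∀ v, X *ᵥ v = v + B v e • e := fun v => by rw [Symp.sympTransvection_mulVec, one_mul]
  haveI : Nonempty (Fin d ⊕ Fin d) := ⟨Sum.inl ⟨0, by omega⟩⟩
  haveI : CharP (Matrix (Fin d ⊕ Fin d) (Fin d ⊕ Fin d) F) p := inferInstance
  have hNN : (X - 1) * (X - 1) = 0 := Matrix.ext_iff_mulVec.2 fun v => by
    rw [← Matrix.mulVec_mulVec]
    simp [Matrix.sub_mulVec, hact, (Symp.spB_isAlt d F).self_eq_zero e, B]
  have hXp : X ^ p = 1 := by
    have h1 : (X - 1) ^ p = 0 := by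
      obtain ⟨k, hk⟩ : ∃ k, p = 2 + k := ⟨p - 2, by have := (Fact.out : p.Prime).two_le; omega⟩
      rw [hk, pow_add, pow_two, hNN, zero_mul]
    rw [sub_pow_char_of_commute (R := Matrix (Fin d ⊕ Fin d) (Fin d ⊕ Fin d) F) p (Commute.one_right _), one_pow, sub_eq_zero] at h1
    exact h1
  let x : GL (Fin d ⊕ Fin d) F := Units.ofPowEqOne X p hXp (Fact.out : p.Prime).ne_zero
  have hxp : x ^ p = 1 := Units.pow_ofPowEqOne _ _
  refine ⟨x, mem_sp.2 ((Symp.mem_symplecticGroup_iff _).1 hX), ⟨1, by rw [hxp, Units.val_one, one_smul]⟩,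
    fun z hz => ?_, fun g hg => ?_⟩
  · change X = z • 1 at hz
    have h1 := hact e
    rw [hz, (Symp.spB_isAlt d F).self_eq_zero, zero_smul, add_zero, Matrix.smul_mulVec, Matrix.one_mulVec] at h1
    have hz1 : z = 1 := by
      have h' : (z - 1) • e = 0 := by rw [sub_smul, one_smul, h1, sub_self]
      exact sub_eq_zero.1 ((smul_eq_zero.1 h').resolve_right he)
    have h3 := hact f
    rw [hz, hz1, one_smul, Matrix.one_mulVec, left_eq_add, smul_eq_zero] at h3
    exact h3.elim hf he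
  · have hc := comm_of_norm h2 hmem hν hsq hfree hd hg hp (by
      rw [show g⁻¹ * x * g = g⁻¹ * x * (g⁻¹)⁻¹ by rw [inv_inv], conj_pow, hxp, mul_one, mul_inv_cancel])
    set w := (g⁻¹ : GL (Fin d ⊕ Fin d) F).val *ᵥ e
    have hw : w ≠ 0 := fun h => he (by
      have h1 := congrArg (g.val *ᵥ ·) h
      simpa [w, Matrix.mulVec_mulVec] using h1)
    have hy : ∀ v, (g⁻¹ * x * g : GL (Fin d ⊕ Fin d) F).val *ᵥ v = v + B (g.val *ᵥ v) e • w := fun v => by
      rw [Units.val_mul, Units.val_mul, ← Matrix.mulVec_mulVec, ← Matrix.mulVec_mulVec]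
      show (g⁻¹ : GL (Fin d ⊕ Fin d) F).val *ᵥ (X *ᵥ _) = _
      rw [hact, Matrix.mulVec_add, Matrix.mulVec_smul, Matrix.mulVec_mulVec, Units.inv_mul, Matrix.one_mulVec]
    have h1 := congrArg (· *ᵥ ((g⁻¹ : GL (Fin d ⊕ Fin d) F).val *ᵥ f)) hc
    have hgi : g.val *ᵥ ((g⁻¹ : GL (Fin d ⊕ Fin d) F).val *ᵥ f) = f := by
      rw [Matrix.mulVec_mulVec, Units.mul_inv, Matrix.one_mulVec]
    rw [← Matrix.mulVec_mulVec, ← Matrix.mulVec_mulVec, hy, hy, Matrix.mulVec_add, Matrix.mulVec_smul, hgi] at h1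
    refine hfree w hw ((B f e)⁻¹ * B (g.val *ᵥ (Θ *ᵥ ((g⁻¹ : GL (Fin d ⊕ Fin d) F).val *ᵥ f))) e) ?_
    rw [← smul_smul, add_left_cancel h1, smul_smul, inv_mul_cancel₀ hf, one_smul]

/-- Semisimple elements with a simple eigenvalue. -/
theorem semi_bad [Fintype F] (h2 : (2 : F) ≠ 0) (p : ℕ) [Fact p.Prime] [CharP F p] (hd : 1 ≤ d)
    (hmem : ∀ k, k ∈ K ↔ ∃ a b : F, k = a • 1 + b • Θ)
    (hν : ∀ t : F, t * t ≠ ν) (hsq : Θ * Θ = ν • 1) (R : Root (Symp.spB d F) ν (Matrix.toLin' Θ))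
    (hfree : ∀ v, v ≠ 0 → ∀ c : F, Θ *ᵥ v ≠ c • v) {r : ℕ} [Fact r.Prime] (hr2 : r ≠ 2) (hrp : r ≠ p) {i c : ℕ}
    (hi : i = orderOf (Fintype.card F : ZMod r)) (hc : c = if Even i then i else 2 * i) (hicase : Odd i ∨ i % 4 = 0)
    (hcd : c ≤ 2 * d) :
    ∃ x ∈ Cfsg.spGL d F, (∃ z : F, ((x ^ r : GL (Fin d ⊕ Fin d) F) : Matrix (Fin d ⊕ Fin d) (Fin d ⊕ Fin d) F) = z • 1) ∧ (∀ z : F, x.val ≠ z • 1) ∧
      ∀ g ∈ Cfsg.spGL d F, g⁻¹ * x * g ∉ Cfsg.Geo.subalgebraNormalizer K := by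
  classical
  obtain ⟨hr⟩ := (inferInstance : Fact r.Prime)
  let L := AlgebraicClosure F
  haveI : CharP L p := charP_of_injective_algebraMap (algebraMap F L).injective p
  have hrL : (r : L) ≠ 0 := fun h =>
    hrp ((Nat.prime_dvd_prime_iff_eq Fact.out hr).mp ((CharP.cast_eq_zero_iff L p r).mp h)).symm
  have hrF : (r : F) ≠ 0 := fun h => hrL (by rw [← map_natCast (algebraMap F L), h, map_zero])
  haveI : NeZero (r : L) := ⟨hrL⟩
  obtain ⟨ζ, hζ⟩ := HasEnoughRootsOfUnity.exists_primitiveRoot L r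
  have hrq : ¬ r ∣ Fintype.card F := fun h => by
    obtain ⟨k, -, hk⟩ := FiniteField.card F p
    rw [hk] at h
    exact hrp ((Nat.prime_dvd_prime_iff_eq hr Fact.out).mp (hr.dvd_of_dvd_pow h))
  let uq : (ZMod r)ˣ := Units.mk0 _ (fun h => hrq ((ZMod.natCast_eq_zero_iff _ _).1 h) : (Fintype.card F : ZMod r) ≠ 0)
  have huq : (uq : ZMod r) = (Fintype.card F : ZMod r) := rfl
  have hiu : orderOf uq = i := by rw [hi, ← orderOf_units, huq]
  obtain ⟨w, -, hwq, hwn, hwo⟩ := exists_gen hr2 uq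
  rw [hiu] at hwo
  have hwc : orderOf w = c := by
    rw [hwo, hc]
    by_cases he : Even i
    · rw [if_pos he, if_neg (Nat.not_odd_iff_even.mpr he)]
    · rw [if_neg he, if_pos (Nat.not_even_iff_odd.mp he)]
  have hc0 : 0 < c := hwc ▸ orderOf_pos w
  have hce : Even c := by
    rw [hc]
    split_ifs with he
    · exact he
    · exact even_two_mul i
  -- one moved orbit
  obtain ⟨my, hmy, hmy0, hmy1⟩ := Cfsg.Agent.S5955.exists_inv_fixed w (2 * d - c) 1
  rw [one_mul, hwc, Nat.sub_add_cancel hcd, two_mul] at hmy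
  obtain ⟨j, hj⟩ : ∃ j, my j = 1 := by
    by_contra h
    push Not at h
    have h1 := hmy.1
    rw [Finset.sum_eq_single (0 : ZMod r) (fun x _ hx => (hmy1 x hx).resolve_right (h x)) (by simp), hmy0] at h1
    omega
  obtain ⟨P, hP, -, hPm⟩ := Cfsg.Agent.S5961.altReal_any (F := F) hζ huq hr2 w hwq hwn hmy (by
    rw [hmy0, Nat.even_iff]; rw [Nat.even_iff] at hce; omega)
  obtain ⟨X, hX, hXp⟩ := exists_sp_of_altReal (m := d) hP (by
    rw [← natDegree_map (algebraMap F L), hPm, Pm_natDegree, hmy.1])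
  rw [← hXp] at hPm
  have hXr : (X : Matrix (Fin d ⊕ Fin d) (Fin d ⊕ Fin d) F) ^ r = 1 := by rw [← SubmonoidClass.coe_pow, hX]; rfl
  let x : GL (Fin d ⊕ Fin d) F := Units.ofPowEqOne _ r hXr hr.ne_zero
  have hxr : x ^ r = 1 := Units.pow_ofPowEqOne _ _
  have hxs : x ∈ Cfsg.spGL d F := mem_sp.2 ((Symp.mem_symplecticGroup_iff _).1 X.2)
  refine ⟨x, hxs, ⟨1, by rw [hxr, Units.val_one, one_smul]⟩, fun z hz => ?_, fun g hg hgx => ?_⟩
  · change (X : Matrix (Fin d ⊕ Fin d) (Fin d ⊕ Fin d) F) = z • 1 at hz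
    obtain ⟨hz2, -, -, -⟩ := Cfsg.Agent.S5956.scalar_power hd X (r := 1) (z := z) (by rw [pow_one]; exact hz)
    have h1 := hXr
    rw [hz, _root_.smul_pow, one_pow] at h1
    have h1' : z ^ r = 1 := by
      have h3 := congrFun (congrFun h1 (Sum.inl ⟨0, by omega⟩)) (Sum.inl ⟨0, by omega⟩)
      simpa using h3
    obtain ⟨e, he⟩ := hr.odd_of_ne_two hr2
    rw [he, pow_succ, pow_mul, pow_two, hz2, one_pow, one_mul] at h1'
    have h4 := hPm
    rw [hz, h1', one_smul, Matrix.charpoly_one, Polynomial.map_pow, Polynomial.map_sub, map_X, Polynomial.map_one,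
      ← Pm_single (r := r) ζ] at h4
    have h5 := congrFun (Pm_inj hζ h4) 0
    rw [hmy0, Pi.single_eq_same, Fintype.card_sum, Fintype.card_fin] at h5
    omega
  · set y := g⁻¹ * x * g
    have hyr : y ^ r = 1 := by
      rw [show y = g⁻¹ * x * (g⁻¹)⁻¹ by rw [inv_inv], conj_pow, hxr, mul_one, mul_inv_cancel]
    have hcomm := comm_of_norm h2 hmem hν hsq hfree hd hgx (hr.odd_of_ne_two hr2) hyr
    have hys : y ∈ Cfsg.spGL d F := mul_mem (mul_mem (inv_mem hg) hxs) hg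
    let Y : Matrix.symplecticGroup (Fin d) F := ⟨y.val, (Symp.mem_symplecticGroup_iff _).2 (mem_sp.1 hys)⟩
    refine no_skew_root p h2 hζ hrL hr2 hi hicase Y (Subtype.ext ?_) (m := my) ?_ hj Θ hν hsq ?_ hcomm
    · rw [SubmonoidClass.coe_pow]
      show y.val ^ r = 1
      rw [← Units.val_pow_eq_pow_val, hyr, Units.val_one]
    · show y.val.charpoly.map _ = _
      rw [← hPm]
      congr 1
      show ((g⁻¹ : GL (Fin d ⊕ Fin d) F).val * x.val * g.val).charpoly = _
      rw [Matrix.coe_units_inv, Matrix.charpoly_units_conj']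
      rfl
    · refine Matrix.ext_iff_mulVec.2 fun v => dotProduct_eq _ _ fun u => ?_
      have h := R.skew u v
      rw [Symp.spB_apply, Symp.spB_apply, Matrix.toLin'_apply, Matrix.toLin'_apply] at h
      simp only [Cfsg.sympForm] at h
      rw [dotProduct_comm, dotProduct_comm _ u, Matrix.neg_mulVec, dotProduct_neg, ← Matrix.mulVec_mulVec,
        ← Matrix.mulVec_mulVec, Matrix.dotProduct_mulVec, Matrix.vecMul_transpose]
      exact h

/-- The index is prime to `r`. -/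
theorem index_free [Fintype F] (h2 : (2 : F) ≠ 0) (p : ℕ) [Fact p.Prime] [CharP F p] (hd : 1 ≤ d)
    (hmem : ∀ k, k ∈ K ↔ ∃ a b : F, k = a • 1 + b • Θ)
    (hν : ∀ t : F, t * t ≠ ν) (R : Root (Symp.spB d F) ν (Matrix.toLin' Θ))
    {r : ℕ} [Fact r.Prime] (hr2 : r ≠ 2) (hrp : r ≠ p) {i c : ℕ}
    (hi : i = orderOf (Fintype.card F : ZMod r)) (hc : c = if Even i then i else 2 * i) (hicase : i % 4 = 2 ∨ 2 * d < c) :
    ¬ r ∣ (Cfsg.Geo.subalgebraNormalizer K).relIndex (Cfsg.spGL d F) := by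
  classical
  set q := Fintype.card F with hq
  -- the quadratic extension
  have hdeg : ((Polynomial.X : F[X]) ^ 2 - Polynomial.C ν).natDegree = 2 := Polynomial.natDegree_X_pow_sub_C
  have hirr : Irreducible ((Polynomial.X : F[X]) ^ 2 - Polynomial.C ν) := by
    rw [Polynomial.irreducible_iff_roots_eq_zero_of_degree_le_three (by omega) (by omega)]
    refine Multiset.eq_zero_of_forall_notMem fun t ht => hν t ?_
    have := (Polynomial.mem_roots'.1 ht).2
    simp only [Polynomial.IsRoot, eval_sub, eval_pow, eval_X, eval_C] at this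
    linear_combination this
  haveI := Fact.mk hirr
  let L := AdjoinRoot ((Polynomial.X : F[X]) ^ 2 - Polynomial.C ν)
  let pb := AdjoinRoot.powerBasis hirr.ne_zero
  have hfr : finrank F L = 2 := by rw [pb.finrank, AdjoinRoot.powerBasis_dim, hdeg]
  haveI : Module.Finite F L := pb.finite
  haveI : Finite L := Module.finite_of_finite F
  haveI : Fintype L := Fintype.ofFinite L
  have hL : Fintype.card L = q ^ 2 := by
    rw [← Nat.card_eq_fintype_card, Module.natCard_eq_pow_finrank (K := F), hfr, Nat.card_eq_fintype_card]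
  set φ := algebraMap F L
  set s : L := AdjoinRoot.root _
  have hs2 : s * s = φ ν := by
    have h : Polynomial.aeval s ((Polynomial.X : F[X]) ^ 2 - Polynomial.C ν) = 0 := by
      rw [Polynomial.aeval_def]; exact AdjoinRoot.eval₂_root _
    rw [map_sub, map_pow, Polynomial.aeval_X, Polynomial.aeval_C, sub_eq_zero] at h
    rw [← pow_two, h]
  have hν0 : ν ≠ 0 := fun h => hν 0 (by rw [h, mul_zero])
  have hfix : ∀ a : F, φ a ^ q = φ a := fun a => by rw [← map_pow, hq, FiniteField.pow_card]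
  have hcs : ringChar F ≠ 2 := fun h => h2 (by
    haveI := ringChar.charP F
    exact_mod_cast (CharP.cast_eq_zero_iff F (ringChar F) 2).2 (by rw [h]))
  have hodd := FiniteField.odd_card_of_char_ne_two hcs
  have hsq' : s ^ q = -s := by
    have hns : ν ^ (q / 2) = -1 := by
      refine (FiniteField.pow_dichotomy hcs hν0).resolve_left fun h => ?_
      obtain ⟨t, ht⟩ := (FiniteField.isSquare_iff hcs hν0).2 h
      exact hν t ht.symm
    have e : s ^ q = s ^ (2 * (q / 2) + 1) := by congr 1; omega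
    rw [e, pow_succ, pow_mul, show s ^ 2 = s * s from pow_two s, hs2, ← map_pow, hns, map_neg, map_one, neg_one_mul]
  haveI : CharP L p := charP_of_injective_algebraMap φ.injective p
  obtain ⟨f, -, hf⟩ := FiniteField.card F p
  let fr : L →+* L := iterateFrobenius L p f
  have hfrq : ∀ x : L, fr x = x ^ q := fun x => by rw [hq, hf]; exact iterateFrobenius_def p f x
  have hadd : ∀ x y : L, (x + y) ^ q = x ^ q + y ^ q := fun x y => by simp only [← hfrq, map_add]
  -- the first coordinate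
  have hdim : pb.dim = 2 := by rw [AdjoinRoot.powerBasis_dim, hdeg]
  let cL : L →ₗ[F] F := pb.basis.coord ⟨0, by omega⟩
  have hc1 : cL 1 = 1 := by
    have h := pb.basis_eq_pow ⟨0, by omega⟩
    simp only [pow_zero] at h
    rw [← h, Basis.coord_apply, Basis.repr_self, Finsupp.single_eq_same]
  have hcs' : cL s = 0 := by
    have h := pb.basis_eq_pow ⟨1, by omega⟩
    simp only [pow_one] at h
    rw [show s = pb.gen from (AdjoinRoot.powerBasis_gen _).symm, ← h, Basis.coord_apply, Basis.repr_self,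
      Finsupp.single_eq_of_ne (by simp [Fin.ext_iff])]
  have hsplit : ∀ x : L, ∃ a b : F, x = φ a + φ b * s := fun x => by
    refine ⟨pb.basis.repr x ⟨0, by omega⟩, pb.basis.repr x ⟨1, by omega⟩, ?_⟩
    conv_lhs => rw [← pb.basis.sum_repr x]
    rw [Fintype.sum_equiv (finCongr hdim) _ (fun t => pb.basis.repr x ((finCongr hdim).symm t) • pb.basis ((finCongr hdim).symm t))
      (fun t => by simp), Fin.sum_univ_two, pb.basis_eq_pow, pb.basis_eq_pow, Algebra.smul_def, Algebra.smul_def]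
    simp only [finCongr_symm, finCongr_apply, Fin.cast_zero]
    rw [show pb.gen = s from AdjoinRoot.powerBasis_gen _]
    simp [Fin.cast, φ]
    rfl
  have hcφ : ∀ a b : F, cL (φ a + φ b * s) = a := fun a b => by
    rw [map_add, ← Algebra.smul_def, show φ a = a • (1 : L) by rw [Algebra.smul_def, mul_one], map_smul, map_smul,
      hc1, hcs', smul_eq_mul, smul_eq_mul]
    ring
  -- the trace form
  have hsmulq : ∀ (a : F) (x : L), (a • x) ^ q = a • x ^ q := fun a x => by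
    rw [Algebra.smul_def, mul_pow, hfix, Algebra.smul_def]
  let hf' : (Fin d → L) → (Fin d → L) → L := Cfsg.hermForm d L q
  have hh : ∀ u v, hf' u v = ∑ k, u k * v k ^ q := fun u v => rfl
  let B' : LinearMap.BilinForm F (Fin d → L) := LinearMap.mk₂ F (fun u v => cL (s * hf' u v))
    (fun u u' v => by rw [← map_add, ← mul_add, hh, hh, hh, ← Finset.sum_add_distrib]; simp [add_mul])
    (fun a u v => by
      rw [← map_smul, ← mul_smul_comm, hh, hh, Finset.smul_sum]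
      simp [smul_mul_assoc])
    (fun u v v' => by
      rw [← map_add, ← mul_add, hh, hh, hh, ← Finset.sum_add_distrib]
      simp [hadd, mul_add])
    (fun a u v => by
      rw [← map_smul, ← mul_smul_comm, hh, hh, Finset.smul_sum]
      simp [hsmulq, mul_smul_comm])
  have hB' : ∀ u v, B' u v = cL (s * hf' u v) := fun u v => rfl
  let J' : End F (Fin d → L) := (LinearMap.lsmul L (Fin d → L) s).restrictScalars F
  have hJ' : ∀ u, J' u = s • u := fun u => rfl
  have hl : ∀ u v, hf' (s • u) v = s * hf' u v := fun u v => by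
    rw [hh, hh, Finset.mul_sum]; simp [mul_assoc]
  have hr' : ∀ u v, hf' u (s • v) = -(s * hf' u v) := fun u v => by
    rw [hh, hh, Finset.mul_sum, ← Finset.sum_neg_distrib]
    refine Finset.sum_congr rfl fun k _ => ?_
    rw [Pi.smul_apply, smul_eq_mul, mul_pow, hsq']
    ring
  have R' : Root B' ν J' := ⟨fun v => by rw [hJ', hJ', smul_smul, hs2, algebraMap_smul], fun u v => by
    rw [hB', hB', hJ', hJ', hl, hr', mul_neg, map_neg, neg_neg]⟩
  have hA' : B'.IsAlt := fun u => by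
    obtain ⟨a, b, hab⟩ := hsplit (hf' u u)
    have h1 : hf' u u ^ q = hf' u u := by
      rw [← hfrq, hh, map_sum]
      refine Finset.sum_congr rfl fun k _ => ?_
      rw [hfrq, mul_pow, ← pow_mul, ← pow_two, ← hL, FiniteField.pow_card, mul_comm]
    rw [hab, hadd, mul_pow, hfix, hfix, hsq', mul_neg] at h1
    have h2L : (2 : L) ≠ 0 := by rw [← map_ofNat φ 2]; exact (map_ne_zero φ).2 h2
    have h3 : φ b * s = 0 := (mul_eq_zero.1 (show 2 * (φ b * s) = 0 by linear_combination -h1)).resolve_left h2L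
    rw [hB', hab, h3, add_zero, mul_comm, show φ a * s = φ 0 + φ a * s by simp, hcφ]
  have hnd' : B'.Nondegenerate := by
    have h1 : ∀ u, (∀ v, B' u v = 0) → u = 0 := fun u hu => funext fun k => by
      have e1 : hf' u (Pi.single k 1) = u k := by
        have hq0 : q ≠ 0 := Fintype.card_ne_zero
        rw [hh, Finset.sum_eq_single k (fun t _ ht => by simp [ht, zero_pow hq0]) (by simp)]
        simp
      obtain ⟨a, b, hab⟩ := hsplit (u k)
      have h3 := hu (Pi.single k 1)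
      rw [hB', e1, hab, show s * (φ a + φ b * s) = φ (b * ν) + φ a * s by rw [map_mul, ← hs2]; ring, hcφ] at h3
      have h4 := hu (s • Pi.single k 1)
      rw [hB', hr', e1, hab, show s * -(s * (φ a + φ b * s)) = φ (-(ν * a)) + φ (-(ν * b)) * s by
        rw [map_neg, map_neg, map_mul, map_mul, ← hs2]; ring, hcφ] at h4
      show u k = (0 : L)
      rw [hab, (mul_eq_zero.1 (neg_eq_zero.1 h4)).resolve_left hν0, (mul_eq_zero.1 h3).resolve_right hν0, map_zero]
      simp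
    exact ⟨h1, fun u hu => h1 u fun v => hA'.isRefl _ _ (hu v)⟩
  have hV' : finrank F (Fin d → L) = 2 * d := by
    rw [Module.finrank_pi_fintype]
    simp [hfr, mul_comm]
  obtain ⟨G, hG, hGJ⟩ := root_conj h2 hν B' J' hA' hnd' R' (Symp.spB d F) (Matrix.toLin' Θ) (Symp.spB_isAlt d F)
    (Symp.spB_nondegenerate d F) R hV' (by simp; omega)
  -- the embedding
  let τ : Matrix (Fin d) (Fin d) L →* Matrix (Fin d ⊕ Fin d) (Fin d ⊕ Fin d) F :=
    { toFun := fun A => LinearMap.toMatrix' ((G : _ →ₗ[F] ((Fin d ⊕ Fin d) → F)) ∘ₗ (Matrix.toLin' A).restrictScalars F ∘ₗ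
        (G.symm : ((Fin d ⊕ Fin d) → F) →ₗ[F] _))
      map_one' := Matrix.ext_iff_mulVec.2 fun v => by rw [LinearMap.toMatrix'_mulVec]; simp
      map_mul' := fun A A' => Matrix.ext_iff_mulVec.2 fun v => by
        rw [← Matrix.mulVec_mulVec, LinearMap.toMatrix'_mulVec, LinearMap.toMatrix'_mulVec, LinearMap.toMatrix'_mulVec]
        simp [Matrix.mulVec_mulVec] }
  have hτ : ∀ A v, τ A *ᵥ v = G (A *ᵥ G.symm v) := fun A v => by
    show LinearMap.toMatrix' _ *ᵥ v = _
    rw [LinearMap.toMatrix'_mulVec]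
    simp
  let ι : ↥(Cfsg.GU d L q) →* GL (Fin d ⊕ Fin d) F := (Units.map τ).comp (Cfsg.GU d L q).subtype
  have hι : ∀ A v, (ι A).val *ᵥ v = G ((A : GL (Fin d) L).val *ᵥ G.symm v) := fun A v => hτ _ v
  have hmemι : ∀ A, ι A ∈ Cfsg.Geo.subalgebraNormalizer K ⊓ Cfsg.spGL d F := fun A => by
    refine ⟨norm_of_comm hmem _ one_ne_zero ?_, mem_sp.2 fun u v => ?_⟩
    · rw [one_smul]
      refine Matrix.ext_iff_mulVec.2 fun v => ?_
      rw [← Matrix.mulVec_mulVec, ← Matrix.mulVec_mulVec, hι, hι]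
      have e : ∀ w, G.symm (Θ *ᵥ w) = J' (G.symm w) := fun w => G.injective (by
        rw [LinearEquiv.apply_symm_apply, hGJ, LinearEquiv.apply_symm_apply]; rfl)
      rw [e, hJ', Matrix.mulVec_smul, ← hJ', hGJ]
      rfl
    · rw [hι, hι, hG, hB', show hf' ((A : GL (Fin d) L).val *ᵥ G.symm u) ((A : GL (Fin d) L).val *ᵥ G.symm v) =
        hf' (G.symm u) (G.symm v) from A.2 _ _, ← hB', ← hG, LinearEquiv.apply_symm_apply, LinearEquiv.apply_symm_apply]
  have hinj : Function.Injective (ι.codRestrict _ hmemι) := fun A A' h => by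
    refine Subtype.ext (Units.ext (Matrix.ext_iff_mulVec.2 fun v => ?_))
    have h1 := congrArg (fun g : GL (Fin d ⊕ Fin d) F => g.val *ᵥ G v) (congrArg Subtype.val h)
    simp only [MonoidHom.codRestrict_apply, hι, LinearEquiv.symm_apply_apply] at h1
    exact G.injective h1
  obtain ⟨Y, hY⟩ := Subgroup.card_dvd_of_injective _ hinj
  rw [Cfsg.Lib.Linear.Herm.card_GU hL] at hY
  have hrel : Nat.card ↥(Cfsg.Geo.subalgebraNormalizer K ⊓ Cfsg.spGL d F) *
      (Cfsg.Geo.subalgebraNormalizer K).relIndex (Cfsg.spGL d F) = Nat.card ↥(Cfsg.spGL d F) := by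
    rw [← Subgroup.inf_relIndex_right, ← Subgroup.relIndex_bot_left, ← Subgroup.relIndex_bot_left]
    exact Subgroup.relIndex_mul_relIndex ⊥ _ _ bot_le inf_le_right
  have hsp : Nat.card ↥(Cfsg.spGL d F) = q ^ (d ^ 2) * ∏ t ∈ Finset.range d, (q ^ (2 * (t + 1)) - 1) := by
    rw [← Symp.card_iso (Symp.spB_nondegenerate d F) (Symp.spB_isAlt d F) Symp.finrank_space, Symp.spGL_eq_comap]
    set e := (Symp.glEquiv (Fin d ⊕ Fin d) F) with he
    rw [Nat.card_congr (Subgroup.equivMapOfInjective _ e.toMonoidHom e.injective).toEquiv,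
      Subgroup.map_comap_eq_self_of_surjective (f := e.toMonoidHom) e.surjective]
  have hfac : ∀ t : ℕ, q ^ (2 * (t + 1)) - 1 = (if Even t then q ^ (t + 1) + 1 else q ^ (t + 1) - 1) *
      (if Even t then q ^ (t + 1) - 1 else q ^ (t + 1) + 1) := fun t => by
    have h := Nat.sq_sub_sq (q ^ (t + 1)) 1
    rw [one_pow, ← pow_mul, mul_comm (t + 1) 2] at h
    rw [h]
    split_ifs <;> ring
  rw [hsp, Finset.prod_congr rfl fun t _ => hfac t, Finset.prod_mul_distrib, hY] at hrel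
  intro hdvd
  have hpos : 0 < ∏ t ∈ Finset.range d, (if Even t then q ^ (t + 1) + 1 else q ^ (t + 1) - 1) :=
    Finset.prod_pos fun t _ => by
      have : 1 < q ^ (t + 1) := Nat.one_lt_pow (by omega) Fintype.one_lt_card
      split_ifs <;> omega
  have hle : d * (d - 1) / 2 ≤ d ^ 2 := (Nat.div_le_self _ _).trans (by rw [pow_two]; exact Nat.mul_le_mul_left d (Nat.sub_le _ _))
  have h3 : Y * (Cfsg.Geo.subalgebraNormalizer K).relIndex (Cfsg.spGL d F) =
      q ^ (d ^ 2 - d * (d - 1) / 2) * ∏ t ∈ Finset.range d, (if Even t then q ^ (t + 1) - 1 else q ^ (t + 1) + 1) := by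
    refine Nat.eq_of_mul_eq_mul_left (Nat.mul_pos (pow_pos (show 0 < q from Fintype.card_pos) (d * (d - 1) / 2)) hpos) ?_
    rw [← mul_assoc, hrel]
    conv_lhs => rw [← Nat.add_sub_cancel' hle, pow_add]
    ring
  have h4 := hdvd.trans (Dvd.intro_left Y h3)
  rcases (Fact.out : r.Prime).dvd_mul.1 h4 with h | h
  · exact hrp ((Nat.prime_dvd_prime_iff_eq Fact.out Fact.out).mp ((Fact.out : r.Prime).dvd_of_dvd_pow
      (show r ∣ p ^ (f : ℕ) from hf ▸ (Fact.out : r.Prime).dvd_of_dvd_pow h)))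
  obtain ⟨t, ht, h5⟩ := (Prime.dvd_finsetProd_iff (Fact.out : r.Prime).prime _).1 h
  rw [Finset.mem_range] at ht
  split_ifs at h5 with he
  · have h6 := IsoFix.orderOf_dvd_of_sub hi h5
    have h7 : Odd i := Odd.of_dvd_nat he.add_one h6
    rw [hc, if_neg (Nat.not_even_iff_odd.2 h7)] at hicase
    have := Nat.le_of_dvd (by omega) h6
    rw [Nat.odd_iff] at h7
    omega
  · obtain ⟨hie, x, hx, hxo⟩ := IsoFix.orderOf_of_add hr2 hi h5
    rw [hc, if_pos hie] at hicase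
    have hx0 : 1 ≤ x := hxo.pos
    have h7 : i ≤ i * x := Nat.le_mul_of_pos_right i hx0
    rw [Nat.not_even_iff_odd, Nat.odd_iff] at he
    rw [Nat.odd_iff] at hxo
    rcases hicase with h4' | h4'
    · have h8 : (i * x) % 4 = 2 := by
        rw [Nat.mul_mod, h4']
        rcases (show x % 4 = 1 ∨ x % 4 = 3 by omega) with e | e <;> rw [e]
      omega
    · omega

/-- Elements of prime order of PSp_n(q), q odd, and the subgroups of type GU_{n/2}(q). Here `T = PSp_{2d}(F)` for a field `F` with `q` elements, `q` odd, `d ≥ 2`, realised through the matrices preserving the standard alternating form `f`; `K` is a subalgebra of the `2d × 2d` matrices that is a field of degree 2 over `F`, closed under taking adjoints for `f` but not consisting of self-adjoint elements (so `F^{2d}` becomes a `d`-dimensional space over `K ≅ F_{q²}` on which `f` is the trace of a multiple of a non-degenerate hermitian form); `H` is the subgroup of `T` normalizing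 `K` — the symplectic maps that are `K`-linear or `K`-semilinear, a subgroup of type GU_d(q) (maximality is not assumed). Ω is the set of cosets of `H` in `T`, so an element of `T` of prime order `r` (`x ∈ T` with `x^r` scalar, `x` not scalar) fixes a point of Ω exactly when some `T`-conjugate of `x` normalizes `K`. Let `r` be a prime dividing the index of `H`. Then every element of `T` of order `r` fixes a point of Ω if and only if `r = 2`. -/
theorem result {F : Type*} [Field F] [Fintype F] {p : ℕ} [Fact p.Prime] [CharP F p] {q : ℕ} (hq : Fintype.card F = q)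
    (hodd : Odd q) (d : ℕ) (hd : 2 ≤ d)
    (K : Subalgebra F (Matrix (Fin d ⊕ Fin d) (Fin d ⊕ Fin d) F)) (hK : Cfsg.Geo.IsFieldSubalgebra 2 K)
    (hKf : Cfsg.Geo.IsAdjointClosedFor (Cfsg.sympForm d F) K) (hKns : ¬ Cfsg.Geo.IsSelfAdjointFor (Cfsg.sympForm d F) K)
    (r : ℕ) [Fact r.Prime]
    (hΩ : r ∣ (Cfsg.Geo.subalgebraNormalizer K).relIndex (Cfsg.spGL d F)) :
    (∀ x ∈ Cfsg.spGL d F, (∃ z : F, ((x ^ r : GL (Fin d ⊕ Fin d) F) : Matrix (Fin d ⊕ Fin d) (Fin d ⊕ Fin d) F) = z • (1 : Matrix (Fin d ⊕ Fin d) (Fin d ⊕ Fin d) F)) →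
      (∀ z : F, (x : Matrix (Fin d ⊕ Fin d) (Fin d ⊕ Fin d) F) ≠ z • (1 : Matrix (Fin d ⊕ Fin d) (Fin d ⊕ Fin d) F)) →
      ∃ g ∈ Cfsg.spGL d F, g⁻¹ * x * g ∈ Cfsg.Geo.subalgebraNormalizer K) ↔ r = 2 := by
  classical
  subst hq
  have h2 : (2 : F) ≠ 0 := Orth.two_ne_zero_of_odd_card hodd
  obtain ⟨Θ, ν, -, hmem, hν, hsq, R, hfree⟩ := exists_theta h2 (by omega) K hK hKf hKns
  constructor
  · intro hall
    by_contra hr2
    by_cases hrp : r = p
    · subst hrp
      obtain ⟨x, hx, hz, hns, hbad⟩ := transvection_bad (d := d) h2 ((Fact.out : r.Prime).odd_of_ne_two hr2)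
        (by omega) hmem hν hsq hfree
      obtain ⟨g, -, hgx⟩ := hall x hx hz hns
      exact hbad g hgx
    set i := orderOf (Fintype.card F : ZMod r) with hi
    set c := if Even i then i else 2 * i with hc
    by_cases hfree' : i % 4 = 2 ∨ 2 * d < c
    · exact index_free h2 p (by omega) hmem hν R hr2 hrp hi hc hfree' hΩ
    · push Not at hfree'
      obtain ⟨x, hx, hz, hns, hbad⟩ := semi_bad h2 p (by omega) hmem hν hsq R hfree hr2 hrp hi hc
        (by rw [Nat.odd_iff]; omega) hfree'.2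
      obtain ⟨g, hg, hgx⟩ := hall x hx hz hns
      exact hbad g hg hgx
  · rintro rfl x hx ⟨z, hz⟩ -
    exact fixes_two h2 (by omega) hmem hν R hx hz

end Cfsg.Agent.S5976
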