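import Cfsg.Statements.S5975
import Cfsg.Agent.Lib.Linear.SkewField.SelfAdj
import Cfsg.Agent.Lib.Linear.SkewField.Frame
import Cfsg.Agent.Lib.Linear.OverfieldAlg
import Cfsg.Agent.Lib.Linear.OrthOdd
import Cfsg.Agent.Lib.Linear.IsotropicFix.OrthEven
import Cfsg.Agent.S5955
import Cfsg.Agent.S5956
import Cfsg.Agent.S5976
-- import your own Cfsg.Agent.* helpers here

set_option autoImplicit false
open scoped MatrixGroups
open Cfsg

namespace Cfsg.Agent.S5975

open Module Polynomial Cfsg.Lib.Linear Cfsg.Lib.Linear.SkewField Cfsg.Agent.Lib.Linear.PrimeClasses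
open Cfsg.Lib.Linear.SkewField.SelfAdj (Gen)
open Cfsg.Agent.S5976 (mem_sp)
open scoped Matrix

universe u

variable {F : Type u} [Field F] {d : ℕ} {k : ℕ}
  {K : Subalgebra F (Matrix (Fin d ⊕ Fin d) (Fin d ⊕ Fin d) F)} {Θ : Matrix (Fin d ⊕ Fin d) (Fin d ⊕ Fin d) F}
  {P : F[X]} {q : ℕ}

/-- Transvections normalise no conjugate. -/
theorem transvection_bad {p : ℕ} [Fact p.Prime] [CharP F p] (hd : 2 ≤ d) (hK : Cfsg.Geo.IsFieldSubalgebra k K)
    (G : Gen K q k Θ P) :
    ∃ x ∈ Cfsg.spGL d F, (∃ z : F, ((x ^ p : GL (Fin d ⊕ Fin d) F) : Matrix (Fin d ⊕ Fin d) (Fin d ⊕ Fin d) F) = z • 1) ∧ (∀ z : F, x.val ≠ z • 1) ∧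
      ∀ g : GL (Fin d ⊕ Fin d) F, g⁻¹ * x * g ∉ Cfsg.Geo.subalgebraNormalizer K := by
  classical
  set B := Symp.spB d F
  let e : (Fin d ⊕ Fin d) → F := Pi.single (Sum.inl ⟨0, by omega⟩) 1
  have he : e ≠ 0 := by simp [e]
  obtain ⟨f, hf⟩ : ∃ f, B f e ≠ 0 := by
    by_contra h
    push Not at h
    exact he ((Symp.spB_nondegenerate d F).2 e h)
  set X := Cfsg.sympTransvection d e (1 : F)
  have hX : X ∈ Matrix.symplecticGroup (Fin d) F := Symp.sympTransvection_mem _ _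
  have hact : ∀ v, X *ᵥ v = v + B v e • e := fun v => by rw [Symp.sympTransvection_mulVec, one_mul]
  haveI : Nonempty (Fin d ⊕ Fin d) := ⟨Sum.inl ⟨0, by omega⟩⟩
  haveI : CharP (Matrix (Fin d ⊕ Fin d) (Fin d ⊕ Fin d) F) p := inferInstance
  have hNN : (X - 1) * (X - 1) = 0 := Matrix.ext_iff_mulVec.2 fun v => by
    rw [← Matrix.mulVec_mulVec]
    simp [Matrix.sub_mulVec, hact, (Symp.spB_isAlt d F).self_eq_zero e, B]
  have hXp : X ^ p = 1 := by
    have h1 : (X - 1) ^ p = 0 := by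
      obtain ⟨k, hk⟩ : ∃ k, p = 2 + k := ⟨p - 2, by have := (Fact.out : p.Prime).two_le; omega⟩
      rw [hk, pow_add, pow_two, hNN, zero_mul]
    rw [sub_pow_char_of_commute (R := Matrix (Fin d ⊕ Fin d) (Fin d ⊕ Fin d) F) p (Commute.one_right _), one_pow, sub_eq_zero] at h1
    exact h1
  let x : GL (Fin d ⊕ Fin d) F := Units.ofPowEqOne X p hXp (Fact.out : p.Prime).ne_zero
  have hxp : x ^ p = 1 := Units.pow_ofPowEqOne _ _
  refine ⟨x, mem_sp.2 ((Symp.mem_symplecticGroup_iff _).1 hX), ⟨1, by rw [hxp, Units.val_one, one_smul]⟩,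
    fun z hz => ?_, fun g hg => ?_⟩
  · change X = z • 1 at hz
    have h1 := hact e
    rw [hz, (Symp.spB_isAlt d F).self_eq_zero, zero_smul, add_zero, Matrix.smul_mulVec, Matrix.one_mulVec] at h1
    have hz1 : z = 1 := by
      have h' : (z - 1) • e = 0 := by rw [sub_smul, one_smul, h1, sub_self]
      exact sub_eq_zero.1 ((smul_eq_zero.1 h').resolve_right he)
    have h3 := hact f
    rw [hz, hz1, one_smul, Matrix.one_mulVec, left_eq_add, smul_eq_zero] at h3
    exact h3.elim hf he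
  · set w := (g⁻¹ : GL (Fin d ⊕ Fin d) F).val *ᵥ e with hw_def
    have hw : w ≠ 0 := fun h => he (by
      have h1 := congrArg (g.val *ᵥ ·) h
      simpa [w, Matrix.mulVec_mulVec] using h1)
    have hy : ∀ v, (g⁻¹ * x * g : GL (Fin d ⊕ Fin d) F).val *ᵥ v = v + B (g.val *ᵥ v) e • w := fun v => by
      rw [Units.val_mul, Units.val_mul, ← Matrix.mulVec_mulVec, ← Matrix.mulVec_mulVec]
      show (g⁻¹ : GL (Fin d ⊕ Fin d) F).val *ᵥ (X *ᵥ _) = _
      rw [hact, Matrix.mulVec_add, Matrix.mulVec_smul, Matrix.mulVec_mulVec, Units.inv_mul, Matrix.one_mulVec]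
    have hc := G.comm_of_small hK hg (Submodule.span F {w}) (fun v => by
      rw [hy, add_sub_cancel_left]
      exact Submodule.smul_mem _ _ (Submodule.mem_span_singleton_self _)) (by
      rw [finrank_span_singleton hw, Fintype.card_sum, Fintype.card_fin]; omega)
    have h1 := congrArg (· *ᵥ ((g⁻¹ : GL (Fin d ⊕ Fin d) F).val *ᵥ f)) hc
    have hgi : g.val *ᵥ ((g⁻¹ : GL (Fin d ⊕ Fin d) F).val *ᵥ f) = f := by
      rw [Matrix.mulVec_mulVec, Units.mul_inv, Matrix.one_mulVec]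
    rw [← Matrix.mulVec_mulVec, ← Matrix.mulVec_mulVec, hy, hy, Matrix.mulVec_add, Matrix.mulVec_smul, hgi] at h1
    refine G.free w hw ((B f e)⁻¹ * B (g.val *ᵥ (Θ *ᵥ ((g⁻¹ : GL (Fin d ⊕ Fin d) F).val *ᵥ f))) e) ?_
    rw [← smul_smul, add_left_cancel h1, smul_smul, inv_mul_cancel₀ hf, one_smul]

/-- Involutions with a plane of eigenvalue `-1` normalise no conjugate in dimension at least six. -/
theorem invol_bad (h2 : (2 : F) ≠ 0) (hd : 3 ≤ d) (hK : Cfsg.Geo.IsFieldSubalgebra k K) (G : Gen K q k Θ P)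
    (hsa : Cfsg.Geo.IsSelfAdjointFor (Cfsg.sympForm d F) K)
    (halt : ∀ a ∈ K, ∀ v : Fin d ⊕ Fin d → F, Cfsg.sympForm d F (a *ᵥ v) v = 0) :
    ∃ x ∈ Cfsg.spGL d F, (∃ z : F, ((x ^ 2 : GL (Fin d ⊕ Fin d) F) : Matrix (Fin d ⊕ Fin d) (Fin d ⊕ Fin d) F) = z • 1) ∧ (∀ z : F, x.val ≠ z • 1) ∧
      ∀ g ∈ Cfsg.spGL d F, g⁻¹ * x * g ∉ Cfsg.Geo.subalgebraNormalizer K := by
  classical
  set B := Symp.spB d F
  have hA : B.IsAlt := Symp.spB_isAlt d F
  let e : (Fin d ⊕ Fin d) → F := Pi.single (Sum.inl ⟨0, by omega⟩) 1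
  have he : e ≠ 0 := by simp [e]
  obtain ⟨f, hef⟩ : ∃ f, B e f = 1 := by
    obtain ⟨f, hf⟩ : ∃ f, B e f ≠ 0 := by
      by_contra h
      push Not at h
      exact he ((Symp.spB_nondegenerate d F).1 e h)
    exact ⟨(B e f)⁻¹ • f, by rw [map_smul, smul_eq_mul, inv_mul_cancel₀ hf]⟩
  have hfe : B f e = -1 := by rw [← hef]; exact (LinearMap.IsAlt.neg hA e f).symm
  let T : End F (Fin d ⊕ Fin d → F) := LinearMap.id -
    (2 : F) • ((B.flip f).smulRight e - (B.flip e).smulRight f)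
  let X : Matrix (Fin d ⊕ Fin d) (Fin d ⊕ Fin d) F := LinearMap.toMatrix' T
  have hact : ∀ v, X *ᵥ v = v - (2 : F) • (B v f • e - B v e • f) := fun v => by
    rw [show X *ᵥ v = T v from LinearMap.toMatrix'_mulVec _ _]
    rfl
  have hXX : X * X = 1 := Matrix.ext_iff_mulVec.2 fun v => by
    rw [← Matrix.mulVec_mulVec, hact, hact, Matrix.one_mulVec]
    simp only [map_sub, map_smul, LinearMap.sub_apply, LinearMap.smul_apply, hA.self_eq_zero, hef, hfe, smul_eq_mul]
    module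
  let x : GL (Fin d ⊕ Fin d) F := ⟨X, X, hXX, hXX⟩
  have hxs : x ∈ Cfsg.spGL d F := mem_sp.2 fun u v => by
    show B (X *ᵥ u) (X *ᵥ v) = B u v
    rw [hact, hact]
    simp only [map_sub, map_smul, LinearMap.sub_apply, LinearMap.smul_apply, hA.self_eq_zero, hef, hfe, smul_eq_mul]
    rw [show B e v = -B v e from (LinearMap.IsAlt.neg hA v e).symm, show B f v = -B v f from (LinearMap.IsAlt.neg hA v f).symm]
    ring
  refine ⟨x, hxs, ⟨1, by rw [one_smul, Units.val_pow_eq_pow_val, pow_two]; exact hXX⟩, fun z hz => ?_, fun g hg hgx => ?_⟩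
  · change X = z • 1 at hz
    have h1 : ∀ v, (z - 1) • v = -(2 : F) • (B v f • e - B v e • f) := fun v => by
      have h := hact v
      rw [hz, Matrix.smul_mulVec, Matrix.one_mulVec] at h
      rw [sub_smul, one_smul, h]
      module
    have hz1 : z - 1 ≠ 0 := fun h => h2 (by
      have h3 := congrArg (fun w => B w f) (h1 e)
      simp [h, hA.self_eq_zero, hef] at h3; exact h3)
    have hle : (⊤ : Submodule F (Fin d ⊕ Fin d → F)) ≤ Submodule.span F {e} ⊔ Submodule.span F {f} := fun v _ => by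
      rw [show v = (z - 1)⁻¹ • ((z - 1) • v) by rw [smul_smul, inv_mul_cancel₀ hz1, one_smul], h1]
      exact Submodule.smul_mem _ _ (Submodule.smul_mem _ _ (sub_mem
        (Submodule.mem_sup_left (Submodule.smul_mem _ _ (Submodule.mem_span_singleton_self _)))
        (Submodule.mem_sup_right (Submodule.smul_mem _ _ (Submodule.mem_span_singleton_self _)))))
    have h3 := (Submodule.finrank_mono hle).trans (Submodule.finrank_add_le_finrank_add_finrank _ _)
    rw [finrank_top, Symp.finrank_space] at h3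
    have h4 : ∀ v : Fin d ⊕ Fin d → F, finrank F (Submodule.span F {v}) ≤ 1 := fun v =>
      (finrank_span_le_card _).trans (by simp)
    have := h4 e
    have := h4 f
    omega
  · set y := g⁻¹ * x * g
    set e' := (g⁻¹ : GL (Fin d ⊕ Fin d) F).val *ᵥ e
    set f' := (g⁻¹ : GL (Fin d ⊕ Fin d) F).val *ᵥ f
    have hgi : ∀ v, g.val *ᵥ ((g⁻¹ : GL (Fin d ⊕ Fin d) F).val *ᵥ v) = v := fun v => by
      rw [Matrix.mulVec_mulVec, Units.mul_inv, Matrix.one_mulVec]
    have hy : ∀ v, y.val *ᵥ v = v - (2 : F) • (B (g.val *ᵥ v) f • e' - B (g.val *ᵥ v) e • f') := fun v => by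
      show (g⁻¹ * x * g : GL (Fin d ⊕ Fin d) F).val *ᵥ v = _
      rw [Units.val_mul, Units.val_mul, ← Matrix.mulVec_mulVec, ← Matrix.mulVec_mulVec]
      show (g⁻¹ : GL (Fin d ⊕ Fin d) F).val *ᵥ (X *ᵥ _) = _
      rw [hact, Matrix.mulVec_sub, Matrix.mulVec_smul, Matrix.mulVec_sub, Matrix.mulVec_smul, Matrix.mulVec_smul,
        Matrix.mulVec_mulVec, Units.inv_mul, Matrix.one_mulVec]
    have he'f' : B e' f' = 1 := by rw [← mem_sp.1 hg e' f', hgi, hgi, hef]
    have he' : e' ≠ 0 := fun h => by simp [h] at he'f'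
    let W := Submodule.span F {e'} ⊔ Submodule.span F {f'}
    have heW : ∀ a b : F, a • e' + b • f' ∈ W := fun a b => Submodule.add_mem_sup
      (Submodule.smul_mem _ _ (Submodule.mem_span_singleton_self _))
      (Submodule.smul_mem _ _ (Submodule.mem_span_singleton_self _))
    have hW : ∀ v, y.val *ᵥ v - v ∈ W := fun v => by
      convert heW (-2 * B (g.val *ᵥ v) f) (2 * B (g.val *ᵥ v) e) using 1
      rw [hy]; module
    have hW2 : 2 * finrank F W < Fintype.card (Fin d ⊕ Fin d) := by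
      have h3 : finrank F W ≤ _ := Submodule.finrank_add_le_finrank_add_finrank _ _
      have h4 : ∀ v : Fin d ⊕ Fin d → F, finrank F (Submodule.span F {v}) ≤ 1 := fun v =>
        (finrank_span_le_card _).trans (by simp)
      have := h4 e'
      have := h4 f'
      rw [Fintype.card_sum, Fintype.card_fin]
      omega
    have hc := G.comm_of_small hK hgx W hW hW2
    have hye : y.val *ᵥ e' = -e' := by
      rw [hy, hgi, hef, hA.self_eq_zero]; module
    have h1 := congrArg (· *ᵥ e') hc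
    rw [← Matrix.mulVec_mulVec, ← Matrix.mulVec_mulVec, hye, Matrix.mulVec_neg] at h1
    have hmem : Θ *ᵥ e' ∈ W := by
      have h := W.smul_mem (-(2 : F))⁻¹ (hW (Θ *ᵥ e'))
      rwa [h1, show -(Θ *ᵥ e') - Θ *ᵥ e' = (-(2 : F)) • (Θ *ᵥ e') by module, smul_smul,
        inv_mul_cancel₀ (neg_ne_zero.2 h2), one_smul] at h
    obtain ⟨_, ha, _, hb, hab⟩ := Submodule.mem_sup.1 hmem
    obtain ⟨a, rfl⟩ := Submodule.mem_span_singleton.1 ha
    obtain ⟨b, rfl⟩ := Submodule.mem_span_singleton.1 hb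
    have h5 := halt Θ G.mem e'
    rw [← Symp.spB_apply, ← hab, map_add, map_smul, map_smul, LinearMap.add_apply, LinearMap.smul_apply,
      LinearMap.smul_apply, hA.self_eq_zero, show B f' e' = -1 by rw [← he'f']; exact (LinearMap.IsAlt.neg hA e' f').symm,
      smul_zero, zero_add, smul_eq_mul, mul_neg_one, neg_eq_zero] at h5
    refine G.free e' he' a ?_
    rw [← hab, h5, zero_smul, add_zero]

/-- Semisimple elements with a simple eigenvalue. -/
theorem semi_bad [Fintype F] (p : ℕ) [Fact p.Prime] [CharP F p] (hd2 : 2 ≤ d) (hk : k.Prime)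
    (G : Gen K (Fintype.card F) k Θ P) (hsa : Cfsg.Geo.IsSelfAdjointFor (Cfsg.sympForm d F) K)
    {r : ℕ} [Fact r.Prime] (hr2 : r ≠ 2) (hrp : r ≠ p) {i c : ℕ}
    (hi : i = orderOf (Fintype.card F : ZMod r)) (hc : c = if Even i then i else 2 * i)
    (hkc : ¬ k ∣ c / 2) (hcd : c ≤ 2 * d) :
    ∃ x ∈ Cfsg.spGL d F, (∃ z : F, ((x ^ r : GL (Fin d ⊕ Fin d) F) : Matrix (Fin d ⊕ Fin d) (Fin d ⊕ Fin d) F) = z • 1) ∧ (∀ z : F, x.val ≠ z • 1) ∧
      ∀ g ∈ Cfsg.spGL d F, g⁻¹ * x * g ∉ Cfsg.Geo.subalgebraNormalizer K := by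
  have hd : 1 ≤ d := by omega
  classical
  obtain ⟨hr⟩ := (inferInstance : Fact r.Prime)
  let L := AlgebraicClosure F
  haveI : CharP L p := charP_of_injective_algebraMap (algebraMap F L).injective p
  have hrL : (r : L) ≠ 0 := fun h =>
    hrp ((Nat.prime_dvd_prime_iff_eq Fact.out hr).mp ((CharP.cast_eq_zero_iff L p r).mp h)).symm
  have hrF : (r : F) ≠ 0 := fun h => hrL (by rw [← map_natCast (algebraMap F L), h, map_zero])
  haveI : NeZero (r : L) := ⟨hrL⟩
  obtain ⟨ζ, hζ⟩ := HasEnoughRootsOfUnity.exists_primitiveRoot L r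
  have hrq : ¬ r ∣ Fintype.card F := fun h => by
    obtain ⟨k, -, hk⟩ := FiniteField.card F p
    rw [hk] at h
    exact hrp ((Nat.prime_dvd_prime_iff_eq hr Fact.out).mp (hr.dvd_of_dvd_pow h))
  let uq : (ZMod r)ˣ := Units.mk0 _ (fun h => hrq ((ZMod.natCast_eq_zero_iff _ _).1 h) : (Fintype.card F : ZMod r) ≠ 0)
  have huq : (uq : ZMod r) = (Fintype.card F : ZMod r) := rfl
  have hiu : orderOf uq = i := by rw [hi, ← orderOf_units, huq]
  obtain ⟨w, -, hwq, hwn, hwo⟩ := exists_gen hr2 uq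
  rw [hiu] at hwo
  have hwc : orderOf w = c := by
    rw [hwo, hc]
    by_cases he : Even i
    · rw [if_pos he, if_neg (Nat.not_odd_iff_even.mpr he)]
    · rw [if_neg he, if_pos (Nat.not_even_iff_odd.mp he)]
  have hc0 : 0 < c := hwc ▸ orderOf_pos w
  have hce : Even c := by
    rw [hc]
    split_ifs with he
    · exact he
    · exact even_two_mul i
  -- one moved orbit
  obtain ⟨my, hmy, hmy0, hmy1⟩ := Cfsg.Agent.S5955.exists_inv_fixed w (2 * d - c) 1
  rw [one_mul, hwc, Nat.sub_add_cancel hcd, two_mul] at hmy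
  obtain ⟨j, hj⟩ : ∃ j, my j = 1 := by
    by_contra h
    push Not at h
    have h1 := hmy.1
    rw [Finset.sum_eq_single (0 : ZMod r) (fun x _ hx => (hmy1 x hx).resolve_right (h x)) (by simp), hmy0] at h1
    omega
  obtain ⟨P, hP, -, hPm⟩ := Cfsg.Agent.S5961.altReal_any (F := F) hζ huq hr2 w hwq hwn hmy (by
    rw [hmy0, Nat.even_iff]; rw [Nat.even_iff] at hce; omega)
  obtain ⟨X, hX, hXp⟩ := exists_sp_of_altReal (m := d) hP (by
    rw [← natDegree_map (algebraMap F L), hPm, Pm_natDegree, hmy.1])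
  rw [← hXp] at hPm
  have hXr : (X : Matrix (Fin d ⊕ Fin d) (Fin d ⊕ Fin d) F) ^ r = 1 := by rw [← SubmonoidClass.coe_pow, hX]; rfl
  let x : GL (Fin d ⊕ Fin d) F := Units.ofPowEqOne _ r hXr hr.ne_zero
  have hxr : x ^ r = 1 := Units.pow_ofPowEqOne _ _
  have hxs : x ∈ Cfsg.spGL d F := mem_sp.2 ((Symp.mem_symplecticGroup_iff _).1 X.2)
  refine ⟨x, hxs, ⟨1, by rw [hxr, Units.val_one, one_smul]⟩, fun z hz => ?_, fun g hg hgx => ?_⟩
  · change (X : Matrix (Fin d ⊕ Fin d) (Fin d ⊕ Fin d) F) = z • 1 at hz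
    obtain ⟨hz2, -, -, -⟩ := Cfsg.Agent.S5956.scalar_power hd X (r := 1) (z := z) (by rw [pow_one]; exact hz)
    have h1 := hXr
    rw [hz, _root_.smul_pow, one_pow] at h1
    have h1' : z ^ r = 1 := by
      have h3 := congrFun (congrFun h1 (Sum.inl ⟨0, by omega⟩)) (Sum.inl ⟨0, by omega⟩)
      simpa using h3
    obtain ⟨e, he⟩ := hr.odd_of_ne_two hr2
    rw [he, pow_succ, pow_mul, pow_two, hz2, one_pow, one_mul] at h1'
    have h4 := hPm
    rw [hz, h1', one_smul, Matrix.charpoly_one, Polynomial.map_pow, Polynomial.map_sub, map_X, Polynomial.map_one,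
      ← Pm_single (r := r) ζ] at h4
    have h5 := congrFun (Pm_inj hζ h4) 0
    rw [hmy0, Pi.single_eq_same, Fintype.card_sum, Fintype.card_fin] at h5
    omega
  · set y := g⁻¹ * x * g
    have hyr : y ^ r = 1 := by
      rw [show y = g⁻¹ * x * (g⁻¹)⁻¹ by rw [inv_inv], conj_pow, hxr, mul_one, mul_inv_cancel]
    have hys : y ∈ Cfsg.spGL d F := mul_mem (mul_mem (inv_mem hg) hxs) hg
    have hm : y.val.charpoly.map (algebraMap F L) = Pm ζ my := by
      rw [← hPm]
      congr 1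
      show ((g⁻¹ : GL (Fin d ⊕ Fin d) F).val * x.val * g.val).charpoly = _
      rw [Matrix.coe_units_inv, Matrix.charpoly_units_conj']
      rfl
    refine SelfAdj.no_simple p hζ hd2 hk hsa G hgx hyr hys hm hj (c / 2) hkc ?_
    have hqi : (Fintype.card F : ZMod r) ^ i = 1 := by rw [hi]; exact pow_orderOf_eq_one _
    rw [hc]
    by_cases he : Even i
    · rw [if_pos he]
      obtain ⟨e, rfl⟩ := he
      refine Or.inr ⟨?_, ?_⟩
      · rw [show (e + e) / 2 = e by omega]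
        rw [pow_add] at hqi
        refine (mul_self_eq_one_iff.1 hqi).resolve_left fun h1 => ?_
        have h0 : 0 < e + e := hiu ▸ orderOf_pos uq
        have := Nat.le_of_dvd (by omega) (hi ▸ orderOf_dvd_of_pow_eq_one h1)
        omega
      · obtain ⟨a, ha⟩ := hwn
        rw [show -j = (w : ZMod r) ^ a * j by rw [← Units.val_pow_eq_pow_val, ← ha]; simp,
          Cfsg.Agent.Lib.Linear.PrimeClasses.inv_pow hmy, hj]
    · rw [if_neg he, show 2 * i / 2 = i by omega]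
      exact Or.inl hqi

/-- The index is prime to `r`. -/
theorem index_free [Fintype F] (p : ℕ) [Fact p.Prime] [CharP F p] (hK : Cfsg.Geo.IsFieldSubalgebra k K) (hk : k.Prime)
    (hsa : Cfsg.Geo.IsSelfAdjointFor (Cfsg.sympForm d F) K)
    (halt : ∀ a ∈ K, ∀ v : Fin d ⊕ Fin d → F, Cfsg.sympForm d F (a *ᵥ v) v = 0)
    {r : ℕ} [Fact r.Prime] (hrp : r ≠ p) {i c : ℕ} (hi : i = orderOf (Fintype.card F : ZMod r))
    (hc : c = if Even i then i else 2 * i) (hcase : k ∣ c / 2 ∨ 2 * d < c) :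
    ¬ r ∣ (Cfsg.Geo.subalgebraNormalizer K).relIndex (Cfsg.spGL d F) := by
  classical
  obtain ⟨e, hke, hdvd⟩ := SelfAdj.exists_card hK hk.pos hsa halt
  subst hke
  set Q := Fintype.card F with hQ
  obtain ⟨Y, hY⟩ := hdvd
  have hrel : Nat.card ↥(Cfsg.Geo.subalgebraNormalizer K ⊓ Cfsg.spGL (k * e) F) *
      (Cfsg.Geo.subalgebraNormalizer K).relIndex (Cfsg.spGL (k * e) F) = Nat.card ↥(Cfsg.spGL (k * e) F) := by
    rw [← Subgroup.inf_relIndex_right, ← Subgroup.relIndex_bot_left, ← Subgroup.relIndex_bot_left]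
    exact Subgroup.relIndex_mul_relIndex ⊥ _ _ bot_le inf_le_right
  have hsp : Nat.card ↥(Cfsg.spGL (k * e) F) =
      Q ^ ((k * e) ^ 2) * ∏ t ∈ Finset.range (k * e), (Q ^ (2 * (t + 1)) - 1) := by
    rw [← Symp.card_iso (Symp.spB_nondegenerate (k * e) F) (Symp.spB_isAlt (k * e) F) Symp.finrank_space, Symp.spGL_eq_comap]
    set E := (Symp.glEquiv (Fin (k * e) ⊕ Fin (k * e)) F) with hE
    rw [Nat.card_congr (Subgroup.equivMapOfInjective _ E.toMonoidHom E.injective).toEquiv,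
      Subgroup.map_comap_eq_self_of_surjective (f := E.toMonoidHom) E.surjective]
  have hprod : ∏ i ∈ Finset.range e, ((Q ^ k) ^ (2 * (i + 1)) - 1) =
      ∏ t ∈ (Finset.range (k * e)).filter (fun t => k ∣ t + 1), (Q ^ (2 * (t + 1)) - 1) := by
    have hk0 := hk.pos
    refine Finset.prod_nbij' (fun j => k * (j + 1) - 1) (fun t => (t + 1) / k - 1) ?_ ?_ ?_ ?_ ?_
    · intro j hj
      simp only [Finset.mem_range] at hj
      have h1 : k * (j + 1) ≤ k * e := Nat.mul_le_mul_left k hj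
      have h2 : 0 < k * (j + 1) := Nat.mul_pos hk0 (by omega)
      simp only [Finset.mem_filter, Finset.mem_range]
      refine ⟨by omega, ?_⟩
      rw [Nat.sub_add_cancel h2]
      exact dvd_mul_right _ _
    · intro t ht
      simp only [Finset.mem_filter, Finset.mem_range] at ht
      obtain ⟨s, hs⟩ := ht.2
      simp only [Finset.mem_range]
      rw [hs, Nat.mul_div_cancel_left _ hk0]
      have : s ≤ e := Nat.le_of_mul_le_mul_left (show k * s ≤ k * e by omega) hk0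
      have : 0 < s := Nat.pos_of_ne_zero fun h => by rw [h, mul_zero] at hs; omega
      omega
    · intro j _
      have h2 : 0 < k * (j + 1) := Nat.mul_pos hk0 (by omega)
      show (k * (j + 1) - 1 + 1) / k - 1 = j
      rw [Nat.sub_add_cancel h2, Nat.mul_div_cancel_left _ hk0]; omega
    · intro t ht
      simp only [Finset.mem_filter, Finset.mem_range] at ht
      obtain ⟨s, hs⟩ := ht.2
      show k * ((t + 1) / k - 1 + 1) - 1 = t
      rw [hs, Nat.mul_div_cancel_left _ hk0]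
      have : 0 < s := Nat.pos_of_ne_zero fun h => by rw [h, mul_zero] at hs; omega
      rw [Nat.sub_add_cancel this]
      omega
    · intro j _
      have h2 : 0 < k * (j + 1) := Nat.mul_pos hk0 (by omega)
      rw [Nat.sub_add_cancel h2, ← pow_mul]
      congr 2
      ring
  rw [hsp, hY, hprod, ← Finset.prod_filter_mul_prod_filter_not (Finset.range (k * e)) (fun t => k ∣ t + 1)] at hrel
  set A := ∏ t ∈ (Finset.range (k * e)).filter (fun t => k ∣ t + 1), (Q ^ (2 * (t + 1)) - 1)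
  have hApos : 0 < A := Finset.prod_pos fun t _ => by
    have : 1 < Q ^ (2 * (t + 1)) := Nat.one_lt_pow (by omega) Fintype.one_lt_card
    omega
  have hle : k * e ^ 2 ≤ (k * e) ^ 2 := by
    rw [mul_pow]; exact Nat.mul_le_mul_right _ (Nat.le_self_pow two_ne_zero k)
  have h3 : Y * (Cfsg.Geo.subalgebraNormalizer K).relIndex (Cfsg.spGL (k * e) F) =
      Q ^ ((k * e) ^ 2 - k * e ^ 2) *
        ∏ t ∈ (Finset.range (k * e)).filter (fun t => ¬ k ∣ t + 1), (Q ^ (2 * (t + 1)) - 1) := by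
    refine Nat.eq_of_mul_eq_mul_left (Nat.mul_pos (pow_pos (show 0 < Q from Fintype.card_pos) (k * e ^ 2)) hApos) ?_
    rw [pow_mul Q k (e ^ 2), ← mul_assoc, hrel, ← pow_mul]
    conv_lhs => rw [← Nat.add_sub_cancel' hle, pow_add]
    ring
  intro hdvd
  have h4 := hdvd.trans (Dvd.intro_left Y h3)
  obtain ⟨f, -, hf⟩ := FiniteField.card F p
  rcases (Fact.out : r.Prime).dvd_mul.1 h4 with h | h
  · exact hrp ((Nat.prime_dvd_prime_iff_eq Fact.out Fact.out).mp ((Fact.out : r.Prime).dvd_of_dvd_pow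
      (show r ∣ p ^ (f : ℕ) from hf ▸ (Fact.out : r.Prime).dvd_of_dvd_pow h)))
  obtain ⟨t, ht, h5⟩ := (Prime.dvd_finsetProd_iff (Fact.out : r.Prime).prime _).1 h
  rw [Finset.mem_filter, Finset.mem_range] at ht
  have h6 := IsoFix.orderOf_dvd_of_sub hi h5
  have h7 : c / 2 ∣ t + 1 := by
    rw [hc]
    split_ifs with he
    · obtain ⟨a, rfl⟩ := he
      rw [show (a + a) / 2 = a by omega]
      obtain ⟨b, hb⟩ := h6
      exact ⟨b, mul_left_cancel₀ two_ne_zero (by rw [hb]; ring)⟩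
    · rw [show 2 * i / 2 = i by omega]
      exact ((Nat.not_even_iff_odd.1 he).coprime_two_right).dvd_of_dvd_mul_left h6
  rcases hcase with h8 | h8
  · exact ht.2 (h8.trans h7)
  · have := Nat.le_of_dvd (by omega) h7
    have hce : Even c := by
      rw [hc]
      split_ifs with he
      · exact he
      · exact even_two_mul i
    obtain ⟨a, rfl⟩ := hce
    omega

section Plane

variable [Finite F]

/-- A frame adapted to a self-adjoint root in dimension four. -/
theorem selfadj_frame {V : Type u} [AddCommGroup V] [Module F V] [FiniteDimensional F V] (h2 : (2 : F) ≠ 0)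
    (B : LinearMap.BilinForm F V) (hA : B.IsAlt) (hB : B.Nondegenerate) (hV : finrank F V = 2 * 2) {ν : F}
    (hν : ∀ t : F, t * t ≠ ν) (J : End F V) (hJ : ∀ v, J (J v) = ν • v) (hs : ∀ u v, B (J u) v = B u (J v)) :
    ∃ x y : Fin 2 → V, (∀ a, B (x a) (y a) = 1) ∧
      (∀ a b, a ≠ b → B (x a) (x b) = 0 ∧ B (x a) (y b) = 0 ∧ B (y a) (y b) = 0) ∧
      J (x 0) = x 1 ∧ J (x 1) = ν • x 0 ∧ J (y 0) = ν • y 1 ∧ J (y 1) = y 0 := by
  have hν0 : ν ≠ 0 := fun h => hν 0 (by rw [h, mul_zero])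
  have hsk : ∀ u v, B v u = -B u v := fun u v => (LinearMap.IsAlt.neg hA u v).symm
  have halt : ∀ u, B u (J u) = 0 := fun u => by
    have h := hs u u
    rw [hsk u (J u)] at h
    exact (mul_eq_zero.1 (show 2 * B u (J u) = 0 by linear_combination -h)).resolve_left h2
  have : Nontrivial V := Module.nontrivial_of_finrank_pos (R := F) (by omega)
  obtain ⟨u, hu⟩ := exists_ne (0 : V)
  let g : V →ₗ[F] F × F := (B u).prod (B (J u))
  have hg : Function.Surjective g := by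
    rw [← LinearMap.range_eq_top]
    by_contra hne
    obtain ⟨φ, hφ, hker⟩ := Submodule.exists_dual_map_eq_bot_of_lt_top (lt_top_iff_ne_top.2 hne) inferInstance
    have hz : ∀ v, φ (g v) = 0 := fun v => by
      rw [Submodule.eq_bot_iff] at hker
      exact hker _ ⟨g v, LinearMap.mem_range_self g v, rfl⟩
    have hexp : ∀ a b : F, φ (a, b) = a * φ (1, 0) + b * φ (0, 1) := fun a b => by
      conv_lhs => rw [show (a, b) = a • ((1, 0) : F × F) + b • ((0, 1) : F × F) by simp]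
      rw [map_add, map_smul, map_smul, smul_eq_mul, smul_eq_mul]
    have h0 : φ (1, 0) • u + φ (0, 1) • J u = 0 := hB.1 _ fun v => by
      rw [map_add, map_smul, map_smul, LinearMap.add_apply, LinearMap.smul_apply, LinearMap.smul_apply]
      have h := hz v
      rw [show g v = (B u v, B (J u) v) from rfl, hexp] at h
      rw [smul_eq_mul, smul_eq_mul, mul_comm, mul_comm (φ (0, 1))]
      exact h
    by_cases hb : φ (0, 1) = 0
    · rw [hb, zero_smul, add_zero, smul_eq_zero] at h0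
      refine hφ (LinearMap.ext fun ab => ?_)
      rw [show ab = (ab.1, ab.2) from rfl, hexp, hb, h0.resolve_right hu]
      simp
    · have hJu : J u = (-(φ (0, 1))⁻¹ * φ (1, 0)) • u := by
        rw [neg_mul, neg_smul, ← smul_smul, ← smul_neg, neg_eq_of_add_eq_zero_right h0, smul_smul,
          inv_mul_cancel₀ hb, one_smul]
      refine hν (-(φ (0, 1))⁻¹ * φ (1, 0)) ?_
      have h := hJ u
      rw [hJu, map_smul, hJu, smul_smul] at h
      exact smul_left_injective F hu h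
  obtain ⟨w, hw⟩ := hg (1, 0)
  have hw1 : B u w = 1 := congrArg Prod.fst hw
  have hw2 : B (J u) w = 0 := congrArg Prod.snd hw
  refine ⟨![u, J u], ![w, ν⁻¹ • J w], fun a => ?_, fun a b hab => ?_, rfl, hJ u, ?_, ?_⟩
  · fin_cases a
    · exact hw1
    · simp [hs, hJ, hw1, smul_smul, inv_mul_cancel₀ hν0, hν0]
  · have h3 : B u (J w) = 0 := by rw [← hs, hw2]
    fin_cases a <;> fin_cases b <;> first
      | exact absurd rfl hab
      | simp [halt, hw2, h3, hs, hJ, hsk u (J u), hsk w (J w), hA.self_eq_zero]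
  · simp [smul_smul, mul_inv_cancel₀ hν0]
  · simp [hJ, smul_smul, inv_mul_cancel₀ hν0]

/-- Self-adjoint roots in dimension four are conjugate. -/
theorem selfadj_conj {V : Type u} [AddCommGroup V] [Module F V] [FiniteDimensional F V] (h2 : (2 : F) ≠ 0)
    (B : LinearMap.BilinForm F V) (hA : B.IsAlt) (hB : B.Nondegenerate) (hV : finrank F V = 2 * 2) {ν : F}
    (hν : ∀ t : F, t * t ≠ ν) (J J' : End F V) (hJ : ∀ v, J (J v) = ν • v) (hs : ∀ u v, B (J u) v = B u (J v))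
    (hJ' : ∀ v, J' (J' v) = ν • v) (hs' : ∀ u v, B (J' u) v = B u (J' v)) :
    ∃ G : V ≃ₗ[F] V, (∀ u v, B (G u) (G v) = B u v) ∧ ∀ v, G (J v) = J' (G v) := by
  obtain ⟨x, y, h1, h0, hx0, hx1, hy0, hy1⟩ := selfadj_frame h2 B hA hB hV hν J hJ hs
  obtain ⟨x', y', h1', h0', hx0', hx1', hy0', hy1'⟩ := selfadj_frame h2 B hA hB hV hν J' hJ' hs'
  obtain ⟨β, hβ⟩ := frame_basis hA hV h1 h0
  obtain ⟨β', hβ'⟩ := frame_basis hA hV h1' h0'
  let G := β.equiv β' (Equiv.refl _)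
  have hG : ∀ s, G (β s) = β' s := fun s => by simp [G]
  refine ⟨G, fun u v => ?_, fun v => ?_⟩
  · refine LinearMap.congr_fun₂ (f := B.compl₁₂ (G : V →ₗ[F] V) (G : V →ₗ[F] V)) (g := B)
      (LinearMap.ext_basis β β fun s t => ?_) u v
    rw [LinearMap.compl₁₂_apply, LinearEquiv.coe_coe, hG, hG, hβ, hβ, hβ', hβ']
    exact frame_gram hA hA h1 h0 h1' h0' s t
  · refine LinearMap.congr_fun (f := (G : V →ₗ[F] V) ∘ₗ J) (g := J' ∘ₗ (G : V →ₗ[F] V)) (β.ext ?_) v
    intro s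
    have hGx : ∀ a, G (x a) = x' a := fun a => by
      have h := hG (Sum.inl a); rw [hβ, hβ'] at h; exact h
    have hGy : ∀ a, G (y a) = y' a := fun a => by
      have h := hG (Sum.inr a); rw [hβ, hβ'] at h; exact h
    rcases s with a | a <;> fin_cases a <;>
      simp [hβ, hx0, hx1, hy0, hy1, hx0', hx1', hy0', hy1', hGx, hGy]

/-- An isometry squaring to `±1` in dimension four normalises some self-adjoint root. -/
theorem selfadj_invol {V : Type u} [AddCommGroup V] [Module F V] [FiniteDimensional F V] (h2 : (2 : F) ≠ 0)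
    (B : LinearMap.BilinForm F V) (hA : B.IsAlt) (hB : B.Nondegenerate) (hV : finrank F V = 2 * 2) {ν : F}
    (X : End F V) (hX : ∀ u v, B (X u) (X v) = B u v) {z : F} (hz : z = 1 ∨ z = -1) (hX2 : ∀ v, X (X v) = z • v) :
    ∃ (J : End F V) (ε : F), (∀ v, J (J v) = ν • v) ∧ (∀ u v, B (J u) v = B u (J v)) ∧ ∀ v, X (J v) = ε • J (X v) := by
  classical
  obtain ⟨k', x, y, hk, hp, ho⟩ := exists_invol_frame h2 B X hA hB hX hz hX2
  obtain rfl : k' = 2 := by omega
  obtain ⟨β, hβ⟩ := frame_basis hA hk (fun a => (hp a).1) ho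
  obtain ⟨a₁, b₁, c₁, e₁, hP₁, hXx₁, hXy₁⟩ := (hp 0).2
  obtain ⟨a₂, b₂, c₂, e₂, hP₂, hXx₂, hXy₂⟩ := (hp 1).2
  obtain ⟨α, β₀, γ, δ, ε, hdet, hi1, hi2, hi3, hi4, hi5, hi6, hi7, hi8⟩ : ∃ α β₀ γ δ ε : F, α * δ - β₀ * γ = ν ∧
      α * a₂ + γ * c₂ = ε * (a₁ * α + b₁ * β₀) ∧ α * b₂ + γ * e₂ = ε * (a₁ * γ + b₁ * δ) ∧
      β₀ * a₂ + δ * c₂ = ε * (c₁ * α + e₁ * β₀) ∧ β₀ * b₂ + δ * e₂ = ε * (c₁ * γ + e₁ * δ) ∧
      δ * a₁ - γ * c₁ = ε * (a₂ * δ - b₂ * β₀) ∧ δ * b₁ - γ * e₁ = ε * (-(a₂ * γ) + b₂ * α) ∧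
      -(β₀ * a₁) + α * c₁ = ε * (c₂ * δ - e₂ * β₀) ∧ -(β₀ * b₁) + α * e₁ = ε * (-(c₂ * γ) + e₂ * α) := by
    rcases hP₁ with ⟨hz1, rfl, rfl, rfl⟩ | ⟨hz1, rfl, rfl, hb₁, hc₁⟩ <;>
      rcases hP₂ with ⟨hz1', rfl, rfl, rfl⟩ | ⟨hz1', rfl, rfl, hb₂, hc₂⟩
    · have hsq : ∀ {x' : V} {a : F}, x' ≠ 0 → X x' = a • x' + (0 : F) • (0 : V) → a * a = 1 := fun {x' a} h0 h => by
        rw [smul_zero, add_zero] at h
        have h3 := hX2 x'
        rw [h, map_smul, h, smul_smul, hz1] at h3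
        exact smul_left_injective F h0 h3
      have hne : ∀ a, x a ≠ 0 := fun a h => by
        have := (hp a).1
        rw [h, map_zero, LinearMap.zero_apply] at this
        exact zero_ne_one this
      have e1 : e₁ * e₁ = 1 := hsq (hne 0) (by rw [hXx₁]; simp)
      have e2 : e₂ * e₂ = 1 := hsq (hne 1) (by rw [hXx₂]; simp)
      refine ⟨1, 0, 0, ν, e₁ * e₂, by ring, ?_, ?_, ?_, ?_, ?_, ?_, ?_, ?_⟩
      all_goals first | ring1 | linear_combination e₂ * e1 | linear_combination -e₂ * e1 | linear_combination e₁ * e2 | linear_combination -e₁ * e2 |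
        linear_combination e₂ * ν * e1 | linear_combination -e₂ * ν * e1 | linear_combination e₁ * ν * e2 | linear_combination -e₁ * ν * e2
    · exact absurd (hz1.symm.trans hz1') fun h => h2 (by linear_combination h)
    · exact absurd (hz1'.symm.trans hz1) fun h => h2 (by linear_combination h)
    · obtain ⟨α, β', hαβ⟩ := SquareScalar.exists_quad (neg_ne_zero.2 (one_ne_zero : (1 : F) ≠ 0)) (ν * b₁ * b₂⁻¹)
      subst hc₁ hc₂
      refine ⟨α, -(β' * b₂) * (b₁ * b₂)⁻¹, β' * b₂, α * b₂ * b₁⁻¹, 1, ?_, ?_, ?_, ?_, ?_, ?_, ?_, ?_, ?_⟩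
      · calc _ = (α * α - -1 * (β' * β')) * (b₂ * b₁⁻¹) := by field_simp
          _ = ν := by rw [hαβ]; field_simp
      all_goals (field_simp; try ring)
  obtain ⟨J, hJdef⟩ : ∃ J : End F V, J = β.constr F (Sum.elim ![α • x 1 + γ • y 1, δ • x 0 + -γ • y 0]
      ![β₀ • x 1 + δ • y 1, -β₀ • x 0 + α • y 0]) := ⟨_, rfl⟩
  have hJx0 : J (x 0) = α • x 1 + γ • y 1 := by
    rw [hJdef, show x 0 = β (.inl 0) by rw [hβ]; rfl, Basis.constr_basis]; simp [hβ]
  have hJx1 : J (x 1) = δ • x 0 + -γ • y 0 := by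
    rw [hJdef, show x 1 = β (.inl 1) by rw [hβ]; rfl, Basis.constr_basis]; simp [hβ]
  have hJy0 : J (y 0) = β₀ • x 1 + δ • y 1 := by
    rw [hJdef, show y 0 = β (.inr 0) by rw [hβ]; rfl, Basis.constr_basis]; simp [hβ]
  have hJy1 : J (y 1) = -β₀ • x 0 + α • y 0 := by
    rw [hJdef, show y 1 = β (.inr 1) by rw [hβ]; rfl, Basis.constr_basis]; simp [hβ]
  have hsk : ∀ u v, B v u = -B u v := fun u v => (LinearMap.IsAlt.neg hA u v).symm
  obtain ⟨o1, o2, o3⟩ := ho 0 1 (by simp)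
  have o4 := (ho 1 0 (by simp)).2.1
  refine ⟨J, ε, fun v => ?_, fun u v => ?_, fun v => ?_⟩
  · refine LinearMap.congr_fun (f := J ∘ₗ J) (g := ν • LinearMap.id) (β.ext ?_) v
    intro s
    rcases s with a | a <;> fin_cases a <;>
      simp only [LinearMap.comp_apply, LinearMap.smul_apply, LinearMap.id_apply, hβ, Sum.elim_inl, Sum.elim_inr,
        Fin.zero_eta, Fin.mk_one, hJx0, hJx1, hJy0, hJy1, map_add, map_smul] <;> rw [← hdet] <;> module
  · have h : B.compl₁₂ J LinearMap.id = B.compl₁₂ LinearMap.id J := by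
      refine LinearMap.ext_basis β β ?_
      intro s t
      rcases s with a | a <;> rcases t with b | b <;> fin_cases a <;> fin_cases b <;>
        simp only [LinearMap.compl₁₂_apply, LinearMap.id_apply, hβ, Sum.elim_inl, Sum.elim_inr, Fin.zero_eta, Fin.mk_one,
          hJx0, hJx1, hJy0, hJy1, map_add, map_smul, LinearMap.add_apply, LinearMap.smul_apply, smul_eq_mul,
          hA.self_eq_zero, o1, o2, o3, o4, hsk (x 0) (x 1), hsk (x 0) (y 1), hsk (y 0) (y 1), hsk (x 1) (y 0),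
          hsk (x 0) (y 0), hsk (x 1) (y 1), (hp 0).1, (hp 1).1] <;> ring
    exact LinearMap.congr_fun₂ h u v
  · refine LinearMap.congr_fun (f := X ∘ₗ J) (g := ε • J ∘ₗ X) (β.ext ?_) v
    intro s
    rcases s with a | a <;> fin_cases a <;>
      simp only [LinearMap.comp_apply, LinearMap.smul_apply, hβ, Sum.elim_inl, Sum.elim_inr, Fin.zero_eta, Fin.mk_one,
        hJx0, hJx1, hJy0, hJy1, hXx₁, hXx₂, hXy₁, hXy₂, map_add, map_smul] <;> match_scalars <;>
      first
        | linear_combination hi1 | linear_combination hi2 | linear_combination hi3 | linear_combination hi4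
        | linear_combination hi5 | linear_combination hi6 | linear_combination hi7 | linear_combination hi8

/-- In `PSp₄` all involutions normalise a conjugate. -/
theorem fixes_two (h2 : (2 : F) ≠ 0) (hd : d = 2) (hK : Cfsg.Geo.IsFieldSubalgebra 2 K)
    (hsa : Cfsg.Geo.IsSelfAdjointFor (Cfsg.sympForm d F) K) {x : GL (Fin d ⊕ Fin d) F} (hx : x ∈ Cfsg.spGL d F)
    {z : F} (hxz : ((x ^ 2 : GL (Fin d ⊕ Fin d) F) : Matrix (Fin d ⊕ Fin d) (Fin d ⊕ Fin d) F) = z • 1) :
    ∃ g ∈ Cfsg.spGL d F, g⁻¹ * x * g ∈ Cfsg.Geo.subalgebraNormalizer K := by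
  classical
  obtain ⟨T, t, N, hT, hmem₁, hsq₁, -, hfree₁⟩ := exists_quad_gen K hK
  set T₀ := T - (t / 2) • 1 with hT₀
  set ν := t / 2 * (t / 2) - N with hνdef
  have hT₀K : T₀ ∈ K := K.sub_mem hT (K.smul_mem K.one_mem _)
  have hsq : T₀ * T₀ = ν • 1 := by
    simp only [hT₀, sub_mul, mul_sub, Matrix.smul_mul, Matrix.mul_smul, one_mul, mul_one, hsq₁]
    match_scalars <;> (try simp only [hνdef]) <;> field_simp <;> ring
  have hfree : ∀ v, v ≠ 0 → ∀ c : F, T₀ *ᵥ v ≠ c • v := fun v hv c e => hfree₁ v hv (c + t / 2) (by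
    rw [hT₀, Matrix.sub_mulVec, Matrix.smul_mulVec, Matrix.one_mulVec, sub_eq_iff_eq_add] at e
    rw [e, add_smul])
  have hmem : ∀ a, a ∈ K ↔ ∃ u v : F, a = u • 1 + v • T₀ := fun a => by
    rw [hmem₁]
    constructor
    · rintro ⟨u, v, rfl⟩
      exact ⟨u + v * (t / 2), v, by rw [hT₀]; module⟩
    · rintro ⟨u, v, rfl⟩
      exact ⟨u - v * (t / 2), v, by rw [hT₀]; module⟩
  let J₀ : End F (Fin d ⊕ Fin d → F) := Matrix.toLin' T₀
  have hJ₀ : ∀ v, J₀ (J₀ v) = ν • v := fun v => by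
    simp only [J₀, Matrix.toLin'_apply, Matrix.mulVec_mulVec, hsq, Matrix.smul_mulVec, Matrix.one_mulVec]
  have hs₀ : ∀ u v, Symp.spB d F (J₀ u) v = Symp.spB d F u (J₀ v) := fun u v => by
    rw [Symp.spB_apply, Symp.spB_apply, Matrix.toLin'_apply, Matrix.toLin'_apply]; exact hsa _ hT₀K u v
  let e0 : (Fin d ⊕ Fin d) → F := Pi.single (Sum.inl ⟨0, by omega⟩) 1
  have he0 : e0 ≠ 0 := by simp [e0]
  have hν : ∀ s : F, s * s ≠ ν := fun s hs => by
    by_cases h : T₀ *ᵥ e0 + s • e0 = 0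
    · exact hfree e0 he0 (-s) (by rw [neg_smul]; exact eq_neg_of_add_eq_zero_left h)
    · refine hfree _ h s ?_
      rw [Matrix.mulVec_add, Matrix.mulVec_smul, Matrix.mulVec_mulVec, hsq, Matrix.smul_mulVec, Matrix.one_mulVec,
        smul_add, smul_smul, hs, add_comm]
  let X₀ : Matrix.symplecticGroup (Fin d) F := ⟨x.val, (Symp.mem_symplecticGroup_iff _).2 (mem_sp.1 hx)⟩
  rw [Units.val_pow_eq_pow_val] at hxz
  obtain ⟨hz2, hz, -, -⟩ := Cfsg.Agent.S5956.scalar_power (by omega) X₀ (r := 2) (z := z) (by rw [SubmonoidClass.coe_pow]; exact hxz)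
  have hA := Symp.spB_isAlt d F
  have hB := Symp.spB_nondegenerate d F
  have hV : finrank F (Fin d ⊕ Fin d → F) = 2 * 2 := by rw [Symp.finrank_space, hd]
  obtain ⟨J, ε, hJ, hJs, hXJ⟩ := selfadj_invol (ν := ν) h2 (Symp.spB d F) hA hB hV (Matrix.toLin' x.val)
    (fun u v => by simpa using mem_sp.1 hx u v) hz (fun v => by
      rw [Matrix.toLin'_apply, Matrix.toLin'_apply, Matrix.mulVec_mulVec, ← pow_two, hxz, Matrix.smul_mulVec,
        Matrix.one_mulVec])
  obtain ⟨G, hG, hGJ⟩ := selfadj_conj h2 _ hA hB hV hν J₀ J hJ₀ hs₀ hJ hJs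
  let g : GL (Fin d ⊕ Fin d) F := (Symp.glEquiv (Fin d ⊕ Fin d) F).symm G
  have hg : ∀ v, g.val *ᵥ v = G v := fun v => by
    rw [← Symp.glEquiv_apply]
    exact LinearEquiv.congr_fun ((Symp.glEquiv (Fin d ⊕ Fin d) F).apply_symm_apply G) v
  have hgi : ∀ v, g.val *ᵥ ((g⁻¹ : GL (Fin d ⊕ Fin d) F).val *ᵥ v) = v := fun v => by
    rw [Matrix.mulVec_mulVec, Units.mul_inv, Matrix.one_mulVec]
  have hν0 : ν ≠ 0 := fun h => hν 0 (by rw [h, mul_zero])
  have hε : ε ≠ 0 := fun h => by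
    have h1 := hXJ (J e0)
    rw [hJ, h, zero_smul, Matrix.toLin'_apply, Matrix.mulVec_smul, smul_eq_zero] at h1
    refine he0 ?_
    have h3 := congrArg ((x⁻¹ : GL (Fin d ⊕ Fin d) F).val *ᵥ ·) (h1.resolve_left hν0)
    simpa [Matrix.mulVec_mulVec] using h3
  refine ⟨g, mem_sp.2 fun u v => by rw [hg, hg, hG], Cfsg.Agent.S5976.norm_of_comm hmem _ hε ?_⟩
  refine Matrix.ext_iff_mulVec.2 fun v => ?_
  simp only [Units.val_mul, Matrix.smul_mulVec, ← Matrix.mulVec_mulVec]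
  refine G.injective ?_
  have e : ∀ w, G (T₀ *ᵥ w) = J (G w) := fun w => by rw [← hGJ]; rfl
  rw [map_smul, e, ← hg ((g⁻¹ : GL (Fin d ⊕ Fin d) F).val *ᵥ _), hgi, ← hg ((g⁻¹ : GL (Fin d ⊕ Fin d) F).val *ᵥ _), hgi, hg, hg, e]
  exact hXJ (G v)

end Plane

/-- Elements of prime order of PSp_n(q) and the field-extension subgroups of type Sp_{n/k}(q^k). Here `T = PSp_{2d}(F)` for a field `F` with `q` elements (`d ≥ 2`, `(d, q) ≠ (2, 2)`), realised through the matrices preserving the standard alternating form `f`; `k` is a prime and `K` is a subalgebra of the `2d × 2d` matrices that is a field of degree `k` over `F` whose elements are self-adjoint for `f` and satisfy `f(a v, v) = 0` (so `F^{2d}` becomes a vector space over `K ≅ F_{q^k}` on which `f` is the trace of a `K`-bilinear alternating form); `H` is the subgroup of `T` normalizing `K` — the symplectic maps that are `K`-linear or `K`-semilinear, a subgroup of type Sp_{2d/k}(q^k) (maximality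 is not assumed). Ω is the set of cosets of `H` in `T`, so an element of `T` of prime order `r` (`x ∈ T` with `x^r` scalar, `x` not scalar) fixes a point of Ω exactly when some `T`-conjugate of `x` normalizes `K`. Let `r` be a prime dividing the index of `H`. Then every element of `T` of order `r` fixes a point of Ω if and only if `r = 2`, `d = 2`, `k = 2` and `q` is odd. -/
theorem result {F : Type*} [Field F] [Fintype F] {p : ℕ} [Fact p.Prime] [CharP F p] {q : ℕ} (hq : Fintype.card F = q)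
    (d : ℕ) (hd : 2 ≤ d) (hT : (d, q) ≠ (2, 2)) (k : ℕ) (hk : k.Prime)
    (K : Subalgebra F (Matrix (Fin d ⊕ Fin d) (Fin d ⊕ Fin d) F)) (hK : Cfsg.Geo.IsFieldSubalgebra k K)
    (hKf : Cfsg.Geo.IsSelfAdjointFor (Cfsg.sympForm d F) K) (hKalt : ∀ a ∈ K, ∀ v : Fin d ⊕ Fin d → F, Cfsg.sympForm d F (a *ᵥ v) v = 0)
    (r : ℕ) [Fact r.Prime]
    (hΩ : r ∣ (Cfsg.Geo.subalgebraNormalizer K).relIndex (Cfsg.spGL d F)) :
    (∀ x ∈ Cfsg.spGL d F, (∃ z : F, ((x ^ r : GL (Fin d ⊕ Fin d) F) : Matrix (Fin d ⊕ Fin d) (Fin d ⊕ Fin d) F) = z • (1 : Matrix (Fin d ⊕ Fin d) (Fin d ⊕ Fin d) F)) →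
      (∀ z : F, (x : Matrix (Fin d ⊕ Fin d) (Fin d ⊕ Fin d) F) ≠ z • (1 : Matrix (Fin d ⊕ Fin d) (Fin d ⊕ Fin d) F)) →
      ∃ g ∈ Cfsg.spGL d F, g⁻¹ * x * g ∈ Cfsg.Geo.subalgebraNormalizer K) ↔
    (r = 2 ∧ d = 2 ∧ k = 2 ∧ Odd q) := by
  classical
  subst hq
  obtain ⟨Θ, P, G⟩ := SelfAdj.exists_gen hK hk
  constructor
  · intro hall
    have hrp : r ≠ p := fun h => by
      subst h
      obtain ⟨x, hx, hz, hns, hbad⟩ := transvection_bad (p := r) hd hK G
      obtain ⟨g, -, hgx⟩ := hall x hx hz hns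
      exact hbad g hgx
    by_cases hr2 : r = 2
    · subst hr2
      have hodd : Odd (Fintype.card F) := by
        obtain ⟨f, -, hf⟩ := FiniteField.card F p
        rw [hf]
        exact ((Fact.out : p.Prime).odd_of_ne_two (Ne.symm hrp)).pow
      have h2 : (2 : F) ≠ 0 := Orth.two_ne_zero_of_odd_card hodd
      have hd2 : d = 2 := by
        by_contra hne
        obtain ⟨x, hx, hz, hns, hbad⟩ := invol_bad h2 (by omega) hK G hKf hKalt
        obtain ⟨g, hg, hgx⟩ := hall x hx hz hns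
        exact hbad g hg hgx
      obtain ⟨e, hke, -⟩ := SelfAdj.exists_card hK hk.pos hKf hKalt
      have hk2 : k = 2 := by
        have := Nat.le_of_dvd two_pos (show k ∣ 2 from ⟨e, by omega⟩)
        have := hk.two_le
        omega
      exact ⟨rfl, hd2, hk2, hodd⟩
    exfalso
    set i := orderOf (Fintype.card F : ZMod r) with hi
    set c := if Even i then i else 2 * i with hc
    by_cases hfree' : k ∣ c / 2 ∨ 2 * d < c
    · exact index_free p hK hk hKf hKalt hrp hi hc hfree' hΩ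
    · push Not at hfree'
      obtain ⟨x, hx, hz, hns, hbad⟩ := semi_bad p hd hk G hKf hr2 hrp hi hc hfree'.1 hfree'.2
      obtain ⟨g, hg, hgx⟩ := hall x hx hz hns
      exact hbad g hg hgx
  · rintro ⟨rfl, hd2, rfl, hodd⟩ x hx ⟨z, hz⟩ -
    exact fixes_two (Orth.two_ne_zero_of_odd_card hodd) hd2 hK hKf hx hz

end Cfsg.Agent.S5975
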