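import Cfsg.Statements.S5977
import Cfsg.Agent.Lib.Linear.SkewField.OrthRootInvol
import Cfsg.Agent.Lib.Linear.SkewField.OrthRootArith
import Cfsg.Agent.Lib.Linear.IsotropicFix.OrthTypes
import Cfsg.Agent.Lib.Linear.OrthOdd

set_option autoImplicit false
open scoped MatrixGroups
open Cfsg

namespace Cfsg.Agent.S5977

open Module Cfsg.Lib.Linear Cfsg.Lib.Linear.Orth Cfsg.Lib.Linear.SkewField.OrthRoot
open scoped Matrix

universe u

/-- A self-adjoint root stabilising a singular half. -/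
theorem exists_split_root {F : Type u} [Field F] (e : ℕ) (ν : F) :
    ∃ M : Matrix (Fin (2 * e) ⊕ Fin (2 * e)) (Fin (2 * e) ⊕ Fin (2 * e)) F,
      (∀ v, M *ᵥ (M *ᵥ v) = ν • v) ∧
      (∀ u v, QuadraticMap.polar (Cfsg.quadFormPlus (2 * e) F) (M *ᵥ u) v =
        QuadraticMap.polar (Cfsg.quadFormPlus (2 * e) F) u (M *ᵥ v)) ∧
      ∀ v : Fin (2 * e) ⊕ Fin (2 * e) → F, v ∘ Sum.inr = 0 → (M *ᵥ v) ∘ Sum.inr = 0 := by
  classical
  let R : Matrix (Fin (2 * e)) (Fin (2 * e)) F :=
    Matrix.reindex finProdFinEquiv finProdFinEquiv (Matrix.blockDiagonal fun _ : Fin e => (!![0, ν; 1, 0] : Matrix (Fin 2) (Fin 2) F))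
  have hRR : R * R = ν • 1 := by
    have h : (!![0, ν; 1, 0] : Matrix (Fin 2) (Fin 2) F) * !![0, ν; 1, 0] = ν • 1 := by
      ext i j; fin_cases i <;> fin_cases j <;> simp
    simp only [R, Matrix.reindex_apply, Matrix.submatrix_mul_equiv, ← Matrix.blockDiagonal_mul, h]
    rw [show (fun _ : Fin e => ν • (1 : Matrix (Fin 2) (Fin 2) F)) = ν • (1 : Fin e → Matrix (Fin 2) (Fin 2) F) from rfl,
      Matrix.blockDiagonal_smul, Matrix.blockDiagonal_one]
    simp only [Matrix.submatrix_smul, Pi.smul_apply, Matrix.submatrix_one_equiv]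
  refine ⟨Matrix.fromBlocks R 0 0 Rᵀ, fun v => ?_, fun u v => ?_, fun v hv => ?_⟩
  · rw [Matrix.mulVec_mulVec, Matrix.fromBlocks_multiply]
    simp only [Matrix.mul_zero, Matrix.zero_mul, add_zero, zero_add, ← Matrix.transpose_mul, hRR, Matrix.transpose_smul,
      Matrix.transpose_one]
    rw [show (0 : Matrix (Fin (2 * e)) (Fin (2 * e)) F) = ν • 0 from (smul_zero _).symm, ← Matrix.fromBlocks_smul,
      Matrix.fromBlocks_one, Matrix.smul_mulVec, Matrix.one_mulVec]
  · have hp : ∀ a b : Fin (2 * e) ⊕ Fin (2 * e) → F, QuadraticMap.polar (Cfsg.quadFormPlus (2 * e) F) a b =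
        (a ∘ Sum.inl) ⬝ᵥ (b ∘ Sum.inr) + (a ∘ Sum.inr) ⬝ᵥ (b ∘ Sum.inl) := fun a b => by
      rw [polar_plus_apply, Finset.sum_add_distrib]; rfl
    simp only [hp, Matrix.fromBlocks_mulVec, Sum.elim_comp_inl, Sum.elim_comp_inr, Matrix.zero_mulVec, add_zero, zero_add]
    rw [Matrix.dotProduct_mulVec (u ∘ Sum.inl), Matrix.vecMul_transpose, Matrix.dotProduct_mulVec (u ∘ Sum.inr),
      ← Matrix.mulVec_transpose]
  · simp [Matrix.fromBlocks_mulVec, hv]

/-- For `4 ∣ i` the index is prime to `r`. -/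
theorem index_free {F : Type u} [Field F] [Fintype F] {r : ℕ} [Fact r.Prime] (hrq : (Fintype.card F : ZMod r) ≠ 0)
    (hr2 : r ≠ 2) (h4 : 4 ∣ orderOf (Fintype.card F : ZMod r)) {d : ℕ} (hd : 4 ≤ d)
    {B : LinearMap.BilinForm F (Fin d ⊕ Fin d → F)} (C : Space (Cfsg.quadFormPlus d F) B) (h2 : (2 : F) ≠ 0)
    {K : Subalgebra F (Matrix (Fin d ⊕ Fin d) (Fin d ⊕ Fin d) F)} {Θ : Matrix (Fin d ⊕ Fin d) (Fin d ⊕ Fin d) F} {ν : F}
    (R : Root (Cfsg.quadFormPlus d F) B K Θ ν)
    (hΩ : r ∣ (Cfsg.Geo.subalgebraNormalizer K).relIndex (Cfsg.Geo.omegaGL (Cfsg.quadFormPlus d F))) : False := by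
  classical
  haveI := fact_of_ns R.ns
  letI : Fintype (Ext ν) := Fintype.ofFinite _
  have hn : Fintype.card (Fin d ⊕ Fin d) = 2 * d := by simp; omega
  have hJ : ∀ v, Matrix.toLin' Θ (Matrix.toLin' Θ v) = ν • v := fun v => by
    simp only [Matrix.toLin'_apply]; exact R.sq v
  have hs : ∀ u v, B (Matrix.toLin' Θ u) v = B u (Matrix.toLin' Θ v) := fun u v => by
    simp only [Matrix.toLin'_apply]; exact R.sa u v
  have hG := (counts_plus (F := F) d).2
  rw [Nat.card_eq_fintype_card (α := F)] at hG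
  rcases Nat.even_or_odd d with ⟨e, he⟩ | ⟨e, he⟩
  · obtain rfl : d = 2 * e := by omega
    rcases std_even C h2 (Matrix.toLin' Θ) hJ hs (e := e) (by omega) hn with hstd | ⟨z, hz, hstd⟩
    · have hX := (counts_plus (F := Ext ν) e).2
      rw [card_ext] at hX
      obtain ⟨a, Y, hY, he'⟩ := arith_plus_even hrq h4 e (2 * e * (2 * e - 1)) (e * (e - 1))
      refine index_prime_to C h2 (by omega) _ hr2 hrq (Nat.card_pos (α := ↥(Cfsg.isometryGroup (Ext ν) _))).ne'
        (card_dvd_of_std R hstd) hY (a := a) ?_ hΩ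
      rw [hG, hX]
      exact he'
    · obtain ⟨M, hMM, hMs, hMW⟩ := exists_split_root e ν
      obtain ⟨G, hGQ, hGJ⟩ := roots_conj (ν := ν) C h2 hn (by omega) (Matrix.toLin' M) (Matrix.toLin' Θ)
        (fun v => by simp only [Matrix.toLin'_apply]; exact hMM v)
        (fun u v => by simp only [Matrix.toLin'_apply, ← C.polar]; exact hMs u v) hJ hs
      let ιl : (Fin (2 * e) → F) →ₗ[F] (Fin (2 * e) ⊕ Fin (2 * e) → F) :=
        { toFun := fun x => Sum.elim x 0
          map_add' := fun x y => by funext s; rcases s with s | s <;> simp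
          map_smul' := fun c x => by funext s; rcases s with s | s <;> simp }
      let f : (Fin (2 * e) → F) →ₗ[F] (Fin (2 * e) ⊕ Fin (2 * e) → F) := G.toLinearMap ∘ₗ ιl
      have hf : Function.Injective f := fun x y h => funext fun i => congrFun (G.injective h) (Sum.inl i)
      obtain ⟨DS, CS⟩ := exists_space_minus (e - 1) 1 z hz
      obtain ⟨A, hAd, hA⟩ := singular_over h2 CS hstd (W := LinearMap.range f) (by
          rintro _ ⟨x, rfl⟩
          refine ⟨(M *ᵥ Sum.elim x 0) ∘ Sum.inl, ?_⟩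
          show G (Sum.elim _ 0) = _
          rw [show Matrix.toLin' Θ (f x) = G (Matrix.toLin' M (Sum.elim x 0)) from (hGJ _).symm, Matrix.toLin'_apply]
          congr 1
          funext s; rcases s with s | s
          · rfl
          · exact (congrFun (hMW (Sum.elim x 0) rfl) s).symm) (by
          rintro _ ⟨x, rfl⟩ _ ⟨y, rfl⟩
          rw [← C.polar]
          show QuadraticMap.polar _ (G (Sum.elim x 0)) (G (Sum.elim y 0)) = 0
          simp only [QuadraticMap.polar, ← map_add, hGQ]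
          simp [Cfsg.quadFormPlus])
      have hb := Cfsg.Lib.Linear.AutPO.minus_ts_bound hz CS hA
      rw [LinearMap.finrank_range_of_inj hf, finrank_fintype_fun_eq_card, Fintype.card_fin] at hAd
      omega
  · subst he
    have hX := (counts_odd (F := Ext ν) (ext_two h2) e).2.2
    rw [card_ext] at hX
    obtain ⟨a, Y, hY, he'⟩ := arith_plus_odd hr2 hrq h4 e ((2 * e + 1) * (2 * e + 1 - 1)) (1 * e + e * (e - 1))
    refine index_prime_to C h2 (by omega) _ hr2 hrq (Nat.card_pos (α := ↥(Cfsg.isometryGroup (Ext ν) _))).ne'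
      (card_dvd_of_std R (std_odd C h2 (Matrix.toLin' Θ) hJ hs hn)) hY (a := a) ?_ hΩ
    rw [hG, hX]
    exact he'

/-- Elements of prime order of PΩ⁺_n(q), q odd, and the field-extension subgroups of degree 2 (orthogonal type over F_{q²}). Here `T = PΩ⁺_{2d}(F)` for a field `F` with `q` elements, `q` odd, `d ≥ 4`, realised through `Ω⁺_{2d}(q)`, the commutator subgroup of the isometry group of `Q = Σ xᵢyᵢ`, with polar form `B`; `K` is a subalgebra of the `2d × 2d` matrices that is a field of degree 2 over `F` whose elements are self-adjoint for `B` (so `F^{2d}` becomes a `d`-dimensional space over `K ≅ F_{q²}` on which `B` is the trace of a `K`-bilinear symmetric form); `H` is the subgroup of `Ω⁺_{2d}(q)` normalizing `K` — the elements of `Ω⁺_{2d}(q)` that are `K`-linear or `K`-semilinear, a subgroup of orthogonal type over the quadratic extension (maximality is not assumed). Ω is the set of cosets of `H`, so an element of `T` of prime order `r` (`x ∈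 Ω⁺_{2d}(q)` with `x^r` scalar, `x` not scalar) fixes a point of Ω exactly when some `Ω⁺_{2d}(q)`-conjugate of `x` normalizes `K`. Let `r` be a prime dividing the index of `H`. Then every element of `T` of order `r` fixes a point of Ω if and only if `r = 2`. -/
theorem result {F : Type*} [Field F] [Fintype F] {p : ℕ} [Fact p.Prime] [CharP F p] {q : ℕ} (hq : Fintype.card F = q)
    (hodd : Odd q) (d : ℕ) (hd : 4 ≤ d)
    (K : Subalgebra F (Matrix (Fin d ⊕ Fin d) (Fin d ⊕ Fin d) F)) (hK : Cfsg.Geo.IsFieldSubalgebra 2 K)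
    (hKf : Cfsg.Geo.IsSelfAdjointFor (QuadraticMap.polar (Cfsg.quadFormPlus d F)) K)
    (r : ℕ) [Fact r.Prime]
    (hΩ : r ∣ (Cfsg.Geo.subalgebraNormalizer K).relIndex (Cfsg.Geo.omegaGL (Cfsg.quadFormPlus d F))) :
    (∀ x ∈ Cfsg.Geo.omegaGL (Cfsg.quadFormPlus d F), (∃ z : F, ((x ^ r : GL (Fin d ⊕ Fin d) F) : Matrix (Fin d ⊕ Fin d) (Fin d ⊕ Fin d) F) = z • (1 : Matrix (Fin d ⊕ Fin d) (Fin d ⊕ Fin d) F)) →
      (∀ z : F, (x : Matrix (Fin d ⊕ Fin d) (Fin d ⊕ Fin d) F) ≠ z • (1 : Matrix (Fin d ⊕ Fin d) (Fin d ⊕ Fin d) F)) →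
      ∃ g ∈ Cfsg.Geo.omegaGL (Cfsg.quadFormPlus d F), g⁻¹ * x * g ∈ Cfsg.Geo.subalgebraNormalizer K) ↔ r = 2 := by
  classical
  subst hq
  obtain ⟨B, C⟩ := exists_space_plus (F := F) d
  have h2 : (2 : F) ≠ 0 := two_ne_zero_of_odd_card hodd
  have hn : Fintype.card (Fin d ⊕ Fin d) = 2 * d := by simp; omega
  obtain ⟨Θ, ν, R⟩ := exists_root C h2 hK hKf
  have hrP : r.Prime := Fact.out
  refine ⟨fun hall => ?_, fun hr x hx ⟨z, hz⟩ _ => ?_⟩
  swap
  · subst hr
    exact R.two_fixes hn (by omega) hx hz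
  by_contra hr2
  by_cases hrp : r = p
  · subst hrp
    obtain ⟨x, hx, hxz, hns, hbad⟩ := R.p_bad r (hrP.odd_of_ne_two hr2) (by omega)
      (u := Pi.single (Sum.inl ⟨0, by omega⟩) 1) (w := Pi.single (Sum.inl ⟨1, by omega⟩) 1) (z := Pi.single (Sum.inr ⟨1, by omega⟩) 1)
      (by simp [Cfsg.quadFormPlus, Pi.single_apply]) (by simp [Cfsg.quadFormPlus, Pi.single_apply])
      (by rw [← C.polar]; simp [polar_plus_apply, Pi.single_apply, Cfsg.quadFormPlus, Cfsg.quadFormMinus])
      (by simp) (by rw [← C.polar]; simp [polar_plus_apply, Pi.single_apply, Cfsg.quadFormPlus, Cfsg.quadFormMinus])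
      (by rw [← C.polar]; simp [polar_plus_apply, Pi.single_apply, Cfsg.quadFormPlus, Cfsg.quadFormMinus])
    obtain ⟨g, hg, hgx⟩ := hall x hx hxz hns
    exact hbad g hg hgx
  have hrq : (Fintype.card F : ZMod r) ≠ 0 := fun h => by
    obtain ⟨k, -, hk⟩ := FiniteField.card F p
    rw [ZMod.natCast_eq_zero_iff, hk] at h
    exact hrp ((Nat.prime_dvd_prime_iff_eq hrP Fact.out).mp (hrP.dvd_of_dvd_pow h))
  have h0 := card_zero C h2 (by omega) _ hr2 hΩ
  rw [(counts_plus (F := F) d).2, Nat.card_eq_fintype_card (α := F)] at h0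
  obtain ⟨hc1, hc2⟩ := cond_plus hr2 hrq h0
  obtain ⟨i, hi⟩ : ∃ i, i = orderOf (Fintype.card F : ZMod r) := ⟨_, rfl⟩
  rw [← hi] at hc1 hc2
  by_cases h4 : 4 ∣ i
  · exact index_free hrq hr2 (hi ▸ h4) hd C h2 R hΩ
  have hco : Odd ((if Even i then i else 2 * i) / 2) := by
    rcases Nat.even_or_odd i with he | ho
    · rw [if_pos he, Nat.odd_iff]
      obtain ⟨k, hk⟩ := he
      omega
    · rw [if_neg (Nat.not_even_iff_odd.2 ho), show 2 * i / 2 = i by omega]
      exact ho
  have hcd : (if Even i then i else 2 * i) ≤ 2 * d := by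
    rcases Nat.even_or_odd i with he | ho
    · rw [if_pos he]; have := hc2 he; omega
    · rw [if_neg (Nat.not_even_iff_odd.2 ho)]; have := hc1 ho; omega
  obtain ⟨x, hx, hxz, hns, hbad⟩ := R.semi_bad p hr2 hrp hn (by omega) (even_two_mul d) hi rfl hco hcd
      fun hζ uq huq hiu w hwq hwn f hf hf0 =>
        IsoFix.real_plus hζ hr2 huq w hwq hwn d hf (by
          rw [hiu]
          rcases Nat.even_or_odd i with he | ho
          · left
            have := hc2 he
            rw [hf0, if_pos he]; omega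
          · exact Or.inr (Or.inl ho))
  obtain ⟨g, hg, hgx⟩ := hall x hx hxz hns
  exact hbad g hg hgx

end Cfsg.Agent.S5977
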