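import Cfsg.Statements.S5978
import Cfsg.Agent.Lib.Linear.SkewField.OrthRootInvol
import Cfsg.Agent.Lib.Linear.SkewField.OrthRootArith
import Cfsg.Agent.Lib.Linear.IsotropicFix.OrthTypes
import Cfsg.Agent.Lib.Linear.OrthOdd

set_option autoImplicit false
open scoped MatrixGroups
open Cfsg

namespace Cfsg.Agent.S5978

open Module Cfsg.Lib.Linear Cfsg.Lib.Linear.Orth Cfsg.Lib.Linear.SkewField.OrthRoot
open scoped Matrix

universe u

/-- For `4 ∣ i` the index is prime to `r`. -/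
theorem index_free {F : Type u} [Field F] [Fintype F] {r : ℕ} [Fact r.Prime] (hrq : (Fintype.card F : ZMod r) ≠ 0)
    (hr2 : r ≠ 2) (h4 : 4 ∣ orderOf (Fintype.card F : ZMod r)) {d : ℕ} (hd : 4 ≤ d) {a b : F}
    (hab : ∀ x y : F, x ^ 2 + a * x * y + b * y ^ 2 = 0 → x = 0 ∧ y = 0)
    {B : LinearMap.BilinForm F ((Fin (d - 1) ⊕ Fin (d - 1)) ⊕ Fin 2 → F)}
    (C : Space (Cfsg.quadFormMinus (d - 1) F a b) B) (h2 : (2 : F) ≠ 0)
    {K : Subalgebra F (Matrix ((Fin (d - 1) ⊕ Fin (d - 1)) ⊕ Fin 2) ((Fin (d - 1) ⊕ Fin (d - 1)) ⊕ Fin 2) F)}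
    {Θ : Matrix ((Fin (d - 1) ⊕ Fin (d - 1)) ⊕ Fin 2) ((Fin (d - 1) ⊕ Fin (d - 1)) ⊕ Fin 2) F} {ν : F}
    (R : Root (Cfsg.quadFormMinus (d - 1) F a b) B K Θ ν)
    (hΩ : r ∣ (Cfsg.Geo.subalgebraNormalizer K).relIndex (Cfsg.Geo.omegaGL (Cfsg.quadFormMinus (d - 1) F a b))) :
    False := by
  classical
  haveI := fact_of_ns R.ns
  letI : Fintype (Ext ν) := Fintype.ofFinite _
  have hn : Fintype.card ((Fin (d - 1) ⊕ Fin (d - 1)) ⊕ Fin 2) = 2 * d := by simp; omega
  have hJ : ∀ v, Matrix.toLin' Θ (Matrix.toLin' Θ v) = ν • v := fun v => by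
    simp only [Matrix.toLin'_apply]; exact R.sq v
  have hs : ∀ u v, B (Matrix.toLin' Θ u) v = B u (Matrix.toLin' Θ v) := fun u v => by
    simp only [Matrix.toLin'_apply]; exact R.sa u v
  have hG := (counts_minus (F := F) (d - 1) hab).2.2
  rw [Nat.card_eq_fintype_card (α := F)] at hG
  rcases Nat.even_or_odd d with ⟨e, he⟩ | ⟨e, he⟩
  · obtain rfl : d = 2 * e := by omega
    rcases std_even C h2 (Matrix.toLin' Θ) hJ hs (e := e) (by omega) hn with hstd | ⟨z, hz, hstd⟩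
    · obtain ⟨ψ, c, hc, hω, hB⟩ := hstd
      obtain ⟨DS, CS⟩ := exists_space_plus (F := Ext ν) e
      let ιl : (Fin e → Ext ν) →ₗ[F] (Fin e ⊕ Fin e → Ext ν) :=
        { toFun := fun x => Sum.elim x 0
          map_add' := fun x y => by funext s; rcases s with s | s <;> simp
          map_smul' := fun c x => by funext s; rcases s with s | s <;> simp }
      let f : (Fin e → Ext ν) →ₗ[F] _ := ψ.toLinearMap ∘ₗ ιl
      have hf : Function.Injective f := fun x y h => funext fun i => congrFun (ψ.injective h) (Sum.inl i)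
      have hb := Cfsg.Lib.Linear.AutPO.minus_ts_bound hab C (A := LinearMap.range f) (by
        rintro _ ⟨x, rfl⟩
        refine (mul_eq_zero.1 ?_).resolve_left h2
        rw [← C.self, show f x = ψ (Sum.elim x 0) from rfl, hB]
        simp [polar_plus_apply])
      rw [LinearMap.finrank_range_of_inj hf, finrank_pi_fintype, Finset.sum_const, Finset.card_univ, Fintype.card_fin,
        QuadraticAlgebra.finrank_eq_two, smul_eq_mul] at hb
      omega
    · obtain ⟨k, rfl⟩ : ∃ k, e = k + 1 := ⟨e - 1, by omega⟩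
      have hX := (counts_minus (F := Ext ν) (k + 1 - 1) (a := 1) (b := z) hz).2.2
      rw [card_ext] at hX
      obtain ⟨a', Y, hY, he'⟩ := arith_minus_even hrq h4 k ((2 * (2 * k + 1) + (2 * k + 1) * (2 * k + 1 - 1)))
        (2 * k + k * (k - 1))
      refine index_prime_to C h2 (by omega) _ hr2 hrq (Nat.card_pos (α := ↥(Cfsg.isometryGroup (Ext ν) _))).ne'
        (card_dvd_of_std R hstd) hY (a := a') ?_ hΩ
      rw [hG, hX, show 2 * (k + 1) - 1 = 2 * k + 1 by omega, show k + 1 - 1 = k by omega]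
      exact he'
  · subst he
    have hX := (counts_odd (F := Ext ν) (ext_two h2) e).2.2
    rw [card_ext] at hX
    obtain ⟨a', Y, hY, he'⟩ := arith_minus_odd hrq h4 e (2 * (2 * e) + 2 * e * (2 * e - 1)) (1 * e + e * (e - 1))
    refine index_prime_to C h2 (by omega) _ hr2 hrq (Nat.card_pos (α := ↥(Cfsg.isometryGroup (Ext ν) _))).ne'
      (card_dvd_of_std R (std_odd C h2 (Matrix.toLin' Θ) hJ hs hn)) hY (a := a') ?_ hΩ
    rw [hG, hX, show 2 * e + 1 - 1 = 2 * e by omega]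
    exact he'

/-- Elements of prime order of PΩ⁻_n(q), q odd, and the field-extension subgroups of degree 2 (orthogonal type over F_{q²}). Here `T = PΩ⁻_{2d}(F)` for a field `F` with `q` elements, `q` odd, `d ≥ 4`, realised through `Ω⁻_{2d}(q)`, the commutator subgroup of the isometry group of `Q = Σ_{i<d−1} xᵢyᵢ + z₁² + a z₁z₂ + b z₂²` with `z₁² + a z₁z₂ + b z₂²` anisotropic, with polar form `B`; `K` is a subalgebra of the `2d × 2d` matrices that is a field of degree 2 over `F` whose elements are self-adjoint for `B` (so `F^{2d}` becomes a `d`-dimensional space over `K ≅ F_{q²}` on which `B` is the trace of a `K`-bilinear symmetric form); `H` is the subgroup of `Ω⁻_{2d}(q)` normalizing `K` — the elements of `Ω⁻_{2d}(q)` that are `K`-linear or `K`-semilinear, a subgroup of orthogonal type over the quadratic extension (maximality is not assumed). Ω is the set of cosets of `H`, so an element of `T` of prime order `r` (`x ∈ Ω⁻_{2d}(q)`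 with `x^r` scalar, `x` not scalar) fixes a point of Ω exactly when some `Ω⁻_{2d}(q)`-conjugate of `x` normalizes `K`. Let `r` be a prime dividing the index of `H`. Then every element of `T` of order `r` fixes a point of Ω if and only if `r = 2`. -/
theorem result {F : Type*} [Field F] [Fintype F] {p : ℕ} [Fact p.Prime] [CharP F p] {q : ℕ} (hq : Fintype.card F = q)
    (hodd : Odd q) (d : ℕ) (hd : 4 ≤ d) (a b : F) (hab : ∀ x y : F, x ^ 2 + a * x * y + b * y ^ 2 = 0 → x = 0 ∧ y = 0)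
    (K : Subalgebra F (Matrix ((Fin (d - 1) ⊕ Fin (d - 1)) ⊕ Fin 2) ((Fin (d - 1) ⊕ Fin (d - 1)) ⊕ Fin 2) F)) (hK : Cfsg.Geo.IsFieldSubalgebra 2 K)
    (hKf : Cfsg.Geo.IsSelfAdjointFor (QuadraticMap.polar (Cfsg.quadFormMinus (d - 1) F a b)) K)
    (r : ℕ) [Fact r.Prime]
    (hΩ : r ∣ (Cfsg.Geo.subalgebraNormalizer K).relIndex (Cfsg.Geo.omegaGL (Cfsg.quadFormMinus (d - 1) F a b))) :
    (∀ x ∈ Cfsg.Geo.omegaGL (Cfsg.quadFormMinus (d - 1) F a b), (∃ z : F, ((x ^ r : GL ((Fin (d - 1) ⊕ Fin (d - 1)) ⊕ Fin 2) F) : Matrix ((Fin (d - 1) ⊕ Fin (d - 1)) ⊕ Fin 2) ((Fin (d - 1) ⊕ Fin (d - 1)) ⊕ Fin 2) F) = z • (1 : Matrix ((Fin (d - 1) ⊕ Fin (d - 1)) ⊕ Fin 2) ((Fin (d - 1) ⊕ Fin (d - 1)) ⊕ Fin 2) F)) →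
      (∀ z : F, (x : Matrix ((Fin (d - 1) ⊕ Fin (d - 1)) ⊕ Fin 2) ((Fin (d - 1) ⊕ Fin (d - 1)) ⊕ Fin 2) F) ≠ z • (1 : Matrix ((Fin (d - 1) ⊕ Fin (d - 1)) ⊕ Fin 2) ((Fin (d - 1) ⊕ Fin (d - 1)) ⊕ Fin 2) F)) →
      ∃ g ∈ Cfsg.Geo.omegaGL (Cfsg.quadFormMinus (d - 1) F a b), g⁻¹ * x * g ∈ Cfsg.Geo.subalgebraNormalizer K) ↔ r = 2 := by
  classical
  subst hq
  obtain ⟨B, C⟩ := exists_space_minus (F := F) (d - 1) a b hab
  have h2 : (2 : F) ≠ 0 := two_ne_zero_of_odd_card hodd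
  have hn : Fintype.card ((Fin (d - 1) ⊕ Fin (d - 1)) ⊕ Fin 2) = 2 * d := by simp; omega
  obtain ⟨Θ, ν, R⟩ := exists_root C h2 hK hKf
  have hrP : r.Prime := Fact.out
  refine ⟨fun hall => ?_, fun hr x hx ⟨z, hz⟩ _ => ?_⟩
  swap
  · subst hr
    exact R.two_fixes hn (by omega) hx hz
  by_contra hr2
  by_cases hrp : r = p
  · subst hrp
    obtain ⟨x, hx, hxz, hns, hbad⟩ := R.p_bad r (hrP.odd_of_ne_two hr2) (by omega)
      (u := Pi.single (Sum.inl (Sum.inl ⟨0, by omega⟩)) 1) (w := Pi.single (Sum.inl (Sum.inl ⟨1, by omega⟩)) 1) (z := Pi.single (Sum.inl (Sum.inr ⟨1, by omega⟩)) 1)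
      (by simp [Cfsg.quadFormMinus, Pi.single_apply]) (by simp [Cfsg.quadFormMinus, Pi.single_apply])
      (by rw [← C.polar]; simp [QuadraticMap.polar, Pi.single_apply, Cfsg.quadFormPlus, Cfsg.quadFormMinus])
      (by simp) (by rw [← C.polar]; simp [QuadraticMap.polar, Pi.single_apply, Cfsg.quadFormPlus, Cfsg.quadFormMinus])
      (by rw [← C.polar]; simp [QuadraticMap.polar, Pi.single_apply, Cfsg.quadFormPlus, Cfsg.quadFormMinus])
    obtain ⟨g, hg, hgx⟩ := hall x hx hxz hns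
    exact hbad g hg hgx
  have hrq : (Fintype.card F : ZMod r) ≠ 0 := fun h => by
    obtain ⟨k, -, hk⟩ := FiniteField.card F p
    rw [ZMod.natCast_eq_zero_iff, hk] at h
    exact hrp ((Nat.prime_dvd_prime_iff_eq hrP Fact.out).mp (hrP.dvd_of_dvd_pow h))
  have h0 := card_zero C h2 (by omega) _ hr2 hΩ
  rw [(counts_minus (F := F) (d - 1) hab).2.2, Nat.card_eq_fintype_card (α := F)] at h0
  obtain ⟨hc1, hc2⟩ := cond_minus hr2 hrq h0
  obtain ⟨i, hi⟩ : ∃ i, i = orderOf (Fintype.card F : ZMod r) := ⟨_, rfl⟩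
  rw [← hi] at hc1 hc2
  by_cases h4 : 4 ∣ i
  · exact index_free hrq hr2 (hi ▸ h4) hd hab C h2 R hΩ
  have hco : Odd ((if Even i then i else 2 * i) / 2) := by
    rcases Nat.even_or_odd i with he | ho
    · rw [if_pos he, Nat.odd_iff]
      obtain ⟨k, hk⟩ := he
      omega
    · rw [if_neg (Nat.not_even_iff_odd.2 ho), show 2 * i / 2 = i by omega]
      exact ho
  have hcd : (if Even i then i else 2 * i) ≤ 2 * d := by
    rcases Nat.even_or_odd i with he | ho
    · rw [if_pos he]; have := hc2 he; omega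
    · rw [if_neg (Nat.not_even_iff_odd.2 ho)]; have := hc1 ho; omega
  obtain ⟨x, hx, hxz, hns, hbad⟩ := R.semi_bad p hr2 hrp hn (by omega) (even_two_mul d) hi rfl hco hcd
      fun hζ uq huq hiu w hwq hwn f hf hf0 =>
        IsoFix.real_minus hζ hr2 huq w hwq hwn (d - 1) hab (by rw [show 2 * (d - 1) + 2 = 2 * d by omega]; exact hf) (by
          rw [hiu, show 2 * (d - 1) + 2 = 2 * d by omega]
          rcases Nat.even_or_odd i with he | ho
          · have := hc2 he
            rcases Nat.lt_or_ge i (2 * d) with hlt | hge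
            · left; rw [hf0, if_pos he]; omega
            · right
              refine ⟨he, ?_⟩
              rw [show i = 2 * d by omega, Nat.div_self (by omega)]
              exact odd_one
          · left
            have := hc1 ho
            rw [hf0, if_neg (Nat.not_even_iff_odd.2 ho)]; omega)
  obtain ⟨g, hg, hgx⟩ := hall x hx hxz hns
  exact hbad g hg hgx

end Cfsg.Agent.S5978
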