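import Cfsg.Statements.S5979
import Cfsg.Agent.Lib.Linear.Tensor.PrimeElem
import Cfsg.Agent.Lib.Linear.SquareScalar
import Cfsg.Agent.Lib.Linear.SLBasic
import Cfsg.Agent.Lib.Linear.OrthOdd
import Cfsg.Agent.Lib.Linear.PrimeClasses.LinearReal
import Cfsg.Agent.Lib.Linear.IsotropicFix.OrthEven
import Cfsg.Agent.S5955
import Cfsg.Agent.S5969
-- import your own Cfsg.Agent.* helpers here

set_option autoImplicit false
open scoped MatrixGroups
open Cfsg

namespace Cfsg.Agent.S5979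

open Module Polynomial Cfsg.Lib.Linear Cfsg.Agent.Lib.Linear.PrimeClasses
open Cfsg.Lib.Linear.TensorFrame (pure₁)
open scoped Matrix Kronecker

universe u

variable {F : Type u} [Field F] {n : ℕ} {a b : ℕ} {e : Fin n ≃ Fin a × Fin b} {P : GL (Fin n) F}

theorem mem_sl {g : GL (Fin n) F} : g ∈ Cfsg.Geo.specialLinear (Fin n) F ↔ g.val.det = 1 := by
  show Matrix.GeneralLinearGroup.det g = 1 ↔ _
  rw [← Units.val_inj, Matrix.GeneralLinearGroup.val_det_apply, Units.val_one]

theorem small_bad {x : GL (Fin n) F} (W : Submodule F (Fin n → F)) (hW : ∀ v, x.val *ᵥ v - v ∈ W)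
    (ha : finrank F W < a) (hb : finrank F W < b) (hns : ∀ z : F, x.val ≠ z • 1) (g : GL (Fin n) F) :
    g⁻¹ * x * g ∉ Cfsg.Geo.tensorProductSubgroup a b e P := fun h => by
  let L : (Fin n → F) →ₗ[F] (Fin n → F) :=
    Matrix.toLin' ((g⁻¹ : GL (Fin n) F) : Matrix (Fin n) (Fin n) F)
  have h1 := Submodule.finrank_map_le L W
  obtain ⟨z, hz⟩ := TensorElem.scalar_of_small h (W.map L) (fun v => ⟨x.val *ᵥ (g.val *ᵥ v) - g.val *ᵥ v, hW _, by
    simp only [L, Matrix.toLin'_apply, Matrix.mulVec_sub, Units.val_mul, Matrix.mulVec_mulVec, Units.inv_mul,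
      Matrix.one_mulVec, mul_assoc]⟩) (by omega) (by omega)
  refine hns z ?_
  have h2 : x.val = g.val * (g⁻¹ * x * g : GL (Fin n) F).val * (g⁻¹ : GL (Fin n) F).val := by
    simp only [← Units.val_mul]
    congr 1
    group
  rw [h2, hz, mul_smul_comm, mul_one, smul_mul_assoc, Units.mul_inv]

/-- Invertible diagonal matrices. -/
theorem exists_diag_elem (w : Fin n → F) (hw : ∀ t, w t ≠ 0) : ∃ x : GL (Fin n) F, x.val = Matrix.diagonal w :=
  ⟨⟨Matrix.diagonal w, Matrix.diagonal fun t => (w t)⁻¹,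
    by rw [Matrix.diagonal_mul_diagonal, show (fun t => w t * (w t)⁻¹) = fun _ => 1 from funext fun t => mul_inv_cancel₀ (hw t), Matrix.diagonal_one],
    by rw [Matrix.diagonal_mul_diagonal, show (fun t => (w t)⁻¹ * w t) = fun _ => 1 from funext fun t => inv_mul_cancel₀ (hw t), Matrix.diagonal_one]⟩, rfl⟩

/-- Transvections. -/
theorem transvection_bad {p : ℕ} [Fact p.Prime] [CharP F p] (hn : 2 ≤ n) (ha : 2 ≤ a) (hb : 2 ≤ b) :
    ∃ x ∈ Cfsg.Geo.specialLinear (Fin n) F, (∃ z : F, ((x ^ p : GL (Fin n) F) : Matrix (Fin n) (Fin n) F) = z • 1) ∧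
      (∀ z : F, x.val ≠ z • 1) ∧ ∀ g : GL (Fin n) F, g⁻¹ * x * g ∉ Cfsg.Geo.tensorProductSubgroup a b e P := by
  classical
  set s : Fin n := ⟨0, by omega⟩
  set t : Fin n := ⟨1, by omega⟩
  have hst : s ≠ t := by simp [s, t]
  haveI : Nonempty (Fin n) := ⟨s⟩
  haveI : CharP (Matrix (Fin n) (Fin n) F) p := inferInstance
  set X := Matrix.transvection s t (1 : F)
  have hXp : X ^ p = 1 := by
    have h1 : (X - 1) ^ p = 0 := by
      obtain ⟨k, hk⟩ : ∃ k, p = 2 + k := ⟨p - 2, by have := (Fact.out : p.Prime).two_le; omega⟩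
      have h : (X - 1) = Matrix.single s t (1 : F) := by simp [X, Matrix.transvection]
      rw [hk, pow_add, pow_two, h, Matrix.single_mul_single_of_ne 1 s t s (Ne.symm hst), zero_mul]
    rw [sub_pow_char_of_commute (R := Matrix (Fin n) (Fin n) F) p (Commute.one_right _), one_pow, sub_eq_zero] at h1
    exact h1
  let x : GL (Fin n) F := Units.ofPowEqOne X p hXp (Fact.out : p.Prime).ne_zero
  have hns : ∀ z : F, x.val ≠ z • 1 := fun z hz => by
    change X = z • 1 at hz
    have := congrFun (congrFun hz s) t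
    simp [X, Matrix.transvection, Matrix.one_apply_ne hst] at this
  refine ⟨x, mem_sl.2 (Matrix.det_transvection_of_ne s t hst 1), ⟨1, by rw [Units.pow_ofPowEqOne, Units.val_one, one_smul]⟩, hns, fun g => ?_⟩
  have h1 : finrank F (Submodule.span F {(Pi.single s 1 : Fin n → F)}) = 1 := finrank_span_singleton (by simp)
  refine small_bad (Submodule.span F {(Pi.single s 1 : Fin n → F)}) (fun v => Submodule.mem_span_singleton.2 ⟨v t, ?_⟩)
    (by omega) (by omega) hns g
  show v t • Pi.single s 1 = X *ᵥ v - v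
  rw [show X = 1 + Matrix.single s t (1 : F) from rfl, Matrix.add_mulVec, Matrix.one_mulVec, add_sub_cancel_left]
  funext l
  by_cases hl : l = s
  · subst hl; simp [Matrix.mulVec, dotProduct, Matrix.single]
  · simp [Matrix.mulVec, dotProduct, Matrix.single, hl, Ne.symm hl]

/-- Involutions with two eigenvalues `-1`. -/
theorem invol_bad (h2 : (2 : F) ≠ 0) (hn : 3 ≤ n) (ha : 3 ≤ a) (hb : 3 ≤ b) :
    ∃ x ∈ Cfsg.Geo.specialLinear (Fin n) F, (∃ z : F, ((x ^ 2 : GL (Fin n) F) : Matrix (Fin n) (Fin n) F) = z • 1) ∧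
      (∀ z : F, x.val ≠ z • 1) ∧ ∀ g : GL (Fin n) F, g⁻¹ * x * g ∉ Cfsg.Geo.tensorProductSubgroup a b e P := by
  classical
  set s : Fin n := ⟨0, by omega⟩
  set t : Fin n := ⟨1, by omega⟩
  have hst : s ≠ t := by simp [s, t]
  let w : Fin n → F := fun l => if l = s ∨ l = t then -1 else 1
  obtain ⟨x, hx⟩ := exists_diag_elem w (fun l => by simp only [w]; split_ifs <;> simp)
  have hns : ∀ z : F, x.val ≠ z • 1 := fun z hz => by
    rw [hx] at hz
    have h1 := congrFun (congrFun hz s) s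
    have h3 := congrFun (congrFun hz ⟨2, by omega⟩) ⟨2, by omega⟩
    simp [w, s, t, Fin.ext_iff] at h1 h3
    exact h2 (by linear_combination h3 - h1)
  have hw2 : ∀ l, w l * w l = 1 := fun l => by simp only [w]; split_ifs <;> ring
  refine ⟨x, mem_sl.2 ?_, ⟨1, by rw [Units.val_pow_eq_pow_val, hx, Matrix.diagonal_pow, one_smul,
    show w ^ 2 = fun _ => (1 : F) from funext fun l => by rw [Pi.pow_apply, pow_two, hw2], Matrix.diagonal_one]⟩, hns, fun g => ?_⟩
  · rw [hx, Matrix.det_diagonal, ← Finset.prod_subset (Finset.subset_univ ({s, t} : Finset (Fin n)))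
      (fun l _ hl => by simp at hl; simp [w, hl]), Finset.prod_pair hst]
    simp [w]
  · let W := Submodule.span F {(Pi.single s 1 : Fin n → F)} ⊔ Submodule.span F {(Pi.single t 1 : Fin n → F)}
    have hW2 : finrank F W ≤ 2 := by
      have h3 : finrank F W ≤ _ := Submodule.finrank_add_le_finrank_add_finrank _ _
      have h4 : ∀ v : Fin n → F, finrank F (Submodule.span F {v}) ≤ 1 := fun v =>
        (finrank_span_le_card _).trans (by simp)
      have := h4 (Pi.single s 1)
      have := h4 (Pi.single t 1)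
      omega
    refine small_bad W (fun v => ?_) (by omega) (by omega) hns g
    have e : x.val *ᵥ v - v = (-2 * v s) • Pi.single s 1 + (-2 * v t) • Pi.single t 1 := by
      funext l
      rw [hx, Pi.sub_apply, Matrix.mulVec_diagonal]
      by_cases hl : l = s
      · subst hl; simp [w, hst]; ring
      by_cases hl' : l = t
      · subst hl'; simp [w, Ne.symm hst]; ring
      · simp [w, hl, hl']
    rw [e]
    exact Submodule.add_mem_sup (Submodule.smul_mem _ _ (Submodule.mem_span_singleton_self _))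
      (Submodule.smul_mem _ _ (Submodule.mem_span_singleton_self _))

/-- Scalars lie in the stabiliser. -/
theorem scalar_mem {z : F} (hz : z ≠ 0) (x : GL (Fin n) F) (hx : x.val = z • 1) :
    x ∈ Cfsg.Geo.tensorProductSubgroup a b e P := by
  classical
  let A : GL (Fin a) F := ⟨z • 1, z⁻¹ • 1, by rw [smul_mul_smul_comm, mul_inv_cancel₀ hz, one_smul, one_mul],
    by rw [smul_mul_smul_comm, inv_mul_cancel₀ hz, one_smul, one_mul]⟩
  let k : GL (Fin a × Fin b) F := ⟨A.val ⊗ₖ (1 : Matrix (Fin b) (Fin b) F), (A⁻¹).val ⊗ₖ (1 : Matrix (Fin b) (Fin b) F),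
    by rw [← Matrix.mul_kronecker_mul, Units.mul_inv, mul_one, Matrix.one_kronecker_one],
    by rw [← Matrix.mul_kronecker_mul, Units.inv_mul, mul_one, Matrix.one_kronecker_one]⟩
  have hmem : P * Cfsg.Geo.glReindex e.symm k * P⁻¹ ∈ Cfsg.Geo.tensorProductSubgroup a b e P :=
    ⟨_, ⟨k, ⟨A, 1, rfl⟩, rfl⟩, rfl⟩
  suffices x = P * Cfsg.Geo.glReindex e.symm k * P⁻¹ by rw [this]; exact hmem
  refine Units.ext (Matrix.ext_iff_mulVec.2 fun v => ?_)
  obtain ⟨m, rfl⟩ := TensorFrame.span₁ (e := e) (P := P) v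
  rw [hx, Matrix.smul_mulVec, Matrix.one_mulVec, Matrix.mulVec_sum, Finset.smul_sum]
  refine Finset.sum_congr rfl fun s _ => ?_
  rw [TensorElem.act_kron (z • (1 : Matrix (Fin a) (Fin a) F)) 1 k rfl, Matrix.smul_mulVec, Matrix.one_mulVec,
    Matrix.one_mulVec, map_smul, LinearMap.smul_apply]

/-- Scaled reflections. -/
theorem reflection_bad (h2 : (2 : F) ≠ 0) (hn : 2 ≤ n) (ha : 2 ≤ a) (hb : 2 ≤ b) {μ : F} (hμ : μ ^ n = -1) :
    ∃ x ∈ Cfsg.Geo.specialLinear (Fin n) F, (∃ z : F, ((x ^ 2 : GL (Fin n) F) : Matrix (Fin n) (Fin n) F) = z • 1) ∧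
      (∀ z : F, x.val ≠ z • 1) ∧ ∀ g : GL (Fin n) F, g⁻¹ * x * g ∉ Cfsg.Geo.tensorProductSubgroup a b e P := by
  classical
  have hμ0 : μ ≠ 0 := fun h => by
    rw [h, zero_pow (by omega)] at hμ
    exact one_ne_zero (neg_eq_zero.1 hμ.symm)
  set s : Fin n := ⟨0, by omega⟩
  set t : Fin n := ⟨1, by omega⟩
  let w : Fin n → F := fun l => if l = s then -1 else 1
  have hw0 : ∀ l, w l ≠ 0 := fun l => by simp only [w]; split_ifs <;> simp
  obtain ⟨x, hx⟩ := exists_diag_elem (fun l => μ * w l) (fun l => mul_ne_zero hμ0 (hw0 l))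
  obtain ⟨y, hy⟩ := exists_diag_elem w hw0
  have hns : ∀ z : F, y.val ≠ z • 1 := fun z hz => by
    rw [hy] at hz
    have h1 := congrFun (congrFun hz s) s
    have h3 := congrFun (congrFun hz t) t
    simp [w, s, t, Fin.ext_iff] at h1 h3
    exact h2 (by linear_combination h3 - h1)
  refine ⟨x, mem_sl.2 ?_, ⟨μ * μ, ?_⟩, fun z hz => hns (μ⁻¹ * z) ?_, fun g hg => ?_⟩
  · rw [hx, Matrix.det_diagonal, Finset.prod_mul_distrib, Finset.prod_const, Finset.card_univ, Fintype.card_fin, hμ]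
    simp [w]
  · rw [Units.val_pow_eq_pow_val, hx, Matrix.diagonal_pow, ← Matrix.diagonal_one, ← Matrix.diagonal_smul]
    congr 1
    funext l
    simp only [Pi.pow_apply, Pi.smul_apply, smul_eq_mul, w]
    split_ifs <;> ring
  · rw [hy, ← smul_smul, ← hz, hx, ← Matrix.diagonal_smul]
    congr 1
    funext l
    rw [Pi.smul_apply, smul_eq_mul, inv_mul_cancel_left₀ hμ0]
  · obtain ⟨c, hc⟩ := exists_diag_elem (fun _ : Fin n => μ⁻¹) (fun _ => inv_ne_zero hμ0)
    have hc' : c.val = μ⁻¹ • 1 := by rw [hc, ← Matrix.diagonal_one, ← Matrix.diagonal_smul]; simp [Pi.smul_def]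
    have hcm := scalar_mem (e := e) (P := P) (inv_ne_zero hμ0) c hc'
    have hyc : g⁻¹ * y * g = c * (g⁻¹ * x * g) := by
      refine Units.ext ?_
      simp only [Units.val_mul, hc', smul_mul_assoc, one_mul]
      rw [← smul_mul_assoc, ← mul_smul_comm, hx, hy, ← Matrix.diagonal_smul]
      congr 3
      funext l
      rw [Pi.smul_apply, smul_eq_mul, inv_mul_cancel_left₀ hμ0]
    have h1 : finrank F (Submodule.span F {(Pi.single s 1 : Fin n → F)}) = 1 := finrank_span_singleton (by simp)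
    refine small_bad (Submodule.span F {(Pi.single s 1 : Fin n → F)})
      (fun v => Submodule.mem_span_singleton.2 ⟨-2 * v s, ?_⟩) (by omega) (by omega) hns g (hyc ▸ mul_mem hcm hg)
    funext l
    rw [Pi.sub_apply, hy, Matrix.mulVec_diagonal]
    by_cases hl : l = s
    · subst hl; simp [w]; ring
    · simp [w, hl]

/-- Semisimple elements with simple eigenvalues. -/
theorem semi_bad [Fintype F] (p : ℕ) [Fact p.Prime] [CharP F p] (hab : n = a * b) (ha : 2 ≤ a) (hlt : a < b)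
    {r : ℕ} [Fact r.Prime] (hr2 : r ≠ 2) (hrp : r ≠ p) {i : ℕ}
    (hi : i = orderOf (Fintype.card F : ZMod r)) (hin : i ≤ n) :
    ∃ x ∈ Cfsg.Geo.specialLinear (Fin n) F, (∃ z : F, ((x ^ r : GL (Fin n) F) : Matrix (Fin n) (Fin n) F) = z • 1) ∧
      (∀ z : F, x.val ≠ z • 1) ∧ ∀ g : GL (Fin n) F, g⁻¹ * x * g ∉ Cfsg.Geo.tensorProductSubgroup a b e P := by
  classical
  obtain ⟨hr⟩ := (inferInstance : Fact r.Prime)
  let L := AlgebraicClosure F
  haveI : CharP L p := charP_of_injective_algebraMap (algebraMap F L).injective p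
  have hrL : (r : L) ≠ 0 := fun h =>
    hrp ((Nat.prime_dvd_prime_iff_eq Fact.out hr).mp ((CharP.cast_eq_zero_iff L p r).mp h)).symm
  haveI : NeZero (r : L) := ⟨hrL⟩
  obtain ⟨ζ, hζ⟩ := HasEnoughRootsOfUnity.exists_primitiveRoot L r
  have hrq : ¬ r ∣ Fintype.card F := fun h => by
    obtain ⟨k, -, hk⟩ := FiniteField.card F p
    rw [hk] at h
    exact hrp ((Nat.prime_dvd_prime_iff_eq hr Fact.out).mp (hr.dvd_of_dvd_pow h))
  let uq : (ZMod r)ˣ := Units.mk0 _ (fun h => hrq ((ZMod.natCast_eq_zero_iff _ _).1 h) : (Fintype.card F : ZMod r) ≠ 0)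
  have huq : (uq : ZMod r) = (Fintype.card F : ZMod r) := rfl
  have hiu : orderOf uq = i := by rw [hi, ← orderOf_units, huq]
  have hn4 : 6 ≤ n := hab ▸ Nat.mul_le_mul ha (by omega : 3 ≤ b)
  obtain ⟨w, hwq, hw1, hwo⟩ : ∃ w : (ZMod r)ˣ, (∃ k : ℕ, uq = w ^ k) ∧ w ≠ 1 ∧
      ((2 ≤ i ∧ orderOf w = i) ∨ (i ≤ 1 ∧ orderOf w = 2)) := by
    by_cases h : 2 ≤ i
    · exact ⟨uq, ⟨1, (pow_one _).symm⟩, fun h1 => by rw [← hiu, h1, orderOf_one] at h; omega, Or.inl ⟨h, hiu⟩⟩
    · have hu1 : uq = 1 := orderOf_eq_one_iff.1 (by have := orderOf_pos uq; omega)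
      have hne : (-1 : (ZMod r)ˣ) ≠ 1 := fun h1 => by
        have h1' : ((-1 : (ZMod r)ˣ) : ZMod r) = 1 := by rw [h1]; rfl
        rw [Units.val_neg, Units.val_one] at h1'
        have h2' : ((2 : ℕ) : ZMod r) = 0 := by push_cast; linear_combination -h1'
        exact hr2 ((Nat.prime_dvd_prime_iff_eq hr Nat.prime_two).1 ((ZMod.natCast_eq_zero_iff _ _).1 h2'))
      refine ⟨-1, ⟨0, by rw [pow_zero, hu1]⟩, hne, Or.inr ⟨by omega, ?_⟩⟩
      exact orderOf_eq_prime (by rw [pow_two, neg_mul_neg, one_mul]) hne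
  have hwn : orderOf w ≤ n := by omega
  obtain ⟨my, hmy, hmy0, hmy1⟩ := Cfsg.Agent.S5955.exists_inv_fixed w (n - orderOf w) 1
  rw [one_mul, Nat.sub_add_cancel hwn] at hmy
  obtain ⟨j, hj0, hj⟩ : ∃ j, j ≠ 0 ∧ my j = 1 := by
    by_contra h
    push Not at h
    have h1 := hmy.1
    rw [Finset.sum_eq_single (0 : ZMod r) (fun x _ hx => (hmy1 x hx).resolve_right (h x hx)) (by simp), hmy0] at h1
    have := orderOf_pos w
    omega
  obtain ⟨A, hA, hAm⟩ := exists_linear (F := F) hζ huq w hwq hmy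
  -- the determinant
  have hdet : A.det = 1 := by
    apply (algebraMap F L).injective
    rw [RingHom.map_det, map_one, RingHom.mapMatrix_apply, Matrix.det_eq_sign_charpoly_coeff, Matrix.charpoly_map, hAm,
      coeff_zero_eq_eval_zero, Fintype.card_fin, Pm, eval_prod]
    have e1 : ∀ x : ZMod r, eval 0 ((X - C (zp ζ x)) ^ my x) = (-1) ^ my x * zp ζ ((my x : ZMod r) * x) := fun x => by
      rw [eval_pow, eval_sub, eval_X, eval_C, zero_sub, neg_pow, zp_pow hζ]
    rw [Finset.prod_congr rfl (fun x _ => e1 x), Finset.prod_mul_distrib, Finset.prod_pow_eq_pow_sum, hmy.1,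
      ← mul_assoc, ← pow_add, (Even.add_self n).neg_one_pow, one_mul]
    have e2 : ∀ s : Finset (ZMod r), ∏ x ∈ s, zp ζ ((my x : ZMod r) * x) = zp ζ (∑ x ∈ s, (my x : ZMod r) * x) := fun s => by
      induction s using Finset.induction_on with
      | empty => simp [zp_zero]
      | insert x t hx ih => rw [Finset.prod_insert hx, Finset.sum_insert hx, zp_add hζ, ih]
    rw [e2]
    have hS : (w : ZMod r) * (∑ x, (my x : ZMod r) * x) = ∑ x, (my x : ZMod r) * x := by
      rw [Finset.mul_sum]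
      refine Fintype.sum_equiv (Units.mulLeft w) _ _ fun x => ?_
      show (w : ZMod r) * ((my x : ZMod r) * x) = (my ((w : ZMod r) * x) : ZMod r) * ((w : ZMod r) * x)
      rw [hmy.2]; ring
    have hS0 : (∑ x, (my x : ZMod r) * x) = 0 := by
      refine (mul_eq_zero.1 (show ((w : ZMod r) - 1) * _ = 0 by rw [sub_mul, hS, one_mul, sub_self])).resolve_left fun h => hw1 ?_
      exact Units.ext (sub_eq_zero.1 h)
    rw [hS0, zp_zero]
  let x : GL (Fin n) F := Units.ofPowEqOne A r hA hr.ne_zero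
  have hxr : x ^ r = 1 := Units.pow_ofPowEqOne _ _
  refine ⟨x, mem_sl.2 hdet, ⟨1, by rw [hxr, Units.val_one, one_smul]⟩, fun z hz => ?_, fun g hgx => ?_⟩
  · change A = z • 1 at hz
    have h4 := hAm
    rw [hz, ← Matrix.diagonal_one, ← Matrix.diagonal_smul, Matrix.charpoly_diagonal, Polynomial.map_prod] at h4
    have h5 : ∀ y, (Pm ζ my).rootMultiplicity y = if y = algebraMap F L z then n else 0 := fun y => by
      rw [← h4, ← count_roots]
      simp only [Pi.smul_apply, smul_eq_mul, mul_one, Polynomial.map_sub, map_X, map_C, Finset.prod_const,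
        Finset.card_univ, Fintype.card_fin, roots_pow, roots_X_sub_C, Multiset.nsmul_singleton, Multiset.count_replicate]
      split_ifs with h1 h2 h3 <;> first | rfl | exact absurd h1.symm h2 | exact absurd h3.symm h1
    have h6 := h5 (zp ζ j)
    rw [count_roots_Pm hζ, hj] at h6
    split_ifs at h6
    omega
  · set y := g⁻¹ * x * g
    have hyr : y ^ r = 1 := by
      rw [show y = g⁻¹ * x * (g⁻¹)⁻¹ by rw [inv_inv], conj_pow, hxr, mul_one, mul_inv_cancel]
    have hm : y.val.charpoly.map (algebraMap F L) = Pm ζ my := by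
      rw [← hAm]
      congr 1
      show ((g⁻¹ : GL (Fin n) F).val * x.val * g.val).charpoly = _
      rw [Matrix.coe_units_inv, Matrix.charpoly_units_conj']
      rfl
    obtain ⟨h0a, h0b, hib⟩ := TensorElem.simple_bound p hζ hrL ha (by omega) hgx hyr hm
      (fun x hx => by rcases hmy1 x hx with h | h <;> omega) hj0 hj hi
    rw [hmy0] at h0a
    have h6 := Nat.mul_le_mul_left a (by omega : 3 ≤ b)
    rcases hwo with ⟨hi2, hwo⟩ | ⟨hi1, hwo⟩
    · obtain ⟨hia, -⟩ := hib hi2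
      omega
    · omega

/-- The order of the multiplier is at most `n`. -/
theorem order_bound [Fintype F] (p : ℕ) [Fact p.Prime] [CharP F p] {r : ℕ} [Fact r.Prime] (hrp : r ≠ p)
    {i : ℕ} (hi : i = orderOf (Fintype.card F : ZMod r))
    (H : Subgroup (GL (Fin n) F)) (hΩ : r ∣ H.relIndex (Cfsg.Geo.specialLinear (Fin n) F)) : i ≤ n := by
  classical
  have hdvd : r ∣ Nat.card (GL (Fin n) F) :=
    (hΩ.trans (Subgroup.index_dvd_card _)).trans (Subgroup.card_subgroup_dvd_card _)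
  rw [Matrix.card_GL_field] at hdvd
  obtain ⟨t, -, h5⟩ := (Prime.dvd_finsetProd_iff (Fact.out : r.Prime).prime _).1 hdvd
  have hsplit : Fintype.card F ^ n - Fintype.card F ^ (t : ℕ) =
      Fintype.card F ^ (t : ℕ) * (Fintype.card F ^ (n - t) - 1) := by
    rw [Nat.mul_sub, mul_one, ← pow_add, Nat.add_sub_cancel' t.2.le]
  rw [hsplit] at h5
  obtain ⟨f, -, hf⟩ := FiniteField.card F p
  rcases (Fact.out : r.Prime).dvd_mul.1 h5 with h | h
  · exact absurd ((Nat.prime_dvd_prime_iff_eq Fact.out Fact.out).mp ((Fact.out : r.Prime).dvd_of_dvd_pow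
      (show r ∣ p ^ (f : ℕ) from hf ▸ (Fact.out : r.Prime).dvd_of_dvd_pow h))) hrp
  · have := Nat.le_of_dvd (by have := t.2; omega) (IsoFix.orderOf_dvd_of_sub hi h)
    omega

/-- A root of `-1` of order given by the two-parts. -/
theorem exists_root_neg [Fintype F] (h2 : (2 : F) ≠ 0) (hn : n ≠ 0)
    (h : padicValNat 2 n < padicValNat 2 (Fintype.card F - 1)) : ∃ μ : F, μ ^ n = -1 := by
  classical
  set k := padicValNat 2 n
  obtain ⟨m, hm⟩ : 2 ^ k ∣ n := pow_padicValNat_dvd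
  have hmo : Odd m := by
    rw [← Nat.not_even_iff_odd, even_iff_two_dvd]
    intro h'
    exact pow_succ_padicValNat_not_dvd hn (show 2 ^ (k + 1) ∣ n by
      rw [hm, pow_succ]; exact Nat.mul_dvd_mul_left _ h')
  obtain ⟨w, hw⟩ : 2 ^ (k + 1) ∣ Fintype.card F - 1 := (pow_dvd_pow 2 h).trans pow_padicValNat_dvd
  obtain ⟨g, hg⟩ := IsCyclic.exists_ofOrder_eq_natCard (α := Fˣ)
  rw [Nat.card_eq_fintype_card, Fintype.card_units, hw] at hg
  have hw0 : 0 < w := Nat.pos_of_ne_zero fun h0 => by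
    rw [h0, mul_zero] at hg; exact (orderOf_pos g).ne' hg
  refine ⟨((g ^ w : Fˣ) : F), ?_⟩
  have h1 : ((g ^ w) ^ 2 ^ k : Fˣ) ≠ 1 := fun h0 => by
    rw [← pow_mul] at h0
    have := Nat.le_of_dvd (Nat.mul_pos hw0 (by positivity)) (orderOf_dvd_of_pow_eq_one h0)
    rw [hg, pow_succ] at this
    nlinarith [hw0, Nat.two_pow_pos k]
  have h3 : (((g ^ w) ^ 2 ^ k : Fˣ) : F) = -1 := by
    refine (mul_self_eq_one_iff.1 ?_).resolve_left fun h0 => h1 (Units.ext h0)
    rw [← Units.val_mul, ← pow_two, ← pow_mul, ← pow_mul, ← pow_succ, mul_comm, ← hg, pow_orderOf_eq_one, Units.val_one]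
  rw [hm, pow_mul, ← Units.val_pow_eq_pow_val, h3, hmo.neg_one_pow]

theorem no_root_neg [Fintype F] (h2 : (2 : F) ≠ 0) (hn : n ≠ 0)
    (h : padicValNat 2 (Fintype.card F - 1) ≤ padicValNat 2 n) (c : F) : c ^ n ≠ -1 := fun hc => by
  have hc0 : c ≠ 0 := fun h0 => by
    rw [h0, zero_pow hn] at hc; exact one_ne_zero (neg_eq_zero.1 hc.symm)
  have hq : Fintype.card F - 1 ≠ 0 := by have := Fintype.one_lt_card (α := F); omega
  obtain ⟨m, hm⟩ : 2 ^ padicValNat 2 (Fintype.card F - 1) ∣ Fintype.card F - 1 := pow_padicValNat_dvd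
  have hmo : Odd m := by
    rw [← Nat.not_even_iff_odd, even_iff_two_dvd]
    intro h'
    exact pow_succ_padicValNat_not_dvd hq (show 2 ^ (padicValNat 2 (Fintype.card F - 1) + 1) ∣ _ from
      ((pow_succ 2 _).symm ▸ Nat.mul_dvd_mul_left _ h').trans (dvd_of_eq hm.symm))
  obtain ⟨s, hs⟩ : Fintype.card F - 1 ∣ n * m := by
    conv_lhs => rw [hm]
    exact Nat.mul_dvd_mul_right ((pow_dvd_pow 2 h).trans pow_padicValNat_dvd) m
  have h1 : (c ^ n) ^ m = 1 := by rw [← pow_mul, hs, pow_mul, FiniteField.pow_card_sub_one_eq_one c hc0, one_pow]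
  rw [hc, hmo.neg_one_pow] at h1
  exact h2 (by linear_combination -h1)

/-- With a two-dimensional factor and no root of `-1`, all involutions lie in a conjugate. -/
theorem fixes_two [Finite F] (h2 : (2 : F) ≠ 0) {e : Fin n ≃ Fin 2 × Fin b} {P : GL (Fin n) F} (hb : 1 ≤ b)
    (hno : ∀ c : F, c ^ n ≠ -1) {x : GL (Fin n) F} (hx : x ∈ Cfsg.Geo.specialLinear (Fin n) F)
    {z : F} (hxz : ((x ^ 2 : GL (Fin n) F) : Matrix (Fin n) (Fin n) F) = z • 1) :
    ∃ g ∈ Cfsg.Geo.specialLinear (Fin n) F, g⁻¹ * x * g ∈ Cfsg.Geo.tensorProductSubgroup 2 b e P := by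
  classical
  have hn2 : n = 2 * b := by simpa using Fintype.card_congr e
  have hn0 : n ≠ 0 := by omega
  haveI : Nonempty (Fin n) := ⟨⟨0, by omega⟩⟩
  rw [Units.val_pow_eq_pow_val] at hxz
  have hz : z ≠ 0 := fun h => by
    rw [h, zero_smul] at hxz
    have h1 := congrArg Matrix.det hxz
    rw [Matrix.det_pow, mem_sl.1 hx, one_pow, Matrix.det_zero] at h1
    exact one_ne_zero h1
  let X : Matrix.SpecialLinearGroup (Fin n) F := ⟨x.val, mem_sl.1 hx⟩
  set T := Matrix.toLin' x.val with hT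
  have hTT : ∀ v, T (T v) = z • v := fun v => by
    rw [Matrix.toLin'_apply, Matrix.toLin'_apply, Matrix.mulVec_mulVec, ← pow_two, hxz, Matrix.smul_mulVec,
      Matrix.one_mulVec]
  suffices ∃ (Y : GL (Fin n) F) (G : (Fin n → F) ≃ₗ[F] (Fin n → F)), Y ∈ Cfsg.Geo.tensorProductSubgroup 2 b e P ∧
      ∀ v, G (T v) = Matrix.toLin' Y.val (G v) by
    obtain ⟨Y, G, hY, hG⟩ := this
    obtain ⟨Q, hQ⟩ := Cfsg.Lib.Linear.SquareScalar.exists_SL X hz hTT G (Matrix.toLin' Y.val) hG
    refine ⟨Matrix.SpecialLinearGroup.toGL Q, mem_sl.2 Q.2, ?_⟩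
    have h1 : (Matrix.SpecialLinearGroup.toGL Q)⁻¹ * x * Matrix.SpecialLinearGroup.toGL Q = Y := by
      rw [← map_inv]
      exact Units.ext (Matrix.toLin'.injective hQ)
    rw [h1]
    exact hY
  by_cases hsq : ∃ c : F, c * c = z
  · obtain ⟨c, hc⟩ := hsq
    have hc0 : c ≠ 0 := fun h => hz (by rw [← hc, h, mul_zero])
    subst hc
    obtain ⟨p', m', β, hl, hr⟩ := Cfsg.Lib.Linear.SquareScalar.exists_eigenbasis h2 T hc0 hTT
    have hsum : p' + m' = n := by
      simpa using (finrank_eq_card_basis β).symm.trans (Module.finrank_fin_fun F)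
    have hev : Even m' := by
      by_contra ho
      rw [Nat.not_even_iff_odd] at ho
      have h1 := Cfsg.Lib.Linear.SquareScalar.det_of_eigenbasis β T (Sum.elim (fun _ => c) (fun _ => -c))
        (by rintro (i | i) <;> simp [hl, hr])
      rw [hT, LinearMap.det_toLin', mem_sl.1 hx] at h1
      simp only [Fintype.prod_sum_type, Sum.elim_inl, Sum.elim_inr, Finset.prod_const, Finset.card_univ,
        Fintype.card_fin, ho.neg_pow, mul_neg, ← pow_add, hsum] at h1
      exact hno c (by rw [h1, neg_neg])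
    obtain ⟨mh, rfl⟩ := hev
    obtain ⟨ph, rfl⟩ : ∃ ph, p' = ph + ph := ⟨p' / 2, by omega⟩
    let σ₂ : Fin b ≃ Fin ph ⊕ Fin mh := (finCongr (by omega : b = ph + mh)).trans finSumFinEquiv.symm
    let w : Fin b → F := fun t => Sum.elim (fun _ => c) (fun _ => -c) (σ₂ t)
    have hw0 : ∀ t, w t ≠ 0 := fun t => by
      simp only [w]; rcases σ₂ t with u | u <;> simp [hc0]
    let dd : ∀ {k : ℕ}, Fin 2 × Fin k ≃ Fin (k + k) := fun {k} =>
      (Equiv.prodCongr finTwoEquiv (Equiv.refl _)).trans ((Equiv.boolProdEquivSum _).trans finSumFinEquiv)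
    let σ : Fin 2 × Fin b ≃ Fin (ph + ph) ⊕ Fin (mh + mh) :=
      ((Equiv.prodCongr (Equiv.refl _) σ₂).trans (Equiv.prodSumDistrib _ _ _)).trans (Equiv.sumCongr dd dd)
    let γ := β.reindex σ.symm
    have hγ : ∀ st, T (γ st) = w st.2 • γ st := fun st => by
      obtain ⟨s, t⟩ := st
      simp only [γ, Module.Basis.reindex_apply, Equiv.symm_symm, σ, w, Equiv.trans_apply, Equiv.prodCongr_apply,
        Equiv.coe_refl, Prod.map_apply, id]
      rcases hu : σ₂ t with u | u <;> simp [hl, hr]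
    let BB : GL (Fin b) F := ⟨Matrix.diagonal w, Matrix.diagonal fun t => (w t)⁻¹,
      by rw [Matrix.diagonal_mul_diagonal, show (fun t => w t * (w t)⁻¹) = fun _ => 1 from funext fun t => mul_inv_cancel₀ (hw0 t), Matrix.diagonal_one],
      by rw [Matrix.diagonal_mul_diagonal, show (fun t => (w t)⁻¹ * w t) = fun _ => 1 from funext fun t => inv_mul_cancel₀ (hw0 t), Matrix.diagonal_one]⟩
    let kk : GL (Fin 2 × Fin b) F := ⟨(1 : Matrix (Fin 2) (Fin 2) F) ⊗ₖ BB.val, (1 : Matrix (Fin 2) (Fin 2) F) ⊗ₖ (BB⁻¹).val,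
      by rw [← Matrix.mul_kronecker_mul, Units.mul_inv, one_mul, Matrix.one_kronecker_one],
      by rw [← Matrix.mul_kronecker_mul, Units.inv_mul, one_mul, Matrix.one_kronecker_one]⟩
    set Y := P * Cfsg.Geo.glReindex e.symm kk * P⁻¹ with hYdef
    -- the pure basis
    let δ : Basis (Fin 2 × Fin b) F (Fin n → F) :=
      ((Pi.basisFun F (Fin n)).map ((Symp.glEquiv (Fin n) F) P)).reindex e
    have hδ : ∀ s t, δ (s, t) = pure₁ e P (Pi.single s 1) (Pi.single t 1) := fun s t => by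
      simp only [δ, Module.Basis.reindex_apply, Module.Basis.map_apply, Pi.basisFun_apply]
      rw [Symp.glEquiv_apply]
      simp only [pure₁, LinearMap.mk₂_apply]
      congr 1
      funext l
      rcases eq_or_ne (e l) (s, t) with h | h
      · have hl' : l = e.symm (s, t) := by rw [← h, e.symm_apply_apply]
        subst hl'
        simp [h]
      · have hl' : l ≠ e.symm (s, t) := fun h' => h (by rw [h', e.apply_symm_apply])
        rw [Pi.single_eq_of_ne hl', Function.comp_apply]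
        rcases Prod.ext_iff.not.1 h |> not_and_or.1 with h1 | h1
        · rw [Pi.single_eq_of_ne h1, zero_mul]
        · rw [Pi.single_eq_of_ne h1, mul_zero]
    refine ⟨Y, γ.equiv δ (Equiv.refl _), ⟨_, ⟨kk, ⟨1, BB, rfl⟩, rfl⟩, rfl⟩, fun v => ?_⟩
    refine LinearMap.congr_fun (f := ((γ.equiv δ (Equiv.refl _)) : (Fin n → F) →ₗ[F] (Fin n → F)) ∘ₗ T)
      (g := Matrix.toLin' Y.val ∘ₗ ((γ.equiv δ (Equiv.refl _)) : (Fin n → F) →ₗ[F] (Fin n → F))) (γ.ext fun st => ?_) v
    obtain ⟨s, t⟩ := st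
    simp only [LinearMap.comp_apply, hγ, map_smul, LinearEquiv.coe_coe, Module.Basis.equiv_apply, Equiv.refl_apply,
      Matrix.toLin'_apply, hδ, hYdef, TensorElem.act_kron (1 : Matrix (Fin 2) (Fin 2) F) BB.val kk rfl, Matrix.one_mulVec]
    rw [show BB.val *ᵥ (Pi.single t 1 : Fin b → F) = w t • Pi.single t 1 by
      funext l; simp [BB, Matrix.mulVec_diagonal, Pi.single_apply]; aesop, map_smul]
  · push Not at hsq
    let AA : GL (Fin 2) F := ⟨!![0, z; 1, 0], !![0, 1; z⁻¹, 0],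
      by ext s t; fin_cases s <;> fin_cases t <;> simp [Matrix.mul_apply, Fin.sum_univ_two, hz],
      by ext s t; fin_cases s <;> fin_cases t <;> simp [Matrix.mul_apply, Fin.sum_univ_two, hz]⟩
    let kk : GL (Fin 2 × Fin b) F := ⟨AA.val ⊗ₖ (1 : Matrix (Fin b) (Fin b) F), (AA⁻¹).val ⊗ₖ (1 : Matrix (Fin b) (Fin b) F),
      by rw [← Matrix.mul_kronecker_mul, Units.mul_inv, one_mul, Matrix.one_kronecker_one],
      by rw [← Matrix.mul_kronecker_mul, Units.inv_mul, one_mul, Matrix.one_kronecker_one]⟩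
    set Y := P * Cfsg.Geo.glReindex e.symm kk * P⁻¹ with hYdef
    have hA2 : ∀ u, AA.val *ᵥ (AA.val *ᵥ u) = z • u := fun u => by
      funext s; fin_cases s <;> simp [AA, Matrix.mulVec, dotProduct, Fin.sum_univ_two]
    obtain ⟨G, hG⟩ := Cfsg.Agent.S5969.conj_nonsquare T (Matrix.toLin' Y.val) hsq hTT (fun v => by
      obtain ⟨m, rfl⟩ := TensorFrame.span₁ (e := e) (P := P) v
      simp only [Matrix.toLin'_apply, Matrix.mulVec_sum, Finset.smul_sum]
      refine Finset.sum_congr rfl fun s _ => ?_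
      rw [hYdef, TensorElem.act_kron AA.val 1 kk rfl, TensorElem.act_kron AA.val 1 kk rfl, Matrix.one_mulVec,
        Matrix.one_mulVec, hA2, map_smul, LinearMap.smul_apply])
    exact ⟨Y, G, ⟨_, ⟨kk, ⟨AA, 1, rfl⟩, rfl⟩, rfl⟩, hG⟩

/-- Elements of prime order of PSL_n(q) and the stabilizers of tensor decompositions with factors of different dimensions. Here `T = PSL_n(F)` for a field `F` with `q` elements and `n = a·b` with `2 ≤ a < b`; a tensor decomposition `F^n ≅ F^a ⊗ F^b` is given by a bijection `e` of index sets and a change of basis `P`, and `H` is the subgroup of matrices of determinant 1 in its stabilizer (the conjugate by `P` of the group of Kronecker products `g₁ ⊗ g₂`) — a subgroup of type GL_a(q) ⊗ GL_b(q) (maximality is not assumed); Ω is the set of cosets of `H` in `T`, so an element of `T` of prime order `r` (a matrix `x` of determinant 1 with `x^r` scalar, `x` not scalar) fixes a point of Ω exactly when some conjugate of `x` by a matrix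 of determinant 1 lies in `H`. Let `r` be a prime dividing the index of `H`. Then every element of `T` of order `r` fixes a point of Ω if and only if `r = 2`, `a = 2`, `q` is odd and `(q − 1)_2 ≤ (n)_2` (2-parts). -/
theorem result {F : Type*} [Field F] [Fintype F] {p : ℕ} [Fact p.Prime] [CharP F p] {q : ℕ} (hq : Fintype.card F = q)
    (n a b : ℕ) (hab : n = a * b) (ha : 2 ≤ a) (hlt : a < b) (e : Fin n ≃ Fin a × Fin b) (P : GL (Fin n) F)
    (r : ℕ) [Fact r.Prime]
    (hΩ : r ∣ (Cfsg.Geo.tensorProductSubgroup a b e P).relIndex (Cfsg.Geo.specialLinear (Fin n) F)) :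
    (∀ x ∈ Cfsg.Geo.specialLinear (Fin n) F, (∃ z : F, ((x ^ r : GL (Fin n) F) : Matrix (Fin n) (Fin n) F) = z • (1 : Matrix (Fin n) (Fin n) F)) →
      (∀ z : F, (x : Matrix (Fin n) (Fin n) F) ≠ z • (1 : Matrix (Fin n) (Fin n) F)) →
      ∃ g ∈ Cfsg.Geo.specialLinear (Fin n) F, g⁻¹ * x * g ∈ Cfsg.Geo.tensorProductSubgroup a b e P) ↔
    (r = 2 ∧ a = 2 ∧ Odd q ∧ padicValNat 2 (q - 1) ≤ padicValNat 2 n) := by
  classical
  subst hq
  have hn : 6 ≤ n := hab ▸ Nat.mul_le_mul ha (by omega : 3 ≤ b)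
  constructor
  · intro hall
    have hrp : r ≠ p := fun h => by
      subst h
      obtain ⟨x, hx, hz, hns, hbad⟩ := transvection_bad (p := r) (e := e) (P := P) (by omega) ha (by omega)
      obtain ⟨g, -, hgx⟩ := hall x hx hz hns
      exact hbad g hgx
    by_cases hr2 : r = 2
    · subst hr2
      have hodd : Odd (Fintype.card F) := by
        obtain ⟨f, -, hf⟩ := FiniteField.card F p
        rw [hf]
        exact ((Fact.out : p.Prime).odd_of_ne_two (Ne.symm hrp)).pow
      have h2 : (2 : F) ≠ 0 := Orth.two_ne_zero_of_odd_card hodd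
      have ha2 : a = 2 := by
        by_contra hne
        obtain ⟨x, hx, hz, hns, hbad⟩ := invol_bad (e := e) (P := P) h2 (by omega) (by omega) (by omega)
        obtain ⟨g, -, hgx⟩ := hall x hx hz hns
        exact hbad g hgx
      refine ⟨rfl, ha2, hodd, ?_⟩
      by_contra hlt'
      obtain ⟨μ, hμ⟩ := exists_root_neg h2 (show n ≠ 0 by omega) (not_le.1 hlt')
      obtain ⟨x, hx, hz, hns, hbad⟩ := reflection_bad (e := e) (P := P) h2 (by omega) ha (by omega) hμ
      obtain ⟨g, -, hgx⟩ := hall x hx hz hns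
      exact hbad g hgx
    exfalso
    obtain ⟨x, hx, hz, hns, hbad⟩ := semi_bad p (e := e) (P := P) hab ha hlt hr2 hrp rfl (order_bound p hrp rfl _ hΩ)
    obtain ⟨g, -, hgx⟩ := hall x hx hz hns
    exact hbad g hgx
  · rintro ⟨rfl, rfl, hodd, hv⟩ x hx ⟨z, hz⟩ -
    have h2 : (2 : F) ≠ 0 := Orth.two_ne_zero_of_odd_card hodd
    exact fixes_two h2 (by omega) (no_root_neg h2 (by omega) hv) hx hz

end Cfsg.Agent.S5979
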