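import Cfsg.Statements.S5980
import Cfsg.Agent.Lib.Linear.Tensor.Cases
import Cfsg.Agent.Lib.Linear.Tensor.PrimeElem
import Cfsg.Agent.Lib.Linear.SkewField.Frame
import Cfsg.Agent.Lib.Linear.OrthOdd
import Cfsg.Agent.Lib.Linear.IsotropicFix.OrthEven
import Cfsg.Agent.S5955
import Cfsg.Agent.S5956
import Cfsg.Agent.S5976
-- import your own Cfsg.Agent.* helpers here

set_option autoImplicit false
open scoped MatrixGroups
open Cfsg

namespace Cfsg.Agent.S5980

open Module Polynomial Cfsg.Lib.Linear Cfsg.Lib.Linear.SkewField Cfsg.Agent.Lib.Linear.PrimeClasses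
open Cfsg.Lib.Linear.TensorFrame (pure₁ Ses)
open Cfsg.Agent.S5976 (mem_sp)
open scoped Matrix Kronecker

universe u

variable {F : Type u} [Field F] {d : ℕ} {a b : ℕ}
  {e : (Fin d ⊕ Fin d) ≃ Fin a × Fin b} {P : GL (Fin d ⊕ Fin d) F}

/-- Elements with small displacement lie in no conjugate. -/
theorem small_bad {x : GL (Fin d ⊕ Fin d) F} (W : Submodule F (Fin d ⊕ Fin d → F)) (hW : ∀ v, x.val *ᵥ v - v ∈ W)
    (ha : finrank F W < a) (hb : finrank F W < b) (hns : ∀ z : F, x.val ≠ z • 1) (g : GL (Fin d ⊕ Fin d) F) :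
    g⁻¹ * x * g ∉ Cfsg.Geo.tensorProductSubgroup a b e P := fun h => by
  classical
  let L : (Fin d ⊕ Fin d → F) →ₗ[F] (Fin d ⊕ Fin d → F) :=
    Matrix.toLin' ((g⁻¹ : GL (Fin d ⊕ Fin d) F) : Matrix (Fin d ⊕ Fin d) (Fin d ⊕ Fin d) F)
  have h1 := Submodule.finrank_map_le L W
  obtain ⟨z, hz⟩ := TensorElem.scalar_of_small h (W.map L) (fun v => ⟨x.val *ᵥ (g.val *ᵥ v) - g.val *ᵥ v, hW _, by
    simp only [L, Matrix.toLin'_apply, Matrix.mulVec_sub, Units.val_mul, Matrix.mulVec_mulVec, Units.inv_mul,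
      Matrix.one_mulVec, mul_assoc]⟩) (by omega) (by omega)
  refine hns z ?_
  have h2 : x.val = g.val * (g⁻¹ * x * g : GL (Fin d ⊕ Fin d) F).val * (g⁻¹ : GL (Fin d ⊕ Fin d) F).val := by
    simp only [← Units.val_mul]
    congr 1
    group
  rw [h2, hz, mul_smul_comm, mul_one, smul_mul_assoc, Units.mul_inv]

/-- Transvections. -/
theorem transvection_bad {p : ℕ} [Fact p.Prime] [CharP F p] (hd : 2 ≤ d) (ha : 2 ≤ a) (hb : 2 ≤ b) :
    ∃ x ∈ Cfsg.spGL d F, (∃ z : F, ((x ^ p : GL (Fin d ⊕ Fin d) F) : Matrix (Fin d ⊕ Fin d) (Fin d ⊕ Fin d) F) = z • 1) ∧ (∀ z : F, x.val ≠ z • 1) ∧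
      ∀ g : GL (Fin d ⊕ Fin d) F, g⁻¹ * x * g ∉ Cfsg.Geo.tensorProductSubgroup a b e P := by
  classical
  set B := Symp.spB d F
  let e : (Fin d ⊕ Fin d) → F := Pi.single (Sum.inl ⟨0, by omega⟩) 1
  have he : e ≠ 0 := by simp [e]
  obtain ⟨f, hf⟩ : ∃ f, B f e ≠ 0 := by
    by_contra h
    push Not at h
    exact he ((Symp.spB_nondegenerate d F).2 e h)
  set X := Cfsg.sympTransvection d e (1 : F)
  have hX : X ∈ Matrix.symplecticGroup (Fin d) F := Symp.sympTransvection_mem _ _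
  have hact : ∀ v, X *ᵥ v = v + B v e • e := fun v => by rw [Symp.sympTransvection_mulVec, one_mul]
  haveI : Nonempty (Fin d ⊕ Fin d) := ⟨Sum.inl ⟨0, by omega⟩⟩
  haveI : CharP (Matrix (Fin d ⊕ Fin d) (Fin d ⊕ Fin d) F) p := inferInstance
  have hNN : (X - 1) * (X - 1) = 0 := Matrix.ext_iff_mulVec.2 fun v => by
    rw [← Matrix.mulVec_mulVec]
    simp [Matrix.sub_mulVec, hact, (Symp.spB_isAlt d F).self_eq_zero e, B]
  have hXp : X ^ p = 1 := by
    have h1 : (X - 1) ^ p = 0 := by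
      obtain ⟨k, hk⟩ : ∃ k, p = 2 + k := ⟨p - 2, by have := (Fact.out : p.Prime).two_le; omega⟩
      rw [hk, pow_add, pow_two, hNN, zero_mul]
    rw [sub_pow_char_of_commute (R := Matrix (Fin d ⊕ Fin d) (Fin d ⊕ Fin d) F) p (Commute.one_right _), one_pow, sub_eq_zero] at h1
    exact h1
  let x : GL (Fin d ⊕ Fin d) F := Units.ofPowEqOne X p hXp (Fact.out : p.Prime).ne_zero
  have hxp : x ^ p = 1 := Units.pow_ofPowEqOne _ _
  have hns : ∀ z : F, x.val ≠ z • 1 := fun z hz => by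
    change X = z • 1 at hz
    have h1 := hact e
    rw [hz, (Symp.spB_isAlt d F).self_eq_zero, zero_smul, add_zero, Matrix.smul_mulVec, Matrix.one_mulVec] at h1
    have hz1 : z = 1 := by
      have h' : (z - 1) • e = 0 := by rw [sub_smul, one_smul, h1, sub_self]
      exact sub_eq_zero.1 ((smul_eq_zero.1 h').resolve_right he)
    have h3 := hact f
    rw [hz, hz1, one_smul, Matrix.one_mulVec, left_eq_add, smul_eq_zero] at h3
    exact h3.elim hf he
  refine ⟨x, mem_sp.2 ((Symp.mem_symplecticGroup_iff _).1 hX), ⟨1, by rw [hxp, Units.val_one, one_smul]⟩, hns, fun g => ?_⟩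
  refine small_bad (Submodule.span F {e}) (fun v => ?_) ?_ ?_ hns g
  · show X *ᵥ v - v ∈ _
    rw [hact, add_sub_cancel_left]
    exact Submodule.smul_mem _ _ (Submodule.mem_span_singleton_self _)
  · rw [finrank_span_singleton he]; omega
  · rw [finrank_span_singleton he]; omega

/-- Involutions with a plane of eigenvalue `-1`. -/
theorem invol_bad (h2 : (2 : F) ≠ 0) (hd : 2 ≤ d) (ha : 3 ≤ a) (hb : 3 ≤ b) :
    ∃ x ∈ Cfsg.spGL d F, (∃ z : F, ((x ^ 2 : GL (Fin d ⊕ Fin d) F) : Matrix (Fin d ⊕ Fin d) (Fin d ⊕ Fin d) F) = z • 1) ∧ (∀ z : F, x.val ≠ z • 1) ∧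
      ∀ g : GL (Fin d ⊕ Fin d) F, g⁻¹ * x * g ∉ Cfsg.Geo.tensorProductSubgroup a b e P := by
  classical
  set B := Symp.spB d F
  have hA : B.IsAlt := Symp.spB_isAlt d F
  let e : (Fin d ⊕ Fin d) → F := Pi.single (Sum.inl ⟨0, by omega⟩) 1
  have he : e ≠ 0 := by simp [e]
  obtain ⟨f, hef⟩ : ∃ f, B e f = 1 := by
    obtain ⟨f, hf⟩ : ∃ f, B e f ≠ 0 := by
      by_contra h
      push Not at h
      exact he ((Symp.spB_nondegenerate d F).1 e h)
    exact ⟨(B e f)⁻¹ • f, by rw [map_smul, smul_eq_mul, inv_mul_cancel₀ hf]⟩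
  have hfe : B f e = -1 := by rw [← hef]; exact (LinearMap.IsAlt.neg hA e f).symm
  let T : End F (Fin d ⊕ Fin d → F) := LinearMap.id -
    (2 : F) • ((B.flip f).smulRight e - (B.flip e).smulRight f)
  let X : Matrix (Fin d ⊕ Fin d) (Fin d ⊕ Fin d) F := LinearMap.toMatrix' T
  have hact : ∀ v, X *ᵥ v = v - (2 : F) • (B v f • e - B v e • f) := fun v => by
    rw [show X *ᵥ v = T v from LinearMap.toMatrix'_mulVec _ _]
    rfl
  have hXX : X * X = 1 := Matrix.ext_iff_mulVec.2 fun v => by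
    rw [← Matrix.mulVec_mulVec, hact, hact, Matrix.one_mulVec]
    simp only [map_sub, map_smul, LinearMap.sub_apply, LinearMap.smul_apply, hA.self_eq_zero, hef, hfe, smul_eq_mul]
    module
  let x : GL (Fin d ⊕ Fin d) F := ⟨X, X, hXX, hXX⟩
  have hxs : x ∈ Cfsg.spGL d F := mem_sp.2 fun u v => by
    show B (X *ᵥ u) (X *ᵥ v) = B u v
    rw [hact, hact]
    simp only [map_sub, map_smul, LinearMap.sub_apply, LinearMap.smul_apply, hA.self_eq_zero, hef, hfe, smul_eq_mul]
    rw [show B e v = -B v e from (LinearMap.IsAlt.neg hA v e).symm, show B f v = -B v f from (LinearMap.IsAlt.neg hA v f).symm]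
    ring
  have hns : ∀ z : F, x.val ≠ z • 1 := fun z hz => by
    change X = z • 1 at hz
    have h1 : ∀ v, (z - 1) • v = -(2 : F) • (B v f • e - B v e • f) := fun v => by
      have h := hact v
      rw [hz, Matrix.smul_mulVec, Matrix.one_mulVec] at h
      rw [sub_smul, one_smul, h]
      module
    have hz1 : z - 1 ≠ 0 := fun h => h2 (by
      have h3 := congrArg (fun w => B w f) (h1 e)
      simp [h, hA.self_eq_zero, hef] at h3; exact h3)
    have hle : (⊤ : Submodule F (Fin d ⊕ Fin d → F)) ≤ Submodule.span F {e} ⊔ Submodule.span F {f} := fun v _ => by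
      rw [show v = (z - 1)⁻¹ • ((z - 1) • v) by rw [smul_smul, inv_mul_cancel₀ hz1, one_smul], h1]
      exact Submodule.smul_mem _ _ (Submodule.smul_mem _ _ (sub_mem
        (Submodule.mem_sup_left (Submodule.smul_mem _ _ (Submodule.mem_span_singleton_self _)))
        (Submodule.mem_sup_right (Submodule.smul_mem _ _ (Submodule.mem_span_singleton_self _)))))
    have h3 := (Submodule.finrank_mono hle).trans (Submodule.finrank_add_le_finrank_add_finrank _ _)
    rw [finrank_top, Symp.finrank_space] at h3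
    have h4 : ∀ v : Fin d ⊕ Fin d → F, finrank F (Submodule.span F {v}) ≤ 1 := fun v =>
      (finrank_span_le_card _).trans (by simp)
    have := h4 e
    have := h4 f
    omega
  refine ⟨x, hxs, ⟨1, by rw [one_smul, Units.val_pow_eq_pow_val, pow_two]; exact hXX⟩, hns, fun g => ?_⟩
  let W := Submodule.span F {e} ⊔ Submodule.span F {f}
  have hW2 : finrank F W ≤ 2 := by
    have h3 : finrank F W ≤ _ := Submodule.finrank_add_le_finrank_add_finrank _ _
    have h4 : ∀ v : Fin d ⊕ Fin d → F, finrank F (Submodule.span F {v}) ≤ 1 := fun v =>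
      (finrank_span_le_card _).trans (by simp)
    have := h4 e
    have := h4 f
    omega
  refine small_bad W (fun v => ?_) (by omega) (by omega) hns g
  show X *ᵥ v - v ∈ W
  rw [hact, show v - (2 : F) • (B v f • e - B v e • f) - v = (-2 * B v f) • e + (2 * B v e) • f by module]
  exact Submodule.add_mem_sup (Submodule.smul_mem _ _ (Submodule.mem_span_singleton_self _))
    (Submodule.smul_mem _ _ (Submodule.mem_span_singleton_self _))

/-- Semisimple elements with simple eigenvalues. -/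
theorem semi_bad [Fintype F] (p : ℕ) [Fact p.Prime] [CharP F p] (hab : 2 * d = a * b) (ha : 2 ≤ a) (hb : 3 ≤ b)
    {r : ℕ} [Fact r.Prime] (hr2 : r ≠ 2) (hrp : r ≠ p) {i c : ℕ}
    (hi : i = orderOf (Fintype.card F : ZMod r)) (hc : c = if Even i then i else 2 * i) (hcd : c ≤ 2 * d) :
    ∃ x ∈ Cfsg.spGL d F, (∃ z : F, ((x ^ r : GL (Fin d ⊕ Fin d) F) : Matrix (Fin d ⊕ Fin d) (Fin d ⊕ Fin d) F) = z • 1) ∧ (∀ z : F, x.val ≠ z • 1) ∧
      ∀ g ∈ Cfsg.spGL d F, g⁻¹ * x * g ∉ Cfsg.Geo.tensorProductSubgroup a b e P := by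
  have hd : 1 ≤ d := by
    have := Nat.mul_le_mul ha hb
    omega
  classical
  obtain ⟨hr⟩ := (inferInstance : Fact r.Prime)
  let L := AlgebraicClosure F
  haveI : CharP L p := charP_of_injective_algebraMap (algebraMap F L).injective p
  have hrL : (r : L) ≠ 0 := fun h =>
    hrp ((Nat.prime_dvd_prime_iff_eq Fact.out hr).mp ((CharP.cast_eq_zero_iff L p r).mp h)).symm
  have hrF : (r : F) ≠ 0 := fun h => hrL (by rw [← map_natCast (algebraMap F L), h, map_zero])
  haveI : NeZero (r : L) := ⟨hrL⟩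
  obtain ⟨ζ, hζ⟩ := HasEnoughRootsOfUnity.exists_primitiveRoot L r
  have hrq : ¬ r ∣ Fintype.card F := fun h => by
    obtain ⟨k, -, hk⟩ := FiniteField.card F p
    rw [hk] at h
    exact hrp ((Nat.prime_dvd_prime_iff_eq hr Fact.out).mp (hr.dvd_of_dvd_pow h))
  let uq : (ZMod r)ˣ := Units.mk0 _ (fun h => hrq ((ZMod.natCast_eq_zero_iff _ _).1 h) : (Fintype.card F : ZMod r) ≠ 0)
  have huq : (uq : ZMod r) = (Fintype.card F : ZMod r) := rfl
  have hiu : orderOf uq = i := by rw [hi, ← orderOf_units, huq]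
  obtain ⟨w, -, hwq, hwn, hwo⟩ := exists_gen hr2 uq
  rw [hiu] at hwo
  have hwc : orderOf w = c := by
    rw [hwo, hc]
    by_cases he : Even i
    · rw [if_pos he, if_neg (Nat.not_odd_iff_even.mpr he)]
    · rw [if_neg he, if_pos (Nat.not_even_iff_odd.mp he)]
  have hc0 : 0 < c := hwc ▸ orderOf_pos w
  have hce : Even c := by
    rw [hc]
    split_ifs with he
    · exact he
    · exact even_two_mul i
  -- one moved orbit
  obtain ⟨my, hmy, hmy0, hmy1⟩ := Cfsg.Agent.S5955.exists_inv_fixed w (2 * d - c) 1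
  rw [one_mul, hwc, Nat.sub_add_cancel hcd, two_mul] at hmy
  obtain ⟨j, hj⟩ : ∃ j, my j = 1 := by
    by_contra h
    push Not at h
    have h1 := hmy.1
    rw [Finset.sum_eq_single (0 : ZMod r) (fun x _ hx => (hmy1 x hx).resolve_right (h x)) (by simp), hmy0] at h1
    omega
  obtain ⟨P, hP, -, hPm⟩ := Cfsg.Agent.S5961.altReal_any (F := F) hζ huq hr2 w hwq hwn hmy (by
    rw [hmy0, Nat.even_iff]; rw [Nat.even_iff] at hce; omega)
  obtain ⟨X, hX, hXp⟩ := exists_sp_of_altReal (m := d) hP (by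
    rw [← natDegree_map (algebraMap F L), hPm, Pm_natDegree, hmy.1])
  rw [← hXp] at hPm
  have hXr : (X : Matrix (Fin d ⊕ Fin d) (Fin d ⊕ Fin d) F) ^ r = 1 := by rw [← SubmonoidClass.coe_pow, hX]; rfl
  let x : GL (Fin d ⊕ Fin d) F := Units.ofPowEqOne _ r hXr hr.ne_zero
  have hxr : x ^ r = 1 := Units.pow_ofPowEqOne _ _
  have hxs : x ∈ Cfsg.spGL d F := mem_sp.2 ((Symp.mem_symplecticGroup_iff _).1 X.2)
  refine ⟨x, hxs, ⟨1, by rw [hxr, Units.val_one, one_smul]⟩, fun z hz => ?_, fun g hg hgx => ?_⟩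
  · change (X : Matrix (Fin d ⊕ Fin d) (Fin d ⊕ Fin d) F) = z • 1 at hz
    obtain ⟨hz2, -, -, -⟩ := Cfsg.Agent.S5956.scalar_power hd X (r := 1) (z := z) (by rw [pow_one]; exact hz)
    have h1 := hXr
    rw [hz, _root_.smul_pow, one_pow] at h1
    have h1' : z ^ r = 1 := by
      have h3 := congrFun (congrFun h1 (Sum.inl ⟨0, by omega⟩)) (Sum.inl ⟨0, by omega⟩)
      simpa using h3
    obtain ⟨e, he⟩ := hr.odd_of_ne_two hr2
    rw [he, pow_succ, pow_mul, pow_two, hz2, one_pow, one_mul] at h1'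
    have h4 := hPm
    rw [hz, h1', one_smul, Matrix.charpoly_one, Polynomial.map_pow, Polynomial.map_sub, map_X, Polynomial.map_one,
      ← Pm_single (r := r) ζ] at h4
    have h5 := congrFun (Pm_inj hζ h4) 0
    rw [hmy0, Pi.single_eq_same, Fintype.card_sum, Fintype.card_fin] at h5
    omega
  · set y := g⁻¹ * x * g
    have hyr : y ^ r = 1 := by
      rw [show y = g⁻¹ * x * (g⁻¹)⁻¹ by rw [inv_inv], conj_pow, hxr, mul_one, mul_inv_cancel]
    have hm : y.val.charpoly.map (algebraMap F L) = Pm ζ my := by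
      rw [← hPm]
      congr 1
      show ((g⁻¹ : GL (Fin d ⊕ Fin d) F).val * x.val * g.val).charpoly = _
      rw [Matrix.coe_units_inv, Matrix.charpoly_units_conj']
      rfl
    have hj0 : j ≠ 0 := fun h => by
      rw [h, hmy0] at hj
      rw [Nat.even_iff] at hce
      omega
    obtain ⟨h0a, h0b, hib⟩ := TensorElem.simple_bound p hζ hrL ha (by omega) hgx hyr hm
      (fun x hx => by rcases hmy1 x hx with h | h <;> omega) hj0 hj hi
    rw [hmy0] at h0a h0b
    have hci : c ≤ 2 * i := by rw [hc]; split_ifs <;> omega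
    by_cases hi2 : 2 ≤ i
    · obtain ⟨hia, hib⟩ := hib hi2
      have e1 : a * b ≤ 3 * a := by omega
      have e2 : a * b ≤ 3 * b := by omega
      have hb3 : b ≤ 3 := Nat.le_of_mul_le_mul_left (by rwa [mul_comm 3 a] at e1) (by omega)
      have ha3 : a ≤ 3 := Nat.le_of_mul_le_mul_right e2 (by omega)
      obtain rfl : b = 3 := by omega
      obtain rfl | rfl : a = 2 ∨ a = 3 := by omega
      · obtain rfl : i = 2 := by omega
        rw [if_pos even_two] at hc
        omega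
      · omega
    · have := Nat.mul_le_mul_left a hb
      omega

/-- The order of the symplectic group bounds the multiplier. -/
theorem order_bound [Fintype F] (p : ℕ) [Fact p.Prime] [CharP F p] {r : ℕ} [Fact r.Prime] (hrp : r ≠ p)
    {i c : ℕ} (hi : i = orderOf (Fintype.card F : ZMod r)) (hc : c = if Even i then i else 2 * i)
    (H : Subgroup (GL (Fin d ⊕ Fin d) F)) (hΩ : r ∣ H.relIndex (Cfsg.spGL d F)) : c ≤ 2 * d := by
  classical
  set Q := Fintype.card F with hQ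
  have hsp : Nat.card ↥(Cfsg.spGL d F) = Q ^ (d ^ 2) * ∏ t ∈ Finset.range d, (Q ^ (2 * (t + 1)) - 1) := by
    rw [← Symp.card_iso (Symp.spB_nondegenerate d F) (Symp.spB_isAlt d F) Symp.finrank_space, Symp.spGL_eq_comap]
    set E := (Symp.glEquiv (Fin d ⊕ Fin d) F) with hE
    rw [Nat.card_congr (Subgroup.equivMapOfInjective _ E.toMonoidHom E.injective).toEquiv,
      Subgroup.map_comap_eq_self_of_surjective (f := E.toMonoidHom) E.surjective]
  have hdvd : r ∣ Nat.card ↥(Cfsg.spGL d F) := hΩ.trans (Subgroup.index_dvd_card _)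
  rw [hsp] at hdvd
  obtain ⟨f, -, hf⟩ := FiniteField.card F p
  rcases (Fact.out : r.Prime).dvd_mul.1 hdvd with h | h
  · exact absurd ((Nat.prime_dvd_prime_iff_eq Fact.out Fact.out).mp ((Fact.out : r.Prime).dvd_of_dvd_pow
      (show r ∣ p ^ (f : ℕ) from hf ▸ (Fact.out : r.Prime).dvd_of_dvd_pow h))) hrp
  obtain ⟨t, ht, h5⟩ := (Prime.dvd_finsetProd_iff (Fact.out : r.Prime).prime _).1 h
  rw [Finset.mem_range] at ht
  have h6 := IsoFix.orderOf_dvd_of_sub hi h5
  rw [hc]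
  split_ifs with he
  · have := Nat.le_of_dvd (by omega) h6
    omega
  · have h7 := ((Nat.not_even_iff_odd.1 he).coprime_two_right).dvd_of_dvd_mul_left h6
    have := Nat.le_of_dvd (by omega) h7
    omega

/-- With a two-dimensional factor all involutions lie in a conjugate. -/
theorem fixes_two [Finite F] (h2 : (2 : F) ≠ 0) {e : (Fin d ⊕ Fin d) ≃ Fin 2 × Fin b} {P : GL (Fin d ⊕ Fin d) F}
    {f₁ : (Fin 2 → F) → (Fin 2 → F) → F} {f₂ : (Fin b → F) → (Fin b → F) → F}
    (hf₁ : Cfsg.Geo.IsSymplecticForm f₁) (hf₂ : Cfsg.Geo.IsSymmetricForm f₂)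
    (hS : Cfsg.Geo.IsTensorFormStructure id (Cfsg.sympForm d F) f₁ f₂ e P)
    (hd : 1 ≤ d) {x : GL (Fin d ⊕ Fin d) F} (hx : x ∈ Cfsg.spGL d F)
    {z : F} (hxz : ((x ^ 2 : GL (Fin d ⊕ Fin d) F) : Matrix (Fin d ⊕ Fin d) (Fin d ⊕ Fin d) F) = z • 1) :
    ∃ g ∈ Cfsg.spGL d F, g⁻¹ * x * g ∈ Cfsg.Geo.tensorProductSubgroup 2 b e P := by
  classical
  have hA := Symp.spB_isAlt d F
  have hB := Symp.spB_nondegenerate d F
  set B := Symp.spB d F
  have S₁ : Ses (RingHom.id F) f₁ := TensorFrame.Ses.of_bilinear hf₁.bilinear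
  have S₂ : Ses (RingHom.id F) f₂ := TensorFrame.Ses.of_bilinear hf₂.bilinear
  obtain ⟨c₀, hc₀, hform⟩ := TensorFrame.form₁ (σ := RingHom.id F) (f := Cfsg.sympForm d F) S₁ S₂ hS
  have hform' : ∀ u v u' v', B (pure₁ e P u v) (pure₁ e P u' v') = c₀ * (f₁ u u' * f₂ v v') := fun u v u' v' => by
    rw [Symp.spB_apply]; exact hform u v u' v'
  have hdb : d = b := by
    have := Fintype.card_congr e
    simp only [Fintype.card_sum, Fintype.card_fin, Fintype.card_prod] at this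
    omega
  subst hdb
  set e₁ : Fin 2 → F := Pi.single 0 1 with he₁
  set e₂ : Fin 2 → F := Pi.single 1 1 with he₂
  have hexp : ∀ u : Fin 2 → F, u = u 0 • e₁ + u 1 • e₂ := fun u => by
    funext s; fin_cases s <;> simp [e₁, e₂]
  have hh : f₁ e₁ e₂ ≠ 0 := fun h0 => by
    obtain ⟨-, w, hw⟩ := hf₁.nondegenerate e₁ (fun h => by simpa [e₁] using congrFun h 0)
    rw [hexp w, S₁.add_right, S₁.smul_right, S₁.smul_right, hf₁.alternating, h0] at hw
    simp at hw
  -- an orthogonal basis of the second factor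
  let B₂ : LinearMap.BilinForm F (Fin d → F) := LinearMap.mk₂ F f₂ hf₂.bilinear.add_left hf₂.bilinear.smul_left
    hf₂.bilinear.add_right hf₂.bilinear.smul_right
  haveI : Invertible (2 : F) := invertibleOfNonzero h2
  obtain ⟨v₀, hv₀⟩ := LinearMap.BilinForm.exists_orthogonal_basis (B := B₂) ⟨fun x y => hf₂.symm x y⟩
  let v := v₀.reindex (finCongr (Module.finrank_fin_fun F : finrank F (Fin d → F) = d))
  have hvo : ∀ s t, s ≠ t → f₂ (v s) (v t) = 0 := fun s t hst => by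
    show B₂ (v s) (v t) = 0
    rw [Module.Basis.reindex_apply, Module.Basis.reindex_apply]
    exact hv₀ fun h => hst ((finCongr _).symm.injective h)
  set S : Fin d → F := fun t => f₂ (v t) (v t) with hSdef
  have hS0 : ∀ t, S t ≠ 0 := fun t h => by
    obtain ⟨-, w, hw⟩ := hf₂.nondegenerate (v t) (v.ne_zero t)
    refine hw ?_
    conv_lhs => rw [← v.sum_repr w]
    rw [S₂.sum_right]
    refine Finset.sum_eq_zero fun s _ => ?_
    rw [S₂.smul_right]
    rcases eq_or_ne t s with rfl | hts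
    · rw [show f₂ (v t) (v t) = 0 from h, mul_zero]
    · rw [hvo t s hts, mul_zero]
  set ω := c₀ * f₁ e₁ e₂ with hω
  have hω0 : ω ≠ 0 := mul_ne_zero hc₀ hh
  let xT : Fin d → (Fin d ⊕ Fin d → F) := fun t => pure₁ e P e₁ (v t)
  let yT : Fin d → (Fin d ⊕ Fin d → F) := fun t => (ω * S t)⁻¹ • pure₁ e P e₂ (v t)
  have hT1 : ∀ t, B (xT t) (yT t) = 1 := fun t => by
    simp only [xT, yT, map_smul, hform', smul_eq_mul]
    rw [show c₀ * (f₁ e₁ e₂ * f₂ (v t) (v t)) = ω * S t by rw [hω, hSdef]; ring, inv_mul_cancel₀ (mul_ne_zero hω0 (hS0 t))]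
  have hT0 : ∀ s t, s ≠ t → B (xT s) (xT t) = 0 ∧ B (xT s) (yT t) = 0 ∧ B (yT s) (yT t) = 0 := fun s t hst => by
    simp only [xT, yT, map_smul, LinearMap.smul_apply, hform', hvo s t hst, mul_zero, smul_zero, and_self]
  -- the square
  let X₀ : Matrix.symplecticGroup (Fin d) F := ⟨x.val, (Symp.mem_symplecticGroup_iff _).2 (mem_sp.1 hx)⟩
  rw [Units.val_pow_eq_pow_val] at hxz
  obtain ⟨hz2, hz, -, -⟩ := Cfsg.Agent.S5956.scalar_power hd X₀ (r := 2) (z := z) (by rw [SubmonoidClass.coe_pow]; exact hxz)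
  set X : End F (Fin d ⊕ Fin d → F) := Matrix.toLin' x.val with hXdef
  have hXiso : ∀ u v, B (X u) (X v) = B u v := fun u v => by
    rw [Matrix.toLin'_apply, Matrix.toLin'_apply]; exact mem_sp.1 hx u v
  have hX2 : ∀ u, X (X u) = z • u := fun u => by
    rw [Matrix.toLin'_apply, Matrix.toLin'_apply, Matrix.mulVec_mulVec, ← pow_two, hxz, Matrix.smul_mulVec,
      Matrix.one_mulVec]
  obtain ⟨k, xs, ys, hk, hp, ho⟩ := exists_invol_frame h2 B X hA hB hXiso hz hX2
  obtain rfl : k = d := by rw [Symp.finrank_space] at hk; omega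
  -- it is enough to find an adapted frame and a matching element
  suffices ∃ (u w : Fin k → (Fin k ⊕ Fin k → F)) (AA : Matrix (Fin 2) (Fin 2) F) (BB : Matrix (Fin k) (Fin k) F),
      (∀ t, B (u t) (w t) = 1) ∧ (∀ s t, s ≠ t → B (u s) (u t) = 0 ∧ B (u s) (w t) = 0 ∧ B (w s) (w t) = 0) ∧
      IsUnit AA ∧ IsUnit BB ∧ ∀ t, ∃ a₁ b₁ a₂ b₂ : F, X (u t) = a₁ • u t + b₁ • w t ∧ X (w t) = a₂ • u t + b₂ • w t ∧
        pure₁ e P (AA *ᵥ e₁) (BB *ᵥ v t) = a₁ • xT t + b₁ • yT t ∧
        (ω * S t)⁻¹ • pure₁ e P (AA *ᵥ e₂) (BB *ᵥ v t) = a₂ • xT t + b₂ • yT t by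
    obtain ⟨u, w, AA, BB, hu1, hu0, hAA, hBB, hact⟩ := this
    have hV : finrank F (Fin k ⊕ Fin k → F) = 2 * k := Symp.finrank_space
    obtain ⟨β, hβ⟩ := frame_basis hA hV hu1 hu0
    obtain ⟨βT, hβT⟩ := frame_basis hA hV hT1 hT0
    let G := βT.equiv β (Equiv.refl _)
    have hG : ∀ s, G (βT s) = β s := fun s => by simp [G]
    have hGiso : ∀ p p', B (G p) (G p') = B p p' := fun p p' => by
      refine LinearMap.congr_fun₂ (f := B.compl₁₂ (G : _ →ₗ[F] _) (G : _ →ₗ[F] _)) (g := B)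
        (LinearMap.ext_basis βT βT fun s t => ?_) p p'
      rw [LinearMap.compl₁₂_apply, LinearEquiv.coe_coe, hG, hG, hβ, hβ, hβT, hβT]
      exact frame_gram hA hA hT1 hT0 hu1 hu0 s t
    let g : GL (Fin k ⊕ Fin k) F := (Symp.glEquiv (Fin k ⊕ Fin k) F).symm G
    have hg : ∀ p, g.val *ᵥ p = G p := fun p => by
      rw [← Symp.glEquiv_apply]
      exact LinearEquiv.congr_fun ((Symp.glEquiv (Fin k ⊕ Fin k) F).apply_symm_apply G) p
    obtain ⟨UA, rfl⟩ := hAA
    obtain ⟨UB, rfl⟩ := hBB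
    let kk : GL (Fin 2 × Fin k) F := ⟨UA.val ⊗ₖ UB.val, (UA⁻¹).val ⊗ₖ (UB⁻¹).val,
      by rw [← Matrix.mul_kronecker_mul, Units.mul_inv, Units.mul_inv, Matrix.one_kronecker_one],
      by rw [← Matrix.mul_kronecker_mul, Units.inv_mul, Units.inv_mul, Matrix.one_kronecker_one]⟩
    refine ⟨g, mem_sp.2 fun p p' => by rw [hg, hg]; exact hGiso p p', ?_⟩
    have hmem : P * Cfsg.Geo.glReindex e.symm kk * P⁻¹ ∈ Cfsg.Geo.tensorProductSubgroup 2 k e P :=
      ⟨_, ⟨kk, ⟨UA, UB, rfl⟩, rfl⟩, rfl⟩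
    suffices g⁻¹ * x * g = P * Cfsg.Geo.glReindex e.symm kk * P⁻¹ by rw [this]; exact hmem
    set Y := P * Cfsg.Geo.glReindex e.symm kk * P⁻¹ with hY
    have hGx : ∀ t, G (xT t) = u t := fun t => by
      have h := hG (Sum.inl t); rw [hβ, hβT] at h; exact h
    have hGy : ∀ t, G (yT t) = w t := fun t => by
      have h := hG (Sum.inr t); rw [hβ, hβT] at h; exact h
    have hkey : (G : _ →ₗ[F] _) ∘ₗ Matrix.toLin' Y.val = X ∘ₗ (G : _ →ₗ[F] _) := by
      refine βT.ext fun s => ?_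
      rw [LinearMap.comp_apply, LinearMap.comp_apply, LinearEquiv.coe_coe, Matrix.toLin'_apply, hβT]
      rcases s with t | t
      · obtain ⟨a₁, b₁, a₂, b₂, h1, -, h3, -⟩ := hact t
        simp only [Sum.elim_inl]
        rw [hGx, h1, show xT t = pure₁ e P e₁ (v t) from rfl, hY,
          TensorElem.act_kron UA.val UB.val kk rfl, h3, map_add, map_smul, map_smul, hGx, hGy]
      · obtain ⟨a₁, b₁, a₂, b₂, -, h2', -, h4⟩ := hact t
        simp only [Sum.elim_inr]
        rw [hGy, h2', show yT t = (ω * S t)⁻¹ • pure₁ e P e₂ (v t) from rfl, Matrix.mulVec_smul, hY,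
          TensorElem.act_kron UA.val UB.val kk rfl, h4, map_add, map_smul, map_smul, hGx, hGy]
    refine Units.ext (Matrix.ext_iff_mulVec.2 fun p => G.injective ?_)
    have h := LinearMap.congr_fun hkey p
    rw [LinearMap.comp_apply, LinearMap.comp_apply, LinearEquiv.coe_coe, Matrix.toLin'_apply] at h
    rw [h, Units.val_mul, Units.val_mul, ← Matrix.mulVec_mulVec, ← Matrix.mulVec_mulVec, hg, ← hg ((g⁻¹ : GL (Fin k ⊕ Fin k) F).val *ᵥ _),
      Matrix.mulVec_mulVec, Units.mul_inv, Matrix.one_mulVec, hXdef, Matrix.toLin'_apply]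
  rcases hz with rfl | rfl
  · -- diagonal blocks
    have hblk : ∀ t, ∃ α : F, α ≠ 0 ∧ X (xs t) = α • xs t ∧ X (ys t) = α • ys t := fun t => by
      obtain ⟨hxy, a', b', c', e', hP, hx', hy'⟩ := hp t
      rcases hP with ⟨-, hb', hc', he'⟩ | ⟨hz1, -⟩
      · subst hb' hc' he'
        simp only [zero_smul, add_zero, zero_add] at hx' hy'
        refine ⟨e', fun h => ?_, hx', hy'⟩
        have h1 := hX2 (xs t)
        rw [hx', h, zero_smul, map_zero, one_smul] at h1
        rw [← h1, map_zero, LinearMap.zero_apply] at hxy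
        exact zero_ne_one hxy
      · exact absurd hz1 fun h => h2 (by linear_combination h)
    choose α hα0 hαx hαy using hblk
    let BB := LinearMap.toMatrix' (v.constr F fun t => α t • v t)
    have hBB : ∀ t, BB *ᵥ v t = α t • v t := fun t => by
      rw [LinearMap.toMatrix'_mulVec, Basis.constr_basis]
    let BI := LinearMap.toMatrix' (v.constr F fun t => (α t)⁻¹ • v t)
    have hBI : ∀ t, BI *ᵥ v t = (α t)⁻¹ • v t := fun t => by
      rw [LinearMap.toMatrix'_mulVec, Basis.constr_basis]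
    have hBu : IsUnit BB := by
      refine isUnit_iff_exists_inv.2 ⟨BI, Matrix.toLin'.injective (v.ext fun t => ?_)⟩
      rw [Matrix.toLin'_apply, Matrix.toLin'_apply, ← Matrix.mulVec_mulVec, hBI, Matrix.mulVec_smul, hBB, smul_smul,
        inv_mul_cancel₀ (hα0 t), one_smul, Matrix.one_mulVec]
    refine ⟨xs, ys, 1, BB, fun t => (hp t).1, ho, isUnit_one, hBu, fun t => ⟨α t, 0, 0, α t, ?_, ?_, ?_, ?_⟩⟩
    · rw [hαx, zero_smul, add_zero]
    · rw [hαy, zero_smul, zero_add]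
    · rw [Matrix.one_mulVec, hBB, map_smul, zero_smul, add_zero]
    · rw [Matrix.one_mulVec, hBB, map_smul, zero_smul, zero_add, smul_comm]
  · -- rotations
    have hblk : ∀ t, ∃ β₁ α β' : F, β₁ ≠ 0 ∧ X (xs t) = β₁ • ys t ∧ X (ys t) = -β₁⁻¹ • xs t ∧
        α * α - -1 * (β' * β') = ω * S t * β₁⁻¹ := fun t => by
      obtain ⟨-, a', b', c', e', hP, hx', hy'⟩ := hp t
      rcases hP with ⟨hz1, -⟩ | ⟨-, ha', he', hb', hc'⟩
      · exact absurd hz1 fun h => h2 (by linear_combination -h)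
      · subst ha' he' hc'
        simp only [zero_smul, add_zero, zero_add] at hx' hy'
        obtain ⟨α, β', hαβ⟩ := SquareScalar.exists_quad (neg_ne_zero.2 (one_ne_zero : (1 : F) ≠ 0)) (ω * S t * b'⁻¹)
        exact ⟨b', α, β', hb', hx', hy', hαβ⟩
    choose β₁ α β' hβ0 hXx hXy hαβ using hblk
    let u : Fin k → (Fin k ⊕ Fin k → F) := fun t => α t • xs t + (β' t * β₁ t) • ys t
    let w : Fin k → (Fin k ⊕ Fin k → F) := fun t => (ω * S t)⁻¹ • X (u t)
    have hXu : ∀ t, X (u t) = (α t * β₁ t) • ys t + (-β' t) • xs t := fun t => by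
      simp only [u, map_add, map_smul, hXx, hXy, smul_smul]
      congr 2
      field_simp [hβ0 t]
    let AA : Matrix (Fin 2) (Fin 2) F := !![0, -1; 1, 0]
    have hAu : IsUnit AA := isUnit_iff_exists_inv.2 ⟨!![0, 1; -1, 0], by
      ext s t; fin_cases s <;> fin_cases t <;> simp [AA, Matrix.mul_apply, Fin.sum_univ_two]⟩
    have hA1 : AA *ᵥ e₁ = e₂ := by funext s; fin_cases s <;> simp [AA, e₁, e₂, Matrix.mulVec, dotProduct, Fin.sum_univ_two]
    have hA2 : AA *ᵥ e₂ = -e₁ := by funext s; fin_cases s <;> simp [AA, e₁, e₂, Matrix.mulVec, dotProduct, Fin.sum_univ_two]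
    have hsk : ∀ p p', B p' p = -B p p' := fun p p' => (LinearMap.IsAlt.neg hA p p').symm
    refine ⟨u, w, AA, 1, fun t => ?_, fun s t hst => ?_, hAu, isUnit_one, fun t => ⟨0, ω * S t, -(ω * S t)⁻¹, 0, ?_, ?_, ?_, ?_⟩⟩
    · simp only [w, hXu]
      simp only [u, map_smul, map_add, LinearMap.add_apply, LinearMap.smul_apply, smul_eq_mul, hA.self_eq_zero,
        hsk (xs t) (ys t), (hp t).1]
      calc _ = (ω * S t)⁻¹ * ((α t * α t - -1 * (β' t * β' t)) * β₁ t) := by ring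
        _ = 1 := by rw [hαβ t, inv_mul_cancel_right₀ (hβ0 t), inv_mul_cancel₀ (mul_ne_zero hω0 (hS0 t))]
    · obtain ⟨o1, o2, o3⟩ := ho s t hst
      have o4 : B (ys s) (xs t) = 0 := by rw [hsk (xs t) (ys s), (ho t s hst.symm).2.1, neg_zero]
      simp only [w, hXu, u, map_smul, map_add, LinearMap.add_apply, LinearMap.smul_apply, smul_eq_mul, o1, o2, o3, o4]
      refine ⟨?_, ?_, ?_⟩ <;> ring
    · rw [zero_smul, zero_add]
      show X (u t) = (ω * S t) • (ω * S t)⁻¹ • X (u t)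
      rw [smul_smul, mul_inv_cancel₀ (mul_ne_zero hω0 (hS0 t)), one_smul]
    · show X ((ω * S t)⁻¹ • X (u t)) = _
      rw [map_smul, hX2, zero_smul, add_zero, neg_one_smul, smul_neg, neg_smul]
    · rw [hA1, Matrix.one_mulVec, zero_smul, zero_add, show yT t = (ω * S t)⁻¹ • pure₁ e P e₂ (v t) from rfl, smul_smul,
        mul_inv_cancel₀ (mul_ne_zero hω0 (hS0 t)), one_smul]
    · rw [hA2, Matrix.one_mulVec, map_neg, LinearMap.neg_apply, zero_smul, add_zero, smul_neg, neg_smul]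

/-- Elements of prime order of PSp_n(q), q odd, and the stabilizers of tensor decompositions Sp_a(q) ⊗ O_b(q). Here `T = PSp_{2d}(F)` for a field `F` with `q` elements, `q` odd, `d ≥ 2`, realised through the matrices preserving the standard alternating form `f`; `2d = a·b` with `a` even, `b ≥ 3`, and the bijection `e` and change of basis `P` exhibit `f` as a non-zero scalar multiple of the tensor product of a non-degenerate alternating form `f₁` on `F^a` and a non-degenerate symmetric bilinear form `f₂` on `F^b`; `H` is the subgroup of `T` stabilizing this tensor decomposition (the elements of `T` in the conjugate by `P` of the group of Kronecker products) — a subgroup of type Sp_a(q) ⊗ O^ε_b(q) (maximality is not assumed). Ω is the set of cosets of `H` in `T`, so an element of `T` of prime order `r` (`x ∈ T` with `x^r` scalar, `x` not scalar) fixes a point of Ω exactly when some `T`-conjugate of `x` lies in `H`. Let `r` be a prime dividing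 the index of `H`. Then every element of `T` of order `r` fixes a point of Ω if and only if `r = 2` and `a = 2`. -/
theorem result {F : Type*} [Field F] [Fintype F] {p : ℕ} [Fact p.Prime] [CharP F p] {q : ℕ} (hq : Fintype.card F = q)
    (hodd : Odd q) (d : ℕ) (hd : 2 ≤ d) (a b : ℕ) (hab : 2 * d = a * b) (ha : Even a) (ha2 : 2 ≤ a) (hb : 3 ≤ b)
    (e : (Fin d ⊕ Fin d) ≃ Fin a × Fin b) (P : GL (Fin d ⊕ Fin d) F)
    (f₁ : (Fin a → F) → (Fin a → F) → F) (f₂ : (Fin b → F) → (Fin b → F) → F)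
    (hf₁ : Cfsg.Geo.IsSymplecticForm f₁) (hf₂ : Cfsg.Geo.IsSymmetricForm f₂)
    (hS : Cfsg.Geo.IsTensorFormStructure id (Cfsg.sympForm d F) f₁ f₂ e P)
    (r : ℕ) [Fact r.Prime]
    (hΩ : r ∣ (Cfsg.Geo.tensorProductSubgroup a b e P).relIndex (Cfsg.spGL d F)) :
    (∀ x ∈ Cfsg.spGL d F, (∃ z : F, ((x ^ r : GL (Fin d ⊕ Fin d) F) : Matrix (Fin d ⊕ Fin d) (Fin d ⊕ Fin d) F) = z • (1 : Matrix (Fin d ⊕ Fin d) (Fin d ⊕ Fin d) F)) →
      (∀ z : F, (x : Matrix (Fin d ⊕ Fin d) (Fin d ⊕ Fin d) F) ≠ z • (1 : Matrix (Fin d ⊕ Fin d) (Fin d ⊕ Fin d) F)) →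
      ∃ g ∈ Cfsg.spGL d F, g⁻¹ * x * g ∈ Cfsg.Geo.tensorProductSubgroup a b e P) ↔ (r = 2 ∧ a = 2) := by
  classical
  subst hq
  have h2 : (2 : F) ≠ 0 := Orth.two_ne_zero_of_odd_card hodd
  constructor
  · intro hall
    have hrp : r ≠ p := fun h => by
      subst h
      obtain ⟨x, hx, hz, hns, hbad⟩ := transvection_bad (p := r) (e := e) (P := P) hd ha2 (by omega)
      obtain ⟨g, -, hgx⟩ := hall x hx hz hns
      exact hbad g hgx
    by_cases hr2 : r = 2
    · subst hr2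
      refine ⟨rfl, ?_⟩
      by_contra hne
      obtain ⟨m, hm⟩ := ha
      obtain ⟨x, hx, hz, hns, hbad⟩ := invol_bad (e := e) (P := P) h2 hd (by omega) hb
      obtain ⟨g, -, hgx⟩ := hall x hx hz hns
      exact hbad g hgx
    exfalso
    set i := orderOf (Fintype.card F : ZMod r) with hi
    set c := if Even i then i else 2 * i with hc
    obtain ⟨x, hx, hz, hns, hbad⟩ := semi_bad p (e := e) (P := P) hab ha2 hb hr2 hrp hi hc (order_bound p hrp hi hc _ hΩ)
    obtain ⟨g, hg, hgx⟩ := hall x hx hz hns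
    exact hbad g hg hgx
  · rintro ⟨rfl, rfl⟩ x hx ⟨z, hz⟩ -
    exact fixes_two h2 hf₁ hf₂ hS (by omega) hx hz

end Cfsg.Agent.S5980
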