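import Cfsg.Statements.S5982
import Cfsg.Agent.Lib.Linear.FormClass.Common
import Cfsg.Agent.Lib.Linear.HermitianFactor
import Cfsg.Agent.Lib.Linear.HermParabolic
import Cfsg.Agent.S5957
import Cfsg.Agent.S5968
import Cfsg.Agent.S5981
-- import your own Cfsg.Agent.* helpers here

set_option autoImplicit false
open scoped MatrixGroups
open Cfsg

namespace Cfsg.Agent.S5982

set_option maxHeartbeats 1000000

open Cfsg.Lib.Linear.FormClass Cfsg.Agent.Lib.Linear.PrimeClasses Cfsg.Lib.Linear.IsoFix Cfsg.Lib.Linear.Herm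
open Cfsg.Agent.S5981 (exists_center_three exists_center_five)
open scoped Matrix

section Aux

variable {F : Type*} [Field F] [Fintype F] {q n : ℕ}

local notation "GLn" => GL (Fin n) F
local notation "Mn" => Matrix (Fin n) (Fin n) F

theorem exists_gram (hF : Fintype.card F = q ^ 2) {f : (Fin n → F) → (Fin n → F) → F}
    (hf : Cfsg.Geo.IsUnitaryFormPow q f) :
    ∃ J : Mn, adj hF J = J ∧ J.det ≠ 0 ∧ ∀ g : GLn,
      g ∈ Cfsg.Geo.similarityGroup f ↔ ∃ c : Fˣ, adj hF g.val * J * g.val = (c : F) • J := by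
  classical
  obtain ⟨ha, hs, hh, hnd⟩ := hf
  have hh' : ∀ u v, f u v = frob hF (f v u) := fun u v => by rw [frob_apply]; exact hh u v
  have har : ∀ u v w, f u (v + w) = f u v + f u w := fun u v w => by
    rw [hh', ha, map_add, ← hh', ← hh']
  have hsr : ∀ c u v, f u (c • v) = frob hF c * f u v := fun c u v => by
    rw [hh', hs, map_mul, ← hh']
  obtain ⟨J, hJ⟩ : ∃ J : Mn, ∀ i j, J i j = f (Pi.single j 1) (Pi.single i 1) :=
    ⟨Matrix.of fun i j => f (Pi.single j 1) (Pi.single i 1), fun i j => rfl⟩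
  have hf' : ∀ u v, f v u = (fun i => frob hF (u i)) ⬝ᵥ (J *ᵥ v) := by
    intro u v
    let A : (Fin n → F) → (Fin n → F) →ₗ[F] F := fun u =>
      { toFun := fun v => f v u, map_add' := fun a b => ha a b u, map_smul' := fun c a => hs c a u }
    let R : (Fin n → F) →ₛₗ[frob hF] F :=
      { toFun := fun u => f v u, map_add' := fun a b => har v a b, map_smul' := fun c a => hsr c v a }
    have h1 : ∀ w, f v w = ∑ j, v j * f (Pi.single j 1) w := fun w => by
      show A w v = _
      conv_lhs => rw [pi_eq_sum_univ v, map_sum]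
      refine Finset.sum_congr rfl fun j _ => ?_
      rw [map_smul, smul_eq_mul]
      rw [show (fun j' => if j = j' then (1 : F) else 0) = Pi.single j 1 from funext fun i => by simp [Pi.single_apply, eq_comm]]
      rfl
    show R u = _
    conv_lhs => rw [pi_eq_sum_univ u, map_sum]
    simp only [dotProduct, Matrix.mulVec]
    refine Finset.sum_congr rfl fun i _ => ?_
    rw [LinearMap.map_smulₛₗ, smul_eq_mul]
    show _ * f v (fun j => if i = j then 1 else 0) = _
    rw [show (fun j => if i = j then (1 : F) else 0) = Pi.single i 1 from funext fun j => by simp [Pi.single_apply, eq_comm],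
      h1, Finset.mul_sum, Finset.mul_sum]
    refine Finset.sum_congr rfl fun j _ => ?_
    rw [hJ]; ring
  refine ⟨J, ?_, fun h => ?_, fun g => exists_congr fun c => ?_⟩
  · ext i j
    simp only [adj, Matrix.transpose_apply, Matrix.map_apply, hJ]
    exact (hh' _ _).symm
  · obtain ⟨v, hv, hv0⟩ := Matrix.exists_mulVec_eq_zero_iff.2 h
    obtain ⟨-, w, hw⟩ := hnd v hv
    refine hw ?_
    rw [hf', hv0, dotProduct_zero]
  · have key : ∀ u v, f (g.val *ᵥ v) (g.val *ᵥ u) = (fun i => frob hF (u i)) ⬝ᵥ ((adj hF g.val * J * g.val) *ᵥ v) := fun u v => by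
      rw [hf', map_mulVec', adj, ← Matrix.mulVec_mulVec, ← Matrix.mulVec_mulVec,
        Matrix.dotProduct_mulVec _ (g.val.map (frob hF))ᵀ, Matrix.vecMul_transpose]
    constructor
    · intro h
      refine Matrix.ext fun i j => ?_
      have h1 := h (Pi.single j 1) (Pi.single i 1)
      rw [key, hf', show (fun l => frob hF ((Pi.single i 1 : Fin n → F) l)) = Pi.single i 1 from funext fun l => by
        rcases eq_or_ne l i with rfl | hl
        · simp
        · simp [Pi.single_eq_of_ne hl], single_one_dotProduct, single_one_dotProduct, Matrix.mulVec_single_one,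
        Matrix.col_apply, Matrix.mulVec_single_one, Matrix.col_apply] at h1
      rw [h1, Matrix.smul_apply, smul_eq_mul]
    · intro h u v
      rw [key, h, hf', Matrix.smul_mulVec, dotProduct_smul, smul_eq_mul]

theorem adj_congr (hF : Fintype.card F = q ^ 2) {ι : Type} [Fintype ι] {G : Matrix ι ι F} (hG : adj hF G = G)
    (C : Matrix ι ι F) : adj hF (adj hF C * G * C) = adj hF C * G * C := by
  rw [adj_mul, adj_mul, adj_adj, hG, mul_assoc]

theorem det_congr_u (hF : Fintype.card F = q ^ 2) {ι : Type} [Fintype ι] [DecidableEq ι] (C G : Matrix ι ι F) :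
    (adj hF C * G * C).det = frob hF C.det * C.det * G.det := by
  rw [Matrix.det_mul, Matrix.det_mul, det_adj]; ring

/-- Hermitian matrices are norms. -/
theorem exists_root' (hF : Fintype.card F = q ^ 2) {G : Mn} (hG : adj hF G = G) (hd : G.det ≠ 0) :
    ∃ T : GLn, adj hF T.val * T.val = G := by
  obtain ⟨w, hw⟩ : ∃ w : F, frob hF w ≠ w := by
    by_contra h
    push Not at h
    exact frob_ne_id hF (RingHom.ext h)
  obtain ⟨S, hS, hSS, -⟩ := Cfsg.Lib.Linear.HermitianFactor.exists_factor (σ := frob hF) (frob_frob hF) hw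
    (H := G) hG ((Matrix.isUnit_iff_isUnit_det _).2 (isUnit_iff_ne_zero.2 hd))
  exact ⟨hS.unit, hSS⟩

/-- A conjugate among the similitudes gives an invariant Hermitian form. -/
theorem pull (hF : Fintype.card F = q ^ 2) {f : (Fin n → F) → (Fin n → F) → F} {J : Mn} (hJs : adj hF J = J)
    (hJd : J.det ≠ 0) (hJ : ∀ g : GLn, g ∈ Cfsg.Geo.similarityGroup f ↔ ∃ c : Fˣ, adj hF g.val * J * g.val = (c : F) • J)
    {x g : GLn} (h : g⁻¹ * x * g ∈ Cfsg.Geo.similarityGroup f) :
    ∃ (G : Mn) (μ : F), adj hF G = G ∧ G.det ≠ 0 ∧ μ ≠ 0 ∧ adj hF x.val * G * x.val = μ • G := by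
  obtain ⟨c, hc⟩ := (hJ _).1 h
  obtain ⟨h', hh'⟩ : ∃ h' : GLn, h' = g⁻¹ := ⟨_, rfl⟩
  obtain ⟨y, hy⟩ : ∃ y : GLn, y = g⁻¹ * x * g := ⟨_, rfl⟩
  rw [← hy] at hc
  have e : y.val * h'.val = h'.val * x.val := by
    rw [← Units.val_mul, ← Units.val_mul]
    exact congrArg Units.val (by rw [hy, hh', mul_inv_cancel_right])
  refine ⟨adj hF h'.val * J * h'.val, c, adj_congr hF hJs _, ?_, c.ne_zero, ?_⟩
  · rw [det_congr_u]
    exact mul_ne_zero (mul_ne_zero ((map_ne_zero_iff _ (frob hF).injective).2 (Matrix.GeneralLinearGroup.det h').ne_zero)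
      (Matrix.GeneralLinearGroup.det h').ne_zero) hJd
  · calc adj hF x.val * (adj hF h'.val * J * h'.val) * x.val
        = adj hF (h'.val * x.val) * J * (h'.val * x.val) := by rw [adj_mul]; simp only [mul_assoc]
      _ = adj hF h'.val * (adj hF y.val * J * y.val) * h'.val := by rw [← e, adj_mul]; simp only [mul_assoc]
      _ = _ := by rw [hc, Matrix.mul_smul, Matrix.smul_mul]

/-- An invariant Hermitian form gives a conjugate among the similitudes. -/
theorem into (hF : Fintype.card F = q ^ 2) {f : (Fin n → F) → (Fin n → F) → F} {J : Mn} (hJs : adj hF J = J)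
    (hJd : J.det ≠ 0) (hJ : ∀ g : GLn, g ∈ Cfsg.Geo.similarityGroup f ↔ ∃ c : Fˣ, adj hF g.val * J * g.val = (c : F) • J)
    (x P : GLn) (A G : Mn) (hP : x.val * P.val = P.val * A) (hGs : adj hF G = G) (hGd : G.det ≠ 0)
    {μ : F} (hμ : μ ≠ 0) (hA : adj hF A * G * A = μ • G) : ∃ g : GLn, g⁻¹ * x * g ∈ Cfsg.Geo.similarityGroup f := by
  obtain ⟨T, hT⟩ := exists_root' hF hGs hGd
  obtain ⟨S, hS⟩ := exists_root' hF hJs hJd
  obtain ⟨C, hCdef⟩ : ∃ C : GLn, C = T⁻¹ * S := ⟨_, rfl⟩
  have hTC : T.val * C.val = S.val := congrArg Units.val (show T * C = S by rw [hCdef, mul_inv_cancel_left])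
  have hC : adj hF C.val * G * C.val = J := by
    rw [← hT, ← mul_assoc, mul_assoc (adj hF C.val * adj hF T.val), ← adj_mul, hTC, hS]
  refine ⟨P * C, (hJ _).2 ⟨Units.mk0 μ hμ, ?_⟩⟩
  obtain ⟨y, hy⟩ : ∃ y : GLn, y = (P * C)⁻¹ * x * (P * C) := ⟨_, rfl⟩
  rw [← hy]
  have e : C.val * y.val = A * C.val := by
    have h1 : P.val * (C.val * y.val) = P.val * (A * C.val) := by
      rw [← mul_assoc P.val A, ← hP]
      have h3 := congrArg Units.val (show P * (C * y) = x * P * C by rw [hy]; group)
      simpa only [Units.val_mul] using h3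
    calc C.val * y.val = (P⁻¹).val * (P.val * (C.val * y.val)) := by rw [← mul_assoc, Units.inv_mul, one_mul]
      _ = _ := by rw [h1, ← mul_assoc, Units.inv_mul, one_mul]
  calc adj hF y.val * J * y.val
      = adj hF (C.val * y.val) * G * (C.val * y.val) := by rw [← hC, adj_mul]; simp only [mul_assoc]
    _ = adj hF C.val * (adj hF A * G * A) * C.val := by rw [e, adj_mul]; simp only [mul_assoc]
    _ = _ := by rw [hA, Matrix.mul_smul, Matrix.smul_mul, hC, Units.val_mk0]

theorem mult_fixed (hF : Fintype.card F = q ^ 2) (hn : 0 < n) {x G : Mn} {μ : F} (hGs : adj hF G = G) (hG : G.det ≠ 0)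
    (h : adj hF x * G * x = μ • G) : frob hF μ = μ := by
  have h1 := congrArg (adj hF) h
  rw [adj_congr hF hGs, adj_smul, hGs, h] at h1
  have hG0 : G ≠ 0 := fun h0 => hG (by haveI : Nonempty (Fin n) := ⟨⟨0, hn⟩⟩; rw [h0]; exact Matrix.det_zero)
  exact (smul_left_injective F hG0 h1).symm

theorem mult_pow (hF : Fintype.card F = q ^ 2) {x G : Mn} {μ : F} (h : adj hF x * G * x = μ • G) (k : ℕ) :
    adj hF (x ^ k) * G * x ^ k = μ ^ k • G := by
  induction k with
  | zero => simp [adj_one]
  | succ k ih =>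
    calc adj hF (x ^ (k + 1)) * G * x ^ (k + 1) = adj hF x * (adj hF (x ^ k) * G * x ^ k) * x := by
          rw [pow_succ, adj_mul]; simp only [mul_assoc]
      _ = _ := by rw [ih, Matrix.mul_smul, Matrix.smul_mul, h, smul_smul, pow_succ]

theorem mult_scalar (hF : Fintype.card F = q ^ 2) (hn : 0 < n) {x G : Mn} {μ c : F} (h : adj hF x * G * x = μ • G)
    (hG : G.det ≠ 0) {r : ℕ} (hx : x ^ r = c • 1) : μ ^ r = frob hF c * c := by
  have h1 := mult_pow hF h r
  rw [hx, adj_smul, adj_one, smul_mul_assoc, one_mul, smul_mul_smul_comm, mul_one] at h1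
  have hG0 : G ≠ 0 := fun h0 => hG (by haveI : Nonempty (Fin n) := ⟨⟨0, hn⟩⟩; rw [h0]; exact Matrix.det_zero)
  exact (smul_left_injective F hG0 h1).symm

/-- Two eigenvalues with multiplicities of their own and different norms. -/
theorem diag_bad [DecidableEq F] (hF : Fintype.card F = q ^ 2) {d : Fin n → F} {G : Mn} (hGs : adj hF G = G)
    (hG : G.det ≠ 0) {μ : F} (hμ : μ ≠ 0) (h : adj hF (Matrix.diagonal d) * G * Matrix.diagonal d = μ • G)
    {a b : Fin n} (hab : frob hF (d a) * d a ≠ frob hF (d b) * d b)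
    (ha : ∀ j, (Finset.univ.filter fun l => d l = d j).card = (Finset.univ.filter fun l => d l = d a).card → d j = d a)
    (hb : ∀ j, (Finset.univ.filter fun l => d l = d j).card = (Finset.univ.filter fun l => d l = d b).card → d j = d b) :
    False := by
  have hμf := mult_fixed hF a.pos hGs hG h
  have hnd : ∀ v, (∀ j, Matrix.toBilin' G v (Pi.single j 1) = 0) → v = 0 := fun v hv =>
    (Matrix.Nondegenerate.toBilin' (Matrix.nondegenerate_of_det_ne_zero hG)).1 v fun w => by
      have h0 : Matrix.toBilin' G v = 0 := (Pi.basisFun F (Fin n)).ext fun j => by rw [Pi.basisFun_apply]; exact hv j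
      rw [h0]; rfl
  have hij : ∀ i j, Matrix.toBilin' G (Pi.single i 1) (Pi.single j 1) ≠ 0 → frob hF (d i) * d j = μ := fun i j hne => by
    rw [Matrix.toBilin'_single] at hne
    have e := congrFun (congrFun h i) j
    rw [adj, Matrix.diagonal_map (map_zero _), Matrix.diagonal_transpose, Matrix.mul_diagonal, Matrix.diagonal_mul,
      Matrix.smul_apply, smul_eq_mul] at e
    exact mul_right_cancel₀ hne (by linear_combination e)
  have key : ∀ a, (∀ j, (Finset.univ.filter fun l => d l = d j).card = (Finset.univ.filter fun l => d l = d a).card →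
      d j = d a) → frob hF (d a) * d a = μ := by
    intro a ha
    obtain ⟨j, hj⟩ : ∃ j, Matrix.toBilin' G (Pi.single a 1) (Pi.single j 1) ≠ 0 := by
      by_contra hc
      push Not at hc
      simpa using congrFun (hnd _ hc) a
    have hμj := hij a j hj
    have hda : frob hF (d a) ≠ 0 := fun h0 => hμ (by rw [← hμj, h0, zero_mul])
    have hdj : frob hF (d j) ≠ 0 := fun h0 => hμ (by
      rw [← hμj, (map_eq_zero_iff _ (frob hF).injective).1 h0, mul_zero])
    have hμj' : frob hF (d j) * d a = μ := by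
      conv_rhs => rw [← hμf, ← hμj, map_mul, frob_frob hF, mul_comm]
    have h1 := Cfsg.Agent.S5968.card_le_of_paired (Matrix.toBilin' G) hnd (Finset.univ.filter fun l => d l = d a)
      (Finset.univ.filter fun l => d l = d j) fun i hi l hl => by
        by_contra hc
        refine hl (Finset.mem_filter.2 ⟨Finset.mem_univ _, mul_left_cancel₀ hda ?_⟩)
        rw [hμj, ← (Finset.mem_filter.1 hi).2]
        exact hij i l hc
    have h2 := Cfsg.Agent.S5968.card_le_of_paired (Matrix.toBilin' G) hnd (Finset.univ.filter fun l => d l = d j)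
      (Finset.univ.filter fun l => d l = d a) fun i hi l hl => by
        by_contra hc
        refine hl (Finset.mem_filter.2 ⟨Finset.mem_univ _, mul_left_cancel₀ hdj ?_⟩)
        rw [hμj', ← (Finset.mem_filter.1 hi).2]
        exact hij i l hc
    conv_lhs => arg 2; rw [← ha j (le_antisymm h2 h1)]
    exact hμj
  exact hab ((key a ha).trans (key b hb).symm)

/-- Matrices with scalar square a norm keep a Hermitian form up to a scalar. -/
theorem exists_form_two (hF : Fintype.card F = q ^ 2) (x : GLn) {l : F} (hl : l ≠ 0) (hx : x.val * x.val = (l * l) • 1) :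
    ∃ (P : GLn) (A G : Mn), x.val * P.val = P.val * A ∧ adj hF G = G ∧ G.det ≠ 0 ∧
      adj hF A * G * A = (frob hF l * l) • G := by
  classical
  obtain ⟨r, s, b, c, hp, hs⟩ := Cfsg.Agent.S5957.exists_normal_basis (Matrix.toLin' x.val) (l * l) (mul_ne_zero hl hl)
    (fun v => by rw [Matrix.toLin'_apply, Matrix.toLin'_apply, Matrix.mulVec_mulVec, hx, Matrix.smul_mulVec, Matrix.one_mulVec])
  have hc : ∀ k, frob hF (c k) * c k = frob hF l * l := fun k => by
    have h1 := congrArg (fun T : Mn => T *ᵥ b (.inr k)) hx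
    simp only [← Matrix.mulVec_mulVec, Matrix.smul_mulVec, Matrix.one_mulVec] at h1
    rw [← Matrix.toLin'_apply, ← Matrix.toLin'_apply, hs, map_smul, hs, smul_smul] at h1
    rcases mul_self_eq_mul_self_iff.1 (smul_left_injective F (b.ne_zero _) h1) with h | h <;> rw [h]
    rw [map_neg, neg_mul_neg]
  obtain ⟨μ, hμ⟩ : ∃ μ, μ = frob hF l * l := ⟨_, rfl⟩
  have hμf : frob hF μ = μ := by rw [hμ, map_mul, frob_frob hF, mul_comm]
  have hμ0 : μ ≠ 0 := by rw [hμ]; exact mul_ne_zero ((map_ne_zero_iff _ (frob hF).injective).2 hl) hl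
  have hμ2 : frob hF (l * l) * (l * l) = μ * μ := by rw [hμ, map_mul]; ring
  let blk : Matrix (Fin 2) (Fin 2) F := Matrix.diagonal ![1, μ]
  have hblk : adj hF blk = blk ∧ blk.det = μ ∧
      adj hF (!![0, l * l; 1, 0] : Matrix (Fin 2) (Fin 2) F) * blk * !![0, l * l; 1, 0] = μ • blk := by
    refine ⟨?_, ?_, ?_⟩
    · ext i j; fin_cases i <;> fin_cases j <;> simp [adj, blk, hμf]
    · simp [blk]
    · ext i j; fin_cases i <;> fin_cases j <;> simp [adj, blk, Matrix.mul_apply, Fin.sum_univ_two] <;>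
        linear_combination (norm := skip) hμ2 <;> simp <;> ring
  let K : Matrix ((Fin 2 × Fin r) ⊕ Fin s) ((Fin 2 × Fin r) ⊕ Fin s) F :=
    Matrix.fromBlocks (Matrix.blockDiagonal fun _ : Fin r => (!![0, l * l; 1, 0] : Matrix (Fin 2) (Fin 2) F)) 0 0 (Matrix.diagonal c)
  let N : Matrix ((Fin 2 × Fin r) ⊕ Fin s) ((Fin 2 × Fin r) ⊕ Fin s) F :=
    Matrix.fromBlocks (Matrix.blockDiagonal fun _ : Fin r => blk) 0 0 1
  have hadj : ∀ (X : Matrix (Fin 2) (Fin 2) F) (Y : Matrix (Fin s) (Fin s) F),
      adj hF (Matrix.fromBlocks (Matrix.blockDiagonal fun _ : Fin r => X) 0 0 Y) =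
        Matrix.fromBlocks (Matrix.blockDiagonal fun _ : Fin r => adj hF X) 0 0 (adj hF Y) := fun X Y => by
    simp only [adj, Matrix.fromBlocks_map, Matrix.fromBlocks_transpose, Matrix.map_zero _ (map_zero (frob hF)), Matrix.transpose_zero,
      Matrix.blockDiagonal_map _ _ (map_zero (frob hF)), Matrix.blockDiagonal_transpose]
  have hNs : adj hF N = N := by simp only [N, hadj, hblk.1, adj_one]
  have hKN : adj hF K * N * K = μ • N := by
    simp only [K, N, hadj, Matrix.fromBlocks_multiply, Matrix.mul_zero, Matrix.zero_mul, add_zero, zero_add, Matrix.fromBlocks_smul,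
      smul_zero, ← Matrix.blockDiagonal_mul, ← Matrix.blockDiagonal_smul, mul_one]
    congr 1
    · exact congrArg _ (funext fun _ => hblk.2.2)
    · rw [adj, Matrix.diagonal_map (map_zero _), Matrix.diagonal_transpose, Matrix.diagonal_mul_diagonal, Matrix.smul_one_eq_diagonal]
      exact congrArg _ (funext fun k => by rw [hμ]; exact hc k)
  have hNd : N.det ≠ 0 := by
    simp only [N, Matrix.det_fromBlocks_zero₂₁, Matrix.det_blockDiagonal, hblk.2.1, Matrix.det_one, mul_one,
      Finset.prod_const]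
    exact pow_ne_zero _ hμ0
  let b' := b.reindex (Equiv.sumCongr (Equiv.prodComm (Fin r) (Fin 2)) (Equiv.refl (Fin s)))
  have hb' : ∀ t, x.val *ᵥ b' t = ∑ t', K t' t • b' t' := by
    intro t
    rw [← Matrix.toLin'_apply]
    rcases t with ⟨i, p⟩ | k
    · rw [Fintype.sum_sum_type, Fintype.sum_prod_type_right, Finset.sum_eq_single p
        (fun p' _ hp' => by simp [K, Matrix.blockDiagonal_apply_ne _ _ _ hp']) (by simp), Fin.sum_univ_two]
      rcases Fin.exists_fin_two.1 ⟨i, rfl⟩ with rfl | rfl <;> simp [b', K, (hp p).1, (hp p).2]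
    · rw [Fintype.sum_sum_type, Finset.sum_eq_single k (fun k' _ hk' => by simp [K, Matrix.diagonal_apply_ne _ hk'])
        (by simp)]
      simp [b', K, hs]
  have hcard : Fintype.card ((Fin 2 × Fin r) ⊕ Fin s) = Fintype.card (Fin n) := by
    rw [← Module.finrank_eq_card_basis b', Module.finrank_fin_fun, Fintype.card_fin]
  let E := Fintype.equivOfCardEq hcard
  let β := b'.reindex E
  let P : Mn := Matrix.of fun a j => β j a
  have hPd : P.det ≠ 0 := by
    have h1 : P = (Pi.basisFun F (Fin n)).toMatrix β := by ext a j; simp [P, Module.Basis.toMatrix_apply]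
    rw [h1]
    haveI := (Pi.basisFun F (Fin n)).invertibleToMatrix β
    exact (Matrix.isUnit_det_of_invertible _).ne_zero
  let R := Matrix.reindexAlgEquiv F F E
  have hR : ∀ A, adj hF (R A) = R (adj hF A) := fun A => rfl
  refine ⟨Matrix.GeneralLinearGroup.mkOfDetNeZero P hPd, R K, R N, ?_, by rw [hR, hNs], ?_, ?_⟩
  · ext a j
    show (x.val * P) a j = (P * Matrix.reindex E E K) a j
    have h1 := congrFun (hb' (E.symm j)) a
    rw [Finset.sum_apply] at h1
    simp only [Pi.smul_apply, smul_eq_mul, Matrix.mulVec, dotProduct] at h1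
    simp only [Matrix.mul_apply, P, β, Matrix.of_apply, Module.Basis.reindex_apply, Matrix.reindex_apply, Matrix.submatrix_apply]
    rw [h1]
    exact Fintype.sum_equiv E _ _ fun t => by simp [mul_comm]
  · rw [show (R N).det = N.det from Matrix.det_reindex_self E N]; exact hNd
  · rw [hR, ← map_mul, ← map_mul, hKN, map_smul, hμ]

/-- Reversal-invariant multiplicities give an invariant form. -/
theorem exists_form_sym [Fintype F] {q : ℕ} (hF : Fintype.card F = q ^ 2) {r : ℕ} [Fact r.Prime] {w : F} (hw : IsPrimitiveRoot w r) (hwf : frob hF w = w) (e : Fin n → ZMod r) {c : ZMod r}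
    (hc : ∀ x, Fintype.card {j // e j = c - x} = Fintype.card {j // e j = x}) :
    ∃ G : Mn, adj hF G = G ∧ G.det ≠ 0 ∧
      adj hF (Matrix.diagonal fun j => zp w (e j)) * G * (Matrix.diagonal fun j => zp w (e j)) = zp w c • G := by
  classical
  let f : ZMod r → ℕ := fun x => Fintype.card {j // e j = x}
  let E : Fin n ≃ Σ x, Fin (f x) :=
    (Equiv.sigmaFiberEquiv e).symm.trans (Equiv.sigmaCongrRight fun x => Fintype.equivFin _)
  have hE : ∀ j, (E j).1 = e j := fun j => rfl
  let τ : (Σ x, Fin (f x)) → Σ x, Fin (f x) := fun a => ⟨c - a.1, Fin.cast (hc a.1).symm a.2⟩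
  have hτ : Function.Involutive τ := fun a => by
    rcases a with ⟨x, i⟩
    refine Sigma.ext (sub_sub_cancel c x) ?_
    refine (Fin.heq_ext_iff (congrArg f (sub_sub_cancel c x))).2 ?_
    rfl
  let σ : Equiv.Perm (Fin n) := (E.trans hτ.toPerm).trans E.symm
  have hσ : ∀ i, σ (σ i) = i := fun i => by simp [σ, hτ _]
  have hσe : ∀ i, e i + e (σ i) = c := fun i => by
    rw [← hE i, ← hE (σ i)]
    simp [σ, τ]
  refine ⟨σ.permMatrix F, ?_, ?_, ?_⟩
  · rw [adj, show (σ.permMatrix F).map (frob hF) = σ.permMatrix F from by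
      ext i j; simp [Equiv.Perm.permMatrix, PEquiv.toMatrix_apply, apply_ite], Matrix.transpose_permMatrix]
    congr 1
  · rw [Matrix.det_permutation]
    rcases Int.units_eq_one_or (Equiv.Perm.sign σ) with h | h <;> simp [h]
  · ext i j
    rw [adj, Matrix.diagonal_map (map_zero _), Matrix.diagonal_transpose,
      show (fun l => frob hF (zp w (e l))) = fun l => zp w (e l) from funext fun l => by rw [zp, map_pow, hwf],
      Matrix.mul_diagonal, Matrix.diagonal_mul, Matrix.smul_apply, smul_eq_mul]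
    simp only [Equiv.Perm.permMatrix, PEquiv.toMatrix_apply, Equiv.toPEquiv_apply, Option.mem_some_iff]
    split_ifs with h
    · rw [← h, mul_one, mul_one, ← zp_add hw, hσe]
    · ring

/-- The index is prime to `r` when `-1` is an odd power of `q` modulo `r`. -/
theorem index_coprime (hF : Fintype.card F = q ^ 2) (hn : 1 ≤ n) {f : (Fin n → F) → (Fin n → F) → F} {J : Mn}
    (hJs : adj hF J = J) (hJd : J.det ≠ 0)
    (hJ : ∀ g : GLn, g ∈ Cfsg.Geo.similarityGroup f ↔ ∃ c : Fˣ, adj hF g.val * J * g.val = (c : F) • J)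
    {r : ℕ} [Fact r.Prime] (hr2 : r ≠ 2) (hrq : ¬ r ∣ q) {t : ℕ} (ht : Odd t) (hqt : (q : ZMod r) ^ t = -1)
    (hΩ : r ∣ (Cfsg.Geo.similarityGroup f).relIndex (Cfsg.Geo.specialLinear (Fin n) F)) : False := by
  classical
  obtain ⟨S, hS⟩ := exists_root' hF hJs hJd
  have hSU : Nat.card ↥(Cfsg.GU n F q ⊓ Cfsg.Geo.specialLinear (Fin n) F) ∣
      Nat.card ↥(Cfsg.Geo.similarityGroup f ⊓ Cfsg.Geo.specialLinear (Fin n) F) := by
    let φ : ↥(Cfsg.GU n F q ⊓ Cfsg.Geo.specialLinear (Fin n) F) →* GLn :=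
      (MulAut.conj S⁻¹).toMonoidHom.comp (Subgroup.subtype _)
    have hφ : ∀ g, φ g = S⁻¹ * g.1 * S := fun g => by simp [φ]
    refine Subgroup.card_dvd_of_injective (φ.codRestrict _ fun g => Subgroup.mem_inf.2 ⟨(hJ _).2 ⟨1, ?_⟩, ?_⟩)
      fun g g' e => ?_
    · rw [Units.val_one, one_smul, hφ]
      obtain ⟨D, hD⟩ : ∃ D, D = S⁻¹ := ⟨_, rfl⟩
      have h1 : adj hF g.1.val * g.1.val = 1 := (mem_GU_iff hF _).1 (Subgroup.mem_inf.1 g.2).1
      have h3 : S.val * D.val = 1 := by rw [hD]; exact Units.mul_inv S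
      rw [← hD, Units.val_mul, Units.val_mul, ← hS]
      calc adj hF (D.val * g.1.val * S.val) * (adj hF S.val * S.val) * (D.val * g.1.val * S.val)
          = adj hF S.val * (adj hF g.1.val * (adj hF (S.val * D.val) * (S.val * D.val)) * g.1.val) * S.val := by
            simp only [adj_mul, mul_assoc]
        _ = _ := by rw [h3, adj_one, one_mul, mul_one, h1, mul_one]
    · rw [hφ]
      have hg := (sl_iff _).1 (Subgroup.mem_inf.1 g.2).2
      refine (sl_iff _).2 ?_
      rw [Units.val_mul, Units.val_mul, Matrix.det_units_conj']; exact hg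
    · have h1 := congrArg Subtype.val e
      change φ g = φ g' at h1
      rw [hφ, hφ, mul_left_inj, mul_right_inj] at h1
      exact Subtype.ext h1
  have h1 := Nat.mul_dvd_mul hΩ hSU
  rw [relIndex_mul] at h1
  obtain ⟨E, hE⟩ := card_sl_int (F := F) hn
  have hgu := congrArg (Nat.cast : ℕ → ℤ) (card_su_gl hF hn)
  obtain ⟨Q, hQ⟩ : ∃ Q : ℤ, Q = (q : ℤ) := ⟨_, rfl⟩
  have hQ2 : 2 ≤ Q := by rw [hQ]; exact_mod_cast two_le_q hF
  have hFQ : (Fintype.card F : ℤ) = Q ^ 2 := by rw [hQ, hF]; push_cast; rfl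
  have hg0 : ∀ i, (if Even i then q ^ (i + 1) + 1 else q ^ (i + 1) - 1 : ℕ) ≠ 0 := fun i => by
    split_ifs
    · omega
    · have := Nat.one_lt_pow (Nat.succ_ne_zero i) (two_le_q hF); simp only [Nat.succ_eq_add_one] at this; omega
  have hgc : ∀ i, (((if Even i then q ^ (i + 1) + 1 else q ^ (i + 1) - 1 : ℕ)) : ℤ) =
      if Even i then Q ^ (i + 1) + 1 else Q ^ (i + 1) - 1 := fun i => by
    split_ifs
    · rw [hQ]; push_cast; rfl
    · rw [hQ, Nat.cast_sub (Nat.one_le_pow _ _ (by have := two_le_q hF; omega))]; push_cast; rfl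
  rw [Cfsg.Lib.Linear.Herm.guCard, Nat.cast_mul, Nat.cast_mul, Nat.cast_prod, Finset.prod_congr rfl fun i _ => hgc i,
    Nat.cast_pow, Nat.cast_add, Nat.cast_one, ← hQ] at hgu
  have hfac : ∀ i : ℕ, (Fintype.card F : ℤ) ^ (i + 1) - 1 =
      (if Even i then Q ^ (i + 1) + 1 else Q ^ (i + 1) - 1) * (if Even i then Q ^ (i + 1) - 1 else Q ^ (i + 1) + 1) := fun i => by
    rw [hFQ]; split_ifs <;> ring
  rw [Finset.prod_congr rfl fun i _ => hfac i, Finset.prod_mul_distrib] at hE
  obtain ⟨n', rfl⟩ : ∃ n', n = n' + 1 := ⟨n - 1, by omega⟩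
  rw [Finset.prod_range_succ' (fun i => if Even i then Q ^ (i + 1) - 1 else Q ^ (i + 1) + 1), if_pos Even.zero, zero_add,
    pow_one, hFQ] at hE
  obtain ⟨a, ha⟩ := Int.natCast_dvd_natCast.2 h1
  push_cast at ha
  have hP : (∏ i ∈ Finset.range (n' + 1), (if Even i then Q ^ (i + 1) + 1 else Q ^ (i + 1) - 1)) * (Q - 1) ≠ 0 := by
    refine mul_ne_zero (Finset.prod_ne_zero_iff.2 fun i _ => ?_) (by omega)
    rw [← hgc i]
    exact_mod_cast hg0 i
  have h3 : (r : ℤ) ∣ Q ^ (2 * E) * ∏ i ∈ Finset.range n', (if Even (i + 1) then Q ^ (i + 1 + 1) - 1 else Q ^ (i + 1 + 1) + 1) := by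
    refine ⟨Q ^ ((n' + 1) * (n' + 1 - 1) / 2) * a, mul_left_cancel₀ hP ?_⟩
    rw [← pow_mul] at hE
    linear_combination -hE + ((Q ^ 2 - 1)) * ha + ((r : ℤ) * a * (Q - 1)) * hgu
  have h4 := (ZMod.intCast_zmod_eq_zero_iff_dvd _ r).2 h3
  rw [Int.cast_mul, Int.cast_pow, hQ, Int.cast_natCast, Int.cast_prod] at h4
  rcases mul_eq_zero.1 h4 with h | h
  · exact hrq ((ZMod.natCast_eq_zero_iff _ _).1 (eq_zero_of_pow_eq_zero h))
  · obtain ⟨i, -, hi⟩ := Finset.prod_eq_zero_iff.1 h
    have hne : (-1 : ZMod r) ≠ 1 := neg_ne_self hr2 one_ne_zero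
    split_ifs at hi with hev
    · push_cast at hi
      have h5 : ((q : ZMod r) ^ (i + 1 + 1)) ^ t = ((q : ZMod r) ^ t) ^ (i + 1 + 1) := by rw [← pow_mul, ← pow_mul, mul_comm]
      rw [sub_eq_zero.1 hi, one_pow, hqt, (hev.add_one).neg_one_pow] at h5
      exact hne h5.symm
    · push_cast at hi
      have h5 : ((q : ZMod r) ^ (i + 1 + 1)) ^ t = ((q : ZMod r) ^ t) ^ (i + 1 + 1) := by rw [← pow_mul, ← pow_mul, mul_comm]
      rw [eq_neg_of_add_eq_zero_left hi, ht.neg_one_pow, hqt, ((Nat.not_even_iff_odd.1 hev).add_odd odd_one).neg_one_pow] at h5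
      exact hne h5

end Aux

/-- Elements of prime order of PSL_n(q), q = q₀², and the subgroups of unitary type. Here `T = PSL_n(F)` for a field `F` with `q = q₀²` elements (`n ≥ 3`), `f` is a non-degenerate unitary form on `F^n` for the involutory automorphism `x ↦ x^{q₀}`, and `H` is the subgroup of matrices of determinant 1 that preserve `f` up to a scalar — a subgroup of type GU_n(q₀) (maximality is not assumed); Ω is the set of cosets of `H` in `T`, so an element of `T` of prime order `r` (a matrix `x` of determinant 1 with `x^r` scalar, `x` not scalar) fixes a point of Ω exactly when some conjugate of `x` by a matrix of determinant 1 preserves `f` up to a scalar. Let `r` be a prime dividing the index of `H`, with `r = 2` or `r` different from the characteristic `p`, and with `(n, r) ≠ (6, 3)`. Then every element of `T` of order `r` fixes a point of Ω if and only if either `r = 2` and (`p = 2` or `(n)_2 ≤ (q − 1)_2`), or `r ∈ {3, 5}`, `n = r` and `(q₀ − 1)_r = r`. (Odd `r = p` and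 the case `(n, r) = (6, 3)` are not covered by this statement.) -/
theorem result {F : Type*} [Field F] [Fintype F] {p : ℕ} [Fact p.Prime] [CharP F p] {q : ℕ} (hq : Fintype.card F = q)
    (q₀ : ℕ) (hq₀ : q = q₀ ^ 2) (n : ℕ) (hn : 3 ≤ n) (f : (Fin n → F) → (Fin n → F) → F) (hf : Cfsg.Geo.IsUnitaryFormPow q₀ f)
    (r : ℕ) [Fact r.Prime] (hr : r = 2 ∨ r ≠ p) (hgap : ¬ (n = 6 ∧ r = 3))
    (hΩ : r ∣ (Cfsg.Geo.similarityGroup f).relIndex (Cfsg.Geo.specialLinear (Fin n) F)) :
    (∀ x ∈ Cfsg.Geo.specialLinear (Fin n) F, (∃ z : F, ((x ^ r : GL (Fin n) F) : Matrix (Fin n) (Fin n) F) = z • (1 : Matrix (Fin n) (Fin n) F)) →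
      (∀ z : F, (x : Matrix (Fin n) (Fin n) F) ≠ z • (1 : Matrix (Fin n) (Fin n) F)) →
      ∃ g ∈ Cfsg.Geo.specialLinear (Fin n) F, g⁻¹ * x * g ∈ Cfsg.Geo.similarityGroup f) ↔
    ((r = 2 ∧ (p = 2 ∨ padicValNat 2 n ≤ padicValNat 2 (q - 1))) ∨ ((r = 3 ∨ r = 5) ∧ n = r ∧ padicValNat r (q₀ - 1) = 1)) := by
  classical
  have hF : Fintype.card F = q₀ ^ 2 := hq.trans hq₀
  have hrP : r.Prime := Fact.out
  have hp : p.Prime := Fact.out
  haveI : NeZero n := ⟨by omega⟩
  obtain ⟨J, hJs, hJd, hJ⟩ := exists_gram hF hf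
  have hq02 := two_le_q hF
  have hq1 : 1 < q := hq ▸ Fintype.one_lt_card
  haveI h2f : Fact (Nat.Prime 2) := ⟨Nat.prime_two⟩
  have hqcast : (Fintype.card F : ZMod r) = (q₀ : ZMod r) ^ 2 := by rw [hF, Nat.cast_pow]
  constructor
  · intro hall
    suffices hbad : ¬ ((r = 2 ∧ (p = 2 ∨ padicValNat 2 n ≤ padicValNat 2 (q - 1))) ∨
        ((r = 3 ∨ r = 5) ∧ n = r ∧ padicValNat r (q₀ - 1) = 1)) →
        ∃ x ∈ Cfsg.Geo.specialLinear (Fin n) F, (∃ z : F, ((x ^ r : GL (Fin n) F) : Matrix (Fin n) (Fin n) F) = z • 1) ∧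
          (∀ z : F, x.val ≠ z • (1 : Matrix (Fin n) (Fin n) F)) ∧
          ∀ (G : Matrix (Fin n) (Fin n) F) (μ : F), adj hF G = G → G.det ≠ 0 → μ ≠ 0 →
            adj hF x.val * G * x.val ≠ μ • G by
      by_contra hne
      obtain ⟨x, hx, hxr, hxn, hno⟩ := hbad hne
      obtain ⟨g, -, hg⟩ := hall x hx hxr hxn
      obtain ⟨G, μ, h1, h2', h3, h4⟩ := pull hF hJs hJd hJ hg
      exact hno G μ h1 h2' h3 h4
    intro hne
    push Not at hne
    obtain ⟨hne2, hnr⟩ := hne
    by_cases hr2 : r = 2
    · subst hr2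
      obtain ⟨hp2, hv⟩ := hne2 rfl
      have hodd : Odd (Fintype.card F) := by
        obtain ⟨k, -, hk⟩ := FiniteField.card F p
        rw [hk]; exact (hp.odd_of_ne_two hp2).pow
      have he : orderOf (Fintype.card F : ZMod 2) = 1 :=
        Cfsg.Lib.Linear.PrimeCriteria.dvd_sub_one_iff.2 (by obtain ⟨k, hk⟩ := hodd; omega)
      obtain ⟨x, c, hxc, hxn, hxW⟩ := Cfsg.Lib.Linear.PrimeCriteria.exists_bad (F := F) (NeZero.ne n) he
        (fun h => by rw [hq] at h; omega)
      have hns : ∀ d : F, d * d ≠ c := by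
        intro d hd
        obtain ⟨v, hv0, hv⟩ : ∃ v, v ≠ 0 ∧ ∃ e : F, (x : Matrix (Fin n) (Fin n) F) *ᵥ v = e • v := by
          obtain ⟨X, hX⟩ : ∃ X : Matrix (Fin n) (Fin n) F, X = x := ⟨_, rfl⟩
          rw [← hX] at hxc ⊢
          have hn' := hxn d
          rw [← hX] at hn'
          obtain ⟨u, hu⟩ : ∃ u, X *ᵥ u - d • u ≠ 0 := by
            by_contra hall'
            push Not at hall'
            refine hn' (Matrix.ext_of_mulVec_single fun i => ?_)
            rw [sub_eq_zero.1 (hall' _), Matrix.smul_mulVec, Matrix.one_mulVec]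
          refine ⟨_, hu, -d, ?_⟩
          rw [Matrix.mulVec_sub, Matrix.mulVec_smul, Matrix.mulVec_mulVec, ← pow_two, hxc, Matrix.smul_mulVec,
            Matrix.one_mulVec, ← hd]
          module
        obtain ⟨e, he'⟩ := hv
        have h1 := hxW (Submodule.span F {v}) (by
          rw [Submodule.map_span_le]
          intro w hw
          rw [Set.mem_singleton_iff.1 hw, Matrix.toLin'_apply, he']
          exact Submodule.smul_mem _ _ (Submodule.mem_span_singleton_self v))
        rw [finrank_span_singleton hv0] at h1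
        omega
      refine ⟨Matrix.SpecialLinearGroup.toGL x, (sl_iff _).2 x.2, ⟨c, by rw [Units.val_pow_eq_pow_val]; exact hxc⟩,
        hxn, fun G μ hGs hGd hμ h => ?_⟩
      have hμf := mult_fixed hF (by omega) hGs hGd h
      have hμ2 := mult_scalar hF (by omega) h hGd hxc
      have hc0 : c ≠ 0 := fun h0 => hns 0 (by rw [h0, mul_zero])
      obtain ⟨d, hd⟩ : IsSquare c := by
        rw [FiniteField.isSquare_iff (fun h => by
          have := FiniteField.even_card_of_char_two (F := F) h
          obtain ⟨k, hk⟩ := hodd; omega) hc0]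
        obtain ⟨a, ha⟩ : Odd q₀ := by
          rw [hF, Nat.odd_pow_iff two_ne_zero] at hodd; exact hodd
        have h1 : Fintype.card F / 2 = (q₀ + 1) * a := by
          rw [hF, ha, show (2 * a + 1) ^ 2 = 2 * ((2 * a + 1 + 1) * a) + 1 by ring]; omega
        rw [frob_apply] at hμ2
        rw [h1, pow_mul, pow_succ, ← hμ2, ← pow_mul]
        rw [frob_apply, ha] at hμf
        rw [show μ ^ (2 * a + 1) = μ ^ (2 * a) * μ from pow_succ _ _, mul_eq_right₀ hμ] at hμf
        exact hμf
      exact hns d hd.symm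
    have hrp : r ≠ p := hr.resolve_left hr2
    have hrq : ¬ r ∣ Fintype.card F := fun h => by
      obtain ⟨k, -, hk⟩ := FiniteField.card F p
      rw [hk] at h
      exact hrp ((Nat.prime_dvd_prime_iff_eq hrP hp).1 (hrP.dvd_of_dvd_pow h))
    have hrq0 : ¬ r ∣ q₀ := fun h => hrq (hF ▸ h.trans (dvd_pow_self _ two_ne_zero))
    by_cases hr0 : r ∣ q₀ - 1
    · have hr1 : r ∣ Fintype.card F - 1 := hr0.trans (by
        rw [hF, show q₀ ^ 2 - 1 = (q₀ + 1) * (q₀ - 1) by simpa using Nat.sq_sub_sq q₀ 1]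
        exact dvd_mul_left _ _)
      obtain ⟨w, hw⟩ := exists_prime_orderOf_dvd_card' (G := Fˣ) r (by rwa [Nat.card_eq_fintype_card, Fintype.card_units])
      obtain ⟨ω, hω⟩ : ∃ ω : F, ω = w := ⟨_, rfl⟩
      have hwp : IsPrimitiveRoot ω r := by
        rw [hω, IsPrimitiveRoot.coe_units_iff, ← hw]; exact IsPrimitiveRoot.orderOf w
      have hω0 : ω ≠ 0 := hω ▸ w.ne_zero
      have hωf : frob hF ω = ω := by
        obtain ⟨j, hj⟩ := hr0
        rw [frob_apply, show q₀ = r * j + 1 by omega, pow_succ, pow_mul, hwp.pow_eq_one, one_pow, one_mul]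
      have hr3 : 3 ≤ r := by have := hrP.two_le; omega
      have hω1 : ω ≠ 1 := hwp.ne_one (by omega)
      have hω2 : ω ^ 2 ≠ 1 := hwp.pow_ne_one_of_pos_of_lt two_ne_zero (by omega)
      have hcnt : ∀ k, k ≤ n → (Finset.univ.filter fun j : Fin n => (j : ℕ) < k).card = k := fun k hk => by
        rw [show (Finset.univ.filter fun j : Fin n => (j : ℕ) < k) = (Finset.univ : Finset (Fin k)).map (Fin.castLEEmb hk) by
          ext j; simp only [Finset.mem_filter, Finset.mem_univ, true_and, Finset.mem_map]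
          exact ⟨fun h => ⟨⟨j, h⟩, Fin.ext rfl⟩, fun ⟨l, hl⟩ => hl ▸ l.2⟩, Finset.card_map, Finset.card_univ, Fintype.card_fin]
      have hcnt' : ∀ k, k ≤ n → (Finset.univ.filter fun j : Fin n => ¬ (j : ℕ) < k).card = n - k := fun k hk => by
        have h1 := Finset.card_filter_add_card_filter_not (s := (Finset.univ : Finset (Fin n))) fun j : Fin n => (j : ℕ) < k
        rw [hcnt k hk, Finset.card_univ, Fintype.card_fin] at h1
        omega
      have two : ∀ (k : ℕ) (a b : F), 0 < k → k < n → k + k ≠ n → frob hF a * a ≠ frob hF b * b → a ^ k * b ^ (n - k) = 1 → a ^ r = b ^ r → a ≠ 0 →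
          ∃ x ∈ Cfsg.Geo.specialLinear (Fin n) F, (∃ z : F, ((x ^ r : GL (Fin n) F) : Matrix (Fin n) (Fin n) F) = z • 1) ∧
            (∀ z : F, x.val ≠ z • (1 : Matrix (Fin n) (Fin n) F)) ∧
            ∀ (G : Matrix (Fin n) (Fin n) F) (μ : F), adj hF G = G → G.det ≠ 0 → μ ≠ 0 →
              adj hF x.val * G * x.val ≠ μ • G := by
        intro k a b hk0 hkn hkk hab hprod hpow ha0
        have hne : a ≠ b := fun h => hab (by rw [h])
        have hb0 : b ≠ 0 := fun h => by rw [h, zero_pow (by omega), mul_zero] at hprod; exact zero_ne_one hprod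
        obtain ⟨d, hd⟩ : ∃ d : Fin n → F, ∀ j : Fin n, d j = if (j : ℕ) < k then a else b := ⟨_, fun _ => rfl⟩
        have hi : d ⟨0, by omega⟩ = a := by rw [hd, if_pos hk0]
        have hj : d ⟨k, hkn⟩ = b := by rw [hd, if_neg (lt_irrefl k)]
        obtain ⟨x, hx, hxr, hxn, hxm⟩ := diag_witness (r := r) d (by
          simp only [hd]; rw [Finset.prod_ite, Finset.prod_const, Finset.prod_const, hcnt k hkn.le, hcnt' k hkn.le, hprod])
          (z := b ^ r) (fun j => by rw [hd]; split_ifs <;> simp [hpow]) (i := ⟨0, by omega⟩) (j := ⟨k, hkn⟩) (by rw [hi, hj]; exact hne)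
        refine ⟨x, hx, hxr, hxn, fun G μ hGs hGd hμ h => ?_⟩
        rw [hxm] at h
        have hSa : ∀ j, d j = a → (Finset.univ.filter fun l => d l = d j).card = k := fun j e => by
          refine (congrArg Finset.card (Finset.filter_congr fun l _ => ?_)).trans (hcnt k hkn.le)
          rw [e, hd]; split_ifs with hl <;> simp [hl, hne.symm]
        have hSb : ∀ j, d j = b → (Finset.univ.filter fun l => d l = d j).card = n - k := fun j e => by
          refine (congrArg Finset.card (Finset.filter_congr fun l _ => ?_)).trans (hcnt' k hkn.le)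
          rw [e, hd]; split_ifs with hl <;> simp [hl, hne]
        have hab' : ∀ j, d j = a ∨ d j = b := fun j => by rw [hd]; split_ifs <;> simp
        refine diag_bad hF hGs hGd hμ h (a := ⟨0, by omega⟩) (b := ⟨k, hkn⟩) (by rw [hi, hj]; exact hab) (fun j e => ?_) fun j e => ?_
        · rcases hab' j with e' | e'
          · rw [e', hi]
          · rw [hSb j e', hSa _ hi] at e; omega
        · rcases hab' j with e' | e'
          · rw [hSa j e', hSb _ hj] at e; omega
          · rw [e', hj]
      by_cases hrn : r ∣ n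
      swap
      · obtain ⟨k, hk⟩ : ∃ k : ℕ, ((k : ZMod r) * n) = -1 := by
          have h0 : (n : ZMod r) ≠ 0 := fun h => hrn ((ZMod.natCast_eq_zero_iff _ _).1 h)
          exact ⟨(-(n : ZMod r)⁻¹).val, by rw [ZMod.natCast_zmod_val, neg_mul, inv_mul_cancel₀ h0]⟩
        have hb0 : (ω ^ k) ≠ 0 := pow_ne_zero _ hω0
        have hkn : ω ^ (k * n + 1) = 1 := by
          rw [hwp.pow_eq_one_iff_dvd, ← ZMod.natCast_eq_zero_iff]
          push_cast; rw [hk, neg_add_cancel]
        refine two 1 (ω ^ (k + 1)) (ω ^ k) one_pos (by omega) (by omega) (fun h => hω2 ?_) ?_ ?_ (pow_ne_zero _ hω0)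
        · rw [map_pow, map_pow, hωf, ← pow_two, ← pow_two, pow_succ ω k, mul_pow] at h
          exact (mul_eq_left₀ (pow_ne_zero _ hb0)).1 h
        · rw [pow_one, ← pow_mul, ← pow_add, ← hkn]
          congr 1
          have : k * (n - 1) + k = k * n := by rw [← Nat.mul_succ, show (n - 1).succ = n by omega]
          omega
        · rw [← pow_mul, ← pow_mul, mul_comm (k + 1), mul_comm k, pow_mul, pow_mul, hwp.pow_eq_one, one_pow, one_pow]
      by_cases hv2 : n = r ∧ (n = 3 ∨ n = 5)
      · obtain ⟨hnr', h35⟩ := hv2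
        have hv : padicValNat r (q₀ - 1) ≠ 1 := fun h =>
          hnr (by rcases h35 with e | e <;> omega) hnr' h
        have hsq2 : r ^ 2 ∣ q₀ - 1 := by
          have h0 : padicValNat r (q₀ - 1) ≠ 0 := fun h0 => by
            rcases padicValNat.eq_zero_iff.1 h0 with h | h | h
            · exact hrP.ne_one h
            · omega
            · exact h hr0
          exact (pow_dvd_pow r (by omega : 2 ≤ padicValNat r (q₀ - 1))).trans pow_padicValNat_dvd
        obtain ⟨v, hv⟩ : ∃ v : Fˣ, orderOf v = r ^ 2 := by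
          have h1 : r ^ 2 ∣ Fintype.card F - 1 := hsq2.trans (by
            rw [hF, show q₀ ^ 2 - 1 = (q₀ + 1) * (q₀ - 1) by simpa using Nat.sq_sub_sq q₀ 1]
            exact dvd_mul_left _ _)
          obtain ⟨gen, hgen⟩ := IsCyclic.exists_generator (α := Fˣ)
          have ho : orderOf gen = Fintype.card F - 1 := by
            rw [orderOf_eq_card_of_forall_mem_zpowers hgen, Nat.card_eq_fintype_card, Fintype.card_units]
          obtain ⟨t, ht⟩ := h1
          refine ⟨gen ^ t, ?_⟩
          have ht0 : t ≠ 0 := fun h0 => by rw [h0, mul_zero, hq] at ht; omega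
          rw [orderOf_pow' gen ht0, ho, ht, Nat.gcd_eq_right ⟨_, mul_comm _ _⟩, Nat.mul_div_cancel _ (Nat.pos_of_ne_zero ht0)]
        obtain ⟨u, hu⟩ : ∃ u : F, u = v := ⟨_, rfl⟩
        have hup : IsPrimitiveRoot u (r ^ 2) := by
          rw [hu, IsPrimitiveRoot.coe_units_iff, ← hv]; exact IsPrimitiveRoot.orderOf v
        have hu0 : u ≠ 0 := hu ▸ v.ne_zero
        have huf : frob hF u = u := by
          obtain ⟨j, hj⟩ := hsq2
          rw [frob_apply, show q₀ = r ^ 2 * j + 1 by omega, pow_succ, pow_mul, hup.pow_eq_one, one_pow, one_mul]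
        refine two 1 (u ^ (r - 1)) u⁻¹ one_pos (by omega) (by omega) (fun h => ?_) ?_ ?_ (pow_ne_zero _ hu0)
        · rw [map_pow, map_inv₀, huf, ← pow_two, ← pow_two] at h
          have h3 : (u ^ r) ^ 2 = 1 := by
            rw [← pow_sub_one_mul (by omega : r ≠ 0) u, mul_pow, h, ← mul_pow, inv_mul_cancel₀ hu0, one_pow]
          rw [← pow_mul] at h3
          exact hup.pow_ne_one_of_pos_of_lt (by omega) (by rw [pow_two]; nlinarith) h3
        · rw [pow_one, hnr', ← mul_pow, mul_inv_cancel₀ hu0, one_pow]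
        · rw [← pow_mul, _root_.inv_pow]
          refine eq_inv_of_mul_eq_one_left ?_
          rw [← pow_add, ← Nat.succ_mul, show (r - 1).succ = r by omega, ← pow_two]
          exact hup.pow_eq_one
      have hn6 : 6 ≤ n := by
        obtain ⟨k, rfl⟩ := hrn
        rcases Nat.lt_or_ge k 2 with hk | hk
        · interval_cases k
          · omega
          · by_contra h
            push Not at h
            refine hv2 ⟨mul_one r, ?_⟩
            have : r ≠ 4 := fun e => by rw [e] at hrP; norm_num at hrP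
            omega
        · nlinarith
      by_cases hr3' : r = 3
      · subst hr3'
        have hn9 : 9 ≤ n := by
          obtain ⟨k, rfl⟩ := hrn
          by_contra h
          have hk : k ≤ 2 := by omega
          interval_cases k
          · omega
          · omega
          · exact hgap ⟨rfl, rfl⟩
        refine two 3 ω 1 (by omega) (by omega) (by omega) (by rw [map_one, one_mul, hωf, ← pow_two]; exact hω2) ?_ ?_ hω0
        · rw [one_pow, mul_one]; exact hwp.pow_eq_one
        · rw [one_pow]; exact hwp.pow_eq_one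
      · have hr5 : 5 ≤ r := by
          have : r ≠ 4 := fun h => by rw [h] at hrP; norm_num at hrP
          omega
        obtain ⟨c, hc⟩ : ∃ c : F, c = ω ^ (r - 2) := ⟨_, rfl⟩
        have hc2 : ω ^ 2 * c = 1 := by rw [hc, ← pow_add, show 2 + (r - 2) = r by omega, hwp.pow_eq_one]
        have hcω : c ≠ ω := fun h => hwp.pow_ne_one_of_pos_of_lt (l := 3) (by omega) (by omega) (by rw [h] at hc2; linear_combination hc2)
        have hc1 : c ≠ 1 := fun h => hω2 (by rw [h, mul_one] at hc2; exact hc2)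
        have hc0 : c ≠ 0 := right_ne_zero_of_mul (hc2.trans_ne one_ne_zero)
        obtain ⟨d, hd⟩ : ∃ d : Fin n → F, ∀ j : Fin n, d j = if (j : ℕ) = 0 then c else if (j : ℕ) < 3 then ω else 1 :=
          ⟨_, fun _ => rfl⟩
        have hS0 : ∀ j : Fin n, d j = c ↔ (j : ℕ) = 0 := fun j => by
          rw [hd]; split_ifs with e e'
          exacts [iff_of_true rfl e, iff_of_false hcω.symm e, iff_of_false hc1.symm e]
        have hS1 : ∀ j : Fin n, d j = ω ↔ (j : ℕ) ≠ 0 ∧ (j : ℕ) < 3 := fun j => by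
          rw [hd]; split_ifs with e e'
          exacts [iff_of_false hcω fun h => h.1 e, iff_of_true rfl ⟨e, e'⟩, iff_of_false hω1.symm fun h => e' h.2]
        have hS2 : ∀ j : Fin n, d j = 1 ↔ ¬ (j : ℕ) < 3 := fun j => by
          rw [hd]; split_ifs with e e'
          exacts [iff_of_false hc1 (by omega), iff_of_false hω1 (not_not.2 e'), iff_of_true rfl e']
        have hC0 : (Finset.univ.filter fun l => d l = c).card = 1 := by
          rw [Finset.filter_congr fun l _ => hS0 l]
          exact Finset.card_eq_one.2 ⟨⟨0, by omega⟩, by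
            ext j; simp only [Finset.mem_filter, Finset.mem_univ, true_and, Finset.mem_singleton, Fin.ext_iff]⟩
        have hC1 : (Finset.univ.filter fun l => d l = ω).card = 2 := by
          rw [Finset.filter_congr fun l _ => hS1 l]
          exact Finset.card_eq_two.2 ⟨⟨1, by omega⟩, ⟨2, by omega⟩, fun h => absurd (congrArg Fin.val h) (by show (1 : ℕ) ≠ 2; omega), by
            ext j; simp only [Finset.mem_filter, Finset.mem_univ, true_and, Finset.mem_insert, Finset.mem_singleton, Fin.ext_iff]; omega⟩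
        have hC2 : (Finset.univ.filter fun l => d l = 1).card = n - 3 := by
          rw [Finset.filter_congr fun l _ => hS2 l]; exact hcnt' 3 (by omega)
        have hd0 : d ⟨0, by omega⟩ = c := (hS0 _).2 rfl
        have hd1 : d ⟨1, by omega⟩ = ω := (hS1 _).2 ⟨one_ne_zero, by show (1 : ℕ) < 3; omega⟩
        have hd3 : d ⟨3, by omega⟩ = 1 := (hS2 _).2 (lt_irrefl 3)
        have hvals : ∀ j, d j = c ∨ d j = ω ∨ d j = 1 := fun j => by rw [hd]; split_ifs <;> simp
        obtain ⟨x, hx, hxr, hxn, hxm⟩ := diag_witness (r := r) d (by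
          rw [← Finset.prod_fiberwise_of_maps_to (t := {c, ω, 1}) (g := d) fun j _ => by
            simpa using hvals j]
          rw [Finset.prod_insert (by simp [hcω, hc1]), Finset.prod_insert (by simp [hω1]), Finset.prod_singleton]
          have e : ∀ a : F, ∏ j ∈ Finset.univ.filter (fun l => d l = a), d j = a ^ (Finset.univ.filter fun l => d l = a).card :=
            fun a => by rw [Finset.prod_congr rfl fun j hj => (Finset.mem_filter.1 hj).2, Finset.prod_const]
          rw [e, e, e, hC0, hC1, hC2, one_pow, pow_one]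
          linear_combination hc2) (z := 1) (fun j => by
            rcases hvals j with h | h | h <;> rw [h]
            · rw [hc, ← pow_mul, mul_comm, pow_mul, hwp.pow_eq_one, one_pow]
            · exact hwp.pow_eq_one
            · exact one_pow _) (i := ⟨1, by omega⟩) (j := ⟨3, by omega⟩) (by rw [hd1, hd3]; exact hω1)
        refine ⟨x, hx, hxr, hxn, fun G μ hGs hGd hμ h => ?_⟩
        rw [hxm] at h
        refine diag_bad hF hGs hGd hμ h (a := ⟨1, by omega⟩) (b := ⟨3, by omega⟩) (by rw [hd1, hd3, map_one, one_mul, hωf, ← pow_two]; exact hω2)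
          (fun j e => ?_) fun j e => ?_
        · rw [hd1] at e ⊢
          rw [hC1] at e
          rcases hvals j with e' | e' | e' <;> rw [e'] at e ⊢ <;> first | (rw [hC0] at e; omega) | (rw [hC2] at e; omega)
        · rw [hd3] at e ⊢
          rw [hC2] at e
          rcases hvals j with e' | e' | e' <;> rw [e'] at e ⊢ <;> first | (rw [hC0] at e; omega) | (rw [hC1] at e; omega)
    · by_cases hr1 : r ∣ Fintype.card F - 1
      · exfalso
        refine index_coprime hF (by omega) hJs hJd hJ hr2 hrq0 odd_one ?_ hΩ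
        rw [hF, show q₀ ^ 2 - 1 = (q₀ + 1) * (q₀ - 1) by simpa using Nat.sq_sub_sq q₀ 1] at hr1
        have h1 := (ZMod.natCast_eq_zero_iff (q₀ + 1) r).2 ((hrP.dvd_mul.1 hr1).resolve_right hr0)
        push_cast at h1
        rw [pow_one]; exact eq_neg_of_add_eq_zero_left h1
      let L := AlgebraicClosure F
      have hrL : ((r : ℕ) : L) ≠ 0 := by
        rw [← map_natCast (algebraMap F L), ne_eq, map_eq_zero]
        exact fun e => hrp ((Nat.prime_dvd_prime_iff_eq hp hrP).1 ((CharP.cast_eq_zero_iff F p r).1 e)).symm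
      haveI : NeZero ((r : ℕ) : L) := ⟨hrL⟩
      obtain ⟨ζ, hζ⟩ := HasEnoughRootsOfUnity.exists_primitiveRoot L r
      let qu : (ZMod r)ˣ := Units.mk0 (q₀ : ZMod r) fun h => hrq0 ((ZMod.natCast_eq_zero_iff _ _).1 h)
      have huq : ((qu ^ 2 : (ZMod r)ˣ) : ZMod r) = (Fintype.card F : ZMod r) := by
        rw [Units.val_pow_eq_pow_val, hqcast]; rfl
      have hΩ' : r ∣ (Fintype.card F - 1) * Nat.card ↥(Cfsg.Geo.specialLinear (Fin n) F) := by
        rw [← relIndex_mul (Cfsg.Geo.similarityGroup f) (Cfsg.Geo.specialLinear (Fin n) F)]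
        exact Dvd.dvd.mul_left (Dvd.dvd.mul_right hΩ _) _
      have hin : orderOf (qu ^ 2) ≤ n := by
        have := orderOf_le_of_dvd_sl (F := F) (by omega) hrq hΩ'
        rwa [← huq, orderOf_units] at this
      have h11 : (1 : ZMod r) ∈ orbit (qu ^ 2) 1 := mem_orbit.2 ⟨0, by simp⟩
      have hf' := orbit_fun (qu ^ 2) 1 (n - orderOf (qu ^ 2))
      rw [mul_one, Nat.add_sub_cancel' hin] at hf'
      obtain ⟨x, hx, hxr, hxn, hxc⟩ := exists_elt hr1 hζ huq hf' (by simp [h11])
      refine ⟨x, hx, ⟨1, by rw [hxr, Units.val_one, one_smul]⟩, hxn, fun G μ hGs hGd hμ h => ?_⟩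
      have hxr' : x.val ^ r = 1 := by rw [← Units.val_pow_eq_pow_val, hxr, Units.val_one]
      have hμ1 : μ = 1 := root_one hr1 (by
        rw [mult_scalar hF (by omega) h hGd (c := 1) (by rw [hxr', one_smul]), map_one, one_mul])
      rw [hμ1, one_smul] at h
      obtain ⟨T, hT⟩ := exists_root' hF hGs hGd
      obtain ⟨y, hy⟩ : ∃ y, y = T * x * T⁻¹ := ⟨_, rfl⟩
      have hyT : y.val * T.val = T.val * x.val := by
        rw [← Units.val_mul, ← Units.val_mul]; exact congrArg Units.val (by rw [hy]; group)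
      have hyU : IsU hF y.val := by
        show adj hF y.val * y.val = 1
        have h1 : adj hF T.val * (adj hF y.val * y.val) * T.val = adj hF T.val * 1 * T.val :=
          calc adj hF T.val * (adj hF y.val * y.val) * T.val = adj hF (y.val * T.val) * (y.val * T.val) := by
                simp only [adj_mul, mul_assoc]
            _ = adj hF x.val * (adj hF T.val * T.val) * x.val := by rw [hyT]; simp only [adj_mul, mul_assoc]
            _ = _ := by rw [hT, h, mul_one, hT]
        have hu : IsUnit (adj hF T.val) := IsUnit.of_mul_eq_one (adj hF (T⁻¹).val) (by rw [← adj_mul, Units.inv_mul, adj_one])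
        exact hu.mul_left_cancel (T.isUnit.mul_right_cancel h1)
      have hyr : y.val ^ r = 1 := by
        rw [← Units.val_pow_eq_pow_val, hy, conj_pow, hxr, mul_one, mul_inv_cancel, Units.val_one]
      have hyc : y.val.charpoly = x.val.charpoly := by
        rw [hy, Units.val_mul, Units.val_mul, Matrix.coe_units_inv, Matrix.charpoly_units_conj]
      have h3 := (inv_of_unitary hF hζ hrL (qu := qu) rfl y.val hyU hyr (hyc ▸ hxc)).2 1
      simp only [mul_one, Units.val_neg, one_ne_zero, neg_eq_zero, qu.ne_zero, if_false, h11, if_true] at h3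
      have hmem : -(qu : ZMod r) ∈ orbit (qu ^ 2) 1 := by
        by_contra hnm
        rw [if_neg hnm] at h3
        omega
      obtain ⟨j, hj⟩ := mem_orbit.1 hmem
      rw [mul_one, Units.val_pow_eq_pow_val, ← pow_mul] at hj
      exfalso
      rcases Nat.eq_zero_or_pos j with rfl | hj0
      · rw [mul_zero, pow_zero] at hj
        refine hr1 ?_
        rw [← ZMod.natCast_eq_zero_iff, Nat.cast_sub Fintype.card_pos, ← huq, Units.val_pow_eq_pow_val, Nat.cast_one]
        linear_combination (-(qu : ZMod r) + 1) * hj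
      · refine index_coprime hF (by omega) hJs hJd hJ hr2 hrq0 (t := 2 * j - 1) ⟨j - 1, by omega⟩ ?_ hΩ
        refine mul_right_cancel₀ qu.ne_zero ?_
        show (qu : ZMod r) ^ (2 * j - 1) * _ = _
        rw [← pow_succ, show 2 * j - 1 + 1 = 2 * j by omega, ← hj, neg_one_mul]
  · rintro hcase x hx hxz -
    obtain ⟨z, hz⟩ := hxz
    have hxd : x.val.det = 1 := (sl_iff x).1 hx
    rw [Units.val_pow_eq_pow_val] at hz
    have hz0 : z ≠ 0 := fun h0 => by
      have h1 := congrArg Matrix.det hz
      rw [Matrix.det_pow, hxd, one_pow, h0, zero_smul, Matrix.det_zero] at h1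
      exact one_ne_zero h1
    rcases hcase with ⟨rfl, hc2⟩ | ⟨h35, hnr, hv⟩
    · rw [pow_two] at hz
      obtain ⟨l, hl⟩ : ∃ l : F, l * l = z := by
        by_cases hp2 : p = 2
        · obtain ⟨a, ha⟩ := FiniteField.isSquare_of_char_two (F := F) (hp2 ▸ ringChar.eq F p) z
          exact ⟨a, ha.symm⟩
        · have h2 : (2 : F) ≠ 0 := fun h => hp2 ((Nat.prime_dvd_prime_iff_eq hp Nat.prime_two).1
            ((CharP.cast_eq_zero_iff F p 2).1 (by exact_mod_cast h)))
          obtain ⟨ι, hι, g, hgm, hgH, hgsum, hg⟩ := Cfsg.Lib.Linear.PrimeCriteria.split_cases (r := 2) (NeZero.ne n)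
            (by exact_mod_cast h2) (⟨x.val, hxd⟩ : Matrix.SpecialLinearGroup (Fin n) F) (c := z) (by rw [pow_two]; exact hz)
          rcases hg with hdeg | ⟨-, -, -, hb⟩
          · have he : orderOf (Fintype.card F : ZMod 2) = 1 :=
              Cfsg.Lib.Linear.PrimeCriteria.dvd_sub_one_iff.2 (by
                obtain ⟨k, -, hk⟩ := FiniteField.card F p
                obtain ⟨a, ha⟩ : Odd (Fintype.card F) := hk ▸ (hp.odd_of_ne_two hp2).pow
                omega)
            obtain ⟨i⟩ : Nonempty ι := by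
              by_contra hc
              rw [not_nonempty_iff] at hc
              rw [Finset.univ_eq_empty, Finset.sum_empty] at hgsum
              omega
            have hd1 : (g i).natDegree = 1 := (hdeg i).elim id fun h => h.trans he
            obtain ⟨a, ha⟩ : ∃ a, g i = Polynomial.X + Polynomial.C a := ⟨_, (hgm i).eq_X_add_C hd1⟩
            have hdv := (hgH.aeval_eq_zero_iff (Polynomial.X ^ 2 - Polynomial.C z)).1
              (by simp [pow_two, hz, Algebra.algebraMap_eq_smul_one]) i
            rw [ha] at hdv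
            obtain ⟨R, hR⟩ := hdv
            have := congrArg (Polynomial.eval (-a)) hR
            simp at this
            exact ⟨a, by linear_combination this⟩
          · exfalso
            refine hb ⟨(hc2.resolve_left hp2).trans_eq (by rw [hq]), fun _ _ => ?_⟩
            obtain ⟨b, hb'⟩ : Odd q₀ := by
              obtain ⟨k, -, hk⟩ := FiniteField.card F p
              have h1 : Odd (q₀ ^ 2) := hF ▸ hk ▸ (hp.odd_of_ne_two hp2).pow
              rwa [Nat.odd_pow_iff two_ne_zero] at h1
            rw [hF, hb', show (2 * b + 1) ^ 2 = 4 * (b * b + b) + 1 by ring]; omega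
      have hl0 : l ≠ 0 := left_ne_zero_of_mul (hl ▸ hz0)
      obtain ⟨P, A, G, hP, hGs, hGd, hA⟩ := exists_form_two hF x hl0 (hl ▸ hz)
      obtain ⟨g, hg⟩ := into hF hJs hJd hJ x P A G hP hGs hGd
        (mul_ne_zero ((map_ne_zero_iff _ (frob hF).injective).2 hl0) hl0) hA
      exact upgrade x g _ (fun δ _ => centralizer_two (by omega) x hz0 hz δ) hg
    · have hr2 : r ≠ 2 := by omega
      have hr0 : r ∣ q₀ - 1 := dvd_of_one_le_padicValNat (by omega)
      have hrp1 : ¬ r ∣ q₀ + 1 := fun h => by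
        have h3 := Nat.dvd_sub h hr0
        rw [show q₀ + 1 - (q₀ - 1) = 2 by omega] at h3
        exact hr2 ((Nat.prime_dvd_prime_iff_eq hrP Nat.prime_two).1 h3)
      have hsq : q₀ ^ 2 - 1 = (q₀ + 1) * (q₀ - 1) := by simpa using Nat.sq_sub_sq q₀ 1
      have hv' : padicValNat r (Fintype.card F - 1) = 1 := by
        rw [hF, hsq, padicValNat.mul (by omega) (by omega), padicValNat.eq_zero_of_not_dvd hrp1, hv]
      obtain ⟨P, d, hP, hd⟩ := exists_diag_prime hnr hr2 hv' x hxd hz
      obtain ⟨w, hw⟩ := exists_prime_orderOf_dvd_card' (G := Fˣ) r (by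
        rw [Nat.card_eq_fintype_card, Fintype.card_units]; exact dvd_of_one_le_padicValNat (by omega))
      have hwp : IsPrimitiveRoot (w : F) r := by
        rw [IsPrimitiveRoot.coe_units_iff, ← hw]; exact IsPrimitiveRoot.orderOf w
      have hwf : frob hF (w : F) = w := by
        obtain ⟨j, hj⟩ := hr0
        rw [frob_apply, show q₀ = r * j + 1 by omega, pow_succ, pow_mul, hwp.pow_eq_one, one_pow, one_mul]
      choose e he using fun j => exists_zp hwp (hd j)
      have hsum : ∑ j, e j = 0 := by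
        refine zp_inj hwp ?_
        rw [zp_zero]
        have h1 : ∀ s : Finset (Fin n), zp (w : F) (∑ j ∈ s, e j) = ∏ j ∈ s, d j := fun s => by
          induction s using Finset.induction_on with
          | empty => simp [zp_zero]
          | insert a s ha ih => rw [Finset.sum_insert ha, Finset.prod_insert ha, zp_add hwp, ih, he]
        rw [h1 Finset.univ]
        have h3 := congrArg Matrix.det hP
        rw [Matrix.det_mul, Matrix.det_mul, hxd, one_mul, Matrix.det_diagonal] at h3
        exact (mul_eq_left₀ (Matrix.GeneralLinearGroup.det P).ne_zero).1 h3.symm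
      have hcs : ∑ x, Fintype.card {j // e j = x} = r := by
        rw [← Fintype.card_sigma, Fintype.card_congr (Equiv.sigmaFiberEquiv e), Fintype.card_fin, hnr]
      have hws : ∑ x, (Fintype.card {j // e j = x} : ZMod r) * x = 0 := by
        rw [← hsum, ← Finset.sum_fiberwise Finset.univ e e]
        refine Finset.sum_congr rfl fun x _ => ?_
        rw [Finset.sum_congr rfl fun j hj => (Finset.mem_filter.1 hj).2, Finset.sum_const, nsmul_eq_mul,
          Fintype.card_subtype]
      obtain ⟨c, hc⟩ : ∃ c, ∀ x, Fintype.card {j // e j = c - x} = Fintype.card {j // e j = x} := by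
        rcases h35 with rfl | rfl
        · exact exists_center_three _ hcs hws
        · exact exists_center_five _ hcs hws
      obtain ⟨G, hGs, hGd, hA⟩ := exists_form_sym hF hwp hwf e hc
      rw [show (fun j => zp (w : F) (e j)) = d from funext he] at hA
      obtain ⟨g, hg⟩ := into hF hJs hJd hJ x P _ G hP hGs hGd (zp_ne_zero hwp c) hA
      exact upgrade x g _ (fun δ _ => centralizer_diag (by omega) x P d hP δ) hg

end Cfsg.Agent.S5982
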