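import Cfsg.Statements.S5984
import Cfsg.Agent.S5953
import Cfsg.Agent.Lib.Linear.IsotropicFix.UnitaryPair
-- import your own Cfsg.Agent.* helpers here

set_option autoImplicit false
open scoped MatrixGroups
open Cfsg

namespace Cfsg.Agent.S5984

open Module Cfsg.Lib.Linear.Herm Cfsg.Lib.Linear.IsoFix Cfsg.Agent.S5953 Cfsg.Agent.Lib.Linear.PrimeClasses
open scoped Matrix

section Pairs

variable {F : Type*} [Field F] [Fintype F] {q : ℕ}

theorem isPair_D (hF : Fintype.card F = q ^ 2) {n m : ℕ} (D : Fin 2 → Submodule F (Fin n → F))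
    (hD : Cfsg.Geo.IsMDecomposition m D) (hDs : ∀ i, Cfsg.Geo.IsTotallySingularFor (Cfsg.hermForm n F q) (D i)) :
    IsPair hF m (D 0) (D 1) := by
  refine ⟨hD.finrank_eq 0, hD.finrank_eq 1, fun u hu v hv => hDs 0 v hv u hu, fun u hu v hv => hDs 1 v hv u hu,
    hD.indep.pairwiseDisjoint (by decide), codisjoint_iff.2 (eq_top_iff.2 ?_)⟩
  rw [← hD.iSup_eq_top]
  refine iSup_le fun i => ?_
  fin_cases i
  · exact le_sup_left
  · exact le_sup_right

/-- A conjugate in the stabiliser gives a pair. -/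
theorem pair_of_conj (hF : Fintype.card F = q ^ 2) {n m : ℕ} {D : Fin 2 → Submodule F (Fin n → F)}
    (hP : IsPair hF m (D 0) (D 1)) {x g : GL (Fin n) F} (hg : g ∈ Cfsg.GU n F q)
    (hx : g⁻¹ * x * g ∈ Cfsg.Geo.decompositionStabilizer D) :
    ∃ W W' : Submodule F (Fin n → F), IsPair hF m W W' ∧
      (((∀ w ∈ W, (x : Matrix (Fin n) (Fin n) F) *ᵥ w ∈ W) ∧ ∀ w ∈ W', (x : Matrix (Fin n) (Fin n) F) *ᵥ w ∈ W') ∨
        ((∀ w ∈ W, (x : Matrix (Fin n) (Fin n) F) *ᵥ w ∈ W') ∧ ∀ w ∈ W', (x : Matrix (Fin n) (Fin n) F) *ᵥ w ∈ W)) := by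
  obtain ⟨σ, hσ⟩ := hx
  set L := Matrix.toLin' (g : Matrix (Fin n) (Fin n) F) with hL
  have hinj : Function.Injective L := fun a b e => Cfsg.Lib.Linear.Orth.act_injective g (by
    simpa only [hL, Matrix.toLin'_apply] using e)
  have hsurj : Function.Surjective L := LinearMap.injective_iff_surjective.1 hinj
  have hU := (isU_iff hF _).1 ((mem_GU_iff hF g).1 hg)
  have hpair : IsPair hF m ((D 0).map L) ((D 1).map L) := by
    refine ⟨?_, ?_, ?_, ?_, disjoint_iff.2 ?_, codisjoint_iff.2 ?_⟩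
    · rw [← (Submodule.equivMapOfInjective _ hinj (D 0)).finrank_eq, hP.dim]
    · rw [← (Submodule.equivMapOfInjective _ hinj (D 1)).finrank_eq, hP.dim']
    · rintro _ ⟨a, ha, rfl⟩ _ ⟨b, hb, rfl⟩
      rw [hL, Matrix.toLin'_apply, Matrix.toLin'_apply, hU]
      exact hP.ti a ha b hb
    · rintro _ ⟨a, ha, rfl⟩ _ ⟨b, hb, rfl⟩
      rw [hL, Matrix.toLin'_apply, Matrix.toLin'_apply, hU]
      exact hP.ti' a ha b hb
    · rw [← Submodule.map_inf _ hinj, hP.compl.inf_eq_bot, Submodule.map_bot]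
    · rw [← Submodule.map_sup, hP.compl.sup_eq_top, Submodule.map_top, LinearMap.range_eq_top.2 hsurj]
  have key : ∀ i, ∀ w ∈ (D i).map L, (x : Matrix (Fin n) (Fin n) F) *ᵥ w ∈ (D (σ i)).map L := by
    rintro i _ ⟨a, ha, rfl⟩
    refine ⟨((g⁻¹ * x * g : GL (Fin n) F) : Matrix (Fin n) (Fin n) F) *ᵥ a, ?_, ?_⟩
    · rw [← hσ i]; exact ⟨a, ha, Matrix.toLin'_apply _ _⟩
    · rw [hL, Matrix.toLin'_apply, Matrix.toLin'_apply, Cfsg.Lib.Linear.Orth.mul_act, Cfsg.Lib.Linear.Orth.mul_act,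
        Cfsg.Lib.Linear.Orth.act_inv]
  refine ⟨_, _, hpair, ?_⟩
  have h01 : σ 0 ≠ σ 1 := fun h => absurd (σ.injective h) (by decide)
  have k0 := key 0
  have k1 := key 1
  rcases Fin.exists_fin_two.1 ⟨σ 0, rfl⟩ with h0 | h0 <;>
    rcases Fin.exists_fin_two.1 ⟨σ 1, rfl⟩ with h1 | h1
  · exact absurd (h0.trans h1.symm) h01
  · rw [h0] at k0; rw [h1] at k1; exact Or.inl ⟨k0, k1⟩
  · rw [h0] at k0; rw [h1] at k1; exact Or.inr ⟨k0, k1⟩
  · exact absurd (h0.trans h1.symm) h01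

/-- An invariant pair gives a conjugate in the stabiliser. -/
theorem conj_of_pair (hF : Fintype.card F = q ^ 2) {n m : ℕ} (hm : 1 ≤ m) {D : Fin 2 → Submodule F (Fin n → F)}
    (hP : IsPair hF m (D 0) (D 1)) {x : GL (Fin n) F} {W W' : Submodule F (Fin n → F)} (hW : IsPair hF m W W')
    (h : ∀ w ∈ W, (x : Matrix (Fin n) (Fin n) F) *ᵥ w ∈ W)
    (h' : ∀ w ∈ W', (x : Matrix (Fin n) (Fin n) F) *ᵥ w ∈ W') :
    ∃ g ∈ Cfsg.GU n F q ⊓ Cfsg.Geo.specialLinear (Fin n) F, g⁻¹ * x * g ∈ Cfsg.Geo.decompositionStabilizer D := by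
  classical
  obtain ⟨T, hT, hdet, e0, e1⟩ := exists_pair_map hF hm hP hW
  let g : GL (Fin n) F := (isU_unit hF hT).unit
  have hgT : (g : Matrix (Fin n) (Fin n) F) = T := rfl
  refine ⟨g, ⟨(mem_GU_iff hF g).2 (hgT ▸ hT), (mem_sl_iff g).2 (hgT ▸ hdet)⟩, 1, fun i => ?_⟩
  refine Submodule.eq_of_le_of_finrank_eq ?_ ?_
  · rintro _ ⟨a, ha, rfl⟩
    have hmain : ∀ {P Q : Submodule F (Fin n → F)}, P.map (Matrix.toLin' T) = Q →
        (∀ w ∈ Q, (x : Matrix (Fin n) (Fin n) F) *ᵥ w ∈ Q) → a ∈ P →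
        ((g⁻¹ * x * g : GL (Fin n) F) : Matrix (Fin n) (Fin n) F) *ᵥ a ∈ P := by
      intro P Q e hQ ha'
      have h1 : (x : Matrix (Fin n) (Fin n) F) *ᵥ (T *ᵥ a) ∈ P.map (Matrix.toLin' T) := by
        rw [e]; exact hQ _ (e ▸ ⟨a, ha', Matrix.toLin'_apply _ _⟩)
      obtain ⟨b, hb, hbe⟩ := h1
      rw [Cfsg.Lib.Linear.Orth.mul_act, Cfsg.Lib.Linear.Orth.mul_act, hgT, ← hbe, Matrix.toLin'_apply, ← hgT,
        Cfsg.Lib.Linear.Orth.inv_act]
      exact hb
    rw [Matrix.toLin'_apply]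
    fin_cases i
    · exact hmain e0 h ha
    · exact hmain e1 h' ha
  · rw [Equiv.Perm.one_apply, ← (Submodule.equivMapOfInjective _ (fun a b e =>
      Cfsg.Lib.Linear.Orth.act_injective (g⁻¹ * x * g) (by simpa only [Matrix.toLin'_apply] using e)) (D i)).finrank_eq]

/-- An element scalar on a hyperplane neither interchanges a pair nor moves it without fixing it. -/
theorem not_swap (hF : Fintype.card F = q ^ 2) {n m : ℕ} (hm : 2 ≤ m) {W W' : Submodule F (Fin n → F)}
    (hW : IsPair hF m W W') {M : Matrix (Fin n) (Fin n) F} (ℓ : (Fin n → F) →ₗ[F] F) {c : F} (hc : c ≠ 0)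
    (hM : ∀ w, ℓ w = 0 → M *ᵥ w = c • w) (hsw : ∀ w ∈ W, M *ᵥ w ∈ W') : False := by
  have h1 := LinearMap.finrank_range_add_finrank_ker (ℓ.comp W.subtype)
  have h2 := Submodule.finrank_le (LinearMap.range (ℓ.comp W.subtype))
  rw [Module.finrank_self] at h2
  have h3 : LinearMap.ker (ℓ.comp W.subtype) ≠ ⊥ := fun h => by
    rw [h, finrank_bot, hW.dim] at h1; omega
  obtain ⟨w, hw, hw0⟩ := Submodule.exists_mem_ne_zero_of_ne_bot h3
  refine hw0 (Subtype.ext (Submodule.disjoint_def.1 hW.compl.disjoint _ w.2 ?_))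
  have h4 := hsw _ w.2
  rw [hM (w : Fin n → F) (LinearMap.mem_ker.1 hw)] at h4
  have h5 := W'.smul_mem c⁻¹ h4
  rwa [smul_smul, inv_mul_cancel₀ hc, one_smul] at h5

/-- The transvection is in no stabiliser. -/
theorem not_conj_transvection (hF : Fintype.card F = q ^ 2) {p : ℕ} [Fact p.Prime] [CharP F p] {n : ℕ} (hn : 4 ≤ n) :
    ∃ M : Matrix (Fin n) (Fin n) F, IsU hF M ∧ M.det = 1 ∧ (∃ z : F, M ^ p = z • 1) ∧ (∀ z : F, M ≠ z • 1) ∧
      ∀ m, 2 ≤ m → ∀ W W' : Submodule F (Fin n → F), IsPair hF m W W' →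
        ¬ (((∀ w ∈ W, M *ᵥ w ∈ W) ∧ ∀ w ∈ W', M *ᵥ w ∈ W') ∨ ((∀ w ∈ W, M *ᵥ w ∈ W') ∧ ∀ w ∈ W', M *ᵥ w ∈ W)) := by
  classical
  obtain ⟨V, -, hVd, hV⟩ := exists_ti_in hF (⊤ : Submodule F (Fin n → F)) 1 (by rw [finrank_top, finrank_fin_fun]; omega)
  obtain ⟨v, hv, hv0⟩ := Submodule.exists_mem_ne_zero_of_ne_bot (p := V) (fun h => by rw [h, finrank_bot] at hVd; omega)
  have hvv := hV v hv v hv
  obtain ⟨w, hw⟩ : ∃ w : F, frob hF w ≠ w := by
    by_contra h
    push Not at h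
    exact frob_ne_id hF (RingHom.ext h)
  set a := w - frob hF w with ha
  have ha0 : a ≠ 0 := sub_ne_zero.2 (Ne.symm hw)
  have haf : frob hF a = -a := by rw [ha, map_sub, frob_frob hF]; ring
  let L : (Fin n → F) →ₗ[F] (Fin n → F) := LinearMap.id + a • (hB hF n v).smulRight v
  let M := LinearMap.toMatrix' L
  have hM : ∀ u, M *ᵥ u = u + (a * hB hF n v u) • v := fun u => by
    show LinearMap.toMatrix' L *ᵥ u = _
    rw [LinearMap.toMatrix'_mulVec]
    simp [L, smul_smul]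
  have hU : IsU hF M := (isU_iff hF M).2 fun x y => by
    have hxv : hB hF n x v = frob hF (hB hF n v x) := ((hB_isSymm hF n).eq v x).symm
    rw [hM, hM]
    simp only [map_add, map_smul, LinearMap.add_apply, LinearMap.map_smulₛₗ, LinearMap.smul_apply, smul_eq_mul,
      map_mul, RingHom.id_apply, hvv, hxv, haf, mul_zero, add_zero]
    ring
  have hpow : M ^ p = 1 := by
    haveI : Nonempty (Fin n) := ⟨⟨0, by omega⟩⟩
    haveI : CharP (Matrix (Fin n) (Fin n) F) p := inferInstance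
    have h2 : (M - 1) ^ 2 = 0 := Cfsg.Lib.Linear.Orth.mat_ext fun u => by
      rw [pow_two, ← Matrix.mulVec_mulVec, Matrix.sub_mulVec, Matrix.sub_mulVec, hM, Matrix.one_mulVec,
        Matrix.one_mulVec, add_sub_cancel_left, hM, add_sub_cancel_left, Matrix.zero_mulVec, map_smul, hvv]
      simp
    have h3 : (M - 1) ^ p = 0 := pow_eq_zero_of_le (Fact.out : p.Prime).two_le h2
    rw [sub_pow_char_of_commute (R := Matrix (Fin n) (Fin n) F) p (Commute.one_right M), one_pow, sub_eq_zero] at h3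
    exact h3
  have hdet : M.det = 1 := by
    have h1 := congrArg Matrix.det hpow
    rw [Matrix.det_pow, Matrix.det_one] at h1
    have h3 : (M.det - 1) ^ p = 0 := by rw [sub_pow_char, h1, one_pow, sub_self]
    exact sub_eq_zero.1 (eq_zero_of_pow_eq_zero h3)
  obtain ⟨u, hu⟩ : ∃ u, hB hF n v u ≠ 0 := by
    by_contra h
    push Not at h
    exact hv0 ((hB_nondegenerate hF n).1 v h)
  refine ⟨M, hU, hdet, ⟨1, by rw [hpow, one_smul]⟩, fun z hz => ?_, fun m hm W W' hP hor => ?_⟩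
  · have h1 := hM v
    rw [hz, Matrix.smul_mulVec, Matrix.one_mulVec, hvv, mul_zero, zero_smul, add_zero] at h1
    have hz1 : z = 1 := by
      by_contra hne
      have h2 : (z - 1) • v = 0 := by rw [sub_smul, one_smul, h1, sub_self]
      exact hv0 ((smul_eq_zero.1 h2).resolve_left (sub_ne_zero.2 hne))
    have h2 := hM u
    rw [hz, hz1, one_smul, Matrix.one_mulVec] at h2
    have h3 : (a * hB hF n v u) • v = 0 := by simpa using h2.symm
    exact (smul_eq_zero.1 h3).elim (mul_ne_zero ha0 hu) hv0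
  · rcases hor with ⟨h, h'⟩ | ⟨h, -⟩
    · have hdec : ∀ {P : Submodule F (Fin n → F)}, (∀ x ∈ P, M *ᵥ x ∈ P) → v ∈ P ∨ ∀ x ∈ P, hB hF n v x = 0 := by
        intro P hP'
        by_contra hc
        push Not at hc
        obtain ⟨hvP, x, hx, hxv⟩ := hc
        have h1 := P.sub_mem (hP' x hx) hx
        rw [hM, add_sub_cancel_left] at h1
        have h2 := P.smul_mem (a * hB hF n v x)⁻¹ h1
        rw [smul_smul, inv_mul_cancel₀ (mul_ne_zero ha0 hxv), one_smul] at h2
        exact hvP h2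
      have hzero : (∀ x ∈ W, hB hF n v x = 0) → (∀ x ∈ W', hB hF n v x = 0) → False := fun h1 h2 => hu (by
        obtain ⟨x, hx, y, hy, rfl⟩ := Submodule.mem_sup.1 (hP.compl.sup_eq_top ▸ Submodule.mem_top : u ∈ W ⊔ W')
        rw [map_add, h1 x hx, h2 y hy, add_zero])
      rcases hdec h with h1 | h1 <;> rcases hdec h' with h2 | h2
      · exact hv0 (Submodule.disjoint_def.1 hP.compl.disjoint v h1 h2)
      · exact hzero (fun x hx => hP.ti v h1 x hx) h2
      · exact hzero h1 (fun x hx => hP.ti' v h2 x hx)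
      · exact hzero h1 h2
    · exact not_swap hF hm hP (hB hF n v) (one_ne_zero) (fun x hx => by rw [hM, hx]; simp) h

/-- The witness for `r = 2` when `(q + 1)₂` exceeds `n₂`. -/
theorem two_witness (hF : Fintype.card F = q ^ 2) (h2 : (2 : F) ≠ 0) {n m : ℕ} (hm : 2 ≤ m) (hn : n = 2 * m)
    (hv : padicValNat 2 n < padicValNat 2 (q + 1)) :
    ∃ M : Matrix (Fin n) (Fin n) F, IsU hF M ∧ M.det = 1 ∧ (∃ z : F, M ^ 2 = z • 1) ∧ (∀ z : F, M ≠ z • 1) ∧
      ∀ W W' : Submodule F (Fin n → F), IsPair hF m W W' →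
        ¬ (((∀ w ∈ W, M *ᵥ w ∈ W) ∧ ∀ w ∈ W', M *ᵥ w ∈ W') ∨ ((∀ w ∈ W, M *ᵥ w ∈ W') ∧ ∀ w ∈ W', M *ᵥ w ∈ W)) := by
  classical
  set v := padicValNat 2 n with hvdef
  obtain ⟨y, hy, hyq⟩ := exists_norm_one_order hF (d := 2 ^ (v + 1))
    ((padicValNat_dvd_iff_le (Nat.add_one_ne_zero q)).2 hv)
  have hy2 : ((y : F) ^ 2 ^ v) = -1 := by
    have h1 : ((y : F) ^ 2 ^ v) * ((y : F) ^ 2 ^ v) = 1 := by
      rw [← pow_add, ← two_mul, ← pow_succ', ← Units.val_pow_eq_pow_val, ← hy, pow_orderOf_eq_one, Units.val_one]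
    refine (mul_self_eq_one_iff.1 h1).resolve_left fun h => ?_
    rw [← Units.val_pow_eq_pow_val, Units.val_eq_one, ← orderOf_dvd_iff_pow_eq_one, hy,
      Nat.pow_dvd_pow_iff_le_right one_lt_two] at h
    omega
  have hyn : (y : F) ^ n = -1 := by
    obtain ⟨t, ht⟩ : 2 ^ v ∣ n := pow_padicValNat_dvd
    have hto : Odd t := by
      rw [← Nat.not_even_iff_odd]
      rintro ⟨s, rfl⟩
      have h1 := (padicValNat_dvd_iff_le (p := 2) (a := n) (n := v + 1) (by omega)).1 ⟨s, by rw [ht]; ring⟩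
      omega
    rw [ht, pow_mul, hy2, hto.neg_one_pow]
  let i₀ : Fin n := ⟨0, by omega⟩
  let d : Fin n → F := fun l => if l = i₀ then -(y : F) else y
  have hd : ∀ l, d l ^ (q + 1) = 1 := fun l => by
    show (if l = i₀ then -(y : F) else y) ^ (q + 1) = 1
    split_ifs
    · have he : Even (q + 1) := even_iff_two_dvd.2
        ((dvd_pow_self 2 (Nat.succ_ne_zero v)).trans ((padicValNat_dvd_iff_le (Nat.add_one_ne_zero q)).2 hv))
      rw [he.neg_pow, hyq]
    · exact hyq
  have hdet : (Matrix.diagonal d).det = 1 := by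
    rw [Matrix.det_diagonal, show d = fun l => (y : F) * (if l = i₀ then -1 else 1) from funext fun l => by
      simp only [d]; split_ifs <;> ring, Finset.prod_mul_distrib, Finset.prod_const, Finset.card_univ, Fintype.card_fin,
      Finset.prod_ite_eq', if_pos (Finset.mem_univ _), hyn]
    ring
  refine ⟨Matrix.diagonal d, isU_diagonal hF hd, hdet, ⟨(y : F) * y, ?_⟩, fun z hz => h2 ?_, fun W W' hP hor => ?_⟩
  · rw [Matrix.diagonal_pow, ← Matrix.diagonal_one, ← Matrix.diagonal_smul]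
    congr 1
    funext l
    simp only [Pi.pow_apply, Pi.smul_apply, smul_eq_mul, mul_one, d]
    split_ifs <;> ring
  · have h0 := congrFun (congrFun hz i₀) i₀
    have h1 := congrFun (congrFun hz ⟨1, by omega⟩) ⟨1, by omega⟩
    simp [d, i₀, Fin.ext_iff] at h0 h1
    have h3 : (2 : F) * y = 0 := by linear_combination h1 - h0
    exact (mul_eq_zero.1 h3).resolve_right y.ne_zero
  · rcases hor with ⟨h, -⟩ | ⟨h, -⟩
    · have hW0 : ∀ w ∈ W, w i₀ = 0 := fun w hw => by
        have h1 : Matrix.diagonal d *ᵥ w - (y : F) • w ∈ W := W.sub_mem (h w hw) (W.smul_mem _ hw)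
        have h3 : Matrix.diagonal d *ᵥ w - (y : F) • w = Pi.single i₀ ((-(2 : F) * y) * w i₀) := by
          funext l
          simp only [Pi.sub_apply, Pi.smul_apply, smul_eq_mul, Matrix.mulVec_diagonal, d, Pi.single_apply]
          split_ifs with h
          · subst h; ring
          · ring
        rw [h3] at h1
        have h4 := hP.ti _ h1 _ h1
        rw [hB_single_right, Pi.single_eq_same, ← pow_succ'] at h4
        have h5 := pow_eq_zero_iff (Nat.add_one_ne_zero q) |>.1 h4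
        exact (mul_eq_zero.1 h5).resolve_left (mul_ne_zero (neg_ne_zero.2 h2) y.ne_zero)
      have he0 : (Pi.single i₀ 1 : Fin n → F) ∈ perp hF W := fun w hw => by
        rw [hB_single_right, hW0 w hw, zero_pow (by have := two_le_q hF; omega), mul_zero]
      have he1 : (Pi.single i₀ 1 : Fin n → F) ∉ W := fun h => one_ne_zero (α := F) (by simpa using hW0 _ h)
      have hle : W ⊔ (F ∙ (Pi.single i₀ 1 : Fin n → F)) ≤ perp hF W :=
        sup_le (fun w hw u hu => hP.ti u hu w hw) ((Submodule.span_singleton_le_iff_mem _ _).2 he0)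
      have h6 := Submodule.finrank_mono hle
      rw [Submodule.finrank_sup_span_singleton he1, hP.dim] at h6
      have h7 := finrank_perp hF W
      rw [hP.dim] at h7
      omega
    · exact not_swap hF hm hP (LinearMap.proj i₀) y.ne_zero (fun w hw => by
        funext l
        rw [Matrix.mulVec_diagonal, Pi.smul_apply, smul_eq_mul]
        simp only [d]
        split_ifs with hl
        · subst hl; rw [show w i₀ = 0 from hw, mul_zero, mul_zero]
        · rfl) h

/-- For `r = 2` and `(q + 1)₂ ≤ n₂` every element fixes a pair. -/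
theorem two_fixes (hF : Fintype.card F = q ^ 2) (h2 : (2 : F) ≠ 0) {n m : ℕ} (hm : 1 ≤ m) (hn : n = 2 * m)
    (hv : padicValNat 2 (q + 1) ≤ padicValNat 2 n) (M : Matrix (Fin n) (Fin n) F) (hM : IsU hF M) (hdet : M.det = 1)
    {z : F} (hz : M ^ 2 = z • 1) :
    ∃ W W' : Submodule F (Fin n → F), IsPair hF m W W' ∧ (∀ w ∈ W, M *ᵥ w ∈ W) ∧ ∀ w ∈ W', M *ᵥ w ∈ W' := by
  classical
  have hq := two_le_q hF
  have hneg : (-1 : F) ≠ 1 := fun h => h2 (by linear_combination -h)
  have hzn : z ^ (q + 1) = 1 := norm_of_scalar hF (by omega) (hz ▸ hM.pow hF 2)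
  by_cases hy : ∃ y : F, y ^ (q + 1) = 1 ∧ y * y = z
  · obtain ⟨y, hyq, hyz⟩ := hy
    have hy0 : y ≠ 0 := fun h => by rw [h, zero_pow (Nat.add_one_ne_zero q)] at hyq; exact zero_ne_one hyq
    obtain ⟨N, hNdef⟩ : ∃ N, N = y⁻¹ • M := ⟨_, rfl⟩
    have hNU : IsU hF N := by rw [hNdef]; exact hM.smul hF (by rw [_root_.inv_pow, hyq, inv_one])
    have hNN : N * N = 1 := by
      rw [hNdef, smul_mul_smul_comm, ← pow_two M, hz, smul_smul, ← hyz]
      field_simp
      exact one_smul _ _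
    have hMN : M = y • N := by rw [hNdef, smul_smul, mul_inv_cancel₀ hy0, one_smul]
    have hact : ∀ v, N *ᵥ (N *ᵥ v) = v := fun v => by rw [Matrix.mulVec_mulVec, hNN, Matrix.one_mulVec]
    obtain ⟨E, hE⟩ : ∃ E : F → Submodule F (Fin n → F), ∀ c x, x ∈ E c ↔ N *ᵥ x = c • x :=
      ⟨fun c => LinearMap.ker (Matrix.mulVecLin N - c • LinearMap.id), fun c x => by simp [sub_eq_zero]⟩
    have hcompl : IsCompl (E 1) (E (-1)) := by
      refine ⟨Submodule.disjoint_def.2 fun x h1 h3 => ?_, codisjoint_iff.2 (eq_top_iff.2 fun x _ => ?_)⟩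
      · have h4 : (2 : F) • x = 0 := by
          rw [show (2 : F) • x = (1 : F) • x - (-1 : F) • x by module, ← (hE 1 x).1 h1, ← (hE _ x).1 h3, sub_self]
        exact (smul_eq_zero.1 h4).resolve_left h2
      · rw [← inv_smul_smul₀ h2 x, show (2 : F) • x = (x + N *ᵥ x) + (x - N *ᵥ x) by module]
        refine Submodule.smul_mem _ _ (Submodule.add_mem_sup ((hE _ _).2 ?_) ((hE _ _).2 ?_))
        · rw [Matrix.mulVec_add, hact, one_smul, add_comm]
        · rw [Matrix.mulVec_sub, hact]; module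
    have hdim := Submodule.finrank_add_eq_of_isCompl hcompl
    rw [finrank_fin_fun] at hdim
    have heven : Even (finrank F (E (-1))) := by
      rw [← Nat.not_odd_iff_even]
      intro hodd
      have hNdet : N.det = -1 := by
        let e := Submodule.prodEquivOfIsCompl _ _ hcompl
        let P : (E 1 × E (-1)) →ₗ[F] (E 1 × E (-1)) :=
          LinearMap.prodMap LinearMap.id ((-1 : F) • LinearMap.id)
        have hconj : (e : (E 1 × E (-1)) →ₗ[F] _) ∘ₗ P ∘ₗ (e.symm : (Fin n → F) →ₗ[F] _) = Matrix.toLin' N := by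
          refine LinearMap.ext fun x => ?_
          obtain ⟨⟨u, w⟩, rfl⟩ := e.surjective x
          show e (P (e.symm (e (u, w)))) = Matrix.toLin' N (e (u, w))
          rw [LinearEquiv.symm_apply_apply]
          simp only [P, LinearMap.prodMap_apply,
            LinearMap.id_apply, LinearMap.smul_apply, e, Submodule.coe_prodEquivOfIsCompl', Submodule.coe_smul,
            Matrix.toLin'_apply, Matrix.mulVec_add, (hE 1 _).1 u.2, (hE _ _).1 w.2, one_smul]
        rw [← LinearMap.det_toLin', ← hconj, LinearMap.det_conj, LinearMap.det_prodMap, LinearMap.det_id,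
          LinearMap.det_smul, LinearMap.det_id, one_mul, mul_one, hodd.neg_one_pow]
      have hyn : y ^ n = -1 := by
        rw [hMN, Matrix.det_smul, Fintype.card_fin, hNdet] at hdet
        linear_combination -hdet
      obtain ⟨s, hs⟩ : 2 ^ padicValNat 2 (q + 1) ∣ q + 1 := pow_padicValNat_dvd
      obtain ⟨u, hu⟩ : 2 ^ padicValNat 2 (q + 1) ∣ n := (padicValNat_dvd_iff_le (by omega)).2 hv
      have hso : Odd s := by
        rw [← Nat.not_even_iff_odd]
        rintro ⟨l, rfl⟩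
        have h1 := (padicValNat_dvd_iff_le (p := 2) (a := q + 1) (n := padicValNat 2 (q + 1) + 1)
          (Nat.add_one_ne_zero q)).1 ⟨l, by rw [pow_succ]; linarith⟩
        omega
      have h1 : (y ^ n) ^ s = 1 := by
        rw [← pow_mul, hu, show 2 ^ padicValNat 2 (q + 1) * u * s = 2 ^ padicValNat 2 (q + 1) * s * u by ring, ← hs,
          pow_mul, hyq, one_pow]
      rw [hyn, hso.neg_one_pow] at h1
      exact hneg h1
    obtain ⟨b, hb⟩ := heven
    have hcross : ∀ u ∈ E 1, ∀ v ∈ E (-1), hB hF n u v = 0 := fun u hu v hv => by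
      have h1 := (isU_iff hF N).1 hNU u v
      rw [(hE 1 u).1 hu, (hE _ v).1 hv, one_smul, map_smul, smul_eq_mul] at h1
      have h3 : (2 : F) * hB hF n u v = 0 := by linear_combination -h1
      exact (mul_eq_zero.1 h3).resolve_left h2
    have hnd : ∀ {P Q : Submodule F (Fin n → F)}, IsCompl P Q → (∀ u ∈ P, ∀ v ∈ Q, hB hF n u v = 0) →
        ∀ x ∈ P, (∀ y ∈ P, hB hF n x y = 0) → x = 0 := fun {P Q} hc h0 x hx h1 =>
      (hB_nondegenerate hF n).1 x fun y => by
        obtain ⟨a, ha, c, hc', rfl⟩ := Submodule.mem_sup.1 (hc.sup_eq_top ▸ Submodule.mem_top : y ∈ P ⊔ Q)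
        rw [map_add, h1 a ha, h0 x hx c hc', add_zero]
    have hcross' : ∀ v ∈ E (-1), ∀ u ∈ E 1, hB hF n v u = 0 := fun v hv u hu => hB_symm_zero hF (hcross u hu v hv)
    obtain ⟨W₁, W₁', a1, a2, d1, d2, t1, t2, i1⟩ := exists_ti_pair hF h2 (a := m - b) (hnd hcompl hcross)
      (by omega)
    obtain ⟨W₂, W₂', b1, b2, f1, f2, s1, s2, i2⟩ := exists_ti_pair hF h2 (a := b) (hnd hcompl.symm hcross') (by omega)
    have hdimsup : ∀ {A B : Submodule F (Fin n → F)}, A ≤ E 1 → B ≤ E (-1) → finrank F A = m - b → finrank F B = b →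
        finrank F ↥(A ⊔ B) = m := fun {A B} hA hB dA dB => by
      have h1 := Submodule.finrank_sup_add_finrank_inf_eq A B
      rw [eq_bot_iff.2 ((inf_le_inf hA hB).trans hcompl.inf_eq_bot.le), finrank_bot, add_zero, dA, dB] at h1
      omega
    have hti : ∀ {A B : Submodule F (Fin n → F)}, A ≤ E 1 → B ≤ E (-1) → (∀ u ∈ A, ∀ v ∈ A, hB hF n u v = 0) →
        (∀ u ∈ B, ∀ v ∈ B, hB hF n u v = 0) → ∀ u ∈ A ⊔ B, ∀ v ∈ A ⊔ B, hB hF n u v = 0 := by
      intro A B hA hB hAi hBi u hu v hv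
      obtain ⟨u₁, hu₁, u₂, hu₂, rfl⟩ := Submodule.mem_sup.1 hu
      obtain ⟨v₁, hv₁, v₂, hv₂, rfl⟩ := Submodule.mem_sup.1 hv
      simp only [map_add, LinearMap.add_apply, hAi _ hu₁ _ hv₁, hBi _ hu₂ _ hv₂, hcross _ (hA hu₁) _ (hB hv₂),
        hcross' _ (hB hu₂) _ (hA hv₁), add_zero]
    have hinv : ∀ {A B : Submodule F (Fin n → F)}, A ≤ E 1 → B ≤ E (-1) → ∀ w ∈ A ⊔ B, M *ᵥ w ∈ A ⊔ B := by
      intro A B hA hB w hw
      obtain ⟨u, hu, v, hv, rfl⟩ := Submodule.mem_sup.1 hw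
      rw [hMN, Matrix.smul_mulVec, Matrix.mulVec_add, (hE 1 u).1 (hA hu), (hE _ v).1 (hB hv)]
      exact Submodule.smul_mem _ _ (Submodule.add_mem_sup (A.smul_mem _ hu) (B.smul_mem _ hv))
    refine ⟨W₁ ⊔ W₂, W₁' ⊔ W₂', ⟨hdimsup a1 b1 d1 f1, hdimsup a2 b2 d2 f2, hti a1 b1 t1 s1, hti a2 b2 t2 s2, ?_⟩,
      hinv a1 b1, hinv a2 b2⟩
    have hdisj : Disjoint (W₁ ⊔ W₂) (W₁' ⊔ W₂') := Submodule.disjoint_def.2 fun x hx hx' => by
      obtain ⟨u, hu, v, hv, rfl⟩ := Submodule.mem_sup.1 hx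
      obtain ⟨u', hu', v', hv', e⟩ := Submodule.mem_sup.1 hx'
      have e1 : u - u' = v' - v := by rw [sub_eq_sub_iff_add_eq_add, ← e, add_comm]
      have e2 : u - u' = 0 := Submodule.disjoint_def.1 hcompl.disjoint _ ((E 1).sub_mem (a1 hu) (a2 hu'))
        (e1 ▸ (E (-1)).sub_mem (b2 hv') (b1 hv))
      have hu0 : u = 0 := (Submodule.eq_bot_iff _).1 i1 u ⟨hu, (sub_eq_zero.1 e2) ▸ hu'⟩
      have e3 : v' = v := sub_eq_zero.1 (e1.symm.trans e2)
      rw [hu0, zero_add]
      exact (Submodule.eq_bot_iff _).1 i2 v ⟨hv, e3 ▸ hv'⟩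
    refine ⟨hdisj, codisjoint_iff.2 (Submodule.eq_top_of_finrank_eq ?_)⟩
    have h1 := Submodule.finrank_sup_add_finrank_inf_eq (W₁ ⊔ W₂) (W₁' ⊔ W₂')
    rw [hdisj.eq_bot, finrank_bot, add_zero, hdimsup a1 b1 d1 f1, hdimsup a2 b2 d2 f2] at h1
    rw [finrank_fin_fun]
    omega
  · have hqodd : Odd q := by
      rw [← Nat.not_even_iff_odd]
      intro he
      have h1 := FiniteField.odd_card_of_char_ne_two (F := F) fun h => h2 (by
        haveI : CharP F 2 := ringChar.of_eq h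
        exact CharTwo.two_eq_zero)
      rw [hF] at h1
      have := Nat.even_iff.1 (Nat.even_pow.2 ⟨he, two_ne_zero⟩)
      omega
    obtain ⟨l, hl⟩ : ∃ l : F, l ^ 2 = z := exists_root hF (even_iff_two_dvd.1 hqodd.add_one) hzn (by
      obtain ⟨k, hk⟩ := hqodd
      rw [show (q + 1) * (q - 1) / 2 = (q + 1) * k by
        rw [show q - 1 = k * 2 by omega, ← mul_assoc, Nat.mul_div_cancel _ two_pos], pow_mul, hzn, one_pow])
    have hl2 : l * l = z := by rw [← pow_two]; exact hl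
    have hlq : l ^ (q + 1) = -1 := by
      have h1 : l ^ (q + 1) * l ^ (q + 1) = 1 := by rw [← mul_pow, hl2, hzn]
      exact (mul_self_eq_one_iff.1 h1).resolve_left fun h => hy ⟨l, h, hl2⟩
    have hl0 : l ≠ 0 := fun h => by rw [h, zero_pow (Nat.add_one_ne_zero q)] at hlq; exact one_ne_zero (neg_eq_zero.1 hlq.symm)
    have hact : ∀ v, M *ᵥ (M *ᵥ v) = (l * l) • v := fun v => by
      rw [Matrix.mulVec_mulVec, ← pow_two M, hz, hl2, Matrix.smul_mulVec, Matrix.one_mulVec]
    obtain ⟨E, hE⟩ : ∃ E : F → Submodule F (Fin n → F), ∀ c x, x ∈ E c ↔ M *ᵥ x = c • x :=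
      ⟨fun c => LinearMap.ker (Matrix.mulVecLin M - c • LinearMap.id), fun c x => by simp [sub_eq_zero]⟩
    have hti : ∀ c, c ^ (q + 1) = -1 → ∀ u ∈ E c, ∀ v ∈ E c, hB hF n u v = 0 := fun c hc u hu v hv => by
      have h1 := (isU_iff hF M).1 hM u v
      rw [(hE c u).1 hu, (hE c v).1 hv] at h1
      simp only [map_smul, LinearMap.map_smulₛₗ, LinearMap.smul_apply, smul_eq_mul, frob_apply] at h1
      have h3 : (2 : F) * hB hF n u v = 0 := by linear_combination -h1 + (hB hF n u v) * hc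
      exact (mul_eq_zero.1 h3).resolve_left h2
    have hcompl : IsCompl (E l) (E (-l)) := by
      refine ⟨Submodule.disjoint_def.2 fun x h1 h3 => ?_, codisjoint_iff.2 (eq_top_iff.2 fun x _ => ?_)⟩
      · have h4 : (2 * l) • x = 0 := by
          rw [show (2 * l) • x = l • x - (-l) • x by module, ← (hE l x).1 h1, ← (hE _ x).1 h3, sub_self]
        exact (smul_eq_zero.1 h4).resolve_left (mul_ne_zero h2 hl0)
      · rw [← inv_smul_smul₀ (mul_ne_zero h2 hl0) x, show (2 * l) • x = (l • x + M *ᵥ x) + (l • x - M *ᵥ x) by module]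
        refine Submodule.smul_mem _ _ (Submodule.add_mem_sup ((hE _ _).2 ?_) ((hE _ _).2 ?_))
        · rw [Matrix.mulVec_add, Matrix.mulVec_smul, hact]; module
        · rw [Matrix.mulVec_sub, Matrix.mulVec_smul, hact]; module
    have hlq' : (-l) ^ (q + 1) = -1 := by rw [hqodd.add_one.neg_pow, hlq]
    have hdim := Submodule.finrank_add_eq_of_isCompl hcompl
    rw [finrank_fin_fun] at hdim
    have hbound : ∀ c, c ^ (q + 1) = -1 → finrank F (E c) ≤ m := fun c hc => by
      have h1 : E c ≤ perp hF (E c) := fun v hv u hu => hti c hc u hu v hv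
      have h3 := Submodule.finrank_mono h1
      have h4 := finrank_perp hF (E c)
      omega
    have h5 := hbound l hlq
    have h6 := hbound _ hlq'
    refine ⟨E l, E (-l), ⟨by omega, by omega, hti l hlq, hti _ hlq', hcompl⟩, fun w hw => ?_, fun w hw => ?_⟩
    · rw [(hE l w).1 hw]; exact Submodule.smul_mem _ _ hw
    · rw [(hE _ w).1 hw]; exact Submodule.smul_mem _ _ hw

end Pairs

/-- Elements of prime order of PSU_n(q) and the stabilizers of pairs of complementary totally singular subspaces. Here `T = PSU_n(q)` is realised through `SU_n(q)`, the matrices of determinant 1 over the field `F` with `q²` elements preserving the hermitian form `Σ uᵢ vᵢ^q`, with `n ≥ 4` even; `D` is a pair of complementary subspaces of dimension `n/2` on each of which the form vanishes identically, and `H` is the subgroup of `SU_n(q)` fixing or interchanging the two members — a subgroup of type GL_{n/2}(q²).2 (maximality is not assumed). Ω is the set of cosets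 of `H`, so an element of `T` of prime order `r` (`x ∈ SU_n(q)` with `x^r` scalar, `x` not scalar) fixes a point of Ω exactly when some `SU_n(q)`-conjugate of `x` lies in `H`. Let `r` be a prime dividing the index of `H`. Then every element of `T` of order `r` fixes a point of Ω if and only if `r = 2`, `q` is odd and `(q + 1)_2 ≤ (n)_2` (2-parts). -/
theorem result {F : Type*} [Field F] [Fintype F] {p : ℕ} [Fact p.Prime] [CharP F p] {q : ℕ} (hq : Fintype.card F = q ^ 2)
    (n : ℕ) (hn : 4 ≤ n) (he : Even n) (D : Fin 2 → Submodule F (Fin n → F)) (hD : Cfsg.Geo.IsMDecomposition (n / 2) D)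
    (hDs : ∀ i, Cfsg.Geo.IsTotallySingularFor (Cfsg.hermForm n F q) (D i))
    (r : ℕ) [Fact r.Prime]
    (hΩ : r ∣ (Cfsg.Geo.decompositionStabilizer D).relIndex (Cfsg.GU n F q ⊓ Cfsg.Geo.specialLinear (Fin n) F)) :
    (∀ x ∈ Cfsg.GU n F q ⊓ Cfsg.Geo.specialLinear (Fin n) F, (∃ z : F, ((x ^ r : GL (Fin n) F) : Matrix (Fin n) (Fin n) F) = z • (1 : Matrix (Fin n) (Fin n) F)) →
      (∀ z : F, (x : Matrix (Fin n) (Fin n) F) ≠ z • (1 : Matrix (Fin n) (Fin n) F)) →
      ∃ g ∈ Cfsg.GU n F q ⊓ Cfsg.Geo.specialLinear (Fin n) F, g⁻¹ * x * g ∈ Cfsg.Geo.decompositionStabilizer D) ↔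
    (r = 2 ∧ Odd q ∧ padicValNat 2 (q + 1) ≤ padicValNat 2 n) := by
  classical
  have hF := hq
  have hq2 := two_le_q hF
  obtain ⟨hr⟩ := (inferInstance : Fact r.Prime)
  obtain ⟨e, he'⟩ := he
  set m := n / 2 with hmdef
  have hnm : n = 2 * m := by omega
  have hm2 : 2 ≤ m := by omega
  have hP := isPair_D hF D hD hDs
  obtain ⟨k, -, hk⟩ := FiniteField.card F p
  rw [hF] at hk
  have hp := (Fact.out : p.Prime)
  have hpq : p ∣ q := hp.dvd_of_dvd_pow (hk.symm ▸ dvd_pow_self p k.pos.ne' : p ∣ q ^ 2)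
  -- what the hypothesis says about a matrix
  have toPair : (∀ x ∈ Cfsg.GU n F q ⊓ Cfsg.Geo.specialLinear (Fin n) F, (∃ z : F, ((x ^ r : GL (Fin n) F) : Matrix (Fin n) (Fin n) F) = z • (1 : Matrix (Fin n) (Fin n) F)) →
      (∀ z : F, (x : Matrix (Fin n) (Fin n) F) ≠ z • (1 : Matrix (Fin n) (Fin n) F)) →
      ∃ g ∈ Cfsg.GU n F q ⊓ Cfsg.Geo.specialLinear (Fin n) F, g⁻¹ * x * g ∈ Cfsg.Geo.decompositionStabilizer D) →
      ∀ M : Matrix (Fin n) (Fin n) F, IsU hF M → M.det = 1 → (∃ z : F, M ^ r = z • (1 : Matrix (Fin n) (Fin n) F)) →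
        (∀ z : F, M ≠ z • (1 : Matrix (Fin n) (Fin n) F)) → ∃ W W' : Submodule F (Fin n → F), IsPair hF m W W' ∧
        (((∀ w ∈ W, M *ᵥ w ∈ W) ∧ ∀ w ∈ W', M *ᵥ w ∈ W') ∨ ((∀ w ∈ W, M *ᵥ w ∈ W') ∧ ∀ w ∈ W', M *ᵥ w ∈ W)) := by
    intro hall M hM hdet ⟨z, hz⟩ hns
    obtain ⟨g, hg, hgx⟩ := hall (isU_unit hF hM).unit ⟨(mem_GU_iff hF _).2 hM, (mem_sl_iff _).2 hdet⟩
      ⟨z, by rw [Units.val_pow_eq_pow_val]; exact hz⟩ hns
    exact pair_of_conj hF hP hg.1 hgx
  constructor
  · intro hall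
    have hM' := toPair hall
    have hrp : r ≠ p := by
      intro h
      subst h
      obtain ⟨M, h1, h2, h3, h4, h5⟩ := not_conj_transvection (F := F) hF (p := r) hn
      obtain ⟨W, W', hW, hor⟩ := hM' M h1 h2 h3 h4
      exact h5 m hm2 W W' hW hor
    have hrF : (r : F) ≠ 0 := fun h =>
      hrp ((Nat.prime_dvd_prime_iff_eq Fact.out hr).mp ((CharP.cast_eq_zero_iff F p r).mp h)).symm
    by_cases hr2 : r = 2
    · subst hr2
      have h2 : (2 : F) ≠ 0 := by exact_mod_cast hrF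
      refine ⟨rfl, ?_, ?_⟩
      · rw [← Nat.not_even_iff_odd]
        intro heq
        have h3 : p ∣ 2 := by
          have h1 := FiniteField.odd_card_of_char_ne_two (F := F) fun h => h2 (by
            haveI : CharP F 2 := ringChar.of_eq h
            exact CharTwo.two_eq_zero)
          rw [hF] at h1
          have := Nat.even_iff.1 (Nat.even_pow.2 ⟨heq, two_ne_zero⟩)
          omega
        exact hrp ((Nat.prime_dvd_prime_iff_eq hp Nat.prime_two).1 h3).symm
      · by_contra hv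
        push Not at hv
        obtain ⟨M, h1, h3, h4, h5, h6⟩ := two_witness hF h2 hm2 hnm hv
        obtain ⟨W, W', hW, hor⟩ := hM' M h1 h3 h4 h5
        exact h6 W W' hW hor
    exfalso
    -- every element fixes a totally isotropic subspace of dimension `m`
    have hodd := hr.odd_of_ne_two hr2
    have hfix : AllFix hF n m r := by
      intro M hM hdet hz hns
      obtain ⟨W, W', hW, hor⟩ := hM' M hM hdet hz hns
      rcases hor with ⟨h, -⟩ | ⟨h, h'⟩
      · exact ⟨W, hW.dim, hW.ti, by rintro _ ⟨w, hw, rfl⟩; rw [Matrix.toLin'_apply]; exact h w hw⟩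
      · exfalso
        obtain ⟨z, hz⟩ := hz
        have hz0 : z ≠ 0 := fun h0 => by
          have := norm_of_scalar hF (show 0 < n by omega) (hz ▸ hM.pow hF r)
          rw [h0, zero_pow (Nat.add_one_ne_zero q)] at this
          exact zero_ne_one this
        have hodd' : ∀ t, ∀ w ∈ W, (M ^ (2 * t + 1)) *ᵥ w ∈ W' := by
          intro t
          induction t with
          | zero => intro w hw; simpa using h w hw
          | succ t ih =>
            intro w hw
            rw [show 2 * (t + 1) + 1 = 1 + (1 + (2 * t + 1)) by ring, pow_add, pow_add, pow_one, ← Matrix.mulVec_mulVec,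
              ← Matrix.mulVec_mulVec]
            exact h _ (h' _ (ih w hw))
        obtain ⟨t, ht⟩ := hodd
        obtain ⟨w, hw, hw0⟩ := Submodule.exists_mem_ne_zero_of_ne_bot (p := W) (fun h0 => by
          have := hW.dim; rw [h0, finrank_bot] at this; omega)
        refine hw0 (Submodule.disjoint_def.1 hW.compl.disjoint w hw ?_)
        have h7 := hodd' t w hw
        rw [← ht, hz, Matrix.smul_mulVec, Matrix.one_mulVec] at h7
        simpa [smul_smul, hz0] using W'.smul_mem z⁻¹ h7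
    have hrnq : ¬ r ∣ q := by
      intro h
      have h3 : r ∣ p ^ (k : ℕ) := hk ▸ dvd_pow h two_ne_zero
      exact hrp ((Nat.prime_dvd_prime_iff_eq hr hp).1 (hr.dvd_of_dvd_pow h3))
    let qu : (ZMod r)ˣ := Units.mk0 _ (fun h => hrnq ((ZMod.natCast_eq_zero_iff _ _).1 h))
    have hqu : (qu : ZMod r) = (q : ZMod r) := rfl
    by_cases hrd : r ∣ q + 1
    · have h1 := ((plus_case hF hr2 hrF hrd hqu (show 1 ≤ m by omega) hnm.ge).1 hfix).1
      have := hr.two_le
      omega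
    -- the index
    have hH : ∀ g : GL (Fin n) F, (D 0).map (Matrix.toLin' (g : Matrix (Fin n) (Fin n) F)) ≤ D 0 →
        (D 1).map (Matrix.toLin' (g : Matrix (Fin n) (Fin n) F)) ≤ D 1 → g ∈ Cfsg.Geo.decompositionStabilizer D := by
      intro g h0 h1
      refine ⟨1, fun i => Submodule.eq_of_le_of_finrank_eq ?_ ?_⟩
      · fin_cases i
        · exact h0
        · exact h1
      · rw [Equiv.Perm.one_apply, ← (Submodule.equivMapOfInjective _ (fun a b e =>
          Cfsg.Lib.Linear.Orth.act_injective g (by simpa only [Matrix.toLin'_apply] using e)) (D i)).finrank_eq]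
    have hdvd := hΩ.trans (dvd_index_pair hF hnm (by omega) hP _ hH)
    rcases hr.dvd_mul.1 hdvd with h | h
    · exact hrnq (hr.dvd_of_dvd_pow h)
    obtain ⟨l, hl, hld⟩ := (Prime.dvd_finsetProd_iff hr.prime _).1 h
    rw [Finset.mem_range] at hl
    have hpw : (-qu) ^ (2 * l + 1) = 1 := Units.ext (by
      rw [Units.val_pow_eq_pow_val, Units.val_neg, hqu, Units.val_one, Odd.neg_pow ⟨l, rfl⟩, ← Nat.cast_pow,
        neg_eq_iff_add_eq_zero, ← Nat.cast_one (R := ZMod r), ← Nat.cast_add]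
      exact (ZMod.natCast_eq_zero_iff _ _).2 hld)
    have hcd := orderOf_dvd_of_pow_eq_one hpw
    have hcodd : Odd (orderOf (-qu)) := Odd.of_dvd_nat ⟨l, rfl⟩ hcd
    have hbc : orderOf ((-qu) ^ 2) = orderOf (-qu) := Nat.Coprime.orderOf_pow (Nat.coprime_two_right.2 hcodd)
    obtain ⟨t, ht⟩ : orderOf (-qu) ∣ r - 1 := by rw [← ZMod.card_units r]; exact orderOf_dvd_card
    have hU := (other_case hF hrF hrd hqu (t := t) (by omega) hnm.ge hbc rfl (Or.inl rfl)
      (by rw [mul_comm, ← ht])).1 hfix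
    set c := orderOf (-qu) with hcdef
    have hc0 : 0 < c := orderOf_pos _
    have hcl := Nat.le_of_dvd (by omega) hcd
    obtain ⟨J, hJ1, -, hJ3⟩ := hU 1 (by omega)
    rw [if_pos rfl] at hJ1
    have ht0 : 0 < t := by
      rcases Nat.eq_zero_or_pos t with h0 | h0
      · exfalso; rw [h0, mul_zero] at ht; have := hr.two_le; omega
      · exact h0
    obtain rfl : J = 0 := by omega
    omega
  · rintro ⟨rfl, hqodd, hv⟩ x hx ⟨z, hz⟩ -
    have hp2 : p ≠ 2 := fun h => by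
      subst h
      exact Nat.not_even_iff_odd.2 hqodd (even_iff_two_dvd.2 hpq)
    have h2 : (2 : F) ≠ 0 := fun h => hp2 ((Nat.prime_dvd_prime_iff_eq hp Nat.prime_two).1
      ((CharP.cast_eq_zero_iff F p 2).1 (by exact_mod_cast h)))
    rw [Units.val_pow_eq_pow_val] at hz
    obtain ⟨W, W', hW, h1, h3⟩ := two_fixes hF h2 (show 1 ≤ m by omega) hnm hv (x : Matrix (Fin n) (Fin n) F)
      ((mem_GU_iff hF x).1 hx.1) ((mem_sl_iff x).1 hx.2) hz
    exact conj_of_pair hF (by omega) hP hW h1 h3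

end Cfsg.Agent.S5984
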