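import Cfsg.Statements.S5986
import Cfsg.Agent.Lib.Linear.OrthFixPoint
-- import your own Cfsg.Agent.* helpers here

set_option autoImplicit false
open scoped MatrixGroups
open Cfsg

namespace Cfsg.Agent.S5986

open Cfsg.Lib.Linear.Orth Module
open scoped Matrix

/-- Elements of prime order of Ω⁻_n(q), q even, with no fixed nonsingular 1-space. Here `T = PΩ⁻_n(F)`, `n = 2d ≥ 8`, realised through `Ω⁻_n(q)`, the commutator subgroup of the isometry group of `Q = Σ_{i<d−1} xᵢyᵢ + z₁² + a z₁z₂ + b z₂²` with `z₁² + a z₁z₂ + b z₂²` anisotropic, over the field `F` with `q` elements; an element of `T` of prime order `r` is an element `x` of `Ω⁻_n(q)` with `x^r` scalar and `x` not scalar; `q` is even (so the centre is trivial). Let Ω be the set of 1-dimensional subspaces spanned by a vector `v` with `Q(v) ≠ 0`, and let `r` be a prime dividing their number. Then every element of `T` of order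 `r` fixes some nonsingular 1-space if and only if `r = 2`. -/
theorem result {F : Type*} [Field F] [Fintype F] {p : ℕ} [Fact p.Prime] [CharP F p] {q : ℕ} (hq : Fintype.card F = q)
    (hp : p = 2) (d : ℕ) (hd : 4 ≤ d) (a b : F) (hab : ∀ x y : F, x ^ 2 + a * x * y + b * y ^ 2 = 0 → x = 0 ∧ y = 0) (r : ℕ) [Fact r.Prime]
    (hrΩ : r ∣ Nat.card {W : Submodule F ((Fin (d - 1) ⊕ Fin (d - 1)) ⊕ Fin 2 → F) // Module.finrank F ↥W = 1 ∧ ∃ v ∈ W, Cfsg.quadFormMinus (d - 1) F a b v ≠ 0}) :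
    (∀ x : GL ((Fin (d - 1) ⊕ Fin (d - 1)) ⊕ Fin 2) F, x ∈ Cfsg.Geo.omegaGL (Cfsg.quadFormMinus (d - 1) F a b) →
      (∃ z : F, ((x ^ r : GL ((Fin (d - 1) ⊕ Fin (d - 1)) ⊕ Fin 2) F) : Matrix ((Fin (d - 1) ⊕ Fin (d - 1)) ⊕ Fin 2) ((Fin (d - 1) ⊕ Fin (d - 1)) ⊕ Fin 2) F) = z • (1 : Matrix ((Fin (d - 1) ⊕ Fin (d - 1)) ⊕ Fin 2) ((Fin (d - 1) ⊕ Fin (d - 1)) ⊕ Fin 2) F)) →
      (∀ z : F, (x : Matrix ((Fin (d - 1) ⊕ Fin (d - 1)) ⊕ Fin 2) ((Fin (d - 1) ⊕ Fin (d - 1)) ⊕ Fin 2) F) ≠ z • (1 : Matrix ((Fin (d - 1) ⊕ Fin (d - 1)) ⊕ Fin 2) ((Fin (d - 1) ⊕ Fin (d - 1)) ⊕ Fin 2) F)) →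
      ∃ W : Submodule F ((Fin (d - 1) ⊕ Fin (d - 1)) ⊕ Fin 2 → F), (Module.finrank F ↥W = 1 ∧ ∃ v ∈ W, Cfsg.quadFormMinus (d - 1) F a b v ≠ 0) ∧ W.map (Matrix.toLin' (x : Matrix ((Fin (d - 1) ⊕ Fin (d - 1)) ⊕ Fin 2) ((Fin (d - 1) ⊕ Fin (d - 1)) ⊕ Fin 2) F)) ≤ W) ↔ r = 2 := by
  subst hp
  have h2 : (2 : F) = 0 := CharTwo.two_eq_zero
  obtain ⟨k, rfl⟩ : ∃ k, d = k + 1 := ⟨d - 1, by omega⟩
  change (∀ x : GL ((Fin k ⊕ Fin k) ⊕ Fin 2) F, x ∈ Cfsg.Geo.omegaGL (Cfsg.quadFormMinus k F a b) →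
    _ → _ → ∃ W : Submodule F ((Fin k ⊕ Fin k) ⊕ Fin 2 → F),
      (finrank F ↥W = 1 ∧ ∃ v ∈ W, Cfsg.quadFormMinus k F a b v ≠ 0) ∧
        W.map (Matrix.toLin' (x : Matrix ((Fin k ⊕ Fin k) ⊕ Fin 2) ((Fin k ⊕ Fin k) ⊕ Fin 2) F)) ≤ W) ↔ r = 2
  replace hrΩ : r ∣ Nat.card {W : Submodule F ((Fin k ⊕ Fin k) ⊕ Fin 2 → F) //
      finrank F ↥W = 1 ∧ ∃ v ∈ W, Cfsg.quadFormMinus k F a b v ≠ 0} := hrΩ
  obtain ⟨B, C⟩ := exists_space_minus (F := F) k a b hab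
  have hr : r.Prime := Fact.out
  have hcard : Fintype.card ((Fin k ⊕ Fin k) ⊕ Fin 2) = 2 * (k + 1) := by simp; omega
  have hne : Fintype.card F ≠ 2 ∨ Fintype.card ((Fin k ⊕ Fin k) ⊕ Fin 2) ≠ 4 :=
    Or.inr (by omega)
  have hn : 2 ≤ Fintype.card ((Fin k ⊕ Fin k) ⊕ Fin 2) := by omega
  haveI : Nonempty ((Fin k ⊕ Fin k) ⊕ Fin 2) := ⟨.inr 0⟩
  have hF : 1 < Nat.card F := Finite.one_lt_card
  have hS : (Nat.card {x // Cfsg.quadFormMinus k F a b x = 0} : ℤ) =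
      ((Nat.card F : ℤ) ^ k - 1) * ((Nat.card F : ℤ) ^ (k + 1) + 1) + 1 := by
    rw [(counts_minus (F := F) k hab).1 (by omega), show 2 + k - 1 = k + 1 by omega]
  constructor
  · intro hall
    by_contra hr2
    have hodd : Odd r := hr.odd_of_ne_two hr2
    have hrF : (r : F) ≠ 0 := fun h => hr2
      ((Nat.prime_dvd_prime_iff_eq Nat.prime_two hr).mp ((CharP.cast_eq_zero_iff F 2 r).mp h)).symm
    rw [card_points C h2] at hrΩ
    have hL := card_level C h2 (⊤ : Submodule F ((Fin k ⊕ Fin k) ⊕ Fin 2 → F))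
    rw [card_top, hcard, sgCount_top, hS] at hL
    have hLe : (Nat.card {v : (Fin k ⊕ Fin k) ⊕ Fin 2 → F //
        v ∈ (⊤ : Submodule F ((Fin k ⊕ Fin k) ⊕ Fin 2 → F)) ∧
          Cfsg.quadFormMinus k F a b v = 1} : ℤ) =
        (Nat.card F : ℤ) ^ k * ((Nat.card F : ℤ) ^ (k + 1) + 1) :=
      mul_right_cancel₀ (b := (Nat.card F : ℤ) - 1) (by omega) (by linear_combination hL)
    have hdiv : (r : ℤ) ∣ (Nat.card F : ℤ) ^ k * ((Nat.card F : ℤ) ^ (k + 1) + 1) :=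
      hLe ▸ Int.natCast_dvd_natCast.mpr hrΩ
    have hrP : Prime (r : ℤ) := Nat.prime_iff_prime_int.mp hr
    have hd' : (r : ℤ) ∣ (Nat.card F : ℤ) ^ (k + 1) + 1 := by
      refine (hrP.dvd_or_dvd hdiv).resolve_left fun h => hrF ?_
      have h' := Int.natCast_dvd_natCast.mp (hrP.dvd_of_dvd_pow h)
      obtain ⟨m, -, hm⟩ := FiniteField.card F 2
      rw [Nat.card_eq_fintype_card, hm] at h'
      exact absurd ((Nat.prime_dvd_prime_iff_eq hr Nat.prime_two).mp (hr.dvd_of_dvd_pow h')) hr2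
    have hq1 : ¬ (r : ℤ) ∣ (Nat.card F : ℤ) - 1 := fun h => by
      have h1 : (r : ℤ) ∣ (Nat.card F : ℤ) ^ (k + 1) - 1 := h.trans (sub_one_dvd_pow_sub_one _ _)
      have h3 := dvd_sub hd' h1
      rw [show (Nat.card F : ℤ) ^ (k + 1) + 1 - ((Nat.card F : ℤ) ^ (k + 1) - 1) = (2 : ℕ) by
        push_cast; ring] at h3
      exact hr2 ((Nat.prime_dvd_prime_iff_eq hr Nat.prime_two).mp (Int.natCast_dvd_natCast.mp h3))
    obtain ⟨x, hx, hxr, hfix⟩ := exists_fpf (r := r) C h2 hrF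
      (by rw [sgCount_top, hS, add_sub_cancel_right]; exact dvd_mul_of_dvd_right hd' _)
      (by
        rw [hcard, mul_comm, pow_mul, show ((Nat.card F : ℤ) ^ (k + 1)) ^ 2 - 1 =
          ((Nat.card F : ℤ) ^ (k + 1) + 1) * ((Nat.card F : ℤ) ^ (k + 1) - 1) by ring]
        exact dvd_mul_of_dvd_left hd' _)
      hq1
    refine not_forall_fix C h2 (mem_omegaGL_of_pow C h2 hn hne hx hodd hxr) hxr (fun h1 => ?_)
      (fun v hv => ?_) hall
    · have : (Pi.single (.inr 0) 1 : (Fin k ⊕ Fin k) ⊕ Fin 2 → F) ∈ fixSpace x :=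
        mem_fixSpace.mpr (by rw [h1, Units.val_one, Matrix.one_mulVec])
      rw [hfix, Submodule.mem_bot] at this
      simpa using congrFun this (.inr 0)
    · rw [(Submodule.eq_bot_iff _).mp hfix v (mem_fixSpace.mpr hv), C.zero]
  · rintro rfl x hx ⟨z, hz⟩ -
    have hxi := omegaGL_le_iso hx
    have hx2 : x ^ 2 = 1 := scalar_iso_eq_one C h2 (pow_mem hxi 2) hz
    have h1 := two_fix h2 hx2
    rw [hcard] at h1
    refine (point_iff C h2 hxi).mpr ?_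
    by_contra hno
    push Not at hno
    have hts : ∀ v ∈ fixSpace x, Cfsg.quadFormMinus k F a b v = 0 := fun v hv =>
      hno v (mem_fixSpace.mp hv)
    have h3 := ts_bound C hts
    rw [hcard] at h3
    have h4 := ts_half_count C hts (k := k) (by omega) hcard
    rw [hS] at h4
    have h5 : (2 : ℤ) * (Nat.card F : ℤ) ^ k * ((Nat.card F : ℤ) - 1) = 0 := by
      linear_combination -h4
    rcases mul_eq_zero.mp h5 with h6 | h6
    · exact absurd h6 (mul_ne_zero two_ne_zero (pow_ne_zero _ (by omega)))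
    · omega

end Cfsg.Agent.S5986
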