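import Cfsg.Statements.S5988
import Cfsg.Agent.Lib.Linear.NondegFix.InvolEven
import Cfsg.Agent.Lib.Linear.NondegFix.UnipEven
import Cfsg.Agent.Lib.Linear.NondegFix.EvenArith
-- import your own Cfsg.Agent.* helpers here

set_option autoImplicit false
open scoped MatrixGroups
open Cfsg

namespace Cfsg.Agent.S5988

open Module Cfsg.Lib.Linear.Orth Cfsg.Lib.Linear.IsoFix Cfsg.Lib.Linear.NondegFix Cfsg.Agent.Lib.Linear.PrimeClasses

/-- An element of order `p` fixing no elliptic subspace. -/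
theorem exists_bad {F : Type*} [Field F] [Fintype F] (p : ℕ) [Fact p.Prime] [CharP F p] {d k : ℕ} (hd : 4 ≤ d)
    (hk : 1 ≤ k) (hkd : k < d) :
    ∃ x : GL (Fin d ⊕ Fin d) F, x ∈ Cfsg.Geo.omegaGL (Cfsg.quadFormPlus d F) ∧ x ^ p = 1 ∧
      (∀ z : F, (x : Matrix (Fin d ⊕ Fin d) (Fin d ⊕ Fin d) F) ≠ z • (1 : Matrix _ _ F)) ∧
      ∀ W : Submodule F (Fin d ⊕ Fin d → F), finrank F W = 2 * k →
        Cfsg.Geo.IsNondegenerateOn (QuadraticMap.polar (Cfsg.quadFormPlus d F)) W →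
        W.map (Matrix.toLin' (x : Matrix (Fin d ⊕ Fin d) (Fin d ⊕ Fin d) F)) ≤ W →
        Cfsg.Geo.IsPlusTypeOn (Cfsg.quadFormPlus d F) W := by
  classical
  obtain ⟨B, C⟩ := exists_space_plus (F := F) d
  have hcard : Fintype.card (Fin d ⊕ Fin d) = 2 * d := by simp; omega
  have hrk := nilpP_rank (F := F) (d := d)
  obtain ⟨x, hx, hxp, hxv, hns⟩ := exists_one_add p C hcard (by omega) (nilpP F d) nilpP_sq nilpP_iso nilpP_ts
    (fun h => by rw [h, LinearMap.range_zero, finrank_bot] at hrk; omega)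
  refine ⟨x, hx, hxp, hns, fun W hWd hWn hinv => ?_⟩
  have hinv' : ∀ u ∈ W, nilpP F d u ∈ W := fun u hu => by
    have h3 := hinv ⟨u, hu, Matrix.toLin'_apply _ _⟩
    rw [hxv u] at h3
    simpa using W.sub_mem h3 hu
  rcases sq_zero_core C (nilpP F d) nilpP_sq nilpP_iso nilpP_ts (s := 2) (by omega) le_rfl hWd (ndeg_of_geo C hWn)
      hinv' with ⟨-, h⟩ | ⟨-, -, U, hU, hUd, hUo, hUp⟩
  · exact h
  · rw [hcard] at hUd
    rcases exists_std C hk hWd (ndeg_of_geo C hWn) with ⟨E, hE, hr⟩ | ⟨ζ, hζ, E, hE, hr⟩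
    · exact hr ▸ (plus_type C hE).2.2
    · exfalso
      obtain ⟨E', hE', hr'⟩ := (plus_pred_iff C (k := d - k) (by omega) U).1 ⟨by omega, geo_of_ndeg C hU, hUp⟩
      obtain ⟨A, hAd, hA⟩ := ts_plus F d
      have := no_half_plus_minus C hζ hE' hE
        (fun u v => hUo _ (hr' ▸ ⟨u, rfl⟩) _ (hr ▸ ⟨v, rfl⟩)) (by rw [hcard]; omega) hA
      omega

/-- Elements of prime order of PΩ⁺_n(q) with no fixed elliptic `m`-space. Here `T = PΩ⁺_n(F)`, `n = 2d ≥ 8`, realised through `Ω⁺_n(q)`, the commutator subgroup of the isometry group of `Q = Σ xᵢyᵢ` over the field `F` with `q` elements; an element of `T` of prime order `r` is an element `x` of `Ω⁺_n(q)` with `x^r` scalar and `x` not scalar; a nondegenerate `m`-space (even `m`) is a subspace on which the polar form of `Q` is nondegenerate; it is hyperbolic if it contains an `m/2`-dimensional subspace on which `Q` vanishes, elliptic otherwise. Let `m` be even with `2 ≤ m < n/2` and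 let `r` be a prime dividing the number of elliptic `m`-spaces; for `r ≠ p` let `i` be the multiplicative order of `q` modulo `r`, `c = i` for `i` even and `c = 2i` for `i` odd, and write `k = n mod c`, `ℓ = m mod i`, `ℓ' = m mod c`, `n' = ⌊n/i⌋`, `m' = ⌊m/i⌋`, `t = (r−1)/i`. Then every element of `T` of order `r` fixes some elliptic `m`-space if and only if one of: (i) `r = 2 ≠ p` and either `n ≡ 0 (mod 4)`, `q ≡ 3 (mod 4)` and `m ≡ 2 (mod 4)`, or `n ≡ 2 (mod 4)` and `q ≢ 1 (mod 8)`; (ii) `r ≠ p` odd, `i` odd, `c ≤ m` and `k > ℓ' > 0`; (iii) `r ≠ p` odd, `i` even, and either `k = 0` and (`n/i` odd, or `ℓ' = 0` and `m/i` odd), or `i ≤ m` and (`k > ℓ' > 0`, or `k = ℓ' > 0` and `(n + m − 2k)/i` odd, or `k > ℓ' = 0` and `m/i` odd). (For `r = p` there is always an element of order `p` fixing no elliptic `m`-space.) -/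
theorem result {F : Type*} [Field F] [Fintype F] {p : ℕ} [Fact p.Prime] [CharP F p] {q : ℕ} (hq : Fintype.card F = q)
    (d m : ℕ) (hd : 4 ≤ d) (hm : 2 ≤ m) (hme : Even m) (hmd : m < d)
    (r : ℕ) [Fact r.Prime]
    (hrΩ : r ∣ Nat.card {W : Submodule F (Fin d ⊕ Fin d → F) // Module.finrank F ↥W = m ∧ Cfsg.Geo.IsNondegenerateOn (QuadraticMap.polar (Cfsg.quadFormPlus d F)) W ∧ ¬ Cfsg.Geo.IsPlusTypeOn (Cfsg.quadFormPlus d F) W})
    (i c : ℕ) (hi : i = orderOf (q : ZMod r)) (hc : c = if Even i then i else 2 * i) :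
    (∀ x : GL (Fin d ⊕ Fin d) F, x ∈ Cfsg.Geo.omegaGL (Cfsg.quadFormPlus d F) →
      (∃ z : F, ((x ^ r : GL (Fin d ⊕ Fin d) F) : Matrix (Fin d ⊕ Fin d) (Fin d ⊕ Fin d) F) = z • (1 : Matrix (Fin d ⊕ Fin d) (Fin d ⊕ Fin d) F)) →
      (∀ z : F, (x : Matrix (Fin d ⊕ Fin d) (Fin d ⊕ Fin d) F) ≠ z • (1 : Matrix (Fin d ⊕ Fin d) (Fin d ⊕ Fin d) F)) →
      ∃ W : Submodule F (Fin d ⊕ Fin d → F), (Module.finrank F ↥W = m ∧ Cfsg.Geo.IsNondegenerateOn (QuadraticMap.polar (Cfsg.quadFormPlus d F)) W ∧ ¬ Cfsg.Geo.IsPlusTypeOn (Cfsg.quadFormPlus d F) W) ∧ W.map (Matrix.toLin' (x : Matrix (Fin d ⊕ Fin d) (Fin d ⊕ Fin d) F)) ≤ W) ↔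
    ((r = 2 ∧ p ≠ 2 ∧ ((Even d ∧ q % 4 = 3 ∧ m % 4 = 2) ∨ (Odd d ∧ q % 8 ≠ 1))) ∨
     (r ≠ p ∧ 2 < r ∧ Odd i ∧ c ≤ m ∧ 0 < m % c ∧ m % c < (2 * d) % c) ∨
     (r ≠ p ∧ 2 < r ∧ Even i ∧
       (((2 * d) % c = 0 ∧ (Odd ((2 * d) / i) ∨ (m % c = 0 ∧ Odd (m / i)))) ∨
        (i ≤ m ∧ ((0 < m % c ∧ m % c < (2 * d) % c) ∨
                  (0 < m % c ∧ m % c = (2 * d) % c ∧ Odd ((2 * d + m - 2 * ((2 * d) % c)) / i)) ∨
                  (m % c = 0 ∧ 0 < (2 * d) % c ∧ Odd (m / i))))))) := by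
  classical
  subst hq
  have hr : r.Prime := Fact.out
  obtain ⟨B, C⟩ := exists_space_plus (F := F) d
  have hcard : Fintype.card (Fin d ⊕ Fin d) = 2 * d := by simp; omega
  obtain ⟨k, hk⟩ := hme
  obtain ⟨j, rfl⟩ : ∃ j, k = j + 1 := ⟨k - 1, by omega⟩
  obtain rfl : m = 2 * (j + 1) := by omega
  by_cases hr2 : r = 2
  · subst hr2
    by_cases hp2 : p = 2
    · subst hp2
      refine iff_of_false (fun hall => ?_) ?_
      · obtain ⟨x, hx, hxp, hns, hno⟩ := exists_bad (F := F) 2 hd (k := j + 1) (by omega) (by omega)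
        obtain ⟨W, ⟨h1, h3, h4⟩, hinv⟩ := hall x hx ⟨1, by rw [hxp, Units.val_one, one_smul]⟩ hns
        exact h4 (hno W h1 h3 hinv)
      · rintro (⟨-, h, -⟩ | ⟨-, h, -⟩ | ⟨-, h, -⟩)
        · exact h rfl
        · exact lt_irrefl 2 h
        · exact lt_irrefl 2 h
    have h2 : (2 : F) ≠ 0 := fun h => hp2 (by
      have := (CharP.cast_eq_zero_iff F p 2).1 (by exact_mod_cast h)
      exact (Nat.prime_dvd_prime_iff_eq Fact.out Nat.prime_two).1 this)
    have h := even_two C h2 (k := j + 1) (by omega) (by rw [hcard]; omega) False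
    simp only [iff_false] at h
    rw [h, exists_sq_neg_plus h2 (by omega), neg_one_pow_sq h2]
    have hodd : Fintype.card F % 2 = 1 := FiniteField.odd_card_of_char_ne_two fun hc2 => h2 (by
      haveI : CharP F 2 := ringChar.of_eq hc2
      exact CharTwo.two_eq_zero)
    constructor
    · intro h
      refine Or.inl ⟨rfl, hp2, ?_⟩
      rcases Nat.even_or_odd d with he | ho
      · have h' := h (Or.inl he)
        rw [not_or, Nat.not_even_iff_odd, Nat.odd_iff] at h'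
        exact Or.inl ⟨he, by omega, by omega⟩
      · refine Or.inr ⟨ho, fun h8 => ?_⟩
        exact h (Or.inr h8) (Or.inr (by omega))
    · rintro (⟨-, -, h⟩ | ⟨-, h, -⟩ | ⟨-, h, -⟩)
      · rintro hex
        rw [not_or, Nat.not_even_iff_odd, Nat.odd_iff]
        rcases h with ⟨-, h4, hm4⟩ | ⟨ho, h8⟩
        · omega
        · exact absurd hex (not_or.2 ⟨Nat.not_even_iff_odd.2 ho, h8⟩)
      · exact absurd h (lt_irrefl 2)
      · exact absurd h (lt_irrefl 2)
  by_cases hrp : r = p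
  · subst hrp
    refine iff_of_false (fun hall => ?_) ?_
    · obtain ⟨x, hx, hxp, hns, hno⟩ := exists_bad (F := F) r hd (k := j + 1) (by omega) (by omega)
      obtain ⟨W, ⟨h1, h3, h4⟩, hinv⟩ := hall x hx ⟨1, by rw [hxp, Units.val_one, one_smul]⟩ hns
      exact h4 (hno W h1 h3 hinv)
    · rintro (⟨h, -⟩ | ⟨h, -⟩ | ⟨h, -⟩)
      · exact hr2 h
      · exact h rfl
      · exact h rfl
  obtain ⟨e, rfl⟩ : ∃ e, d = e + 1 + (j + 1) := ⟨d - (j + 1) - 1, by omega⟩
  obtain ⟨ζ, hζ⟩ := exists_zeta' F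
  obtain ⟨ζ', hζ', ψ, S⟩ := plusSum_minus (F := F) (j := j) (e := e) (d := e + 1 + (j + 1)) (by omega) hζ
  obtain ⟨BM, CM⟩ := exists_space_minus j 1 ζ hζ
  obtain ⟨B', C'⟩ := exists_space_minus e 1 ζ' hζ'
  have hW := minus_pred_iff C (j := j) hζ
  rw [Nat.card_congr (Equiv.subtypeEquivRight hW)] at hrΩ
  have hi0 : 0 < i := by
    rw [hi]
    have hne : (Fintype.card F : ZMod r) ≠ 0 := fun h => by
      have := (ZMod.natCast_eq_zero_iff _ _).1 h
      exact not_dvd_qpow p hrp 1 (by rw [pow_one]; exact this)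
    rw [show (Fintype.card F : ZMod r) = ((Units.mk0 _ hne : (ZMod r)ˣ) : ZMod r) from rfl, orderOf_units]
    exact orderOf_pos _
  refine Iff.trans (forall_congr' fun x => forall_congr' fun _ => forall_congr' fun _ => forall_congr' fun _ =>
    fixes_pred_iff _ hW _) ?_
  rw [even_iff p C CM C' S (n := 2 * (e + 1 + (j + 1))) (m := 2 * (j + 1)) hcard (by simp; omega) (by omega) (by omega)
    (by omega) hr2 hrp hi hc (TPlus i) (TMinus i) (TMinus i) (realSpec_plus hr2 hc _)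
    (by rw [show 2 * (j + 1) = 2 * j + 2 by ring]; exact realSpec_minus hr2 hc j hζ)
    (by
      rw [show 2 * (e + 1 + (j + 1)) - 2 * (j + 1) = 2 * e + 2 by omega]
      exact realSpec_minus hr2 hc e hζ')
    (fun h => by
      simp only [TPlus, TMinus, not_or, Nat.not_odd_iff_even, Nat.not_even_iff_odd] at h ⊢
      have hle := Nat.div_le_div_right (c := c) (show 2 * (j + 1) ≤ 2 * (e + 1 + (j + 1)) by omega)
      simp only [h.1, true_and, Nat.odd_iff] at h ⊢
      omega)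
    (fun h h' => by
      obtain ⟨he, ho⟩ := h'
      have hle := Nat.div_le_div_right (c := c) (show 2 * (j + 1) ≤ 2 * (e + 1 + (j + 1)) by omega)
      refine ⟨he, ?_⟩
      have := h.resolve_left (Nat.not_odd_iff_even.2 he)
      rw [Nat.odd_iff] at ho ⊢
      rw [Nat.even_iff] at this
      omega)]
  refine (arith_pm hc hi0 (by omega) (fun hk hl hP => ?_)).trans ?_
  · exact c_le_even p C CM C' S (e := e) (j := j) rfl (A := Fintype.card F ^ (e + 1 + (j + 1)) - 1)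
      (B₁ := Fintype.card F ^ (e + 1) + 1) (B₂ := Fintype.card F ^ (e + 1) - 1)
      (by
        conv_lhs => rw [show e + 1 + (j + 1) = e + 1 + j + 1 by omega, card_iso_plus]
        rw [show e + 1 + (j + 1) - 1 = e + 1 + j by omega, show e + 1 + (j + 1) = e + 1 + j + 1 by omega])
      (Or.inl rfl) (card_iso_minus e hζ')
      (by rw [← Nat.sq_sub_sq, one_pow, ← pow_mul, mul_comm 2])
      hr2 hrp hi hc (fun h => tminus_factor hi hc hi0 h) hrΩ hk hl hP
  · have h2r : 2 < r := lt_of_le_of_ne hr.two_le (Ne.symm hr2)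
    simp only [hr2, false_and, false_or, ne_eq, hrp, not_false_eq_true, h2r, true_and]

end Cfsg.Agent.S5988
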