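import Cfsg.Statements.S5989
import Cfsg.Agent.Lib.Linear.NondegFix.SqNeg
import Cfsg.Agent.Lib.Linear.NondegFix.UnipParabolic
-- import your own Cfsg.Agent.* helpers here

set_option autoImplicit false
open scoped MatrixGroups
open Cfsg

namespace Cfsg.Agent.S5989

open Module Cfsg.Lib.Linear.Orth Cfsg.Lib.Linear.IsoFix Cfsg.Lib.Linear.NondegFix Cfsg.Agent.Lib.Linear.PrimeClasses

/-- Elements of prime order of PΩ⁺_n(q), q odd, with no fixed nondegenerate `m`-space of odd dimension. Here `T = PΩ⁺_n(F)`, `n = 2d ≥ 8`, realised through `Ω⁺_n(q)`, the commutator subgroup of the isometry group of `Q = Σ xᵢyᵢ` over the field `F` with `q` elements; an element of `T` of prime order `r` is an element `x` of `Ω⁺_n(q)` with `x^r` scalar and `x` not scalar; `q` and `m` are odd, `1 ≤ m < n/2`. The nondegenerate `m`-spaces (subspaces on which the polar form is nondegenerate) fall into two isometry classes, each an orbit of `T`,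 and the two actions are equivalent; fix one such space `W₀` and let Ω be the set of nondegenerate `m`-spaces isometric to `W₀` (some linear isomorphism preserves `Q`). Let `r` be a prime dividing the size of Ω; for `r ≠ p` let `i` be the multiplicative order of `q` modulo `r`, `c = i` for `i` even and `c = 2i` for `i` odd, and write `k = n mod c`, `ℓ = m mod i`, `ℓ' = m mod c`, `n' = ⌊n/i⌋`, `m' = ⌊m/i⌋`, `t = (r−1)/i`. Then every element of `T` of order `r` fixes a member of Ω if and only if one of: (i) `r = 2`, `n ≡ 2 (mod 4)` and `q ≢ 1 (mod 8)`; (ii) `r ≠ p` odd, `i` odd, `c ≤ m` and `k > ℓ' > 0`; (iii) `r ≠ p` odd, `i` even, and either `k = 0` and `n/i` odd, or `i ≤ m` and `k > ℓ' > 0`. (For `r = p` there is always an element of order `p` fixing no member of Ω.) -/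
theorem result {F : Type*} [Field F] [Fintype F] {p : ℕ} [Fact p.Prime] [CharP F p] {q : ℕ} (hq : Fintype.card F = q)
    (hodd : Odd q) (d m : ℕ) (hd : 4 ≤ d) (hm : Odd m) (hmd : m < d)
    (W₀ : Submodule F (Fin d ⊕ Fin d → F)) (hW₀ : Module.finrank F ↥W₀ = m ∧ Cfsg.Geo.IsNondegenerateOn (QuadraticMap.polar (Cfsg.quadFormPlus d F)) W₀)
    (r : ℕ) [Fact r.Prime]
    (hrΩ : r ∣ Nat.card {W : Submodule F (Fin d ⊕ Fin d → F) // Module.finrank F ↥W = m ∧ Cfsg.Geo.IsNondegenerateOn (QuadraticMap.polar (Cfsg.quadFormPlus d F)) W ∧ Cfsg.Geo.AreIsometricFor (Cfsg.quadFormPlus d F) W W₀})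
    (i c : ℕ) (hi : i = orderOf (q : ZMod r)) (hc : c = if Even i then i else 2 * i) :
    (∀ x : GL (Fin d ⊕ Fin d) F, x ∈ Cfsg.Geo.omegaGL (Cfsg.quadFormPlus d F) →
      (∃ z : F, ((x ^ r : GL (Fin d ⊕ Fin d) F) : Matrix (Fin d ⊕ Fin d) (Fin d ⊕ Fin d) F) = z • (1 : Matrix (Fin d ⊕ Fin d) (Fin d ⊕ Fin d) F)) →
      (∀ z : F, (x : Matrix (Fin d ⊕ Fin d) (Fin d ⊕ Fin d) F) ≠ z • (1 : Matrix (Fin d ⊕ Fin d) (Fin d ⊕ Fin d) F)) →
      ∃ W : Submodule F (Fin d ⊕ Fin d → F), (Module.finrank F ↥W = m ∧ Cfsg.Geo.IsNondegenerateOn (QuadraticMap.polar (Cfsg.quadFormPlus d F)) W ∧ Cfsg.Geo.AreIsometricFor (Cfsg.quadFormPlus d F) W W₀) ∧ W.map (Matrix.toLin' (x : Matrix (Fin d ⊕ Fin d) (Fin d ⊕ Fin d) F)) ≤ W) ↔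
    ((r = 2 ∧ Odd d ∧ q % 8 ≠ 1) ∨
     (r ≠ p ∧ 2 < r ∧ Odd i ∧ c ≤ m ∧ 0 < m % c ∧ m % c < (2 * d) % c) ∨
     (r ≠ p ∧ 2 < r ∧ Even i ∧ (((2 * d) % c = 0 ∧ Odd ((2 * d) / i)) ∨ (i ≤ m ∧ 0 < m % c ∧ m % c < (2 * d) % c)))) := by
  classical
  subst hq
  have hr : r.Prime := Fact.out
  have h2 : (2 : F) ≠ 0 := two_ne_zero_of_odd_card hodd
  obtain ⟨B, C⟩ := exists_space_plus (F := F) d
  have hcard : Fintype.card (Fin d ⊕ Fin d) = 2 * d := by simp; omega
  by_cases hr2 : r = 2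
  · subst hr2
    rw [parabolic_two C h2 (by omega) hm (by omega) hW₀, exists_sq_neg_plus h2 (by omega)]
    constructor
    · intro h
      rw [not_or] at h
      exact Or.inl ⟨rfl, Nat.not_even_iff_odd.1 h.1, h.2⟩
    · rintro (⟨-, hdo, h8⟩ | ⟨-, h, -⟩ | ⟨-, h, -⟩)
      · exact not_or.2 ⟨Nat.not_even_iff_odd.2 hdo, h8⟩
      · exact absurd h (lt_irrefl 2)
      · exact absurd h (lt_irrefl 2)
  by_cases hrp : r = p
  · subst hrp
    refine iff_of_false (fun hall => ?_) ?_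
    · obtain ⟨x, hx, hxr, hns, hno⟩ := exists_unipotent_parabolic r C h2 hcard hd hm (embeds_plus_plus (by omega)) hW₀
      obtain ⟨W, hW, hinv⟩ := hall x hx hxr hns
      exact hno W hW hinv
    · rintro (⟨h, -⟩ | ⟨h, -⟩ | ⟨h, -⟩)
      · exact hr2 h
      · exact h rfl
      · exact h rfl
  obtain ⟨hiff, hl0, hcle⟩ := parabolic_main p C h2 hcard (by omega) hm (by omega) hW₀
    (A := Fintype.card F ^ d - 1) (by
      obtain ⟨e, rfl⟩ : ∃ e, d = e + 1 := ⟨d - 1, by omega⟩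
      rw [card_iso_plus, Nat.add_sub_cancel])
    (Or.inl rfl) hr2 hrp hi hc (realSpec_plus hr2 hc d) hrΩ
  refine hiff.trans ?_
  have h2r : 2 < r := lt_of_le_of_ne hr.two_le (Ne.symm hr2)
  rcases Nat.even_or_odd i with he | ho
  · have hci : c = i := by rw [hc, if_pos he]
    constructor
    · rintro (⟨hk, hl⟩ | ⟨hk, hP⟩)
      · exact Or.inr (Or.inr ⟨hrp, h2r, he, Or.inr ⟨by have := hcle hk hl; omega, hl0, hl⟩⟩)
      · refine Or.inr (Or.inr ⟨hrp, h2r, he, Or.inl ⟨hk, ?_⟩⟩)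
        rw [← hci]
        exact Nat.not_even_iff_odd.1 fun h => hP (Or.inr h)
    · rintro (⟨h, -⟩ | ⟨-, -, ho, -⟩ | ⟨-, -, -, ⟨hk, hN⟩ | ⟨-, -, hl⟩⟩)
      · exact absurd h hr2
      · exact absurd ho (Nat.not_odd_iff_even.2 he)
      · rw [← hci] at hN
        exact Or.inr ⟨hk, fun h => h.elim (Nat.not_odd_iff_even.2 he) (Nat.not_even_iff_odd.2 hN)⟩
      · exact Or.inl ⟨by omega, hl⟩
  · constructor
    · rintro (⟨hk, hl⟩ | ⟨hk, hP⟩)
      · exact Or.inr (Or.inl ⟨hrp, h2r, ho, hcle hk hl, hl0, hl⟩)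
      · exact absurd (Or.inl ho) hP
    · rintro (⟨h, -⟩ | ⟨-, -, -, -, -, hl⟩ | ⟨-, -, he, -⟩)
      · exact absurd h hr2
      · exact Or.inl ⟨by omega, hl⟩
      · exact absurd he (Nat.not_even_iff_odd.2 ho)

end Cfsg.Agent.S5989
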