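import Cfsg.Statements.S5990
import Cfsg.Agent.Lib.Linear.NondegFix.InvolEven
import Cfsg.Agent.Lib.Linear.NondegFix.InvolTwo
import Cfsg.Agent.Lib.Linear.NondegFix.EvenArith
-- import your own Cfsg.Agent.* helpers here

set_option autoImplicit false
open scoped MatrixGroups Matrix
open Cfsg

namespace Cfsg.Agent.S5990

open Module Cfsg.Lib.Linear.Orth Cfsg.Lib.Linear.IsoFix Cfsg.Lib.Linear.NondegFix Cfsg.Agent.Lib.Linear.PrimeClasses

/-- `x_i ↦ y_(σ i)` on the hyperbolic part. -/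
def nilpM (F : Type*) [Field F] (D : ℕ) :
    ((Fin D ⊕ Fin D) ⊕ Fin 2 → F) →ₗ[F] ((Fin D ⊕ Fin D) ⊕ Fin 2 → F) where
  toFun v := Sum.elim (nilpP F D (v ∘ Sum.inl)) 0
  map_add' u v := by
    funext t; rcases t with t | t
    · exact congrFun (map_add (nilpP F D) (u ∘ Sum.inl) (v ∘ Sum.inl)) t
    · simp
  map_smul' c v := by
    funext t; rcases t with t | t
    · exact congrFun (map_smul (nilpP F D) c (v ∘ Sum.inl)) t
    · simp

theorem minus_split {F : Type*} [Field F] (D : ℕ) (a b : F) (v : (Fin D ⊕ Fin D) ⊕ Fin 2 → F) :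
    Cfsg.quadFormMinus D F a b v = Cfsg.quadFormPlus D F (v ∘ Sum.inl) +
      (v (.inr 0) ^ 2 + a * v (.inr 0) * v (.inr 1) + b * v (.inr 1) ^ 2) := rfl

/-- Characteristic two. -/
theorem two_case {F : Type*} [Field F] [Fintype F] [CharP F 2] {D k : ℕ} (hD : 3 ≤ D) (hk : 1 ≤ k) (hkd : k ≤ D)
    {a b : F} (hab : ∀ x y : F, x ^ 2 + a * x * y + b * y ^ 2 = 0 → x = 0 ∧ y = 0) :
    (∀ x : GL ((Fin D ⊕ Fin D) ⊕ Fin 2) F, x ∈ Cfsg.Geo.omegaGL (Cfsg.quadFormMinus D F a b) →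
      (∃ z : F, ((x ^ 2 : GL ((Fin D ⊕ Fin D) ⊕ Fin 2) F) : Matrix ((Fin D ⊕ Fin D) ⊕ Fin 2) ((Fin D ⊕ Fin D) ⊕ Fin 2) F) = z • (1 : Matrix _ _ F)) →
      (∀ z : F, (x : Matrix ((Fin D ⊕ Fin D) ⊕ Fin 2) ((Fin D ⊕ Fin D) ⊕ Fin 2) F) ≠ z • (1 : Matrix _ _ F)) →
      ∃ W : Submodule F ((Fin D ⊕ Fin D) ⊕ Fin 2 → F), (finrank F W = 2 * k ∧
        Cfsg.Geo.IsNondegenerateOn (QuadraticMap.polar (Cfsg.quadFormMinus D F a b)) W ∧
        ¬ Cfsg.Geo.IsPlusTypeOn (Cfsg.quadFormMinus D F a b) W) ∧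
        W.map (Matrix.toLin' (x : Matrix ((Fin D ⊕ Fin D) ⊕ Fin 2) ((Fin D ⊕ Fin D) ⊕ Fin 2) F)) ≤ W) ↔
      (Even (D + 1) ∨ Odd k) := by
  classical
  obtain ⟨B, C⟩ := exists_space_minus (F := F) D a b hab
  have hcard : Fintype.card ((Fin D ⊕ Fin D) ⊕ Fin 2) = 2 * (D + 1) := by simp; omega
  have h2 : (2 : F) = 0 := CharTwo.two_eq_zero
  constructor
  · intro hall
    by_contra hcon
    rw [not_or, Nat.not_odd_iff_even, Nat.not_even_iff_odd] at hcon
    obtain ⟨hdo, hke⟩ := hcon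
    rw [Nat.odd_iff] at hdo
    have hN2 : ∀ u, nilpM F D (nilpM F D u) = 0 := fun u => funext fun t => by
      rcases t with t | t
      · exact congrFun (nilpP_sq (u ∘ Sum.inl)) t
      · rfl
    have hQ : ∀ u, Cfsg.quadFormMinus D F a b (u + nilpM F D u) = Cfsg.quadFormMinus D F a b u := fun u => by
      rw [minus_split, minus_split, show (u + nilpM F D u) ∘ Sum.inl = u ∘ Sum.inl + nilpP F D (u ∘ Sum.inl) from rfl,
        nilpP_iso]
      simp [nilpM]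
    have hTS : ∀ u, Cfsg.quadFormMinus D F a b (nilpM F D u) = 0 := fun u => by
      rw [minus_split, show nilpM F D u ∘ Sum.inl = nilpP F D (u ∘ Sum.inl) from rfl, nilpP_ts]
      simp [nilpM]
    have hrk : D ≤ finrank F (LinearMap.range (nilpM F D)) := by
      have h1 := Submodule.finrank_map_le (LinearMap.funLeft F F (Sum.inl : Fin D ⊕ Fin D → (Fin D ⊕ Fin D) ⊕ Fin 2))
        (LinearMap.range (nilpM F D))
      have h3 : LinearMap.range (nilpP F D) ≤ (LinearMap.range (nilpM F D)).map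
          (LinearMap.funLeft F F (Sum.inl : Fin D ⊕ Fin D → (Fin D ⊕ Fin D) ⊕ Fin 2)) := by
        rintro _ ⟨v, rfl⟩
        exact ⟨_, ⟨Sum.elim v 0, rfl⟩, rfl⟩
      have h4 := nilpP_rank (F := F) (d := D)
      have h5 := Submodule.finrank_mono h3
      omega
    obtain ⟨x, hx, hxp, hxv, hns⟩ := exists_one_add 2 C hcard (by omega) (nilpM F D) hN2 hQ hTS
      (fun h => by rw [h, LinearMap.range_zero, finrank_bot] at hrk; omega)
    obtain ⟨W, ⟨hWd, hWn, hWt⟩, hinv⟩ := hall x hx ⟨1, by rw [hxp, Units.val_one, one_smul]⟩ hns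
    have hinv' : ∀ u ∈ W, nilpM F D u ∈ W := fun u hu => by
      have h3 := hinv ⟨u, hu, Matrix.toLin'_apply _ _⟩
      rw [hxv u] at h3
      simpa using W.sub_mem h3 hu
    rcases sq_zero_core C (nilpM F D) hN2 hQ hTS (s := 2) (by omega) le_rfl hWd (ndeg_of_geo C hWn)
      hinv' with ⟨-, h⟩ | ⟨h, -, -⟩
    · exact hWt h
    · exact Nat.not_even_iff_odd.2 h hke
  · intro hcond x hx ⟨z, hz⟩ _
    obtain ⟨g, hg, rfl⟩ := hx
    have hgg : ∀ v, (g : GL ((Fin D ⊕ Fin D) ⊕ Fin 2) F).val *ᵥ ((g : GL ((Fin D ⊕ Fin D) ⊕ Fin 2) F).val *ᵥ v) = v := fun v => by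
      rcases sq_scalar C (by omega) g.2 hz with h1 | hsq
      · rw [← mul_act, ← pow_two]
        exact (congrArg (fun y : GL ((Fin D ⊕ Fin D) ⊕ Fin 2) F => y.val *ᵥ v) h1).trans (Matrix.one_mulVec v)
      · exact (hsq v).trans (funext fun i => CharTwo.neg_eq _)
    let N : ((Fin D ⊕ Fin D) ⊕ Fin 2 → F) →ₗ[F] ((Fin D ⊕ Fin D) ⊕ Fin 2 → F) :=
      Matrix.mulVecLin (g : GL ((Fin D ⊕ Fin D) ⊕ Fin 2) F).val - LinearMap.id
    have hgv : ∀ v, (g : GL ((Fin D ⊕ Fin D) ⊕ Fin 2) F).val *ᵥ v = v + N v := fun v => by simp [N]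
    have T := twoInv_mk C (N := N) h2 (fun u => by
      have h := hgg u
      rw [hgv, hgv, map_add] at h
      have h' : N (N u) + (2 : F) • N u = 0 := by rw [two_smul]; linear_combination (norm := abel) h
      rwa [h2, zero_smul, add_zero] at h') (fun u => by rw [← hgv]; exact mem_iso.1 g.2 u)
    obtain ⟨W, h1, h3, h4, h5⟩ := two_fixes C T hcard hk (by omega) False (iff_false_intro fun ⟨A, _, hA, hAd⟩ => by
        rw [finrank_top, finrank_fintype_fun_eq_card, hcard] at hAd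
        have := Cfsg.Lib.Linear.AutPO.minus_ts_bound hab C hA
        omega)
      ⟨False.elim, fun _ => hcond⟩
    refine ⟨W, ⟨h1, geo_of_ndeg C h3, fun h => h4.1 h⟩, ?_⟩
    rintro _ ⟨v, hv, rfl⟩
    show (g : GL ((Fin D ⊕ Fin D) ⊕ Fin 2) F).val *ᵥ v ∈ W
    rw [hgv]
    exact W.add_mem hv (h5 v hv)

/-- Elements of prime order of PΩ⁻_n(q) with no fixed elliptic `m`-space. Here `T = PΩ⁻_n(F)`, `n = 2d ≥ 8`, realised through `Ω⁻_n(q)`, the commutator subgroup of the isometry group of `Q = Σ_{i<d−1} xᵢyᵢ + z₁² + a z₁z₂ + b z₂²` with `z₁² + a z₁z₂ + b z₂²` anisotropic, over the field `F` with `q` elements; an element of `T` of prime order `r` is an element `x` of `Ω⁻_n(q)` with `x^r` scalar and `x` not scalar; a nondegenerate `m`-space (even `m`) is a subspace on which the polar form of `Q` is nondegenerate; it is hyperbolic if it contains an `m/2`-dimensional subspace on which `Q` vanishes, elliptic otherwise.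 Let `m` be even with `2 ≤ m ≤ n − 2` (no restriction `m < n/2`: fixing an elliptic `m`-space is the same as fixing its hyperbolic orthogonal complement) and let `r` be a prime dividing the number of elliptic `m`-spaces, with `r = 2` or `r ≠ p`; for `r ≠ p` let `i` be the multiplicative order of `q` modulo `r`, `c = i` for `i` even and `c = 2i` for `i` odd, and write `k = n mod c`, `ℓ = m mod i`, `ℓ' = m mod c`, `n' = ⌊n/i⌋`, `m' = ⌊m/i⌋`, `t = (r−1)/i`. Then every element of `T` of order `r` fixes some elliptic `m`-space if and only if one of: (i) `r = p = 2` and (`n ≡ 0 (mod 4)` or `m ≡ 2 (mod 4)`); (ii) `r = 2 ≠ p` and (`n ≡ 0 (mod 4)`, or `q ≢ 7 (mod 8)`, or `m ≡ 2 (mod 4)`); (iii) `r ≠ p` odd, `i` odd, and `k = 0` or (`c ≤ m` and `k ≥ ℓ' > 0`); (iv) `r ≠ p` odd, `i` even, and either `k = 0` and (`n/i` even, or `ℓ' = 0` and `m/i` odd), or `k > 0`, `i ≤ m` and (`k > ℓ' > 0`, or `ℓ' = 0` and `m/i` odd, or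 `k = ℓ'` and `(n + m − 2k)/i` even). (Odd `r = p` is not covered by this statement.) -/
theorem result {F : Type*} [Field F] [Fintype F] {p : ℕ} [Fact p.Prime] [CharP F p] {q : ℕ} (hq : Fintype.card F = q)
    (d m : ℕ) (hd : 4 ≤ d) (hm : 2 ≤ m) (hme : Even m) (hmn : m + 2 ≤ 2 * d) (a b : F) (hab : ∀ x y : F, x ^ 2 + a * x * y + b * y ^ 2 = 0 → x = 0 ∧ y = 0)
    (r : ℕ) [Fact r.Prime] (hr : r = 2 ∨ r ≠ p)
    (hrΩ : r ∣ Nat.card {W : Submodule F ((Fin (d - 1) ⊕ Fin (d - 1)) ⊕ Fin 2 → F) // Module.finrank F ↥W = m ∧ Cfsg.Geo.IsNondegenerateOn (QuadraticMap.polar (Cfsg.quadFormMinus (d - 1) F a b)) W ∧ ¬ Cfsg.Geo.IsPlusTypeOn (Cfsg.quadFormMinus (d - 1) F a b) W})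
    (i c : ℕ) (hi : i = orderOf (q : ZMod r)) (hc : c = if Even i then i else 2 * i) :
    (∀ x : GL ((Fin (d - 1) ⊕ Fin (d - 1)) ⊕ Fin 2) F, x ∈ Cfsg.Geo.omegaGL (Cfsg.quadFormMinus (d - 1) F a b) →
      (∃ z : F, ((x ^ r : GL ((Fin (d - 1) ⊕ Fin (d - 1)) ⊕ Fin 2) F) : Matrix ((Fin (d - 1) ⊕ Fin (d - 1)) ⊕ Fin 2) ((Fin (d - 1) ⊕ Fin (d - 1)) ⊕ Fin 2) F) = z • (1 : Matrix ((Fin (d - 1) ⊕ Fin (d - 1)) ⊕ Fin 2) ((Fin (d - 1) ⊕ Fin (d - 1)) ⊕ Fin 2) F)) →
      (∀ z : F, (x : Matrix ((Fin (d - 1) ⊕ Fin (d - 1)) ⊕ Fin 2) ((Fin (d - 1) ⊕ Fin (d - 1)) ⊕ Fin 2) F) ≠ z • (1 : Matrix ((Fin (d - 1) ⊕ Fin (d - 1)) ⊕ Fin 2) ((Fin (d - 1) ⊕ Fin (d - 1)) ⊕ Fin 2) F)) →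
      ∃ W : Submodule F ((Fin (d - 1) ⊕ Fin (d - 1)) ⊕ Fin 2 → F), (Module.finrank F ↥W = m ∧ Cfsg.Geo.IsNondegenerateOn (QuadraticMap.polar (Cfsg.quadFormMinus (d - 1) F a b)) W ∧ ¬ Cfsg.Geo.IsPlusTypeOn (Cfsg.quadFormMinus (d - 1) F a b) W) ∧ W.map (Matrix.toLin' (x : Matrix ((Fin (d - 1) ⊕ Fin (d - 1)) ⊕ Fin 2) ((Fin (d - 1) ⊕ Fin (d - 1)) ⊕ Fin 2) F)) ≤ W) ↔
    ((r = 2 ∧ p = 2 ∧ (Even d ∨ m % 4 = 2)) ∨
     (r = 2 ∧ p ≠ 2 ∧ (Even d ∨ q % 8 ≠ 7 ∨ m % 4 = 2)) ∨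
     (r ≠ p ∧ 2 < r ∧ Odd i ∧ ((2 * d) % c = 0 ∨ (c ≤ m ∧ 0 < m % c ∧ m % c ≤ (2 * d) % c))) ∨
     (r ≠ p ∧ 2 < r ∧ Even i ∧
       (((2 * d) % c = 0 ∧ (Even ((2 * d) / i) ∨ (m % c = 0 ∧ Odd (m / i)))) ∨
        (0 < (2 * d) % c ∧ i ≤ m ∧ ((0 < m % c ∧ m % c < (2 * d) % c) ∨ (m % c = 0 ∧ Odd (m / i)) ∨
                                    (m % c = (2 * d) % c ∧ Even ((2 * d + m - 2 * ((2 * d) % c)) / i))))))) := by
  classical
  subst hq
  have hrP : r.Prime := Fact.out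
  obtain ⟨D, rfl⟩ : ∃ D, d = D + 1 := ⟨d - 1, by omega⟩
  obtain ⟨B, C⟩ := exists_space_minus (F := F) (D + 1 - 1) a b hab
  have hcard : Fintype.card ((Fin (D + 1 - 1) ⊕ Fin (D + 1 - 1)) ⊕ Fin 2) = 2 * (D + 1) := by simp; omega
  obtain ⟨k, hk⟩ := hme
  obtain ⟨j, rfl⟩ : ∃ j, k = j + 1 := ⟨k - 1, by omega⟩
  obtain rfl : m = 2 * (j + 1) := by omega
  by_cases hr2 : r = 2
  · subst hr2
    by_cases hp2 : p = 2
    · subst hp2
      rw [two_case (D := D + 1 - 1) (by omega) (k := j + 1) (by omega) (by omega) hab,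
        show D + 1 - 1 + 1 = D + 1 by omega]
      constructor
      · intro h
        refine Or.inl ⟨rfl, rfl, h.imp id fun h => ?_⟩
        rw [Nat.odd_iff] at h
        omega
      · rintro (⟨-, -, h⟩ | ⟨-, h, -⟩ | ⟨-, h, -⟩ | ⟨-, h, -⟩)
        · refine h.imp id fun h => ?_
          rw [Nat.odd_iff]
          omega
        · exact absurd rfl h
        · exact absurd h (lt_irrefl 2)
        · exact absurd h (lt_irrefl 2)
    have h2 : (2 : F) ≠ 0 := fun h => hp2 (by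
      have := (CharP.cast_eq_zero_iff F p 2).1 (by exact_mod_cast h)
      exact (Nat.prime_dvd_prime_iff_eq Fact.out Nat.prime_two).1 this)
    have h := even_two C h2 (k := j + 1) (by omega) (by rw [hcard]; omega) False
    simp only [iff_false] at h
    rw [h, exists_sq_neg_minus h2 _ hab, neg_one_pow_sq h2, show D + 1 - 1 + 1 = D + 1 by omega]
    constructor
    · intro h
      refine Or.inr (Or.inl ⟨rfl, hp2, or_iff_not_imp_left.2 fun hde => or_iff_not_imp_left.2 fun h7 => ?_⟩)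
      have h' := h ⟨Nat.not_even_iff_odd.1 hde, not_not.1 h7⟩
      rw [not_or, Nat.not_even_iff_odd, Nat.odd_iff] at h'
      omega
    · rintro (⟨-, h, -⟩ | ⟨-, -, h⟩ | ⟨-, h, -⟩ | ⟨-, h, -⟩)
      · exact absurd h hp2
      · rintro ⟨hdo, h7⟩
        rw [not_or, Nat.not_even_iff_odd, Nat.odd_iff]
        rcases h with h | h | h
        · exact absurd h (Nat.not_even_iff_odd.2 hdo)
        · exact absurd h7 h
        · omega
      · exact absurd h (lt_irrefl 2)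
      · exact absurd h (lt_irrefl 2)
  have hrp : r ≠ p := hr.resolve_left hr2
  obtain ⟨e, rfl⟩ : ∃ e, D = j + 1 + e := ⟨D - (j + 1), by omega⟩
  obtain ⟨ζ, hζ⟩ := exists_zeta' F
  obtain ⟨ψ, S⟩ := minusSum_minus (F := F) (j := j) (e := e) (D₀ := j + 1 + e + 1 - 1) (by omega) hab hζ
  obtain ⟨BM, CM⟩ := exists_space_minus j 1 ζ hζ
  obtain ⟨B', C'⟩ := exists_space_plus (F := F) (e + 1)
  have hW := minus_pred_iff C (j := j) hζ
  rw [Nat.card_congr (Equiv.subtypeEquivRight hW)] at hrΩ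
  have hi0 : 0 < i := by
    rw [hi]
    have hne : (Fintype.card F : ZMod r) ≠ 0 := fun h => by
      have := (ZMod.natCast_eq_zero_iff _ _).1 h
      exact not_dvd_qpow p hrp 1 (by rw [pow_one]; exact this)
    rw [show (Fintype.card F : ZMod r) = ((Units.mk0 _ hne : (ZMod r)ˣ) : ZMod r) from rfl, orderOf_units]
    exact orderOf_pos _
  refine Iff.trans (forall_congr' fun x => forall_congr' fun _ => forall_congr' fun _ => forall_congr' fun _ =>
    fixes_pred_iff _ hW _) ?_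
  rw [even_iff p C CM C' S (n := 2 * (j + 1 + e + 1)) (m := 2 * (j + 1)) hcard (by simp; omega) (by omega) (by omega)
    (by omega) hr2 hrp hi hc (TMinus i) (TMinus i) (TPlus i)
    (by
      rw [show 2 * (j + 1 + e + 1) = 2 * (j + 1 + e + 1 - 1) + 2 by omega]
      exact realSpec_minus hr2 hc _ hab)
    (by rw [show 2 * (j + 1) = 2 * j + 2 by ring]; exact realSpec_minus hr2 hc j hζ)
    (by
      rw [show 2 * (j + 1 + e + 1) - 2 * (j + 1) = 2 * (e + 1) by omega]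
      exact realSpec_plus hr2 hc _)
    (fun h => by
      have hle := Nat.div_le_div_right (c := c) (show 2 * (j + 1) ≤ 2 * (j + 1 + e + 1) by omega)
      rcases Nat.even_or_odd i with he | ho
      · simp only [TMinus, TPlus, he, true_and, Nat.not_odd_iff_even.2 he, false_or, Nat.odd_iff, Nat.even_iff] at h ⊢
        omega
      · exact Or.inr (Or.inl ho))
    (fun h h' => by
      obtain ⟨he, ho⟩ := h'
      have hle := Nat.div_le_div_right (c := c) (show 2 * (j + 1) ≤ 2 * (j + 1 + e + 1) by omega)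
      have := h.2
      refine Or.inr ?_
      rw [Nat.odd_iff] at ho this
      rw [Nat.even_iff]
      omega)]
  refine (arith_mm hc hi0 (by omega) (fun hk hl hP => ?_)).trans ?_
  · exact c_le_even p C CM C' S (d := j + 1 + e + 1) (e := e) (j := j) (by omega)
      (A := Fintype.card F ^ (j + 1 + e + 1) + 1)
      (B₁ := Fintype.card F ^ (e + 1) - 1) (B₂ := Fintype.card F ^ (e + 1) + 1)
      (by
        simp only [Nat.add_sub_cancel]
        exact card_iso_minus (j + 1 + e) hab)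
      (Or.inr rfl) (card_iso_plus e)
      (by rw [mul_comm, ← Nat.sq_sub_sq, one_pow, ← pow_mul, mul_comm 2])
      hr2 hrp hi hc (fun h => tplus_factor hr2 hi hc hi0 h) hrΩ hk hl hP
  · have h2r : 2 < r := lt_of_le_of_ne hrP.two_le (Ne.symm hr2)
    simp only [hr2, false_and, false_or, ne_eq, hrp, not_false_eq_true, h2r, true_and]

end Cfsg.Agent.S5990
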