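import Cfsg.Statements.S5993
import Cfsg.Agent.Lib.Linear.NondegFix.Odd
import Cfsg.Agent.Lib.Linear.NondegFix.Invol
import Cfsg.Agent.Lib.Linear.NondegFix.Unipotent
-- import your own Cfsg.Agent.* helpers here

set_option autoImplicit false
open scoped MatrixGroups
open Cfsg

namespace Cfsg.Agent.S5993

open Module Cfsg.Lib.Linear.Orth Cfsg.Lib.Linear.IsoFix Cfsg.Lib.Linear.NondegFix Cfsg.Agent.Lib.Linear.PrimeClasses


/-- Elements of prime order of Ω_n(q), nq odd, with no fixed elliptic `m`-space. Here `T = Ω_n(F)`, `n = 2d+1 ≥ 7`, `q` odd, realised as the commutator subgroup of the isometry group of `Q = x₀² + Σ xᵢyᵢ` over the field `F` with `q` elements (trivial centre, so its elements of prime order `r` are used directly); a nondegenerate `m`-space (even `m`) is a subspace on which the polar form of `Q` is nondegenerate; it is hyperbolic if it contains an `m/2`-dimensional subspace on which `Q` vanishes, elliptic otherwise.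 Let `m` be even with `2 ≤ m ≤ n − 1` (no restriction `m < n/2`) and let `r` be a prime dividing the number of elliptic `m`-spaces; for `r ≠ p` let `i` be the multiplicative order of `q` modulo `r`, `c = i` for `i` even and `c = 2i` for `i` odd, and write `k = n mod c`, `ℓ' = m mod c`. Then every element of `T` of order `r` fixes some elliptic `m`-space if and only if `r = 2`, or `r ≠ p` is odd and one of: (i) `i` odd, `c ≤ m` and `k > ℓ' > 0`; (ii) `i` even, `i ≤ m`, `k > ℓ'`, and `m/i` odd whenever `ℓ' = 0`. (For `r = p` there is always an element of order `p` fixing no elliptic `m`-space.) -/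
theorem result {F : Type*} [Field F] [Fintype F] {p : ℕ} [Fact p.Prime] [CharP F p] {q : ℕ} (hq : Fintype.card F = q) (hqodd : Odd q)
    (d m : ℕ) (hd : 3 ≤ d) (hm : 2 ≤ m) (hme : Even m) (hmn : m ≤ 2 * d)
    (r : ℕ) [Fact r.Prime]
    (hrΩ : r ∣ Nat.card {W : Submodule F (Unit ⊕ (Fin d ⊕ Fin d) → F) // Module.finrank F ↥W = m ∧ Cfsg.Geo.IsNondegenerateOn (QuadraticMap.polar (Cfsg.quadFormOdd d F)) W ∧ ¬ Cfsg.Geo.IsPlusTypeOn (Cfsg.quadFormOdd d F) W})
    (i c : ℕ) (hi : i = orderOf (q : ZMod r)) (hc : c = if Even i then i else 2 * i) :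
    (∀ x : GL (Unit ⊕ (Fin d ⊕ Fin d)) F, x ∈ Cfsg.Geo.omegaGL (Cfsg.quadFormOdd d F) → orderOf x = r →
      ∃ W : Submodule F (Unit ⊕ (Fin d ⊕ Fin d) → F), (Module.finrank F ↥W = m ∧ Cfsg.Geo.IsNondegenerateOn (QuadraticMap.polar (Cfsg.quadFormOdd d F)) W ∧ ¬ Cfsg.Geo.IsPlusTypeOn (Cfsg.quadFormOdd d F) W) ∧ W.map (Matrix.toLin' (x : Matrix (Unit ⊕ (Fin d ⊕ Fin d)) (Unit ⊕ (Fin d ⊕ Fin d)) F)) ≤ W) ↔
    (r = 2 ∨
     (r ≠ p ∧ 2 < r ∧ Odd i ∧ c ≤ m ∧ 0 < m % c ∧ m % c < (2 * d + 1) % c) ∨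
     (r ≠ p ∧ 2 < r ∧ Even i ∧ i ≤ m ∧ m % c < (2 * d + 1) % c ∧ (0 < m % c ∨ Odd (m / i)))) := by
  classical
  subst hq
  have hr : r.Prime := Fact.out
  have h2 : (2 : F) ≠ 0 := two_ne_zero_of_odd_card hqodd
  obtain ⟨k, hk⟩ := hme
  obtain ⟨j, rfl⟩ : ∃ j, k = j + 1 := ⟨k - 1, by omega⟩
  obtain rfl : m = 2 * (j + 1) := by omega
  obtain ⟨e, rfl⟩ := Nat.exists_eq_add_of_le (show j + 1 ≤ d by omega)
  obtain ⟨B, C⟩ := exists_space (Q := Cfsg.quadFormOdd (j + 1 + e) F) (isQuad_odd _ h2)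
  by_cases hr2 : r = 2
  · subst hr2
    refine ⟨fun _ => Or.inl rfl, fun _ x hx hord => ?_⟩
    obtain ⟨g, hg, rfl⟩ := hx
    obtain ⟨W, h1, h3, h4, h5⟩ := invol_fixes C h2 (by rw [card_odd_index]; omega) g hg
      (Subtype.ext (by rw [SubmonoidClass.coe_pow, ← hord]; exact pow_orderOf_eq_one _))
      (fun h => by rw [h, map_one, orderOf_one] at hord; omega)
      (by rw [card_odd_index]; exact ⟨j + 1 + e, rfl⟩) (k := j + 1) (by omega) (by rw [card_odd_index]; omega) false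
    refine ⟨W, ⟨h1, geo_of_ndeg C h3, fun h => Bool.false_ne_true (h4.1 h)⟩, ?_⟩
    rintro _ ⟨v, hv, rfl⟩
    exact h5 v hv
  by_cases hrp : r = p
  · subst hrp
    refine iff_of_false (fun hall => ?_) ?_
    · obtain ⟨x, hx, hord, hplus⟩ := exists_unipotent (F := F) r h2 (d := j + 1 + e) (by omega)
      obtain ⟨W, ⟨hWd, hnd, hnp⟩, hinv⟩ := hall x hx hord
      exact hnp (hplus W (hWd ▸ even_two_mul _) hnd hinv)
    · rintro (h | ⟨h, -⟩ | ⟨h, -⟩)
      · exact hr2 h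
      · exact h rfl
      · exact h rfl
  obtain ⟨ζ, hζ⟩ := exists_zeta (F := F) h2
  obtain ⟨hz, ψ, hS⟩ := oddSum_minus h2 j e hζ
  obtain ⟨BM, CM⟩ := exists_space_minus j 1 ζ hζ
  obtain ⟨B₂, C₂⟩ := exists_space (Q := Cfsg.quadFormOdd e F) (isQuad_odd _ h2)
  have hW := minus_pred_iff C (j := j) hζ
  rw [Nat.card_congr (Equiv.subtypeEquivRight hW)] at hrΩ
  obtain ⟨hiff, hcle⟩ := odd_main p h2 CM (scale_space C₂ hz) (scale_iso hz) hS (by omega)
    (by simp only [Fintype.card_sum, Fintype.card_fin]; omega) hr2 hrp hrΩ hi hc (PMinus i (2 * (j + 1)))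
    (fun ζ' hζ' uq w huq hiu hwq hwn f hf => by
      subst hiu
      refine ⟨real_minus hζ' hr2 huq w hwq hwn j hζ hf, fun ⟨g, hg, hgp⟩ => ?_⟩
      by_cases h0 : f 0 = 0
      · exact Or.inr (pminus_of_fpf hζ' hr2 huq w hwq j hζ hf h0 g hg hgp)
      · exact Or.inl h0)
  refine Iff.trans ?_ (hiff.trans ?_)
  · refine forall_congr' fun x => forall_congr' fun _ => forall_congr' fun _ => ?_
    rw [fixesR_iff_exists]
    constructor
    · rintro ⟨W, hp, hinv⟩
      obtain ⟨E, hE, rfl⟩ := (hW W).1 hp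
      exact ⟨E, hE, hinv⟩
    · rintro ⟨E, hE, hinv⟩
      exact ⟨LinearMap.range E, (hW _).2 ⟨E, hE, rfl⟩, hinv⟩
  have h2r : 2 < r := lt_of_le_of_ne hr.two_le (Ne.symm hr2)
  rcases Nat.even_or_odd i with he | ho
  · have hci : c = i := by rw [hc, if_pos he]
    constructor
    · rintro ⟨hlk, hT⟩
      have := hcle hlk
      exact Or.inr (Or.inr ⟨hrp, h2r, he, by omega, hlk, hT.imp id And.right⟩)
    · rintro (h | ⟨-, -, ho, -⟩ | ⟨-, -, -, -, hlk, hT⟩)
      · exact absurd h hr2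
      · exact absurd ho (Nat.not_odd_iff_even.mpr he)
      · exact ⟨hlk, hT.imp id (And.intro he)⟩
  · constructor
    · rintro ⟨hlk, hT⟩
      exact Or.inr (Or.inl ⟨hrp, h2r, ho, hcle hlk,
        hT.resolve_right fun h => Nat.not_even_iff_odd.mpr ho h.1, hlk⟩)
    · rintro (h | ⟨-, -, -, -, h0, hlk⟩ | ⟨-, -, he, -⟩)
      · exact absurd h hr2
      · exact ⟨hlk, Or.inl h0⟩
      · exact absurd he (Nat.not_even_iff_odd.mpr ho)

end Cfsg.Agent.S5993
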