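import Cfsg.Statements.S5994
import Cfsg.Agent.Lib.Linear.JordanForms.Fix
import Cfsg.Agent.Lib.Linear.OrthForms
import Cfsg.Agent.Lib.Linear.OrthSpinorApp
-- import your own Cfsg.Agent.* helpers here

set_option autoImplicit false
open scoped MatrixGroups
open Cfsg

namespace Cfsg.Agent.S5994

open Cfsg.Lib.Linear.Orth Cfsg.Lib.Linear.JordanForms

/-- A necessary condition for every element of order p of PΩ⁻_n(q), q odd, to fix an elliptic `m`-space. Here `T = PΩ⁻_n(F)`, `n = 2d ≥ 8`, realised through `Ω⁻_n(q)`, the commutator subgroup of the isometry group of `Q = Σ_{i<d−1} xᵢyᵢ + z₁² + a z₁z₂ + b z₂²` with `z₁² + a z₁z₂ + b z₂²` anisotropic, over the field `F` with `q` elements; an element of `T` of prime order `r` is an element `x` of `Ω⁻_n(q)` with `x^r` scalar and `x` not scalar; `q` is odd; a nondegenerate `m`-space (even `m`) is a subspace on which the polar form of `Q` is nondegenerate; it is hyperbolic if it contains an `m/2`-dimensional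 subspace on which `Q` vanishes, elliptic otherwise. Let `m` be even with `2 ≤ m ≤ n − 2` and suppose `p` divides the number of elliptic `m`-spaces. If every element of `T` of order `p` fixes some elliptic `m`-space, then `n ≡ m (mod 4)` and every partition of `n` into parts of size at most `p` in which every even part has even multiplicity contains (as a sub-multiset) a partition of `m` in which every even part has even multiplicity. -/
theorem result {F : Type*} [Field F] [Fintype F] {p : ℕ} [Fact p.Prime] [CharP F p] {q : ℕ} (hq : Fintype.card F = q) (hqodd : Odd q)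
    (d m : ℕ) (hd : 4 ≤ d) (hm : 2 ≤ m) (hme : Even m) (hmn : m + 2 ≤ 2 * d) (a b : F) (hab : ∀ x y : F, x ^ 2 + a * x * y + b * y ^ 2 = 0 → x = 0 ∧ y = 0)
    (hpΩ : p ∣ Nat.card {W : Submodule F ((Fin (d - 1) ⊕ Fin (d - 1)) ⊕ Fin 2 → F) // Module.finrank F ↥W = m ∧ Cfsg.Geo.IsNondegenerateOn (QuadraticMap.polar (Cfsg.quadFormMinus (d - 1) F a b)) W ∧ ¬ Cfsg.Geo.IsPlusTypeOn (Cfsg.quadFormMinus (d - 1) F a b) W}) :
    (∀ x : GL ((Fin (d - 1) ⊕ Fin (d - 1)) ⊕ Fin 2) F, x ∈ Cfsg.Geo.omegaGL (Cfsg.quadFormMinus (d - 1) F a b) →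
      (∃ z : F, ((x ^ p : GL ((Fin (d - 1) ⊕ Fin (d - 1)) ⊕ Fin 2) F) : Matrix ((Fin (d - 1) ⊕ Fin (d - 1)) ⊕ Fin 2) ((Fin (d - 1) ⊕ Fin (d - 1)) ⊕ Fin 2) F) = z • (1 : Matrix ((Fin (d - 1) ⊕ Fin (d - 1)) ⊕ Fin 2) ((Fin (d - 1) ⊕ Fin (d - 1)) ⊕ Fin 2) F)) →
      (∀ z : F, (x : Matrix ((Fin (d - 1) ⊕ Fin (d - 1)) ⊕ Fin 2) ((Fin (d - 1) ⊕ Fin (d - 1)) ⊕ Fin 2) F) ≠ z • (1 : Matrix ((Fin (d - 1) ⊕ Fin (d - 1)) ⊕ Fin 2) ((Fin (d - 1) ⊕ Fin (d - 1)) ⊕ Fin 2) F)) →
      ∃ W : Submodule F ((Fin (d - 1) ⊕ Fin (d - 1)) ⊕ Fin 2 → F), (Module.finrank F ↥W = m ∧ Cfsg.Geo.IsNondegenerateOn (QuadraticMap.polar (Cfsg.quadFormMinus (d - 1) F a b)) W ∧ ¬ Cfsg.Geo.IsPlusTypeOn (Cfsg.quadFormMinus (d - 1) F a b) W) ∧ W.map (Matrix.toLin' (x : Matrix ((Fin (d - 1) ⊕ Fin (d - 1)) ⊕ Fin 2) ((Fin (d - 1) ⊕ Fin (d - 1)) ⊕ Fin 2) F)) ≤ W) →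
    ((2 * d) % 4 = m % 4 ∧ (∀ μ : Multiset ℕ, (∀ e ∈ μ, 0 < e ∧ e ≤ p) → (∀ e : ℕ, Even e → Even (μ.count e)) → μ.sum = 2 * d →
        ∃ ν : Multiset ℕ, ν ≤ μ ∧ ν.sum = m ∧ ∀ e : ℕ, Even e → Even (ν.count e))) := by
  classical
  intro hall
  have h2 : (2 : F) ≠ 0 := two_ne_of_odd (hq.symm ▸ hqodd)
  have hp : Odd p := (Fact.out : p.Prime).odd_of_ne_two fun h => h2 (by subst h; exact CharTwo.two_eq_zero)
  have hp2 := (Fact.out : p.Prime).two_le
  obtain ⟨B, C⟩ := exists_space_minus (d - 1) a b hab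
  have key : ∀ μ : Multiset ℕ, (∀ e ∈ μ, 0 < e ∧ e ≤ p) → (∀ e : ℕ, Even e → Even (μ.count e)) → μ.sum = 2 * d →
      ∃ ν : Multiset ℕ, ν ≤ μ ∧ ν.sum = m ∧ ∀ e : ℕ, Even e → Even (ν.count e) := by
    refine all_partitions hp hme (by omega) fun μ hpos hev hsum hodd hbig => ?_
    obtain ⟨x, hx, -, hz, hns, hfix⟩ := exists_elt C p h2 (by simp <;> omega) hpos hev (by simp [hsum] <;> omega) hodd hbig
    obtain ⟨W, ⟨hWm, hW, -⟩, hinv⟩ := hall x hx hz hns
    obtain ⟨ν, h1, h3, h4, -⟩ := hfix W hW hinv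
    exact ⟨ν, h1, h3.trans hWm, h4⟩
  refine ⟨?_, key⟩
  obtain ⟨a', ha⟩ : ∃ a', d = 2 * a' ∨ d = 2 * a' + 1 := ⟨d / 2, by omega⟩
  rw [Nat.even_iff] at hme
  rcases ha with ha | ha
  · -- blocks of size 2
    obtain ⟨ν, hle, hs, hev⟩ := key (Multiset.replicate d 2) (fun e he => by
        rw [Multiset.eq_of_mem_replicate he]; omega)
      (fun e _ => by
        rw [Multiset.count_replicate]
        split_ifs
        · exact ha ▸ even_two_mul a'
        · exact Even.zero)
      (by simp [mul_comm])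
    have h1 : ∀ e ∈ ν, e = 2 := fun e he => Multiset.eq_of_mem_replicate (Multiset.mem_of_le hle he)
    rw [Multiset.eq_replicate_card.2 h1, Multiset.sum_replicate, smul_eq_mul] at hs
    have h3 := hev 2 even_two
    rw [Multiset.count_eq_card.2 (fun e he => (h1 e he).symm), Nat.even_iff] at h3
    omega
  · -- blocks of size 2 and two blocks of size 1
    set μ : Multiset ℕ := Multiset.replicate (2 * a') 2 + Multiset.replicate 2 1 with hμ
    obtain ⟨x, hx, -, hz, hns, hfix⟩ := exists_elt C p h2 (μ := μ) (by simp <;> omega)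
      (fun e he => by
        rcases Multiset.mem_add.1 he with h | h <;> rw [Multiset.eq_of_mem_replicate h] <;> omega)
      (fun e he => by
        rw [hμ, Multiset.count_add, Multiset.count_replicate, Multiset.count_replicate, if_neg (c := 1 = e)
          (by rintro rfl; simp at he), add_zero]
        split_ifs
        · exact even_two_mul a'
        · exact Even.zero)
      (by simp [hμ] <;> omega) ⟨1, by simp [hμ], odd_one⟩ ⟨2, Multiset.mem_add.2 (Or.inl (Multiset.mem_replicate.2 ⟨by omega, rfl⟩)), le_rfl⟩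
    obtain ⟨W, ⟨hWm, hW, hnp⟩, hinv⟩ := hall x hx hz hns
    obtain ⟨ν, hle, hs, hev, hplus⟩ := hfix W hW hinv
    have hsub : ν.toFinset ⊆ {1, 2} := fun e he => by
      have := Multiset.mem_of_le hle (Multiset.mem_toFinset.1 he)
      simp only [hμ, Multiset.mem_add, Multiset.mem_replicate, Finset.mem_insert, Finset.mem_singleton] at this ⊢
      tauto
    have hsum := Finset.sum_multiset_count_of_subset ν _ hsub
    rw [Finset.sum_pair (by omega), smul_eq_mul, smul_eq_mul, hs, hWm] at hsum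
    have h1 := Multiset.le_iff_count.1 hle 1
    rw [hμ, Multiset.count_add, Multiset.count_replicate, Multiset.count_replicate_self, if_neg (by omega)] at h1
    obtain ⟨k, hk⟩ := hev 2 even_two
    have h3 : ν.count 1 ≠ 0 := fun h0 => hnp (hplus fun e he => by
      have h4 : e ∈ ({1, 2} : Finset ℕ) := hsub (Multiset.mem_toFinset.2 he)
      simp only [Finset.mem_insert, Finset.mem_singleton] at h4
      exact h4.resolve_left fun h5 => Multiset.count_eq_zero.1 h0 (h5 ▸ he))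
    omega

end Cfsg.Agent.S5994
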