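import Cfsg.Statements.S5995
import Cfsg.Agent.Lib.Linear.JordanForms.Fix
import Cfsg.Agent.Lib.Linear.NondegFix.Types
import Cfsg.Agent.Lib.Linear.OrthForms
import Cfsg.Agent.Lib.Linear.OrthSpinorApp
-- import your own Cfsg.Agent.* helpers here

set_option autoImplicit false
open scoped MatrixGroups
open Cfsg

namespace Cfsg.Agent.S5995

open Cfsg.Lib.Linear.Orth Cfsg.Lib.Linear.JordanForms Cfsg.Lib.Linear.IsoFix

/-- A necessary condition for every element of order p of Ω_n(q), nq odd, to fix a hyperbolic `m`-space. Here `T = Ω_n(F)`, `n = 2d+1 ≥ 7`, `q` odd, realised as the commutator subgroup of the isometry group of `Q = x₀² + Σ xᵢyᵢ` over the field `F` with `q` elements (trivial centre, so its elements of prime order `r` are used directly); a nondegenerate `m`-space (even `m`) is a subspace on which the polar form of `Q` is nondegenerate; it is hyperbolic if it contains an `m/2`-dimensional subspace on which `Q` vanishes, elliptic otherwise. Let `m` be even with `2 ≤ m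 ≤ n − 1` and suppose `p` divides the number of hyperbolic `m`-spaces. If every element of `T` of order `p` fixes some hyperbolic `m`-space, then `m ≡ 0 (mod 4)` and every partition of `n` into parts of size at most `p` in which every even part has even multiplicity contains (as a sub-multiset) a partition of `m` in which every even part has even multiplicity. -/
theorem result {F : Type*} [Field F] [Fintype F] {p : ℕ} [Fact p.Prime] [CharP F p] {q : ℕ} (hq : Fintype.card F = q) (hqodd : Odd q)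
    (d m : ℕ) (hd : 3 ≤ d) (hm : 2 ≤ m) (hme : Even m) (hmn : m ≤ 2 * d)
    (hpΩ : p ∣ Nat.card {W : Submodule F (Unit ⊕ (Fin d ⊕ Fin d) → F) // Module.finrank F ↥W = m ∧ Cfsg.Geo.IsNondegenerateOn (QuadraticMap.polar (Cfsg.quadFormOdd d F)) W ∧ Cfsg.Geo.IsPlusTypeOn (Cfsg.quadFormOdd d F) W}) :
    (∀ x : GL (Unit ⊕ (Fin d ⊕ Fin d)) F, x ∈ Cfsg.Geo.omegaGL (Cfsg.quadFormOdd d F) → orderOf x = p →
      ∃ W : Submodule F (Unit ⊕ (Fin d ⊕ Fin d) → F), (Module.finrank F ↥W = m ∧ Cfsg.Geo.IsNondegenerateOn (QuadraticMap.polar (Cfsg.quadFormOdd d F)) W ∧ Cfsg.Geo.IsPlusTypeOn (Cfsg.quadFormOdd d F) W) ∧ W.map (Matrix.toLin' (x : Matrix (Unit ⊕ (Fin d ⊕ Fin d)) (Unit ⊕ (Fin d ⊕ Fin d)) F)) ≤ W) →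
    (m % 4 = 0 ∧ (∀ μ : Multiset ℕ, (∀ e ∈ μ, 0 < e ∧ e ≤ p) → (∀ e : ℕ, Even e → Even (μ.count e)) → μ.sum = 2 * d + 1 →
        ∃ ν : Multiset ℕ, ν ≤ μ ∧ ν.sum = m ∧ ∀ e : ℕ, Even e → Even (ν.count e))) := by
  classical
  intro hall
  have h2 : (2 : F) ≠ 0 := two_ne_of_odd (hq.symm ▸ hqodd)
  have hp : Odd p := (Fact.out : p.Prime).odd_of_ne_two fun h => h2 (by subst h; exact CharTwo.two_eq_zero)
  have hp2 := (Fact.out : p.Prime).two_le
  have key : ∀ μ : Multiset ℕ, (∀ e ∈ μ, 0 < e ∧ e ≤ p) → (∀ e : ℕ, Even e → Even (μ.count e)) → μ.sum = 2 * d + 1 →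
      ∃ ν : Multiset ℕ, ν ≤ μ ∧ ν.sum = m ∧ ∀ e : ℕ, Even e → Even (ν.count e) := by
    refine all_partitions hp hme (by omega) fun μ hpos hev hsum hodd hbig => ?_
    obtain ⟨B, C⟩ := exists_space (Q := Cfsg.quadFormOdd d F) (Cfsg.Lib.Linear.Orth.isQuad_odd d h2)
    obtain ⟨x, hx, ho, -, -, hfix⟩ := exists_elt C p h2 (by simp; omega) hpos hev (by simp [hsum]; omega) hodd hbig
    obtain ⟨W, ⟨hWm, hW, -⟩, hinv⟩ := hall x hx ho
    obtain ⟨ν, h1, h3, h4, -⟩ := hfix W hW hinv
    exact ⟨ν, h1, h3.trans hWm, h4⟩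
  refine ⟨?_, key⟩
  have hp3 : 3 ≤ p := by rw [Nat.odd_iff] at hp; omega
  obtain ⟨a, ha⟩ : ∃ a, d = 2 * a ∨ d = 2 * a + 1 := ⟨d / 2, by omega⟩
  -- blocks of size 2, and a 1 or a 3
  let t : ℕ := if d = 2 * a then 1 else 3
  obtain ⟨ν, hle, hs, hev⟩ := key (t ::ₘ Multiset.replicate (2 * a) 2) (fun e he => by
      simp only [Multiset.mem_cons, Multiset.mem_replicate] at he
      rcases he with rfl | ⟨-, rfl⟩
      · simp only [t]; split_ifs <;> omega
      · omega)
    (fun e he => by
      rw [Multiset.count_cons_of_ne (by rintro rfl; simp only [t] at he; split_ifs at he <;> rw [Nat.even_iff] at he <;> omega),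
        Multiset.count_replicate]
      split_ifs
      · exact even_two_mul a
      · exact Even.zero)
    (by
      simp only [Multiset.sum_cons, Multiset.sum_replicate, smul_eq_mul, t]
      split_ifs <;> omega)
  have ht : t = 1 ∨ t = 3 := by simp only [t]; split_ifs <;> simp
  have hsub : ν.toFinset ⊆ {t, 2} := fun e he => by
    have := Multiset.subset_of_le hle (Multiset.mem_toFinset.1 he)
    simp only [Multiset.mem_cons, Multiset.mem_replicate, Finset.mem_insert, Finset.mem_singleton] at this ⊢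
    tauto
  have hsum := Finset.sum_multiset_count_of_subset ν _ hsub
  rw [Finset.sum_pair (by omega), smul_eq_mul, smul_eq_mul, hs] at hsum
  have h1 := Multiset.le_iff_count.1 hle t
  rw [Multiset.count_cons_self, Multiset.count_replicate, if_neg (by omega)] at h1
  obtain ⟨k, hk⟩ := hev 2 even_two
  rw [Nat.even_iff] at hme
  rcases Nat.le_one_iff_eq_zero_or_eq_one.1 h1 with h | h <;> rw [h] at hsum <;> omega

end Cfsg.Agent.S5995
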