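import Cfsg.Statements.S5997
import Mathlib
import Cfsg.Prelude.Def_GeometricClasses
-- import your own Cfsg.Agent.* helpers here

set_option autoImplicit false
open scoped MatrixGroups
open Cfsg

namespace Cfsg.Agent.S5997

open Matrix

universe u

variable {F : Type u} [Field F]

/-- A cyclic vector of a non-scalar matrix of size two. -/
theorem exists_cyclic {A : Matrix (Fin 2) (Fin 2) F} (h : ∀ z : F, A ≠ z • 1) :
    ∃ P : Matrix (Fin 2) (Fin 2) F, P.det ≠ 0 ∧ P 0 1 = A 0 0 * P 0 0 + A 0 1 * P 1 0 ∧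
      P 1 1 = A 1 0 * P 0 0 + A 1 1 * P 1 0 := by
  by_contra hne
  push Not at hne
  have key : ∀ v w : F, v * (A 1 0 * v + A 1 1 * w) - (A 0 0 * v + A 0 1 * w) * w = 0 := by
    intro v w
    by_contra hd
    exact hne !![v, A 0 0 * v + A 0 1 * w; w, A 1 0 * v + A 1 1 * w]
      (by rw [det_fin_two_of]; exact hd) (by simp) (by simp)
  have h1 := key 1 0
  have h2 := key 0 1
  have h3 := key 1 1
  simp at h1 h2
  refine h (A 0 0) ?_
  ext i j
  fin_cases i <;> fin_cases j <;> simp [h1, h2]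
  linear_combination h3 - h1 + h2

theorem mul_cyclic {A P : Matrix (Fin 2) (Fin 2) F} (h0 : P 0 1 = A 0 0 * P 0 0 + A 0 1 * P 1 0)
    (h1 : P 1 1 = A 1 0 * P 0 0 + A 1 1 * P 1 0) : A * P = P * !![0, -A.det; 1, A.trace] := by
  ext i j
  fin_cases i <;> fin_cases j <;>
    simp [Matrix.mul_apply, Fin.sum_univ_two, det_fin_two, trace_fin_two, h0, h1] <;> ring

theorem cayley_two (A : Matrix (Fin 2) (Fin 2) F) : A * A = A.trace • A - A.det • 1 := by
  ext i j
  fin_cases i <;> fin_cases j <;>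
    simp [Matrix.mul_apply, Fin.sum_univ_two, det_fin_two, trace_fin_two] <;> ring

/-- The commutant of a non-scalar matrix of size two. -/
theorem comm_nonscalar {A B C : Matrix (Fin 2) (Fin 2) F} (h : ∀ z : F, A ≠ z • 1) (hB : A * B = B * A) (hC : A * C = C * A) :
    B * C = C * B := by
  have ext2 : ∀ X Y : Matrix (Fin 2) (Fin 2) F, X * Y = Y * X →
      X 0 1 * Y 1 0 = X 1 0 * Y 0 1 ∧ (X 0 0 - X 1 1) * Y 0 1 = X 0 1 * (Y 0 0 - Y 1 1) ∧
      (X 0 0 - X 1 1) * Y 1 0 = X 1 0 * (Y 0 0 - Y 1 1) := by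
    intro X Y h
    have e00 := congrFun (congrFun h 0) 0
    have e01 := congrFun (congrFun h 0) 1
    have e10 := congrFun (congrFun h 1) 0
    simp only [Matrix.mul_apply, Fin.sum_univ_two] at e00 e01 e10
    exact ⟨by linear_combination e00, by linear_combination e01, by linear_combination -e10⟩
  obtain ⟨b1, b2, b3⟩ := ext2 A B hB
  obtain ⟨c1, c2, c3⟩ := ext2 A C hC
  have key : B 0 1 * C 1 0 = B 1 0 * C 0 1 ∧ (B 0 0 - B 1 1) * C 0 1 = B 0 1 * (C 0 0 - C 1 1) ∧
      (B 0 0 - B 1 1) * C 1 0 = B 1 0 * (C 0 0 - C 1 1) := by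
    by_cases h01 : A 0 1 ≠ 0
    · refine ⟨mul_left_cancel₀ h01 ?_, mul_left_cancel₀ h01 ?_, mul_left_cancel₀ h01 ?_⟩
      · linear_combination B 0 1 * c1 - C 0 1 * b1
      · linear_combination B 0 1 * c2 - C 0 1 * b2
      · refine mul_left_cancel₀ h01 ?_
        linear_combination (B 0 1 * (A 0 0 - A 1 1)) * c1 - C 0 1 * (A 0 0 - A 1 1) * b1 - (A 0 1 * C 1 0) * b2 + (A 0 1 * B 1 0) * c2
    push Not at h01
    by_cases h10 : A 1 0 ≠ 0
    · rw [h01, zero_mul] at b1 c1
      have hb : B 0 1 = 0 := (mul_eq_zero.1 b1.symm).resolve_left h10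
      have hc : C 0 1 = 0 := (mul_eq_zero.1 c1.symm).resolve_left h10
      refine ⟨by rw [hb, hc]; ring, by rw [hb, hc]; ring, mul_left_cancel₀ h10 ?_⟩
      linear_combination B 1 0 * c3 - C 1 0 * b3
    push Not at h10
    have hd : A 0 0 - A 1 1 ≠ 0 := fun hd => h (A 0 0) (by
      ext i j
      fin_cases i <;> fin_cases j <;> simp [h01, h10]
      exact (sub_eq_zero.1 hd).symm)
    rw [h01, zero_mul] at b2 c2
    rw [h10, zero_mul] at b3 c3
    have hb2 := (mul_eq_zero.1 b2).resolve_left hd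
    have hb3 := (mul_eq_zero.1 b3).resolve_left hd
    have hc2 := (mul_eq_zero.1 c2).resolve_left hd
    have hc3 := (mul_eq_zero.1 c3).resolve_left hd
    exact ⟨by rw [hb2, hb3]; ring, by rw [hb2, hc2]; ring, by rw [hb3, hc3]; ring⟩
  obtain ⟨k1, k2, k3⟩ := key
  ext i j
  fin_cases i <;> fin_cases j <;> simp [Matrix.mul_apply, Fin.sum_univ_two]
  · linear_combination k1
  · linear_combination k2
  · linear_combination -k3
  · linear_combination -k1

variable [Fintype F]

/-- Conjugacy in the special linear group by trace. -/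
theorem conj_of_trace (hodd : Fintype.card F % 2 = 1) {x y : GL (Fin 2) F}
    (hx : (x : Matrix (Fin 2) (Fin 2) F).det = 1) (hy : (y : Matrix (Fin 2) (Fin 2) F).det = 1)
    (hxs : ∀ z : F, (x : Matrix (Fin 2) (Fin 2) F) ≠ z • 1) (hys : ∀ z : F, (y : Matrix (Fin 2) (Fin 2) F) ≠ z • 1)
    (ht : (x : Matrix (Fin 2) (Fin 2) F).trace = (y : Matrix (Fin 2) (Fin 2) F).trace)
    (h4 : (x : Matrix (Fin 2) (Fin 2) F).trace ^ 2 ≠ 4) :
    ∃ g ∈ Cfsg.Geo.specialLinear (Fin 2) F, g⁻¹ * x * g = y := by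
  have h2 : (2 : F) ≠ 0 := Ring.two_ne_zero fun h => by
    have := FiniteField.even_card_iff_char_two.1 h
    omega
  obtain ⟨P, hP, hP0, hP1⟩ := exists_cyclic hxs
  obtain ⟨Q, hQ, hQ0, hQ1⟩ := exists_cyclic hys
  set t := (x : Matrix (Fin 2) (Fin 2) F).trace
  set d := 1 - t ^ 2 / 4
  have hd : d ≠ 0 := by
    intro h
    apply h4
    have h40 : (4 : F) ≠ 0 := by
      rw [show (4 : F) = 2 * 2 by norm_num]; exact mul_ne_zero h2 h2
    simp only [d] at h
    field_simp at h
    linear_combination -h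
  set u := Q.det / P.det
  obtain ⟨α, b, hab⟩ := FiniteField.exists_root_sum_quadratic (f := (Polynomial.X : Polynomial F) ^ 2)
    (g := Polynomial.C d * Polynomial.X ^ 2 - Polynomial.C u) (Polynomial.degree_X_pow 2)
    (by rw [Polynomial.degree_sub_C (by rw [Polynomial.degree_C_mul_X_pow 2 hd]; norm_num), Polynomial.degree_C_mul_X_pow 2 hd]; rfl) hodd
  simp only [Polynomial.eval_pow, Polynomial.eval_X, Polynomial.eval_sub, Polynomial.eval_mul, Polynomial.eval_C] at hab
  set a := α - t * b / 2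
  set M := a • (1 : Matrix (Fin 2) (Fin 2) F) + b • (x : Matrix (Fin 2) (Fin 2) F)
  have hMdet : M.det = u := by
    have hxd := hx
    rw [det_fin_two] at hxd
    simp only [M, det_fin_two, Matrix.add_apply, Matrix.smul_apply, smul_eq_mul]
    simp
    simp only [a, d, t, trace_fin_two] at hab ⊢
    have h40 : (4 : F) ≠ 0 := by
      rw [show (4 : F) = 2 * 2 by norm_num]; exact mul_ne_zero h2 h2
    field_simp at hab ⊢
    linear_combination hab + 4 * b ^ 2 * hxd
  set G := M * P * Q⁻¹
  have hGdet : G.det = 1 := by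
    rw [Matrix.det_mul, Matrix.det_mul, Matrix.det_nonsing_inv, hMdet, Ring.inverse_eq_inv']
    simp only [u]
    field_simp
  have hconj : (x : Matrix (Fin 2) (Fin 2) F) * G = G * (y : Matrix (Fin 2) (Fin 2) F) := by
    have hQu : IsUnit Q.det := isUnit_iff_ne_zero.2 hQ
    have hy' : (y : Matrix (Fin 2) (Fin 2) F) = Q * !![0, -1; 1, t] * Q⁻¹ := by
      have h := mul_cyclic hQ0 hQ1
      rw [hy, ← ht] at h
      rw [← h, mul_assoc, Matrix.mul_nonsing_inv Q hQu, mul_one]
    have hxM : (x : Matrix (Fin 2) (Fin 2) F) * M = M * x := by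
      simp only [M, mul_add, add_mul, mul_smul_comm, smul_mul_assoc, mul_one, one_mul]
    have hxP := mul_cyclic hP0 hP1
    rw [hx] at hxP
    rw [hy']
    simp only [G]
    calc (x : Matrix (Fin 2) (Fin 2) F) * (M * P * Q⁻¹) = M * ((x : Matrix (Fin 2) (Fin 2) F) * P) * Q⁻¹ := by
          rw [← mul_assoc, ← mul_assoc, hxM, mul_assoc M]
      _ = M * (P * !![0, -1; 1, t]) * Q⁻¹ := by rw [hxP]
      _ = M * P * (Q⁻¹ * Q) * !![0, -1; 1, t] * Q⁻¹ := by
          rw [Matrix.nonsing_inv_mul Q hQu, mul_one, ← mul_assoc M]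
      _ = M * P * Q⁻¹ * (Q * !![0, -1; 1, t] * Q⁻¹) := by simp only [mul_assoc]
  let g : GL (Fin 2) F := Matrix.GeneralLinearGroup.mkOfDetNeZero G (by rw [hGdet]; exact one_ne_zero)
  refine ⟨g, Units.ext hGdet, ?_⟩
  rw [mul_assoc, inv_mul_eq_iff_eq_mul]
  exact Units.ext hconj

/-- Matrices of a quaternion subgroup and its commutant. -/
theorem quat_setup (h2 : (2 : F) ≠ 0) (R : Subgroup (GL (Fin 2) F)) (hR : Nonempty (↥R ≃* QuaternionGroup 2)) :
    ∃ i j : GL (Fin 2) F, i ∈ R ∧ j ∈ R ∧ R ≤ Subgroup.closure {i, j} ∧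
      (i : Matrix (Fin 2) (Fin 2) F) * (i : Matrix (Fin 2) (Fin 2) F) = -1 ∧ (j : Matrix (Fin 2) (Fin 2) F) * (j : Matrix (Fin 2) (Fin 2) F) = -1 ∧
      (j : Matrix (Fin 2) (Fin 2) F) * (i : Matrix (Fin 2) (Fin 2) F) = -((i : Matrix (Fin 2) (Fin 2) F) * (j : Matrix (Fin 2) (Fin 2) F)) ∧
      Nat.card R = 8 := by
  obtain ⟨e⟩ := hR
  let f := e.symm
  set i : GL (Fin 2) F := (f (QuaternionGroup.a 1) : GL (Fin 2) F) with hi
  set j : GL (Fin 2) F := (f (QuaternionGroup.xa 0) : GL (Fin 2) F) with hj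
  set z : GL (Fin 2) F := (f (QuaternionGroup.a 2) : GL (Fin 2) F) with hz
  have hmul : ∀ a b : QuaternionGroup 2, ((f (a * b) : R) : GL (Fin 2) F) = (f a : GL (Fin 2) F) * (f b : GL (Fin 2) F) :=
    fun a b => by rw [map_mul]; rfl
  have hii : i * i = z := by rw [hi, hz, ← hmul]; rfl
  have hjj : j * j = z := by rw [hj, hz, ← hmul]; rfl
  have hji : j * i = z * (i * j) := by rw [hj, hi, hz, ← hmul, ← hmul, ← hmul]; rfl
  have hzz : z * z = 1 := by rw [hz, ← hmul, show (QuaternionGroup.a 2 : QuaternionGroup 2) * QuaternionGroup.a 2 = 1 from rfl, map_one]; rfl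
  have hz1 : z ≠ 1 := fun h => by
    have h1 : f (QuaternionGroup.a 2) = 1 := Subtype.ext h
    rw [map_eq_one_iff f f.injective] at h1
    exact absurd h1 (by decide)
  have hzi : z * i = i * z := by rw [← hii, mul_assoc]
  have hzj : z * j = j * z := by rw [← hjj, mul_assoc]
  have hZ : (z : Matrix (Fin 2) (Fin 2) F) = -1 := by
    have hzz' : (z : Matrix (Fin 2) (Fin 2) F) * z = 1 := congrArg Units.val hzz
    by_cases hs : ∃ c : F, (z : Matrix (Fin 2) (Fin 2) F) = c • 1
    · obtain ⟨c, hc⟩ := hs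
      rw [hc, smul_mul_smul_comm, mul_one] at hzz'
      have h1 := congrFun (congrFun hzz' 0) 0
      simp at h1
      rcases mul_self_eq_one_iff.1 h1 with h1 | h1
      · exact absurd (Units.ext (by rw [hc, h1, one_smul]; rfl)) hz1
      · rw [hc, h1, neg_one_smul]
    · push Not at hs
      exfalso
      have h1 := comm_nonscalar hs (congrArg Units.val hzi) (congrArg Units.val hzj)
      have h2 : j * i = i * j := Units.ext h1.symm
      rw [h2] at hji
      exact hz1 (mul_eq_right.1 hji.symm)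
  refine ⟨i, j, (f _).2, (f _).2, ?_, ?_, ?_, ?_, ?_⟩
  · intro u hu
    obtain ⟨w, hw⟩ := f.surjective ⟨u, hu⟩
    have hwu : (f w : GL (Fin 2) F) = u := congrArg Subtype.val hw
    rw [← hwu]
    have hpow : ∀ k : ZMod (2 * 2), ((f (QuaternionGroup.a k) : R) : GL (Fin 2) F) = i ^ k.val := fun k => by
      rw [hi, ← SubmonoidClass.coe_pow, ← map_pow, QuaternionGroup.a_one_pow, ZMod.natCast_zmod_val]
    cases w with
    | a k => rw [hpow]; exact pow_mem (Subgroup.subset_closure (Set.mem_insert _ _)) _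
    | xa k =>
      rw [show (QuaternionGroup.xa k : QuaternionGroup 2) = QuaternionGroup.xa 0 * QuaternionGroup.a k by
        rw [QuaternionGroup.xa_mul_a, zero_add], hmul, hpow]
      exact mul_mem (Subgroup.subset_closure (Set.mem_insert_of_mem _ rfl)) (pow_mem (Subgroup.subset_closure (Set.mem_insert _ _)) _)
  · exact (congrArg Units.val hii).trans hZ
  · exact (congrArg Units.val hjj).trans hZ
  · rw [← Units.val_mul, hji, Units.val_mul, hZ, neg_one_mul, Units.val_mul]
  · rw [Nat.card_congr e.toEquiv, Nat.card_eq_fintype_card]; rfl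

/-- Large prime order elements of the normaliser are scalar. -/
theorem big_prime (h2 : (2 : F) ≠ 0) (R : Subgroup (GL (Fin 2) F)) (hR : Nonempty (↥R ≃* QuaternionGroup 2))
    {r : ℕ} [hr : Fact r.Prime] (h5 : 5 ≤ r) (x : GL (Fin 2) F) (hx : x ∈ Cfsg.Geo.subgroupNormalizer R) (c : F)
    (hxr : ((x ^ r : GL (Fin 2) F) : Matrix (Fin 2) (Fin 2) F) = c • 1) : ∃ z : F, (x : Matrix (Fin 2) (Fin 2) F) = z • 1 := by
  classical
  obtain ⟨i, j, hiR, hjR, -, hii, hjj, hji, h8⟩ := quat_setup h2 R hR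
  haveI : Finite R := Nat.finite_of_card_ne_zero (by omega)
  letI := Fintype.ofFinite R
  have hx' : ∀ u, u ∈ R ↔ x * u * x⁻¹ ∈ R := Subgroup.mem_normalizer_iff.1 hx
  let σ : Equiv.Perm R :=
    { toFun := fun u => ⟨x * u * x⁻¹, (hx' _).1 u.2⟩
      invFun := fun u => ⟨x⁻¹ * u * x, (hx' _).2 (by simp [mul_assoc])⟩
      left_inv := fun u => Subtype.ext (by simp [mul_assoc])
      right_inv := fun u => Subtype.ext (by simp [mul_assoc]) }
  have hpow : ∀ k (u : R), ((σ ^ k) u : GL (Fin 2) F) = x ^ k * u * (x ^ k)⁻¹ := by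
    intro k
    induction k with
    | zero => intro u; simp
    | succ k ih =>
      intro u
      rw [pow_succ', Equiv.Perm.mul_apply, pow_succ' x k, _root_.mul_inv_rev]
      show x * ((σ ^ k) u : GL (Fin 2) F) * x⁻¹ = _
      rw [ih]
      simp [mul_assoc]
  have hσ : σ ^ r ^ 1 = 1 := Equiv.ext fun u => Subtype.ext (by
    rw [pow_one, hpow, mul_inv_eq_iff_eq_mul, Equiv.Perm.one_apply]
    exact Units.ext (by rw [Units.val_mul, Units.val_mul, hxr, smul_mul_assoc, one_mul, mul_smul_comm, mul_one]))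
  let S : Subgroup R := (Subgroup.centralizer ({x} : Set (GL (Fin 2) F))).comap R.subtype
  have hS : σ.supportᶜ.card = Nat.card S := by
    rw [Nat.card_eq_fintype_card, ← Fintype.card_coe]
    refine Fintype.card_congr (Equiv.subtypeEquivRight fun u => ?_)
    rw [Finset.mem_compl, Equiv.Perm.mem_support, not_not]
    show σ u = u ↔ u ∈ S
    rw [Subgroup.mem_comap, Subgroup.mem_centralizer_singleton_iff, Subtype.ext_iff]
    show x * (u : GL (Fin 2) F) * x⁻¹ = u ↔ _
    rw [mul_inv_eq_iff_eq_mul]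
    exact eq_comm
  have hmod := Equiv.Perm.card_compl_support_modEq hσ
  rw [hS, ← Nat.card_eq_fintype_card, h8] at hmod
  have hdvd : Nat.card S ∣ 8 := h8 ▸ Subgroup.card_subgroup_dvd_card S
  have hne : Nat.card S ≠ 1 := by
    intro h1
    rw [Subgroup.card_eq_one] at h1
    have hm : (⟨i * i, mul_mem hiR hiR⟩ : R) ∈ S := by
      rw [Subgroup.mem_comap, Subgroup.mem_centralizer_singleton_iff]
      exact Units.ext (by
        show (((i * i : GL (Fin 2) F)) : Matrix (Fin 2) (Fin 2) F) * x = x * ((i * i : GL (Fin 2) F) : Matrix (Fin 2) (Fin 2) F)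
        rw [Units.val_mul, hii, neg_one_mul, mul_neg_one])
    rw [h1, Subgroup.mem_bot] at hm
    have h3 : (-1 : Matrix (Fin 2) (Fin 2) F) = 1 := hii.symm.trans (congrArg (fun u : R => ((u : GL (Fin 2) F) : Matrix (Fin 2) (Fin 2) F)) hm)
    have h4 := congrFun (congrFun h3 0) 0
    simp at h4
    exact h2 (by linear_combination -h4)
  have h8S : Nat.card S = 8 := by
    have hcases : Nat.card S ∈ Nat.divisors 8 := Nat.mem_divisors.2 ⟨hdvd, by norm_num⟩
    have hr' : r ∣ 8 - Nat.card S := (Nat.modEq_iff_dvd' (Nat.le_of_dvd (by norm_num) hdvd)).1 hmod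
    rw [show Nat.divisors 8 = {1, 2, 4, 8} by decide] at hcases
    simp only [Finset.mem_insert, Finset.mem_singleton] at hcases
    rcases hcases with h | h | h | h
    · exact absurd h hne
    · rw [h] at hr'
      have := Nat.le_of_dvd (by norm_num) hr'
      interval_cases r
      · omega
      · exact absurd hr.out (by norm_num)
    · rw [h] at hr'
      have := Nat.le_of_dvd (by norm_num) hr'
      omega
    · exact h
  have htop : S = ⊤ := Subgroup.eq_top_of_card_eq _ (h8S.trans h8.symm)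
  have hcomm : ∀ u ∈ R, (x : Matrix (Fin 2) (Fin 2) F) * u = u * x := by
    intro u hu
    have h : (⟨u, hu⟩ : R) ∈ S := htop ▸ Subgroup.mem_top _
    rw [Subgroup.mem_comap, Subgroup.mem_centralizer_singleton_iff] at h
    exact (congrArg Units.val h).symm
  by_contra hns
  push Not at hns
  have h1 := comm_nonscalar hns (hcomm i hiR) (hcomm j hjR)
  rw [hji] at h1
  have h3 : (2 : F) • ((i : Matrix (Fin 2) (Fin 2) F) * j) = 0 := by rw [two_smul]; nth_rewrite 1 [h1]; simp
  rw [smul_eq_zero] at h3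
  exact Units.ne_zero (i * j) (h3.resolve_left h2)

/-- An element of order three in the normaliser. -/
theorem exists_three (h2 : (2 : F) ≠ 0) (R : Subgroup (GL (Fin 2) F)) (hR : Nonempty (↥R ≃* QuaternionGroup 2)) :
    ∃ w : GL (Fin 2) F, w ∈ Cfsg.Geo.subgroupNormalizer R ∧
      (w : Matrix (Fin 2) (Fin 2) F) * w + (w : Matrix (Fin 2) (Fin 2) F) + 1 = 0 ∧ ∀ z : F, (w : Matrix (Fin 2) (Fin 2) F) ≠ z • 1 := by
  obtain ⟨i, j, hiR, hjR, hgen, hii, hjj, hji, -⟩ := quat_setup h2 R hR
  set I := (i : Matrix (Fin 2) (Fin 2) F) with hI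
  set J := (j : Matrix (Fin 2) (Fin 2) F) with hJ
  set c : F := -2⁻¹
  have hc : c * 2 = -1 := by rw [neg_mul, inv_mul_cancel₀ h2]
  set W := c • (1 + I + J + I * J) with hW
  have hII : ∀ X, I * (I * X) = -X := fun X => by rw [← mul_assoc, hii, neg_one_mul]
  have hJJ : ∀ X, J * (J * X) = -X := fun X => by rw [← mul_assoc, hjj, neg_one_mul]
  have hJI : ∀ X, J * (I * X) = -(I * (J * X)) := fun X => by rw [← mul_assoc, hji, neg_mul, mul_assoc]
  have hw1 : W * W + W + 1 = 0 := by
    have h : (1 + I + J + I * J) * (1 + I + J + I * J) = (-2 : F) • (1 : Matrix (Fin 2) (Fin 2) F) + (2 : F) • (I + J + I * J) := by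
      simp only [add_mul, mul_add, mul_assoc, one_mul, mul_one, hii, hjj, hji, hII, hJJ, hJI, mul_neg, neg_neg]
      module
    rw [hW, smul_mul_smul_comm, h]
    have hc2 : c * c * 2 = -c := by rw [mul_assoc, hc, mul_neg_one]
    calc (c * c) • ((-2 : F) • (1 : Matrix (Fin 2) (Fin 2) F) + (2 : F) • (I + J + I * J)) + c • (1 + I + J + I * J) + 1
        = (-(c * c * 2)) • (1 : Matrix (Fin 2) (Fin 2) F) + (c * c * 2) • (I + J + I * J) + c • (1 + I + J + I * J) + 1 := by module
      _ = (c * 2 + 1) • (1 : Matrix (Fin 2) (Fin 2) F) := by rw [hc2]; module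
      _ = 0 := by rw [hc, neg_add_cancel, zero_smul]
  have hWI : W * I = J * W := by
    rw [hW, smul_mul_assoc, mul_smul_comm]
    simp only [add_mul, mul_add, mul_assoc, one_mul, mul_one, hii, hjj, hji, hII, hJJ, hJI, mul_neg, neg_neg]
    module
  have hWJ : W * J = (I * J) * W := by
    rw [hW, smul_mul_assoc, mul_smul_comm]
    simp only [add_mul, mul_add, mul_assoc, one_mul, mul_one, hii, hjj, hji, hII, hJJ, hJI, mul_neg, neg_neg]
    module
  have hu : W * (-(W + 1)) = 1 := by
    rw [mul_neg, mul_add, mul_one]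
    exact neg_eq_of_add_eq_zero_right hw1
  let w : GL (Fin 2) F := ⟨W, -(W + 1), hu, mul_eq_one_comm.1 hu⟩
  have hns : ∀ z : F, W ≠ z • 1 := by
    intro z hz
    rw [hz, smul_mul_assoc, mul_smul_comm, one_mul, mul_one] at hWI
    have hz0 : z ≠ 0 := fun h => by rw [hz, h, zero_smul, zero_mul] at hu; exact zero_ne_one hu
    have h3 : I = J := smul_right_injective _ hz0 hWI
    rw [← h3] at hji
    have h5 : (2 : F) • (I * I) = 0 := by rw [two_smul]; nth_rewrite 1 [hji]; simp
    rw [hii, smul_neg, neg_eq_zero, smul_eq_zero] at h5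
    exact one_ne_zero (h5.resolve_left h2)
  refine ⟨w, ?_, hw1, hns⟩
  have hconj : ∀ u ∈ R, w * u * w⁻¹ ∈ R := by
    intro u hu
    have hle : R ≤ R.comap (MulAut.conj w).toMonoidHom := by
      refine hgen.trans ((Subgroup.closure_le _).2 ?_)
      rintro v (rfl | rfl)
      · show w * v * w⁻¹ ∈ R
        rw [show w * v * w⁻¹ = j by rw [mul_inv_eq_iff_eq_mul]; exact Units.ext hWI]
        exact hjR
      · show w * v * w⁻¹ ∈ R
        rw [show w * v * w⁻¹ = i * v by rw [mul_inv_eq_iff_eq_mul]; exact Units.ext hWJ]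
        exact mul_mem hiR hjR
    exact hle hu
  haveI : Finite R := Finite.of_equiv _ hR.some.symm.toEquiv
  exact Subgroup.mem_normalizer_fintype hconj

/-- Elements of prime order of PSL_2(p) and the normalizer of a quaternion subgroup. Here `T = PSL_2(F)` for the field `F` with `p` elements, `p ≥ 5` prime; `R` is a subgroup of GL_2(F) isomorphic to the quaternion group of order 8 (an absolutely irreducible 2-group of symplectic type), and `H` is the subgroup of matrices of determinant 1 normalizing `R` — a subgroup of type 2^{1+2}.O₂⁻(2), isomorphic modulo scalars to A₄ or S₄ (maximality is not assumed). Ω is the set of cosets of `H` in `T`, so an element of `T` of prime order `r` (a matrix `x` of determinant 1 with `x^r` scalar, `x` not scalar) fixes a point of Ω exactly when some conjugate of `x` by a matrix of determinant 1 normalizes `R`. Let `r` be a prime dividing the index of `H`. Then every element of `T` of order `r` fixes a point of Ω if and only if `r = 2` or `r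 = 3`. -/
theorem result {F : Type*} [Field F] [Fintype F] {p : ℕ} [Fact p.Prime] [CharP F p] (hF : Fintype.card F = p) (hp : 5 ≤ p)
    (R : Subgroup (GL (Fin 2) F)) (hR : Nonempty (↥R ≃* QuaternionGroup 2))
    (r : ℕ) [Fact r.Prime]
    (hΩ : r ∣ (Cfsg.Geo.subgroupNormalizer R).relIndex (Cfsg.Geo.specialLinear (Fin 2) F)) :
    (∀ x ∈ Cfsg.Geo.specialLinear (Fin 2) F, (∃ z : F, ((x ^ r : GL (Fin 2) F) : Matrix (Fin 2) (Fin 2) F) = z • (1 : Matrix (Fin 2) (Fin 2) F)) →
      (∀ z : F, (x : Matrix (Fin 2) (Fin 2) F) ≠ z • (1 : Matrix (Fin 2) (Fin 2) F)) →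
      ∃ g ∈ Cfsg.Geo.specialLinear (Fin 2) F, g⁻¹ * x * g ∈ Cfsg.Geo.subgroupNormalizer R) ↔ (r = 2 ∨ r = 3) := by
  classical
  obtain ⟨hr⟩ := (inferInstance : Fact r.Prime)
  have hodd : Fintype.card F % 2 = 1 := by
    rw [hF]; exact (Nat.Prime.eq_two_or_odd Fact.out).resolve_left (by omega)
  have h2 : (2 : F) ≠ 0 := by
    intro h
    have := (CharP.cast_eq_zero_iff F p 2).1 (by exact_mod_cast h)
    have := Nat.le_of_dvd (by norm_num) this
    omega
  constructor
  · intro hall
    by_contra hne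
    push Not at hne
    have h5 : 5 ≤ r := by
      have := hr.two_le
      by_contra h
      interval_cases r <;> first | exact hne.1 rfl | exact hne.2 rfl | exact absurd hr (by decide)
    have hdvd : r ∣ Nat.card (Cfsg.Geo.specialLinear (Fin 2) F) := hΩ.trans (Subgroup.index_dvd_card _)
    obtain ⟨x, hx⟩ := exists_prime_orderOf_dvd_card' r hdvd
    have hxr : ((x : GL (Fin 2) F) ^ r : GL (Fin 2) F) = 1 := by
      rw [← SubmonoidClass.coe_pow, ← hx, pow_orderOf_eq_one]; rfl
    have hxd : ((x : GL (Fin 2) F) : Matrix (Fin 2) (Fin 2) F).det = 1 := congrArg Units.val (MonoidHom.mem_ker.1 x.2)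
    have hns : ∀ z : F, ((x : GL (Fin 2) F) : Matrix (Fin 2) (Fin 2) F) ≠ z • 1 := by
      intro z hz
      have h1 := hxd
      rw [hz, Matrix.det_smul, Matrix.det_one, mul_one, Fintype.card_fin] at h1
      have h2' : z ^ r = 1 := by
        have h3 := congrArg Units.val hxr
        rw [Units.val_pow_eq_pow_val, hz, _root_.smul_pow, one_pow] at h3
        have := congrFun (congrFun h3 0) 0
        simpa using this
      have hz1 : z = 1 := by
        have hodd' : Odd r := hr.odd_of_ne_two hne.1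
        obtain ⟨k, hk⟩ := hodd'
        rw [hk, pow_succ, pow_mul, h1, one_pow, one_mul] at h2'
        exact h2'
      have : x = 1 := Subtype.ext (Units.ext (by rw [hz, hz1, one_smul]; rfl))
      rw [this, orderOf_one] at hx
      exact hr.one_lt.ne hx
    have hc : ((((x : GL (Fin 2) F)) ^ r : GL (Fin 2) F) : Matrix (Fin 2) (Fin 2) F) = (1 : F) • 1 := by
      rw [hxr, one_smul]; rfl
    obtain ⟨g, -, hg⟩ := hall x x.2 ⟨1, hc⟩ hns
    obtain ⟨z, hz⟩ := big_prime h2 R hR h5 (g⁻¹ * x * g) hg 1 (by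
      have h : (g⁻¹ * (x : GL (Fin 2) F) * g) ^ r = 1 := by
        have := conj_pow (i := r) (a := g⁻¹) (b := (x : GL (Fin 2) F))
        rw [inv_inv, hxr, mul_one, inv_mul_cancel] at this
        exact this
      rw [h, one_smul]; rfl)
    refine hns z ?_
    have h : ((x : GL (Fin 2) F) : Matrix (Fin 2) (Fin 2) F) = (g : Matrix (Fin 2) (Fin 2) F) * ((g⁻¹ * x * g : GL (Fin 2) F) : Matrix (Fin 2) (Fin 2) F) * (g⁻¹ : GL (Fin 2) F) := by
      rw [← Units.val_mul, ← Units.val_mul]; simp [mul_assoc]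
    rw [h, hz, mul_smul_comm, mul_one, smul_mul_assoc, ← Units.val_mul, mul_inv_cancel, Units.val_one]
  · intro hr' x hx hx1 hns
    obtain ⟨c, hc⟩ := hx1
    have hxd : (x : Matrix (Fin 2) (Fin 2) F).det = 1 := congrArg Units.val (MonoidHom.mem_ker.1 hx)
    have hCH := cayley_two (x : Matrix (Fin 2) (Fin 2) F)
    rw [hxd, one_smul] at hCH
    set t := (x : Matrix (Fin 2) (Fin 2) F).trace
    have hzero : ∀ a b : F, a • (x : Matrix (Fin 2) (Fin 2) F) = b • 1 → a = 0 := by
      intro a b h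
      by_contra ha
      refine hns (a⁻¹ * b) ?_
      rw [← smul_smul, ← h, smul_smul, inv_mul_cancel₀ ha, one_smul]
    rw [Units.val_pow_eq_pow_val] at hc
    rcases hr' with rfl | rfl
    · have ht : t = 0 := hzero t (c + 1) (by rw [pow_two, hCH] at hc; rw [add_smul, one_smul, ← hc, sub_add_cancel])
      obtain ⟨i, j, hiR, -, -, hii, -, hji, -⟩ := quat_setup h2 R hR
      have his : ∀ z : F, (i : Matrix (Fin 2) (Fin 2) F) ≠ z • 1 := by
        intro z hz
        rw [hz, mul_smul_comm, smul_mul_assoc, one_mul, mul_one] at hji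
        have h3 : (2 : F) • (z • (j : Matrix (Fin 2) (Fin 2) F)) = 0 := by rw [two_smul]; nth_rewrite 1 [hji]; simp
        rw [smul_smul, smul_eq_zero] at h3
        rcases h3 with h3 | h3
        · rw [mul_eq_zero] at h3
          have h4 := hii
          rw [hz, h3.resolve_left h2, zero_smul, zero_mul] at h4
          exact one_ne_zero (neg_eq_zero.1 h4.symm)
        · exact Units.ne_zero j h3
      have hi := cayley_two (i : Matrix (Fin 2) (Fin 2) F)
      rw [hii] at hi
      have hti : (i : Matrix (Fin 2) (Fin 2) F).trace = 0 := by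
        by_contra ha
        refine his ((i : Matrix (Fin 2) (Fin 2) F).trace⁻¹ * ((i : Matrix (Fin 2) (Fin 2) F).det - 1)) ?_
        rw [← smul_smul, sub_smul, one_smul, sub_eq_add_neg _ (1 : Matrix (Fin 2) (Fin 2) F), hi, add_sub_cancel, smul_smul, inv_mul_cancel₀ ha, one_smul]
      have hdi : (i : Matrix (Fin 2) (Fin 2) F).det = 1 := by
        rw [hti, zero_smul, zero_sub, neg_inj] at hi
        have := congrFun (congrFun hi 0) 0
        simpa using this.symm
      obtain ⟨g, hg, hgx⟩ := conj_of_trace hodd hxd hdi hns his (ht.trans hti.symm) (by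
        show t ^ 2 ≠ 4
        rw [ht, zero_pow (by norm_num), show (4 : F) = 2 * 2 by norm_num]
        exact (mul_ne_zero h2 h2).symm)
      exact ⟨g, hg, hgx ▸ Subgroup.le_normalizer hiR⟩
    · have ht : t ^ 2 - 1 = 0 := hzero (t ^ 2 - 1) (c + t) (by
        rw [pow_succ, pow_two, hCH, sub_mul, one_mul, smul_mul_assoc, hCH, smul_sub, smul_smul] at hc
        rw [sub_smul, one_smul, pow_two, add_smul, ← hc]
        module)
      obtain ⟨i, j, hiR, -, -, hii, -, -, -⟩ := quat_setup h2 R hR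
      obtain ⟨w, hw, hw1, hwns⟩ := exists_three h2 R hR
      set W := (w : Matrix (Fin 2) (Fin 2) F)
      have hW := cayley_two W
      have h5 : (W.trace + 1) • W = (W.det - 1) • (1 : Matrix (Fin 2) (Fin 2) F) := by
        rw [hW] at hw1
        rw [add_smul, one_smul, sub_smul, one_smul, ← sub_eq_zero]
        rw [← hw1]; abel
      have htw : W.trace + 1 = 0 := by
        by_contra ha
        refine hwns ((W.trace + 1)⁻¹ * (W.det - 1)) ?_
        rw [← smul_smul, ← h5, smul_smul, inv_mul_cancel₀ ha, one_smul]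
      have hdw : W.det = 1 := by
        rw [htw, zero_smul] at h5
        have := congrFun (congrFun h5 0) 0
        simp at this
        linear_combination -this
      have h4 : t ^ 2 ≠ 4 := fun h => by
        have h31 : (3 : F) = 0 := by linear_combination -h + ht
        have := Nat.le_of_dvd (by norm_num) ((CharP.cast_eq_zero_iff F p 3).1 (by exact_mod_cast h31))
        omega
      rcases (mul_eq_zero.1 (show (t - 1) * (t + 1) = 0 by linear_combination ht)) with h | h
      · have hv : ((w * (i * i) : GL (Fin 2) F) : Matrix (Fin 2) (Fin 2) F) = -W := by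
          rw [Units.val_mul, Units.val_mul, hii, mul_neg_one]
        obtain ⟨g, hg, hgx⟩ := conj_of_trace hodd (y := w * (i * i)) hxd
          (by rw [hv, Matrix.det_neg, hdw]; simp) hns
          (fun z hz => hwns (-z) (by rw [neg_smul, ← hz, hv, neg_neg]))
          (by rw [hv, Matrix.trace_neg]; linear_combination h + htw) h4
        exact ⟨g, hg, hgx ▸ mul_mem hw (Subgroup.le_normalizer (mul_mem hiR hiR))⟩
      · obtain ⟨g, hg, hgx⟩ := conj_of_trace hodd hxd hdw hns hwns
          (by linear_combination h - htw) h4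
        exact ⟨g, hg, hgx ▸ hw⟩

end Cfsg.Agent.S5997
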