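import Cfsg.Statements.S5998
import Mathlib
import Cfsg.Prelude.Def_GeometricClasses
import Cfsg.Agent.Lib.Linear.PrimeCriteria
import Cfsg.Agent.Lib.Linear.CentralizerDet
import Cfsg.Agent.Lib.Linear.SLBasic
-- import your own Cfsg.Agent.* helpers here

set_option autoImplicit false
open scoped MatrixGroups
open Cfsg

namespace Cfsg.Agent.S5998

open Matrix Polynomial
open Cfsg.Lib
open Cfsg.Lib.Linear

universe u

variable {F : Type u} [Field F] [Fintype F]

/-- Semisimple elements with equal characteristic polynomials are conjugate by a matrix of determinant one. -/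
theorem conj_semisimple {n : ℕ} (hn : 1 ≤ n) (A B : GL (Fin n) F) (k : ℕ) (hk : (k : F) ≠ 0)
    (hA : (A : Matrix (Fin n) (Fin n) F) ^ k = 1) (hB : (B : Matrix (Fin n) (Fin n) F) ^ k = 1)
    (h : (A : Matrix (Fin n) (Fin n) F).charpoly = (B : Matrix (Fin n) (Fin n) F).charpoly) :
    ∃ g ∈ Cfsg.Geo.specialLinear (Fin n) F, g⁻¹ * A * g = B := by
  classical
  obtain ⟨c, hc⟩ := CanonicalForm.isConj_of_charpoly_eq k k hk hk hA hB h
  obtain ⟨ι, hι, f, hf1, hf2, hf⟩ := CanonicalForm.exists_form_of_pow_eq_one (A : Matrix (Fin n) (Fin n) F) k hk hA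
  have hsum := hf.sum_natDegree hf1
  obtain ⟨i⟩ : Nonempty ι := by
    by_contra h0
    rw [not_nonempty_iff] at h0
    rw [Finset.univ_eq_empty, Finset.sum_empty] at hsum
    omega
  obtain ⟨C, hC, hCd⟩ := CentralizerDet.exists_det_pow (p := f) (e := fun _ => 1) (fun i => ⟨hf1 i, hf2 i⟩)
    (by simpa using hf) i (Matrix.GeneralLinearGroup.det c)
  have hcd : (c : Matrix (Fin n) (Fin n) F).det ≠ 0 := (Matrix.GeneralLinearGroup.det c).ne_zero
  have hCd' : C.det = (c : Matrix (Fin n) (Fin n) F).det := by rw [hCd, pow_one]; rfl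
  let C' : GL (Fin n) F := Matrix.GeneralLinearGroup.mkOfDetNeZero C (by rw [hCd']; exact hcd)
  refine ⟨C' * c⁻¹, ?_, ?_⟩
  · show Matrix.GeneralLinearGroup.det (C' * c⁻¹) = 1
    rw [map_mul, map_inv, mul_inv_eq_one]
    exact Units.ext hCd'
  · have h1 : A * C' = C' * A := Units.ext hC
    have h2 : c * A = B * c := Units.ext hc
    rw [_root_.mul_inv_rev, inv_inv]
    calc c * C'⁻¹ * A * (C' * c⁻¹) = c * C'⁻¹ * (A * C') * c⁻¹ := by simp only [mul_assoc]
      _ = c * C'⁻¹ * (C' * A) * c⁻¹ := by rw [h1]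
      _ = c * A * c⁻¹ := by simp [mul_assoc]
      _ = B := by rw [h2, mul_inv_cancel_right]

/-- The diagonal generator. -/
def Dm (ω : F) : Matrix (Fin 3) (Fin 3) F := !![1, 0, 0; 0, ω, 0; 0, 0, ω ^ 2]
/-- The cyclic generator. -/
def Sm : Matrix (Fin 3) (Fin 3) F := !![0, 0, 1; 1, 0, 0; 0, 1, 0]

omit [Fintype F] in
theorem comm_std {ω : F} (hω : ω ^ 3 = 1) (hω1 : ω ≠ 1) {X : Matrix (Fin 3) (Fin 3) F} (h1 : X * Dm ω = Dm ω * X)
    (h2 : X * Sm = Sm * X) : X = X 0 0 • 1 := by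
  have e01 := congrFun (congrFun h1 0) 1
  have e02 := congrFun (congrFun h1 0) 2
  have e10 := congrFun (congrFun h1 1) 0
  have e12 := congrFun (congrFun h1 1) 2
  have e20 := congrFun (congrFun h1 2) 0
  have e21 := congrFun (congrFun h1 2) 1
  have s00 := congrFun (congrFun h2 1) 0
  have s11 := congrFun (congrFun h2 2) 1
  simp [Dm, Sm, Matrix.mul_apply, Fin.sum_univ_three, ] at e01 e02 e10 e12 e20 e21 s00 s11
  have hw : ω ^ 2 ≠ 1 := fun h => hω1 (by rw [pow_succ, h, one_mul] at hω; exact hω)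
  have hw0 : ω ≠ 0 := fun h => by rw [h] at hω; simp at hω
  have k01 : X 0 1 = 0 := by
    have h : (ω - 1) * X 0 1 = 0 := by linear_combination e01
    exact (mul_eq_zero.1 h).resolve_left (sub_ne_zero.2 hω1)
  have k02 : X 0 2 = 0 := by
    have h : (ω ^ 2 - 1) * X 0 2 = 0 := by linear_combination e02
    exact (mul_eq_zero.1 h).resolve_left (sub_ne_zero.2 hw)
  have k10 : X 1 0 = 0 := by
    have h : (ω - 1) * X 1 0 = 0 := by linear_combination -e10
    exact (mul_eq_zero.1 h).resolve_left (sub_ne_zero.2 hω1)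
  have k20 : X 2 0 = 0 := by
    have h : (ω ^ 2 - 1) * X 2 0 = 0 := by linear_combination -e20
    exact (mul_eq_zero.1 h).resolve_left (sub_ne_zero.2 hw)
  have k12 : X 1 2 = 0 := by
    have h : (ω - 1) * (ω * X 1 2) = 0 := by linear_combination e12
    exact (mul_eq_zero.1 ((mul_eq_zero.1 h).resolve_left (sub_ne_zero.2 hω1))).resolve_left hw0
  have k21 : X 2 1 = 0 := by
    have h : (ω - 1) * (ω * X 2 1) = 0 := by linear_combination -e21
    exact (mul_eq_zero.1 ((mul_eq_zero.1 h).resolve_left (sub_ne_zero.2 hω1))).resolve_left hw0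
  ext i j
  fin_cases i <;> fin_cases j <;> simp [k01, k02, k10, k12, k20, k21]
  · exact s00
  · linear_combination s11 + s00

/-- The standard form of an extraspecial group of order 27. -/
theorem exists_std (h3 : 3 ∣ Fintype.card F - 1) (R : Subgroup (GL (Fin 3) F)) (hR : Nat.card R = 27) (hRe : Monoid.exponent R = 3)
    (hRna : ¬ IsMulCommutative R) :
    ∃ (ω : F) (Q D S : GL (Fin 3) F), ω ^ 3 = 1 ∧ ω ≠ 1 ∧ (D : Matrix (Fin 3) (Fin 3) F) = Dm ω ∧
      (S : Matrix (Fin 3) (Fin 3) F) = Sm ∧ (Subgroup.closure {D, S}).map (MulAut.conj Q).toMonoidHom = R := by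
  classical
  haveI : Finite R := Nat.finite_of_card_ne_zero (by omega)
  have h3F : (3 : F) ≠ 0 := by
    intro h
    obtain ⟨p, hp⟩ := CharP.exists F
    haveI : Fact p.Prime := ⟨CharP.char_is_prime F p⟩
    obtain ⟨e, -, he⟩ := FiniteField.card F p
    have hp3 : p = 3 := (Nat.prime_dvd_prime_iff_eq Fact.out Nat.prime_three).1 ((CharP.cast_eq_zero_iff F p 3).1 (by exact_mod_cast h))
    have h1 := Fintype.one_lt_card (α := F)
    have : 3 ∣ Fintype.card F := by rw [he, hp3]; exact dvd_pow_self 3 e.pos.ne'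
    omega
  have hexp : ∀ a ∈ R, a ^ 3 = 1 := fun a ha => by
    have := hRe ▸ Monoid.pow_exponent_eq_one (⟨a, ha⟩ : R)
    exact congrArg Subtype.val this
  haveI : Fact (Nat.Prime 3) := ⟨Nat.prime_three⟩
  have hP : IsPGroup 3 R := IsPGroup.of_card (n := 3) (by rw [hR]; norm_num)
  obtain ⟨x, y, hxy⟩ : ∃ x y : R, x * y ≠ y * x := by
    by_contra h
    push Not at h
    exact hRna ⟨⟨h⟩⟩
  set c : R := x * y * x⁻¹ * y⁻¹ with hc
  have hc1 : c ≠ 1 := fun h => hxy (by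
    rw [hc, mul_inv_eq_one, mul_inv_eq_iff_eq_mul] at h
    exact h)
  have hcen : c ∈ Subgroup.center R := by
    have hZ : Nat.card (Subgroup.center R) ∣ 27 := hR ▸ Subgroup.card_subgroup_dvd_card _
    haveI : Nontrivial R := ⟨⟨c, 1, hc1⟩⟩
    haveI := hP.center_nontrivial
    have h1 : 1 < Nat.card (Subgroup.center R) := Finite.one_lt_card
    have hcase : Nat.card (R ⧸ Subgroup.center R) ∣ 9 := by
      obtain ⟨k, hk, hk'⟩ := (Nat.dvd_prime_pow Nat.prime_three).1 (show Nat.card (Subgroup.center R) ∣ 3 ^ 3 from hZ)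
      have h2 := Subgroup.card_eq_card_quotient_mul_card_subgroup (Subgroup.center R)
      rw [hR, hk'] at h2
      interval_cases k
      · omega
      · exact ⟨1, by omega⟩
      · exact ⟨3, by omega⟩
      · exact ⟨9, by omega⟩
    have hcomm : IsMulCommutative (R ⧸ Subgroup.center R) := by
      obtain ⟨k, hk, hk'⟩ := (Nat.dvd_prime_pow Nat.prime_three).1 (show Nat.card (R ⧸ Subgroup.center R) ∣ 3 ^ 2 from hcase)
      interval_cases k
      · haveI : Subsingleton (R ⧸ Subgroup.center R) := (Nat.card_eq_one_iff_unique.1 (by rw [hk', pow_zero])).1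
        exact ⟨⟨fun a b => Subsingleton.elim _ _⟩⟩
      · haveI : IsCyclic (R ⧸ Subgroup.center R) := isCyclic_of_prime_card (p := 3) (by rw [hk', pow_one])
        letI := IsCyclic.commGroup (α := R ⧸ Subgroup.center R)
        exact ⟨⟨fun a b => mul_comm a b⟩⟩
      · letI : CommGroup (R ⧸ Subgroup.center R) := IsPGroup.commGroupOfCardEqPrimeSq (p := 3) hk'
        exact ⟨⟨fun a b => mul_comm a b⟩⟩
    rw [← QuotientGroup.eq_one_iff]
    show ((x * y * x⁻¹ * y⁻¹ : R) : R ⧸ Subgroup.center R) = 1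
    rw [QuotientGroup.mk_mul, QuotientGroup.mk_mul, QuotientGroup.mk_mul, QuotientGroup.mk_inv, QuotientGroup.mk_inv,
      hcomm.is_comm.comm (x : R ⧸ Subgroup.center R) y]
    simp
  set X := ((x : GL (Fin 3) F) : Matrix (Fin 3) (Fin 3) F) with hX
  set Y := ((y : GL (Fin 3) F) : Matrix (Fin 3) (Fin 3) F) with hY
  set C := ((c : GL (Fin 3) F) : Matrix (Fin 3) (Fin 3) F) with hC
  have hXY : X * Y = C * (Y * X) := by
    have h : x * y = c * (y * x) := by rw [hc]; simp [mul_assoc]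
    exact congrArg (fun u : R => ((u : GL (Fin 3) F) : Matrix (Fin 3) (Fin 3) F)) h
  have hCX : C * X = X * C := congrArg (fun u : R => ((u : GL (Fin 3) F) : Matrix (Fin 3) (Fin 3) F)) (Subgroup.mem_center_iff.1 hcen x).symm
  have hCY : C * Y = Y * C := congrArg (fun u : R => ((u : GL (Fin 3) F) : Matrix (Fin 3) (Fin 3) F)) (Subgroup.mem_center_iff.1 hcen y).symm
  have cube : ∀ a : R, ((a : GL (Fin 3) F) : Matrix (Fin 3) (Fin 3) F) ^ 3 = 1 := fun a => by
    rw [← Units.val_pow_eq_pow_val, hexp _ a.2]; rfl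
  obtain ⟨ω, hω, hω1⟩ : ∃ ω : F, ω ^ 3 = 1 ∧ ω ≠ 1 := by
    obtain ⟨g, hg⟩ := IsCyclic.exists_ofOrder_eq_natCard (α := Fˣ)
    rw [Nat.card_eq_fintype_card, Fintype.card_units] at hg
    obtain ⟨t, ht⟩ := h3
    refine ⟨((g ^ t : Fˣ) : F), ?_, ?_⟩
    · rw [← Units.val_pow_eq_pow_val, ← pow_mul, mul_comm, ← ht, ← hg, pow_orderOf_eq_one, Units.val_one]
    · intro h
      have h1 := orderOf_dvd_of_pow_eq_one (Units.val_eq_one.1 h : g ^ t = 1)
      rw [hg, ht] at h1
      have := Fintype.one_lt_card (α := F)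
      have := Nat.le_of_dvd (by omega) h1
      omega
  have sum3 : ∀ A : Matrix (Fin 3) (Fin 3) F, A ^ 3 = 1 → ∀ v : Fin 3 → F,
      ∃ v0 v1 v2 : Fin 3 → F, v = v0 + v1 + v2 ∧ A *ᵥ v0 = v0 ∧ A *ᵥ v1 = ω • v1 ∧ A *ᵥ v2 = ω ^ 2 • v2 := by
    intro A hA v
    have hw : 1 + ω + ω ^ 2 = 0 := by
      have h : (ω - 1) * (1 + ω + ω ^ 2) = 0 := by linear_combination hω
      exact (mul_eq_zero.1 h).resolve_left (sub_ne_zero.2 hω1)
    have hA3 : A *ᵥ (A *ᵥ (A *ᵥ v)) = v := by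
      rw [mulVec_mulVec, mulVec_mulVec, show A * A * A = A ^ 3 by rw [pow_succ, pow_two], hA, one_mulVec]
    refine ⟨(3 : F)⁻¹ • (v + A *ᵥ v + A *ᵥ (A *ᵥ v)), (3 : F)⁻¹ • (v + ω ^ 2 • A *ᵥ v + ω • A *ᵥ (A *ᵥ v)),
      (3 : F)⁻¹ • (v + ω • A *ᵥ v + ω ^ 2 • A *ᵥ (A *ᵥ v)), ?_, ?_, ?_, ?_⟩
    · calc v = (3 : F)⁻¹ • ((3 : F) • v + (1 + ω + ω ^ 2) • (A *ᵥ v + A *ᵥ (A *ᵥ v))) := by
            rw [hw, zero_smul, add_zero, smul_smul, inv_mul_cancel₀ h3F, one_smul]
        _ = _ := by module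
    · rw [mulVec_smul, mulVec_add, mulVec_add, hA3]; congr 1; abel
    · rw [mulVec_smul, mulVec_add, mulVec_add, mulVec_smul, mulVec_smul, hA3, smul_comm ω]
      congr 1
      rw [smul_add, smul_add, smul_smul, smul_smul, show ω * ω ^ 2 = 1 by linear_combination hω, one_smul, ← pow_two]
      abel
    · rw [mulVec_smul, mulVec_add, mulVec_add, mulVec_smul, mulVec_smul, hA3, smul_comm (ω ^ 2)]
      congr 1
      rw [smul_add, smul_add, smul_smul, smul_smul, show ω ^ 2 * ω = 1 by linear_combination hω, one_smul,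
        show ω ^ 2 * ω ^ 2 = ω by linear_combination ω * hω]
      abel
  obtain ⟨ζ, hζ, hζ1, v, hv0, hCv⟩ : ∃ ζ : F, ζ ^ 3 = 1 ∧ ζ ≠ 1 ∧ ∃ v : Fin 3 → F, v ≠ 0 ∧ C *ᵥ v = ζ • v := by
    by_contra hne
    push Not at hne
    have hC1 : C = 1 := by
      apply Matrix.toLin'.injective
      refine LinearMap.ext fun v => ?_
      obtain ⟨v0, v1, v2, hv, h0, h1, h2⟩ := sum3 C (cube c) v
      have hw2 : ω ^ 2 ≠ 1 := fun h => hω1 (by rw [pow_succ, h, one_mul] at hω; exact hω)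
      have z1 : v1 = 0 := by_contra fun h => hne ω hω hω1 v1 h h1
      have z2 : v2 = 0 := by_contra fun h => hne (ω ^ 2) (by linear_combination (ω ^ 3 + 1) * hω) hw2 v2 h h2
      rw [Matrix.toLin'_apply, Matrix.toLin'_one, LinearMap.id_apply, hv, z1, z2, add_zero, add_zero]
      exact h0
    exact hc1 (Subtype.ext (Units.ext hC1))
  have hζ2 : ζ ^ 2 ≠ 1 := fun h => hζ1 (by rw [pow_succ, h, one_mul] at hζ; exact hζ)
  obtain ⟨w, μ, hw0, hCw, hμ, hXw⟩ : ∃ (w : Fin 3 → F) (μ : F), w ≠ 0 ∧ C *ᵥ w = ζ • w ∧ μ ^ 3 = 1 ∧ X *ᵥ w = μ • w := by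
    have hw : 1 + ω + ω ^ 2 = 0 := by
      have h : (ω - 1) * (1 + ω + ω ^ 2) = 0 := by linear_combination hω
      exact (mul_eq_zero.1 h).resolve_left (sub_ne_zero.2 hω1)
    by_contra hne
    push Not at hne
    have hCXv : C *ᵥ (X *ᵥ v) = ζ • X *ᵥ v := by rw [mulVec_mulVec, hCX, ← mulVec_mulVec, hCv, mulVec_smul]
    have hCXXv : C *ᵥ (X *ᵥ (X *ᵥ v)) = ζ • X *ᵥ (X *ᵥ v) := by
      rw [mulVec_mulVec, hCX, ← mulVec_mulVec, hCXv, mulVec_smul]
    have hX3 : X *ᵥ (X *ᵥ (X *ᵥ v)) = v := by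
      rw [mulVec_mulVec, mulVec_mulVec, show X * X * X = X ^ 3 by rw [pow_succ, pow_two], cube x, one_mulVec]
    have key : ∀ a : F, a ^ 3 = 1 → v + a ^ 2 • X *ᵥ v + a • X *ᵥ (X *ᵥ v) = 0 := by
      intro a ha
      by_contra h
      refine hne _ a h ?_ ha ?_
      · rw [mulVec_add, mulVec_add, mulVec_smul, mulVec_smul, hCv, hCXv, hCXXv]; module
      · rw [mulVec_add, mulVec_add, mulVec_smul, mulVec_smul, hX3]
        calc X *ᵥ v + a ^ 2 • X *ᵥ (X *ᵥ v) + a • v = a • v + (a ^ 3) • X *ᵥ v + a ^ 2 • X *ᵥ (X *ᵥ v) := by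
              rw [ha, one_smul]; abel
          _ = _ := by module
    have k0 := key 1 (one_pow 3)
    have k1 := key ω hω
    have k2 := key (ω ^ 2) (by linear_combination (ω ^ 3 + 1) * hω)
    refine hv0 (smul_right_injective _ h3F ?_)
    show (3 : F) • v = (3 : F) • 0
    calc (3 : F) • v = (3 : F) • v + (1 + ω + ω ^ 2) • X *ᵥ v + (1 + ω + ω ^ 2) • X *ᵥ (X *ᵥ v) := by rw [hw]; module
      _ = (3 : F) • v + (1 + ω ^ 2 + (ω ^ 2) ^ 2) • X *ᵥ v + (1 + ω + ω ^ 2) • X *ᵥ (X *ᵥ v) := by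
        rw [show (ω ^ 2) ^ 2 = ω by linear_combination ω * hω]; module
      _ = (v + (1 : F) ^ 2 • X *ᵥ v + (1 : F) • X *ᵥ (X *ᵥ v)) + (v + ω ^ 2 • X *ᵥ v + ω • X *ᵥ (X *ᵥ v)) +
            (v + (ω ^ 2) ^ 2 • X *ᵥ v + ω ^ 2 • X *ᵥ (X *ᵥ v)) := by module
      _ = (3 : F) • 0 := by rw [k0, k1, k2, smul_zero, add_zero, add_zero]
  have hCYw : C *ᵥ (Y *ᵥ w) = ζ • Y *ᵥ w := by rw [mulVec_mulVec, hCY, ← mulVec_mulVec, hCw, mulVec_smul]
  have hXYw : X *ᵥ (Y *ᵥ w) = (μ * ζ) • Y *ᵥ w := by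
    rw [mulVec_mulVec, hXY, ← mulVec_mulVec, ← mulVec_mulVec, hXw, mulVec_smul, mulVec_smul, hCYw, smul_smul]
  have hCYYw : C *ᵥ (Y *ᵥ (Y *ᵥ w)) = ζ • Y *ᵥ (Y *ᵥ w) := by
    rw [mulVec_mulVec, hCY, ← mulVec_mulVec, hCYw, mulVec_smul]
  have hXYYw : X *ᵥ (Y *ᵥ (Y *ᵥ w)) = (μ * ζ ^ 2) • Y *ᵥ (Y *ᵥ w) := by
    rw [mulVec_mulVec, hXY, ← mulVec_mulVec, ← mulVec_mulVec, hXYw, mulVec_smul, mulVec_smul, hCYYw, smul_smul]
    congr 1; ring
  have hY3 : Y *ᵥ (Y *ᵥ (Y *ᵥ w)) = w := by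
    rw [mulVec_mulVec, mulVec_mulVec, show Y * Y * Y = Y ^ 3 by rw [pow_succ, pow_two], cube y, one_mulVec]
  have hμ0 : μ ≠ 0 := fun h => by rw [h] at hμ; simp at hμ
  let M : Matrix (Fin 3) (Fin 3) F := Matrix.of fun i j => ![w, Y *ᵥ w, Y *ᵥ (Y *ᵥ w)] j i
  have hli : LinearIndependent F ![w, Y *ᵥ w, Y *ᵥ (Y *ᵥ w)] := by
    have hY0 : ∀ u, u ≠ 0 → Y *ᵥ u ≠ 0 := fun u hu h => hu (by
      have h' := congrArg (fun u => Y ^ 2 *ᵥ u) h
      simp only [mulVec_mulVec, ← pow_succ, mulVec_zero] at h'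
      rwa [cube y, one_mulVec] at h')
    refine Module.End.eigenvectors_linearIndependent' (Matrix.toLin' X) ![μ, μ * ζ, μ * ζ ^ 2] ?_ _ ?_
    · intro i j hij
      have hζζ : ζ ^ 2 ≠ ζ := fun h => hζ2 (by rw [h]; exact (by
        have : ζ * (ζ - 1) = 0 := by linear_combination h
        rcases mul_eq_zero.1 this with h' | h'
        · rw [h'] at hζ; simp at hζ
        · exact sub_eq_zero.1 h'))
      fin_cases i <;> fin_cases j <;> simp [hμ0, hζ1, hζ2, Ne.symm hζ1, Ne.symm hζ2, hζζ, Ne.symm hζζ] at hij ⊢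
    · intro i
      fin_cases i <;> refine ⟨Module.End.mem_eigenspace_iff.2 ?_, ?_⟩
      exacts [hXw, hw0, hXYw, hY0 _ hw0, hXYYw, hY0 _ (hY0 _ hw0)]
  have hMu : IsUnit M := by
    rw [← Matrix.linearIndependent_cols_iff_isUnit]
    exact hli
  have hMX : X * M = M * (μ • Dm ζ) := by
    ext i j
    rw [Matrix.mul_apply, show (∑ k, X i k * M k j) = (X *ᵥ ![w, Y *ᵥ w, Y *ᵥ (Y *ᵥ w)] j) i from rfl]
    fin_cases j <;> simp [Matrix.mul_apply, Fin.sum_univ_three, Dm, M, hXw, hXYw, hXYYw, -Matrix.mulVec_mulVec] <;> ring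
  have hMY : Y * M = M * Sm := by
    ext i j
    rw [Matrix.mul_apply, show (∑ k, Y i k * M k j) = (Y *ᵥ ![w, Y *ᵥ w, Y *ᵥ (Y *ᵥ w)] j) i from rfl]
    fin_cases j <;> simp [Matrix.mul_apply, Fin.sum_univ_three, Sm, M, hY3, -Matrix.mulVec_mulVec]
  have hMC : C * M = M * (ζ • 1) := by
    ext i j
    rw [mul_smul_comm, mul_one, Matrix.smul_apply, Matrix.mul_apply,
      show (∑ k, C i k * M k j) = (C *ᵥ ![w, Y *ᵥ w, Y *ᵥ (Y *ᵥ w)] j) i from rfl]
    fin_cases j <;> simp [M, hCw, hCYw, hCYYw, -Matrix.mulVec_mulVec]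
  obtain ⟨Q, hQ⟩ := hMu
  have hC' : C = ζ • 1 := by
    have h := congrArg (· * ((Q⁻¹ : GL (Fin 3) F) : Matrix (Fin 3) (Fin 3) F)) hMC
    simpa [← hQ, mul_assoc, mul_smul_comm, smul_mul_assoc] using h
  obtain ⟨k, hk⟩ : ∃ k : ℕ, ζ ^ k * μ = 1 := by
    have hmem : ∀ a : F, a ^ 3 = 1 → a = 1 ∨ a = ζ ∨ a = ζ ^ 2 := by
      intro a ha
      have h : (a - 1) * ((a - ζ) * (a - ζ ^ 2)) = 0 := by
        have hw : 1 + ζ + ζ ^ 2 = 0 := by
          have h : (ζ - 1) * (1 + ζ + ζ ^ 2) = 0 := by linear_combination hζ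
          exact (mul_eq_zero.1 h).resolve_left (sub_ne_zero.2 hζ1)
        linear_combination ha + (a - a ^ 2) * hw + (a - 1) * hζ
      rcases mul_eq_zero.1 h with h | h
      · exact Or.inl (sub_eq_zero.1 h)
      rcases mul_eq_zero.1 h with h | h
      · exact Or.inr (Or.inl (sub_eq_zero.1 h))
      · exact Or.inr (Or.inr (sub_eq_zero.1 h))
    rcases hmem μ hμ with h | h | h
    · exact ⟨0, by rw [h]; simp⟩
    · exact ⟨2, by rw [h, ← pow_succ, hζ]⟩
    · exact ⟨1, by rw [h, pow_one, ← pow_succ', hζ]⟩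
  let d : R := c ^ k * x
  have hMd : ((d : GL (Fin 3) F) : Matrix (Fin 3) (Fin 3) F) * M = M * Dm ζ := by
    show (((c : GL (Fin 3) F) ^ k * (x : GL (Fin 3) F) : GL (Fin 3) F) : Matrix (Fin 3) (Fin 3) F) * M = _
    rw [Units.val_mul, Units.val_pow_eq_pow_val, ← hC, ← hX, hC', _root_.smul_pow, one_pow, smul_mul_assoc, one_mul, smul_mul_assoc,
      hMX, mul_smul_comm, smul_smul, hk, one_smul]
  refine ⟨ζ, Q, Q⁻¹ * (d : GL (Fin 3) F) * Q, Q⁻¹ * (y : GL (Fin 3) F) * Q, hζ, hζ1, ?_, ?_, ?_⟩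
  · rw [Units.val_mul, Units.val_mul, hQ, mul_assoc, hMd, ← mul_assoc, ← hQ, Units.inv_mul, one_mul]
  · rw [Units.val_mul, Units.val_mul, hQ, ← hY, mul_assoc, hMY, ← mul_assoc, ← hQ, Units.inv_mul, one_mul]
  · rw [MonoidHom.map_closure, Set.image_insert_eq, Set.image_singleton]
    simp only [MulEquiv.coe_toMonoidHom, MulAut.conj_apply]
    rw [show ∀ a : GL (Fin 3) F, Q * (Q⁻¹ * a * Q) * Q⁻¹ = a from fun a => by simp [mul_assoc],
      show ∀ a : GL (Fin 3) F, Q * (Q⁻¹ * a * Q) * Q⁻¹ = a from fun a => by simp [mul_assoc]]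
    set H := Subgroup.closure ({(d : GL (Fin 3) F), (y : GL (Fin 3) F)} : Set (GL (Fin 3) F))
    have hle : H ≤ R := (Subgroup.closure_le _).2 (by rintro u (rfl | rfl); exacts [d.2, y.2])
    refine Subgroup.eq_of_le_of_card_ge hle ?_
    obtain ⟨j, hj, hj'⟩ := (Nat.dvd_prime_pow Nat.prime_three).1 ((Subgroup.card_dvd_of_le hle).trans (by rw [hR]; norm_num) : Nat.card H ∣ 3 ^ 3)
    by_contra hlt
    rw [hR, hj'] at hlt
    have hj2 : j ≤ 2 := by
      by_contra h
      obtain rfl : j = 3 := by omega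
      exact hlt (by norm_num)
    have hHc : ∀ a b : H, a * b = b * a := by
      interval_cases j
      · haveI : Subsingleton H := (Nat.card_eq_one_iff_unique.1 (by rw [hj', pow_zero])).1
        exact fun a b => Subsingleton.elim _ _
      · haveI : IsCyclic H := isCyclic_of_prime_card (p := 3) (by rw [hj', pow_one])
        letI := IsCyclic.commGroup (α := H)
        exact fun a b => mul_comm a b
      · letI : CommGroup H := IsPGroup.commGroupOfCardEqPrimeSq (p := 3) hj'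
        exact fun a b => mul_comm a b
    have h1 := congrArg Subtype.val (hHc ⟨_, Subgroup.subset_closure (Set.mem_insert _ _)⟩ ⟨_, Subgroup.subset_closure (Set.mem_insert_of_mem _ rfl)⟩)
    have h2 : d * y = y * d := Subtype.ext h1
    refine hxy (mul_left_cancel (a := c ^ k) ?_)
    rw [← mul_assoc, show c ^ k * x * y = y * (c ^ k * x) from h2, ← mul_assoc, ← mul_assoc]
    congr 1
    exact (Subgroup.mem_center_iff.1 ((Subgroup.center R).pow_mem hcen k) y).symm ▸ rfl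

/-- Diagonal matrices of roots of unity normalise the standard generators. -/
theorem diag_norm {ω : F} (hω : ω ^ 3 = 1) (t : Fin 3 → Fin 3) :
    diagonal (fun i => ω ^ (t i : ℕ)) * Dm ω = Dm ω * diagonal (fun i => ω ^ (t i : ℕ)) ∧
    ∃ m n : ℕ, diagonal (fun i => ω ^ (t i : ℕ)) * Sm = Sm * (ω ^ m • Dm ω ^ n) * diagonal (fun i => ω ^ (t i : ℕ)) := by
  have hD : Dm ω = diagonal fun i : Fin 3 => ω ^ (i : ℕ) := by
    ext i j; fin_cases i <;> fin_cases j <;> simp [Dm]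
  refine ⟨by rw [hD, diagonal_mul_diagonal, diagonal_mul_diagonal]; congr 1; funext i; ring,
    (t 1 - t 0 : Fin 3), (t 2 - t 1 - (t 1 - t 0) : Fin 3), ?_⟩
  rw [hD, diagonal_pow, ← diagonal_smul, mul_assoc, diagonal_mul_diagonal]
  have key : ∀ t : Fin 3 → Fin 3, ∀ i : Fin 3,
      ((t (i + 1)) : ℕ) % 3 = (((t 1 - t 0 : Fin 3) : ℕ) + (i : ℕ) * ((t 2 - t 1 - (t 1 - t 0) : Fin 3) : ℕ) + (t i : ℕ)) % 3 := by
    decide
  have key' : ∀ i : Fin 3, ω ^ (t (i + 1) : ℕ) =
      ω ^ ((t 1 - t 0 : Fin 3) : ℕ) * (ω ^ (i : ℕ)) ^ ((t 2 - t 1 - (t 1 - t 0) : Fin 3) : ℕ) * ω ^ (t i : ℕ) := by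
    intro i
    rw [← pow_mul, ← pow_add, ← pow_add, pow_eq_pow_mod _ hω, key, ← pow_eq_pow_mod _ hω]
  have hS : ∀ i j : Fin 3, (Sm : Matrix (Fin 3) (Fin 3) F) i j = if i = j + 1 then 1 else 0 := by
    intro i j; fin_cases i <;> fin_cases j <;> simp [Sm]
  ext i j
  rw [diagonal_mul, mul_diagonal, hS]
  simp only [Pi.smul_apply, Pi.pow_apply, smul_eq_mul]
  by_cases h : i = j + 1
  · rw [if_pos h, h, key' j, mul_one, one_mul]
  · rw [if_neg h, mul_zero, zero_mul]

theorem Dm_Sm {ω : F} (hω : ω ^ 3 = 1) : Dm ω * Sm = ω • (Sm * Dm ω) := by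
  ext i j
  fin_cases i <;> fin_cases j <;> simp [Dm, Sm, Matrix.mul_apply, Fin.sum_univ_three] <;> first | (ring1) | linear_combination -hω | linear_combination hω

/-- Conjugates of normalisers of the standard generators. -/
theorem mem_norm {R : Subgroup (GL (Fin 3) F)} [Finite R] {Q D S T : GL (Fin 3) F}
    (hK : (Subgroup.closure {D, S}).map (MulAut.conj Q).toMonoidHom = R)
    (h1 : T * D * T⁻¹ ∈ Subgroup.closure {D, S}) (h2 : T * S * T⁻¹ ∈ Subgroup.closure {D, S}) :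
    Q * T * Q⁻¹ ∈ Cfsg.Geo.subgroupNormalizer R := by
  refine Subgroup.mem_normalizer_fintype (fun u hu => ?_)
  rw [SetLike.mem_coe, ← hK] at hu
  obtain ⟨v, hv, rfl⟩ := hu
  have hle : Subgroup.closure {D, S} ≤ (Subgroup.closure {D, S}).comap (MulAut.conj T).toMonoidHom := by
    refine (Subgroup.closure_le _).2 ?_
    rintro w (rfl | rfl)
    exacts [h1, h2]
  rw [SetLike.mem_coe, ← hK]
  exact ⟨T * v * T⁻¹, hle hv, by simp [mul_assoc]⟩

/-- Eigenvalues of an element whose power is one. -/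
theorem triple {k : ℕ} (hk : 0 < k) (hkF : (k : F) ≠ 0) {ζ : F} (hζ : IsPrimitiveRoot ζ k) {A : Matrix (Fin 3) (Fin 3) F}
    (hA : A ^ k = 1) (hns : ∀ z : F, A ≠ z • 1) :
    ∃ j : Fin 3 → Fin k, (∀ a : Fin k, ∃ i, j i ≠ a) ∧ A.charpoly = ∏ i, (X - Polynomial.C (ζ ^ (j i : ℕ))) ∧
      A.det = ζ ^ (∑ i, (j i : ℕ)) := by
  classical
  obtain ⟨ι, hι, f, hf1, hf2, hf⟩ := CanonicalForm.exists_form_of_pow_eq_one A k hkF hA
  have hlin : ∀ i, ∃ a : Fin k, f i = X - Polynomial.C (ζ ^ (a : ℕ)) := by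
    intro i
    have hd := (hf.aeval_eq_zero_iff (X ^ k - 1)).1 (by simp [hA]) i
    rw [X_pow_sub_one_eq_prod hk hζ] at hd
    obtain ⟨a, ha, hda⟩ := ((hf2 i).prime.dvd_finsetProd_iff _).1 hd
    rw [mem_nthRootsFinset hk] at ha
    haveI : NeZero k := ⟨hk.ne'⟩
    obtain ⟨m, hm, rfl⟩ := hζ.eq_pow_of_pow_eq_one ha
    exact ⟨⟨m, hm⟩, eq_of_monic_of_associated (hf1 i) (monic_X_sub_C _) ((hf2 i).associated_of_dvd (irreducible_X_sub_C _) hda)⟩
  choose a ha using hlin
  have hcard : Fintype.card ι = 3 := by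
    have h := hf.sum_natDegree hf1
    simpa [ha, natDegree_X_sub_C, -map_pow] using h
  let e := Fintype.equivFinOfCardEq hcard
  have hc : A.charpoly = ∏ i, (X - Polynomial.C (ζ ^ (a (e.symm i) : ℕ))) := by
    rw [hf.charpoly hf1, ← e.symm.prod_comp]
    exact Finset.prod_congr rfl fun i _ => ha _
  refine ⟨fun i => a (e.symm i), fun b => ?_, hc, ?_⟩
  · by_contra h
    push Not at h
    refine hns (ζ ^ (b : ℕ)) ?_
    have h0 := (hf.aeval_eq_zero_iff (X - Polynomial.C (ζ ^ (b : ℕ)))).2 fun i => by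
      rw [ha i, show a i = b by simpa using h (e i)]
    rwa [map_sub, aeval_X, aeval_C, Algebra.algebraMap_eq_smul_one, sub_eq_zero] at h0
  · rw [Matrix.det_eq_sign_charpoly_coeff, hc, Fintype.card_fin, coeff_zero_eq_eval_zero, eval_prod, ← Finset.prod_pow_eq_pow_sum,
      Fin.prod_univ_three, Fin.prod_univ_three]
    simp only [eval_sub, eval_X, eval_C]
    ring

/-- Elements of large prime order normalising the group are scalar. -/
theorem big_prime {ω : F} (hω : ω ^ 3 = 1) (hω1 : ω ≠ 1) {R : Subgroup (GL (Fin 3) F)} (hR : Nat.card R = 27) {Q D S : GL (Fin 3) F}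
    (hD : (D : Matrix (Fin 3) (Fin 3) F) = Dm ω) (hS : (S : Matrix (Fin 3) (Fin 3) F) = Sm)
    (hK : (Subgroup.closure {D, S}).map (MulAut.conj Q).toMonoidHom = R)
    {r : ℕ} [hr : Fact r.Prime] (h5 : 5 ≤ r) (x : GL (Fin 3) F) (hx : x ∈ Cfsg.Geo.subgroupNormalizer R)
    (hxr : x ^ r = 1) : ∃ z : F, (x : Matrix (Fin 3) (Fin 3) F) = z • 1 := by
  classical
  haveI : Finite R := Nat.finite_of_card_ne_zero (by omega)
  letI := Fintype.ofFinite R
  have hx' : ∀ u, u ∈ R ↔ x * u * x⁻¹ ∈ R := Subgroup.mem_normalizer_iff.1 hx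
  let σ : Equiv.Perm R :=
    { toFun := fun u => ⟨x * u * x⁻¹, (hx' _).1 u.2⟩
      invFun := fun u => ⟨x⁻¹ * u * x, (hx' _).2 (by simp [mul_assoc])⟩
      left_inv := fun u => Subtype.ext (by simp [mul_assoc])
      right_inv := fun u => Subtype.ext (by simp [mul_assoc]) }
  have hpow : ∀ k (u : R), ((σ ^ k) u : GL (Fin 3) F) = x ^ k * u * (x ^ k)⁻¹ := by
    intro k
    induction k with
    | zero => intro u; simp
    | succ k ih =>
      intro u
      rw [pow_succ', Equiv.Perm.mul_apply, pow_succ' x k, _root_.mul_inv_rev]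
      show x * ((σ ^ k) u : GL (Fin 3) F) * x⁻¹ = _
      rw [ih]
      simp [mul_assoc]
  have hσ : σ ^ r ^ 1 = 1 := Equiv.ext fun u => Subtype.ext (by
    rw [pow_one, hpow, hxr, one_mul, inv_one, mul_one]; rfl)
  let S0 : Subgroup R := (Subgroup.centralizer ({x} : Set (GL (Fin 3) F))).comap R.subtype
  have hS0 : σ.supportᶜ.card = Nat.card S0 := by
    rw [Nat.card_eq_fintype_card, ← Fintype.card_coe]
    refine Fintype.card_congr (Equiv.subtypeEquivRight fun u => ?_)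
    rw [Finset.mem_compl, Equiv.Perm.mem_support, not_not]
    show σ u = u ↔ u ∈ S0
    rw [Subgroup.mem_comap, Subgroup.mem_centralizer_singleton_iff, Subtype.ext_iff]
    show x * (u : GL (Fin 3) F) * x⁻¹ = u ↔ _
    rw [mul_inv_eq_iff_eq_mul]
    exact eq_comm
  have hmod := Equiv.Perm.card_compl_support_modEq hσ
  rw [hS0, ← Nat.card_eq_fintype_card, hR] at hmod
  have hdvd : Nat.card S0 ∣ 27 := hR ▸ Subgroup.card_subgroup_dvd_card S0
  have hmemK : ∀ u ∈ Subgroup.closure {D, S}, Q * u * Q⁻¹ ∈ R := fun u hu => hK ▸ ⟨u, hu, rfl⟩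
  have hDm : D ∈ Subgroup.closure {D, S} := Subgroup.subset_closure (Set.mem_insert _ _)
  have hSm : S ∈ Subgroup.closure {D, S} := Subgroup.subset_closure (Set.mem_insert_of_mem _ rfl)
  have hcval : ((D * S * D⁻¹ * S⁻¹ : GL (Fin 3) F) : Matrix (Fin 3) (Fin 3) F) = ω • 1 := by
    rw [Units.val_mul, Units.val_mul, Units.val_mul, hD, hS, Dm_Sm hω, ← hS, ← hD, smul_mul_assoc, smul_mul_assoc]
    simp [mul_assoc]
  have hne : Nat.card S0 ≠ 1 := by
    intro h1
    rw [Subgroup.card_eq_one] at h1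
    set u := Q * (D * S * D⁻¹ * S⁻¹) * Q⁻¹ with hu
    have hu' : (u : Matrix (Fin 3) (Fin 3) F) = ω • 1 := by
      rw [hu, Units.val_mul, Units.val_mul, hcval, mul_smul_comm, mul_one, smul_mul_assoc, ← Units.val_mul, mul_inv_cancel, Units.val_one]
    have hm : (⟨u, hmemK _ (mul_mem (mul_mem (mul_mem hDm hSm) (inv_mem hDm)) (inv_mem hSm))⟩ : R) ∈ S0 := by
      rw [Subgroup.mem_comap, Subgroup.mem_centralizer_singleton_iff]
      exact Units.ext (by
        show (u : Matrix (Fin 3) (Fin 3) F) * x = x * (u : Matrix (Fin 3) (Fin 3) F)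
        rw [hu', smul_mul_assoc, one_mul, mul_smul_comm, mul_one])
    rw [h1, Subgroup.mem_bot] at hm
    have h4 := congrFun (congrFun (hu'.symm.trans (congrArg (fun v : R => ((v : GL (Fin 3) F) : Matrix (Fin 3) (Fin 3) F)) hm)) 0) 0
    simp at h4
    exact hω1 h4
  have h27 : Nat.card S0 = 27 := by
    have hr' : r ∣ 27 - Nat.card S0 := (Nat.modEq_iff_dvd' (Nat.le_of_dvd (by norm_num) hdvd)).1 hmod
    obtain ⟨k, hk, hk'⟩ := (Nat.dvd_prime_pow Nat.prime_three).1 (show Nat.card S0 ∣ 3 ^ 3 from hdvd)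
    interval_cases k
    · exact absurd (hk'.trans (pow_zero 3)) hne
    · exfalso
      rw [hk', show 27 - 3 ^ 1 = 2 ^ 3 * 3 by norm_num] at hr'
      rcases hr.out.dvd_mul.1 hr' with h | h
      · have := Nat.le_of_dvd (by norm_num) (hr.out.dvd_of_dvd_pow h); omega
      · have := Nat.le_of_dvd (by norm_num) h; omega
    · exfalso
      rw [hk', show 27 - 3 ^ 2 = 2 * 3 ^ 2 by norm_num] at hr'
      rcases hr.out.dvd_mul.1 hr' with h | h
      · have := Nat.le_of_dvd (by norm_num) h; omega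
      · have := Nat.le_of_dvd (by norm_num) (hr.out.dvd_of_dvd_pow h); omega
    · omega
  have htop : S0 = ⊤ := Subgroup.eq_top_of_card_eq _ (h27.trans hR.symm)
  have hcomm : ∀ u ∈ Subgroup.closure {D, S}, Q⁻¹ * x * Q * u = u * (Q⁻¹ * x * Q) := by
    intro u hu
    have h : (⟨Q * u * Q⁻¹, hmemK u hu⟩ : R) ∈ S0 := htop ▸ Subgroup.mem_top _
    rw [Subgroup.mem_comap, Subgroup.mem_centralizer_singleton_iff] at h
    have h' : Q * u * Q⁻¹ * x = x * (Q * u * Q⁻¹) := h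
    calc Q⁻¹ * x * Q * u = Q⁻¹ * (x * (Q * u * Q⁻¹)) * Q := by simp [mul_assoc]
      _ = Q⁻¹ * (Q * u * Q⁻¹ * x) * Q := by rw [h']
      _ = u * (Q⁻¹ * x * Q) := by simp [mul_assoc]
  have h := comm_std hω hω1 (X := ((Q⁻¹ * x * Q : GL (Fin 3) F) : Matrix (Fin 3) (Fin 3) F))
    (by rw [← hD]; exact congrArg Units.val (hcomm D hDm)) (by rw [← hS]; exact congrArg Units.val (hcomm S hSm))
  refine ⟨((Q⁻¹ * x * Q : GL (Fin 3) F) : Matrix (Fin 3) (Fin 3) F) 0 0, ?_⟩
  conv_lhs => rw [show x = Q * (Q⁻¹ * x * Q) * Q⁻¹ by simp [mul_assoc]]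
  rw [Units.val_mul, Units.val_mul Q, h, mul_smul_comm, mul_one, smul_mul_assoc, ← Units.val_mul, mul_inv_cancel, Units.val_one]
  simp

set_option maxHeartbeats 800000 in
/-- Scale and conjugate into the normaliser. -/
theorem scaled_conj {R : Subgroup (GL (Fin 3) F)} [Finite R] {Q D S : GL (Fin 3) F}
    (hK : (Subgroup.closure {D, S}).map (MulAut.conj Q).toMonoidHom = R) (x : GL (Fin 3) F)
    (hxd : (x : Matrix (Fin 3) (Fin 3) F).det = 1) (hns : ∀ z : F, (x : Matrix (Fin 3) (Fin 3) F) ≠ z • 1)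
    {z : F} (k : ℕ) (ζ l : F) (hk : 0 < k) (hkF : (k : F) ≠ 0) (hζ : IsPrimitiveRoot ζ k) (hl : l ≠ 0) (hlz : l ^ k = z)
    (hT : ∀ j : Fin 3 → Fin k, (∀ a : Fin k, ∃ i, j i ≠ a) → ζ ^ (∑ i, (j i : ℕ)) = (l⁻¹) ^ 3 →
      ∃ T : GL (Fin 3) F, (T : Matrix (Fin 3) (Fin 3) F) ^ k = 1 ∧ T * D * T⁻¹ ∈ Subgroup.closure {D, S} ∧
        T * S * T⁻¹ ∈ Subgroup.closure {D, S} ∧
        (T : Matrix (Fin 3) (Fin 3) F).charpoly = ∏ i, (X - Polynomial.C (ζ ^ (j i : ℕ))))
    (hxk : (x : Matrix (Fin 3) (Fin 3) F) ^ k = z • 1) :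
    ∃ g ∈ Cfsg.Geo.specialLinear (Fin 3) F, g⁻¹ * x * g ∈ Cfsg.Geo.subgroupNormalizer R := by
  let L : GL (Fin 3) F := Matrix.GeneralLinearGroup.mkOfDetNeZero (l • (1 : Matrix (Fin 3) (Fin 3) F))
    (by rw [Matrix.det_smul, Matrix.det_one, mul_one]; exact pow_ne_zero _ hl)
  have hL : ∀ a : GL (Fin 3) F, L * a = a * L := fun a => Units.ext (by
    show (l • (1 : Matrix (Fin 3) (Fin 3) F)) * a = a * (l • (1 : Matrix (Fin 3) (Fin 3) F))
    rw [smul_mul_assoc, one_mul, mul_smul_comm, mul_one])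
  have hA : ((x * L⁻¹ : GL (Fin 3) F) : Matrix (Fin 3) (Fin 3) F) = l⁻¹ • (x : Matrix (Fin 3) (Fin 3) F) := by
    have h1 : ((x * L⁻¹ : GL (Fin 3) F) : Matrix (Fin 3) (Fin 3) F) * (l • 1) = x := congrArg Units.val (inv_mul_cancel_right x L)
    rw [mul_smul_comm, mul_one] at h1
    conv_rhs => rw [← h1, smul_smul, inv_mul_cancel₀ hl, one_smul]
  have hAk : ((x * L⁻¹ : GL (Fin 3) F) : Matrix (Fin 3) (Fin 3) F) ^ k = 1 := by
    rw [hA, _root_.smul_pow, hxk, smul_smul, inv_pow, hlz, inv_mul_cancel₀ (by rw [← hlz]; exact pow_ne_zero _ hl), one_smul]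
  obtain ⟨j, hj, hjc, hjd⟩ := triple hk hkF hζ hAk (fun w hw => hns (l * w) (by
    rw [hA] at hw
    rw [← smul_smul, ← hw, smul_smul, mul_inv_cancel₀ hl, one_smul]))
  rw [hA, Matrix.det_smul, hxd, mul_one, Fintype.card_fin] at hjd
  obtain ⟨T, hTk, hTD, hTS, hTc⟩ := hT j hj hjd.symm
  obtain ⟨g, hg, hgx⟩ := conj_semisimple (by norm_num) (x * L⁻¹) (Q * T * Q⁻¹) k hkF hAk (by
      rw [← Units.val_pow_eq_pow_val, conj_pow, Units.val_mul, Units.val_mul, Units.val_pow_eq_pow_val, hTk, mul_one,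
        ← Units.val_mul, mul_inv_cancel, Units.val_one])
    (by
      have h : ((Q * T * Q⁻¹ : GL (Fin 3) F) : Matrix (Fin 3) (Fin 3) F).charpoly = (T : Matrix (Fin 3) (Fin 3) F).charpoly := by
        rw [Units.val_mul, Units.val_mul, Matrix.coe_units_inv]
        exact Matrix.charpoly_units_conj Q (T : Matrix (Fin 3) (Fin 3) F)
      rw [h, hTc, hjc])
  refine ⟨g, hg, ?_⟩
  have : g⁻¹ * x * g = Q * T * Q⁻¹ * L := by
    rw [← hgx, mul_assoc _ g L, ← hL g]; simp [mul_assoc]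
  rw [this]
  refine mul_mem (mem_norm hK hTD hTS) (Subgroup.mem_normalizer_iff.2 fun u => ?_)
  rw [hL, mul_inv_cancel_right]

/-- Elements of prime order of PSL_3(p), p ≡ 1 (mod 3), and the normalizer of an extraspecial subgroup of order 27. Here `T = PSL_3(F)` for the field `F` with `p` elements, `p` a prime with `p ≡ 1 (mod 3)`; `R` is a non-abelian subgroup of GL_3(F) of order 27 and exponent 3 (an extraspecial group 3^{1+2}, acting absolutely irreducibly), and `H` is the subgroup of matrices of determinant 1 normalizing `R` — a subgroup of type 3^{1+2}.Sp₂(3) (maximality is not assumed). Ω is the set of cosets of `H` in `T`, so an element of `T` of prime order `r` (a matrix `x` of determinant 1 with `x^r` scalar, `x` not scalar) fixes a point of Ω exactly when some conjugate of `x` by a matrix of determinant 1 normalizes `R`. Let `r` be a prime dividing the index of `H`. Then every element of `T` of order `r` fixes a point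 of Ω if and only if `r = 2`, or `r = 3` and `p ≡ 1 (mod 9)`. -/
theorem result {F : Type*} [Field F] [Fintype F] {p : ℕ} [Fact p.Prime] [CharP F p] (hF : Fintype.card F = p) (hp3 : p % 3 = 1)
    (R : Subgroup (GL (Fin 3) F)) (hR : Nat.card R = 27) (hRe : Monoid.exponent R = 3) (hRna : ¬ IsMulCommutative R)
    (r : ℕ) [Fact r.Prime]
    (hΩ : r ∣ (Cfsg.Geo.subgroupNormalizer R).relIndex (Cfsg.Geo.specialLinear (Fin 3) F)) :
    (∀ x ∈ Cfsg.Geo.specialLinear (Fin 3) F, (∃ z : F, ((x ^ r : GL (Fin 3) F) : Matrix (Fin 3) (Fin 3) F) = z • (1 : Matrix (Fin 3) (Fin 3) F)) →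
      (∀ z : F, (x : Matrix (Fin 3) (Fin 3) F) ≠ z • (1 : Matrix (Fin 3) (Fin 3) F)) →
      ∃ g ∈ Cfsg.Geo.specialLinear (Fin 3) F, g⁻¹ * x * g ∈ Cfsg.Geo.subgroupNormalizer R) ↔ (r = 2 ∨ (r = 3 ∧ p % 9 = 1)) := by
  classical
  obtain ⟨hr⟩ := (inferInstance : Fact r.Prime)
  obtain ⟨hp⟩ := (inferInstance : Fact p.Prime)
  haveI : Fact (Nat.Prime 3) := ⟨Nat.prime_three⟩
  have h3 : 3 ∣ Fintype.card F - 1 := by rw [hF]; omega
  have hp7 : 7 ≤ p := by
    have := hp.two_le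
    by_contra h
    interval_cases p <;> first | omega | exact absurd hp (by decide)
  have hcast : ∀ k : ℕ, 0 < k → k < 7 → (k : F) ≠ 0 := fun k h0 hk h => by
    have := Nat.le_of_dvd h0 ((CharP.cast_eq_zero_iff F p k).1 h)
    omega
  obtain ⟨ω, Q, D, S, hω, hω1, hD, hS, hK⟩ := exists_std h3 R hR hRe hRna
  haveI : Finite R := Nat.finite_of_card_ne_zero (by omega)
  set K := Subgroup.closure ({D, S} : Set (GL (Fin 3) F))
  have hDm : D ∈ K := Subgroup.subset_closure (Set.mem_insert _ _)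
  have hSm : S ∈ K := Subgroup.subset_closure (Set.mem_insert_of_mem _ rfl)
  have hRN : R ≤ Cfsg.Geo.specialLinear (Fin 3) F ⊓ Cfsg.Geo.subgroupNormalizer R := by
    refine le_inf ?_ Subgroup.le_normalizer
    rw [← hK, Subgroup.map_le_iff_le_comap, Subgroup.closure_le]
    have hQ : ∀ a : GL (Fin 3) F, Matrix.GeneralLinearGroup.det (Q * a * Q⁻¹) = Matrix.GeneralLinearGroup.det a := fun a => by
      rw [map_mul, map_mul, map_inv, mul_inv_cancel_comm]
    rintro a (rfl | rfl) <;> show Matrix.GeneralLinearGroup.det (Q * _ * Q⁻¹) = 1 <;> rw [hQ] <;> refine Units.ext ?_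
    · show (a : Matrix (Fin 3) (Fin 3) F).det = 1
      rw [hD, Dm, det_fin_three]; simp; linear_combination hω
    · show (a : Matrix (Fin 3) (Fin 3) F).det = 1
      rw [hS, Sm, det_fin_three]; simp
  constructor
  · intro hall
    by_contra hne
    push Not at hne
    rcases eq_or_ne r 3 with rfl | hr3
    · have hp9 : p % 9 = 4 ∨ p % 9 = 7 := by have := hne.2 rfl; omega
      have h27 : 27 ∣ Nat.card ↥(Cfsg.Geo.specialLinear (Fin 3) F ⊓ Cfsg.Geo.subgroupNormalizer R) := hR ▸ Subgroup.card_dvd_of_le hRN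
      have hsplit := ((Cfsg.Geo.subgroupNormalizer R).subgroupOf (Cfsg.Geo.specialLinear (Fin 3) F)).index_mul_card
      rw [Nat.card_congr (Subgroup.subgroupOfEquivOfLe (inf_le_left : Cfsg.Geo.specialLinear (Fin 3) F ⊓ Cfsg.Geo.subgroupNormalizer R ≤ _)).toEquiv.symm,
        show (Cfsg.Geo.specialLinear (Fin 3) F ⊓ Cfsg.Geo.subgroupNormalizer R).subgroupOf (Cfsg.Geo.specialLinear (Fin 3) F) =
          (Cfsg.Geo.subgroupNormalizer R).subgroupOf (Cfsg.Geo.specialLinear (Fin 3) F) from Subgroup.inf_subgroupOf_left _ _] at h27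
      have h81 : 81 ∣ Nat.card (Cfsg.Geo.specialLinear (Fin 3) F) := hsplit ▸ (Nat.mul_dvd_mul hΩ h27 : 3 * 27 ∣ _)
      have hdet : Function.Surjective (Matrix.GeneralLinearGroup.det : GL (Fin 3) F →* Fˣ) := fun u =>
        ⟨Matrix.GeneralLinearGroup.mkOfDetNeZero (diagonal ![(u : F), 1, 1]) (by simp [det_diagonal, Fin.prod_univ_three]),
          Units.ext (by show (diagonal ![(u : F), 1, 1]).det = _; simp [det_diagonal, Fin.prod_univ_three])⟩
      have hcard := (Matrix.GeneralLinearGroup.det : GL (Fin 3) F →* Fˣ).ker.index_mul_card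
      rw [Subgroup.index_ker, MonoidHom.range_eq_top.2 hdet, Subgroup.card_top, Matrix.card_GL_field, Fin.prod_univ_three,
        Nat.card_eq_fintype_card, Fintype.card_units, hF] at hcard
      obtain ⟨M, hM⟩ := h81
      change (p - 1) * Nat.card (Cfsg.Geo.specialLinear (Fin 3) F) = _ at hcard
      rw [hM] at hcard
      obtain ⟨k, rfl⟩ : ∃ k, p = 3 * k + 1 := ⟨p / 3, by omega⟩
      have e1 : (3 * k + 1) ^ 3 = 27 * k ^ 3 + 27 * k ^ 2 + 9 * k + 1 := by ring
      have e2 : (3 * k + 1) ^ 2 = 9 * k ^ 2 + 6 * k + 1 := by ring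
      simp only [Fin.val_zero, Fin.val_one, Fin.val_two, pow_zero, pow_one] at hcard
      rw [e1, e2, show 27 * k ^ 3 + 27 * k ^ 2 + 9 * k + 1 - 1 = 9 * k * (3 * k ^ 2 + 3 * k + 1) by ring_nf; omega,
        show 27 * k ^ 3 + 27 * k ^ 2 + 9 * k + 1 - (3 * k + 1) = 3 * k * (3 * k + 1) * (3 * k + 2) by ring_nf; omega,
        show 27 * k ^ 3 + 27 * k ^ 2 + 9 * k + 1 - (9 * k ^ 2 + 6 * k + 1) = 3 * k * (3 * k + 1) ^ 2 by ring_nf; omega,
        show 3 * k + 1 - 1 = 3 * k by omega] at hcard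
      have hk0 : 0 < k := by omega
      have h1 : (3 : ℕ) * M = k ^ 2 * ((3 * k ^ 2 + 3 * k + 1) * (3 * k + 1) ^ 3 * (3 * k + 2)) :=
        Nat.eq_of_mul_eq_mul_left (show 0 < 81 * k by omega) (by linarith [hcard])
      have h2 : 3 ∣ k ^ 2 * ((3 * k ^ 2 + 3 * k + 1) * (3 * k + 1) ^ 3 * (3 * k + 2)) := Dvd.intro M h1
      rcases Nat.prime_three.dvd_mul.1 h2 with h | h
      · have := Nat.prime_three.dvd_of_dvd_pow h
        omega
      rcases Nat.prime_three.dvd_mul.1 h with h | h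
      · rcases Nat.prime_three.dvd_mul.1 h with h | h
        · omega
        · have := Nat.prime_three.dvd_of_dvd_pow h; omega
      · omega
    have h5 : 5 ≤ r := by
      have := hr.two_le
      by_contra h
      interval_cases r <;> first | exact hne.1 rfl | exact hr3 rfl | exact absurd hr (by decide)
    have hdvd : r ∣ Nat.card (Cfsg.Geo.specialLinear (Fin 3) F) := hΩ.trans (Subgroup.index_dvd_card _)
    obtain ⟨x, hx⟩ := exists_prime_orderOf_dvd_card' r hdvd
    have hxr : ((x : GL (Fin 3) F) ^ r : GL (Fin 3) F) = 1 := by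
      rw [← SubmonoidClass.coe_pow, ← hx, pow_orderOf_eq_one]; rfl
    have hxd : ((x : GL (Fin 3) F) : Matrix (Fin 3) (Fin 3) F).det = 1 := congrArg Units.val (MonoidHom.mem_ker.1 x.2)
    have hns : ∀ z : F, ((x : GL (Fin 3) F) : Matrix (Fin 3) (Fin 3) F) ≠ z • 1 := by
      intro z hz
      have h1 := hxd
      rw [hz, Matrix.det_smul, Matrix.det_one, mul_one, Fintype.card_fin] at h1
      have h2' : z ^ r = 1 := by
        have h3 := congrArg Units.val hxr
        rw [Units.val_pow_eq_pow_val, hz, _root_.smul_pow, one_pow] at h3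
        have := congrFun (congrFun h3 0) 0
        simpa using this
      have hz1 : z = 1 := by
        have := pow_gcd_eq_one.2 ⟨h1, h2'⟩
        rwa [Nat.Coprime.gcd_eq_one ((Nat.coprime_primes Nat.prime_three hr).2 hr3.symm), pow_one] at this
      have : x = 1 := Subtype.ext (Units.ext (by rw [hz, hz1, one_smul]; rfl))
      rw [this, orderOf_one] at hx
      exact hr.one_lt.ne hx
    obtain ⟨g, -, hg⟩ := hall x x.2 ⟨1, by rw [hxr, one_smul]; rfl⟩ hns
    obtain ⟨z, hz⟩ := big_prime hω hω1 hR hD hS hK h5 (g⁻¹ * x * g) hg (by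
      have := conj_pow (i := r) (a := g⁻¹) (b := (x : GL (Fin 3) F))
      rwa [inv_inv, hxr, mul_one, inv_mul_cancel] at this)
    refine hns z ?_
    have h : ((x : GL (Fin 3) F) : Matrix (Fin 3) (Fin 3) F) = (g : Matrix (Fin 3) (Fin 3) F) * ((g⁻¹ * x * g : GL (Fin 3) F) : Matrix (Fin 3) (Fin 3) F) * (g⁻¹ : GL (Fin 3) F) := by
      rw [← Units.val_mul, ← Units.val_mul]; simp [mul_assoc]
    rw [h, hz, mul_smul_comm, mul_one, smul_mul_assoc, ← Units.val_mul, mul_inv_cancel, Units.val_one]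
  · intro hr' x hxSL hx1 hns
    obtain ⟨z, hz⟩ := hx1
    rw [Units.val_pow_eq_pow_val] at hz
    have hxd : (x : Matrix (Fin 3) (Fin 3) F).det = 1 := congrArg Units.val (MonoidHom.mem_ker.1 hxSL)
    have hz3 : z ^ 3 = 1 := by
      have h1 := congrArg Matrix.det hz
      rw [Matrix.det_pow, hxd, one_pow, Matrix.det_smul, Matrix.det_one, mul_one, Fintype.card_fin] at h1
      exact h1.symm
    -- conjugate after scaling
    have key := fun k ζ l hk hk7 => scaled_conj hK x hxd hns (z := z) k ζ l hk (hcast k hk hk7)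
    rcases hr' with rfl | ⟨rfl, hp9⟩
    · refine key 2 (-1) (z ^ 2) (by norm_num) (by norm_num) (IsPrimitiveRoot.neg_one p (by omega))
        (pow_ne_zero _ fun h => by rw [h] at hz3; simp at hz3) (by linear_combination z * hz3) ?_ hz
      intro j hj hsum
      have hz2 : ((z ^ 2)⁻¹) ^ 3 = (1 : F) := by rw [inv_pow, ← pow_mul, mul_comm, pow_mul, hz3, one_pow, inv_one]
      rw [hz2] at hsum
      have hev : Even (∑ i, (j i : ℕ)) := by
        by_contra h
        rw [Nat.not_even_iff_odd] at h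
        rw [h.neg_one_pow] at hsum
        exact hcast 2 (by norm_num) (by norm_num) (by push_cast; linear_combination -hsum)
      have hdec : ∀ j : Fin 3 → Fin 2, (∀ a : Fin 2, ∃ i, j i ≠ a) → (∑ i, (j i : ℕ)) % 2 = 0 →
          ∃ σ : Equiv.Perm (Fin 3), ∀ i, j i = ![(0 : Fin 2), 1, 1] (σ i) := by decide
      obtain ⟨σ, hσ⟩ := hdec j hj (Nat.even_iff.1 hev)
      let T : GL (Fin 3) F := Matrix.GeneralLinearGroup.mkOfDetNeZero !![-1, 0, 0; 0, 0, -1; 0, -1, 0]
        (by simp [det_fin_three])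
      have hTm : (T : Matrix (Fin 3) (Fin 3) F) = !![-1, 0, 0; 0, 0, -1; 0, -1, 0] := rfl
      refine ⟨T, ?_, ?_, ?_, ?_⟩
      · rw [hTm, pow_two]; ext a b; fin_cases a <;> fin_cases b <;> simp [Matrix.mul_apply, Fin.sum_univ_three]
      · rw [show T * D * T⁻¹ = D * D by
          rw [mul_inv_eq_iff_eq_mul]; refine Units.ext ?_
          rw [Units.val_mul, Units.val_mul, Units.val_mul, hTm, hD]
          ext a b; fin_cases a <;> fin_cases b <;> simp [Dm, Matrix.mul_apply, Fin.sum_univ_three] <;> first | (ring1) | linear_combination -ω * hω | linear_combination ω * hω | linear_combination hω | linear_combination -hω]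
        exact mul_mem hDm hDm
      · rw [show T * S * T⁻¹ = S * S by
          rw [mul_inv_eq_iff_eq_mul]; refine Units.ext ?_
          rw [Units.val_mul, Units.val_mul, Units.val_mul, hTm, hS]
          ext a b; fin_cases a <;> fin_cases b <;> simp [Sm, Matrix.mul_apply, Fin.sum_univ_three]]
        exact mul_mem hSm hSm
      · rw [Finset.prod_congr rfl fun i _ => by rw [hσ i], Equiv.prod_comp σ fun i => X - Polynomial.C ((-1 : F) ^ ((![(0 : Fin 2), 1, 1] i : Fin 2) : ℕ)),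
          hTm, Fin.prod_univ_three, Matrix.charpoly, det_fin_three]
        simp [Matrix.charmatrix_apply]
        ring
    · obtain ⟨l, hl⟩ : ∃ l : F, l ^ 3 = z := by
        have hz0 : z ≠ 0 := fun h => by rw [h] at hz3; simp at hz3
        obtain ⟨g, hg⟩ := IsCyclic.exists_generator (α := Fˣ)
        obtain ⟨j, hj⟩ := (mem_powers_iff_mem_zpowers.2 (hg (Units.mk0 z hz0)) : Units.mk0 z hz0 ∈ Submonoid.powers g)
        have h1 : g ^ (j * 3) = 1 := by
          rw [pow_mul, show g ^ j = Units.mk0 z hz0 from hj]; exact Units.ext (by simpa using hz3)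
        have h2 := orderOf_dvd_of_pow_eq_one h1
        rw [orderOf_eq_card_of_forall_mem_zpowers hg, Nat.card_eq_fintype_card, Fintype.card_units, hF] at h2
        obtain ⟨i, hi⟩ : 3 ∣ j := (Nat.mul_dvd_mul_iff_right (by norm_num : 0 < 3)).1 ((show 3 * 3 ∣ p - 1 by omega).trans h2)
        refine ⟨((g ^ i : Fˣ) : F), ?_⟩
        rw [← Units.val_pow_eq_pow_val, ← pow_mul, mul_comm, ← hi, show g ^ j = Units.mk0 z hz0 from hj, Units.val_mk0]
      have hl0 : l ≠ 0 := fun h => by rw [← hl, h] at hz3; simp at hz3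
      refine key 3 ω l (by norm_num) (by norm_num) ?_ hl0 hl ?_ hz
      · exact IsPrimitiveRoot.mk_of_lt ω (by norm_num) hω fun i hi0 hi => by
          interval_cases i
          · rwa [pow_one]
          · exact fun h => hω1 (by rw [pow_succ, h, one_mul] at hω; exact hω)
      intro j _ _
      let T : GL (Fin 3) F := Matrix.GeneralLinearGroup.mkOfDetNeZero (diagonal fun i => ω ^ (j i : ℕ)) (by
        rw [det_diagonal, Finset.prod_ne_zero_iff]
        exact fun i _ => pow_ne_zero _ fun h => by rw [h] at hω; simp at hω)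
      have hTm : (T : Matrix (Fin 3) (Fin 3) F) = diagonal fun i => ω ^ (j i : ℕ) := rfl
      obtain ⟨h1, m, n, h2⟩ := diag_norm hω j
      refine ⟨T, ?_, ?_, ?_, ?_⟩
      · rw [hTm, diagonal_pow, ← diagonal_one]
        congr 1; funext i
        rw [Pi.pow_apply, ← pow_mul, mul_comm, pow_mul, hω, one_pow]
      · rw [show T * D * T⁻¹ = D by
          rw [mul_inv_eq_iff_eq_mul]; refine Units.ext ?_
          rw [Units.val_mul, Units.val_mul, hTm, hD]; exact h1]
        exact hDm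
      · set c := D * S * D⁻¹ * S⁻¹
        have hc : (c : Matrix (Fin 3) (Fin 3) F) = ω • 1 := by
          rw [Units.val_mul, Units.val_mul, Units.val_mul, hD, hS, Dm_Sm hω, ← hS, ← hD, smul_mul_assoc, smul_mul_assoc]
          simp [mul_assoc]
        rw [show T * S * T⁻¹ = S * (c ^ m * D ^ n) by
          rw [mul_inv_eq_iff_eq_mul]; refine Units.ext ?_
          rw [Units.val_mul, Units.val_mul, Units.val_mul, Units.val_mul, Units.val_pow_eq_pow_val, Units.val_pow_eq_pow_val, hTm, hS, hc, hD,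
            _root_.smul_pow, one_pow, smul_mul_assoc, one_mul]
          exact h2]
        exact mul_mem hSm (mul_mem (pow_mem (mul_mem (mul_mem (mul_mem hDm hSm) (inv_mem hDm)) (inv_mem hSm)) m) (pow_mem hDm n))
      · rw [hTm, Matrix.charpoly_diagonal]

end Cfsg.Agent.S5998
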