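import Cfsg.Statements.S5999
import Cfsg.Agent.S5998
import Cfsg.Agent.S5953
import Cfsg.Agent.Lib.Linear.IsotropicFix.UnitaryPair
-- import your own Cfsg.Agent.* helpers here

set_option autoImplicit false
open scoped MatrixGroups
open Cfsg

namespace Cfsg.Agent.S5999

open Module Polynomial Cfsg.Lib.Linear.Herm Cfsg.Lib.Linear.IsoFix Cfsg.Agent.S5998
open scoped Matrix

section Three

variable {F : Type*} [Field F] [Fintype F] {q : ℕ}

/-- Unitary elements of order prime to `p` with the same characteristic polynomial are conjugate in `SU`. -/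
theorem conj_unitary (hF : Fintype.card F = q ^ 2) {n k : ℕ} (hk : (k : F) ≠ 0) (hkq : k ∣ q + 1) {A B : GL (Fin n) F}
    (hA : IsU hF (A : Matrix (Fin n) (Fin n) F)) (hBU : IsU hF (B : Matrix (Fin n) (Fin n) F))
    (hAk : (A : Matrix (Fin n) (Fin n) F) ^ k = 1) (hBk : (B : Matrix (Fin n) (Fin n) F) ^ k = 1)
    {lam : F} (hlk : lam ^ k = 1) (hev : (A : Matrix (Fin n) (Fin n) F).charpoly.IsRoot lam)
    (h : (A : Matrix (Fin n) (Fin n) F).charpoly = (B : Matrix (Fin n) (Fin n) F).charpoly) :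
    ∃ g ∈ Cfsg.GU n F q ⊓ Cfsg.Geo.specialLinear (Fin n) F, g⁻¹ * A * g = B := by
  classical
  obtain ⟨U, hU, hUA⟩ := isConj_u hF hk hA hBU hAk hBk h
  have hlq : lam ^ (q + 1) = 1 := by
    obtain ⟨t, ht⟩ := hkq
    rw [ht, pow_mul, hlk, one_pow]
  -- an anisotropic eigenvector
  obtain ⟨x, hx0, hx⟩ : ∃ x, x ≠ 0 ∧ (A : Matrix (Fin n) (Fin n) F) *ᵥ x = lam • x := by
    have h1 : (Matrix.scalar (Fin n) lam - (A : Matrix (Fin n) (Fin n) F)).det = 0 := by
      rw [← Matrix.eval_charpoly]; exact hev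
    obtain ⟨v, hv, hv'⟩ := Matrix.exists_mulVec_eq_zero_iff.2 h1
    refine ⟨v, hv, ?_⟩
    rw [Matrix.sub_mulVec, sub_eq_zero] at hv'
    rw [← hv', Matrix.scalar_apply]
    funext i
    simp [Matrix.mulVec_diagonal]
  have hpow : ∀ j : ℕ, ((A : Matrix (Fin n) (Fin n) F) ^ j) *ᵥ x = lam ^ j • x := fun j => by
    induction j with
    | zero => simp
    | succ j ih => rw [pow_succ, ← Matrix.mulVec_mulVec, hx, Matrix.mulVec_smul, ih, smul_smul, pow_succ']
  have hev' : ∀ (j : ℕ) y, hB hF n x (((A : Matrix (Fin n) (Fin n) F) ^ j) *ᵥ y) = lam ^ j * hB hF n x y := fun j y => by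
    have h1 := (isU_iff hF _).1 (hA.pow hF j) x y
    rw [hpow, LinearMap.map_smulₛₗ, LinearMap.smul_apply, smul_eq_mul, frob_apply] at h1
    have h2 : lam ^ j * ((lam ^ j) ^ q) = 1 := by rw [← pow_succ', ← pow_mul, mul_comm, pow_mul, hlq, one_pow]
    rw [← h1, ← mul_assoc, h2, one_mul]
  obtain ⟨w, hw⟩ : ∃ w, hB hF n x w ≠ 0 := by
    by_contra h0
    push Not at h0
    exact hx0 ((hB_nondegenerate hF n).1 x h0)
  let P : (Fin n → F) → Fin n → F := fun y =>
    ∑ j ∈ Finset.range k, (lam ^ j)⁻¹ • ((A : Matrix (Fin n) (Fin n) F) ^ j) *ᵥ y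
  have hlam0 : lam ≠ 0 := fun h0 => by rw [h0, zero_pow (Nat.add_one_ne_zero q)] at hlq; exact zero_ne_one hlq
  have hPA : ∀ y, (A : Matrix (Fin n) (Fin n) F) *ᵥ P y = lam • P y := fun y => by
    let f : ℕ → Fin n → F := fun j => (lam ^ j)⁻¹ • ((A : Matrix (Fin n) (Fin n) F) ^ j) *ᵥ y
    have h1 : (A : Matrix (Fin n) (Fin n) F) *ᵥ P y = lam • ∑ j ∈ Finset.range k, f (j + 1) := by
      rw [Matrix.mulVec_sum, Finset.smul_sum]
      refine Finset.sum_congr rfl fun j _ => ?_
      rw [Matrix.mulVec_smul, Matrix.mulVec_mulVec, ← pow_succ', smul_smul, pow_succ' lam, mul_inv,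
        mul_inv_cancel_left₀ hlam0]
    have h2 : f k = f 0 := by simp [f, hlk, hAk]
    have h3 : ∑ j ∈ Finset.range k, f (j + 1) = ∑ j ∈ Finset.range k, f j := by
      have h4 := Finset.sum_range_succ f k
      rw [Finset.sum_range_succ' f k, h2] at h4
      exact add_right_cancel h4
    rw [h1, h3]
  have hxP : hB hF n x (P w) = (k : F) * hB hF n x w := by
    simp only [P, map_sum, map_smul, smul_eq_mul, hev', ← mul_assoc, inv_mul_cancel₀ (pow_ne_zero _ hlam0), one_mul,
      Finset.sum_const, Finset.card_range, nsmul_eq_mul]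
  obtain ⟨v, hv, hvv⟩ : ∃ v, (A : Matrix (Fin n) (Fin n) F) *ᵥ v = lam • v ∧ hB hF n v v ≠ 0 := by
    by_contra h0
    push Not at h0
    obtain ⟨a, ha⟩ : ∃ a : F, a + frob hF a ≠ 0 ∨ frob hF a ≠ a := by
      by_contra h1
      push Not at h1
      exact frob_ne_id hF (RingHom.ext fun a => (h1 a).2)
    set c := hB hF n x (P w) with hc
    have hc0 : c ≠ 0 := hxP ▸ mul_ne_zero hk hw
    have hsym : hB hF n (P w) x = frob hF c := ((hB_isSymm hF n).eq x (P w)).symm
    have key : ∀ t : F, t * c + frob hF (t * c) = 0 := fun t => by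
      have h1 := h0 (x + t • P w) (by rw [Matrix.mulVec_add, Matrix.mulVec_smul, hx, hPA]; module)
      simp only [map_add, map_smul, LinearMap.add_apply, LinearMap.map_smulₛₗ, LinearMap.smul_apply, smul_eq_mul,
        h0 x hx, h0 _ (hPA w), mul_zero, add_zero, zero_add, hsym, ← hc] at h1
      rw [map_mul]
      linear_combination h1
    rcases ha with ha | ha
    · have h1 := key (a / c)
      rw [div_mul_cancel₀ _ hc0] at h1
      exact ha h1
    · obtain ⟨b, hb⟩ : ∃ b : F, b + frob hF b ≠ 0 := by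
        by_contra h1
        push Not at h1
        have h2 := h1 1
        rw [map_one] at h2
        refine ha ?_
        linear_combination h1 a - a * h2
      have h1 := key (b / c)
      rw [div_mul_cancel₀ _ hc0] at h1
      exact hb h1
  have hdU : U.det ^ (q + 1) = 1 := det_isU hF hU
  have hd0 : U.det ≠ 0 := fun h0 => by rw [h0, zero_pow (Nat.add_one_ne_zero q)] at hdU; exact zero_ne_one hdU
  set e := hB hF n v v with he
  have hee : frob hF e = e := (hB_isSymm hF n).eq v v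
  set a := (U.det)⁻¹ with ha
  have haa : frob hF a * a = 1 := by rw [frob_apply, ← pow_succ, ha, _root_.inv_pow, hdU, inv_one]
  set c := (a - 1) / e with hcdef
  let C : Matrix (Fin n) (Fin n) F := 1 + Matrix.vecMulVec v (c • fun i => frob hF (v i))
  have hC : ∀ y, C *ᵥ y = y + (c * hB hF n v y) • v := fun y => by
    rw [Matrix.add_mulVec, Matrix.one_mulVec, Matrix.vecMulVec_mulVec, smul_dotProduct, ← hB_dot, smul_eq_mul, op_smul_eq_smul]
  have hCU : IsU hF C := (isU_iff hF C).2 fun y z => by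
    have hyv : hB hF n y v = frob hF (hB hF n v y) := ((hB_isSymm hF n).eq v y).symm
    have hce : c * e = a - 1 := div_mul_cancel₀ _ hvv
    have hce' : frob hF c * e = frob hF a - 1 := by
      rw [← hee, ← map_mul, hce, map_sub, map_one]
    have hsum : frob hF c + c + frob hF c * c * e = 0 := by
      refine mul_right_cancel₀ hvv ?_
      rw [zero_mul]
      linear_combination (c * e + 1) * hce' + (frob hF a) * hce + haa
    rw [hC, hC]
    simp only [map_add, map_smul, LinearMap.add_apply, LinearMap.map_smulₛₗ, LinearMap.smul_apply, smul_eq_mul,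
      map_mul, hyv, ← he]
    linear_combination (frob hF (hB hF n v y) * hB hF n v z) * hsum
  have hCd : C.det = a := by
    show (1 + Matrix.vecMulVec v (c • fun i => frob hF (v i))).det = a
    rw [Matrix.vecMulVec_eq Unit, Matrix.det_one_add_replicateCol_mul_replicateRow, smul_dotProduct, ← hB_dot, smul_eq_mul,
      ← he, hcdef, div_mul_cancel₀ _ hvv, add_sub_cancel]
  have hCA : C * (A : Matrix (Fin n) (Fin n) F) = (A : Matrix (Fin n) (Fin n) F) * C :=
    Cfsg.Lib.Linear.Orth.mat_ext fun y => by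
      have h1 : hB hF n v ((A : Matrix (Fin n) (Fin n) F) *ᵥ y) = lam * hB hF n v y := by
        have h2 := (isU_iff hF _).1 hA v y
        rw [hv, LinearMap.map_smulₛₗ, LinearMap.smul_apply, smul_eq_mul, frob_apply] at h2
        rw [← h2, ← mul_assoc, ← pow_succ', hlq, one_mul]
      rw [← Matrix.mulVec_mulVec, ← Matrix.mulVec_mulVec, hC, hC, h1, Matrix.mulVec_add, Matrix.mulVec_smul, hv]
      module
  let M : GL (Fin n) F := (isU_unit hF (hU.mul hF hCU)).unit
  have hMv : (M : Matrix (Fin n) (Fin n) F) = U * C := rfl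
  refine ⟨M⁻¹, inv_mem ⟨(mem_GU_iff hF M).2 (hMv ▸ hU.mul hF hCU), (mem_sl_iff M).2 ?_⟩, ?_⟩
  · rw [hMv, Matrix.det_mul, hCd, ha, mul_inv_cancel₀ hd0]
  · rw [inv_inv, mul_inv_eq_iff_eq_mul]
    refine Units.ext ?_
    rw [Units.val_mul, Units.val_mul, hMv, mul_assoc, hCA, ← mul_assoc, hUA, mul_assoc]

/-- Elements of order dividing `q + 1` normalising the group are unitary. -/
theorem isU_of_norm (hF : Fintype.card F = q ^ 2) (hq3 : q % 3 = 2) {ω : F} (hω : ω ^ 3 = 1) (hω1 : ω ≠ 1)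
    {R : Subgroup (GL (Fin 3) F)} (hRU : R ≤ Cfsg.GU 3 F q) {Q D S : GL (Fin 3) F}
    (hD : (D : Matrix (Fin 3) (Fin 3) F) = Dm ω) (hS : (S : Matrix (Fin 3) (Fin 3) F) = Sm)
    (hK : (Subgroup.closure {D, S}).map (MulAut.conj Q).toMonoidHom = R)
    {k : ℕ} (hkq : k ∣ q + 1) {g : GL (Fin 3) F} (hg : g ∈ Cfsg.Geo.subgroupNormalizer R)
    (hgk : (g : Matrix (Fin 3) (Fin 3) F) ^ k = 1) : IsU hF (g : Matrix (Fin 3) (Fin 3) F) := by
  classical
  set G := (g : Matrix (Fin 3) (Fin 3) F)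
  set H := adj hF G * G with hH
  have hcomm : ∀ u ∈ R, H * (u : Matrix (Fin 3) (Fin 3) F) = (u : Matrix (Fin 3) (Fin 3) F) * H := by
    intro u hu
    have hv : g * u * g⁻¹ ∈ R := (Subgroup.mem_normalizer_iff.1 hg u).1 hu
    have hU := (mem_GU_iff hF _).1 (hRU hu)
    have hV : adj hF ((g * u * g⁻¹ : GL (Fin 3) F) : Matrix (Fin 3) (Fin 3) F) * ((g * u * g⁻¹ : GL (Fin 3) F) : Matrix (Fin 3) (Fin 3) F) = 1 :=
      (mem_GU_iff hF _).1 (hRU hv)
    have e : G * (u : Matrix (Fin 3) (Fin 3) F) = ((g * u * g⁻¹ : GL (Fin 3) F) : Matrix (Fin 3) (Fin 3) F) * G := by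
      rw [← Units.val_mul, ← Units.val_mul, inv_mul_cancel_right]
    have h1 : adj hF (u : Matrix (Fin 3) (Fin 3) F) * H * (u : Matrix (Fin 3) (Fin 3) F) = H := by
      rw [hH, show adj hF (u : Matrix (Fin 3) (Fin 3) F) * (adj hF G * G) * (u : Matrix (Fin 3) (Fin 3) F) =
        adj hF (G * (u : Matrix (Fin 3) (Fin 3) F)) * (G * (u : Matrix (Fin 3) (Fin 3) F)) by
          simp only [adj_mul, mul_assoc], e, adj_mul, mul_assoc, ← mul_assoc _ _ G, hV, one_mul]
    have h2 : (u : Matrix (Fin 3) (Fin 3) F) * adj hF (u : Matrix (Fin 3) (Fin 3) F) = 1 := mul_eq_one_comm.1 hU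
    calc H * (u : Matrix (Fin 3) (Fin 3) F)
        = (u : Matrix (Fin 3) (Fin 3) F) * adj hF (u : Matrix (Fin 3) (Fin 3) F) * (H * (u : Matrix (Fin 3) (Fin 3) F)) := by
          rw [h2, one_mul]
      _ = (u : Matrix (Fin 3) (Fin 3) F) * (adj hF (u : Matrix (Fin 3) (Fin 3) F) * H * (u : Matrix (Fin 3) (Fin 3) F)) := by
          simp only [mul_assoc]
      _ = _ := by rw [h1]
  have hmem : ∀ u ∈ Subgroup.closure ({D, S} : Set (GL (Fin 3) F)), Q * u * Q⁻¹ ∈ R := fun u hu => hK ▸ ⟨u, hu, rfl⟩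
  set X := (Q⁻¹ : GL (Fin 3) F).val * H * (Q : Matrix (Fin 3) (Fin 3) F) with hX
  have hXc : ∀ u ∈ Subgroup.closure ({D, S} : Set (GL (Fin 3) F)), X * (u : Matrix (Fin 3) (Fin 3) F) = (u : Matrix (Fin 3) (Fin 3) F) * X := by
    intro u hu
    have h := hcomm _ (hmem u hu)
    rw [Units.val_mul, Units.val_mul] at h
    have h1 := congrArg (fun Y => (Q⁻¹ : GL (Fin 3) F).val * Y * (Q : Matrix (Fin 3) (Fin 3) F)) h
    simp only [mul_assoc, Units.inv_mul, mul_one, Units.inv_mul_cancel_left] at h1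
    simp only [hX, mul_assoc]
    exact h1
  have hXs := comm_std hω hω1 (X := X) (hD ▸ hXc D (Subgroup.subset_closure (Set.mem_insert _ _)))
    (hS ▸ hXc S (Subgroup.subset_closure (Set.mem_insert_of_mem _ rfl)))
  obtain ⟨t, ht⟩ : ∃ t : F, H = t • 1 := ⟨X 0 0, by
    have h1 := congrArg (fun Y => (Q : Matrix (Fin 3) (Fin 3) F) * Y * (Q⁻¹ : GL (Fin 3) F).val) hXs
    rw [hX] at h1 ⊢
    simp only [mul_assoc, Units.mul_inv, mul_one, Units.mul_inv_cancel_left, mul_smul_comm, smul_mul_assoc, one_mul] at h1 ⊢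
    exact h1⟩
  have hd : G.det ^ k = 1 := by rw [← Matrix.det_pow, hgk, Matrix.det_one]
  have hd1 : G.det ^ (q + 1) = 1 := by
    obtain ⟨s, hs⟩ := hkq
    rw [hs, pow_mul, hd, one_pow]
  have hGG : adj hF G * G = t • 1 := by rw [← hH]; exact ht
  have ht3 : t ^ 3 = 1 := by
    have h1 := congrArg Matrix.det hGG
    rw [Matrix.det_mul, det_adj, frob_apply, ← pow_succ, hd1, Matrix.det_smul, Matrix.det_one, mul_one, Fintype.card_fin] at h1
    exact h1.symm
  have htq : t ^ q = t := by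
    have h1 := congrArg (adj hF) hGG
    rw [adj_mul, adj_adj, adj_smul, adj_one, hGG] at h1
    have h2 := congrFun (congrFun h1 0) 0
    simp only [Matrix.smul_apply, Matrix.one_apply_eq, smul_eq_mul, mul_one, frob_apply] at h2
    exact h2.symm
  have ht1 : t = 1 := by
    have ht0 : t ≠ 0 := fun h => by rw [h] at ht3; simp at ht3
    have h2 : t ^ (q - 1) = 1 := by
      apply mul_right_cancel₀ ht0
      rw [← pow_succ, Nat.sub_add_cancel (show 1 ≤ q by omega), htq, one_mul]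
    have h3 := pow_gcd_eq_one.2 ⟨ht3, h2⟩
    rwa [(Nat.Prime.coprime_iff_not_dvd Nat.prime_three).2 (by omega : ¬ 3 ∣ q - 1), pow_one] at h3
  show adj hF G * G = 1
  rw [← hH, ht, ht1, one_smul]

set_option maxHeartbeats 800000 in
/-- Scale and conjugate into the normaliser. -/
theorem scaled_conj_u (hF : Fintype.card F = q ^ 2) (hq3 : q % 3 = 2) {ω : F} (hω : ω ^ 3 = 1) (hω1 : ω ≠ 1)
    {R : Subgroup (GL (Fin 3) F)} [Finite R] (hRU : R ≤ Cfsg.GU 3 F q) {Q D S : GL (Fin 3) F}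
    (hD : (D : Matrix (Fin 3) (Fin 3) F) = Dm ω) (hS : (S : Matrix (Fin 3) (Fin 3) F) = Sm)
    (hK : (Subgroup.closure {D, S}).map (MulAut.conj Q).toMonoidHom = R) (x : GL (Fin 3) F)
    (hxU : IsU hF (x : Matrix (Fin 3) (Fin 3) F)) (hxd : (x : Matrix (Fin 3) (Fin 3) F).det = 1)
    (hns : ∀ z : F, (x : Matrix (Fin 3) (Fin 3) F) ≠ z • 1)
    {z : F} (k : ℕ) (ζ l : F) (hk : 0 < k) (hkq : k ∣ q + 1) (hkF : (k : F) ≠ 0) (hζ : IsPrimitiveRoot ζ k)
    (hlq : l ^ (q + 1) = 1) (hlz : l ^ k = z)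
    (hT : ∀ j : Fin 3 → Fin k, (∀ a : Fin k, ∃ i, j i ≠ a) → ζ ^ (∑ i, (j i : ℕ)) = (l⁻¹) ^ 3 →
      ∃ T : GL (Fin 3) F, (T : Matrix (Fin 3) (Fin 3) F) ^ k = 1 ∧ T * D * T⁻¹ ∈ Subgroup.closure {D, S} ∧
        T * S * T⁻¹ ∈ Subgroup.closure {D, S} ∧
        (T : Matrix (Fin 3) (Fin 3) F).charpoly = ∏ i, (X - Polynomial.C (ζ ^ (j i : ℕ))))
    (hxk : (x : Matrix (Fin 3) (Fin 3) F) ^ k = z • 1) :
    ∃ g ∈ Cfsg.GU 3 F q ⊓ Cfsg.Geo.specialLinear (Fin 3) F, g⁻¹ * x * g ∈ Cfsg.Geo.subgroupNormalizer R := by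
  classical
  have hl : l ≠ 0 := fun h => by rw [h, zero_pow (Nat.add_one_ne_zero q)] at hlq; exact zero_ne_one hlq
  let L : GL (Fin 3) F := Matrix.GeneralLinearGroup.mkOfDetNeZero (l • (1 : Matrix (Fin 3) (Fin 3) F))
    (by rw [Matrix.det_smul, Matrix.det_one, mul_one]; exact pow_ne_zero _ hl)
  have hL : ∀ a : GL (Fin 3) F, L * a = a * L := fun a => Units.ext (by
    show (l • (1 : Matrix (Fin 3) (Fin 3) F)) * a = a * (l • (1 : Matrix (Fin 3) (Fin 3) F))
    rw [smul_mul_assoc, one_mul, mul_smul_comm, mul_one])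
  have hA : ((x * L⁻¹ : GL (Fin 3) F) : Matrix (Fin 3) (Fin 3) F) = l⁻¹ • (x : Matrix (Fin 3) (Fin 3) F) := by
    have h1 : ((x * L⁻¹ : GL (Fin 3) F) : Matrix (Fin 3) (Fin 3) F) * (l • 1) = x := congrArg Units.val (inv_mul_cancel_right x L)
    rw [mul_smul_comm, mul_one] at h1
    conv_rhs => rw [← h1, smul_smul, inv_mul_cancel₀ hl, one_smul]
  have hAk : ((x * L⁻¹ : GL (Fin 3) F) : Matrix (Fin 3) (Fin 3) F) ^ k = 1 := by
    rw [hA, _root_.smul_pow, hxk, smul_smul, _root_.inv_pow, hlz, inv_mul_cancel₀ (by rw [← hlz]; exact pow_ne_zero _ hl), one_smul]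
  obtain ⟨j, hj, hjc, hjd⟩ := triple hk hkF hζ hAk (fun w hw => hns (l * w) (by
    rw [hA] at hw
    rw [← smul_smul, ← hw, smul_smul, mul_inv_cancel₀ hl, one_smul]))
  have hAU : IsU hF ((x * L⁻¹ : GL (Fin 3) F) : Matrix (Fin 3) (Fin 3) F) := by
    rw [hA]; exact hxU.smul hF (by rw [_root_.inv_pow, hlq, inv_one])
  rw [hA, Matrix.det_smul, hxd, mul_one, Fintype.card_fin] at hjd
  obtain ⟨T, hTk, hTD, hTS, hTc⟩ := hT j hj hjd.symm
  have hBk : ((Q * T * Q⁻¹ : GL (Fin 3) F) : Matrix (Fin 3) (Fin 3) F) ^ k = 1 := by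
    rw [← Units.val_pow_eq_pow_val, conj_pow, Units.val_mul, Units.val_mul, Units.val_pow_eq_pow_val, hTk, mul_one,
      ← Units.val_mul, mul_inv_cancel, Units.val_one]
  obtain ⟨g, hg, hgx⟩ := conj_unitary hF hkF hkq hAU
    (isU_of_norm hF hq3 hω hω1 hRU hD hS hK hkq (mem_norm hK hTD hTS) hBk) hAk hBk (lam := ζ ^ (j 0 : ℕ))
    (by rw [← pow_mul, mul_comm, pow_mul, hζ.pow_eq_one, one_pow])
    (by rw [hjc, Polynomial.IsRoot, eval_prod]; exact Finset.prod_eq_zero (Finset.mem_univ 0) (by simp))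
    (by
      have h : ((Q * T * Q⁻¹ : GL (Fin 3) F) : Matrix (Fin 3) (Fin 3) F).charpoly = (T : Matrix (Fin 3) (Fin 3) F).charpoly := by
        rw [Units.val_mul, Units.val_mul, Matrix.coe_units_inv]
        exact Matrix.charpoly_units_conj Q (T : Matrix (Fin 3) (Fin 3) F)
      rw [h, hTc, hjc])
  refine ⟨g, hg, ?_⟩
  have : g⁻¹ * x * g = Q * T * Q⁻¹ * L := by
    rw [← hgx, mul_assoc _ g L, ← hL g]; simp [mul_assoc]
  rw [this]
  refine mul_mem (mem_norm hK hTD hTS) (Subgroup.mem_normalizer_iff.2 fun u => ?_)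
  rw [hL, mul_inv_cancel_right]

end Three

/-- Elements of prime order of PSU_3(p), p ≡ 2 (mod 3), and the normalizer of an extraspecial subgroup of order 27. Here `T = PSU_3(p)` for a prime `p ≥ 5` with `p ≡ 2 (mod 3)`, realised through `SU_3(p)`, the matrices of determinant 1 over the field `F` with `p²` elements preserving the hermitian form `Σ uᵢvᵢ^p`; `R` is a non-abelian subgroup of order 27 and exponent 3 of the full unitary group of that form (an extraspecial group 3^{1+2}, acting absolutely irreducibly), and `H` is the subgroup of `SU_3(p)` normalizing `R` — a subgroup of type 3^{1+2}.Sp₂(3) (maximality is not assumed). Ω is the set of cosets of `H`, so an element of `T` of prime order `r` (`x ∈ SU_3(p)` with `x^r` scalar, `x` not scalar) fixes a point of Ω exactly when some `SU_3(p)`-conjugate of `x` normalizes `R`. Let `r` be a prime dividing the index of `H`. Then every element of `T` of order `r` fixes a point of Ω if and only if `r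 = 2`, or `r = 3` and `p ≡ 8 (mod 9)`. -/
theorem result {F : Type*} [Field F] [Fintype F] {p : ℕ} [Fact p.Prime] [CharP F p] (hF : Fintype.card F = p ^ 2) (hp : 5 ≤ p) (hp3 : p % 3 = 2)
    (R : Subgroup (GL (Fin 3) F)) (hRU : R ≤ Cfsg.GU 3 F p) (hR : Nat.card R = 27) (hRe : Monoid.exponent R = 3) (hRna : ¬ IsMulCommutative R)
    (r : ℕ) [Fact r.Prime]
    (hΩ : r ∣ (Cfsg.Geo.subgroupNormalizer R).relIndex (Cfsg.GU 3 F p ⊓ Cfsg.Geo.specialLinear (Fin 3) F)) :
    (∀ x ∈ Cfsg.GU 3 F p ⊓ Cfsg.Geo.specialLinear (Fin 3) F, (∃ z : F, ((x ^ r : GL (Fin 3) F) : Matrix (Fin 3) (Fin 3) F) = z • (1 : Matrix (Fin 3) (Fin 3) F)) →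
      (∀ z : F, (x : Matrix (Fin 3) (Fin 3) F) ≠ z • (1 : Matrix (Fin 3) (Fin 3) F)) →
      ∃ g ∈ Cfsg.GU 3 F p ⊓ Cfsg.Geo.specialLinear (Fin 3) F, g⁻¹ * x * g ∈ Cfsg.Geo.subgroupNormalizer R) ↔ (r = 2 ∨ (r = 3 ∧ p % 9 = 8)) := by
  classical
  obtain ⟨hr⟩ := (inferInstance : Fact r.Prime)
  have hp := (Fact.out : p.Prime)
  haveI : Fact (Nat.Prime 3) := ⟨Nat.prime_three⟩
  obtain ⟨t, ht⟩ : ∃ t, p = 3 * t + 2 := ⟨p / 3, by omega⟩
  have h3 : 3 ∣ Fintype.card F - 1 := by
    rw [hF, ht]; exact ⟨3 * t ^ 2 + 4 * t + 1, by ring_nf; omega⟩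
  have hodd : p % 2 = 1 := Nat.odd_iff.1 (hp.odd_of_ne_two (by omega))
  have hcast : ∀ k : ℕ, 0 < k → k < 5 → (k : F) ≠ 0 := fun k h0 hk h => by
    have := Nat.le_of_dvd h0 ((CharP.cast_eq_zero_iff F p k).1 h)
    omega
  obtain ⟨ω, Q, D, S, hω, hω1, hD, hS, hK⟩ := exists_std h3 R hR hRe hRna
  haveI : Finite R := Nat.finite_of_card_ne_zero (by omega)
  set K := Subgroup.closure ({D, S} : Set (GL (Fin 3) F))
  have hDm : D ∈ K := Subgroup.subset_closure (Set.mem_insert _ _)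
  have hSm : S ∈ K := Subgroup.subset_closure (Set.mem_insert_of_mem _ rfl)
  set G := Cfsg.GU 3 F p ⊓ Cfsg.Geo.specialLinear (Fin 3) F with hG
  have hRN : R ≤ G ⊓ Cfsg.Geo.subgroupNormalizer R := by
    refine le_inf (le_inf hRU ?_) Subgroup.le_normalizer
    rw [← hK, Subgroup.map_le_iff_le_comap, Subgroup.closure_le]
    have hQ : ∀ a : GL (Fin 3) F, Matrix.GeneralLinearGroup.det (Q * a * Q⁻¹) = Matrix.GeneralLinearGroup.det a := fun a => by
      rw [map_mul, map_mul, map_inv, mul_inv_cancel_comm]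
    rintro a (rfl | rfl) <;> show Matrix.GeneralLinearGroup.det (Q * _ * Q⁻¹) = 1 <;> rw [hQ] <;> refine Units.ext ?_
    · show (a : Matrix (Fin 3) (Fin 3) F).det = 1
      rw [hD, Dm, Matrix.det_fin_three]; simp; linear_combination hω
    · show (a : Matrix (Fin 3) (Fin 3) F).det = 1
      rw [hS, Sm, Matrix.det_fin_three]; simp
  constructor
  · intro hall
    by_contra hne
    push Not at hne
    rcases eq_or_ne r 3 with rfl | hr3
    · have h27 : 27 ∣ Nat.card ↥(G ⊓ Cfsg.Geo.subgroupNormalizer R) := hR ▸ Subgroup.card_dvd_of_le hRN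
      have hsplit := ((Cfsg.Geo.subgroupNormalizer R).subgroupOf G).index_mul_card
      rw [Nat.card_congr (Subgroup.subgroupOfEquivOfLe (inf_le_left : G ⊓ Cfsg.Geo.subgroupNormalizer R ≤ _)).toEquiv.symm,
        show (G ⊓ Cfsg.Geo.subgroupNormalizer R).subgroupOf G = (Cfsg.Geo.subgroupNormalizer R).subgroupOf G from
          Subgroup.inf_subgroupOf_left _ _] at h27
      obtain ⟨M, hM⟩ : 81 ∣ Nat.card G := hsplit ▸ (Nat.mul_dvd_mul hΩ h27 : 3 * 27 ∣ _)
      have hcard := card_su_gl hF (show 1 ≤ 3 by norm_num)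
      rw [← hG, hM, guCard] at hcard
      simp only [Finset.prod_range_succ, Finset.prod_range_zero, one_mul, Nat.reduceAdd, pow_one,
        show Even 0 from Even.zero, show ¬ Even 1 from Nat.not_even_one, show Even 2 from even_two, if_true, if_false,
        show 3 * (3 - 1) / 2 = 3 from rfl] at hcard
      rw [ht, show (3 * t + 2) ^ 2 - 1 = 3 * (t + 1) * (3 * t + 1) by ring_nf; omega,
        show (3 * t + 2) ^ 3 + 1 = 9 * (t + 1) * (3 * t ^ 2 + 3 * t + 1) by ring] at hcard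
      have h1 : 3 * M = (3 * t + 2) ^ 3 * (t + 1) ^ 2 * (3 * t + 1) * (3 * t ^ 2 + 3 * t + 1) := by
        refine Nat.eq_of_mul_eq_mul_left (show 0 < 81 * (t + 1) by positivity) ?_
        linarith [hcard]
      have h2 : 3 ∣ (3 * t + 2) ^ 3 * (t + 1) ^ 2 * (3 * t + 1) * (3 * t ^ 2 + 3 * t + 1) := Dvd.intro M h1
      have hp9 := hne.2 rfl
      rcases Nat.prime_three.dvd_mul.1 h2 with h | h
      · rcases Nat.prime_three.dvd_mul.1 h with h | h
        · rcases Nat.prime_three.dvd_mul.1 h with h | h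
          · have := Nat.prime_three.dvd_of_dvd_pow h; omega
          · have := Nat.prime_three.dvd_of_dvd_pow h; omega
        · omega
      · omega
    have h5 : 5 ≤ r := by
      have := hr.two_le
      by_contra h
      interval_cases r <;> first | exact hne.1 rfl | exact hr3 rfl | exact absurd hr (by decide)
    have hdvd : r ∣ Nat.card G := hΩ.trans (Subgroup.index_dvd_card _)
    obtain ⟨x, hx⟩ := exists_prime_orderOf_dvd_card' r hdvd
    have hxr : ((x : GL (Fin 3) F) ^ r : GL (Fin 3) F) = 1 := by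
      rw [← SubmonoidClass.coe_pow, ← hx, pow_orderOf_eq_one]; rfl
    have hxd : ((x : GL (Fin 3) F) : Matrix (Fin 3) (Fin 3) F).det = 1 := (mem_sl_iff _).1 x.2.2
    have hns : ∀ z : F, ((x : GL (Fin 3) F) : Matrix (Fin 3) (Fin 3) F) ≠ z • 1 := by
      intro z hz
      have h1 := hxd
      rw [hz, Matrix.det_smul, Matrix.det_one, mul_one, Fintype.card_fin] at h1
      have h2' : z ^ r = 1 := by
        have h3 := congrArg Units.val hxr
        rw [Units.val_pow_eq_pow_val, hz, _root_.smul_pow, one_pow] at h3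
        have := congrFun (congrFun h3 0) 0
        simpa using this
      have hz1 : z = 1 := by
        have := pow_gcd_eq_one.2 ⟨h1, h2'⟩
        rwa [Nat.Coprime.gcd_eq_one ((Nat.coprime_primes Nat.prime_three hr).2 hr3.symm), pow_one] at this
      have : x = 1 := Subtype.ext (Units.ext (by rw [hz, hz1, one_smul]; rfl))
      rw [this, orderOf_one] at hx
      exact hr.one_lt.ne hx
    obtain ⟨g, -, hg⟩ := hall x x.2 ⟨1, by rw [hxr, one_smul]; rfl⟩ hns
    obtain ⟨z, hz⟩ := big_prime hω hω1 hR hD hS hK h5 (g⁻¹ * x * g) hg (by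
      have := conj_pow (i := r) (a := g⁻¹) (b := (x : GL (Fin 3) F))
      rwa [inv_inv, hxr, mul_one, inv_mul_cancel] at this)
    refine hns z ?_
    have h : ((x : GL (Fin 3) F) : Matrix (Fin 3) (Fin 3) F) = (g : Matrix (Fin 3) (Fin 3) F) * ((g⁻¹ * x * g : GL (Fin 3) F) : Matrix (Fin 3) (Fin 3) F) * (g⁻¹ : GL (Fin 3) F) := by
      rw [← Units.val_mul, ← Units.val_mul]; simp [mul_assoc]
    rw [h, hz, mul_smul_comm, mul_one, smul_mul_assoc, ← Units.val_mul, mul_inv_cancel, Units.val_one]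
  · intro hr' x hxG hx1 hns
    obtain ⟨z, hz⟩ := hx1
    rw [Units.val_pow_eq_pow_val] at hz
    have hxU := (mem_GU_iff hF x).1 hxG.1
    have hxd : (x : Matrix (Fin 3) (Fin 3) F).det = 1 := (mem_sl_iff x).1 hxG.2
    have hz3 : z ^ 3 = 1 := by
      have h1 := congrArg Matrix.det hz
      rw [Matrix.det_pow, hxd, one_pow, Matrix.det_smul, Matrix.det_one, mul_one, Fintype.card_fin] at h1
      exact h1.symm
    have hzq : z ^ (p + 1) = 1 := Cfsg.Agent.S5953.norm_of_scalar hF (by norm_num) (hz ▸ hxU.pow hF r)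
    have key := fun k ζ l hk hkq hk5 => scaled_conj_u hF hp3 hω hω1 hRU hD hS hK x hxU hxd hns (z := z) k ζ l hk hkq (hcast k hk hk5)
    rcases hr' with rfl | ⟨rfl, hp9⟩
    · refine key 2 (-1) (z ^ 2) (by norm_num) (by omega) (by norm_num) (IsPrimitiveRoot.neg_one p (by omega))
        (by rw [← pow_mul, mul_comm, pow_mul, hzq, one_pow]) (by linear_combination z * hz3) ?_ hz
      intro j hj hsum
      have hz2 : ((z ^ 2)⁻¹) ^ 3 = (1 : F) := by rw [_root_.inv_pow, ← pow_mul, mul_comm, pow_mul, hz3, one_pow, inv_one]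
      rw [hz2] at hsum
      have hev : Even (∑ i, (j i : ℕ)) := by
        by_contra h
        rw [Nat.not_even_iff_odd] at h
        rw [h.neg_one_pow] at hsum
        exact hcast 2 (by norm_num) (by norm_num) (by push_cast; linear_combination -hsum)
      have hdec : ∀ j : Fin 3 → Fin 2, (∀ a : Fin 2, ∃ i, j i ≠ a) → (∑ i, (j i : ℕ)) % 2 = 0 →
          ∃ σ : Equiv.Perm (Fin 3), ∀ i, j i = ![(0 : Fin 2), 1, 1] (σ i) := by decide
      obtain ⟨σ, hσ⟩ := hdec j hj (Nat.even_iff.1 hev)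
      let T : GL (Fin 3) F := Matrix.GeneralLinearGroup.mkOfDetNeZero !![-1, 0, 0; 0, 0, -1; 0, -1, 0]
        (by simp [Matrix.det_fin_three])
      have hTm : (T : Matrix (Fin 3) (Fin 3) F) = !![-1, 0, 0; 0, 0, -1; 0, -1, 0] := rfl
      refine ⟨T, ?_, ?_, ?_, ?_⟩
      · rw [hTm, pow_two]; ext a b; fin_cases a <;> fin_cases b <;> simp [Matrix.mul_apply, Fin.sum_univ_three]
      · rw [show T * D * T⁻¹ = D * D by
          rw [mul_inv_eq_iff_eq_mul]; refine Units.ext ?_
          rw [Units.val_mul, Units.val_mul, Units.val_mul, hTm, hD]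
          ext a b; fin_cases a <;> fin_cases b <;> simp [Dm, Matrix.mul_apply, Fin.sum_univ_three] <;> first | (ring1) | linear_combination -ω * hω | linear_combination ω * hω | linear_combination hω | linear_combination -hω]
        exact mul_mem hDm hDm
      · rw [show T * S * T⁻¹ = S * S by
          rw [mul_inv_eq_iff_eq_mul]; refine Units.ext ?_
          rw [Units.val_mul, Units.val_mul, Units.val_mul, hTm, hS]
          ext a b; fin_cases a <;> fin_cases b <;> simp [Sm, Matrix.mul_apply, Fin.sum_univ_three]]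
        exact mul_mem hSm hSm
      · rw [Finset.prod_congr rfl fun i _ => by rw [hσ i], Equiv.prod_comp σ fun i => X - Polynomial.C ((-1 : F) ^ ((![(0 : Fin 2), 1, 1] i : Fin 2) : ℕ)),
          hTm, Fin.prod_univ_three, Matrix.charpoly, Matrix.det_fin_three]
        simp [Matrix.charmatrix_apply]
        ring
    · obtain ⟨e, he⟩ : 9 ∣ p + 1 := by omega
      obtain ⟨l, hl⟩ : ∃ l : F, l ^ 3 = z := by
        refine Cfsg.Agent.S5953.exists_root hF ⟨3 * e, by omega⟩ hzq ?_
        rw [he, show 9 * e * (p - 1) / 3 = 3 * (e * (p - 1)) by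
          rw [show 9 * e * (p - 1) = 3 * (3 * (e * (p - 1))) by ring, Nat.mul_div_cancel_left _ (by norm_num)],
          pow_mul, hz3, one_pow]
      refine key 3 ω l (by norm_num) (by omega) (by norm_num) ?_
        (by rw [he, show 9 * e = 3 * (3 * e) by ring, pow_mul, hl, pow_mul, hz3, one_pow]) hl ?_ hz
      · exact IsPrimitiveRoot.mk_of_lt ω (by norm_num) hω fun i hi0 hi => by
          interval_cases i
          · rwa [pow_one]
          · exact fun h => hω1 (by rw [pow_succ, h, one_mul] at hω; exact hω)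
      intro j _ _
      let T : GL (Fin 3) F := Matrix.GeneralLinearGroup.mkOfDetNeZero (Matrix.diagonal fun i => ω ^ (j i : ℕ)) (by
        rw [Matrix.det_diagonal, Finset.prod_ne_zero_iff]
        exact fun i _ => pow_ne_zero _ fun h => by rw [h] at hω; simp at hω)
      have hTm : (T : Matrix (Fin 3) (Fin 3) F) = Matrix.diagonal fun i => ω ^ (j i : ℕ) := rfl
      obtain ⟨h1, m, n, h2⟩ := diag_norm hω j
      refine ⟨T, ?_, ?_, ?_, ?_⟩
      · rw [hTm, Matrix.diagonal_pow, ← Matrix.diagonal_one]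
        congr 1; funext i
        rw [Pi.pow_apply, ← pow_mul, mul_comm, pow_mul, hω, one_pow]
      · rw [show T * D * T⁻¹ = D by
          rw [mul_inv_eq_iff_eq_mul]; refine Units.ext ?_
          rw [Units.val_mul, Units.val_mul, hTm, hD]; exact h1]
        exact hDm
      · set c := D * S * D⁻¹ * S⁻¹
        have hc : (c : Matrix (Fin 3) (Fin 3) F) = ω • 1 := by
          rw [Units.val_mul, Units.val_mul, Units.val_mul, hD, hS, Dm_Sm hω, ← hS, ← hD, smul_mul_assoc, smul_mul_assoc]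
          simp [mul_assoc]
        rw [show T * S * T⁻¹ = S * (c ^ m * D ^ n) by
          rw [mul_inv_eq_iff_eq_mul]; refine Units.ext ?_
          rw [Units.val_mul, Units.val_mul, Units.val_mul, Units.val_mul, Units.val_pow_eq_pow_val, Units.val_pow_eq_pow_val, hTm, hS, hc, hD,
            _root_.smul_pow, one_pow, smul_mul_assoc, one_mul]
          exact h2]
        exact mul_mem hSm (mul_mem (pow_mem (mul_mem (mul_mem (mul_mem hDm hSm) (inv_mem hDm)) (inv_mem hSm)) m) (pow_mem hDm n))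
      · rw [hTm, Matrix.charpoly_diagonal]

end Cfsg.Agent.S5999
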