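import Cfsg.Statements.S6002
import Cfsg.Agent.Lib.Linear.ExtraTwo.Elements
import Cfsg.Agent.Lib.Linear.ExtraTwo.Char
import Cfsg.Agent.Lib.Linear.ExtraTwo.Transvection
import Cfsg.Agent.Lib.Linear.SympConjApps
import Cfsg.Agent.S5961
-- import your own Cfsg.Agent.* helpers here

set_option autoImplicit false
open scoped MatrixGroups
open Cfsg

namespace Cfsg.Agent.S6002

open Cfsg.Lib.Linear.ExtraTwo Cfsg.Agent.Lib.Linear.PrimeClasses
open scoped Matrix

attribute [local instance] prime_five_fact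

/-- Squares modulo five. -/
theorem sq5 : ∀ x : ZMod 5, x ≠ 0 → ¬ (x = 2 ∨ x = 3) → IsSquare x := by decide

/-- The orders of residues modulo five. -/
theorem ord4_iff (x : ZMod 5) : orderOf x = 4 ↔ (x = 2 ∨ x = 3) := by
  haveI : Fact (Nat.Prime 2) := ⟨Nat.prime_two⟩
  constructor
  · intro h
    have key : ∀ x : ZMod 5, x ^ 2 = 1 ∨ x = 0 ∨ x = 2 ∨ x = 3 := by decide
    rcases key x with h1 | rfl | h1 | h1
    · have := Nat.le_of_dvd two_pos (orderOf_dvd_of_pow_eq_one h1); omega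
    · exact absurd (h ▸ pow_orderOf_eq_one (0 : ZMod 5) : (0 : ZMod 5) ^ 4 = 1) (by decide)
    · exact Or.inl h1
    · exact Or.inr h1
  · intro h
    refine orderOf_eq_prime_pow (p := 2) (n := 1) ?_ ?_
    · rcases h with rfl | rfl <;> decide
    · rcases h with rfl | rfl <;> decide

section Sp

variable {F : Type*} [Field F] [Fintype F]

/-- The matrix of the form. -/
abbrev Jm (F : Type*) [Field F] : Matrix (Fin 2 ⊕ Fin 2) (Fin 2 ⊕ Fin 2) F := Matrix.J (Fin 2) F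

omit [Fintype F] in
theorem mem_sp (x : GL (Fin 2 ⊕ Fin 2) F) :
    x ∈ Cfsg.spGL 2 F ↔ (x : Matrix (Fin 2 ⊕ Fin 2) (Fin 2 ⊕ Fin 2) F) ∈ Matrix.symplecticGroup (Fin 2) F := by
  rw [SymplecticGroup.mem_iff']
  have key : ∀ u v, Cfsg.sympForm 2 F ((x : Matrix (Fin 2 ⊕ Fin 2) (Fin 2 ⊕ Fin 2) F) *ᵥ u) ((x : Matrix (Fin 2 ⊕ Fin 2) (Fin 2 ⊕ Fin 2) F) *ᵥ v) =
      u ⬝ᵥ (((x : Matrix (Fin 2 ⊕ Fin 2) (Fin 2 ⊕ Fin 2) F)ᵀ * Jm F * (x : Matrix (Fin 2 ⊕ Fin 2) (Fin 2 ⊕ Fin 2) F)) *ᵥ v) := fun u v => by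
    rw [Cfsg.sympForm, mul_assoc, ← Matrix.mulVec_mulVec, ← Matrix.mulVec_mulVec, Matrix.dotProduct_mulVec u,
      Matrix.vecMul_transpose]
  constructor
  · intro h
    ext i j
    have h1 := h (Pi.single i 1) (Pi.single j 1)
    have h2 : Cfsg.sympForm 2 F (Pi.single i 1) (Pi.single j 1) = Jm F i j := by
      rw [Cfsg.sympForm, Matrix.mulVec_single_one, single_dotProduct, one_mul]; rfl
    have h3 := (key (Pi.single i 1) (Pi.single j 1)).symm.trans (h1.trans h2)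
    rw [Matrix.mulVec_single_one, single_dotProduct, one_mul] at h3
    exact h3
  · intro h u v
    exact (key u v).trans (by rw [show _ = Jm F from h]; rfl)

/-- The element of the general linear group of a symplectic matrix. -/
noncomputable def toGL {M : Matrix (Fin 2 ⊕ Fin 2) (Fin 2 ⊕ Fin 2) F} (hM : M ∈ Matrix.symplecticGroup (Fin 2) F) :
    GL (Fin 2 ⊕ Fin 2) F :=
  Matrix.GeneralLinearGroup.mkOfDetNeZero M (by rw [SymplecticGroup.det_eq_one hM]; exact one_ne_zero)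

omit [Fintype F] in
theorem det_sp {x : GL (Fin 2 ⊕ Fin 2) F} (hx : x ∈ Cfsg.spGL 2 F) :
    (x : Matrix (Fin 2 ⊕ Fin 2) (Fin 2 ⊕ Fin 2) F).det = 1 := SymplecticGroup.det_eq_one ((mem_sp x).1 hx)

omit [Fintype F] in
theorem trace_inv {x : GL (Fin 2 ⊕ Fin 2) F} (hx : x ∈ Cfsg.spGL 2 F) :
    ((x⁻¹ : GL (Fin 2 ⊕ Fin 2) F) : Matrix (Fin 2 ⊕ Fin 2) (Fin 2 ⊕ Fin 2) F).trace = (x : Matrix (Fin 2 ⊕ Fin 2) (Fin 2 ⊕ Fin 2) F).trace := by
  have hM := (mem_sp x).1 hx
  rw [Matrix.coe_units_inv, ← SymplecticGroup.coe_inv' ⟨_, hM⟩, SymplecticGroup.coe_inv]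
  rw [Matrix.trace_mul_cycle, mul_neg, Matrix.J_squared, neg_neg, one_mul, Matrix.trace_transpose]

/-- Scalars in the symplectic group. -/
theorem scalar_sp {x : GL (Fin 2 ⊕ Fin 2) F} (hx : x ∈ Cfsg.spGL 2 F) {z : F}
    (hz : (x : Matrix (Fin 2 ⊕ Fin 2) (Fin 2 ⊕ Fin 2) F) = z • 1) : z * z = 1 := by
  have h1 := SymplecticGroup.mem_iff'.1 ((mem_sp x).1 hx)
  rw [hz, Matrix.transpose_smul, Matrix.transpose_one, smul_mul_assoc, one_mul, smul_mul_smul_comm, mul_one] at h1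
  have h2 := congrFun (congrFun h1 (Sum.inr 0)) (Sum.inl 0)
  simpa [Matrix.J, Matrix.fromBlocks] using h2

/-- Conjugacy of semisimple symplectic elements. -/
theorem conj_sp {A B : GL (Fin 2 ⊕ Fin 2) F} (hA : A ∈ Cfsg.spGL 2 F) (hB : B ∈ Cfsg.spGL 2 F) {k : ℕ} (hk : (k : F) ≠ 0)
    (hAk : (A : Matrix (Fin 2 ⊕ Fin 2) (Fin 2 ⊕ Fin 2) F) ^ k = 1) (hBk : (B : Matrix (Fin 2 ⊕ Fin 2) (Fin 2 ⊕ Fin 2) F) ^ k = 1)
    (hc : (A : Matrix (Fin 2 ⊕ Fin 2) (Fin 2 ⊕ Fin 2) F).charpoly = (B : Matrix (Fin 2 ⊕ Fin 2) (Fin 2 ⊕ Fin 2) F).charpoly) :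
    ∃ g ∈ Cfsg.spGL 2 F, g⁻¹ * A * g = B := by
  let a : Matrix.symplecticGroup (Fin 2) F := ⟨_, (mem_sp A).1 hA⟩
  let b : Matrix.symplecticGroup (Fin 2) F := ⟨_, (mem_sp B).1 hB⟩
  have ha : a ^ k = 1 := Subtype.ext (by rw [SubmonoidClass.coe_pow]; exact hAk)
  have hb : b ^ k = 1 := Subtype.ext (by rw [SubmonoidClass.coe_pow]; exact hBk)
  have hN : ((orderOf a : ℕ) : F) ≠ 0 := fun h0 => by
    obtain ⟨t, ht⟩ := orderOf_dvd_of_pow_eq_one ha
    exact hk (by rw [ht, Nat.cast_mul, h0, zero_mul])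
  obtain ⟨c, hc'⟩ := isConj_iff.1 (Cfsg.Lib.Linear.SympConj.isConj_sp_of_isConj a b hN
    (Cfsg.Lib.Linear.SympConj.isConj_matrix_of_charpoly_eq a b hk hk ha hb hc))
  refine ⟨(toGL c.2)⁻¹, inv_mem ((mem_sp _).2 c.2), ?_⟩
  rw [inv_inv, mul_inv_eq_iff_eq_mul]
  refine Units.ext ?_
  rw [mul_inv_eq_iff_eq_mul] at hc'
  exact congrArg Subtype.val hc'

end Sp

section Test

variable {F : Type*} [Field F]

/-- The linear form cutting out the fixed hyperplane of the test element. -/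
def phi (F : Type*) [Field F] : (Fin 2 ⊕ Fin 2 → F) →ₗ[F] F :=
  LinearMap.proj (R := F) (φ := fun _ : Fin 2 ⊕ Fin 2 => F) (Sum.inl 0) +
    LinearMap.proj (R := F) (φ := fun _ : Fin 2 ⊕ Fin 2 => F) (Sum.inr 0)

/-- The test element. -/
def Tm (s : F) : Matrix (Fin 2 ⊕ Fin 2) (Fin 2 ⊕ Fin 2) F :=
  Matrix.fromBlocks !![0, 0; 0, 1] !![-1, 0; 0, 0] !![1, 0; 0, 0] !![s, 0; 0, 1]

/-- The inverse of the test element. -/
def Ti (s : F) : Matrix (Fin 2 ⊕ Fin 2) (Fin 2 ⊕ Fin 2) F :=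
  Matrix.fromBlocks !![s, 0; 0, 1] !![1, 0; 0, 0] !![-1, 0; 0, 0] !![0, 0; 0, 1]

theorem Tm_Ti (s : F) : Tm s * Ti s = 1 := by
  ext i j
  rcases i with i | i <;> rcases j with j | j <;> fin_cases i <;> fin_cases j <;>
    simp [Tm, Ti, Matrix.fromBlocks_multiply, Matrix.mul_apply, Fin.sum_univ_two]

theorem Tm_sp (s : F) : Tm s ∈ Matrix.symplecticGroup (Fin 2) F := by
  rw [SymplecticGroup.mem_iff']
  ext i j
  rcases i with i | i <;> rcases j with j | j <;> fin_cases i <;> fin_cases j <;>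
    simp [Tm, Matrix.J, Matrix.fromBlocks_transpose, Matrix.fromBlocks_multiply, Matrix.mul_apply, Fin.sum_univ_two]

theorem Tm_cubic (s : F) : (Tm s - 1) * (Tm s * Tm s - s • Tm s + 1) = 0 := by
  ext i j
  rcases i with i | i <;> rcases j with j | j <;> fin_cases i <;> fin_cases j <;>
    simp [Tm, Matrix.mul_apply, Fintype.sum_sum_type, Fin.sum_univ_two, Matrix.fromBlocks, Matrix.one_apply]

theorem trace_Tm (s : F) : (Tm s).trace = s + 2 := by
  simp [Tm, Matrix.trace, Fintype.sum_sum_type, Fin.sum_univ_two, Matrix.fromBlocks]; ring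

theorem trace_Ti (s : F) : (Ti s).trace = s + 2 := by
  simp [Ti, Matrix.trace, Fintype.sum_sum_type, Fin.sum_univ_two, Matrix.fromBlocks]; ring

theorem Tm_ne (s z : F) : Tm s ≠ z • 1 := fun h => by
  have h1 := congrFun (congrFun h (Sum.inr 0)) (Sum.inl 0)
  simp [Tm, Matrix.fromBlocks] at h1

end Test

/-- Elements of prime order of PSp_4(p), p odd, and the normalizer of an extraspecial 2-group of order 2⁵ of minus type. Here `T = PSp_4(F)` for the field `F` with `p` elements, `p` an odd prime, realised through the matrices preserving the standard alternating form `f`; `R` is an absolutely irreducible subgroup of `T` (it preserves `f`) that is a 2-group of symplectic type of exponent 4, order 2⁵ and centre of order 2, of minus type (no elementary abelian subgroup of order 2³), and `H` is the subgroup of `T` normalizing `R` — a subgroup of type 2^{1+4}.O₄⁻(2) (maximality is not assumed). Ω is the set of cosets of `H` in `T`,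 so an element of `T` of prime order `r` (`x ∈ T` with `x^r` scalar, `x` not scalar) fixes a point of Ω exactly when some `T`-conjugate of `x` normalizes `R`. Let `r` be a prime dividing the index of `H`. Then every element of `T` of order `r` fixes a point of Ω if and only if `r = 2`, or `r = 5` and `p` has multiplicative order 4 modulo 5. -/
theorem result {F : Type*} [Field F] [Fintype F] {p : ℕ} [Fact p.Prime] [CharP F p] (hF : Fintype.card F = p) (hodd : Odd p)
    (R : Subgroup (GL (Fin 2 ⊕ Fin 2) F)) (hRs : Cfsg.Geo.IsSymplecticTypeGroup 2 R) (hRi : Cfsg.Geo.ActsAbsolutelyIrreducibly (Cfsg.Geo.matrixSet R))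
    (hRf : R ≤ Cfsg.spGL 2 F) (hR5 : Nat.card R = 2 ^ 5) (hRZ : Nat.card (Subgroup.center R) = 2) (hRm : Cfsg.Geo.IsOfMinusType 2 R)
    (r : ℕ) [Fact r.Prime]
    (hΩ : r ∣ (Cfsg.Geo.subgroupNormalizer R).relIndex (Cfsg.spGL 2 F)) :
    (∀ x ∈ Cfsg.spGL 2 F, (∃ z : F, ((x ^ r : GL (Fin 2 ⊕ Fin 2) F) : Matrix (Fin 2 ⊕ Fin 2) (Fin 2 ⊕ Fin 2) F) = z • (1 : Matrix (Fin 2 ⊕ Fin 2) (Fin 2 ⊕ Fin 2) F)) →
      (∀ z : F, (x : Matrix (Fin 2 ⊕ Fin 2) (Fin 2 ⊕ Fin 2) F) ≠ z • (1 : Matrix (Fin 2 ⊕ Fin 2) (Fin 2 ⊕ Fin 2) F)) →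
      ∃ g ∈ Cfsg.spGL 2 F, g⁻¹ * x * g ∈ Cfsg.Geo.subgroupNormalizer R) ↔ (r = 2 ∨ (r = 5 ∧ orderOf (p : ZMod 5) = 4)) := by
  classical
  obtain ⟨hr⟩ := (inferInstance : Fact r.Prime)
  have hp : p.Prime := Fact.out
  haveI : Fact (Nat.Prime 3) := ⟨Nat.prime_three⟩
  have hp2 : p ≠ 2 := fun e => Nat.not_even_iff_odd.2 hodd (e ▸ even_two)
  have h2 : (2 : F) ≠ 0 := fun e => hp2 ((Nat.prime_dvd_prime_iff_eq hp Nat.prime_two).1 ((CharP.cast_eq_zero_iff F p 2).1 (by exact_mod_cast e)))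
  have hι : Fintype.card (Fin 2 ⊕ Fin 2) = 4 := rfl
  have h := Ctx.mk' h2 hι hRs hRi (by rw [hR5, hRZ]; norm_num) (Or.inl hRZ)
  have hzs : Nat.card (zs R) = 2 := by rw [card_zs, hRZ]
  obtain ⟨e, E⟩ := h.exists_frame_minus hRm hzs
  set N := Cfsg.Geo.subgroupNormalizer R with hN
  have hNR : ∀ {g : GL (Fin 2 ⊕ Fin 2) F}, g ∈ N → ∀ x ∈ R, g * x * g⁻¹ ∈ R := fun {g} hg x hx =>
    (Subgroup.mem_normalizer_iff.1 hg x).1 hx
  have hRN : R ≤ N := Subgroup.le_normalizer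
  have hsc : ∀ {x : GL (Fin 2 ⊕ Fin 2) F}, x ∈ Cfsg.spGL 2 F → ∀ {z : F}, (x : Matrix (Fin 2 ⊕ Fin 2) (Fin 2 ⊕ Fin 2) F) = z • 1 → z = 1 ∨ z = -1 :=
    fun hx z hz => mul_self_eq_one_iff.1 (scalar_sp hx hz)
  constructor
  · intro hall
    by_contra hne
    push Not at hne
    obtain ⟨hr2, hr5⟩ := hne
    -- transporting a test element
    have test : ∀ x ∈ Cfsg.spGL 2 F, x ^ r = 1 → (∀ z : F, (x : Matrix (Fin 2 ⊕ Fin 2) (Fin 2 ⊕ Fin 2) F) ≠ z • 1) →
        ∃ g ∈ Cfsg.spGL 2 F, (∀ u ∈ R, g⁻¹ * x * g * u * (g⁻¹ * x * g)⁻¹ ∈ R) ∧ (g⁻¹ * x * g) ^ r = 1 ∧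
          ∀ z : F, ((g⁻¹ * x * g : GL (Fin 2 ⊕ Fin 2) F) : Matrix (Fin 2 ⊕ Fin 2) (Fin 2 ⊕ Fin 2) F) ≠ z • 1 := by
      intro x hx hxr hxn
      obtain ⟨g, hg, hy⟩ := hall x hx ⟨1, by rw [hxr, one_smul]; rfl⟩ hxn
      refine ⟨g, hg, hNR hy, ?_, fun z hz => hxn z ?_⟩
      · have := conj_pow (i := r) (a := g⁻¹) (b := x)
        rw [inv_inv] at this
        rw [this, hxr, mul_one, inv_mul_cancel]
      · have e' : x = g * (g⁻¹ * x * g) * g⁻¹ := by simp [mul_assoc]
        rw [e', Units.val_mul, Units.val_mul (g : GL (Fin 2 ⊕ Fin 2) F), hz, mul_smul_comm, mul_one, smul_mul_assoc,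
          ← Units.val_mul, mul_inv_cancel, Units.val_one]
    have trc : ∀ (g x : GL (Fin 2 ⊕ Fin 2) F), ((g⁻¹ * x * g : GL (Fin 2 ⊕ Fin 2) F) : Matrix (Fin 2 ⊕ Fin 2) (Fin 2 ⊕ Fin 2) F).trace =
        (x : Matrix (Fin 2 ⊕ Fin 2) (Fin 2 ⊕ Fin 2) F).trace := fun g x => by
      rw [Units.val_mul, Units.val_mul, Matrix.trace_mul_cycle, Units.mul_inv, one_mul]
    rcases (show 7 ≤ r ∨ r = 3 ∨ r = 5 by
        have := hr.two_le
        rcases Nat.lt_or_ge r 7 with h7 | h7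
        · interval_cases r <;> first | exact absurd rfl hr2 | (right; left; rfl) | (right; right; rfl) | exact absurd hr (by decide)
        · exact Or.inl h7) with h7 | rfl | rfl
    · haveI : Finite (Cfsg.spGL 2 F) := inferInstance
      obtain ⟨x, hx⟩ := exists_prime_orderOf_dvd_card' r (hΩ.trans (Subgroup.index_dvd_card _))
      have hxr : (x : GL (Fin 2 ⊕ Fin 2) F) ^ r = 1 := by
        rw [← SubmonoidClass.coe_pow, ← hx, pow_orderOf_eq_one]; rfl
      have hxn : ∀ z : F, ((x : GL (Fin 2 ⊕ Fin 2) F) : Matrix (Fin 2 ⊕ Fin 2) (Fin 2 ⊕ Fin 2) F) ≠ z • 1 := by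
        intro z hz
        have hx1 : x = 1 := Subtype.ext (Units.ext (by
          rcases hsc x.2 hz with rfl | rfl
          · rw [hz, one_smul]; rfl
          · exfalso
            have h1 := congrArg Units.val hxr
            rw [Units.val_pow_eq_pow_val, hz, _root_.smul_pow, one_pow, (hr.odd_of_ne_two hr2).neg_one_pow] at h1
            have h3 := congrFun (congrFun h1 (Sum.inl 0)) (Sum.inl 0)
            simp at h3
            exact h2 (by linear_combination -h3)))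
        rw [hx1, orderOf_one] at hx
        exact hr.one_lt.ne hx
      obtain ⟨g, -, hy, hyr, hyn⟩ := test x x.2 hxr hxn
      obtain ⟨l, hl⟩ := h.seven_le h7 hyr hy
      exact hyn l hl
    · let x := toGL (Tm_sp (-1 : F))
      have hxm : (x : Matrix (Fin 2 ⊕ Fin 2) (Fin 2 ⊕ Fin 2) F) = Tm (-1) := rfl
      have hx3 : x ^ 3 = 1 := Units.ext (by
        rw [Units.val_pow_eq_pow_val, hxm, Units.val_one]
        have := Tm_cubic (-1 : F)
        rw [neg_one_smul, sub_neg_eq_add, sub_mul, one_mul, mul_add, mul_add, mul_one, ← mul_assoc] at this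
        rw [pow_succ, pow_two]
        linear_combination (norm := noncomm_ring) this)
      obtain ⟨g, -, hy, hyr, hyn⟩ := test x ((mem_sp _).2 (Tm_sp _)) hx3 fun z => by rw [hxm]; exact Tm_ne _ z
      obtain ⟨k, hk, hk16, hkm⟩ := h.exists_k (by norm_num) hyr hy
      have hT := h.trace_mul_trace (by norm_num) hyr hy hk
      have hxi : ((x⁻¹ : GL (Fin 2 ⊕ Fin 2) F) : Matrix (Fin 2 ⊕ Fin 2) (Fin 2 ⊕ Fin 2) F) = Ti (-1) := by
        rw [Matrix.coe_units_inv, hxm]; exact Matrix.inv_eq_right_inv (Tm_Ti _)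
      rw [trc, show (g⁻¹ * x * g)⁻¹ = g⁻¹ * x⁻¹ * g by simp [mul_assoc], trc, hxi, hxm, trace_Tm, trace_Ti] at hT
      have hk' : k = 1 ∨ k = 4 ∨ k = 16 := by
        have hle := Nat.le_of_dvd (by norm_num) hk16
        unfold Nat.ModEq at hkm
        interval_cases k <;> omega
      rcases hk' with rfl | rfl | rfl
      · exact h.three_fixed hRm E hyr hy (by rw [hk, mul_one])
      · have h3 : (3 : F) = 0 := by push_cast at hT; linear_combination -hT
        refine hyn _ (h.transvection_minus hRm E (r := 3) (by norm_num) hyr hy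
          ((phi F).comp (Matrix.mulVecLin (g : Matrix (Fin 2 ⊕ Fin 2) (Fin 2 ⊕ Fin 2) F))) fun v hv => ?_).choose_spec
        simp only [phi, LinearMap.comp_apply, LinearMap.add_apply, LinearMap.proj_apply, Matrix.mulVecLin_apply] at hv
        obtain ⟨w, hw⟩ : ∃ w, w = (g : Matrix (Fin 2 ⊕ Fin 2) (Fin 2 ⊕ Fin 2) F) *ᵥ v := ⟨_, rfl⟩
        rw [← hw] at hv
        have hfix : Tm (-1 : F) *ᵥ w = w := by
          funext i
          rcases i with i | i <;> fin_cases i <;>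
            simp [Tm, Matrix.mulVec, dotProduct, Fintype.sum_sum_type, Fin.sum_univ_two, Matrix.fromBlocks] <;>
            first
              | linear_combination -hv
              | linear_combination hv
              | linear_combination hv - (w (Sum.inr 0)) * h3
              | linear_combination hv + (w (Sum.inr 0)) * h3
        rw [Units.val_mul, Units.val_mul, ← Matrix.mulVec_mulVec, ← Matrix.mulVec_mulVec, ← hw, hxm, hfix, hw,
          Matrix.mulVec_mulVec, Units.inv_mul, Matrix.one_mulVec]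
      · exact hyn _ (h.scalar_of_all hk).choose_spec
    · have hord : ¬ ((p : ZMod 5) = 2 ∨ (p : ZMod 5) = 3) := fun h' => hr5 rfl ((ord4_iff _).2 h')
      obtain ⟨s, hs⟩ : ∃ s : F, s ^ 2 + s - 1 = 0 := by
        by_cases hp5 : p = 5
        · refine ⟨2, ?_⟩
          have h5 : ((5 : ℕ) : F) = 0 := hp5 ▸ CharP.cast_eq_zero F p
          push_cast at h5
          linear_combination h5
        · have hsq : IsSquare ((5 : ℕ) : ZMod p) :=
            (ZMod.exists_sq_eq_prime_iff_of_mod_four_eq_one (p := 5) (q := p) (by norm_num) hp2).1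
              (sq5 _
                (fun h0 => hp5 ((Nat.prime_dvd_prime_iff_eq Nat.prime_five hp).1 ((ZMod.natCast_eq_zero_iff _ _).1 h0)).symm) hord)
          obtain ⟨a, ha⟩ := hsq
          refine ⟨(ZMod.castHom (dvd_refl p) F a - 1) / 2, ?_⟩
          have h5 := congrArg (ZMod.castHom (dvd_refl p) F) ha
          rw [map_mul, map_natCast] at h5
          push_cast at h5
          field_simp
          linear_combination -h5
      let x := toGL (Tm_sp s)
      have hxm : (x : Matrix (Fin 2 ⊕ Fin 2) (Fin 2 ⊕ Fin 2) F) = Tm s := rfl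
      have hx5 : x ^ 5 = 1 := Units.ext (by
        rw [Units.val_pow_eq_pow_val, hxm, Units.val_one]
        have h1 : Tm s ^ 5 - 1 = (Tm s - 1) * (Tm s * Tm s - s • Tm s + 1) * (Tm s * Tm s + (s + 1) • Tm s + 1) +
            (s ^ 2 + s - 1) • ((Tm s - 1) * (Tm s * Tm s)) := by
          simp only [sub_mul, add_mul, mul_add, mul_sub, smul_mul_assoc, mul_smul_comm, mul_one, one_mul, smul_sub,
            smul_add, smul_smul, pow_succ, pow_zero, mul_assoc]
          module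
        rw [Tm_cubic, zero_mul, hs, zero_smul, add_zero, sub_eq_zero] at h1
        exact h1)
      obtain ⟨g, -, hy, hyr, hyn⟩ := test x ((mem_sp _).2 (Tm_sp _)) hx5 fun z => by rw [hxm]; exact Tm_ne _ z
      obtain ⟨k, hk, hk16, hkm⟩ := h.exists_k (by norm_num) hyr hy
      have hT := h.trace_mul_trace (by norm_num) hyr hy hk
      have hxi : ((x⁻¹ : GL (Fin 2 ⊕ Fin 2) F) : Matrix (Fin 2 ⊕ Fin 2) (Fin 2 ⊕ Fin 2) F) = Ti s := by
        rw [Matrix.coe_units_inv, hxm]; exact Matrix.inv_eq_right_inv (Tm_Ti _)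
      rw [trc, show (g⁻¹ * x * g)⁻¹ = g⁻¹ * x⁻¹ * g by simp [mul_assoc], trc, hxi, hxm, trace_Tm, trace_Ti] at hT
      have hk' : k = 1 ∨ k = 16 := by
        have hle := Nat.le_of_dvd (by norm_num) hk16
        unfold Nat.ModEq at hkm
        interval_cases k <;> omega
      rcases hk' with rfl | rfl
      · push_cast at hT
        have h4 : 3 * s + 4 = 0 := by linear_combination hT - hs
        have h5 : (5 : F) = 0 := by linear_combination (3 * s - 1) * h4 - 9 * hs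
        have h10 : 3 * (s - 2) = 0 := by linear_combination h4 - 2 * h5
        have h3 : (3 : F) ≠ 0 := fun e => h2 (by linear_combination h5 - e)
        have hs2 : s - 2 = 0 := (mul_eq_zero.1 h10).resolve_left h3
        refine hyn _ (h.transvection_minus hRm E (r := 5) (by norm_num) hyr hy
          ((phi F).comp (Matrix.mulVecLin (g : Matrix (Fin 2 ⊕ Fin 2) (Fin 2 ⊕ Fin 2) F))) fun v hv => ?_).choose_spec
        simp only [phi, LinearMap.comp_apply, LinearMap.add_apply, LinearMap.proj_apply, Matrix.mulVecLin_apply] at hv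
        obtain ⟨w, hw⟩ : ∃ w, w = (g : Matrix (Fin 2 ⊕ Fin 2) (Fin 2 ⊕ Fin 2) F) *ᵥ v := ⟨_, rfl⟩
        rw [← hw] at hv
        have hfix : Tm s *ᵥ w = w := by
          funext i
          rcases i with i | i <;> fin_cases i <;>
            simp [Tm, Matrix.mulVec, dotProduct, Fintype.sum_sum_type, Fin.sum_univ_two, Matrix.fromBlocks] <;>
            first
              | linear_combination -hv
              | linear_combination hv + (w (Sum.inr 0)) * hs2
        rw [Units.val_mul, Units.val_mul, ← Matrix.mulVec_mulVec, ← Matrix.mulVec_mulVec, ← hw, hxm, hfix, hw,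
          Matrix.mulVec_mulVec, Units.inv_mul, Matrix.one_mulVec]
      · exact hyn _ (h.scalar_of_all hk).choose_spec
  · rintro hcase x hx hxz hxn
    obtain ⟨z, hz⟩ := hxz
    rcases hcase with rfl | ⟨rfl, hord⟩
    · rw [pow_two] at hz
      have hzz := hsc (mul_mem hx hx) hz
      have hz0 : z ≠ 0 := by rcases hzz with rfl | rfl <;> simp
      have htr : (x : Matrix (Fin 2 ⊕ Fin 2) (Fin 2 ⊕ Fin 2) F).trace = 0 := by
        rcases two_cases hι h2 hz0 hz hxn (det_sp hx) with ⟨ht, -⟩ | ⟨-, hz2, -⟩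
        · exact ht
        · exfalso
          rcases hzz with rfl | rfl <;> exact h2 (by linear_combination hz2)
      have hy : ∃ y ∈ R, ((y * y : GL (Fin 2 ⊕ Fin 2) F) : Matrix (Fin 2 ⊕ Fin 2) (Fin 2 ⊕ Fin 2) F) = z • 1 ∧
          (y : Matrix (Fin 2 ⊕ Fin 2) (Fin 2 ⊕ Fin 2) F).trace = 0 := by
        rcases hzz with rfl | rfl
        · exact ⟨e 0, E.mem 0, by rw [E.sq, one_smul]; rfl, E.trace_em h 0⟩
        · refine ⟨e 0 * e 1, mul_mem (E.mem 0) (E.mem 1), ?_, by rw [Units.val_mul]; exact E.trace_pair h (by decide)⟩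
          rw [Units.val_mul, Units.val_mul]
          exact E.pair_sq (by decide)
      obtain ⟨y, hyR, hyz, hyt⟩ := hy
      rw [Units.val_mul] at hyz
      have hns : ∀ c : F, (y : Matrix (Fin 2 ⊕ Fin 2) (Fin 2 ⊕ Fin 2) F) ≠ c • 1 := by
        intro c hc
        rw [hc, Matrix.trace_smul, Matrix.trace_one, hι, smul_eq_mul] at hyt
        rcases mul_eq_zero.1 hyt with rfl | h4
        · rw [hc] at hyz
          have := congrFun (congrFun hyz (Sum.inl 0)) (Sum.inl 0)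
          simp at this
          exact hz0 this.symm
        · exact h2 (mul_self_eq_zero.1 (by push_cast at h4; linear_combination h4))
      rw [Units.val_mul] at hz
      have hk4 : ∀ M : Matrix (Fin 2 ⊕ Fin 2) (Fin 2 ⊕ Fin 2) F, M * M = z • 1 → M ^ 4 = 1 := fun M hM => by
        rw [show 4 = 2 * 2 from rfl, pow_mul, pow_two M, hM, _root_.smul_pow, one_pow]
        rcases hzz with rfl | rfl <;> simp
      obtain ⟨g, hg, hgx⟩ := conj_sp hx (hRf hyR) (k := 4) (by push_cast; exact fun h4 => h2 (mul_self_eq_zero.1 (by linear_combination h4)))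
        (hk4 _ hz) (hk4 _ hyz) (charpoly_two hι h2 hz0 hz hyz hxn hns (by rw [htr, hyt]))
      exact ⟨g, hg, hgx ▸ hRN hyR⟩
    · have hp23 := (ord4_iff _).1 hord
      have hp5 : (p : ZMod 5) ≠ 0 := by rcases hp23 with e' | e' <;> rw [e'] <;> first | exact (show (2 : Fin 5) ≠ 0 by decide) | exact (show (3 : Fin 5) ≠ 0 by decide)
      have h5 : (5 : F) ≠ 0 := fun e' => hp5 (by
        rw [(Nat.prime_dvd_prime_iff_eq hp Nat.prime_five).1 ((CharP.cast_eq_zero_iff F p 5).1 (by exact_mod_cast e'))]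
        rfl)
      let L := AlgebraicClosure F
      have h5L : ((5 : ℕ) : L) ≠ 0 := by
        rw [← map_natCast (algebraMap F L), ne_eq, map_eq_zero]; exact_mod_cast h5
      haveI : NeZero ((5 : ℕ) : L) := ⟨h5L⟩
      obtain ⟨ζ, hζ⟩ := HasEnoughRootsOfUnity.exists_primitiveRoot L 5
      have H : ∀ y ∈ Cfsg.spGL 2 F, y ^ 5 = 1 → y ≠ 1 → (y : Matrix (Fin 2 ⊕ Fin 2) (Fin 2 ⊕ Fin 2) F).trace = -1 ∧
          ∀ v : Fin 2 ⊕ Fin 2 → F, (y : Matrix (Fin 2 ⊕ Fin 2) (Fin 2 ⊕ Fin 2) F) *ᵥ v = v → v = 0 := by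
        intro y hy hy5 hy1
        have hyM : (y : Matrix (Fin 2 ⊕ Fin 2) (Fin 2 ⊕ Fin 2) F) ^ 5 = 1 := by
          rw [← Units.val_pow_eq_pow_val, hy5]; rfl
        refine five_props (L := L) h5 hζ _ hι hyM (fun e' => hy1 (Units.ext e')) (g := (p : ZMod 5)) hp23 fun f hf => ?_
        obtain ⟨m, hm, hinv, -⟩ := Cfsg.Agent.S5961.exists_mult_sp (L := L) hζ h5L (by exact_mod_cast h5)
          (uq := Units.mk0 (p : ZMod 5) hp5) (by rw [Units.val_mk0, hF]) (Units.mk0 (p : ZMod 5) hp5) (Or.inl rfl)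
          (⟨_, (mem_sp y).1 hy⟩ : Matrix.symplecticGroup (Fin 2) F) (Subtype.ext (by rw [SubmonoidClass.coe_pow]; exact hyM))
        rw [Pm_inj hζ (hf.symm.trans hm)]
        exact hinv.2
      have hzz : z = 1 ∨ z = -1 := hsc (pow_mem hx 5) hz
      have hx20 : x ^ 20 = 1 := Units.ext (by
        rw [show 20 = 5 * 4 from rfl, pow_mul, Units.val_pow_eq_pow_val, hz, _root_.smul_pow, one_pow, Units.val_one]
        rcases hzz with rfl | rfl <;> simp [show Even 4 from ⟨2, rfl⟩])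
      -- the element of order five in the normaliser
      let M := (4 : F)⁻¹ • (um e 0 1 * um e 1 2 * (um e 2 3 * um e 3 4))
      have hesp : ∀ k, (em e k)ᵀ * Jm F = Jm F * em e k := fun k => by
        have h1 : (em e k)ᵀ * Jm F * em e k = Jm F := SymplecticGroup.mem_iff'.1 ((mem_sp _).1 (hRf (E.mem k)))
        calc (em e k)ᵀ * Jm F = (em e k)ᵀ * Jm F * (em e k * em e k) := by rw [E.em_sq, mul_one]
          _ = Jm F * em e k := by rw [← mul_assoc, h1]
      have hu : ∀ {k l : Fin 5}, k ≠ l → ∀ P : Matrix (Fin 2 ⊕ Fin 2) (Fin 2 ⊕ Fin 2) F,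
          (um e k l * P)ᵀ * Jm F * (um e k l * P) = (2 : F) • (Pᵀ * Jm F * P) := fun {k l} hkl P => by
        have h1 : (um e k l)ᵀ * Jm F = Jm F * um e k l := by
          rw [um, Matrix.transpose_sub, sub_mul, hesp, hesp, mul_sub]
        calc (um e k l * P)ᵀ * Jm F * (um e k l * P) = Pᵀ * ((um e k l)ᵀ * Jm F) * (um e k l * P) := by
              rw [Matrix.transpose_mul]; simp only [mul_assoc]
          _ = Pᵀ * Jm F * (um e k l * um e k l) * P := by rw [h1]; simp only [mul_assoc]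
          _ = _ := by rw [E.um_sq hkl, mul_smul_comm, mul_one, smul_mul_assoc]
      have hMsp : M ∈ Matrix.symplecticGroup (Fin 2) F := by
        rw [SymplecticGroup.mem_iff']
        show Mᵀ * Jm F * M = Jm F
        simp only [M, Matrix.transpose_smul, smul_mul_assoc, mul_smul_comm, smul_smul]
        rw [mul_assoc (um e 0 1), hu (by decide), hu (by decide), hu (by decide)]
        have h4 := hu (k := 3) (l := 4) (by decide) 1
        rw [mul_one, Matrix.transpose_one, one_mul, mul_one] at h4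
        rw [h4, smul_smul, smul_smul, smul_smul, smul_smul]
        have h44 : (4 : F) ≠ 0 := fun h4' => h2 (mul_self_eq_zero.1 (by linear_combination h4'))
        rw [show (4 : F)⁻¹ * 4⁻¹ * 2 * 2 * 2 * 2 = 1 by field_simp; ring, one_smul]
      let G := toGL hMsp
      have hGN : G ∈ N := E.five_mem h (c := (4 : F)⁻¹) rfl
      have hGsp : G ∈ Cfsg.spGL 2 F := (mem_sp _).2 hMsp
      obtain ⟨d, hd⟩ := E.pow_five_scalar h
      have hG5 : ((G ^ 5 : GL (Fin 2 ⊕ Fin 2) F) : Matrix (Fin 2 ⊕ Fin 2) (Fin 2 ⊕ Fin 2) F) = ((4 : F)⁻¹ ^ 5 * d) • 1 := by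
        rw [Units.val_pow_eq_pow_val]
        show ((4 : F)⁻¹ • (um e 0 1 * um e 1 2 * (um e 2 3 * um e 3 4))) ^ 5 = _
        rw [_root_.smul_pow, hd, smul_smul]
      have hG20 : G ^ 20 = 1 := Units.ext (by
        rw [show 20 = 5 * 4 from rfl, pow_mul, Units.val_pow_eq_pow_val, hG5, _root_.smul_pow, one_pow, Units.val_one]
        rcases hsc (pow_mem hGsp 5) hG5 with e' | e' <;> rw [e'] <;> simp [show Even 4 from ⟨2, rfl⟩])
      have hne : ∀ {u : GL (Fin 2 ⊕ Fin 2) F}, u ^ 20 = 1 → (∀ c : F, (u : Matrix (Fin 2 ⊕ Fin 2) (Fin 2 ⊕ Fin 2) F) ≠ c • 1) →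
          ∀ {c : F}, ((u ^ 5 : GL (Fin 2 ⊕ Fin 2) F) : Matrix (Fin 2 ⊕ Fin 2) (Fin 2 ⊕ Fin 2) F) = c • 1 → u ^ 4 ≠ 1 := by
        intro u _ hun c hc h4
        rw [pow_succ, h4, one_mul] at hc
        exact hun c hc
      have hGn : ∀ c : F, (G : Matrix (Fin 2 ⊕ Fin 2) (Fin 2 ⊕ Fin 2) F) ≠ c • 1 := E.five_nonscalar h (c := (4 : F)⁻¹) rfl
      have hc20 : ((20 : ℕ) : F) ≠ 0 := by
        rw [show (20 : ℕ) = 2 * 2 * 5 from rfl, Nat.cast_mul, Nat.cast_mul]
        push_cast; exact mul_ne_zero (mul_ne_zero h2 h2) h5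
      obtain ⟨g, hg, j, hgj⟩ := five_conj' (by exact_mod_cast hc20) hι (Cfsg.spGL 2 F) H (pow_mem hx 4) (pow_mem hGsp 4)
        (by rw [← pow_mul]; exact hx20) (by rw [← pow_mul]; exact hG20) (hne hx20 hxn hz) (hne hG20 hGn hG5)
      refine ⟨g, hg, ?_⟩
      have hx5N : x ^ 5 ∈ N := by
        refine Subgroup.mem_normalizer_iff.2 fun u => ?_
        rw [(comm_of_scalar hz u).eq, mul_inv_cancel_right]
      have e' : g⁻¹ * x * g = x ^ 5 * (g⁻¹ * x ^ 4 * g)⁻¹ := by
        have hc1 : g⁻¹ * x ^ 5 * g = x ^ 5 := by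
          rw [mul_assoc, (comm_of_scalar hz g).eq, inv_mul_cancel_left]
        calc g⁻¹ * x * g = g⁻¹ * (x ^ 5 * (x ^ 4)⁻¹) * g := by rw [pow_succ' x 4, mul_inv_cancel_right]
          _ = g⁻¹ * x ^ 5 * g * (g⁻¹ * x ^ 4 * g)⁻¹ := by simp only [_root_.mul_inv_rev, inv_inv, mul_assoc, mul_inv_cancel_left]
          _ = _ := by rw [hc1]
      rw [e', hgj]
      exact mul_mem hx5N (inv_mem (pow_mem (pow_mem hGN 4) j))

end Cfsg.Agent.S6002
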