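import Cfsg.Statements.S6000
import Cfsg.Agent.Lib.Linear.ExtraTwo.Elements
import Cfsg.Agent.Lib.Linear.ExtraTwo.Char
import Cfsg.Agent.Lib.Linear.ExtraTwo.Transvection
import Cfsg.Agent.Lib.Linear.IsotropicFix.UnitaryPair
import Cfsg.Agent.S5998
import Cfsg.Agent.S6002
-- import your own Cfsg.Agent.* helpers here

set_option autoImplicit false
open scoped MatrixGroups
open Cfsg

namespace Cfsg.Agent.S6000

open Cfsg.Lib.Linear.ExtraTwo Cfsg.Agent.Lib.Linear.PrimeClasses
open Cfsg.Lib.Linear.ExtraTwo.Frame (cm km)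
open scoped Matrix

attribute [local instance] prime_five_fact

section Aux

variable {F : Type*} [Field F]

/-- The linear form cutting out the fixed hyperplane of the test element. -/
def phi (F : Type*) [Field F] : (Fin 4 → F) →ₗ[F] F :=
  LinearMap.proj (R := F) (φ := fun _ : Fin 4 => F) 0 + LinearMap.proj (R := F) (φ := fun _ : Fin 4 => F) 1

/-- The test element. -/
def Tm (s : F) : Matrix (Fin 4) (Fin 4) F := !![0, -1, 0, 0; 1, s, 0, 0; 0, 0, 1, 0; 0, 0, 0, 1]

/-- The inverse of the test element. -/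
def Ti (s : F) : Matrix (Fin 4) (Fin 4) F := !![s, 1, 0, 0; -1, 0, 0, 0; 0, 0, 1, 0; 0, 0, 0, 1]

theorem Tm_Ti (s : F) : Tm s * Ti s = 1 := by
  ext i j
  fin_cases i <;> fin_cases j <;> simp [Tm, Ti, Matrix.mul_apply, Fin.sum_univ_four]

theorem det_Tm (s : F) : (Tm s).det = 1 := by
  simp [Tm, Matrix.det_succ_row_zero, Fin.sum_univ_succ, Fin.succAbove]

theorem Tm_cubic (s : F) : (Tm s - 1) * (Tm s * Tm s - s • Tm s + 1) = 0 := by
  ext i j
  fin_cases i <;> fin_cases j <;> simp [Tm, Matrix.mul_apply, Fin.sum_univ_four]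

theorem trace_Tm (s : F) : (Tm s).trace = s + 2 := by
  simp [Tm, Matrix.trace, Fin.sum_univ_four]; ring

theorem trace_Ti (s : F) : (Ti s).trace = s + 2 := by
  simp [Ti, Matrix.trace, Fin.sum_univ_four]; ring

theorem Tm_ne (s z : F) : Tm s ≠ z • 1 := fun h => by
  have h1 := congrFun (congrFun h 1) 0
  simp [Tm] at h1

/-- The fifth power of a root of the cubic. -/
theorem pow_five_of_cubic {ι : Type*} [Fintype ι] [DecidableEq ι] {M : Matrix ι ι F} {s : F}
    (hM : (M - 1) * (M * M - s • M + 1) = 0) (hs : s ^ 2 + s - 1 = 0) : M ^ 5 = 1 := by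
  have h1 : M ^ 5 - 1 = (M - 1) * (M * M - s • M + 1) * (M * M + (s + 1) • M + 1) +
      (s ^ 2 + s - 1) • ((M - 1) * (M * M)) := by
    simp only [sub_mul, add_mul, mul_add, mul_sub, smul_mul_assoc, mul_smul_comm, mul_one, one_mul, smul_sub,
      smul_add, smul_smul, pow_succ, pow_zero, mul_assoc]
    module
  rw [hM, zero_mul, hs, zero_smul, add_zero, sub_eq_zero] at h1
  exact h1

/-- The golden root exists. -/
theorem exists_golden [Fintype F] {p : ℕ} [Fact p.Prime] [CharP F p] (hp2 : p ≠ 2) (hord : orderOf (p : ZMod 5) ≠ 4) :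
    ∃ s : F, s ^ 2 + s - 1 = 0 := by
  have hp : p.Prime := Fact.out
  have h2 : (2 : F) ≠ 0 := fun e => hp2 ((Nat.prime_dvd_prime_iff_eq hp Nat.prime_two).1 ((CharP.cast_eq_zero_iff F p 2).1 (by exact_mod_cast e)))
  by_cases hp5 : p = 5
  · refine ⟨2, ?_⟩
    have h5 : ((5 : ℕ) : F) = 0 := hp5 ▸ CharP.cast_eq_zero F p
    push_cast at h5
    linear_combination h5
  · have hsq : IsSquare ((5 : ℕ) : ZMod p) :=
      (ZMod.exists_sq_eq_prime_iff_of_mod_four_eq_one (p := 5) (q := p) (by norm_num) hp2).1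
        (Cfsg.Agent.S6002.sq5 _
          (fun h0 => hp5 ((Nat.prime_dvd_prime_iff_eq Nat.prime_five hp).1 ((ZMod.natCast_eq_zero_iff _ _).1 h0)).symm)
          (fun h' => hord ((Cfsg.Agent.S6002.ord4_iff _).2 h')))
    obtain ⟨a, ha⟩ := hsq
    refine ⟨(ZMod.castHom (dvd_refl p) F a - 1) / 2, ?_⟩
    have h5 := congrArg (ZMod.castHom (dvd_refl p) F) ha
    rw [map_mul, map_natCast] at h5
    push_cast at h5
    field_simp
    linear_combination -h5

/-- The involution of trace two is not scalar. -/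
theorem cm_ne {ι : Type} [Fintype ι] [DecidableEq ι] {R : Subgroup (GL ι F)} {e : Fin 5 → GL ι F} (h : Ctx R)
    (E : Frame R e) {s : F} (hs : s ^ 2 = -1) (c : F) : cm e s ≠ c • 1 := fun hc => by
  have h1 : ((cm e s) * em e 0).trace = 0 := by
    rw [hc, smul_mul_assoc, one_mul, Matrix.trace_smul, E.trace_em h]; simp
  have h3 : (em e 0 * (em e 1 * em e 2) * em e 0).trace = (em e 1 * em e 2).trace := by
    rw [Matrix.trace_mul_cycle, E.em_sq, one_mul]
  have h4 : ((em e 1 * em e 2) * em e 0).trace = (em e 0 * (em e 1 * em e 2)).trace := Matrix.trace_mul_comm _ _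
  have h5 : (em e 0 * (em e 1 * em e 2)).trace = 0 := Frame.trace_conj_neg h (N := e 3) (by
    show em e 3 * _ = -(_ * em e 3)
    rw [← mul_assoc, E.em_anti (by decide : (3 : Fin 5) ≠ 0), neg_mul, mul_assoc, (E.em_flip (by decide) (by decide) : Commute (em e 3) (em e 1 * em e 2)).eq]
    simp only [mul_assoc])
  rw [cm, smul_mul_assoc, sub_mul, add_mul, add_mul, one_mul, E.em_sq, smul_mul_assoc, smul_mul_assoc, Matrix.trace_smul,
    Matrix.trace_sub, Matrix.trace_add, Matrix.trace_add, Matrix.trace_smul, Matrix.trace_smul, E.trace_em h, Matrix.trace_one,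
    h.card_ι, h3, h4, h5, E.trace_pair h (by decide)] at h1
  simp only [smul_eq_mul, mul_zero, add_zero, zero_add, sub_zero, Nat.cast_ofNat, mul_eq_zero, inv_eq_zero] at h1
  rcases h1 with h1 | h1
  · exact h.two h1
  · exact h.two (mul_self_eq_zero.1 (by linear_combination h1))

end Aux

section Conj

variable {F : Type*} [Field F]

/-- Conjugates of a test element. -/
theorem transport {n : ℕ} {G N : Subgroup (GL (Fin n) F)} {r : ℕ}
    (hall : ∀ x ∈ G, (∃ z : F, ((x ^ r : GL (Fin n) F) : Matrix (Fin n) (Fin n) F) = z • 1) →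
      (∀ z : F, (x : Matrix (Fin n) (Fin n) F) ≠ z • 1) → ∃ g ∈ G, g⁻¹ * x * g ∈ N)
    {x : GL (Fin n) F} (hx : x ∈ G) (hxr : x ^ r = 1) (hxn : ∀ z : F, (x : Matrix (Fin n) (Fin n) F) ≠ z • 1) :
    ∃ g, g⁻¹ * x * g ∈ N ∧ (g⁻¹ * x * g) ^ r = 1 ∧
      (∀ z : F, ((g⁻¹ * x * g : GL (Fin n) F) : Matrix (Fin n) (Fin n) F) ≠ z • 1) ∧
      ((g⁻¹ * x * g : GL (Fin n) F) : Matrix (Fin n) (Fin n) F).trace * (((g⁻¹ * x * g)⁻¹ : GL (Fin n) F) : Matrix (Fin n) (Fin n) F).trace =
        (x : Matrix (Fin n) (Fin n) F).trace * ((x⁻¹ : GL (Fin n) F) : Matrix (Fin n) (Fin n) F).trace := by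
  obtain ⟨g, -, hy⟩ := hall x hx ⟨1, by rw [hxr, one_smul]; rfl⟩ hxn
  have trc : ∀ a : GL (Fin n) F, ((g⁻¹ * a * g : GL (Fin n) F) : Matrix (Fin n) (Fin n) F).trace = (a : Matrix (Fin n) (Fin n) F).trace := fun a => by
    rw [Units.val_mul, Units.val_mul, Matrix.trace_mul_cycle, Units.mul_inv, one_mul]
  refine ⟨g, hy, ?_, fun z hz => hxn z ?_, ?_⟩
  · have := conj_pow (i := r) (a := g⁻¹) (b := x)
    rw [inv_inv] at this
    rw [this, hxr, mul_one, inv_mul_cancel]
  · have e' : x = g * (g⁻¹ * x * g) * g⁻¹ := by simp [mul_assoc]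
    rw [e', Units.val_mul, Units.val_mul (g : GL (Fin n) F), hz, mul_smul_comm, mul_one, smul_mul_assoc,
      ← Units.val_mul, mul_inv_cancel, Units.val_one]
  · rw [trc, show (g⁻¹ * x * g)⁻¹ = g⁻¹ * x⁻¹ * g by simp [mul_assoc], trc]

end Conj

/-- Elements of prime order of PSL_4(p), p ≡ 1 (mod 4), and the normalizer of a 2-group of symplectic type of order 2⁶. Here `T = PSL_4(F)` for the field `F` with `p` elements, `p` a prime with `p ≡ 1 (mod 4)`; `R` is an absolutely irreducible subgroup of GL_4(F) of order 2⁶ that is a 2-group of symplectic type of exponent 4 with centre of order 4 (the central product of the scalars of order 4 with an extraspecial group 2^{1+4}), and `H` is the subgroup of matrices of determinant 1 normalizing `R` — a subgroup of type 2⁴.Sp₄(2) (maximality is not assumed). Ω is the set of cosets of `H` in `T`, so an element of `T` of prime order `r` (a matrix `x` of determinant 1 with `x^r` scalar, `x` not scalar) fixes a point of Ω exactly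 when some conjugate of `x` by a matrix of determinant 1 normalizes `R`. Let `r` be a prime dividing the index of `H`. Then every element of `T` of order `r` fixes a point of Ω if and only if `r = 2`, or `r = 3` and `p ≡ 2 (mod 3)`, or `r = 5` and `p ≡ ±2 (mod 5)` (`p` has multiplicative order 4 modulo 5). -/
theorem result {F : Type*} [Field F] [Fintype F] {p : ℕ} [Fact p.Prime] [CharP F p] (hF : Fintype.card F = p) (hp4 : p % 4 = 1)
    (R : Subgroup (GL (Fin 4) F)) (hR : Cfsg.Geo.IsLinearSymplecticTypeData 2 R) (hR6 : Nat.card R = 2 ^ 6)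
    (r : ℕ) [Fact r.Prime]
    (hΩ : r ∣ (Cfsg.Geo.subgroupNormalizer R).relIndex (Cfsg.Geo.specialLinear (Fin 4) F)) :
    (∀ x ∈ Cfsg.Geo.specialLinear (Fin 4) F, (∃ z : F, ((x ^ r : GL (Fin 4) F) : Matrix (Fin 4) (Fin 4) F) = z • (1 : Matrix (Fin 4) (Fin 4) F)) →
      (∀ z : F, (x : Matrix (Fin 4) (Fin 4) F) ≠ z • (1 : Matrix (Fin 4) (Fin 4) F)) →
      ∃ g ∈ Cfsg.Geo.specialLinear (Fin 4) F, g⁻¹ * x * g ∈ Cfsg.Geo.subgroupNormalizer R) ↔ (r = 2 ∨ (r = 3 ∧ p % 3 = 2) ∨ (r = 5 ∧ orderOf (p : ZMod 5) = 4)) := by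
  classical
  obtain ⟨hr⟩ := (inferInstance : Fact r.Prime)
  have hp : p.Prime := Fact.out
  haveI : Fact (Nat.Prime 3) := ⟨Nat.prime_three⟩
  have hp2 : p ≠ 2 := by omega
  have hp3 : p ≠ 3 := by omega
  have hcast : ∀ k : ℕ, k.Prime → k ≠ p → ((k : ℕ) : F) ≠ 0 := fun k hk hne e =>
    hne ((Nat.prime_dvd_prime_iff_eq hp hk).1 ((CharP.cast_eq_zero_iff F p k).1 e)).symm
  have h2 : (2 : F) ≠ 0 := by exact_mod_cast hcast 2 Nat.prime_two hp2.symm
  have h3 : (3 : F) ≠ 0 := by exact_mod_cast hcast 3 Nat.prime_three hp3.symm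
  have hι : Fintype.card (Fin 4) = 4 := rfl
  obtain ⟨hRs, hRi, p', e', -, -, hbr⟩ := hR
  have hz4 : Nat.card (Subgroup.center R) = 4 := by
    rcases hbr with ⟨h', -⟩ | ⟨-, -, h', -⟩ | ⟨-, -, h', -⟩
    · exact absurd h' (by decide)
    · exact h'
    · exact absurd h' (by decide)
  have h := Ctx.mk' h2 hι hRs hRi (by rw [hR6, hz4]; norm_num) (Or.inr hz4)
  have hzs : Nat.card (zs R) = 4 := by rw [card_zs, hz4]
  obtain ⟨e, E⟩ := h.exists_frame_four hzs
  obtain ⟨S, hS, hSS⟩ := h.exists_root hzs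
  obtain ⟨s, hSs⟩ := h.scalar (mem_zs.1 hS).2
  have hs : s ^ 2 = -1 := by
    have h0 : ((S * S : GL (Fin 4) F) : Matrix (Fin 4) (Fin 4) F) = ((-1 : GL (Fin 4) F) : Matrix (Fin 4) (Fin 4) F) := congrArg Units.val hSS
    have h1 := congrFun (congrFun h0 0) 0
    rw [Units.val_mul, hSs, smul_mul_smul_comm, one_mul] at h1
    simp at h1
    linear_combination h1
  set N := Cfsg.Geo.subgroupNormalizer R with hN
  have hNR : ∀ {g : GL (Fin 4) F}, g ∈ N → ∀ x ∈ R, g * x * g⁻¹ ∈ R := fun {g} hg x hx =>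
    (Subgroup.mem_normalizer_iff.1 hg x).1 hx
  have hscN : ∀ {u : GL (Fin 4) F} {c : F}, (u : Matrix (Fin 4) (Fin 4) F) = c • 1 → u ∈ N := fun {u c} hu =>
    Subgroup.mem_normalizer_iff.2 fun v => by rw [(comm_of_scalar hu v).eq, mul_inv_cancel_right]
  have hSL : ∀ {x : GL (Fin 4) F}, x ∈ Cfsg.Geo.specialLinear (Fin 4) F ↔ (x : Matrix (Fin 4) (Fin 4) F).det = 1 := fun {x} =>
    Cfsg.Lib.Linear.IsoFix.mem_sl_iff x
  have hz4' : ∀ {x : GL (Fin 4) F}, x ∈ Cfsg.Geo.specialLinear (Fin 4) F → ∀ {z : F}, (x : Matrix (Fin 4) (Fin 4) F) = z • 1 → z ^ 4 = 1 := by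
    intro x hx z hz
    have h1 := hSL.1 hx
    rwa [hz, Matrix.det_smul, Matrix.det_one, mul_one, hι] at h1
  constructor
  · intro hall
    by_contra hne
    push Not at hne
    obtain ⟨hr2, hr3, hr5⟩ := hne
    rcases (show 7 ≤ r ∨ r = 3 ∨ r = 5 by
        have := hr.two_le
        rcases Nat.lt_or_ge r 7 with h7 | h7
        · interval_cases r <;> first | exact absurd rfl hr2 | (right; left; rfl) | (right; right; rfl) | exact absurd hr (by decide)
        · exact Or.inl h7) with h7 | rfl | rfl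
    · obtain ⟨x, hx⟩ := exists_prime_orderOf_dvd_card' r (hΩ.trans (Subgroup.index_dvd_card _))
      have hxr : (x : GL (Fin 4) F) ^ r = 1 := by
        rw [← SubmonoidClass.coe_pow, ← hx, pow_orderOf_eq_one]; rfl
      have hxn : ∀ z : F, ((x : GL (Fin 4) F) : Matrix (Fin 4) (Fin 4) F) ≠ z • 1 := by
        intro z hz
        have hzr : z ^ r = 1 := by
          have h1 := congrArg Units.val hxr
          rw [Units.val_pow_eq_pow_val, hz, _root_.smul_pow, one_pow] at h1
          simpa using congrFun (congrFun h1 0) 0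
        have hz1 : z = 1 := by
          have := pow_gcd_eq_one.2 ⟨hzr, hz4' x.2 hz⟩
          rwa [show Nat.gcd r 4 = 1 from Nat.Coprime.pow_right 2 ((Nat.coprime_primes hr Nat.prime_two).2 hr2), pow_one] at this
        have hx1 : x = 1 := Subtype.ext (Units.ext (by rw [hz, hz1, one_smul]; rfl))
        rw [hx1, orderOf_one] at hx
        exact hr.one_lt.ne hx
      obtain ⟨g, hy, hyr, hyn, -⟩ := transport hall x.2 hxr hxn
      obtain ⟨l, hl⟩ := h.seven_le h7 hyr (hNR hy)
      exact hyn l hl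
    · have hp1 : p % 3 = 1 := by
        have h1 := hr3 rfl
        have h0 : p % 3 ≠ 0 := fun h0 => hp3 ((Nat.prime_dvd_prime_iff_eq Nat.prime_three hp).1 (Nat.dvd_of_mod_eq_zero h0)).symm
        omega
      obtain ⟨w, hw⟩ := exists_prime_orderOf_dvd_card' (G := Fˣ) 3 (by
        rw [Nat.card_eq_fintype_card, Fintype.card_units, hF]; omega)
      have hw3 : (w : F) ^ 3 = 1 := by rw [← Units.val_pow_eq_pow_val, ← hw, pow_orderOf_eq_one, Units.val_one]
      have hw1 : (w : F) ≠ 1 := fun e'' => by rw [Units.val_eq_one.1 e'', orderOf_one] at hw; omega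
      have hw0 : (w : F) ^ 2 + w + 1 = 0 :=
        (mul_eq_zero.1 (show ((w : F) - 1) * ((w : F) ^ 2 + w + 1) = 0 by linear_combination hw3)).resolve_left (sub_ne_zero.2 hw1)
      let x : GL (Fin 4) F := Matrix.GeneralLinearGroup.mkOfDetNeZero (Matrix.diagonal ![(w : F), w, w, 1]) (by
        simp [Matrix.det_diagonal, Fin.prod_univ_four])
      have hxm : (x : Matrix (Fin 4) (Fin 4) F) = Matrix.diagonal ![(w : F), w, w, 1] := rfl
      have hx3 : x ^ 3 = 1 := Units.ext (by
        rw [Units.val_pow_eq_pow_val, hxm, Matrix.diagonal_pow, Units.val_one, ← Matrix.diagonal_one]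
        congr 1; funext i; fin_cases i <;> simp [hw3])
      have hxi : ((x⁻¹ : GL (Fin 4) F) : Matrix (Fin 4) (Fin 4) F) = Matrix.diagonal ![(w : F) ^ 2, (w : F) ^ 2, (w : F) ^ 2, 1] := by
        rw [Matrix.coe_units_inv, hxm]
        refine Matrix.inv_eq_right_inv ?_
        rw [Matrix.diagonal_mul_diagonal, ← Matrix.diagonal_one]
        congr 1; funext i; fin_cases i <;> simp [← pow_succ', hw3]
      obtain ⟨g, hy, hyr, hyn, htr⟩ := transport hall (hSL.2 (by
        rw [hxm, Matrix.det_diagonal, Fin.prod_univ_four]; simp; linear_combination hw3)) hx3 (fun z hz => by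
          rw [hxm] at hz
          have h0 := congrFun (congrFun hz 0) 0
          have h1 := congrFun (congrFun hz 3) 3
          simp at h0 h1
          exact hw1 (h0.trans h1.symm))
      obtain ⟨k, hk, hk16, hkm⟩ := h.exists_k (by norm_num) hyr (hNR hy)
      have hT := h.trace_mul_trace (by norm_num) hyr (hNR hy) hk
      rw [htr, hxi, hxm, Matrix.trace_diagonal, Matrix.trace_diagonal, Fin.sum_univ_four, Fin.sum_univ_four] at hT
      simp at hT
      have hk' : k = 1 ∨ k = 4 ∨ k = 16 := by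
        have hle := Nat.le_of_dvd (by norm_num) hk16
        unfold Nat.ModEq at hkm
        interval_cases k <;> omega
      rcases hk' with rfl | rfl | rfl
      · push_cast at hT
        exact mul_ne_zero h2 h3 (by linear_combination hT - 9 * hw3 - 3 * hw0)
      · push_cast at hT
        exact h3 (by linear_combination hT - 9 * hw3 - 3 * hw0)
      · exact hyn _ (h.scalar_of_all hk).choose_spec
    · obtain ⟨t, ht⟩ := exists_golden (F := F) hp2 (hr5 rfl)
      let x : GL (Fin 4) F := Matrix.GeneralLinearGroup.mkOfDetNeZero (Tm t) (by rw [det_Tm]; exact one_ne_zero)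
      have hxm : (x : Matrix (Fin 4) (Fin 4) F) = Tm t := rfl
      have hx5 : x ^ 5 = 1 := Units.ext (by rw [Units.val_pow_eq_pow_val, hxm, Units.val_one]; exact pow_five_of_cubic (Tm_cubic t) ht)
      obtain ⟨g, hy, hyr, hyn, htr⟩ := transport hall (hSL.2 (det_Tm t)) hx5 fun z => by rw [hxm]; exact Tm_ne t z
      obtain ⟨k, hk, hk16, hkm⟩ := h.exists_k (by norm_num) hyr (hNR hy)
      have hT := h.trace_mul_trace (by norm_num) hyr (hNR hy) hk
      have hxi : ((x⁻¹ : GL (Fin 4) F) : Matrix (Fin 4) (Fin 4) F) = Ti t := by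
        rw [Matrix.coe_units_inv, hxm]; exact Matrix.inv_eq_right_inv (Tm_Ti _)
      rw [htr, hxi, hxm, trace_Tm, trace_Ti] at hT
      have hk' : k = 1 ∨ k = 16 := by
        have hle := Nat.le_of_dvd (by norm_num) hk16
        unfold Nat.ModEq at hkm
        interval_cases k <;> omega
      rcases hk' with rfl | rfl
      · push_cast at hT
        have h4 : 3 * t + 4 = 0 := by linear_combination hT - ht
        have h5 : (5 : F) = 0 := by linear_combination (3 * t - 1) * h4 - 9 * ht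
        have hs2 : t - 2 = 0 := (mul_eq_zero.1 (show 3 * (t - 2) = 0 by linear_combination h4 - 2 * h5)).resolve_left h3
        refine hyn _ (h.transvection_four hzs (r := 5) (by norm_num) hyr (hNR hy)
          ((phi F).comp (Matrix.mulVecLin (g : Matrix (Fin 4) (Fin 4) F))) fun v hv => ?_).choose_spec
        simp only [phi, LinearMap.comp_apply, LinearMap.add_apply, LinearMap.proj_apply, Matrix.mulVecLin_apply] at hv
        obtain ⟨u, hu⟩ : ∃ u, u = (g : Matrix (Fin 4) (Fin 4) F) *ᵥ v := ⟨_, rfl⟩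
        rw [← hu] at hv
        have hfix : Tm t *ᵥ u = u := by
          funext i
          fin_cases i <;> simp [Tm, Matrix.mulVec, dotProduct, Fin.sum_univ_four] <;>
            first
              | linear_combination -hv
              | linear_combination hv + (u 1) * hs2
        rw [Units.val_mul, Units.val_mul, ← Matrix.mulVec_mulVec, ← Matrix.mulVec_mulVec, ← hu, hxm, hfix, hu,
          Matrix.mulVec_mulVec, Units.inv_mul, Matrix.one_mulVec]
      · exact hyn _ (h.scalar_of_all hk).choose_spec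
  · rintro hcase x hx hxz hxn
    obtain ⟨z, hz⟩ := hxz
    have hz4x : z ^ 4 = 1 := hz4' (pow_mem hx r) hz
    have hz0 : z ≠ 0 := fun e'' => by rw [e''] at hz4x; simp at hz4x
    rcases hcase with rfl | ⟨rfl, hp23⟩ | ⟨rfl, hord⟩
    · rw [pow_two, Units.val_mul] at hz
      have key : ∀ M : Matrix (Fin 4) (Fin 4) F, M * M = z • 1 → M ^ 8 = 1 := fun M hM => by
        rw [show 8 = 2 * 4 from rfl, pow_mul, pow_two M, hM, _root_.smul_pow, one_pow, hz4x, one_smul]
      obtain ⟨y, hyN, hyz, hyn, hyt⟩ : ∃ y : GL (Fin 4) F, y ∈ N ∧ (y : Matrix (Fin 4) (Fin 4) F) * y = z • 1 ∧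
          (∀ c : F, (y : Matrix (Fin 4) (Fin 4) F) ≠ c • 1) ∧ (y : Matrix (Fin 4) (Fin 4) F).trace = (x : Matrix (Fin 4) (Fin 4) F).trace := by
        rcases two_cases hι h2 hz0 hz hxn (hSL.1 hx) with ⟨ht, hz2⟩ | ⟨ht, -, -⟩
        · have hy : ∃ y ∈ R, (y : Matrix (Fin 4) (Fin 4) F) * y = z • 1 ∧ (y : Matrix (Fin 4) (Fin 4) F).trace = 0 := by
            rcases sq_eq_one_iff.1 hz2 with rfl | rfl
            · exact ⟨e 0, E.mem 0, by rw [one_smul]; exact E.em_sq 0, E.trace_em h 0⟩
            · exact ⟨e 0 * e 1, mul_mem (E.mem 0) (E.mem 1), E.pair_sq (by decide), E.trace_pair h (by decide)⟩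
          obtain ⟨y, hyR, hyz, hyt⟩ := hy
          refine ⟨y, Subgroup.le_normalizer hyR, hyz, fun c hc => ?_, by rw [hyt, ht]⟩
          rw [hc, Matrix.trace_smul, Matrix.trace_one, hι, smul_eq_mul] at hyt
          rcases mul_eq_zero.1 hyt with rfl | h4
          · rw [hc] at hyz
            have := congrFun (congrFun hyz 0) 0
            simp at this
            exact hz0 this.symm
          · exact h2 (mul_self_eq_zero.1 (by push_cast at h4; linear_combination h4))
        · obtain ⟨l, hl⟩ : ∃ l, l = (x : Matrix (Fin 4) (Fin 4) F).trace / 2 := ⟨_, rfl⟩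
          have hl2 : l * l = z := by rw [hl, div_mul_div_comm, ← pow_two, ht]; field_simp; ring
          have hl0 : l ≠ 0 := fun e'' => hz0 (by rw [← hl2, e'', mul_zero])
          have hsq : (l • cm e s) * (l • cm e s) = z • 1 := by rw [smul_mul_smul_comm, E.cm_sq h2 hs, hl2]
          let y : GL (Fin 4) F := Matrix.GeneralLinearGroup.mkOfDetNeZero (l • cm e s) (fun hd => by
            have h1 := congrArg Matrix.det hsq
            rw [Matrix.det_mul, hd, mul_zero, Matrix.det_smul, Matrix.det_one, mul_one] at h1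
            exact pow_ne_zero _ hz0 h1.symm)
          refine ⟨y, E.cm_mem h hs hS.1 hSs (c := l) rfl, hsq, fun c hc => ?_, ?_⟩
          · refine cm_ne h E hs (c / l) ?_
            have h1 : l • cm e s = c • (1 : Matrix (Fin 4) (Fin 4) F) := hc
            rw [div_eq_inv_mul, ← smul_smul, ← h1, smul_smul, inv_mul_cancel₀ hl0, one_smul]
          · show (l • cm e s).trace = _
            rw [Matrix.trace_smul, E.trace_cm h, smul_eq_mul, hl, div_mul_cancel₀ _ h2]
      have h8 : ((8 : ℕ) : F) ≠ 0 := by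
        rw [show ((8 : ℕ) : F) = 2 * 2 * 2 by norm_num]; exact mul_ne_zero (mul_ne_zero h2 h2) h2
      obtain ⟨g, hg, hgx⟩ := Cfsg.Agent.S5998.conj_semisimple (by norm_num) x y 8 h8 (key _ hz) (key _ hyz)
        (charpoly_two hι h2 hz0 hz hyz hxn hyn hyt.symm)
      exact ⟨g, hg, hgx ▸ hyN⟩
    · let L := AlgebraicClosure F
      have h3L : ((3 : ℕ) : L) ≠ 0 := by
        rw [← map_natCast (algebraMap F L), ne_eq, map_eq_zero]; exact_mod_cast h3
      haveI : NeZero ((3 : ℕ) : L) := ⟨h3L⟩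
      obtain ⟨ζ, hζ⟩ := HasEnoughRootsOfUnity.exists_primitiveRoot L 3
      have hinv : ∀ (A : Matrix (Fin 4) (Fin 4) F) (f : ZMod 3 → ℕ), A.charpoly.map (algebraMap F L) = Pm ζ f → ∀ u, f (-u) = f u := by
        intro A f hf u
        have hu : ((-1 : (ZMod 3)ˣ) : ZMod 3) = (Fintype.card F : ZMod 3) := by
          rw [hF, ← ZMod.natCast_mod p 3, hp23]; rfl
        have := Pm_frob_invariant hζ hu f A.charpoly hf u
        rwa [Units.val_neg, Units.val_one, neg_one_mul] at this
      have hdet1 : ∀ {M : Matrix (Fin 4) (Fin 4) F}, M ^ 3 = 1 → M.det = 1 := fun {M} hM => by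
        have hd3 : M.det ^ 3 = 1 := by rw [← Matrix.det_pow, hM, Matrix.det_one]
        have hd0 : M.det ≠ 0 := fun e'' => by rw [e''] at hd3; simp at hd3
        have := pow_gcd_eq_one.2 ⟨hd3, (hF ▸ FiniteField.pow_card_sub_one_eq_one M.det hd0 : M.det ^ (p - 1) = 1)⟩
        rwa [(Nat.Prime.coprime_iff_not_dvd Nat.prime_three).2 (by omega : ¬ 3 ∣ p - 1), pow_one] at this
      have hx12 : x ^ 12 = 1 := Units.ext (by
        rw [show 12 = 3 * 4 from rfl, pow_mul, Units.val_pow_eq_pow_val, hz, _root_.smul_pow, one_pow, hz4x, one_smul, Units.val_one])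
      have hx4n : ∀ c : F, ((x ^ 4 : GL (Fin 4) F) : Matrix (Fin 4) (Fin 4) F) ≠ c • 1 := fun c hc => by
        rw [pow_succ', Units.val_mul, hz, mul_smul_comm, mul_one] at hc
        refine hxn (c / z) ?_
        rw [div_eq_inv_mul, ← smul_smul, ← hc, smul_smul, inv_mul_cancel₀ hz0, one_smul]
      have hX3 : ((x ^ 4 : GL (Fin 4) F) : Matrix (Fin 4) (Fin 4) F) ^ 3 = 1 := by
        rw [← Units.val_pow_eq_pow_val, ← pow_mul, hx12]; rfl
      obtain ⟨t, ht, htX, -⟩ := three_props (L := L) h3 hζ _ hι hX3 (fun e'' => hx4n 1 (by rw [e'', one_smul])) (hinv _)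
      obtain ⟨y, hyN, hy3, hyt⟩ : ∃ y : GL (Fin 4) F, y ∈ N ∧ (y : Matrix (Fin 4) (Fin 4) F) ^ 3 = 1 ∧
          (y : Matrix (Fin 4) (Fin 4) F).trace = ((x ^ 4 : GL (Fin 4) F) : Matrix (Fin 4) (Fin 4) F).trace := by
        have h44 : (4 : F) ≠ 0 := by rw [show (4 : F) = 2 * 2 by norm_num]; exact mul_ne_zero h2 h2
        have hu3 : ∀ {M : Matrix (Fin 4) (Fin 4) F}, M ^ 3 = 1 → M.det ≠ 0 := fun hM => by
          rw [hdet1 hM]; exact one_ne_zero
        rcases ht with rfl | rfl
        · have hk3 : ((-s / 4) • (um e 0 1 * um e 1 2 * km e s)) ^ 3 = 1 := by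
            rw [_root_.smul_pow, (E.three_comm_km s).mul_pow, E.three_cube, E.km_cube hs, smul_mul_smul_comm, one_mul, smul_smul]
            rw [show (-s / 4) ^ 3 * (8 * -(8 * s)) = 1 by field_simp; linear_combination (64 * (s ^ 2 - 1)) * hs, one_smul]
          have hd := hu3 hk3
          have hd' : (um e 0 1 * um e 1 2).det ≠ 0 ∧ (km e s).det ≠ 0 := by
            rw [Matrix.det_smul, Matrix.det_mul] at hd
            exact ⟨left_ne_zero_of_mul (right_ne_zero_of_mul hd), right_ne_zero_of_mul (right_ne_zero_of_mul hd)⟩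
          let H : GL (Fin 4) F := Matrix.GeneralLinearGroup.mkOfDetNeZero (um e 0 1 * um e 1 2) hd'.1
          let K : GL (Fin 4) F := Matrix.GeneralLinearGroup.mkOfDetNeZero (km e s) hd'.2
          have hc0 : (-s / 4) ≠ 0 := fun e'' => by rw [Matrix.det_smul, e''] at hd; simp at hd
          let C : GL (Fin 4) F := Matrix.GeneralLinearGroup.mkOfDetNeZero ((-s / 4) • (1 : Matrix (Fin 4) (Fin 4) F))
            (by rw [Matrix.det_smul, Matrix.det_one, mul_one]; exact pow_ne_zero _ hc0)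
          have hy : ((C * (H * K) : GL (Fin 4) F) : Matrix (Fin 4) (Fin 4) F) = (-s / 4) • (um e 0 1 * um e 1 2 * km e s) := by
            rw [Units.val_mul, Units.val_mul]
            show ((-s / 4) • (1 : Matrix (Fin 4) (Fin 4) F)) * (um e 0 1 * um e 1 2 * km e s) = _
            rw [smul_mul_assoc, one_mul]
          refine ⟨C * (H * K), mul_mem (hscN (c := -s / 4) rfl) (mul_mem (E.three_mem h (c := 1) one_ne_zero (one_smul F _).symm)
            (E.km_mem h hs hS.1 hSs (c := 1) (one_smul F _).symm)), by rw [hy]; exact hk3, ?_⟩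
          rw [hy, htX, Matrix.trace_smul, E.trace_three_km h, smul_eq_mul]
          push_cast; field_simp; linear_combination -hs
        · have hk3 : ((2 : F)⁻¹ • (um e 0 1 * um e 1 2)) ^ 3 = 1 := by
            rw [_root_.smul_pow, E.three_cube, smul_smul, show (2 : F)⁻¹ ^ 3 * 8 = 1 by field_simp; ring, one_smul]
          refine ⟨Matrix.GeneralLinearGroup.mkOfDetNeZero _ (hu3 hk3), E.three_mem h (inv_ne_zero h2) rfl, hk3, ?_⟩
          show ((2 : F)⁻¹ • (um e 0 1 * um e 1 2)).trace = _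
          rw [htX, Matrix.trace_smul, E.trace_three h, smul_eq_mul]
          push_cast; field_simp; ring
      have hy1 : (y : Matrix (Fin 4) (Fin 4) F) ≠ 1 := fun e'' => by
        rw [e'', htX, Matrix.trace_one, hι] at hyt
        push_cast at hyt
        rcases ht with rfl | rfl <;> push_cast at hyt
        · exact h3 (by linear_combination hyt)
        · exact mul_ne_zero h2 h3 (by linear_combination hyt)
      obtain ⟨g, hg, hgx⟩ := Cfsg.Agent.S5998.conj_semisimple (by norm_num) (x ^ 4) y 3 (by exact_mod_cast h3) hX3 hy3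
        (three_charpoly (L := L) h3 hζ hι hX3 (fun e'' => hx4n 1 (by rw [e'', one_smul])) hy3 hy1 (hinv _) (hinv _) hyt.symm)
      refine ⟨g, hg, ?_⟩
      have e'' : g⁻¹ * x * g = g⁻¹ * x ^ 4 * g * (x ^ 3)⁻¹ := by
        have hc1 : (x ^ 3)⁻¹ * g = g * (x ^ 3)⁻¹ := ((comm_of_scalar hz g).inv_left).eq
        rw [mul_assoc (g⁻¹ * x ^ 4), ← hc1, pow_succ' x 3, mul_assoc g⁻¹ (x * x ^ 3), mul_assoc x, mul_inv_cancel_left, mul_assoc]
      rw [e'', hgx]
      exact mul_mem hyN (inv_mem (hscN hz))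
    · have hp23 := (Cfsg.Agent.S6002.ord4_iff _).1 hord
      have hp5 : (p : ZMod 5) ≠ 0 := by rcases hp23 with e'' | e'' <;> rw [e''] <;> first | exact (show (2 : Fin 5) ≠ 0 by decide) | exact (show (3 : Fin 5) ≠ 0 by decide)
      have h5 : (5 : F) ≠ 0 := by
        exact_mod_cast hcast 5 Nat.prime_five fun e'' => hp5 (by rw [← e'']; rfl)
      let L := AlgebraicClosure F
      have h5L : ((5 : ℕ) : L) ≠ 0 := by
        rw [← map_natCast (algebraMap F L), ne_eq, map_eq_zero]; exact_mod_cast h5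
      haveI : NeZero ((5 : ℕ) : L) := ⟨h5L⟩
      obtain ⟨ζ, hζ⟩ := HasEnoughRootsOfUnity.exists_primitiveRoot L 5
      have H : ∀ y ∈ Cfsg.Geo.specialLinear (Fin 4) F, y ^ 5 = 1 → y ≠ 1 → (y : Matrix (Fin 4) (Fin 4) F).trace = -1 ∧
          ∀ v : Fin 4 → F, (y : Matrix (Fin 4) (Fin 4) F) *ᵥ v = v → v = 0 := by
        intro y _ hy5 hy1
        refine five_props (L := L) h5 hζ _ hι (by rw [← Units.val_pow_eq_pow_val, hy5]; rfl) (fun e'' => hy1 (Units.ext e''))
          (g := (p : ZMod 5)) hp23 fun f hf u => ?_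
        exact Pm_frob_invariant hζ (u := Units.mk0 (p : ZMod 5) hp5) (by rw [Units.val_mk0, hF]) f _ hf u
      have hx20 : (x ^ 4) ^ 5 = 1 := Units.ext (by
        rw [← pow_mul, show 4 * 5 = 5 * 4 from rfl, pow_mul, Units.val_pow_eq_pow_val, hz, _root_.smul_pow, one_pow, hz4x, one_smul, Units.val_one])
      have hx41 : x ^ 4 ≠ 1 := fun e'' => by
        rw [pow_succ, e'', one_mul] at hz
        exact hxn z hz
      let M := um e 0 1 * um e 1 2 * (um e 2 3 * um e 3 4)
      have hMd : M.det ≠ 0 := by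
        have hu : ∀ {k l : Fin 5}, k ≠ l → (um e k l).det ≠ 0 := fun hkl hd => by
          have h1 := congrArg Matrix.det (E.um_sq hkl)
          rw [Matrix.det_mul, hd, mul_zero, Matrix.det_smul, Matrix.det_one, mul_one] at h1
          exact pow_ne_zero _ h2 h1.symm
        simp only [M, Matrix.det_mul]
        exact mul_ne_zero (mul_ne_zero (hu (by decide)) (hu (by decide))) (mul_ne_zero (hu (by decide)) (hu (by decide)))
      let G : GL (Fin 4) F := Matrix.GeneralLinearGroup.mkOfDetNeZero M hMd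
      have hGN : G ∈ N := E.five_mem h (c := 1) (one_smul F _).symm
      have hGn : ∀ c : F, (G : Matrix (Fin 4) (Fin 4) F) ≠ c • 1 := E.five_nonscalar h (c := 1) (one_smul F _).symm
      obtain ⟨d, hd⟩ := E.pow_five_scalar h
      have hd5 : M.det ^ 5 = d ^ 4 := by rw [← Matrix.det_pow]; simp only [M]; rw [hd, Matrix.det_smul, Matrix.det_one, mul_one, hι]
      let C : GL (Fin 4) F := Matrix.GeneralLinearGroup.mkOfDetNeZero ((M.det)⁻¹ • (1 : Matrix (Fin 4) (Fin 4) F))
        (by rw [Matrix.det_smul, Matrix.det_one, mul_one]; exact pow_ne_zero _ (inv_ne_zero hMd))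
      have hY : ((C * G ^ 4 : GL (Fin 4) F) : Matrix (Fin 4) (Fin 4) F) = (M.det)⁻¹ • M ^ 4 := by
        rw [Units.val_mul, Units.val_pow_eq_pow_val]
        show ((M.det)⁻¹ • (1 : Matrix (Fin 4) (Fin 4) F)) * M ^ 4 = _
        rw [smul_mul_assoc, one_mul]
      have hY5 : (C * G ^ 4) ^ 5 = 1 := Units.ext (by
        rw [Units.val_pow_eq_pow_val, hY, _root_.smul_pow, ← pow_mul, show 4 * 5 = 5 * 4 from rfl, pow_mul]
        simp only [M]
        rw [hd, _root_.smul_pow, one_pow, smul_smul, Units.val_one, _root_.inv_pow]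
        simp only [M] at hd5
        rw [hd5, inv_mul_cancel₀ (by rw [← hd5]; exact pow_ne_zero _ hMd), one_smul])
      have hY1 : C * G ^ 4 ≠ 1 := fun e'' => by
        have h1 : M ^ 4 = M.det • 1 := by
          have h2' : (M.det)⁻¹ • M ^ 4 = 1 := by rw [← hY, e'']; rfl
          rw [← h2', smul_smul, mul_inv_cancel₀ hMd, one_smul]
        have h3' : M ^ 4 * M = d • 1 := by rw [← pow_succ]; exact hd
        rw [h1, smul_mul_assoc, one_mul] at h3'
        refine hGn (d / M.det) ?_
        show M = _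
        rw [div_eq_inv_mul, ← smul_smul, ← h3', smul_smul, inv_mul_cancel₀ hMd, one_smul]
      have hYsl : C * G ^ 4 ∈ Cfsg.Geo.specialLinear (Fin 4) F := hSL.2 (by
        rw [hY, Matrix.det_smul, Matrix.det_pow, hι, ← mul_pow, inv_mul_cancel₀ hMd, one_pow])
      have hc20 : (20 : F) ≠ 0 := by
        rw [show (20 : F) = 2 * 2 * 5 by norm_num]; exact mul_ne_zero (mul_ne_zero h2 h2) h5
      obtain ⟨g, hg, j, hgj⟩ := five_conj' hc20 hι (Cfsg.Geo.specialLinear (Fin 4) F) H (pow_mem hx 4) hYsl hx20 hY5 hx41 hY1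
      refine ⟨g, hg, ?_⟩
      have e'' : g⁻¹ * x * g = x ^ 5 * (g⁻¹ * x ^ 4 * g)⁻¹ := by
        have hc1 : g⁻¹ * x ^ 5 * g = x ^ 5 := by
          rw [mul_assoc, (comm_of_scalar hz g).eq, inv_mul_cancel_left]
        calc g⁻¹ * x * g = g⁻¹ * (x ^ 5 * (x ^ 4)⁻¹) * g := by rw [pow_succ' x 4, mul_inv_cancel_right]
          _ = g⁻¹ * x ^ 5 * g * (g⁻¹ * x ^ 4 * g)⁻¹ := by simp only [_root_.mul_inv_rev, inv_inv, mul_assoc, mul_inv_cancel_left]
          _ = _ := by rw [hc1]
      rw [e'', hgj]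
      exact mul_mem (hscN hz) (inv_mem (pow_mem (mul_mem (hscN (c := (M.det)⁻¹) rfl) (pow_mem hGN 4)) j))

end Cfsg.Agent.S6000
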