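import Cfsg.Statements.S6001
import Cfsg.Agent.Lib.Linear.ExtraTwo.Elements
import Cfsg.Agent.Lib.Linear.ExtraTwo.Char
import Cfsg.Agent.Lib.Linear.ExtraTwo.Transvection
import Cfsg.Agent.Lib.Linear.ExtraTwo.UConj
import Cfsg.Agent.S5953
import Cfsg.Agent.S6000
-- import your own Cfsg.Agent.* helpers here

set_option autoImplicit false
open scoped MatrixGroups
open Cfsg

namespace Cfsg.Agent.S6001

set_option maxHeartbeats 4000000

open Cfsg.Lib.Linear.ExtraTwo Cfsg.Agent.Lib.Linear.PrimeClasses Cfsg.Lib.Linear.Herm Cfsg.Lib.Linear.IsoFix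
open Cfsg.Lib.Linear.ExtraTwo.Frame (cm km)
open scoped Matrix

attribute [local instance] prime_five_fact

section Aux

variable {F : Type*} [Field F] [Fintype F] {q : ℕ}

theorem adj_sub (hF : Fintype.card F = q ^ 2) {ι κ : Type} (M N : Matrix ι κ F) :
    adj hF (M - N) = adj hF M - adj hF N := by
  ext i j; simp [adj]

theorem adj_add (hF : Fintype.card F = q ^ 2) {ι κ : Type} (M N : Matrix ι κ F) :
    adj hF (M + N) = adj hF M + adj hF N := by
  ext i j; simp [adj]

/-- The test element. -/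
noncomputable def Ub (hF : Fintype.card F = q ^ 2) (a b : F) : Matrix (Fin 4) (Fin 4) F :=
  !![a, -(frob hF b), 0, 0; b, frob hF a, 0, 0; 0, 0, 1, 0; 0, 0, 0, 1]

theorem Ub_props (hF : Fintype.card F = q ^ 2) {a b t : F} (ht : a + frob hF a = t) (hn : frob hF a * a + frob hF b * b = 1) :
    IsU hF (Ub hF a b) ∧ (Ub hF a b).det = 1 ∧
      (Ub hF a b - 1) * (Ub hF a b * Ub hF a b - t • Ub hF a b + 1) = 0 ∧
      (Ub hF a b).trace = t + 2 ∧ (adj hF (Ub hF a b)).trace = t + 2 ∧ (b ≠ 0 → ∀ z : F, Ub hF a b ≠ z • 1) := by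
  refine ⟨?_, ?_, ?_, ?_, ?_, ?_⟩
  · show adj hF (Ub hF a b) * Ub hF a b = 1
    ext i j
    fin_cases i <;> fin_cases j <;> simp [Ub, adj, Matrix.mul_apply, Fin.sum_univ_four, frob_frob hF] <;>
      first | linear_combination hn | ring1
  · simp [Ub, Matrix.det_succ_row_zero, Fin.sum_univ_succ, Fin.succAbove]
    linear_combination hn
  · rw [← ht]
    ext i j
    fin_cases i <;> fin_cases j <;> simp [Ub, Matrix.mul_apply, Fin.sum_univ_four] <;>
      first
        | linear_combination (1 - a) * hn | linear_combination (1 - frob hF a) * hn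
        | linear_combination (-b) * hn | linear_combination (frob hF b) * hn
  · rw [← ht]; simp [Ub, Matrix.trace, Fin.sum_univ_four]; ring
  · rw [← ht]; simp [Ub, adj, Matrix.trace, Fin.sum_univ_four, frob_frob hF]; ring
  · intro hb z hz
    have h1 := congrFun (congrFun hz 1) 0
    simp [Ub] at h1
    exact hb h1

/-- A square root of a scalar is an eigenvalue. -/
theorem root_of_sq {ι : Type*} [Fintype ι] [DecidableEq ι] {A : Matrix ι ι F} {l : F} (hA : A * A = (l * l) • 1)
    (hn : ∀ c : F, A ≠ c • 1) : A.charpoly.IsRoot l := by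
  rw [Polynomial.IsRoot, Matrix.eval_charpoly]
  by_contra hd
  have hu : IsUnit (Matrix.scalar ι l - A) := by
    rw [Matrix.isUnit_iff_isUnit_det, isUnit_iff_ne_zero]; exact hd
  have h0 : (Matrix.scalar ι l - A) * (l • 1 + A) = 0 := by
    rw [Matrix.scalar_apply, ← Matrix.smul_one_eq_diagonal, sub_mul, mul_add, mul_add, hA, smul_mul_assoc, one_mul,
      smul_smul, smul_mul_assoc, one_mul, mul_smul_comm, mul_one]
    abel
  have h1 := hu.mul_right_eq_zero.1 h0
  exact hn (-l) (by rw [neg_smul, eq_neg_iff_add_eq_zero, add_comm, h1])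

end Aux

section Five

/-- The golden root fixed by the Frobenius map. -/
theorem exists_golden' {F : Type*} [Field F] [Fintype F] {p : ℕ} [Fact p.Prime] [CharP F p] (hp2 : p ≠ 2)
    (hord : orderOf (p : ZMod 5) ≠ 4) : ∃ s : F, s ^ 2 + s - 1 = 0 ∧ s ^ p = s := by
  obtain ⟨u, hu⟩ := Cfsg.Agent.S6000.exists_golden (F := ZMod p) (p := p) hp2 hord
  refine ⟨ZMod.castHom (dvd_refl p) F u, ?_, by rw [← map_pow, ZMod.pow_card]⟩
  have h1 := congrArg (ZMod.castHom (dvd_refl p) F) hu
  rwa [map_sub, map_add, map_pow, map_one, map_zero] at h1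

end Five

/-- Elements of prime order of PSU_4(p), p ≡ 3 (mod 4), and the normalizer of a 2-group of symplectic type of order 2⁶. Here `T = PSU_4(p)` for a prime `p ≡ 3 (mod 4)`, realised through `SU_4(p)`, the matrices of determinant 1 over the field `F` with `p²` elements preserving the hermitian form `f = Σ uᵢvᵢ^p`; `R` is an absolutely irreducible subgroup of the full unitary group of `f` of order 2⁶ that is a 2-group of symplectic type of exponent 4 with centre of order 4, and `H` is the subgroup of `SU_4(p)` normalizing `R` — a subgroup of type 2⁴.Sp₄(2) (maximality is not assumed). Ω is the set of cosets of `H`, so an element of `T` of prime order `r` (`x ∈ SU_4(p)` with `x^r` scalar, `x` not scalar) fixes a point of Ω exactly when some `SU_4(p)`-conjugate of `x` normalizes `R`. Let `r` be a prime dividing the index of `H`. Then every element of `T` of order `r` fixes a point of Ω if and only if `r = 2`, or `r = 3` and `p ≡ 1 (mod 3)`, or `r = 5` and `p ≡ ±2 (mod 5)`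 (`p` has multiplicative order 4 modulo 5). -/
theorem result {F : Type*} [Field F] [Fintype F] {p : ℕ} [Fact p.Prime] [CharP F p] (hF : Fintype.card F = p ^ 2) (hp4 : p % 4 = 3)
    (R : Subgroup (GL (Fin 4) F)) (hRs : Cfsg.Geo.IsSymplecticTypeGroup 2 R) (hRi : Cfsg.Geo.ActsAbsolutelyIrreducibly (Cfsg.Geo.matrixSet R))
    (hRU : R ≤ Cfsg.GU 4 F p) (hR6 : Nat.card R = 2 ^ 6) (hRZ : Nat.card (Subgroup.center R) = 4)
    (r : ℕ) [Fact r.Prime]
    (hΩ : r ∣ (Cfsg.Geo.subgroupNormalizer R).relIndex (Cfsg.GU 4 F p ⊓ Cfsg.Geo.specialLinear (Fin 4) F)) :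
    (∀ x ∈ Cfsg.GU 4 F p ⊓ Cfsg.Geo.specialLinear (Fin 4) F, (∃ z : F, ((x ^ r : GL (Fin 4) F) : Matrix (Fin 4) (Fin 4) F) = z • (1 : Matrix (Fin 4) (Fin 4) F)) →
      (∀ z : F, (x : Matrix (Fin 4) (Fin 4) F) ≠ z • (1 : Matrix (Fin 4) (Fin 4) F)) →
      ∃ g ∈ Cfsg.GU 4 F p ⊓ Cfsg.Geo.specialLinear (Fin 4) F, g⁻¹ * x * g ∈ Cfsg.Geo.subgroupNormalizer R) ↔ (r = 2 ∨ (r = 3 ∧ p % 3 = 1) ∨ (r = 5 ∧ orderOf (p : ZMod 5) = 4)) := by
  classical
  obtain ⟨hr⟩ := (inferInstance : Fact r.Prime)
  have hp : p.Prime := Fact.out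
  haveI : Fact (Nat.Prime 3) := ⟨Nat.prime_three⟩
  have hp2 : p ≠ 2 := by omega
  have hcast : ∀ k : ℕ, k.Prime → k ≠ p → ((k : ℕ) : F) ≠ 0 := fun k hk hne e =>
    hne ((Nat.prime_dvd_prime_iff_eq hp hk).1 ((CharP.cast_eq_zero_iff F p k).1 e)).symm
  have h2 : (2 : F) ≠ 0 := by exact_mod_cast hcast 2 Nat.prime_two hp2.symm
  have hι : Fintype.card (Fin 4) = 4 := rfl
  have h := Ctx.mk' h2 hι hRs hRi (by rw [hR6, hRZ]; norm_num) (Or.inr hRZ)
  have hzs : Nat.card (zs R) = 4 := by rw [card_zs, hRZ]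
  obtain ⟨e, E⟩ := h.exists_frame_four hzs
  obtain ⟨S, hS, hSS⟩ := h.exists_root hzs
  obtain ⟨s, hSs⟩ := h.scalar (mem_zs.1 hS).2
  have hs : s ^ 2 = -1 := by
    have h0 : ((S * S : GL (Fin 4) F) : Matrix (Fin 4) (Fin 4) F) = ((-1 : GL (Fin 4) F) : Matrix (Fin 4) (Fin 4) F) := congrArg Units.val hSS
    have h1 := congrFun (congrFun h0 0) 0
    rw [Units.val_mul, hSs, smul_mul_smul_comm, one_mul] at h1
    simp at h1
    linear_combination h1
  have hfs : frob hF s = -s := by
    rw [frob_apply, show p = 4 * (p / 4) + 3 by omega, pow_add, pow_mul, show s ^ 4 = 1 by linear_combination (s ^ 2 - 1) * hs,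
      one_pow, one_mul]
    linear_combination s * hs
  have hsn : s ^ (p + 1) = 1 := by
    rw [pow_succ, ← frob_apply hF, hfs]; linear_combination -hs
  set N := Cfsg.Geo.subgroupNormalizer R with hN
  have hNR : ∀ {g : GL (Fin 4) F}, g ∈ N → ∀ x ∈ R, g * x * g⁻¹ ∈ R := fun {g} hg x hx =>
    (Subgroup.mem_normalizer_iff.1 hg x).1 hx
  have hscN : ∀ {u : GL (Fin 4) F} {c : F}, (u : Matrix (Fin 4) (Fin 4) F) = c • 1 → u ∈ N := fun {u c} hu =>
    Subgroup.mem_normalizer_iff.2 fun v => by rw [(comm_of_scalar hu v).eq, mul_inv_cancel_right]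
  set G₀ := Cfsg.GU 4 F p ⊓ Cfsg.Geo.specialLinear (Fin 4) F with hG₀
  have hG : ∀ {x : GL (Fin 4) F}, x ∈ G₀ ↔ IsU hF (x : Matrix (Fin 4) (Fin 4) F) ∧ (x : Matrix (Fin 4) (Fin 4) F).det = 1 := fun {x} => by
    rw [hG₀, Subgroup.mem_inf, mem_GU_iff hF, mem_sl_iff]
  have hz4' : ∀ {x : GL (Fin 4) F}, x ∈ G₀ → ∀ {z : F}, (x : Matrix (Fin 4) (Fin 4) F) = z • 1 → z ^ 4 = 1 := by
    intro x hx z hz
    have h1 := (hG.1 hx).2
    rwa [hz, Matrix.det_smul, Matrix.det_one, mul_one, hι] at h1
  have hiA : ∀ {x : GL (Fin 4) F}, IsU hF (x : Matrix (Fin 4) (Fin 4) F) → ((x⁻¹ : GL (Fin 4) F) : Matrix (Fin 4) (Fin 4) F) = adj hF (x : Matrix (Fin 4) (Fin 4) F) := fun {x} hx => by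
    rw [Matrix.coe_units_inv]; exact Matrix.inv_eq_left_inv hx
  constructor
  · intro hall
    by_contra hne
    push Not at hne
    obtain ⟨hr2, hr3, hr5⟩ := hne
    rcases (show 7 ≤ r ∨ r = 3 ∨ r = 5 by
        have := hr.two_le
        rcases Nat.lt_or_ge r 7 with h7 | h7
        · interval_cases r <;> first | exact absurd rfl hr2 | (right; left; rfl) | (right; right; rfl) | exact absurd hr (by decide)
        · exact Or.inl h7) with h7 | rfl | rfl
    · obtain ⟨x, hx⟩ := exists_prime_orderOf_dvd_card' r (hΩ.trans (Subgroup.index_dvd_card _))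
      have hxr : (x : GL (Fin 4) F) ^ r = 1 := by
        rw [← SubmonoidClass.coe_pow, ← hx, pow_orderOf_eq_one]; rfl
      have hxn : ∀ z : F, ((x : GL (Fin 4) F) : Matrix (Fin 4) (Fin 4) F) ≠ z • 1 := by
        intro z hz
        have hzr : z ^ r = 1 := by
          have h1 := congrArg Units.val hxr
          rw [Units.val_pow_eq_pow_val, hz, _root_.smul_pow, one_pow] at h1
          simpa using congrFun (congrFun h1 0) 0
        have hz1 : z = 1 := by
          have := pow_gcd_eq_one.2 ⟨hzr, hz4' x.2 hz⟩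
          rwa [show Nat.gcd r 4 = 1 from Nat.Coprime.pow_right 2 ((Nat.coprime_primes hr Nat.prime_two).2 hr2), pow_one] at this
        have hx1 : x = 1 := Subtype.ext (Units.ext (by rw [hz, hz1, one_smul]; rfl))
        rw [hx1, orderOf_one] at hx
        exact hr.one_lt.ne hx
      obtain ⟨g, hy, hyr, hyn, -⟩ := Cfsg.Agent.S6000.transport hall x.2 hxr hxn
      obtain ⟨l, hl⟩ := h.seven_le h7 hyr (hNR hy)
      exact hyn l hl
    · by_cases hp3 : p = 3
      · subst hp3
        have h3 : (3 : F) = 0 := by exact_mod_cast CharP.cast_eq_zero F 3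
        obtain ⟨bu, hbu⟩ := exists_norm_eq hF (μ := (-1 : F)) (neg_ne_zero.2 one_ne_zero) (by norm_num)
        obtain ⟨b, hb⟩ : ∃ b, b = (bu : F) := ⟨_, rfl⟩
        have hNb : frob hF b * b = -1 := by rw [frob_apply, hb, ← pow_succ, hbu]
        have hb0 : b ≠ 0 := fun e'' => by rw [e'', mul_zero] at hNb; exact one_ne_zero (neg_eq_zero.1 hNb.symm)
        obtain ⟨hU, hd, hcub, htr1, htr2, hns⟩ := Ub_props hF (a := 1 + s) (b := b) (t := -1)
          (by rw [map_add, map_one, hfs]; linear_combination h3)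
          (by rw [map_add, map_one, hfs]; linear_combination hNb - hs)
        let x : GL (Fin 4) F := Matrix.GeneralLinearGroup.mkOfDetNeZero (Ub hF (1 + s) b) (by rw [hd]; exact one_ne_zero)
        have hxm : (x : Matrix (Fin 4) (Fin 4) F) = Ub hF (1 + s) b := rfl
        have hx3 : x ^ 3 = 1 := Units.ext (by
          rw [Units.val_pow_eq_pow_val, hxm, Units.val_one]
          rw [neg_one_smul, sub_neg_eq_add, sub_mul, one_mul, mul_add, mul_add, mul_one, ← mul_assoc] at hcub
          rw [pow_succ, pow_two]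
          linear_combination (norm := noncomm_ring) hcub)
        obtain ⟨g, hy, hyr, hyn, -⟩ := Cfsg.Agent.S6000.transport hall (hG.2 ⟨hU, hd⟩) hx3 fun z => hns hb0 z
        refine hyn _ (h.transvection_four hzs (r := 3) (by norm_num) hyr (hNR hy)
          ((b • LinearMap.proj (R := F) (φ := fun _ : Fin 4 => F) 0 - s • LinearMap.proj (R := F) (φ := fun _ : Fin 4 => F) 1).comp
            (Matrix.mulVecLin (g : Matrix (Fin 4) (Fin 4) F))) fun v hv => ?_).choose_spec
        simp only [LinearMap.comp_apply, LinearMap.sub_apply, LinearMap.smul_apply, LinearMap.proj_apply, Matrix.mulVecLin_apply, smul_eq_mul] at hv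
        obtain ⟨u, hu⟩ : ∃ u, u = (g : Matrix (Fin 4) (Fin 4) F) *ᵥ v := ⟨_, rfl⟩
        rw [← hu] at hv
        have hrow : s * u 0 - frob hF b * u 1 = 0 := by
          have h1 : b * (s * u 0 - frob hF b * u 1) = 0 := by linear_combination s * hv - (u 1) * hNb + (u 1) * hs
          exact (mul_eq_zero.1 h1).resolve_left hb0
        have hfix : Ub hF (1 + s) b *ᵥ u = u := by
          funext i
          fin_cases i <;> simp [Ub, Matrix.mulVec, dotProduct, Fin.sum_univ_four, hfs] <;>
            first | linear_combination hrow | linear_combination hv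
        rw [Units.val_mul, Units.val_mul, ← Matrix.mulVec_mulVec, ← Matrix.mulVec_mulVec, ← hu, hxm, hfix, hu,
          Matrix.mulVec_mulVec, Units.inv_mul, Matrix.one_mulVec]
      · have h3 : (3 : F) ≠ 0 := by exact_mod_cast hcast 3 Nat.prime_three (Ne.symm hp3)
        have hp23 : p % 3 = 2 := by
          have h1 := hr3 rfl
          have h0 : p % 3 ≠ 0 := fun h0 => hp3 ((Nat.prime_dvd_prime_iff_eq Nat.prime_three hp).1 (Nat.dvd_of_mod_eq_zero h0)).symm
          omega
        obtain ⟨w, hw, hwn⟩ := Cfsg.Agent.S5953.exists_norm_one_order hF (d := 3) (by omega)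
        have hw3 : (w : F) ^ 3 = 1 := by rw [← Units.val_pow_eq_pow_val, ← hw, pow_orderOf_eq_one, Units.val_one]
        have hw1 : (w : F) ≠ 1 := fun e'' => by rw [Units.val_eq_one.1 e'', orderOf_one] at hw; omega
        have hw0 : (w : F) ^ 2 + w + 1 = 0 :=
          (mul_eq_zero.1 (show ((w : F) - 1) * ((w : F) ^ 2 + w + 1) = 0 by linear_combination hw3)).resolve_left (sub_ne_zero.2 hw1)
        have hfw : frob hF (w : F) = (w : F) ^ 2 := by
          rw [frob_apply, show p = 3 * (p / 3) + 2 by omega, pow_add, pow_mul, hw3, one_pow, one_mul]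
        let x : GL (Fin 4) F := Matrix.GeneralLinearGroup.mkOfDetNeZero (Matrix.diagonal ![(w : F), w, w, 1]) (by
          simp [Matrix.det_diagonal, Fin.prod_univ_four])
        have hxm : (x : Matrix (Fin 4) (Fin 4) F) = Matrix.diagonal ![(w : F), w, w, 1] := rfl
        have hxU : IsU hF (x : Matrix (Fin 4) (Fin 4) F) := by
          rw [hxm]; exact Cfsg.Agent.S5953.isU_diagonal hF fun l => by fin_cases l <;> simp [hwn]
        have hx3 : x ^ 3 = 1 := Units.ext (by
          rw [Units.val_pow_eq_pow_val, hxm, Matrix.diagonal_pow, Units.val_one, ← Matrix.diagonal_one]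
          congr 1; funext i; fin_cases i <;> simp [hw3])
        obtain ⟨g, hy, hyr, hyn, htr⟩ := Cfsg.Agent.S6000.transport hall (hG.2 ⟨hxU, by
          rw [hxm, Matrix.det_diagonal, Fin.prod_univ_four]; simp; linear_combination hw3⟩) hx3 (fun z hz => by
            rw [hxm] at hz
            have h0 := congrFun (congrFun hz 0) 0
            have h1 := congrFun (congrFun hz 3) 3
            simp at h0 h1
            exact hw1 (h0.trans h1.symm))
        obtain ⟨k, hk, hk16, hkm⟩ := h.exists_k (by norm_num) hyr (hNR hy)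
        have hT := h.trace_mul_trace (by norm_num) hyr (hNR hy) hk
        rw [htr, hiA hxU, hxm] at hT
        simp [Matrix.trace, adj, Fin.sum_univ_four, hfw] at hT
        have hk' : k = 1 ∨ k = 4 ∨ k = 16 := by
          have hle := Nat.le_of_dvd (by norm_num) hk16
          unfold Nat.ModEq at hkm
          interval_cases k <;> omega
        rcases hk' with rfl | rfl | rfl
        · push_cast at hT
          exact mul_ne_zero h2 h3 (by linear_combination hT - 9 * hw3 - 3 * hw0)
        · push_cast at hT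
          exact h3 (by linear_combination hT - 9 * hw3 - 3 * hw0)
        · exact hyn _ (h.scalar_of_all hk).choose_spec
    · obtain ⟨t, ht, htp⟩ := exists_golden' (F := F) hp2 (hr5 rfl)
      have h5 : (5 : F) ≠ 0 := by exact_mod_cast hcast 5 Nat.prime_five (by omega)
      have hf2 : frob hF (2 : F) = 2 := map_ofNat _ 2
      have hμ : (1 : F) - t ^ 2 / 4 ≠ 0 := fun e'' => by
        have h4 : (4 : F) ≠ 0 := by rw [show (4 : F) = 2 * 2 by norm_num]; exact mul_ne_zero h2 h2
        field_simp at e''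
        have h6 : t + 3 = 0 := by linear_combination ht + e''
        exact h5 (by linear_combination ht + (2 - t) * h6)
      obtain ⟨bu, hbu⟩ := exists_norm_eq hF hμ (by
        rw [← frob_apply hF, map_sub, map_one, map_div₀, map_pow, map_ofNat, frob_apply hF t, htp])
      obtain ⟨b, hb⟩ : ∃ b, b = (bu : F) := ⟨_, rfl⟩
      have hNb : frob hF b * b = 1 - t ^ 2 / 4 := by rw [frob_apply, hb, ← pow_succ, hbu]
      have hb0 : b ≠ 0 := fun e'' => by rw [e'', mul_zero] at hNb; exact hμ hNb.symm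
      have hfh : frob hF (t / 2) = t / 2 := by rw [map_div₀, frob_apply hF t, htp, hf2]
      obtain ⟨hU, hd, hcub, htr1, htr2, hns⟩ := Ub_props hF (a := t / 2) (b := b) (t := t)
        (by rw [hfh]; field_simp; ring) (by rw [hfh, hNb, show (4 : F) = 2 * 2 by norm_num]; field_simp; ring)
      let x : GL (Fin 4) F := Matrix.GeneralLinearGroup.mkOfDetNeZero (Ub hF (t / 2) b) (by rw [hd]; exact one_ne_zero)
      have hxm : (x : Matrix (Fin 4) (Fin 4) F) = Ub hF (t / 2) b := rfl
      have hx5 : x ^ 5 = 1 := Units.ext (by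
        rw [Units.val_pow_eq_pow_val, hxm, Units.val_one]; exact Cfsg.Agent.S6000.pow_five_of_cubic hcub ht)
      obtain ⟨g, hy, hyr, hyn, htr⟩ := Cfsg.Agent.S6000.transport hall (hG.2 ⟨hU, hd⟩) hx5 fun z => hns hb0 z
      obtain ⟨k, hk, hk16, hkm⟩ := h.exists_k (by norm_num) hyr (hNR hy)
      have hT := h.trace_mul_trace (by norm_num) hyr (hNR hy) hk
      rw [htr, hiA (x := x) hU, hxm, htr1, htr2] at hT
      have hk' : k = 1 ∨ k = 16 := by
        have hle := Nat.le_of_dvd (by norm_num) hk16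
        unfold Nat.ModEq at hkm
        interval_cases k <;> omega
      rcases hk' with rfl | rfl
      · push_cast at hT
        have h4 : 3 * t + 4 = 0 := by linear_combination hT - ht
        exact h5 (by linear_combination (3 * t - 1) * h4 - 9 * ht)
      · exact hyn _ (h.scalar_of_all hk).choose_spec
  · rintro hcase x hx hxz hxn
    obtain ⟨z, hz⟩ := hxz
    obtain ⟨hxU, hxd⟩ := hG.1 hx
    have hz4x : z ^ 4 = 1 := hz4' (pow_mem hx r) hz
    have hz0 : z ≠ 0 := fun e'' => by rw [e''] at hz4x; simp at hz4x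
    have hzn : z ^ (p + 1) = 1 := Cfsg.Agent.S5953.norm_of_scalar hF (n := 4) (by norm_num) (hz ▸ (hG.1 (pow_mem hx r)).1)
    have hesa : ∀ k, adj hF (em e k) = em e k := fun k => by
      have h1 : adj hF (em e k) * em e k = 1 := (mem_GU_iff hF _).1 (hRU (E.mem k))
      calc adj hF (em e k) = adj hF (em e k) * (em e k * em e k) := by rw [E.em_sq, mul_one]
        _ = em e k := by rw [← mul_assoc, h1, one_mul]
    have hua : ∀ k l : Fin 5, adj hF (um e k l) = um e k l := fun k l => by rw [um, adj_sub, hesa, hesa]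
    have hup : ∀ {k l : Fin 5}, k ≠ l → ∀ P : Matrix (Fin 4) (Fin 4) F,
        adj hF (um e k l * P) * (um e k l * P) = (2 : F) • (adj hF P * P) := fun {k l} hkl P => by
      rw [adj_mul, hua, mul_assoc, ← mul_assoc (um e k l) (um e k l) P, E.um_sq hkl, smul_mul_assoc, one_mul, mul_smul_comm]
    have hu1 : ∀ {k l : Fin 5}, k ≠ l → adj hF (um e k l) * um e k l = (2 : F) • 1 := fun hkl => by
      rw [hua, E.um_sq hkl]
    have hf2 : frob hF (2 : F) = 2 := map_ofNat _ 2
    rcases hcase with rfl | ⟨rfl, hp13⟩ | ⟨rfl, hord⟩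
    · rw [pow_two, Units.val_mul] at hz
      have key : ∀ M : Matrix (Fin 4) (Fin 4) F, M * M = z • 1 → M ^ 8 = 1 := fun M hM => by
        rw [show 8 = 2 * 4 from rfl, pow_mul, pow_two M, hM, _root_.smul_pow, one_pow, hz4x, one_smul]
      obtain ⟨y, l, hyN, hyU, hyz, hyn, hyt, hl, hln⟩ : ∃ (y : GL (Fin 4) F) (l : F), y ∈ N ∧ IsU hF (y : Matrix (Fin 4) (Fin 4) F) ∧
          (y : Matrix (Fin 4) (Fin 4) F) * y = z • 1 ∧ (∀ c : F, (y : Matrix (Fin 4) (Fin 4) F) ≠ c • 1) ∧
          (y : Matrix (Fin 4) (Fin 4) F).trace = (x : Matrix (Fin 4) (Fin 4) F).trace ∧ l * l = z ∧ l ^ (p + 1) = 1 := by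
        rcases two_cases hι h2 hz0 hz hxn hxd with ⟨ht, hz2⟩ | ⟨ht, -, -⟩
        · have hy : ∃ y l, y ∈ R ∧ (y : Matrix (Fin 4) (Fin 4) F) * y = z • 1 ∧ (y : Matrix (Fin 4) (Fin 4) F).trace = 0 ∧
              l * l = z ∧ l ^ (p + 1) = 1 := by
            rcases sq_eq_one_iff.1 hz2 with rfl | rfl
            · exact ⟨e 0, 1, E.mem 0, by rw [one_smul]; exact E.em_sq 0, E.trace_em h 0, one_mul 1, one_pow _⟩
            · exact ⟨e 0 * e 1, s, mul_mem (E.mem 0) (E.mem 1), E.pair_sq (by decide), E.trace_pair h (by decide),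
                by rw [← pow_two]; exact hs, hsn⟩
          obtain ⟨y, l, hyR, hyz, hyt, hl, hln⟩ := hy
          refine ⟨y, l, Subgroup.le_normalizer hyR, (mem_GU_iff hF _).1 (hRU hyR), hyz, fun c hc => ?_, by rw [hyt, ht], hl, hln⟩
          rw [hc, Matrix.trace_smul, Matrix.trace_one, hι, smul_eq_mul] at hyt
          rcases mul_eq_zero.1 hyt with rfl | h4
          · rw [hc] at hyz
            have := congrFun (congrFun hyz 0) 0
            simp at this
            exact hz0 this.symm
          · exact h2 (mul_self_eq_zero.1 (by push_cast at h4; linear_combination h4))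
        · obtain ⟨l, hl⟩ : ∃ l, l = (x : Matrix (Fin 4) (Fin 4) F).trace / 2 := ⟨_, rfl⟩
          have hl2 : l * l = z := by rw [hl, div_mul_div_comm, ← pow_two, ht]; field_simp; ring
          have hl0 : l ≠ 0 := fun e'' => hz0 (by rw [← hl2, e'', mul_zero])
          have hln : l ^ (p + 1) = 1 := by
            have h1 : adj hF (x : Matrix (Fin 4) (Fin 4) F) = z⁻¹ • (x : Matrix (Fin 4) (Fin 4) F) := by
              calc adj hF (x : Matrix (Fin 4) (Fin 4) F) = adj hF (x : Matrix (Fin 4) (Fin 4) F) * (z⁻¹ • ((x : Matrix (Fin 4) (Fin 4) F) * x)) := by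
                    rw [hz, smul_smul, inv_mul_cancel₀ hz0, one_smul, mul_one]
                _ = _ := by rw [mul_smul_comm, ← mul_assoc, hxU, one_mul]
            have h3 := congrArg Matrix.trace h1
            rw [Matrix.trace_smul, smul_eq_mul, adj, Matrix.trace_transpose, trace_map] at h3
            have h4 : frob hF l = z⁻¹ * l := by rw [hl, map_div₀, h3, hf2, mul_div_assoc]
            rw [pow_succ, ← frob_apply hF, h4, mul_assoc, hl2, inv_mul_cancel₀ hz0]
          have hsq : (l • cm e s) * (l • cm e s) = z • 1 := by rw [smul_mul_smul_comm, E.cm_sq h2 hs, hl2]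
          let y : GL (Fin 4) F := Matrix.GeneralLinearGroup.mkOfDetNeZero (l • cm e s) (fun hd => by
            have h1 := congrArg Matrix.det hsq
            rw [Matrix.det_mul, hd, mul_zero, Matrix.det_smul, Matrix.det_one, mul_one] at h1
            exact pow_ne_zero _ hz0 h1.symm)
          have hcma : adj hF (cm e s) = cm e s := by
            rw [cm, adj_smul, map_inv₀, hf2, adj_sub, adj_add, adj_add, adj_one, hesa, adj_smul, adj_smul, hfs, adj_mul, adj_mul,
              adj_mul, hesa, hesa, hesa, E.em_anti (by decide : (2 : Fin 5) ≠ 1),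
              show -(em e 1 * em e 2) * em e 0 = -(em e 0 * (em e 1 * em e 2)) by
                rw [neg_mul, neg_inj]; exact (E.em_flip (by decide) (by decide)).eq.symm,
              neg_smul, neg_smul, smul_neg, smul_neg, neg_neg, neg_neg]
          refine ⟨y, l, E.cm_mem h hs hS.1 hSs (c := l) rfl, ?_, hsq, fun c hc => ?_, ?_, hl2, hln⟩
          · exact IsU.smul hF (by show adj hF (cm e s) * cm e s = 1; rw [hcma]; exact E.cm_sq h2 hs) hln
          · refine Cfsg.Agent.S6000.cm_ne h E hs (c / l) ?_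
            have h1 : l • cm e s = c • (1 : Matrix (Fin 4) (Fin 4) F) := hc
            rw [div_eq_inv_mul, ← smul_smul, ← h1, smul_smul, inv_mul_cancel₀ hl0, one_smul]
          · show (l • cm e s).trace = _
            rw [Matrix.trace_smul, E.trace_cm h, smul_eq_mul, hl, div_mul_cancel₀ _ h2]
      have h8 : ((8 : ℕ) : F) ≠ 0 := by
        rw [show ((8 : ℕ) : F) = 2 * 2 * 2 by norm_num]; exact mul_ne_zero (mul_ne_zero h2 h2) h2
      have hl8 : l ^ 8 = 1 := by rw [show 8 = 2 * 4 from rfl, pow_mul, pow_two, hl, hz4x]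
      obtain ⟨g, hg, hgx⟩ := conj_aniso hF h8 hxU hyU (key _ hz) (key _ hyz) hln hl8
        (root_of_sq (by rw [hl]; exact hz) hxn) (charpoly_two hι h2 hz0 hz hyz hxn hyn hyt.symm)
      exact ⟨g, hg, hgx ▸ hyN⟩
    · have hp3 : p ≠ 3 := by omega
      have h3 : (3 : F) ≠ 0 := by exact_mod_cast hcast 3 Nat.prime_three hp3.symm
      obtain ⟨w, hw⟩ := exists_prime_orderOf_dvd_card' (G := Fˣ) 3 (by
        rw [card_units_sq hF]; exact dvd_mul_of_dvd_right (by omega) _)
      have hw3 : (w : F) ^ 3 = 1 := by rw [← Units.val_pow_eq_pow_val, ← hw, pow_orderOf_eq_one, Units.val_one]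
      let L := AlgebraicClosure F
      have hwp : IsPrimitiveRoot (w : F) 3 := by
        have h1 : IsPrimitiveRoot w 3 := by rw [← hw]; exact IsPrimitiveRoot.orderOf w
        exact IsPrimitiveRoot.coe_units_iff.2 h1
      have hζ : IsPrimitiveRoot (algebraMap F L (w : F)) 3 := hwp.map_of_injective (algebraMap F L).injective
      have h3L : ((3 : ℕ) : L) ≠ 0 := by
        rw [← map_natCast (algebraMap F L), ne_eq, map_eq_zero]; exact_mod_cast h3
      have hwn : (w : F) ^ (p + 1) ≠ 1 := fun e'' => by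
        rw [show p + 1 = 3 * ((p + 1) / 3) + 2 by omega, pow_add, pow_mul, hw3, one_pow, one_mul] at e''
        exact hwp.pow_ne_one_of_pos_of_lt (by norm_num) (by norm_num) e''
      have hinv : ∀ {A : Matrix (Fin 4) (Fin 4) F}, IsU hF A → A ^ 3 = 1 → ∀ f : ZMod 3 → ℕ,
          A.charpoly.map (algebraMap F L) = Pm (algebraMap F L (w : F)) f → ∀ u, f (-u) = f u := by
        intro A hAU hA3 f hf u
        have hu : ((1 : (ZMod 3)ˣ) : ZMod 3) = (p : ZMod 3) := by
          rw [← ZMod.natCast_mod p 3, hp13]; rfl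
        have := (inv_of_unitary hF hζ h3L hu A hAU hA3 hf).2 u
        rwa [Units.val_neg, Units.val_one, neg_one_mul] at this
      have hdet1 : ∀ {M : Matrix (Fin 4) (Fin 4) F}, IsU hF M → M ^ 3 = 1 → M.det = 1 := fun {M} hMU hM => by
        have hd3 : M.det ^ 3 = 1 := by rw [← Matrix.det_pow, hM, Matrix.det_one]
        have := pow_gcd_eq_one.2 ⟨hd3, det_isU hF hMU⟩
        rwa [(Nat.Prime.coprime_iff_not_dvd Nat.prime_three).2 (by omega : ¬ 3 ∣ p + 1), pow_one] at this
      have hx12 : x ^ 12 = 1 := Units.ext (by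
        rw [show 12 = 3 * 4 from rfl, pow_mul, Units.val_pow_eq_pow_val, hz, _root_.smul_pow, one_pow, hz4x, one_smul, Units.val_one])
      have hx4n : ∀ c : F, ((x ^ 4 : GL (Fin 4) F) : Matrix (Fin 4) (Fin 4) F) ≠ c • 1 := fun c hc => by
        rw [pow_succ', Units.val_mul, hz, mul_smul_comm, mul_one] at hc
        refine hxn (c / z) ?_
        rw [div_eq_inv_mul, ← smul_smul, ← hc, smul_smul, inv_mul_cancel₀ hz0, one_smul]
      have hX3 : ((x ^ 4 : GL (Fin 4) F) : Matrix (Fin 4) (Fin 4) F) ^ 3 = 1 := by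
        rw [← Units.val_pow_eq_pow_val, ← pow_mul, hx12]; rfl
      have hXU : IsU hF ((x ^ 4 : GL (Fin 4) F) : Matrix (Fin 4) (Fin 4) F) := (hG.1 (pow_mem hx 4)).1
      obtain ⟨t, ht, htX, htc⟩ := three_props (L := L) h3 hζ _ hι hX3 (fun e'' => hx4n 1 (by rw [e'', one_smul])) (hinv hXU hX3)
      have hrt : ((x ^ 4 : GL (Fin 4) F) : Matrix (Fin 4) (Fin 4) F).charpoly.IsRoot (w : F) := by
        rw [← Polynomial.isRoot_map_iff (algebraMap F L).injective, htc, ← Polynomial.rootMultiplicity_pos (Pm_monic _ _).ne_zero]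
        have h1 := count_roots_Pm hζ (fun u : ZMod 3 => if u = 0 then 4 - 2 * t else t) (1 : ZMod 3)
        rw [show zp (algebraMap F L (w : F)) (1 : ZMod 3) = algebraMap F L (w : F) from pow_one _,
          if_neg (show (1 : ZMod 3) ≠ 0 from one_ne_zero)] at h1
        rw [h1]
        omega
      obtain ⟨y, hyN, hyU, hy3, hyt⟩ : ∃ y : GL (Fin 4) F, y ∈ N ∧ IsU hF (y : Matrix (Fin 4) (Fin 4) F) ∧ (y : Matrix (Fin 4) (Fin 4) F) ^ 3 = 1 ∧
          (y : Matrix (Fin 4) (Fin 4) F).trace = ((x ^ 4 : GL (Fin 4) F) : Matrix (Fin 4) (Fin 4) F).trace := by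
        have h44 : (4 : F) ≠ 0 := by rw [show (4 : F) = 2 * 2 by norm_num]; exact mul_ne_zero h2 h2
        have hf4 : frob hF (4 : F) = 4 := map_ofNat _ 4
        have hu3 : ∀ {M : Matrix (Fin 4) (Fin 4) F}, IsU hF M → M ^ 3 = 1 → M.det ≠ 0 := fun hMU hM => by
          rw [hdet1 hMU hM]; exact one_ne_zero
        have hh : adj hF (um e 0 1 * um e 1 2) * (um e 0 1 * um e 1 2) = (4 : F) • 1 := by
          rw [hup (by decide), hu1 (by decide), smul_smul, show (2 : F) * 2 = 4 by norm_num]
        rcases ht with rfl | rfl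
        · have hkk : adj hF (km e s) * km e s = (4 : F) • 1 := by
            have h14 : (1 + (-s) • em e 4) * (1 + s • em e 4) = (2 : F) • 1 := by
              rw [add_mul, one_mul, mul_add, mul_one, smul_mul_smul_comm, E.em_sq, show -s * s = (1 : F) by linear_combination -hs,
                neg_smul, one_smul, two_smul]
              abel
            rw [km, adj_mul, adj_add, adj_one, adj_smul, hfs, hesa, hua, mul_assoc, ← mul_assoc (1 + (-s) • em e 4), h14,
              smul_mul_assoc, one_mul, mul_smul_comm, E.um_sq (by decide), smul_smul, show (2 : F) * 2 = 4 by norm_num]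
          have hprod : adj hF (um e 0 1 * um e 1 2 * km e s) * (um e 0 1 * um e 1 2 * km e s) = (16 : F) • 1 := by
            rw [adj_mul, mul_assoc, ← mul_assoc (adj hF (um e 0 1 * um e 1 2)) (um e 0 1 * um e 1 2), hh, smul_mul_assoc, one_mul,
              mul_smul_comm, hkk, smul_smul, show (4 : F) * 4 = 16 by norm_num]
          have hkU : IsU hF ((-s / 4) • (um e 0 1 * um e 1 2 * km e s)) := by
            show adj hF _ * _ = 1
            rw [adj_smul, smul_mul_smul_comm, hprod, smul_smul, map_div₀, map_neg, hfs, hf4, neg_neg,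
              show s / 4 * (-s / 4) * 16 = (1 : F) by field_simp; linear_combination -16 * hs, one_smul]
          have hk3 : ((-s / 4) • (um e 0 1 * um e 1 2 * km e s)) ^ 3 = 1 := by
            rw [_root_.smul_pow, (E.three_comm_km s).mul_pow, E.three_cube, E.km_cube hs, smul_mul_smul_comm, one_mul, smul_smul]
            rw [show (-s / 4) ^ 3 * (8 * -(8 * s)) = 1 by field_simp; linear_combination (64 * (s ^ 2 - 1)) * hs, one_smul]
          have hd := hu3 hkU hk3
          have hd' : (um e 0 1 * um e 1 2).det ≠ 0 ∧ (km e s).det ≠ 0 := by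
            rw [Matrix.det_smul, Matrix.det_mul] at hd
            exact ⟨left_ne_zero_of_mul (right_ne_zero_of_mul hd), right_ne_zero_of_mul (right_ne_zero_of_mul hd)⟩
          let H : GL (Fin 4) F := Matrix.GeneralLinearGroup.mkOfDetNeZero (um e 0 1 * um e 1 2) hd'.1
          let K : GL (Fin 4) F := Matrix.GeneralLinearGroup.mkOfDetNeZero (km e s) hd'.2
          have hc0 : (-s / 4) ≠ 0 := fun e'' => by rw [Matrix.det_smul, e''] at hd; simp at hd
          let C : GL (Fin 4) F := Matrix.GeneralLinearGroup.mkOfDetNeZero ((-s / 4) • (1 : Matrix (Fin 4) (Fin 4) F))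
            (by rw [Matrix.det_smul, Matrix.det_one, mul_one]; exact pow_ne_zero _ hc0)
          have hy : ((C * (H * K) : GL (Fin 4) F) : Matrix (Fin 4) (Fin 4) F) = (-s / 4) • (um e 0 1 * um e 1 2 * km e s) := by
            rw [Units.val_mul, Units.val_mul]
            show ((-s / 4) • (1 : Matrix (Fin 4) (Fin 4) F)) * (um e 0 1 * um e 1 2 * km e s) = _
            rw [smul_mul_assoc, one_mul]
          refine ⟨C * (H * K), mul_mem (hscN (c := -s / 4) rfl) (mul_mem (E.three_mem h (c := 1) one_ne_zero (one_smul F _).symm)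
            (E.km_mem h hs hS.1 hSs (c := 1) (one_smul F _).symm)), by rw [hy]; exact hkU, by rw [hy]; exact hk3, ?_⟩
          rw [hy, htX, Matrix.trace_smul, E.trace_three_km h, smul_eq_mul]
          push_cast; field_simp; linear_combination -hs
        · have hk3 : ((2 : F)⁻¹ • (um e 0 1 * um e 1 2)) ^ 3 = 1 := by
            rw [_root_.smul_pow, E.three_cube, smul_smul, show (2 : F)⁻¹ ^ 3 * 8 = 1 by field_simp; ring, one_smul]
          have hkU : IsU hF ((2 : F)⁻¹ • (um e 0 1 * um e 1 2)) := by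
            show adj hF _ * _ = 1
            rw [adj_smul, smul_mul_smul_comm, hh, smul_smul, map_inv₀, hf2,
              show (2 : F)⁻¹ * 2⁻¹ * 4 = 1 by field_simp; ring, one_smul]
          refine ⟨Matrix.GeneralLinearGroup.mkOfDetNeZero _ (hu3 hkU hk3), E.three_mem h (inv_ne_zero h2) rfl, hkU, hk3, ?_⟩
          show ((2 : F)⁻¹ • (um e 0 1 * um e 1 2)).trace = _
          rw [htX, Matrix.trace_smul, E.trace_three h, smul_eq_mul]
          push_cast; field_simp; ring
      have hy1 : (y : Matrix (Fin 4) (Fin 4) F) ≠ 1 := fun e'' => by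
        rw [e'', htX, Matrix.trace_one, hι] at hyt
        push_cast at hyt
        rcases ht with rfl | rfl <;> push_cast at hyt
        · exact h3 (by linear_combination hyt)
        · exact mul_ne_zero h2 h3 (by linear_combination hyt)
      obtain ⟨g, hg, hgx⟩ := conj_pair hF (k := 3) (by exact_mod_cast h3) hXU hyU hX3 hy3 hwn hw3 hrt
        (three_charpoly (L := L) h3 hζ hι hX3 (fun e'' => hx4n 1 (by rw [e'', one_smul])) hy3 hy1 (hinv hXU hX3) (hinv hyU hy3) hyt.symm)
      refine ⟨g, hg, ?_⟩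
      have e'' : g⁻¹ * x * g = g⁻¹ * x ^ 4 * g * (x ^ 3)⁻¹ := by
        have hc1 : (x ^ 3)⁻¹ * g = g * (x ^ 3)⁻¹ := ((comm_of_scalar hz g).inv_left).eq
        rw [mul_assoc (g⁻¹ * x ^ 4), ← hc1, pow_succ' x 3, mul_assoc g⁻¹ (x * x ^ 3), mul_assoc x, mul_inv_cancel_left, mul_assoc]
      rw [e'', hgx]
      exact mul_mem hyN (inv_mem (hscN hz))
    · have hp23 := (Cfsg.Agent.S6002.ord4_iff _).1 hord
      have hp5 : (p : ZMod 5) ≠ 0 := by rcases hp23 with e'' | e'' <;> rw [e''] <;> first | exact (show (2 : Fin 5) ≠ 0 by decide) | exact (show (3 : Fin 5) ≠ 0 by decide)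
      have h5 : (5 : F) ≠ 0 := by exact_mod_cast hcast 5 Nat.prime_five (by omega)
      let L := AlgebraicClosure F
      have h5L : ((5 : ℕ) : L) ≠ 0 := by
        rw [← map_natCast (algebraMap F L), ne_eq, map_eq_zero]; exact_mod_cast h5
      haveI : NeZero ((5 : ℕ) : L) := ⟨h5L⟩
      obtain ⟨ζ, hζ⟩ := HasEnoughRootsOfUnity.exists_primitiveRoot L 5
      have hg23 : -(p : ZMod 5) = 2 ∨ -(p : ZMod 5) = 3 := by
        rcases hp23 with e'' | e'' <;> rw [e'']
        · exact Or.inr rfl
        · exact Or.inl rfl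
      have H : ∀ y ∈ G₀, y ^ 5 = 1 → y ≠ 1 → (y : Matrix (Fin 4) (Fin 4) F).trace = -1 ∧
          ∀ v : Fin 4 → F, (y : Matrix (Fin 4) (Fin 4) F) *ᵥ v = v → v = 0 := by
        intro y hy hy5 hy1
        have hyM : (y : Matrix (Fin 4) (Fin 4) F) ^ 5 = 1 := by rw [← Units.val_pow_eq_pow_val, hy5]; rfl
        refine five_props (L := L) h5 hζ _ hι hyM (fun e'' => hy1 (Units.ext e''))
          (g := -(p : ZMod 5)) hg23 fun f hf u => ?_
        have := (inv_of_unitary hF hζ h5L (qu := Units.mk0 (p : ZMod 5) hp5) (Units.val_mk0 hp5) _ (hG.1 hy).1 hyM hf).2 u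
        rwa [Units.val_neg, Units.val_mk0] at this
      have hx20 : (x ^ 4) ^ 5 = 1 := Units.ext (by
        rw [← pow_mul, show 4 * 5 = 5 * 4 from rfl, pow_mul, Units.val_pow_eq_pow_val, hz, _root_.smul_pow, one_pow, hz4x, one_smul, Units.val_one])
      have hx41 : x ^ 4 ≠ 1 := fun e'' => by
        rw [pow_succ, e'', one_mul] at hz
        exact hxn z hz
      have hf4 : frob hF (4 : F) = 4 := map_ofNat _ 4
      let M := (4 : F)⁻¹ • (um e 0 1 * um e 1 2 * (um e 2 3 * um e 3 4))
      have hMU : IsU hF M := by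
        show adj hF M * M = 1
        simp only [M]
        rw [adj_smul, smul_mul_smul_comm, mul_assoc (um e 0 1), hup (by decide), hup (by decide), hup (by decide), hu1 (by decide),
          smul_smul, smul_smul, smul_smul, smul_smul, map_inv₀, hf4]
        have h44 : (4 : F) ≠ 0 := by rw [show (4 : F) = 2 * 2 by norm_num]; exact mul_ne_zero h2 h2
        rw [show (4 : F)⁻¹ * 4⁻¹ * 2 * 2 * 2 * 2 = 1 by field_simp; ring, one_smul]
      have hdn : M.det ^ (p + 1) = 1 := det_isU hF hMU
      have hMd : M.det ≠ 0 := fun e'' => by rw [e'', zero_pow (Nat.add_one_ne_zero p)] at hdn; exact zero_ne_one hdn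
      let G : GL (Fin 4) F := Matrix.GeneralLinearGroup.mkOfDetNeZero M hMd
      have hGN : G ∈ N := E.five_mem h (c := (4 : F)⁻¹) rfl
      have hGn : ∀ c : F, (G : Matrix (Fin 4) (Fin 4) F) ≠ c • 1 := E.five_nonscalar h (c := (4 : F)⁻¹) rfl
      obtain ⟨d₀, hd₀⟩ := E.pow_five_scalar h
      obtain ⟨d, hd⟩ : ∃ d, M ^ 5 = d • 1 := ⟨(4 : F)⁻¹ ^ 5 * d₀, by simp only [M]; rw [_root_.smul_pow, hd₀, smul_smul]⟩
      have hd5 : M.det ^ 5 = d ^ 4 := by rw [← Matrix.det_pow, hd, Matrix.det_smul, Matrix.det_one, mul_one, hι]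
      let C : GL (Fin 4) F := Matrix.GeneralLinearGroup.mkOfDetNeZero ((M.det)⁻¹ • (1 : Matrix (Fin 4) (Fin 4) F))
        (by rw [Matrix.det_smul, Matrix.det_one, mul_one]; exact pow_ne_zero _ (inv_ne_zero hMd))
      have hY : ((C * G ^ 4 : GL (Fin 4) F) : Matrix (Fin 4) (Fin 4) F) = (M.det)⁻¹ • M ^ 4 := by
        rw [Units.val_mul, Units.val_pow_eq_pow_val]
        show ((M.det)⁻¹ • (1 : Matrix (Fin 4) (Fin 4) F)) * M ^ 4 = _
        rw [smul_mul_assoc, one_mul]
      have hY5 : (C * G ^ 4) ^ 5 = 1 := Units.ext (by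
        rw [Units.val_pow_eq_pow_val, hY, _root_.smul_pow, ← pow_mul, show 4 * 5 = 5 * 4 from rfl, pow_mul]
        rw [hd, _root_.smul_pow, one_pow, smul_smul, Units.val_one, _root_.inv_pow]
        rw [hd5, inv_mul_cancel₀ (by rw [← hd5]; exact pow_ne_zero _ hMd), one_smul])
      have hY1 : C * G ^ 4 ≠ 1 := fun e'' => by
        have h1 : M ^ 4 = M.det • 1 := by
          have h2' : (M.det)⁻¹ • M ^ 4 = 1 := by rw [← hY, e'']; rfl
          rw [← h2', smul_smul, mul_inv_cancel₀ hMd, one_smul]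
        have h3' : M ^ 4 * M = d • 1 := by rw [← pow_succ]; exact hd
        rw [h1, smul_mul_assoc, one_mul] at h3'
        refine hGn (d / M.det) ?_
        show M = _
        rw [div_eq_inv_mul, ← smul_smul, ← h3', smul_smul, inv_mul_cancel₀ hMd, one_smul]
      have hYG : C * G ^ 4 ∈ G₀ := hG.2 ⟨by
        rw [hY]; exact (hMU.pow hF 4).smul hF (by rw [_root_.inv_pow, hdn, inv_one]), by
        rw [hY, Matrix.det_smul, Matrix.det_pow, hι, ← mul_pow, inv_mul_cancel₀ hMd, one_pow]⟩
      have hc20 : (20 : F) ≠ 0 := by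
        rw [show (20 : F) = 2 * 2 * 5 by norm_num]; exact mul_ne_zero (mul_ne_zero h2 h2) h5
      obtain ⟨g, hg, j, hgj⟩ := five_conj' hc20 hι G₀ H (pow_mem hx 4) hYG hx20 hY5 hx41 hY1
      refine ⟨g, hg, ?_⟩
      have e'' : g⁻¹ * x * g = x ^ 5 * (g⁻¹ * x ^ 4 * g)⁻¹ := by
        have hc1 : g⁻¹ * x ^ 5 * g = x ^ 5 := by
          rw [mul_assoc, (comm_of_scalar hz g).eq, inv_mul_cancel_left]
        calc g⁻¹ * x * g = g⁻¹ * (x ^ 5 * (x ^ 4)⁻¹) * g := by rw [pow_succ' x 4, mul_inv_cancel_right]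
          _ = g⁻¹ * x ^ 5 * g * (g⁻¹ * x ^ 4 * g)⁻¹ := by simp only [_root_.mul_inv_rev, inv_inv, mul_assoc, mul_inv_cancel_left]
          _ = _ := by rw [hc1]
      rw [e'', hgj]
      exact mul_mem (hscN hz) (inv_mem (pow_mem (mul_mem (hscN (c := (M.det)⁻¹) rfl) (pow_mem hGN 4)) j))

end Cfsg.Agent.S6001
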